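import Mathlib

set_option autoImplicit false

/-! Sylow subgroups of normal subgroups, Frattini argument in elementwise form, and the decomposition
of an element into its `p`-part and `p'`-part.  (The first and last parts follow the versions of
Helper17.SylowNormal and Helper22.PElt; copied here so that this library is self-contained.) -/

namespace Cfsg.Agent.Lib.Helper16

variable {G : Type*} [Group G]

theorem relIndex_mul_card_of_le {H K : Subgroup G} (h : H ≤ K) :
    H.relIndex K * Nat.card H = Nat.card K := by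
  have := Subgroup.relIndex_mul_relIndex (⊥ : Subgroup G) H K bot_le h
  rw [Subgroup.relIndex_bot_left, Subgroup.relIndex_bot_left] at this
  rw [mul_comm]; exact this

/-- Second isomorphism theorem, index form: `[N : T ∩ N] = [TN : T]` for `N` normal. -/
theorem relIndex_eq_relIndex_sup_of_normal' [Finite G] (T N : Subgroup G) [N.Normal] :
    T.relIndex N = T.relIndex (T ⊔ N) := by
  have h1 : N.relIndex (T ⊔ N) * Nat.card N = Nat.card (T ⊔ N : Subgroup G) :=
    relIndex_mul_card_of_le le_sup_right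
  have h2 : N.relIndex (T ⊔ N) = N.relIndex T := Subgroup.relIndex_sup_right T N
  have h3 : (N ⊓ T).relIndex T * Nat.card (N ⊓ T : Subgroup G) = Nat.card T :=
    relIndex_mul_card_of_le inf_le_right
  have h3' : (N ⊓ T).relIndex T = N.relIndex T := Subgroup.inf_relIndex_right N T
  have h4 : (T ⊓ N).relIndex N * Nat.card (T ⊓ N : Subgroup G) = Nat.card N :=
    relIndex_mul_card_of_le inf_le_right
  have h4' : (T ⊓ N).relIndex N = T.relIndex N := Subgroup.inf_relIndex_right T N
  have h5 : T.relIndex (T ⊔ N) * Nat.card T = Nat.card (T ⊔ N : Subgroup G) :=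
    relIndex_mul_card_of_le le_sup_left
  have hc : Nat.card (N ⊓ T : Subgroup G) = Nat.card (T ⊓ N : Subgroup G) := by rw [inf_comm]
  have hTpos : 0 < Nat.card T := Nat.card_pos
  have key : T.relIndex (T ⊔ N) * Nat.card T = T.relIndex N * Nat.card T := by
    rw [h5, ← h1, h2, ← h4, h4', ← h3, h3', hc]
    ring
  exact (Nat.eq_of_mul_eq_mul_right hTpos key).symm

theorem relIndex_dvd_index_of_normal_right' [Finite G] (T N : Subgroup G) [N.Normal] :
    T.relIndex N ∣ T.index := by
  rw [relIndex_eq_relIndex_sup_of_normal']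
  exact Subgroup.relIndex_dvd_index_of_le le_sup_left

variable {p : ℕ} [Fact p.Prime]

/-- For a Sylow `p`-subgroup `T` of `G` and a normal subgroup `N`, `T ∩ N` is a Sylow `p`-subgroup
of `N`. -/
noncomputable def sylowInf [Finite G] (T : Sylow p G) (N : Subgroup G) [N.Normal] :
    Sylow p N :=
  (T.2.comap_subtype (K := N)).toSylow (fun h =>
    T.not_dvd_index (dvd_trans h (relIndex_dvd_index_of_normal_right' (T : Subgroup G) N)))

theorem coe_sylowInf [Finite G] (T : Sylow p G) (N : Subgroup G) [N.Normal] :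
    ((sylowInf T N : Sylow p N) : Subgroup N) = (T : Subgroup G).subgroupOf N :=
  rfl

theorem map_sylowInf [Finite G] (T : Sylow p G) (N : Subgroup G) [N.Normal] :
    ((sylowInf T N : Sylow p N) : Subgroup N).map N.subtype = (T : Subgroup G) ⊓ N := by
  rw [coe_sylowInf, Subgroup.subgroupOf_map_subtype]

/-- Frattini argument for `T ∩ N`. -/
theorem frattini_inf_normal [Finite G] (T : Sylow p G) (N : Subgroup G) [N.Normal] (g : G) :
    ∃ a ∈ Subgroup.normalizer ((((T : Subgroup G) ⊓ N : Subgroup G)) : Set G), ∃ c ∈ N, g = a * c := by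
  have h := Sylow.normalizer_sup_eq_top (sylowInf T N)
  rw [map_sylowInf] at h
  have hg : g ∈ ((Subgroup.normalizer ((((T : Subgroup G) ⊓ N : Subgroup G)) : Set G) ⊔ N : Subgroup G) : Set G) := by
    rw [h]; trivial
  rw [Subgroup.mul_normal] at hg
  obtain ⟨a, ha, c, hc, rfl⟩ := hg
  exact ⟨a, ha, c, hc, rfl⟩

/-- A `p`-subgroup of the normal subgroup `N` containing `T ∩ N` equals `T ∩ N`. -/
theorem eq_sylowInf_of_le [Finite G] (T : Sylow p G) (N : Subgroup G) [N.Normal] (A : Subgroup G)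
    (hA : IsPGroup p A) (hAN : A ≤ N) (hTA : (T : Subgroup G) ⊓ N ≤ A) : A = (T : Subgroup G) ⊓ N := by
  have h1 : IsPGroup p (A.subgroupOf N) := hA.comap_subtype
  have h2 : ((sylowInf T N : Sylow p N) : Subgroup N) ≤ A.subgroupOf N := by
    rw [coe_sylowInf]
    intro x hx
    rw [Subgroup.mem_subgroupOf] at hx ⊢
    exact hTA ⟨hx, x.2⟩
  have h3 := (sylowInf T N).is_maximal' h1 h2
  apply le_antisymm _ hTA
  intro a ha
  have : (⟨a, hAN ha⟩ : N) ∈ A.subgroupOf N := Subgroup.mem_subgroupOf.2 ha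
  rw [h3] at this
  have h4 : (⟨a, hAN ha⟩ : N) ∈ (T : Subgroup G).subgroupOf N := this
  exact ⟨Subgroup.mem_subgroupOf.1 h4, hAN ha⟩

/-- decomposition of an element of a finite group as a product of a `p`-element and a `p'`-element,
both powers of the element. -/
theorem exists_p_decomp' [Finite G] (p : ℕ) [hp : Fact p.Prime] (n : G) :
    ∃ t u : G, t ∈ Subgroup.zpowers n ∧ u ∈ Subgroup.zpowers n ∧ n = t * u ∧
      (∃ k : ℕ, orderOf t = p ^ k) ∧ (orderOf u).Coprime p := by
  have hpos : 0 < orderOf n := orderOf_pos n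
  obtain ⟨k, m, hm, hkm⟩ := Nat.exists_eq_pow_mul_and_not_dvd hpos.ne' p hp.out.ne_one
  have hmpos : 0 < m := by
    rcases Nat.eq_zero_or_pos m with h | h
    · rw [h, mul_zero] at hkm; omega
    · exact h
  have hpm : Nat.Coprime p m := (Nat.Prime.coprime_iff_not_dvd hp.out).mpr hm
  have hcop : Nat.Coprime (p ^ k) m := Nat.Coprime.pow_left k hpm
  have h1 : orderOf (n ^ (p ^ k)) = m := by
    rw [orderOf_pow, hkm, Nat.gcd_eq_right (Dvd.intro _ rfl), Nat.mul_div_cancel_left _ (pow_pos hp.out.pos k)]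
  have h3 : orderOf (n ^ m) = p ^ k := by
    rw [orderOf_pow, hkm, Nat.gcd_eq_right (Dvd.intro_left _ rfl), Nat.mul_div_cancel _ hmpos]
  have hb := Nat.gcd_eq_gcd_ab (p ^ k) m
  rw [hcop.gcd_eq_one] at hb
  refine ⟨(n ^ m) ^ (Nat.gcdB (p ^ k) m), (n ^ (p ^ k)) ^ (Nat.gcdA (p ^ k) m), ?_, ?_, ?_, ?_, ?_⟩
  · exact Subgroup.zpow_mem _ (Subgroup.pow_mem _ (Subgroup.mem_zpowers n) _) _
  · exact Subgroup.zpow_mem _ (Subgroup.pow_mem _ (Subgroup.mem_zpowers n) _) _
  · rw [← zpow_natCast n (p ^ k), ← zpow_natCast n m, ← zpow_mul, ← zpow_mul, ← zpow_add, add_comm, ← hb]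
    simp
  · have : orderOf ((n ^ m) ^ (Nat.gcdB (p ^ k) m)) ∣ p ^ k := by
      rw [← h3]; exact orderOf_dvd_of_pow_eq_one (by
        rw [← zpow_natCast, ← zpow_mul, mul_comm, zpow_mul, zpow_natCast, pow_orderOf_eq_one, one_zpow])
    obtain ⟨j, _, hj⟩ := (Nat.dvd_prime_pow hp.out).mp this
    exact ⟨j, hj⟩
  · have : orderOf ((n ^ (p ^ k)) ^ (Nat.gcdA (p ^ k) m)) ∣ m := by
      rw [← h1]; exact orderOf_dvd_of_pow_eq_one (by
        rw [← zpow_natCast, ← zpow_mul, mul_comm, zpow_mul, zpow_natCast, pow_orderOf_eq_one, one_zpow])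
    exact Nat.Coprime.coprime_dvd_left this hpm.symm

/-- A `p'`-element whose `p^k`-th power lies in a subgroup lies in that subgroup. -/
theorem mem_of_pow_mem_of_coprime {p : ℕ} (H : Subgroup G) (u : G) (hu : (orderOf u).Coprime p) (k : ℕ)
    (h : u ^ (p ^ k) ∈ H) : u ∈ H := by
  have hc : (p ^ k).Coprime (orderOf u) := (Nat.Coprime.pow_left k hu.symm)
  obtain ⟨m, hm⟩ := exists_pow_eq_self_of_coprime hc
  rw [← hm]; exact H.pow_mem h m

end Cfsg.Agent.Lib.Helper16
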