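import Mathlib
import Cfsg.Prelude.Def_Amalgam

set_option autoImplicit false

namespace Cfsg.Agent.Lib.Helper16

open Cfsg
open scoped Pointwise

/-- A normal `p`-subgroup lies in every Sylow `p`-subgroup (finite group). -/
theorem normal_pgroup_le_sylow {G : Type*} [Group G] [Finite G] {p : ℕ} [Fact p.Prime]
    (N : Subgroup G) (hN : N.Normal) (hp : IsPGroup p N) (P : Sylow p G) : N ≤ P := by
  obtain ⟨Q, hQ⟩ := hp.exists_le_sylow
  obtain ⟨g, rfl⟩ := MulAction.exists_smul_eq G Q P
  intro n hn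
  have h1 : ((g • Q : Sylow p G) : Subgroup G) = MulAut.conj g • (Q : Subgroup G) := Sylow.coe_subgroup_smul
  rw [h1, Subgroup.mem_pointwise_smul_iff_inv_smul_mem]
  apply hQ
  have := hN.conj_mem n hn g⁻¹
  simpa [MulAut.smul_def] using this

theorem pCore_le_sylow {G : Type*} [Group G] [Finite G] {p : ℕ} [Fact p.Prime] (P : Sylow p G) :
    pCore p G ≤ P := by
  unfold pCore
  apply sSup_le
  rintro N ⟨hN, hp⟩
  exact normal_pgroup_le_sylow N hN hp P

theorem pCore_isPGroup {G : Type*} [Group G] [Finite G] {p : ℕ} [Fact p.Prime] :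
    IsPGroup p (pCore p G) := by
  have P : Sylow p G := default
  exact P.2.to_le (pCore_le_sylow P)

theorem pCore_normal {G : Type*} [Group G] {p : ℕ} : (pCore p G).Normal := by
  unfold pCore
  constructor
  intro n hn g
  have hmap' : ∀ N ∈ {N : Subgroup G | N.Normal ∧ IsPGroup p N}, N ≤ (sSup {N : Subgroup G | N.Normal ∧ IsPGroup p N}).comap (MulAut.conj g).toMonoidHom := by
    rintro N ⟨hN, hp⟩ x hx
    rw [Subgroup.mem_comap]
    have : (MulAut.conj g).toMonoidHom x ∈ N := by
      simpa using hN.conj_mem x hx g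
    exact le_sSup (s := {N : Subgroup G | N.Normal ∧ IsPGroup p N}) ⟨hN, hp⟩ this
  have h3 := sSup_le hmap' hn
  simpa using h3

/-- normal `p`-subgroups lie in the `p`-core -/
theorem le_pCore {G : Type*} [Group G] {p : ℕ} (N : Subgroup G) (hN : N.Normal) (hp : IsPGroup p N) :
    N ≤ pCore p G := le_sSup (s := {N : Subgroup G | N.Normal ∧ IsPGroup p N}) ⟨hN, hp⟩

end Cfsg.Agent.Lib.Helper16
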