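import Mathlib
import Cfsg.Prelude.Def_Amalgam

set_option autoImplicit false

namespace Cfsg.Agent.Lib.Helper16

open Cfsg

variable {X : Type*} [Group X] (M₁ M₂ : Subgroup X)

theorem adj_iff (a b : CosetVertex M₁ M₂) :
    (cosetGraph M₁ M₂).Adj a b ↔
      ∃ x : X, (a = Sum.inl (x : X ⧸ M₁) ∧ b = Sum.inr (x : X ⧸ M₂)) ∨
        (a = Sum.inr (x : X ⧸ M₂) ∧ b = Sum.inl (x : X ⧸ M₁)) := by
  unfold cosetGraph
  rw [SimpleGraph.fromRel_adj]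
  constructor
  · rintro ⟨_, ⟨x, h1, h2⟩ | ⟨x, h1, h2⟩⟩
    · exact ⟨x, Or.inl ⟨h1, h2⟩⟩
    · exact ⟨x, Or.inr ⟨h2, h1⟩⟩
  · rintro ⟨x, ⟨h1, h2⟩ | ⟨h1, h2⟩⟩
    · exact ⟨by rw [h1, h2]; simp, Or.inl ⟨x, h1, h2⟩⟩
    · exact ⟨by rw [h1, h2]; simp, Or.inr ⟨x, h2, h1⟩⟩

theorem adj_inl_inr (x : X) : (cosetGraph M₁ M₂).Adj (Sum.inl (x : X ⧸ M₁)) (Sum.inr (x : X ⧸ M₂)) :=
  (adj_iff M₁ M₂ _ _).2 ⟨x, Or.inl ⟨rfl, rfl⟩⟩

theorem smul_inl (g x : X) :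
    g • (Sum.inl (x : X ⧸ M₁) : CosetVertex M₁ M₂) = Sum.inl ((g * x : X) : X ⧸ M₁) := rfl

theorem smul_inr (g x : X) :
    g • (Sum.inr (x : X ⧸ M₂) : CosetVertex M₁ M₂) = Sum.inr ((g * x : X) : X ⧸ M₂) := rfl

theorem adj_smul (g : X) {a b : CosetVertex M₁ M₂} (h : (cosetGraph M₁ M₂).Adj a b) :
    (cosetGraph M₁ M₂).Adj (g • a) (g • b) := by
  rw [adj_iff] at h ⊢
  obtain ⟨x, ⟨h1, h2⟩ | ⟨h1, h2⟩⟩ := h
  · exact ⟨g * x, Or.inl ⟨by rw [h1]; rfl, by rw [h2]; rfl⟩⟩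
  · exact ⟨g * x, Or.inr ⟨by rw [h1]; rfl, by rw [h2]; rfl⟩⟩

theorem adj_smul_iff (g : X) {a b : CosetVertex M₁ M₂} :
    (cosetGraph M₁ M₂).Adj (g • a) (g • b) ↔ (cosetGraph M₁ M₂).Adj a b := by
  constructor
  · intro h
    have := adj_smul M₁ M₂ g⁻¹ h
    simpa using this
  · exact adj_smul M₁ M₂ g

theorem mem_stabilizer_inl (g x : X) :
    g ∈ MulAction.stabilizer X (Sum.inl (x : X ⧸ M₁) : CosetVertex M₁ M₂) ↔ x⁻¹ * g * x ∈ M₁ := by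
  rw [MulAction.mem_stabilizer_iff, smul_inl, Sum.inl.injEq, QuotientGroup.eq]
  constructor
  · intro h
    have := M₁.inv_mem h
    simpa [mul_assoc] using this
  · intro h
    have := M₁.inv_mem h
    simpa [mul_assoc] using this

theorem mem_stabilizer_inr (g x : X) :
    g ∈ MulAction.stabilizer X (Sum.inr (x : X ⧸ M₂) : CosetVertex M₁ M₂) ↔ x⁻¹ * g * x ∈ M₂ := by
  rw [MulAction.mem_stabilizer_iff, smul_inr, Sum.inr.injEq, QuotientGroup.eq]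
  constructor
  · intro h
    have := M₂.inv_mem h
    simpa [mul_assoc] using this
  · intro h
    have := M₂.inv_mem h
    simpa [mul_assoc] using this

theorem stabilizer_inl (x : X) :
    MulAction.stabilizer X (Sum.inl (x : X ⧸ M₁) : CosetVertex M₁ M₂) =
      M₁.map (MulAut.conj x).toMonoidHom := by
  ext g
  rw [mem_stabilizer_inl, Subgroup.mem_map]
  constructor
  · intro h
    exact ⟨x⁻¹ * g * x, h, by simp [mul_assoc]⟩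
  · rintro ⟨m, hm, rfl⟩
    simpa [mul_assoc] using hm

theorem stabilizer_inr (x : X) :
    MulAction.stabilizer X (Sum.inr (x : X ⧸ M₂) : CosetVertex M₁ M₂) =
      M₂.map (MulAut.conj x).toMonoidHom := by
  ext g
  rw [mem_stabilizer_inr, Subgroup.mem_map]
  constructor
  · intro h
    exact ⟨x⁻¹ * g * x, h, by simp [mul_assoc]⟩
  · rintro ⟨m, hm, rfl⟩
    simpa [mul_assoc] using hm

/-- neighbours of `x M₁` are the `x m M₂`, `m ∈ M₁`. -/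
theorem adj_inl_iff (x : X) (b : CosetVertex M₁ M₂) :
    (cosetGraph M₁ M₂).Adj (Sum.inl (x : X ⧸ M₁)) b ↔ ∃ m ∈ M₁, b = Sum.inr ((x * m : X) : X ⧸ M₂) := by
  rw [adj_iff]
  constructor
  · rintro ⟨y, ⟨h1, h2⟩ | ⟨h1, h2⟩⟩
    · rw [Sum.inl.injEq, QuotientGroup.eq] at h1
      exact ⟨x⁻¹ * y, h1, by rw [h2]; simp⟩
    · exact absurd h1 (by simp)
  · rintro ⟨m, hm, rfl⟩
    refine ⟨x * m, Or.inl ⟨?_, rfl⟩⟩
    rw [Sum.inl.injEq, QuotientGroup.eq]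
    simpa using hm

theorem adj_inr_iff (x : X) (b : CosetVertex M₁ M₂) :
    (cosetGraph M₁ M₂).Adj (Sum.inr (x : X ⧸ M₂)) b ↔ ∃ m ∈ M₂, b = Sum.inl ((x * m : X) : X ⧸ M₁) := by
  rw [adj_iff]
  constructor
  · rintro ⟨y, ⟨h1, h2⟩ | ⟨h1, h2⟩⟩
    · exact absurd h1 (by simp)
    · rw [Sum.inr.injEq, QuotientGroup.eq] at h1
      exact ⟨x⁻¹ * y, h1, by rw [h2]; simp⟩
  · rintro ⟨m, hm, rfl⟩
    refine ⟨x * m, Or.inr ⟨?_, rfl⟩⟩
    rw [Sum.inr.injEq, QuotientGroup.eq]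
    simpa using hm

theorem exists_rep (δ : CosetVertex M₁ M₂) :
    (∃ x : X, δ = Sum.inl (x : X ⧸ M₁)) ∨ (∃ x : X, δ = Sum.inr (x : X ⧸ M₂)) := by
  rcases δ with q | q
  · obtain ⟨x, rfl⟩ := QuotientGroup.mk_surjective q
    exact Or.inl ⟨x, rfl⟩
  · obtain ⟨x, rfl⟩ := QuotientGroup.mk_surjective q
    exact Or.inr ⟨x, rfl⟩

/-- The vertex stabilizer is transitive on neighbours. -/
theorem stabilizer_transitive_nbrs (δ μ μ' : CosetVertex M₁ M₂)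
    (hμ : (cosetGraph M₁ M₂).Adj δ μ) (hμ' : (cosetGraph M₁ M₂).Adj δ μ') :
    ∃ g ∈ MulAction.stabilizer X δ, g • μ = μ' := by
  rcases exists_rep M₁ M₂ δ with ⟨x, rfl⟩ | ⟨x, rfl⟩
  · rw [adj_inl_iff] at hμ hμ'
    obtain ⟨m, hm, rfl⟩ := hμ
    obtain ⟨m', hm', rfl⟩ := hμ'
    refine ⟨x * m' * m⁻¹ * x⁻¹, ?_, ?_⟩
    · rw [mem_stabilizer_inl]
      have : x⁻¹ * (x * m' * m⁻¹ * x⁻¹) * x = m' * m⁻¹ := by group
      rw [this]; exact M₁.mul_mem hm' (M₁.inv_mem hm)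
    · rw [smul_inr]; congr 2; group
  · rw [adj_inr_iff] at hμ hμ'
    obtain ⟨m, hm, rfl⟩ := hμ
    obtain ⟨m', hm', rfl⟩ := hμ'
    refine ⟨x * m' * m⁻¹ * x⁻¹, ?_, ?_⟩
    · rw [mem_stabilizer_inr]
      have : x⁻¹ * (x * m' * m⁻¹ * x⁻¹) * x = m' * m⁻¹ := by group
      rw [this]; exact M₂.mul_mem hm' (M₂.inv_mem hm)
    · rw [smul_inl]; congr 2; group

theorem reachable_inl (hgen : M₁ ⊔ M₂ = ⊤) (x : X) :
    (cosetGraph M₁ M₂).Reachable (Sum.inl ((1 : X) : X ⧸ M₁)) (Sum.inl (x : X ⧸ M₁)) := by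
  have hx : x ∈ Subgroup.closure ((M₁ : Set X) ∪ M₂) := by
    rw [Subgroup.closure_union, Subgroup.closure_eq, Subgroup.closure_eq, hgen]; trivial
  have step : ∀ (y m : X), m ∈ (M₁ : Set X) ∪ M₂ →
      (cosetGraph M₁ M₂).Reachable (Sum.inl ((1 : X) : X ⧸ M₁)) (Sum.inl (y : X ⧸ M₁)) →
      (cosetGraph M₁ M₂).Reachable (Sum.inl ((1 : X) : X ⧸ M₁)) (Sum.inl ((y * m : X) : X ⧸ M₁)) := by
    intro y m hm hy
    rcases hm with hm | hm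
    · have : ((y * m : X) : X ⧸ M₁) = (y : X ⧸ M₁) := by
        rw [QuotientGroup.eq]; simpa using M₁.inv_mem hm
      rw [this]; exact hy
    · have h1 : (cosetGraph M₁ M₂).Adj (Sum.inl (y : X ⧸ M₁)) (Sum.inr (y : X ⧸ M₂)) := adj_inl_inr M₁ M₂ y
      have h2 : (cosetGraph M₁ M₂).Adj (Sum.inr (y : X ⧸ M₂)) (Sum.inl ((y * m : X) : X ⧸ M₁)) :=
        (adj_inr_iff M₁ M₂ y _).2 ⟨m, hm, rfl⟩
      exact hy.trans (h1.reachable.trans h2.reachable)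
  induction hx using Subgroup.closure_induction_right with
  | one => exact SimpleGraph.Reachable.refl _
  | mul_right y _ m hm ih => exact step y m hm ih
  | mul_inv_cancel y _ m hm ih =>
    refine step y m⁻¹ ?_ ih
    rcases hm with hm | hm
    · exact Or.inl (M₁.inv_mem hm)
    · exact Or.inr (M₂.inv_mem hm)

theorem connected (hgen : M₁ ⊔ M₂ = ⊤) : (cosetGraph M₁ M₂).Connected := by
  have : Nonempty (CosetVertex M₁ M₂) := ⟨Sum.inl ((1 : X) : X ⧸ M₁)⟩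
  rw [SimpleGraph.connected_iff_exists_forall_reachable]
  refine ⟨Sum.inl ((1 : X) : X ⧸ M₁), fun δ => ?_⟩
  rcases exists_rep M₁ M₂ δ with ⟨x, rfl⟩ | ⟨x, rfl⟩
  · exact reachable_inl M₁ M₂ hgen x
  · exact (reachable_inl M₁ M₂ hgen x).trans (adj_inl_inr M₁ M₂ x).reachable

end Cfsg.Agent.Lib.Helper16
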