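import Mathlib
import Cfsg.Prelude.Def_Amalgam
import Cfsg.Agent.Lib.Helper16.CosetGraph

set_option autoImplicit false

namespace Cfsg.Agent.Lib.Helper16

open Cfsg

theorem connected_induction {V : Type*} {G : SimpleGraph V} (hG : G.Connected) (P : V → Prop) (v0 : V)
    (h0 : P v0) (hstep : ∀ a b, G.Adj a b → P a → P b) : ∀ v, P v := by
  intro v
  obtain ⟨w⟩ := hG.preconnected v0 v
  induction w with
  | nil => exact h0
  | cons hadj _ ih => exact ih (hstep _ _ hadj h0)

variable {X : Type*} [Group X] (M₁ M₂ : Subgroup X)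

/-- If `T` fixes every vertex of the coset graph of an amalgam pair then `T` is trivial. -/
theorem eq_bot_of_fixes_all (h : ∀ N : Subgroup X, N ≤ M₁ ⊓ M₂ → N.Normal → N = ⊥) (T : Subgroup X)
    (hT : ∀ t ∈ T, ∀ ν : CosetVertex M₁ M₂, t • ν = ν) : T = ⊥ := by
  have hker : (MulAction.toPermHom X (CosetVertex M₁ M₂)).ker = ⊥ := by
    apply h _ _ (MonoidHom.normal_ker _)
    intro g hg
    rw [MonoidHom.mem_ker] at hg
    have h1 : g • (Sum.inl ((1 : X) : X ⧸ M₁) : CosetVertex M₁ M₂) = Sum.inl ((1 : X) : X ⧸ M₁) := by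
      have := congrArg (fun f => f (Sum.inl ((1 : X) : X ⧸ M₁) : CosetVertex M₁ M₂)) hg
      simpa using this
    have h2 : g • (Sum.inr ((1 : X) : X ⧸ M₂) : CosetVertex M₁ M₂) = Sum.inr ((1 : X) : X ⧸ M₂) := by
      have := congrArg (fun f => f (Sum.inr ((1 : X) : X ⧸ M₂) : CosetVertex M₁ M₂)) hg
      simpa using this
    have h1' := (mem_stabilizer_inl M₁ M₂ g 1).1 h1
    have h2' := (mem_stabilizer_inr M₁ M₂ g 1).1 h2
    simp only [inv_one, one_mul, mul_one] at h1' h2'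
    exact ⟨h1', h2'⟩
  rw [eq_bot_iff]
  intro t ht
  rw [← hker, MonoidHom.mem_ker]
  ext ν
  simp [hT t ht ν]

end Cfsg.Agent.Lib.Helper16
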