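import Mathlib
import Cfsg.Prelude.Def_Amalgam
import Cfsg.Agent.Lib.Helper16.CosetGraph2
import Cfsg.Agent.Lib.Helper16.PCore

set_option autoImplicit false

namespace Cfsg.Agent.Lib.Helper16

open Cfsg

variable {X : Type*} [Group X] (M₁ M₂ : Subgroup X)

theorem edgeStabilizer_inl_inr (y : X) :
    edgeStabilizer (Sum.inl (y : X ⧸ M₁) : CosetVertex M₁ M₂) (Sum.inr (y : X ⧸ M₂)) =
      (M₁ ⊓ M₂).map (MulAut.conj y).toMonoidHom := by
  unfold edgeStabilizer
  rw [stabilizer_inl, stabilizer_inr, Subgroup.map_inf_eq]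
  exact (MulAut.conj y).injective

theorem edgeStabilizer_comm (δ μ : CosetVertex M₁ M₂) : edgeStabilizer δ μ = edgeStabilizer μ δ := by
  unfold edgeStabilizer; exact inf_comm _ _

theorem card_stabilizer_inl (y : X) :
    Nat.card ↥(MulAction.stabilizer X (Sum.inl (y : X ⧸ M₁) : CosetVertex M₁ M₂)) = Nat.card M₁ := by
  rw [stabilizer_inl]; exact Subgroup.card_map_of_injective (MulAut.conj y).injective

theorem card_stabilizer_inr (y : X) :
    Nat.card ↥(MulAction.stabilizer X (Sum.inr (y : X ⧸ M₂) : CosetVertex M₁ M₂)) = Nat.card M₂ := by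
  rw [stabilizer_inr]; exact Subgroup.card_map_of_injective (MulAut.conj y).injective

theorem card_edgeStabilizer_inl_inr (y : X) :
    Nat.card ↥(edgeStabilizer (Sum.inl (y : X ⧸ M₁) : CosetVertex M₁ M₂) (Sum.inr (y : X ⧸ M₂))) =
      Nat.card ↥(M₁ ⊓ M₂) := by
  rw [edgeStabilizer_inl_inr]; exact Subgroup.card_map_of_injective (MulAut.conj y).injective

theorem finite_stabilizer (h₁ : Finite M₁) (h₂ : Finite M₂) (δ : CosetVertex M₁ M₂) :
    Finite ↥(MulAction.stabilizer X δ) := by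
  rcases exists_rep M₁ M₂ δ with ⟨x, rfl⟩ | ⟨x, rfl⟩
  · apply Nat.finite_of_card_ne_zero
    rw [card_stabilizer_inl]; exact Nat.card_pos.ne'
  · apply Nat.finite_of_card_ne_zero
    rw [card_stabilizer_inr]; exact Nat.card_pos.ne'

theorem finite_edgeStabilizer (h₁ : Finite M₁) (h₂ : Finite M₂) (δ μ : CosetVertex M₁ M₂) :
    Finite ↥(edgeStabilizer δ μ) := by
  have := finite_stabilizer M₁ M₂ h₁ h₂ δ
  exact Finite.of_injective (Subgroup.inclusion (inf_le_left : edgeStabilizer δ μ ≤ MulAction.stabilizer X δ))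
    (Subgroup.inclusion_injective _)

variable {p : ℕ} [Fact p.Prime]

/-- In a characteristic `p` amalgam the `p`-parts of `|M₁ ⊓ M₂|`, `|M₁|`, `|M₂|` agree. -/
theorem factorization_eq (h : IsCharPAmalgamPair p M₁ M₂) :
    (Nat.card ↥(M₁ ⊓ M₂)).factorization p = (Nat.card M₁).factorization p ∧
    (Nat.card ↥(M₁ ⊓ M₂)).factorization p = (Nat.card M₂).factorization p := by
  obtain ⟨-, h₁, h₂, -, -, hS, -, -⟩ := h
  have : Finite ↥(M₁ ⊓ M₂) := Finite.of_injective (Subgroup.inclusion (inf_le_left : M₁ ⊓ M₂ ≤ M₁))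
    (Subgroup.inclusion_injective _)
  obtain ⟨e1, e2⟩ := hS default default default
  rw [Sylow.card_eq_multiplicity, Sylow.card_eq_multiplicity] at e1 e2
  have hp : 1 < p := (Fact.out : p.Prime).one_lt
  exact ⟨Nat.pow_right_injective hp e1, Nat.pow_right_injective hp e2⟩

theorem sylow_card_eq (h : IsCharPAmalgamPair p M₁ M₂) {δ μ : CosetVertex M₁ M₂}
    (hadj : (cosetGraph M₁ M₂).Adj δ μ) (S : Sylow p ↥(edgeStabilizer δ μ))
    (P : Sylow p ↥(MulAction.stabilizer X δ)) : Nat.card S = Nat.card P := by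
  have hf := factorization_eq M₁ M₂ h
  obtain ⟨-, h₁, h₂, -, -, -, -, -⟩ := h
  have := finite_stabilizer M₁ M₂ h₁ h₂ δ
  have := finite_edgeStabilizer M₁ M₂ h₁ h₂ δ μ
  rw [Sylow.card_eq_multiplicity, Sylow.card_eq_multiplicity]
  congr 1
  rw [adj_iff] at hadj
  obtain ⟨y, ⟨rfl, rfl⟩ | ⟨rfl, rfl⟩⟩ := hadj
  · rw [card_edgeStabilizer_inl_inr, card_stabilizer_inl]; exact hf.1
  · rw [edgeStabilizer_comm, card_edgeStabilizer_inl_inr, card_stabilizer_inr]; exact hf.2

/-- A Sylow `p`-subgroup of an edge stabilizer is a Sylow `p`-subgroup of the vertex stabilizer. -/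
theorem edge_sylow_is_vertex_sylow (h : IsCharPAmalgamPair p M₁ M₂) {δ μ : CosetVertex M₁ M₂}
    (hadj : (cosetGraph M₁ M₂).Adj δ μ) (S : Sylow p ↥(edgeStabilizer δ μ)) :
    ∃ P : Sylow p ↥(MulAction.stabilizer X δ),
      (P : Subgroup ↥(MulAction.stabilizer X δ)).map (MulAction.stabilizer X δ).subtype =
        (S : Subgroup ↥(edgeStabilizer δ μ)).map (edgeStabilizer δ μ).subtype := by
  have hfin := finite_stabilizer M₁ M₂ h.2.1 h.2.2.1 δ
  have hS'E : (S : Subgroup ↥(edgeStabilizer δ μ)).map (edgeStabilizer δ μ).subtype ≤ edgeStabilizer δ μ :=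
    Subgroup.map_subtype_le _
  have hEH : edgeStabilizer δ μ ≤ MulAction.stabilizer X δ := inf_le_left
  have hS'H := hS'E.trans hEH
  have hpS' : IsPGroup p ((S : Subgroup ↥(edgeStabilizer δ μ)).map (edgeStabilizer δ μ).subtype) := S.2.map _
  have hpsub : IsPGroup p (((S : Subgroup ↥(edgeStabilizer δ μ)).map (edgeStabilizer δ μ).subtype).subgroupOf
      (MulAction.stabilizer X δ)) := hpS'.comap_subtype
  obtain ⟨P, hP⟩ := hpsub.exists_le_sylow
  have hcard : Nat.card (((S : Subgroup ↥(edgeStabilizer δ μ)).map (edgeStabilizer δ μ).subtype).subgroupOf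
      (MulAction.stabilizer X δ)) = Nat.card P := by
    rw [← sylow_card_eq M₁ M₂ h hadj S P]
    rw [Nat.card_congr (Subgroup.subgroupOfEquivOfLe hS'H).toEquiv]
    exact Subgroup.card_map_of_injective (edgeStabilizer δ μ).subtype_injective
  have heq := Subgroup.eq_of_le_of_card_ge hP hcard.ge
  refine ⟨P, ?_⟩
  rw [← heq, Subgroup.map_subgroupOf_eq_of_le hS'H]

/-- `Q_δ` fixes the neighbours of `δ`. -/
theorem vertexQ_le_neighbourKernel (h : IsCharPAmalgamPair p M₁ M₂) (δ : CosetVertex M₁ M₂) :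
    vertexQ p δ ≤ neighbourKernel δ := by
  have hfin := finite_stabilizer M₁ M₂ h.2.1 h.2.2.1 δ
  unfold neighbourKernel
  refine le_inf (Subgroup.map_subtype_le _) ?_
  refine le_iInf₂ fun μ hμ => ?_
  have hadj : (cosetGraph M₁ M₂).Adj δ μ := hμ
  obtain ⟨P, hP⟩ := edge_sylow_is_vertex_sylow M₁ M₂ h hadj default
  calc vertexQ p δ ≤ (P : Subgroup ↥(MulAction.stabilizer X δ)).map (MulAction.stabilizer X δ).subtype :=
        Subgroup.map_mono (pCore_le_sylow P)
    _ ≤ edgeStabilizer δ μ := by rw [hP]; exact Subgroup.map_subtype_le _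
    _ ≤ MulAction.stabilizer X μ := inf_le_right

end Cfsg.Agent.Lib.Helper16
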