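import Mathlib
import Cfsg.Prelude.Def_Amalgam
import Cfsg.Agent.Lib.Helper16.Amalgam

set_option autoImplicit false

namespace Cfsg.Agent.Lib.Helper16

open Cfsg
open scoped Pointwise commutatorElement

/-- In a connected graph a vertex at distance `k+1` has a neighbour at distance `k`. -/
theorem exists_adj_dist_eq {V : Type*} {G : SimpleGraph V} (hG : G.Connected) {u v : V} {k : ℕ}
    (h : G.dist u v = k + 1) : ∃ w, G.Adj w v ∧ G.dist u w = k := by
  obtain ⟨p, hp⟩ := hG.exists_walk_length_eq_dist v u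
  rw [SimpleGraph.dist_comm, h] at hp
  cases p with
  | nil => simp at hp
  | cons hadj q =>
    rename_i w
    refine ⟨w, hadj.symm, ?_⟩
    simp only [SimpleGraph.Walk.length_cons, add_left_inj] at hp
    have h1 : G.dist u w ≤ k := by
      rw [SimpleGraph.dist_comm, ← hp]; exact SimpleGraph.dist_le q
    have h2 : G.dist u v ≤ G.dist u w + G.dist w v := hG.dist_triangle
    have h3 : G.dist w v = 1 := SimpleGraph.dist_eq_one_iff_adj.2 hadj.symm
    omega

variable {X : Type*} [Group X]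

/-- `Ω₁(Z(A))` as used in the prelude. -/
def omegaZ (p : ℕ) (A : Subgroup X) : Subgroup X :=
  omegaOne p (A ⊓ Subgroup.centralizer (A : Set X))

theorem omegaZ_le (p : ℕ) (A : Subgroup X) : omegaZ p A ≤ A := by
  unfold omegaZ omegaOne
  rw [Subgroup.closure_le]
  rintro x ⟨hx, -⟩
  exact hx.1

theorem omegaZ_map_le (p : ℕ) (A : Subgroup X) (φ : X ≃* X) :
    (omegaZ p A).map φ.toMonoidHom ≤ omegaZ p (A.map φ.toMonoidHom) := by
  unfold omegaZ omegaOne
  rw [MonoidHom.map_closure, Subgroup.closure_le]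
  intro y hy
  obtain ⟨x, hx, rfl⟩ := hy
  obtain ⟨hx1, hxp⟩ := hx
  obtain ⟨hxA, hxC⟩ := Subgroup.mem_inf.1 hx1
  apply Subgroup.subset_closure
  refine ⟨Subgroup.mem_inf.2 ⟨Subgroup.mem_map_of_mem _ hxA, ?_⟩, ?_⟩
  · rw [Subgroup.mem_centralizer_iff]
    intro z hz
    obtain ⟨y, hy, rfl⟩ := hz
    rw [Subgroup.mem_centralizer_iff] at hxC
    have := hxC y hy
    simp only [MulEquiv.toMonoidHom_eq_coe, MonoidHom.coe_coe, ← map_mul, this]
  · simp only [MulEquiv.toMonoidHom_eq_coe, MonoidHom.coe_coe, ← map_pow, hxp, map_one]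

theorem sylowCenterClosure_eq (p : ℕ) (H : Subgroup X) :
    sylowCenterClosure p H = ⨆ S : Sylow p H, omegaZ p ((S : Subgroup H).map H.subtype) := rfl

theorem sylowCenterClosure_le (p : ℕ) (H : Subgroup X) : sylowCenterClosure p H ≤ H := by
  rw [sylowCenterClosure_eq]
  exact iSup_le fun S => (omegaZ_le p _).trans (Subgroup.map_subtype_le _)

theorem mem_sylow_smul {p : ℕ} (H : Subgroup X) (S : Sylow p H) (g x : H) :
    x ∈ ((g • S : Sylow p H) : Subgroup H) ↔ g⁻¹ * x * g ∈ (S : Subgroup H) := by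
  have h1 : ((g • S : Sylow p H) : Subgroup H) = MulAut.conj g • (S : Subgroup H) := Sylow.coe_subgroup_smul
  rw [h1, Subgroup.mem_pointwise_smul_iff_inv_smul_mem]
  simp [MulAut.smul_def]

theorem sylow_smul_map (p : ℕ) (H : Subgroup X) (S : Sylow p H) (g : H) :
    ((g • S : Sylow p H) : Subgroup H).map H.subtype =
      ((S : Subgroup H).map H.subtype).map (MulAut.conj (g : X)).toMonoidHom := by
  ext x
  constructor
  · intro hx
    obtain ⟨y, hy, rfl⟩ := hx
    have hy' := (mem_sylow_smul H S g y).1 hy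
    refine ⟨H.subtype (g⁻¹ * y * g), Subgroup.mem_map_of_mem _ hy', ?_⟩
    show (g : X) * ((g : X)⁻¹ * (y : X) * (g : X)) * (g : X)⁻¹ = (y : X)
    group
  · intro hx
    obtain ⟨z, hz, rfl⟩ := hx
    obtain ⟨y, hy, rfl⟩ := hz
    refine ⟨g * y * g⁻¹, ?_, rfl⟩
    apply (mem_sylow_smul H S g _).2
    have : g⁻¹ * (g * y * g⁻¹) * g = y := by group
    rw [this]; exact hy

/-- `Z_H` is normalized by `H`. -/
theorem sylowCenterClosure_conj_le (p : ℕ) (H : Subgroup X) (g : X) (hg : g ∈ H) :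
    (sylowCenterClosure p H).map (MulAut.conj g).toMonoidHom ≤ sylowCenterClosure p H := by
  rw [sylowCenterClosure_eq, Subgroup.map_iSup]
  refine iSup_le fun S => ?_
  refine (omegaZ_map_le p _ (MulAut.conj g)).trans ?_
  have key : omegaZ p ((((⟨g, hg⟩ : H) • S : Sylow p H) : Subgroup H).map H.subtype) ≤
      ⨆ S : Sylow p H, omegaZ p ((S : Subgroup H).map H.subtype) :=
    le_iSup (fun S : Sylow p H => omegaZ p ((S : Subgroup H).map H.subtype)) ((⟨g, hg⟩ : H) • S)
  rw [sylow_smul_map p H S ⟨g, hg⟩] at key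
  exact key

theorem sylowCenterClosure_conj_mem (p : ℕ) (H : Subgroup X) (g : X) (hg : g ∈ H) (z : X)
    (hz : z ∈ sylowCenterClosure p H) : g * z * g⁻¹ ∈ sylowCenterClosure p H :=
  sylowCenterClosure_conj_le p H g hg ⟨z, hz, by simp⟩

/-- if `K ≤ H` then `[Z_H, K] ≤ Z_H`. -/
theorem commutator_sylowCenterClosure_le (p : ℕ) (H K : Subgroup X) (hK : K ≤ H) :
    ⁅sylowCenterClosure p H, K⁆ ≤ sylowCenterClosure p H := by
  rw [Subgroup.commutator_le]
  intro a ha b hb
  have h1 := sylowCenterClosure_conj_mem p H b (hK hb) a⁻¹ (Subgroup.inv_mem _ ha)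
  have : ⁅a, b⁆ = a * (b * a⁻¹ * b⁻¹) := by simp [commutatorElement_def, mul_assoc]
  rw [this]
  exact Subgroup.mul_mem _ ha h1

variable (M₁ M₂ : Subgroup X)

theorem neighbourKernel_le_of_adj {μ ν : CosetVertex M₁ M₂} (h : (cosetGraph M₁ M₂).Adj μ ν) :
    neighbourKernel μ ≤ MulAction.stabilizer X ν := by
  unfold neighbourKernel
  exact inf_le_right.trans (iInf₂_le ν h)

theorem le_neighbourKernel_of_dist_lt (p : ℕ) {δ μ : CosetVertex M₁ M₂}
    (h : (cosetGraph M₁ M₂).dist δ μ < criticalDistance p M₁ M₂) : vertexZ p δ ≤ neighbourKernel μ := by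
  by_contra hcon
  have : criticalDistance p M₁ M₂ ≤ (cosetGraph M₁ M₂).dist δ μ := Nat.sInf_le ⟨δ, μ, rfl, hcon⟩
  omega

/-- `Z_δ` fixes every vertex at distance at most the critical distance. -/
theorem vertexZ_le_stabilizer_of_dist_le (hgen : M₁ ⊔ M₂ = ⊤) (p : ℕ) {δ ν : CosetVertex M₁ M₂}
    (h : (cosetGraph M₁ M₂).dist δ ν ≤ criticalDistance p M₁ M₂) :
    vertexZ p δ ≤ MulAction.stabilizer X ν := by
  have hconn := connected M₁ M₂ hgen
  rcases Nat.eq_zero_or_pos ((cosetGraph M₁ M₂).dist δ ν) with h0 | hpos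
  · have : δ = ν := hconn.dist_eq_zero_iff.1 h0
    subst this
    exact sylowCenterClosure_le p _
  · obtain ⟨k, hk⟩ : ∃ k, (cosetGraph M₁ M₂).dist δ ν = k + 1 := ⟨_, (Nat.succ_pred_eq_of_pos hpos).symm⟩
    obtain ⟨w, hadj, hw⟩ := exists_adj_dist_eq hconn hk
    have h1 : vertexZ p δ ≤ neighbourKernel w := le_neighbourKernel_of_dist_lt M₁ M₂ p (by omega)
    exact h1.trans (neighbourKernel_le_of_adj M₁ M₂ hadj)

end Cfsg.Agent.Lib.Helper16
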