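import Mathlib
import Cfsg.Prelude.Def_Amalgam
import Cfsg.Agent.Lib.Helper16.Critical

set_option autoImplicit false

namespace Cfsg.Agent.Lib.Helper16

open Cfsg
open scoped Pointwise commutatorElement

section transport

variable {G G' : Type*} [Group G] [Group G'] {p : ℕ}

theorem pCore_map_le (e : G ≃* G') : (pCore p G).map e.toMonoidHom ≤ pCore p G' := by
  rw [Subgroup.map_le_iff_le_comap]
  unfold pCore
  apply sSup_le
  rintro N ⟨hN, hp⟩
  rw [← Subgroup.map_le_iff_le_comap]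
  apply le_sSup (s := {N : Subgroup G' | N.Normal ∧ IsPGroup p N})
  refine ⟨?_, hp.map _⟩
  exact hN.map _ e.surjective

theorem pCore_map_equiv (e : G ≃* G') : (pCore p G).map e.toMonoidHom = pCore p G' := by
  apply le_antisymm (pCore_map_le e)
  intro x hx
  have h1 := pCore_map_le (p := p) e.symm ⟨x, hx, rfl⟩
  exact ⟨e.symm x, h1, by simp⟩

theorem charp_of_equiv (e : G ≃* G')
    (h : Subgroup.centralizer (pCore p G : Set G) ≤ pCore p G) :
    Subgroup.centralizer (pCore p G' : Set G') ≤ pCore p G' := by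
  intro x hx
  rw [← pCore_map_equiv e]
  refine ⟨e.symm x, h ?_, by simp⟩
  rw [Subgroup.mem_centralizer_iff] at hx ⊢
  intro y hy
  have hy' : e y ∈ pCore p G' := by rw [← pCore_map_equiv e]; exact ⟨y, hy, rfl⟩
  have := hx (e y) hy'
  apply e.injective
  simpa using this

end transport

variable {X : Type*} [Group X] (M₁ M₂ : Subgroup X)

noncomputable def stabilizerEquivInl (y : X) :
    M₁ ≃* ↥(MulAction.stabilizer X (Sum.inl (y : X ⧸ M₁) : CosetVertex M₁ M₂)) :=
  (M₁.equivMapOfInjective _ (MulAut.conj y).injective).trans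
    (MulEquiv.subgroupCongr (stabilizer_inl M₁ M₂ y).symm)

noncomputable def stabilizerEquivInr (y : X) :
    M₂ ≃* ↥(MulAction.stabilizer X (Sum.inr (y : X ⧸ M₂) : CosetVertex M₁ M₂)) :=
  (M₂.equivMapOfInjective _ (MulAut.conj y).injective).trans
    (MulEquiv.subgroupCongr (stabilizer_inr M₁ M₂ y).symm)

theorem charp_stabilizer {p : ℕ} (h : IsCharPAmalgamPair p M₁ M₂) (δ : CosetVertex M₁ M₂) :
    Subgroup.centralizer (pCore p ↥(MulAction.stabilizer X δ) : Set ↥(MulAction.stabilizer X δ)) ≤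
      pCore p ↥(MulAction.stabilizer X δ) := by
  obtain ⟨-, -, -, -, -, -, c₁, c₂⟩ := h
  rcases exists_rep M₁ M₂ δ with ⟨y, rfl⟩ | ⟨y, rfl⟩
  · exact charp_of_equiv (stabilizerEquivInl M₁ M₂ y) c₁
  · exact charp_of_equiv (stabilizerEquivInr M₁ M₂ y) c₂

/-- Characteristic `p` of a vertex stabilizer, phrased in the ambient group. -/
theorem charp_stabilizer' {p : ℕ} (h : IsCharPAmalgamPair p M₁ M₂) (δ : CosetVertex M₁ M₂) (x : X)
    (hx : x ∈ MulAction.stabilizer X δ) (hc : x ∈ Subgroup.centralizer (vertexQ p δ : Set X)) :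
    x ∈ vertexQ p δ := by
  have := charp_stabilizer M₁ M₂ h δ
  have h1 : (⟨x, hx⟩ : ↥(MulAction.stabilizer X δ)) ∈
      Subgroup.centralizer (pCore p ↥(MulAction.stabilizer X δ) : Set ↥(MulAction.stabilizer X δ)) := by
    rw [Subgroup.mem_centralizer_iff]
    intro y hy
    rw [Subgroup.mem_centralizer_iff] at hc
    have := hc (y : X) ⟨y, hy, rfl⟩
    exact Subtype.ext this
  exact ⟨⟨x, hx⟩, this h1, rfl⟩

/-- The amalgam lemma: a subgroup of an edge stabilizer whose normalizer is transitive on the neighbours of both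
ends is trivial. -/
theorem trivial_of_transitive (h : IsAmalgamPair M₁ M₂) (δ μ : CosetVertex M₁ M₂)
    (hμ : (cosetGraph M₁ M₂).Adj δ μ) (T : Subgroup X) (hT : T ≤ edgeStabilizer δ μ)
    (hδ : ∀ ν ν' : CosetVertex M₁ M₂, (cosetGraph M₁ M₂).Adj δ ν → (cosetGraph M₁ M₂).Adj δ ν' →
      ∃ g ∈ Subgroup.normalizer (T : Set X) ⊓ MulAction.stabilizer X δ, g • ν = ν')
    (hμ' : ∀ ν ν' : CosetVertex M₁ M₂, (cosetGraph M₁ M₂).Adj μ ν → (cosetGraph M₁ M₂).Adj μ ν' →
      ∃ g ∈ Subgroup.normalizer (T : Set X) ⊓ MulAction.stabilizer X μ, g • ν = ν') : T = ⊥ := by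
  obtain ⟨hgen, -, -, hnorm⟩ := h
  have hconn := connected M₁ M₂ hgen
  have hP : ∀ ν : CosetVertex M₁ M₂, ∃ n ∈ Subgroup.normalizer (T : Set X), ν = n • δ ∨ ν = n • μ := by
    refine connected_induction hconn (fun ν => ∃ n ∈ Subgroup.normalizer (T : Set X), ν = n • δ ∨ ν = n • μ) δ
      ⟨1, Subgroup.one_mem _, Or.inl (by simp)⟩ ?_
    rintro a b hab ⟨n, hn, rfl | rfl⟩
    · have hb : (cosetGraph M₁ M₂).Adj δ (n⁻¹ • b) := by
        have := adj_smul M₁ M₂ n⁻¹ hab
        simpa using this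
      obtain ⟨g, hg, hgb⟩ := hδ μ (n⁻¹ • b) hμ hb
      refine ⟨n * g, Subgroup.mul_mem _ hn hg.1, Or.inr ?_⟩
      rw [mul_smul, hgb, smul_inv_smul]
    · have hb : (cosetGraph M₁ M₂).Adj μ (n⁻¹ • b) := by
        have := adj_smul M₁ M₂ n⁻¹ hab
        simpa using this
      obtain ⟨g, hg, hgb⟩ := hμ' δ (n⁻¹ • b) hμ.symm hb
      refine ⟨n * g, Subgroup.mul_mem _ hn hg.1, Or.inl ?_⟩
      rw [mul_smul, hgb, smul_inv_smul]
  apply eq_bot_of_fixes_all M₁ M₂ hnorm
  intro t ht ν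
  obtain ⟨n, hn, hν⟩ := hP ν
  have hconj : n⁻¹ * t * n ∈ T := by
    have := (Subgroup.mem_normalizer_iff.1 (Subgroup.inv_mem _ hn) t).1 ht
    simpa using this
  have hfix := hT hconj
  rcases hν with rfl | rfl
  · have h1 : (n⁻¹ * t * n) • δ = δ := hfix.1
    calc t • n • δ = n • ((n⁻¹ * t * n) • δ) := by simp [mul_smul]
      _ = n • δ := by rw [h1]
  · have h1 : (n⁻¹ * t * n) • μ = μ := hfix.2
    calc t • n • μ = n • ((n⁻¹ * t * n) • μ) := by simp [mul_smul]
      _ = n • μ := by rw [h1]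

/-! ### the `p`-element closure -/

theorem pElementClosure_le (p : ℕ) (H : Subgroup X) : pElementClosure p H ≤ H := by
  unfold pElementClosure
  rw [Subgroup.closure_le]
  rintro x ⟨hx, -⟩
  exact hx

theorem pElementClosure_conj_mem (p : ℕ) (H : Subgroup X) (g : X) (hg : g ∈ H) (x : X)
    (hx : x ∈ pElementClosure p H) : g * x * g⁻¹ ∈ pElementClosure p H := by
  have hle : pElementClosure p H ≤ (pElementClosure p H).comap (MulAut.conj g).toMonoidHom := by
    unfold pElementClosure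
    rw [Subgroup.closure_le]
    rintro y ⟨hy, k, hk⟩
    rw [SetLike.mem_coe, Subgroup.mem_comap]
    apply Subgroup.subset_closure
    refine ⟨?_, k, ?_⟩
    · simpa using H.mul_mem (H.mul_mem hg hy) (H.inv_mem hg)
    · rw [← hk]; exact MulEquiv.orderOf_eq _ _
  simpa using hle hx

theorem le_pElementClosure_of_isPGroup {p : ℕ} [Fact p.Prime] (H T : Subgroup X) (hT : T ≤ H)
    (hp : IsPGroup p T) : T ≤ pElementClosure p H := by
  intro x hx
  apply Subgroup.subset_closure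
  refine ⟨hT hx, ?_⟩
  obtain ⟨k, hk⟩ := (IsPGroup.iff_orderOf.1 hp) ⟨x, hx⟩
  exact ⟨k, by rw [← hk]; simp⟩

/-! ### `Ω₁` -/

theorem omegaOne_conj_mem (p : ℕ) (A : Subgroup X) (g : X)
    (hA : ∀ a ∈ A, g * a * g⁻¹ ∈ A) (x : X) (hx : x ∈ omegaOne p A) : g * x * g⁻¹ ∈ omegaOne p A := by
  have hle : omegaOne p A ≤ (omegaOne p A).comap (MulAut.conj g).toMonoidHom := by
    unfold omegaOne
    rw [Subgroup.closure_le]
    rintro y ⟨hy, hyp⟩
    rw [SetLike.mem_coe, Subgroup.mem_comap]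
    apply Subgroup.subset_closure
    refine ⟨by simpa using hA y hy, ?_⟩
    rw [← map_pow, hyp, map_one]
  simpa using hle hx

theorem omegaOne_le (p : ℕ) (A : Subgroup X) : omegaOne p A ≤ A := by
  unfold omegaOne
  rw [Subgroup.closure_le]
  rintro x ⟨hx, -⟩
  exact hx

theorem omegaOne_mono (p : ℕ) {A B : Subgroup X} (h : A ≤ B) : omegaOne p A ≤ omegaOne p B := by
  unfold omegaOne
  apply Subgroup.closure_mono
  rintro x ⟨hx, hp⟩
  exact ⟨h hx, hp⟩

/-- A nontrivial `p`-group has nontrivial `Ω₁`. -/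
theorem eq_bot_of_omegaOne_eq_bot {p : ℕ} [Fact p.Prime] (A : Subgroup X) (hp : IsPGroup p A)
    (h : omegaOne p A = ⊥) : A = ⊥ := by
  rw [eq_bot_iff]
  intro x hx
  rw [Subgroup.mem_bot]
  by_contra hne
  obtain ⟨k, hk⟩ := (IsPGroup.iff_orderOf.1 hp) ⟨x, hx⟩
  have hk' : orderOf x = p ^ k := by rw [← hk]; simp
  have hk0 : k ≠ 0 := by
    intro h0
    rw [h0, pow_zero, orderOf_eq_one_iff] at hk'
    exact hne hk'
  obtain ⟨j, rfl⟩ := Nat.exists_eq_succ_of_ne_zero hk0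
  have hmem : x ^ (p ^ j) ∈ omegaOne p A := by
    apply Subgroup.subset_closure
    refine ⟨A.pow_mem hx _, ?_⟩
    rw [← pow_mul, ← pow_succ, ← hk', pow_orderOf_eq_one]
  rw [h, Subgroup.mem_bot] at hmem
  have hdvd := orderOf_dvd_of_pow_eq_one hmem
  rw [hk'] at hdvd
  have hp1 : 1 < p := (Fact.out : p.Prime).one_lt
  have := Nat.pow_dvd_pow_iff_le_right hp1 |>.1 hdvd
  omega

end Cfsg.Agent.Lib.Helper16
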