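import Mathlib

set_option autoImplicit false

namespace Cfsg.Agent.Lib.Helper16

open Finset

/-- The powers `σ^0, …, σ^(r-1)` of a ring automorphism of order `r`, seen as functions, are
linearly independent. -/
theorem linearIndependent_pow_ringEquiv {F : Type*} [Field F] (σ : F ≃+* F) {r : ℕ}
    (hσ : orderOf σ = r) :
    LinearIndependent F (fun k : Fin r => (fun x : F => (σ ^ (k : ℕ)) x)) := by
  have h := linearIndependent_monoidHom F F
  have hinj : Function.Injective
      (fun k : Fin r => (((σ ^ (k : ℕ) : F ≃+* F) : F →+* F) : F →* F)) := by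
    intro k l hkl
    have h1 : (σ ^ (k : ℕ) : F ≃+* F) = σ ^ (l : ℕ) := by
      ext x
      have := congrArg (fun f : F →* F => f x) hkl
      simpa using this
    have h2 := pow_injOn_Iio_orderOf (x := σ) (by rw [hσ]; exact k.2) (by rw [hσ]; exact l.2) h1
    exact Fin.ext h2
  have h3 := h.comp _ hinj
  exact h3

/-- Hilbert 90 for a ring automorphism of finite order. -/
theorem hilbert90_cyclic {F : Type*} [Field F] (σ : F ≃+* F) {r : ℕ} (hr : 0 < r)
    (hσ : orderOf σ = r) (c : F) (hc : ∏ k ∈ range r, (σ ^ k) c = 1) :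
    ∃ d : F, d ≠ 0 ∧ c * σ d = d := by
  classical
  set a : ℕ → F := fun k => ∏ j ∈ range k, (σ ^ j) c with ha
  have ha0 : a 0 = 1 := by simp [ha]
  have har : a r = 1 := hc
  have hstep : ∀ k, c * σ (a k) = a (k + 1) := by
    intro k
    simp only [ha]
    rw [prod_range_succ', map_prod]
    have h10 : ((1 : F ≃+* F)) c = c := rfl
    simp only [pow_zero, h10]
    rw [mul_comm]
    congr 1
    apply prod_congr rfl
    intro j _
    rw [pow_succ']
    rfl
  have hli := linearIndependent_pow_ringEquiv σ hσ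
  have hne : ∃ θ : F, ∑ k ∈ range r, a k * (σ ^ k) θ ≠ 0 := by
    by_contra hcon
    push Not at hcon
    have hsum : ∑ k : Fin r, a (k : ℕ) • (fun x : F => (σ ^ (k : ℕ)) x) = 0 := by
      funext θ
      have := hcon θ
      rw [← Fin.sum_univ_eq_sum_range (fun k => a k * (σ ^ k) θ) r] at this
      simpa [Finset.sum_apply] using this
    have := Fintype.linearIndependent_iff.1 hli (fun k => a (k : ℕ)) hsum ⟨0, hr⟩
    simp [ha0] at this
  obtain ⟨θ, hθ⟩ := hne
  refine ⟨_, hθ, ?_⟩
  have hσr : (σ ^ r) θ = θ := by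
    rw [← hσ, pow_orderOf_eq_one]; rfl
  rw [map_sum, mul_sum]
  have h1 : ∀ k ∈ range r, c * σ (a k * (σ ^ k) θ) = a (k + 1) * (σ ^ (k + 1)) θ := by
    intro k _
    rw [map_mul, ← mul_assoc, hstep, pow_succ']
    rfl
  rw [sum_congr rfl h1]
  have h2 := sum_range_succ' (fun k => a k * (σ ^ k) θ) r
  have h3 := sum_range_succ (fun k => a k * (σ ^ k) θ) r
  have h10 : ((1 : F ≃+* F)) θ = θ := rfl
  simp only [ha0, har, hσr, pow_zero, h10, one_mul] at h2 h3
  have : ∑ k ∈ range r, a (k + 1) * (σ ^ (k + 1)) θ + θ = ∑ k ∈ range r, a k * (σ ^ k) θ + θ := by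
    rw [← h2, ← h3]
  exact add_right_cancel this

end Cfsg.Agent.Lib.Helper16
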