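import Mathlib
import Cfsg.Agent.Lib.Helper16.Hilbert90

set_option autoImplicit false

namespace Cfsg.Agent.Lib.Helper16

open Finset Matrix

/-- Membership in the fixed field of the cyclic group generated by `σ`. -/
theorem mem_fixed_zpowers_iff {F : Type*} [Field F] (σ : F ≃+* F) (a : F) :
    a ∈ FixedPoints.subfield (Subgroup.zpowers σ) F ↔ σ a = a := by
  change a ∈ MulAction.fixedPoints (Subgroup.zpowers σ) F ↔ _
  rw [MulAction.mem_fixedPoints]
  constructor
  · intro h
    exact h ⟨σ, Subgroup.mem_zpowers σ⟩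
  · intro h g
    obtain ⟨g, hg⟩ := g
    obtain ⟨k, rfl⟩ := Subgroup.mem_zpowers_iff.1 hg
    change (σ ^ k) • a = a
    have hfix : σ • a = a := h
    exact (MulAction.mem_stabilizer_iff.1
      (Subgroup.zpow_mem _ (MulAction.mem_stabilizer_iff.2 hfix) k))

/-- The fixed field of an automorphism of order `r` of a field with `q₀ ^ r` elements has
`q₀` elements. -/
theorem card_fixed_zpowers {F : Type*} [Field F] [Fintype F] (σ : F ≃+* F) {q₀ r : ℕ}
    (hr : 0 < r) (hσ : orderOf σ = r) (hF : Fintype.card F = q₀ ^ r) :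
    Nat.card (FixedPoints.subfield (Subgroup.zpowers σ) F) = q₀ := by
  classical
  have hfin : IsOfFinOrder σ := by
    rw [← orderOf_pos_iff, hσ]; exact hr
  haveI : Finite (Subgroup.zpowers σ) := by
    have := (finite_zpowers (a := σ)).2 hfin
    exact this
  cases nonempty_fintype (Subgroup.zpowers σ)
  have h1 := FixedPoints.finrank_eq_card (Subgroup.zpowers σ) F
  have h2 : Fintype.card (Subgroup.zpowers σ) = r := by
    rw [← Nat.card_eq_fintype_card, Nat.card_zpowers, hσ]
  rw [h2] at h1
  have h3 := Module.card_eq_pow_finrank (K := FixedPoints.subfield (Subgroup.zpowers σ) F) (V := F)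
  rw [h1, hF] at h3
  have h4 := Nat.pow_left_injective (Nat.pos_iff_ne_zero.1 hr) h3
  rw [Nat.card_eq_fintype_card]
  exact h4.symm

section
variable {F : Type*} [Field F] {n : ℕ}

/-- The homomorphism `(d, h) ↦ d • h` from `Fˣ × GL_n(K)` to `GL_n(F)`. -/
noncomputable def scalarMulHom (K : Subfield F) (n : ℕ) :
    Fˣ × GL (Fin n) K →* GL (Fin n) F :=
  MonoidHom.noncommCoprod (Matrix.GeneralLinearGroup.scalar (Fin n))
    (Matrix.GeneralLinearGroup.map K.subtype)
    (fun d _ => show Commute _ _ from Matrix.GeneralLinearGroup.scalar_commute d _)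

theorem scalarMulHom_apply (K : Subfield F) (dh : Fˣ × GL (Fin n) K) (i j : Fin n) :
    (scalarMulHom K n dh : Matrix (Fin n) (Fin n) F) i j = (dh.1 : F) * ((dh.2 i j : K) : F) := by
  unfold scalarMulHom
  rw [MonoidHom.noncommCoprod_apply, Units.val_mul, Matrix.GeneralLinearGroup.coe_scalar,
    Matrix.scalar_apply, Matrix.diagonal_mul]
  rfl

/-- iterating the relation `g^σ = c g`. -/
theorem map_pow_of_map_eq_smul (σ : F ≃+* F) (g : Matrix (Fin n) (Fin n) F) (c : F)
    (h : g.map σ = c • g) (k : ℕ) :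
    g.map (σ ^ k) = (∏ j ∈ range k, (σ ^ j) c) • g := by
  induction k with
  | zero =>
    ext i j
    simp
  | succ k ih =>
    have h1 : g.map (σ ^ (k + 1)) = (g.map (σ ^ k)).map σ := by
      ext i j
      simp only [Matrix.map_apply, pow_succ']
      rfl
    rw [h1, ih]
    have h2 : ((∏ j ∈ range k, (σ ^ j) c) • g).map σ = σ (∏ j ∈ range k, (σ ^ j) c) • g.map σ := by
      ext i j
      simp
    rw [h2, h, smul_smul]
    congr 1
    rw [prod_range_succ', map_prod]
    have h10 : ((1 : F ≃+* F)) c = c := rfl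
    simp only [pow_zero, h10]
    congr 1
    apply prod_congr rfl
    intro j _
    rw [pow_succ']
    rfl

theorem mem_range_scalarMulHom_iff (K : Subfield F) (σ : F ≃+* F) (hK : ∀ a, a ∈ K ↔ σ a = a)
    {r : ℕ} (hr : 0 < r) (hσ : orderOf σ = r) (hn : 1 ≤ n) (g : GL (Fin n) F) :
    g ∈ (scalarMulHom K n).range ↔
      ∃ c : F, c ≠ 0 ∧ (g : Matrix (Fin n) (Fin n) F).map σ = c • (g : Matrix (Fin n) (Fin n) F) := by
  constructor
  · rintro ⟨⟨d, h⟩, rfl⟩
    refine ⟨σ d / d, div_ne_zero ((map_ne_zero σ).2 d.ne_zero) d.ne_zero, ?_⟩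
    ext i j
    rw [Matrix.map_apply, Matrix.smul_apply, scalarMulHom_apply, map_mul, smul_eq_mul]
    have : σ ((h i j : K) : F) = ((h i j : K) : F) := (hK _).1 (h i j).2
    rw [this]
    field_simp
  · rintro ⟨c, hc, hg⟩
    have hN : ∏ j ∈ range r, (σ ^ j) c = 1 := by
      have h1 := map_pow_of_map_eq_smul σ _ c hg r
      have h2 : (g : Matrix (Fin n) (Fin n) F).map (σ ^ r) = g := by
        rw [← hσ, pow_orderOf_eq_one]
        ext i j
        rfl
      rw [h2] at h1
      have h3 : (g : Matrix (Fin n) (Fin n) F) * ((g⁻¹ : GL (Fin n) F) : Matrix (Fin n) (Fin n) F)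
          = 1 := by
        rw [← Units.val_mul, mul_inv_cancel]; rfl
      have h4 := h3
      nth_rewrite 1 [h1] at h4
      rw [Matrix.smul_mul, h3] at h4
      have h5 := congrFun (congrFun h4 ⟨0, hn⟩) ⟨0, hn⟩
      simpa using h5
    obtain ⟨d, hd, hcd⟩ := hilbert90_cyclic σ hr hσ c hN
    -- h = d • g is fixed by σ
    have hfix : ∀ i j, σ (d * (g : Matrix (Fin n) (Fin n) F) i j)
        = d * (g : Matrix (Fin n) (Fin n) F) i j := by
      intro i j
      have h1 := congrFun (congrFun hg i) j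
      rw [Matrix.map_apply, Matrix.smul_apply, smul_eq_mul] at h1
      rw [map_mul, h1, ← mul_assoc, mul_comm (σ d), hcd]
    let h₀ : Matrix (Fin n) (Fin n) K := fun i j =>
      ⟨d * (g : Matrix (Fin n) (Fin n) F) i j, (hK _).2 (hfix i j)⟩
    have hmap : h₀.map K.subtype = d • (g : Matrix (Fin n) (Fin n) F) := by
      ext i j
      rfl
    have hdet : h₀.det ≠ 0 := by
      intro h0
      have h1 : (K.subtype.mapMatrix h₀).det = 0 := by
        rw [← RingHom.map_det, h0, map_zero]
      rw [RingHom.mapMatrix_apply, hmap, Matrix.det_smul] at h1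
      have h2 := Matrix.GeneralLinearGroup.det_ne_zero g
      exact (mul_ne_zero (pow_ne_zero _ hd) h2) h1
    refine ⟨⟨(Units.mk0 d hd)⁻¹, Matrix.GeneralLinearGroup.mkOfDetNeZero h₀ hdet⟩, ?_⟩
    ext i j
    rw [scalarMulHom_apply]
    change (d⁻¹ : F) * (d * (g : Matrix (Fin n) (Fin n) F) i j) = _
    field_simp

/-- the kernel embedding `t ↦ (t⁻¹, t • 1)`. -/
noncomputable def kerHom (K : Subfield F) (n : ℕ) : Kˣ →* Fˣ × GL (Fin n) K :=
  MonoidHom.prod ((Units.map (K.subtype : K →* F)).comp invMonoidHom)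
    (Matrix.GeneralLinearGroup.scalar (Fin n))

theorem kerHom_injective (K : Subfield F) (n : ℕ) : Function.Injective (kerHom K n) := by
  intro s t hst
  have h1 := congrArg Prod.fst hst
  simp only [kerHom, MonoidHom.prod_apply, MonoidHom.comp_apply, invMonoidHom_apply] at h1
  have h2 := congrArg Units.val h1
  simp only [Units.coe_map, Units.val_inv_eq_inv_val] at h2
  have h3 : ((s : K) : F)⁻¹ = ((t : K) : F)⁻¹ := by simpa using h2
  have h4 := inv_injective h3
  exact Units.ext (Subtype.ext h4)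

theorem kerHom_range (K : Subfield F) (hn : 1 ≤ n) : (kerHom K n).range = (scalarMulHom K n).ker := by
  ext ⟨d, h⟩
  rw [MonoidHom.mem_ker]
  constructor
  · rintro ⟨t, ht⟩
    have h1 := congrArg Prod.fst ht
    have h2 := congrArg Prod.snd ht
    simp only [kerHom, MonoidHom.prod_apply, MonoidHom.comp_apply, invMonoidHom_apply] at h1 h2
    ext i j
    rw [scalarMulHom_apply]
    change (d : F) * ((h i j : K) : F) = (1 : Matrix (Fin n) (Fin n) F) i j
    rw [← h1, ← h2, Matrix.GeneralLinearGroup.coe_scalar, Matrix.scalar_apply]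
    by_cases hij : i = j
    · subst hij
      simp
    · simp [hij]
  · intro hker
    have hent : ∀ i j, (d : F) * ((h i j : K) : F) = (1 : Matrix (Fin n) (Fin n) F) i j := by
      intro i j
      rw [← scalarMulHom_apply K (d, h) i j, hker]
      rfl
    have h00 := hent ⟨0, hn⟩ ⟨0, hn⟩
    rw [Matrix.one_apply_eq] at h00
    have ht0 : (h ⟨0, hn⟩ ⟨0, hn⟩ : K) ≠ 0 := by
      intro h0
      rw [h0] at h00
      simp at h00
    refine ⟨Units.mk0 _ ht0, ?_⟩
    apply Prod.ext
    · simp only [kerHom, MonoidHom.prod_apply, MonoidHom.comp_apply, invMonoidHom_apply]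
      ext
      simp only [Units.coe_map, Units.val_inv_eq_inv_val, Units.val_mk0]
      change ((h ⟨0, hn⟩ ⟨0, hn⟩ : K) : F)⁻¹ = d
      exact (eq_inv_of_mul_eq_one_left h00).symm
    · simp only [kerHom, MonoidHom.prod_apply]
      ext i j
      rw [Matrix.GeneralLinearGroup.coe_scalar, Matrix.scalar_apply]
      have hij := hent i j
      have hii := hent i i
      rw [Matrix.one_apply_eq] at hii
      by_cases hc : i = j
      · subst hc
        rw [Matrix.diagonal_apply_eq]
        change ((h ⟨0, hn⟩ ⟨0, hn⟩ : K) : F) = ((h i i : K) : F)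
        have hd : (d : F) ≠ 0 := d.ne_zero
        apply mul_left_cancel₀ hd
        rw [h00, hii]
      · rw [Matrix.diagonal_apply_ne _ hc]
        rw [Matrix.one_apply_ne hc] at hij
        have hd : (d : F) ≠ 0 := d.ne_zero
        have := (mul_eq_zero.1 hij).resolve_left hd
        exact this.symm


/-- Counting the matrices `g ∈ GL_n(F)` with `g^σ` a scalar multiple of `g`. -/
theorem card_fixed_cosets [Fintype F] (K : Subfield F) (σ : F ≃+* F) (hK : ∀ a, a ∈ K ↔ σ a = a)
    {r : ℕ} (hr : 0 < r) (hσ : orderOf σ = r) (hn : 1 ≤ n) :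
    Nat.card {g : GL (Fin n) F // ∃ c : F, c ≠ 0 ∧
        (g : Matrix (Fin n) (Fin n) F).map σ = c • (g : Matrix (Fin n) (Fin n) F)} *
      (Nat.card K - 1) = (Nat.card F - 1) * Nat.card (GL (Fin n) K) := by
  classical
  have h1 : Nat.card {g : GL (Fin n) F // ∃ c : F, c ≠ 0 ∧
        (g : Matrix (Fin n) (Fin n) F).map σ = c • (g : Matrix (Fin n) (Fin n) F)}
      = Nat.card (scalarMulHom K n).range := by
    apply Nat.card_congr
    exact (Equiv.subtypeEquivRight (fun g => mem_range_scalarMulHom_iff K σ hK hr hσ hn g)).symm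
  have h2 : Nat.card (scalarMulHom K n).ker = Nat.card K - 1 := by
    rw [← kerHom_range K hn, ← Nat.card_units]
    exact (Nat.card_congr (MonoidHom.ofInjective (kerHom_injective K n)).toEquiv).symm
  have h3 := Subgroup.card_mul_index (scalarMulHom K n).ker
  rw [Subgroup.index_ker, Nat.card_prod, Nat.card_units] at h3
  rw [h1, ← h2, mul_comm, h3]

end

end Cfsg.Agent.Lib.Helper16
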