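import Mathlib

set_option autoImplicit false
set_option linter.style.haveILetI false

namespace Cfsg.Agent.Lib.Helper16

open Module

/-- A finite field with `q` elements embeds in a finite field with `q ^ n` elements. -/
theorem exists_ringHom_of_card_pow {F K : Type*} [Field F] [Fintype F] [Field K] [Fintype K]
    {q n : ℕ} (hn : n ≠ 0) (hF : Fintype.card F = q) (hK : Fintype.card K = q ^ n) :
    Nonempty (F →+* K) := by
  obtain ⟨p, hpF⟩ := CharP.exists F
  obtain ⟨p', hpK⟩ := CharP.exists K
  haveI : Fact p.Prime := ⟨CharP.char_is_prime F p⟩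
  haveI : Fact p'.Prime := ⟨CharP.char_is_prime K p'⟩
  letI : Algebra (ZMod p) F := ZMod.algebra F p
  letI : Algebra (ZMod p') K := ZMod.algebra K p'
  have h1 := FiniteField.pow_finrank_eq_card p F
  have h2 := FiniteField.pow_finrank_eq_card p' K
  have hk : 0 < finrank (ZMod p) F := Module.finrank_pos
  have hk' : 0 < finrank (ZMod p') K := Module.finrank_pos
  rw [hF] at h1
  rw [hK, ← h1, ← pow_mul] at h2
  have hpp : p = p' := by
    have hp : p.Prime := Fact.out
    have hp' : p'.Prime := Fact.out
    have : p ∣ p' ^ finrank (ZMod p') K := by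
      rw [h2]
      exact dvd_pow_self p (Nat.mul_ne_zero hk.ne' hn)
    exact (Nat.prime_dvd_prime_iff_eq hp hp').1 (hp.dvd_of_dvd_pow this)
  subst hpp
  have hkk : finrank (ZMod p) K = finrank (ZMod p) F * n :=
    Nat.pow_right_injective (Fact.out : p.Prime).two_le h2
  obtain ⟨f⟩ := FiniteField.nonempty_algHom_of_finrank_dvd (F := ZMod p) (K := F) (L := K)
    ⟨n, hkk⟩
  exact ⟨f.toRingHom⟩

end Cfsg.Agent.Lib.Helper16
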