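import Mathlib
import Cfsg.Agent.Lib.Helper15.SympOrder

set_option autoImplicit false
set_option linter.style.haveILetI false

namespace Cfsg.Agent.Lib.Helper16

open Module Matrix Cfsg.Agent.Lib.Helper15 Cfsg.Agent.Lib.Helper6

section
variable {F V : Type*} [Field F] [AddCommGroup V] [Module F V]

/-- The linear map from the standard space attached to two families. -/
def famMap {m : ℕ} (e f : Fin m → V) : (Fin m ⊕ Fin m → F) →ₗ[F] V where
  toFun x := ∑ i, x (Sum.inr i) • e i + ∑ i, x (Sum.inl i) • f i
  map_add' x y := by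
    simp only [Pi.add_apply, add_smul, Finset.sum_add_distrib]
    abel
  map_smul' c x := by
    simp only [Pi.smul_apply, smul_eq_mul, mul_smul, RingHom.id_apply, smul_add, Finset.smul_sum]

theorem famMap_apply {m : ℕ} (e f : Fin m → V) (x : Fin m ⊕ Fin m → F) :
    famMap e f x = ∑ i, x (Sum.inr i) • e i + ∑ i, x (Sum.inl i) • f i := rfl

theorem famMap_form (B : V →ₗ[F] V →ₗ[F] F) (halt : ∀ x, B x x = 0) {m : ℕ} {e f : Fin m → V}
    (h : IsSympFam B e f) (x y : Fin m ⊕ Fin m → F) :
    B (famMap e f x) (famMap e f y) = Cfsg.sympForm m F x y := by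
  classical
  rw [sympForm_eq_sum, famMap_apply, famMap_apply]
  simp only [map_add, map_sum, map_smul, LinearMap.add_apply, LinearMap.sum_apply,
    LinearMap.smul_apply, smul_eq_mul, h.ee, h.ff, h.ef, h.fe B halt, mul_zero,
    Finset.sum_const_zero, zero_add, add_zero, mul_ite, mul_one, mul_neg,
    Finset.sum_ite_eq, Finset.sum_ite_eq', Finset.mem_univ, if_true]
  rw [← Finset.sum_add_distrib]
  apply Finset.sum_congr rfl
  intro i _
  ring

end

section
variable {F V : Type*} [Field F] [AddCommGroup V] [Module F V] [Finite F] [FiniteDimensional F V]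

/-- A nondegenerate alternating form on a space of dimension `2m` over a finite field is
isometric to the standard one. -/
theorem exists_symp_equiv (B : V →ₗ[F] V →ₗ[F] F) (halt : ∀ x, B x x = 0)
    (hnd : ∀ x, (∀ y, B x y = 0) → x = 0) (m : ℕ) (hV : finrank F V = 2 * m) :
    ∃ Ψ : (Fin m ⊕ Fin m → F) ≃ₗ[F] V, ∀ x y, B (Ψ x) (Ψ y) = Cfsg.sympForm m F x y := by
  classical
  have hcard := card_sympFam B halt hnd m hV m le_rfl
  have hq : 2 ≤ Nat.card F := by
    have : 1 < Nat.card F := Finite.one_lt_card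
    exact this
  have hpos : 0 < Nat.card (SympFam B m) := by
    rw [hcard]
    apply Finset.prod_pos
    intro j hj
    rw [Finset.mem_range] at hj
    apply Nat.mul_pos
    · have : 1 < Nat.card F ^ (2 * (m - j)) := Nat.one_lt_pow (by omega) (by omega)
      omega
    · exact Nat.pow_pos (by omega)
  haveI := finite_sympFam B (V := V) m
  obtain ⟨⟨⟨e, f⟩, hef⟩⟩ : Nonempty (SympFam B m) := (Nat.card_pos_iff.1 hpos).1
  have hform := famMap_form B halt hef
  have hinj : Function.Injective (famMap (F := F) e f) := by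
    rw [← LinearMap.ker_eq_bot, Submodule.eq_bot_iff]
    intro x hx
    rw [LinearMap.mem_ker] at hx
    apply stdSymp_nondeg x
    intro y
    rw [stdSymp_apply, ← hform, hx, map_zero, LinearMap.zero_apply]
  have hfr : finrank F (Fin m ⊕ Fin m → F) = finrank F V := by
    rw [hV, Module.finrank_fintype_fun_eq_card, Fintype.card_sum, Fintype.card_fin]
    ring
  have hsurj := (LinearMap.injective_iff_surjective_of_finrank_eq_finrank hfr).1 hinj
  exact ⟨LinearEquiv.ofBijective (famMap e f) ⟨hinj, hsurj⟩, fun x y => hform x y⟩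

/-- A group acting faithfully and linearly on a space of dimension `2m` over a finite field,
preserving a nondegenerate alternating form, embeds in `Sp_{2m}(F)`. -/
theorem exists_hom_to_symp {G : Type*} [Group G] (ρ : G →* Module.End F V)
    (hρ : Function.Injective ρ) (B : V →ₗ[F] V →ₗ[F] F) (halt : ∀ x, B x x = 0)
    (hnd : ∀ x, (∀ y, B x y = 0) → x = 0) (m : ℕ) (hV : finrank F V = 2 * m)
    (hpres : ∀ g u v, B (ρ g u) (ρ g v) = B u v) :
    ∃ φ : G →* ↥(Matrix.symplecticGroup (Fin m) F), Function.Injective φ := by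
  classical
  obtain ⟨Ψ, hΨ⟩ := exists_symp_equiv B halt hnd m hV
  let f : G →* Matrix (Fin m ⊕ Fin m) (Fin m ⊕ Fin m) F :=
    { toFun := fun g => LinearMap.toMatrix' (Ψ.symm.toLinearMap ∘ₗ ρ g ∘ₗ Ψ.toLinearMap)
      map_one' := by
        rw [map_one]
        have : Ψ.symm.toLinearMap ∘ₗ (1 : Module.End F V) ∘ₗ Ψ.toLinearMap = LinearMap.id := by
          ext x
          simp
        rw [this, LinearMap.toMatrix'_id]
      map_mul' := by
        intro g h
        rw [map_mul, ← LinearMap.toMatrix'_comp]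
        congr 1
        ext x
        simp }
  have hf : ∀ g x, (f g) *ᵥ x = Ψ.symm (ρ g (Ψ x)) := by
    intro g x
    change LinearMap.toMatrix' _ *ᵥ x = _
    rw [LinearMap.toMatrix'_mulVec]
    rfl
  have hmem : ∀ g, f g ∈ Matrix.symplecticGroup (Fin m) F := by
    intro g
    rw [mem_symplecticGroup_iff_preserves]
    intro u v
    rw [hf, hf, ← hΨ, ← hΨ, LinearEquiv.apply_symm_apply, LinearEquiv.apply_symm_apply, hpres]
  refine ⟨MonoidHom.codRestrict f _ hmem, ?_⟩
  intro g h hgh
  apply hρ
  have h1 : f g = f h := congrArg Subtype.val hgh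
  ext v
  have h2 := congrArg (fun A => Ψ (A *ᵥ (Ψ.symm v))) h1
  simp only [hf, LinearEquiv.apply_symm_apply] at h2
  exact h2

end

end Cfsg.Agent.Lib.Helper16
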