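import Mathlib
import Cfsg.Prelude.Def_LieClassical
import Cfsg.Agent.Lib.Helper16.SympEmbed
import Cfsg.Agent.Lib.Helper16.FieldEmbed

set_option autoImplicit false
set_option linter.style.haveILetI false

namespace Cfsg.Agent.Lib.Helper16

open Module Matrix Polynomial Cfsg.Agent.Lib.Helper15 Cfsg.Agent.Lib.Helper6

/-- `[K : F] = 2` when `|K| = |F|^2`. -/
theorem finrank_eq_two_of_card {F K : Type*} [Field F] [Fintype F] [Field K] [Fintype K]
    [Algebra F K] {q : ℕ} (hF : Fintype.card F = q) (hK : Fintype.card K = q ^ 2) :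
    finrank F K = 2 := by
  have h := Module.card_eq_pow_finrank (K := F) (V := K)
  rw [hF, hK] at h
  have hq : 2 ≤ q := by
    rw [← hF]; exact Fintype.one_lt_card
  exact (Nat.pow_right_injective hq h).symm

/-- a nonzero `F`-linear functional on an extension field. -/
theorem exists_functional_one_ne_zero (F K : Type*) [Field F] [Field K] [Algebra F K] :
    ∃ T : K →ₗ[F] F, T 1 ≠ 0 := by
  by_contra hcon
  push Not at hcon
  have := (Module.forall_dual_apply_eq_zero_iff F (1 : K)).1 hcon
  exact one_ne_zero this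

theorem symp_field_extension_embedding {K F : Type*} [Field K] [Fintype K] [Field F] [Fintype F]
    {q : ℕ} (hK : Fintype.card K = q ^ 2) (hF : Fintype.card F = q) (a : ℕ) :
    ∃ φ : ↥(Matrix.symplecticGroup (Fin a) K) →* ↥(Matrix.symplecticGroup (Fin (2 * a)) F),
      Function.Injective φ := by
  classical
  obtain ⟨ι⟩ := exists_ringHom_of_card_pow (n := 2) (by norm_num) hF hK
  letI : Algebra F K := ι.toAlgebra
  have h2 : finrank F K = 2 := finrank_eq_two_of_card hF hK
  obtain ⟨T, hT⟩ := exists_functional_one_ne_zero F K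
  haveI : Module.Finite F K := Module.Finite.of_finite
  have hV : finrank F (Fin a ⊕ Fin a → K) = 2 * (2 * a) := by
    rw [Module.finrank_pi_fintype]
    simp only [h2, Finset.sum_const, Finset.card_univ, Fintype.card_sum, Fintype.card_fin,
      smul_eq_mul]
    ring
  -- the form
  let B : (Fin a ⊕ Fin a → K) →ₗ[F] (Fin a ⊕ Fin a → K) →ₗ[F] F :=
    LinearMap.mk₂ F (fun u v => T (Cfsg.sympForm a K u v))
      (fun u u' v => by rw [sympForm_add_left, map_add])
      (fun c u v => by
        rw [← algebraMap_smul K c u, sympForm_smul_left, ← Algebra.smul_def, map_smul])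
      (fun u v v' => by rw [sympForm_add_right, map_add])
      (fun c u v => by
        rw [← algebraMap_smul K c v, sympForm_smul_right, ← Algebra.smul_def, map_smul])
  have hB : ∀ u v, B u v = T (Cfsg.sympForm a K u v) := fun u v => rfl
  have halt : ∀ x, B x x = 0 := by
    intro x
    rw [hB, sympForm_self, map_zero]
  have hnd : ∀ x, (∀ y, B x y = 0) → x = 0 := by
    intro x hx
    by_contra hx0
    have : ¬ ∀ y, stdSymp a K x y = 0 := fun h => hx0 (stdSymp_nondeg x h)
    push Not at this
    obtain ⟨y, hy⟩ := this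
    rw [stdSymp_apply] at hy
    have h1 := hx ((Cfsg.sympForm a K x y)⁻¹ • y)
    rw [hB, sympForm_smul_right, inv_mul_cancel₀ hy] at h1
    exact hT h1
  let ρ : ↥(Matrix.symplecticGroup (Fin a) K) →* Module.End F (Fin a ⊕ Fin a → K) :=
    { toFun := fun g => (Matrix.toLin' g.1).restrictScalars F
      map_one' := by
        refine LinearMap.ext fun v => ?_
        simp
      map_mul' := by
        intro g h
        refine LinearMap.ext fun v => ?_
        simp [Matrix.toLin'_mul] }
  have hρ : ∀ g v, ρ g v = g.1 *ᵥ v := fun g v => rfl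
  have hρinj : Function.Injective ρ := by
    intro g h hgh
    apply Subtype.ext
    rw [Matrix.ext_iff_mulVec]
    intro v
    rw [← hρ, ← hρ, hgh]
  exact exists_hom_to_symp ρ hρinj B halt hnd (2 * a) hV (fun g u v => by
    rw [hB, hB, hρ, hρ, (mem_symplecticGroup_iff_preserves g.1).1 g.2])

/-- Elements fixed by `x ↦ x^|F|` lie in the image of `F`. -/
theorem mem_range_of_pow_card_eq {F K : Type*} [Field F] [Fintype F] [Field K] (ι : F →+* K)
    (x : K) (hx : x ^ Fintype.card F = x) : x ∈ ι.range := by
  classical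
  have hq : 1 < Fintype.card F := Fintype.one_lt_card
  have hP0 : (X ^ Fintype.card F - X : K[X]) ≠ 0 := FiniteField.X_pow_card_sub_X_ne_zero K hq
  have hdeg : (X ^ Fintype.card F - X : K[X]).natDegree = Fintype.card F :=
    FiniteField.X_pow_card_sub_X_natDegree_eq K hq
  have hsub : Finset.image ι Finset.univ ⊆ (X ^ Fintype.card F - X : K[X]).roots.toFinset := by
    intro y hy
    rw [Finset.mem_image] at hy
    obtain ⟨c, _, rfl⟩ := hy
    rw [Multiset.mem_toFinset, mem_roots hP0]
    simp only [IsRoot.def, eval_sub, eval_pow, eval_X]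
    rw [← map_pow, FiniteField.pow_card, sub_self]
  have hcard : (X ^ Fintype.card F - X : K[X]).roots.toFinset.card
      ≤ (Finset.image ι Finset.univ).card := by
    rw [Finset.card_image_of_injective _ ι.injective, Finset.card_univ]
    calc _ ≤ Multiset.card (X ^ Fintype.card F - X : K[X]).roots := Multiset.toFinset_card_le _
      _ ≤ (X ^ Fintype.card F - X : K[X]).natDegree := card_roots' _
      _ = _ := hdeg
  have heq := Finset.eq_of_subset_of_card_le hsub hcard
  have hxr : x ∈ (X ^ Fintype.card F - X : K[X]).roots.toFinset := by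
    rw [Multiset.mem_toFinset, mem_roots hP0]
    simp only [IsRoot.def, eval_sub, eval_pow, eval_X]
    rw [hx, sub_self]
  rw [← heq, Finset.mem_image] at hxr
  obtain ⟨c, _, hc⟩ := hxr
  exact ⟨c, hc⟩

/-- a functional on a quadratic extension vanishing exactly... nonzero and killing `F`. -/
theorem exists_functional_vanishing_on_base (F K : Type*) [Field F] [Field K] [Algebra F K]
    (h2 : finrank F K = 2) :
    ∃ T : K →ₗ[F] F, T ≠ 0 ∧ ∀ c : F, T (algebraMap F K c) = 0 := by
  have hlt : (Submodule.span F {(1 : K)}) < ⊤ := by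
    rw [lt_top_iff_ne_top]
    intro htop
    have h1 : finrank F (Submodule.span F {(1 : K)}) = 1 := finrank_span_singleton one_ne_zero
    rw [htop, finrank_top, h2] at h1
    omega
  obtain ⟨T, hT, hker⟩ := Submodule.exists_le_ker_of_lt_top _ hlt
  refine ⟨T, hT, fun c => ?_⟩
  have : algebraMap F K c ∈ Submodule.span F {(1 : K)} := by
    rw [Algebra.algebraMap_eq_smul_one]
    exact Submodule.smul_mem _ _ (Submodule.subset_span rfl)
  exact hker this

/-- the `q`-power map as a ring endomorphism of a field containing a field of order `q`. -/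
theorem exists_pow_card_ringHom {F K : Type*} [Field F] [Fintype F] [Field K] (ι : F →+* K) :
    ∃ σ : K →+* K, ∀ x, σ x = x ^ Fintype.card F := by
  obtain ⟨p, hpF⟩ := CharP.exists F
  haveI : Fact p.Prime := ⟨CharP.char_is_prime F p⟩
  haveI : CharP K p := by
    letI : Algebra F K := ι.toAlgebra
    exact charP_of_injective_algebraMap (algebraMap F K).injective p
  obtain ⟨k, _, hk⟩ := FiniteField.card F p
  refine ⟨iterateFrobenius K p k, fun x => ?_⟩
  rw [iterateFrobenius_def, hk]

theorem gu_embedding {K F : Type*} [Field K] [Fintype K] [Field F] [Fintype F]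
    {q : ℕ} (hK : Fintype.card K = q ^ 2) (hF : Fintype.card F = q) (m : ℕ) :
    ∃ φ : ↥(Cfsg.GU m K q) →* ↥(Matrix.symplecticGroup (Fin m) F), Function.Injective φ := by
  classical
  obtain ⟨ι⟩ := exists_ringHom_of_card_pow (n := 2) (by norm_num) hF hK
  letI : Algebra F K := ι.toAlgebra
  have hι : ∀ c : F, algebraMap F K c = ι c := fun c => rfl
  have h2 : finrank F K = 2 := finrank_eq_two_of_card hF hK
  obtain ⟨T, hT, hT0⟩ := exists_functional_vanishing_on_base F K h2
  obtain ⟨σ, hσ⟩ := exists_pow_card_ringHom ι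
  rw [hF] at hσ
  have hσι : ∀ c : F, σ (ι c) = ι c := by
    intro c
    rw [hσ, ← map_pow, ← hF, FiniteField.pow_card]
  have hσσ : ∀ x : K, σ (σ x) = x := by
    intro x
    rw [hσ, hσ, ← pow_mul, ← sq, ← hK, FiniteField.pow_card]
  have hσsurj : Function.Surjective σ := fun x => ⟨σ x, hσσ x⟩
  obtain ⟨t₀, ht₀⟩ : ∃ t₀, T t₀ ≠ 0 := by
    by_contra hcon
    push Not at hcon
    exact hT (LinearMap.ext hcon)
  haveI : Module.Finite F K := Module.Finite.of_finite
  have hV : finrank F (Fin m → K) = 2 * m := by
    rw [Module.finrank_pi_fintype]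
    simp only [h2, Finset.sum_const, Finset.card_univ, Fintype.card_fin, smul_eq_mul]
    ring
  have hh : ∀ u v : Fin m → K, Cfsg.hermForm m K q u v = ∑ i, u i * σ (v i) := by
    intro u v
    unfold Cfsg.hermForm
    simp only [hσ]
  let B : (Fin m → K) →ₗ[F] (Fin m → K) →ₗ[F] F :=
    LinearMap.mk₂ F (fun u v => T (Cfsg.hermForm m K q u v))
      (fun u u' v => by
        rw [hh, hh, hh, ← map_add, ← Finset.sum_add_distrib]
        simp only [Pi.add_apply, add_mul])
      (fun c u v => by
        rw [hh, hh, ← map_smul, Finset.smul_sum]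
        simp only [Pi.smul_apply, Algebra.smul_def, mul_assoc])
      (fun u v v' => by
        rw [hh, hh, hh, ← map_add, ← Finset.sum_add_distrib]
        simp only [Pi.add_apply, map_add, mul_add])
      (fun c u v => by
        rw [hh, hh, ← map_smul, Finset.smul_sum]
        simp only [Pi.smul_apply, Algebra.smul_def, map_mul, hι, hσι]
        congr 1
        apply Finset.sum_congr rfl
        intro i _
        ring)
  have hB : ∀ u v, B u v = T (Cfsg.hermForm m K q u v) := fun u v => rfl
  have halt : ∀ x, B x x = 0 := by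
    intro x
    rw [hB, hh]
    have hmem : ∑ i, x i * σ (x i) ∈ ι.range := by
      apply Subring.sum_mem
      intro i _
      apply mem_range_of_pow_card_eq
      rw [hF, ← hσ, map_mul, hσσ, mul_comm]
    obtain ⟨c, hc⟩ := hmem
    rw [← hc, ← hι, hT0]
  have hnd : ∀ x, (∀ y, B x y = 0) → x = 0 := by
    intro x hx
    by_contra hx0
    obtain ⟨i, hi⟩ : ∃ i, x i ≠ 0 := by
      by_contra hcon
      push Not at hcon
      exact hx0 (funext hcon)
    obtain ⟨c, hc⟩ := hσsurj ((x i)⁻¹ * t₀)
    have h1 := hx (Pi.single i c)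
    rw [hB, hh] at h1
    have h3 : ∑ j, x j * σ ((Pi.single i c : Fin m → K) j) = t₀ := by
      rw [Finset.sum_eq_single i]
      · rw [Pi.single_eq_same, hc, ← mul_assoc, mul_inv_cancel₀ hi, one_mul]
      · intro j _ hji
        rw [Pi.single_eq_of_ne hji, map_zero, mul_zero]
      · intro h; exact absurd (Finset.mem_univ i) h
    rw [h3] at h1
    exact ht₀ h1
  let ρ : ↥(Cfsg.GU m K q) →* Module.End F (Fin m → K) :=
    { toFun := fun g => (Matrix.toLin' ((g : GL (Fin m) K) : Matrix (Fin m) (Fin m) K)).restrictScalars F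
      map_one' := by
        refine LinearMap.ext fun v => ?_
        simp
      map_mul' := by
        intro g h
        refine LinearMap.ext fun v => ?_
        simp [Matrix.toLin'_mul] }
  have hρ : ∀ g v, ρ g v = ((g : GL (Fin m) K) : Matrix (Fin m) (Fin m) K) *ᵥ v := fun g v => rfl
  have hρinj : Function.Injective ρ := by
    intro g h hgh
    apply Subtype.ext
    apply Units.ext
    rw [Matrix.ext_iff_mulVec]
    intro v
    rw [← hρ, ← hρ, hgh]
  exact exists_hom_to_symp ρ hρinj B halt hnd m hV (fun g u v => by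
    rw [hB, hB, hρ, hρ]
    congr 1
    exact g.2 u v)

end Cfsg.Agent.Lib.Helper16
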