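import Mathlib
import Cfsg.Agent.Lib.Helper16.FieldEmbed
import Cfsg.Agent.Lib.Helper16.SympEmbed2

set_option autoImplicit false
set_option linter.style.haveILetI false
set_option linter.unusedSimpArgs false

namespace Cfsg.Agent.Lib.Helper16

open Module

/-- fibres of a surjective homomorphism of finite groups -/
theorem card_fiber_mul_of_surjective {G H : Type*} [Group G] [Group H] [Finite G] (φ : G →* H)
    (hφ : Function.Surjective φ) (h : H) :
    Nat.card {g : G // φ g = h} * Nat.card H = Nat.card G := by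
  obtain ⟨g₀, hg₀⟩ := hφ h
  have e : {g : G // φ g = h} ≃ φ.ker :=
    { toFun := fun g => ⟨g₀⁻¹ * g.1, by rw [MonoidHom.mem_ker, map_mul, map_inv, hg₀, g.2]; simp⟩
      invFun := fun k => ⟨g₀ * k.1, by rw [map_mul, hg₀, (MonoidHom.mem_ker).1 k.2, mul_one]⟩
      left_inv := fun g => by simp
      right_inv := fun k => by simp }
  rw [Nat.card_congr e]
  have h1 := Subgroup.card_mul_index φ.ker
  rw [Subgroup.index_ker, MonoidHom.range_eq_top.2 hφ] at h1
  rw [← h1]
  congr 1
  exact (Nat.card_congr (Subgroup.topEquiv (G := H)).toEquiv).symm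

/-- A field with `q ^ 2` elements has a "subfield" model with `q` elements. -/
theorem exists_field_card_sqrt {K : Type*} [Field K] [Fintype K] {q : ℕ}
    (hK : Fintype.card K = q ^ 2) :
    ∃ (F : Type) (_ : Field F) (_ : Fintype F), Fintype.card F = q := by
  obtain ⟨p, hpK⟩ := CharP.exists K
  haveI : Fact p.Prime := ⟨CharP.char_is_prime K p⟩
  obtain ⟨k, hp, hk⟩ := FiniteField.card K p
  rw [hK] at hk
  -- q = p ^ j
  have hq0 : q ≠ 0 := by
    rintro rfl
    have : 0 < p ^ (k : ℕ) := Nat.pow_pos hp.pos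
    omega
  have hdvd : q ∣ p ^ (k : ℕ) := ⟨q, by rw [← hk, sq]⟩
  obtain ⟨j, hj, rfl⟩ := (Nat.dvd_prime_pow hp).1 hdvd
  have hj0 : j ≠ 0 := by
    rintro rfl
    have h1 : (1 : ℕ) = p ^ (k : ℕ) := by simpa using hk
    have : 1 < p ^ (k : ℕ) := Nat.one_lt_pow k.ne_zero hp.one_lt
    omega
  letI : Fintype (GaloisField p j) := Fintype.ofFinite _
  refine ⟨GaloisField p j, inferInstance, inferInstance, ?_⟩
  rw [← Nat.card_eq_fintype_card, GaloisField.card p j hj0]

/-- the number of elements of given nonzero norm in a quadratic extension of finite fields -/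
theorem card_norm_fiber {F K : Type*} [Field F] [Fintype F] [Field K] [Fintype K] [Algebra F K]
    {q : ℕ} (hF : Fintype.card F = q) (hK : Fintype.card K = q ^ 2) (c : F) (hc : c ≠ 0) :
    Nat.card {x : K // Algebra.norm F x = c} = q + 1 := by
  classical
  have hq : 2 ≤ q := by rw [← hF]; exact Fintype.one_lt_card
  let φ : Kˣ →* Fˣ := Units.map (Algebra.norm F : K →* F)
  have hφ : Function.Surjective φ := FiniteField.unitsMap_norm_surjective F K
  have h1 := card_fiber_mul_of_surjective φ hφ (Units.mk0 c hc)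
  rw [Nat.card_units, Nat.card_units, Nat.card_eq_fintype_card (α := F),
    Nat.card_eq_fintype_card (α := K), hF, hK] at h1
  have e : {x : K // Algebra.norm F x = c} ≃ {u : Kˣ // φ u = Units.mk0 c hc} :=
    { toFun := fun x => ⟨Units.mk0 x.1 (by
          intro h0
          have := x.2
          rw [h0, Algebra.norm_zero] at this
          exact hc this.symm), by
        apply Units.ext
        simp only [φ, Units.coe_map, Units.val_mk0, MonoidHom.coe_coe]
        exact x.2⟩
      invFun := fun u => ⟨(u.1 : K), by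
        have := congrArg Units.val u.2
        simpa [φ] using this⟩
      left_inv := fun x => by simp
      right_inv := fun u => by
        apply Subtype.ext
        apply Units.ext
        rfl }
  rw [Nat.card_congr e]
  have h2 : q ^ 2 - 1 = (q + 1) * (q - 1) := by
    obtain ⟨r, rfl⟩ : ∃ r, q = r + 1 := ⟨q - 1, by omega⟩
    simp only [Nat.add_sub_cancel]
    have : (r + 1) ^ 2 = (r + 1 + 1) * r + 1 := by ring
    omega
  rw [h2] at h1
  exact Nat.eq_of_mul_eq_mul_right (by omega) h1

theorem pow_eq_algebraMap_norm {F K : Type*} [Field F] [Fintype F] [Field K] [Fintype K]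
    [Algebra F K] {q : ℕ} (hF : Fintype.card F = q) (hK : Fintype.card K = q ^ 2) (x : K) :
    x ^ (q + 1) = algebraMap F K (Algebra.norm F x) := by
  have hq : 2 ≤ q := by rw [← hF]; exact Fintype.one_lt_card
  have h1 := FiniteField.algebraMap_norm_eq_pow (K := F) (K' := K) (x := x)
  rw [Nat.card_eq_fintype_card, Nat.card_eq_fintype_card, hF, hK] at h1
  have h2 : (q ^ 2 - 1) / (q - 1) = q + 1 := by
    apply Nat.div_eq_of_eq_mul_right (by omega)
    have : q ^ 2 = (q - 1) * (q + 1) + 1 := by
      obtain ⟨r, rfl⟩ : ∃ r, q = r + 1 := ⟨q - 1, by omega⟩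
      simp only [Nat.add_sub_cancel]
      ring
    omega
  rw [h2] at h1
  exact h1.symm

/-- The number of solutions of `x ^ (q + 1) = c` in a field with `q ^ 2` elements, for `c` fixed by
the `q`-power map. -/
theorem card_pow_fiber {K : Type*} [Field K] [Fintype K] [DecidableEq K] {q : ℕ}
    (hK : Fintype.card K = q ^ 2) (c : K) (hc : c ^ q = c) :
    Nat.card {x : K // x ^ (q + 1) = c} = if c = 0 then 1 else q + 1 := by
  classical
  obtain ⟨F, _, _, hF⟩ := exists_field_card_sqrt hK
  obtain ⟨ι⟩ := exists_ringHom_of_card_pow (n := 2) (by norm_num) hF hK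
  letI : Algebra F K := ι.toAlgebra
  obtain ⟨c₀, hc₀⟩ := mem_range_of_pow_card_eq (algebraMap F K) c (by rw [hF]; exact hc)
  have hiff : ∀ x : K, x ^ (q + 1) = c ↔ Algebra.norm F x = c₀ := by
    intro x
    rw [pow_eq_algebraMap_norm hF hK, ← hc₀]
    exact (algebraMap F K).injective.eq_iff
  rw [Nat.card_congr (Equiv.subtypeEquivRight hiff)]
  by_cases h0 : c = 0
  · rw [if_pos h0]
    have hc0 : c₀ = 0 := by
      apply (algebraMap F K).injective
      rw [hc₀, h0, map_zero]
    rw [hc0]
    have : {x : K // Algebra.norm F x = 0} ≃ Unit :=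
      { toFun := fun _ => ()
        invFun := fun _ => ⟨0, Algebra.norm_zero⟩
        left_inv := fun x => by
          apply Subtype.ext
          exact (Algebra.norm_eq_zero_iff.1 x.2).symm
        right_inv := fun _ => rfl }
    rw [Nat.card_congr this]
    simp
  · rw [if_neg h0]
    apply card_norm_fiber hF hK
    intro hc0
    apply h0
    rw [← hc₀, hc0, map_zero]

/-- number of vectors of hermitian norm one in the standard space of dimension `d` -/
noncomputable def unitCount (K : Type*) [Field K] (q d : ℕ) : ℕ :=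
  Nat.card {x : Fin d → K // ∑ i, x i ^ (q + 1) = 1}

theorem unitCount_zero (K : Type*) [Field K] (q : ℕ) : unitCount K q 0 = 0 := by
  unfold unitCount
  rw [Nat.card_eq_zero]
  left
  constructor
  rintro ⟨x, hx⟩
  simp at hx

theorem unitCount_le (K : Type*) [Field K] [Fintype K] {q : ℕ} (hK : Fintype.card K = q ^ 2)
    (d : ℕ) : unitCount K q d ≤ q ^ (2 * d) := by
  unfold unitCount
  calc Nat.card {x : Fin d → K // ∑ i, x i ^ (q + 1) = 1}
      ≤ Nat.card (Fin d → K) := Nat.card_le_card_of_injective _ Subtype.val_injective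
    _ = q ^ (2 * d) := by
        rw [Nat.card_eq_fintype_card, Fintype.card_fun, Fintype.card_fin, hK, ← pow_mul]

theorem unitCount_succ (K : Type*) [Field K] [Fintype K] {q : ℕ} (hK : Fintype.card K = q ^ 2)
    (d : ℕ) :
    unitCount K q (d + 1) = unitCount K q d + (q + 1) * (q ^ (2 * d) - unitCount K q d) := by
  classical
  -- the sum of norms is fixed by the `q`-power map
  have hfix : ∀ y : Fin d → K, (1 - ∑ i, y i ^ (q + 1)) ^ q = 1 - ∑ i, y i ^ (q + 1) := by
    intro y
    obtain ⟨F, _, _, hF⟩ := exists_field_card_sqrt hK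
    obtain ⟨ι⟩ := exists_ringHom_of_card_pow (n := 2) (by norm_num) hF hK
    letI : Algebra F K := ι.toAlgebra
    have : 1 - ∑ i, y i ^ (q + 1) = algebraMap F K (1 - ∑ i, Algebra.norm F (y i)) := by
      rw [map_sub, map_one, map_sum]
      congr 1
      apply Finset.sum_congr rfl
      intro i _
      exact pow_eq_algebraMap_norm hF hK (y i)
    rw [this, ← map_pow, ← hF, FiniteField.pow_card]
  let S : (Fin d → K) → K := fun y => ∑ i, y i ^ (q + 1)
  have e : {x : Fin (d + 1) → K // ∑ i, x i ^ (q + 1) = 1}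
      ≃ Σ y : Fin d → K, {x₀ : K // x₀ ^ (q + 1) = 1 - S y} :=
    { toFun := fun x => ⟨Fin.tail x.1, ⟨x.1 0, by
        have := x.2
        rw [Fin.sum_univ_succ] at this
        simp only [S, Fin.tail]
        linear_combination this⟩⟩
      invFun := fun p => ⟨Fin.cons p.2.1 p.1, by
        rw [Fin.sum_univ_succ]
        simp only [Fin.cons_zero, Fin.cons_succ]
        have := p.2.2
        simp only [S] at this
        linear_combination this⟩
      left_inv := fun x => by
        apply Subtype.ext
        simp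
      right_inv := fun p => by
        apply Sigma.subtype_ext
        · simp
        · simp }
  unfold unitCount
  rw [Nat.card_congr e, Nat.card_sigma]
  have hfib : ∀ y : Fin d → K, Nat.card {x₀ : K // x₀ ^ (q + 1) = 1 - S y}
      = if S y = 1 then 1 else q + 1 := by
    intro y
    rw [card_pow_fiber hK _ (hfix y)]
    by_cases h : S y = 1
    · rw [if_pos h, if_pos (by rw [sub_eq_zero]; exact h.symm)]
    · rw [if_neg h, if_neg (by rw [sub_eq_zero]; exact fun h' => h h'.symm)]
  simp only [hfib]
  rw [Finset.sum_ite, Finset.sum_const, Finset.sum_const, smul_eq_mul, smul_eq_mul, mul_one]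
  have h1 : (Finset.univ.filter (fun y : Fin d → K => S y = 1)).card
      = Nat.card {x : Fin d → K // ∑ i, x i ^ (q + 1) = 1} := by
    rw [Nat.card_eq_fintype_card, Fintype.card_subtype]
  have h2 : (Finset.univ.filter (fun y : Fin d → K => ¬ S y = 1)).card
      = q ^ (2 * d) - Nat.card {x : Fin d → K // ∑ i, x i ^ (q + 1) = 1} := by
    rw [← h1]
    have h3 := Finset.card_filter_add_card_filter_not (s := Finset.univ)
      (fun y : Fin d → K => S y = 1)
    rw [Finset.card_univ, Fintype.card_fun, Fintype.card_fin, hK, ← pow_mul] at h3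
    omega
  rw [h1, h2, mul_comm]

/-- closed form from the recurrence -/
theorem unitCount_closed_aux (q : ℕ) (U : ℕ → ℕ) (h0 : U 0 = 0)
    (hle : ∀ d, U d ≤ q ^ (2 * d))
    (hsucc : ∀ d, U (d + 1) = U d + (q + 1) * (q ^ (2 * d) - U d)) (d : ℕ) :
    (q : ℤ) * U d = (q : ℤ) ^ (2 * d) - (-(q : ℤ)) ^ d := by
  induction d with
  | zero => simp [h0]
  | succ d ih =>
    rw [hsucc d]
    push_cast [hle d]
    have : (q : ℤ) ^ (2 * (d + 1)) = (q : ℤ) ^ (2 * d) * q ^ 2 := by
      rw [mul_add, pow_add]
    rw [this, pow_succ]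
    linear_combination (-(q : ℤ)) * ih

theorem unitCount_explicit_aux (q : ℕ) (hq : 0 < q) (U : ℕ → ℕ)
    (hcl : ∀ d, (q : ℤ) * U d = (q : ℤ) ^ (2 * d) - (-(q : ℤ)) ^ d) (i : ℕ) :
    U (i + 1) = q ^ i * (if Even i then q ^ (i + 1) + 1 else q ^ (i + 1) - 1) := by
  have h := hcl (i + 1)
  have hq' : (q : ℤ) ≠ 0 := by exact_mod_cast hq.ne'
  have hpos : 1 ≤ q ^ (i + 1) := Nat.one_le_pow _ _ hq
  have key : ((U (i + 1) : ℕ) : ℤ)
      = ((q ^ i * (if Even i then q ^ (i + 1) + 1 else q ^ (i + 1) - 1) : ℕ) : ℤ) := by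
    apply mul_left_cancel₀ hq'
    rw [h]
    by_cases he : Even i
    · rw [if_pos he]
      push_cast
      have h1 : (-(q : ℤ)) ^ (i + 1) = -((q : ℤ) ^ (i + 1)) := by
        rw [Odd.neg_pow (Even.add_one he)]
      rw [h1]
      ring
    · rw [if_neg he]
      push_cast [hpos]
      have ho : Odd i := Nat.not_even_iff_odd.1 he
      have h1 : (-(q : ℤ)) ^ (i + 1) = (q : ℤ) ^ (i + 1) := by
        rw [Even.neg_pow (Odd.add_one ho)]
      rw [h1]
      ring
  exact_mod_cast key

end Cfsg.Agent.Lib.Helper16
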