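import Mathlib
import Cfsg.Agent.Lib.Helper6.Unitary2
import Cfsg.Agent.Lib.Helper16.UnitaryCount

set_option autoImplicit false
set_option linter.style.haveILetI false
set_option linter.unusedSimpArgs false

namespace Cfsg.Agent.Lib.Helper16

open Module Cfsg.Agent.Lib.Helper6

section
variable {K : Type*} [Field K] [Fintype K] {q : ℕ} (hK : Fintype.card K = q ^ 2)
variable {V : Type*} [AddCommGroup V] [Module K V]
variable (B : V →ₛₗ[conjQ hK] V →ₗ[K] K)

/-- orthonormal frames of size `k` -/
abbrev ONF (k : ℕ) : Type _ :=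
  {v : Fin k → V // ∀ i j, B (v i) (v j) = if i = j then 1 else 0}

/-- forget the last vector -/
def ONF.init {k : ℕ} (x : ONF hK B (k + 1)) : ONF hK B k :=
  ⟨fun i => x.1 i.castSucc, fun i j => by
    rw [x.2]
    simp only [Fin.castSucc_inj]⟩

variable {B} in
/-- the fibre of `init` over `p` -/
def onfFiberEquiv (hS : B.IsSymm) {k : ℕ} (p : ONF hK B k) :
    {x : ONF hK B (k + 1) // x.init hK B = p} ≃
      {w : V // B w w = 1 ∧ ∀ i, B (p.1 i) w = 0} where
  toFun x := ⟨x.1.1 (Fin.last k), x.1.2 _ _ |>.trans (if_pos rfl), fun i => by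
    have h1 : p.1 i = x.1.1 i.castSucc := congrFun (congrArg Subtype.val x.2.symm) i
    rw [h1, x.1.2]
    rw [if_neg]
    exact (Fin.castSucc_lt_last i).ne⟩
  invFun w := ⟨⟨Fin.snoc p.1 w.1, fun i j => by
    induction i using Fin.lastCases with
    | last =>
      induction j using Fin.lastCases with
      | last => simp only [Fin.snoc_last, if_pos]; exact w.2.1
      | cast j =>
        simp only [Fin.snoc_last, Fin.snoc_castSucc]
        rw [if_neg (Fin.castSucc_lt_last j).ne']
        exact herm_zero_comm (conjQ hK) (conjQ_conjQ hK) B hS (w.2.2 j)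
    | cast i =>
      induction j using Fin.lastCases with
      | last =>
        simp only [Fin.snoc_last, Fin.snoc_castSucc]
        rw [if_neg (Fin.castSucc_lt_last i).ne]
        exact w.2.2 i
      | cast j =>
        simp only [Fin.snoc_castSucc, Fin.castSucc_inj]
        exact p.2 i j⟩, by
    apply Subtype.ext
    funext i
    simp [ONF.init]⟩
  left_inv x := by
    apply Subtype.ext
    apply Subtype.ext
    funext i
    induction i using Fin.lastCases with
    | last => simp
    | cast i =>
      simp only [Fin.snoc_castSucc]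
      exact congrFun (congrArg Subtype.val x.2.symm) i
  right_inv w := by
    apply Subtype.ext
    simp


variable {B} in
theorem onf_repr_inl {k m : ℕ} (β : Basis (Fin k ⊕ Fin m) K V)
    (hβ : ∀ i j, B (β i) (β j) = if i = j then 1 else 0) (a : Fin k ⊕ Fin m) (w : V) :
    B (β a) w = β.repr w a := by
  classical
  rw [orthonormal_apply (conjQ hK) B β hβ]
  simp only [Basis.repr_self]
  rw [Finset.sum_eq_single a]
  · simp
  · intro b _ hb
    rw [Finsupp.single_eq_of_ne hb, map_zero, zero_mul]
  · intro h; exact absurd (Finset.mem_univ a) h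

variable {B} in
theorem onf_self {k m : ℕ} (β : Basis (Fin k ⊕ Fin m) K V)
    (hβ : ∀ i j, B (β i) (β j) = if i = j then 1 else 0) (w : V)
    (hw : ∀ i, β.repr w (Sum.inl i) = 0) :
    B w w = ∑ j, (β.repr w (Sum.inr j)) ^ (q + 1) := by
  classical
  rw [orthonormal_apply (conjQ hK) B β hβ, Fintype.sum_sum_type]
  have h1 : ∑ i : Fin k, conjQ hK (β.repr w (Sum.inl i)) * β.repr w (Sum.inl i) = 0 := by
    apply Finset.sum_eq_zero
    intro i _
    rw [hw i, mul_zero]
  rw [h1, zero_add]
  apply Finset.sum_congr rfl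
  intro j _
  rw [conjQ_apply, pow_succ]

theorem repr_equivFun_symm {ι : Type*} [Finite ι] (β : Basis ι K V) (f : ι → K) (a : ι) :
    β.repr (β.equivFun.symm f) a = f a := by
  have h : β.repr (β.equivFun.symm f) a = β.equivFun (β.equivFun.symm f) a := rfl
  rw [h, LinearEquiv.apply_symm_apply]

variable {B} in
/-- the second description of the fibre -/
noncomputable def onfFiberEquiv2 {k m : ℕ} (p : ONF hK B k) (β : Basis (Fin k ⊕ Fin m) K V)
    (hβ : ∀ i j, B (β i) (β j) = if i = j then 1 else 0) (hp : ∀ i, β (Sum.inl i) = p.1 i) :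
    {w : V // B w w = 1 ∧ ∀ i, B (p.1 i) w = 0} ≃
      {b : Fin m → K // ∑ j, b j ^ (q + 1) = 1} where
  toFun w := ⟨fun j => β.repr w.1 (Sum.inr j), by
    rw [← onf_self hK β hβ w.1]
    · exact w.2.1
    · intro i
      rw [← onf_repr_inl hK β hβ, hp]
      exact w.2.2 i⟩
  invFun b := ⟨β.equivFun.symm (Sum.elim 0 b.1), by
    have h0 : ∀ i, β.repr (β.equivFun.symm (Sum.elim 0 b.1)) (Sum.inl i) = 0 := by
      intro i
      rw [repr_equivFun_symm]; rfl
    have h1 : ∀ j, β.repr (β.equivFun.symm (Sum.elim 0 b.1)) (Sum.inr j) = b.1 j := by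
      intro j
      rw [repr_equivFun_symm]; rfl
    refine ⟨?_, ?_⟩
    · rw [onf_self hK β hβ _ h0]
      simp only [h1]
      exact b.2
    · intro i
      rw [← hp, onf_repr_inl hK β hβ]
      exact h0 i⟩
  left_inv w := by
    apply Subtype.ext
    simp only
    apply β.equivFun.injective
    rw [LinearEquiv.apply_symm_apply]
    funext a
    rcases a with i | j
    · simp only [Sum.elim_inl, Pi.zero_apply, Basis.equivFun_apply]
      rw [← onf_repr_inl hK β hβ, hp]
      exact (w.2.2 i).symm
    · simp
  right_inv b := by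
    apply Subtype.ext
    funext j
    simp only
    rw [repr_equivFun_symm]; rfl


theorem finite_onf [FiniteDimensional K V] (k : ℕ) : Finite (ONF hK B k) := by
  haveI : Finite V := Module.finite_of_finite K
  infer_instance

variable {B} in
theorem card_onf_succ [FiniteDimensional K V] (hS : B.IsSymm) (hB : B.Nondegenerate) (k : ℕ) :
    Nat.card (ONF hK B (k + 1)) = Nat.card (ONF hK B k) * unitCount K q (finrank K V - k) := by
  classical
  haveI := finite_onf hK B k
  haveI := finite_onf hK B (k + 1)
  haveI : Fintype (ONF hK B k) := Fintype.ofFinite _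
  rw [Nat.card_congr (Equiv.sigmaFiberEquiv (ONF.init hK B (k := k))).symm, Nat.card_sigma]
  have hfib : ∀ p : ONF hK B k, Nat.card {x : ONF hK B (k + 1) // x.init hK B = p} =
      unitCount K q (finrank K V - k) := by
    intro p
    obtain ⟨β, hβ, hp⟩ := herm_extend (conjQ hK) (conjQ_ne_id hK) (conjQ_conjQ hK) B hS hB p.1 p.2
    rw [Nat.card_congr (onfFiberEquiv hK hS p), Nat.card_congr (onfFiberEquiv2 hK p β hβ hp)]
    rfl
  simp only [hfib, Finset.sum_const, Finset.card_univ, smul_eq_mul]
  rw [Nat.card_eq_fintype_card (α := ONF hK B k)]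

variable {B} in
theorem card_onf [FiniteDimensional K V] (hS : B.IsSymm) (hB : B.Nondegenerate) (k : ℕ) :
    Nat.card (ONF hK B k) = ∏ j ∈ Finset.range k, unitCount K q (finrank K V - j) := by
  induction k with
  | zero =>
    rw [Finset.range_zero, Finset.prod_empty]
    haveI : Unique (ONF hK B 0) :=
      { default := ⟨Fin.elim0, fun i => i.elim0⟩
        uniq := fun x => by
          apply Subtype.ext
          funext i
          exact i.elim0 }
    exact Nat.card_unique
  | succ k ih =>
    rw [card_onf_succ hK hS hB k, ih, Finset.prod_range_succ]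

variable {B} in
theorem card_onf_full [FiniteDimensional K V] (hS : B.IsSymm) (hB : B.Nondegenerate) (n : ℕ)
    (hn : finrank K V = n) :
    Nat.card (ONF hK B n) = ∏ i ∈ Finset.range n, unitCount K q (i + 1) := by
  rw [card_onf hK hS hB, hn, ← Finset.prod_range_reflect]
  apply Finset.prod_congr rfl
  intro j hj
  rw [Finset.mem_range] at hj
  congr 1
  omega

end

end Cfsg.Agent.Lib.Helper16
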