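import Mathlib
import Cfsg.Agent.Lib.Helper6.Unitary2
import Cfsg.Agent.Lib.Helper16.UnitaryCount
import Cfsg.Agent.Lib.Helper16.UnitaryCount2

set_option autoImplicit false
set_option linter.style.haveILetI false
set_option linter.unusedSimpArgs false

namespace Cfsg.Agent.Lib.Helper16

open Module Cfsg.Agent.Lib.Helper6 Matrix Cfsg

section
variable {K : Type*} [Field K] [Fintype K] {q : ℕ} (hK : Fintype.card K = q ^ 2)


theorem hermB_nondeg (n : ℕ) : (hermB n hK).Nondegenerate := by
  have h1 : (hermB n hK).SeparatingLeft := by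
    intro x hx
    have hx' : ∀ y, hermForm n K q x y = 0 := by
      intro y
      have := hx y
      rw [hermB_apply] at this
      exact herm_swap_zero hK this
    exact herm_nondeg hK x hx'
  exact ⟨h1, herm_sepRight (conjQ hK) (conjQ_conjQ hK) _ (hermB_isSymm hK) h1⟩


/-- a matrix with orthonormal columns preserves the form -/
theorem pres_of_orthonormal_cols {n : ℕ} (v : Fin n → (Fin n → K))
    (hv : ∀ i j, hermB n hK (v i) (v j) = if i = j then 1 else 0) (x y : Fin n → K) :
    hermForm n K q ((Matrix.of fun l i => v i l) *ᵥ x) ((Matrix.of fun l i => v i l) *ᵥ y)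
      = hermForm n K q x y := by
  classical
  have hM : ∀ z : Fin n → K, (Matrix.of fun l i => v i l) *ᵥ z = ∑ i, z i • v i := by
    intro z
    funext l
    simp only [Matrix.mulVec, dotProduct, Matrix.of_apply, Finset.sum_apply, Pi.smul_apply,
      smul_eq_mul]
    apply Finset.sum_congr rfl
    intro i _
    ring
  rw [← hermB_apply hK, hM, hM]
  simp only [map_sum, map_smulₛₗ, LinearMap.sum_apply, LinearMap.smul_apply, map_smul, hv,
    smul_eq_mul, mul_ite, mul_one, mul_zero, Finset.sum_ite_eq', Finset.sum_ite_eq,
    Finset.mem_univ, if_true]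
  simp only [hermForm, conjQ_apply]
  apply Finset.sum_congr rfl
  intro i _
  simp only [RingHom.id_apply]

/-- `GU` is in bijection with the orthonormal frames of full size -/
theorem card_GU_eq_card_onf (n : ℕ) :
    Nat.card (Cfsg.GU n K q) = Nat.card (ONF hK (hermB n hK) n) := by
  classical
  let f : Cfsg.GU n K q → ONF hK (hermB n hK) n := fun g =>
    ⟨fun i => ((g : Matrix.GeneralLinearGroup (Fin n) K) : Matrix (Fin n) (Fin n) K) *ᵥ
      Pi.single i 1, fun i j => by
      rw [hermB_apply, GU_pres, herm_single_right hK, Pi.single_apply]⟩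
  apply Nat.card_eq_of_bijective f
  constructor
  · intro g g' h
    apply Subtype.ext
    apply Units.ext
    ext l i
    have h1 := congrFun (congrFun (congrArg Subtype.val h) i) l
    simp only [f, Matrix.mulVec_single_one, Matrix.col_apply] at h1
    exact h1
  · intro v
    obtain ⟨g, hg⟩ := exists_GU_of_pres hK (Matrix.of fun l i => v.1 i l)
      (pres_of_orthonormal_cols hK v.1 v.2)
    refine ⟨g, ?_⟩
    apply Subtype.ext
    funext i l
    simp only [f, hg, Matrix.mulVec_single_one, Matrix.col_apply, Matrix.of_apply]


include hK in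
theorem unitCount_explicit (i : ℕ) :
    unitCount K q (i + 1) = q ^ i * (if Even i then q ^ (i + 1) + 1 else q ^ (i + 1) - 1) := by
  have hq : 2 ≤ q := two_le_q hK
  exact unitCount_explicit_aux q (by omega) (unitCount K q)
    (unitCount_closed_aux q (unitCount K q) (unitCount_zero K q) (unitCount_le K hK)
      (unitCount_succ K hK)) i

include hK in
/-- the order of the general unitary group -/
theorem card_GU (n : ℕ) :
    Nat.card (Cfsg.GU n K q) = q ^ (n * (n - 1) / 2) *
      ∏ i ∈ Finset.range n, (if Even i then q ^ (i + 1) + 1 else q ^ (i + 1) - 1) := by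
  rw [card_GU_eq_card_onf hK, card_onf_full hK (hermB_isSymm hK) (hermB_nondeg hK n) n
    (Module.finrank_fin_fun K)]
  simp only [unitCount_explicit hK]
  rw [Finset.prod_mul_distrib, Finset.prod_pow_eq_pow_sum, Finset.sum_range_id]

end

end Cfsg.Agent.Lib.Helper16
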