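import Mathlib
import Cfsg.Agent.Lib.Helper6.Unitary2
import Cfsg.Agent.Lib.Helper16.UnitaryCount3

set_option autoImplicit false
set_option linter.style.haveILetI false
set_option linter.unusedSimpArgs false
set_option linter.unusedSectionVars false

namespace Cfsg.Agent.Lib.Helper16

open Module Cfsg.Agent.Lib.Helper6 Matrix Cfsg

section
variable {K : Type*} [Field K] [Fintype K] {q : ℕ} (hK : Fintype.card K = q ^ 2)

/-- the determinant on `GU` -/
noncomputable def guDet (n : ℕ) : Cfsg.GU n K q →* Kˣ :=
  Matrix.GeneralLinearGroup.det.comp (Cfsg.GU n K q).subtype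

theorem guDet_val (n : ℕ) (g : Cfsg.GU n K q) :
    ((guDet (K := K) (q := q) n g : Kˣ) : K) =
      ((g : Matrix.GeneralLinearGroup (Fin n) K) : Matrix (Fin n) (Fin n) K).det := rfl

/-- the kernel of the determinant on `GU` is `SU` -/
theorem card_ker_guDet (n : ℕ) :
    Nat.card (guDet (K := K) (q := q) n).ker = Nat.card (Cfsg.SU n K q) := by
  classical
  symm
  let f : Cfsg.SU n K q → (guDet (K := K) (q := q) n).ker := fun s =>
    ⟨⟨Matrix.SpecialLinearGroup.toGL s.1, s.2⟩, by
      rw [MonoidHom.mem_ker]
      apply Units.ext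
      rw [guDet_val]
      exact s.1.2⟩
  apply Nat.card_eq_of_bijective f
  constructor
  · intro s s' h
    apply Subtype.ext
    apply Matrix.SpecialLinearGroup.toGL_injective
    exact congrArg (fun x => (x.1.1 : Matrix.GeneralLinearGroup (Fin n) K)) h
  · intro g
    have hdet : ((g.1 : Matrix.GeneralLinearGroup (Fin n) K) : Matrix (Fin n) (Fin n) K).det = 1 := by
      have := g.2
      rw [MonoidHom.mem_ker] at this
      rw [← guDet_val, this, Units.val_one]
    refine ⟨⟨⟨_, hdet⟩, ?_⟩, ?_⟩
    · intro u v
      exact g.1.2 u v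
    · apply Subtype.ext
      apply Subtype.ext
      apply Units.ext
      rfl

include hK in
/-- the image of the determinant on `GU` is the group of norm-one elements -/
theorem card_range_guDet (n : ℕ) (hn : 1 ≤ n) :
    Nat.card (guDet (K := K) (q := q) n).range = q + 1 := by
  classical
  have h1 : Nat.card {x : K // x ^ (q + 1) = 1} = q + 1 := by
    rw [card_pow_fiber hK 1 (one_pow q), if_neg one_ne_zero]
  rw [← h1]
  let f : (guDet (K := K) (q := q) n).range → {x : K // x ^ (q + 1) = 1} := fun u =>
    ⟨((u.1 : Kˣ) : K), by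
      obtain ⟨g, hg⟩ := u.2
      rw [← hg, guDet_val]
      exact det_norm_of_pres hK _ (GU_pres g)⟩
  apply Nat.card_eq_of_bijective f
  constructor
  · intro u u' h
    apply Subtype.ext
    apply Units.ext
    exact congrArg Subtype.val h
  · intro x
    let d : Fin n → K := Function.update (fun _ => (1 : K)) ⟨0, hn⟩ x.1
    have hd : ∀ i, d i ^ (q + 1) = 1 := by
      intro i
      by_cases hi : i = ⟨0, hn⟩
      · subst hi; simp only [d, Function.update_self]; exact x.2
      · simp only [d, Function.update_of_ne hi, one_pow]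
    obtain ⟨g, hg⟩ := exists_GU_of_pres hK (Matrix.diagonal d) (diag_pres d hd)
    refine ⟨⟨guDet n g, ⟨g, rfl⟩⟩, ?_⟩
    apply Subtype.ext
    simp only [f]
    rw [guDet_val, hg, Matrix.det_diagonal]
    rw [Finset.prod_eq_single (⟨0, hn⟩ : Fin n)]
    · simp only [d, Function.update_self]
    · intro i _ hi
      simp only [d, Function.update_of_ne hi]
    · intro h; exact absurd (Finset.mem_univ _) h

include hK in
theorem card_SU_mul (n : ℕ) (hn : 1 ≤ n) :
    (q + 1) * Nat.card (Cfsg.SU n K q) = Nat.card (Cfsg.GU n K q) := by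
  have h1 := Subgroup.card_mul_index (guDet (K := K) (q := q) n).ker
  rw [Subgroup.index_ker, card_range_guDet hK n hn, card_ker_guDet] at h1
  rw [← h1, mul_comm]

end

end Cfsg.Agent.Lib.Helper16
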