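import Mathlib
import Cfsg.Agent.Lib.Helper6.Unitary2
import Cfsg.Agent.Lib.Helper16.UnitaryCount4
import Cfsg.Agent.Lib.Helper16.FieldAutGL

set_option autoImplicit false
set_option linter.style.haveILetI false
set_option linter.unusedSimpArgs false
set_option linter.unusedSectionVars false

namespace Cfsg.Agent.Lib.Helper16

open Module Cfsg.Agent.Lib.Helper6 Matrix Cfsg

section
variable {F : Type*} [Field F] [Fintype F] {q n : ℕ}

/-- matrix form of the preservation of the hermitian form -/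
theorem pres_iff (hF : Fintype.card F = q ^ 2) (M : Matrix (Fin n) (Fin n) F) :
    (∀ x y, hermForm n F q (M *ᵥ x) (M *ᵥ y) = hermForm n F q x y) ↔
      Mᵀ * M.map (conjQ hF) = 1 := by
  classical
  constructor
  · intro hM
    ext i j
    have := hM (Pi.single i 1) (Pi.single j 1)
    rw [herm_single_right hF] at this
    rw [Matrix.mul_apply, Matrix.one_apply]
    have e : ∀ k, (M *ᵥ Pi.single k 1) = fun l => M l k := by
      intro k; ext l; simp
    rw [e i, e j] at this
    simp only [hermForm] at this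
    simp only [Matrix.transpose_apply, Matrix.map_apply, conjQ_apply]
    rw [this, Pi.single_apply]
    simp [eq_comm]
  · intro h x y
    have h1 := pres_of_orthonormal_cols hF (fun i l => M l i) (by
      intro i j
      rw [hermB_apply]
      have h2 := congrFun (congrFun h j) i
      rw [Matrix.mul_apply, Matrix.one_apply] at h2
      simp only [Matrix.transpose_apply, Matrix.map_apply, conjQ_apply] at h2
      simp only [hermForm]
      rw [h2]
      simp only [eq_comm]) x y
    exact h1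

end

section
variable {K : Type*} [Field K] [Fintype K] {q q₀ n : ℕ} (K₀ : Subfield K) [Fintype K₀]
variable (hK : Fintype.card K = q ^ 2) (hK₀ : Fintype.card K₀ = q₀ ^ 2)
variable (hpow : ∀ x : K₀, (x : K) ^ q = ((x ^ q₀ : K₀) : K))

include hpow in
theorem key_identity (d : K) (M : Matrix (Fin n) (Fin n) K₀) :
    (d • M.map K₀.subtype)ᵀ * (d • M.map K₀.subtype).map (conjQ hK) =
      d ^ (q + 1) • (Mᵀ * M.map (conjQ hK₀)).map K₀.subtype := by
  ext i j
  simp only [Matrix.mul_apply, Matrix.smul_apply, Matrix.map_apply, Matrix.transpose_apply,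
    conjQ_apply, smul_eq_mul, Subfield.coe_subtype]
  push_cast
  rw [Finset.mul_sum]
  apply Finset.sum_congr rfl
  intro l _
  rw [mul_pow, hpow]
  push_cast
  ring

/-- the norm-one subgroup -/
def normOne (K : Type*) [Field K] (q : ℕ) : Subgroup Kˣ := (powMonoidHom (q + 1) : Kˣ →* Kˣ).ker

theorem mem_normOne (t : Kˣ) : t ∈ normOne K q ↔ (t : K) ^ (q + 1) = 1 := by
  rw [normOne, MonoidHom.mem_ker, powMonoidHom_apply, Units.ext_iff, Units.val_pow_eq_pow_val,
    Units.val_one]

include hK in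
theorem card_normOne : Nat.card (normOne K q) = q + 1 := by
  classical
  have h1 : Nat.card {x : K // x ^ (q + 1) = 1} = q + 1 := by
    rw [card_pow_fiber hK 1 (one_pow q), if_neg one_ne_zero]
  rw [← h1]
  let f : normOne K q → {x : K // x ^ (q + 1) = 1} := fun t =>
    ⟨((t.1 : Kˣ) : K), (mem_normOne t.1).1 t.2⟩
  apply Nat.card_eq_of_bijective f
  constructor
  · intro t t' h
    apply Subtype.ext
    apply Units.ext
    exact congrArg Subtype.val h
  · intro x
    have hx0 : x.1 ≠ 0 := by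
      intro h0
      have := x.2
      rw [h0, zero_pow (by omega)] at this
      exact zero_ne_one this
    exact ⟨⟨Units.mk0 x.1 hx0, (mem_normOne _).2 x.2⟩, Subtype.ext rfl⟩

theorem mem_GU_iff (g : GL (Fin n) K) :
    g ∈ Cfsg.GU n K q ↔ ∀ x y, hermForm n K q ((g : Matrix (Fin n) (Fin n) K) *ᵥ x)
      ((g : Matrix (Fin n) (Fin n) K) *ᵥ y) = hermForm n K q x y := Iff.rfl

theorem scalarMulHom_coe (dh : Kˣ × GL (Fin n) K₀) :
    (scalarMulHom K₀ n dh : Matrix (Fin n) (Fin n) K) =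
      (dh.1 : K) • (dh.2 : Matrix (Fin n) (Fin n) K₀).map K₀.subtype := by
  ext i j
  rw [scalarMulHom_apply]
  rfl

/-- the map `(t, h) ↦ t • h` from norm-one scalars times `GU_n(q₀)` to `GU_n(q)`. -/
noncomputable def guScalarHom (n : ℕ) : normOne K q × Cfsg.GU n K₀ q₀ →* Cfsg.GU n K q :=
  ((scalarMulHom K₀ n).comp
    (MonoidHom.prodMap (normOne K q).subtype (Cfsg.GU n K₀ q₀).subtype)).codRestrict
    (Cfsg.GU n K q) (by
      rintro ⟨t, h⟩
      rw [mem_GU_iff, pres_iff hK]
      rw [MonoidHom.comp_apply, scalarMulHom_coe, key_identity K₀ hK hK₀ hpow]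
      simp only [MonoidHom.prodMap, MonoidHom.prod_apply, MonoidHom.comp_apply,
        Subgroup.coe_subtype, MonoidHom.coe_fst, MonoidHom.coe_snd]
      rw [(mem_normOne t.1).1 t.2, one_smul, (pres_iff hK₀ _).1 ((mem_GU_iff h.1).1 h.2)]
      ext i j
      simp only [Matrix.map_apply, Matrix.one_apply, Subfield.coe_subtype]
      split_ifs <;> simp)


theorem guScalarHom_coe (th : normOne K q × Cfsg.GU n K₀ q₀) :
    ((guScalarHom K₀ hK hK₀ hpow n th : GL (Fin n) K) : Matrix (Fin n) (Fin n) K) =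
      ((th.1 : Kˣ) : K) • ((th.2 : GL (Fin n) K₀) : Matrix (Fin n) (Fin n) K₀).map K₀.subtype := by
  unfold guScalarHom
  rw [MonoidHom.codRestrict_apply]
  simp only
  rw [MonoidHom.comp_apply, scalarMulHom_coe]
  rfl

theorem smul_identity {F : Type*} [Field F] [Fintype F] {q : ℕ} (hF : Fintype.card F = q ^ 2)
    (c : F) (M : Matrix (Fin n) (Fin n) F) :
    (c • M)ᵀ * (c • M).map (conjQ hF) = c ^ (q + 1) • (Mᵀ * M.map (conjQ hF)) := by
  ext i j
  simp only [Matrix.mul_apply, Matrix.smul_apply, Matrix.map_apply, Matrix.transpose_apply,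
    conjQ_apply, smul_eq_mul]
  rw [Finset.mul_sum]
  apply Finset.sum_congr rfl
  intro l _
  rw [mul_pow]
  ring

include hpow in
theorem mem_range_guScalarHom_iff (σ : K ≃+* K) (hσK : ∀ a, a ∈ K₀ ↔ σ a = a) {r : ℕ}
    (hr : 0 < r) (hσ : orderOf σ = r) (hn : 1 ≤ n) (g : Cfsg.GU n K q) :
    g ∈ (guScalarHom K₀ hK hK₀ hpow n).range ↔
      ∃ c : K, c ≠ 0 ∧ ((g : GL (Fin n) K) : Matrix (Fin n) (Fin n) K).map σ =
        c • ((g : GL (Fin n) K) : Matrix (Fin n) (Fin n) K) := by
  classical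
  constructor
  · rintro ⟨th, rfl⟩
    apply (mem_range_scalarMulHom_iff K₀ σ hσK hr hσ hn _).1
    exact ⟨(th.1.1, th.2.1), rfl⟩
  · intro hc
    obtain ⟨⟨d, h⟩, hdh⟩ := (mem_range_scalarMulHom_iff K₀ σ hσK hr hσ hn g.1).2 hc
    have hgM : ((g : GL (Fin n) K) : Matrix (Fin n) (Fin n) K) =
        (d : K) • (h : Matrix (Fin n) (Fin n) K₀).map K₀.subtype := by
      rw [← hdh, scalarMulHom_coe]
    have h1 := (pres_iff hK _).1 ((mem_GU_iff g.1).1 g.2)
    rw [hgM, key_identity K₀ hK hK₀ hpow] at h1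
    set P : Matrix (Fin n) (Fin n) K₀ :=
      (h : Matrix (Fin n) (Fin n) K₀)ᵀ * (h : Matrix (Fin n) (Fin n) K₀).map (conjQ hK₀) with hP
    have hd0 : (d : K) ≠ 0 := d.ne_zero
    have hν0 : (d : K) ^ (q + 1) ≠ 0 := pow_ne_zero _ hd0
    have hent : ∀ i j, ((P i j : K₀) : K) = ((d : K) ^ (q + 1))⁻¹ * (if i = j then 1 else 0) := by
      intro i j
      have h2 := congrFun (congrFun h1 i) j
      simp only [Matrix.smul_apply, Matrix.map_apply, Subfield.coe_subtype, smul_eq_mul,
        Matrix.one_apply] at h2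
      rw [← h2]
      field_simp
    set μ : K₀ := P ⟨0, hn⟩ ⟨0, hn⟩ with hμ
    have hμK : (μ : K) = ((d : K) ^ (q + 1))⁻¹ := by
      rw [hμ, hent, if_pos rfl, mul_one]
    have hμ0 : μ ≠ 0 := by
      intro h0
      rw [h0] at hμK
      exact inv_ne_zero hν0 hμK.symm
    have hPμ : P = μ • (1 : Matrix (Fin n) (Fin n) K₀) := by
      ext i j
      rw [hent, Matrix.smul_apply, Matrix.one_apply, smul_eq_mul]
      push_cast
      rw [hμK]
      split_ifs <;> simp
    have hdq : (d : K) ^ (q ^ 2) = d := by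
      rw [← hK]; exact FiniteField.pow_card _
    have hμq : μ ^ q₀ = μ := by
      apply Subtype.ext
      rw [← hpow, hμK, inv_pow, ← pow_mul]
      congr 1
      have : (q + 1) * q = q ^ 2 + q := by ring
      rw [this, pow_add, hdq, pow_succ, mul_comm]
    have hcard := card_pow_fiber hK₀ μ hμq
    rw [if_neg hμ0] at hcard
    have hne : Nonempty {x : K₀ // x ^ (q₀ + 1) = μ} := by
      by_contra hemp
      rw [not_nonempty_iff] at hemp
      rw [Nat.card_of_isEmpty] at hcard
      omega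
    obtain ⟨⟨e, he⟩⟩ := hne
    have he0 : e ≠ 0 := by
      intro h0
      rw [h0, zero_pow (by omega)] at he
      exact hμ0 he.symm
    -- the unitary matrix over `K₀`
    have hpres : (e⁻¹ • (h : Matrix (Fin n) (Fin n) K₀))ᵀ *
        (e⁻¹ • (h : Matrix (Fin n) (Fin n) K₀)).map (conjQ hK₀) = 1 := by
      rw [smul_identity hK₀, ← hP, hPμ, smul_smul, inv_pow, he, inv_mul_cancel₀ hμ0, one_smul]
    obtain ⟨h', hh'⟩ := exists_GU_of_pres hK₀ _ ((pres_iff hK₀ _).2 hpres)
    have ht : (Units.mk0 ((d : K) * (e : K)) (mul_ne_zero hd0 (by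
        intro h0; exact he0 (Subtype.ext h0))) : Kˣ) ∈ normOne K q := by
      rw [mem_normOne, Units.val_mk0, mul_pow]
      have h3 : (e : K) ^ (q + 1) = (μ : K) := by
        rw [pow_succ, hpow, ← he]
        push_cast
        rw [pow_succ]
      rw [h3, hμK, mul_inv_cancel₀ hν0]
    refine ⟨(⟨_, ht⟩, h'), ?_⟩
    apply Subtype.ext
    apply Units.ext
    rw [guScalarHom_coe, hgM]
    simp only [hh', Units.val_mk0]
    ext i j
    simp only [Matrix.smul_apply, Matrix.map_apply, Subfield.coe_subtype, smul_eq_mul]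
    push_cast
    have he0' : (e : K) ≠ 0 := by
      intro h0; exact he0 (Subtype.ext h0)
    field_simp


theorem kerHom_fst (s : K₀ˣ) : (((kerHom K₀ n s).1 : Kˣ) : K) = ((s : K₀) : K)⁻¹ := by
  simp [kerHom]

theorem kerHom_snd (s : K₀ˣ) : (kerHom K₀ n s).2 = Matrix.GeneralLinearGroup.scalar (Fin n) s := by
  simp [kerHom]

include hpow in
theorem pow_succ_coe (x : K₀) : (x : K) ^ (q + 1) = ((x ^ (q₀ + 1) : K₀) : K) := by
  rw [pow_succ, hpow, pow_succ]
  push_cast
  rfl

include hK hK₀ hpow in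
theorem card_ker_guScalarHom (hn : 1 ≤ n) :
    Nat.card (guScalarHom K₀ hK hK₀ hpow n).ker = q₀ + 1 := by
  classical
  rw [← card_normOne hK₀]
  symm
  have hmemK : ∀ s : K₀ˣ, s ∈ normOne K₀ q₀ ↔ (kerHom K₀ n s).1 ∈ normOne K q := by
    intro s
    rw [mem_normOne, mem_normOne, kerHom_fst, inv_pow, inv_eq_one, pow_succ_coe K₀ hpow]
    constructor
    · intro h; rw [h]; rfl
    · intro h; exact Subtype.ext h
  have hmemG : ∀ s : K₀ˣ, s ∈ normOne K₀ q₀ → (kerHom K₀ n s).2 ∈ Cfsg.GU n K₀ q₀ := by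
    intro s hs
    rw [kerHom_snd, mem_GU_iff, Matrix.GeneralLinearGroup.coe_scalar]
    intro x y
    have : (Matrix.scalar (Fin n)) (s : K₀) = (s : K₀) • (1 : Matrix (Fin n) (Fin n) K₀) := by
      ext i j
      simp [Matrix.one_apply, Matrix.diagonal_apply]
    rw [this]
    exact smul_pres _ ((mem_normOne s).1 hs) x y
  let f : normOne K₀ q₀ → (guScalarHom K₀ hK hK₀ hpow n).ker := fun s =>
    ⟨(⟨(kerHom K₀ n s.1).1, (hmemK s.1).1 s.2⟩, ⟨(kerHom K₀ n s.1).2, hmemG s.1 s.2⟩), by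
      rw [MonoidHom.mem_ker]
      apply Subtype.ext
      have h1 : kerHom K₀ n s.1 ∈ (scalarMulHom K₀ n).ker := by
        rw [← kerHom_range K₀ hn]
        exact ⟨s.1, rfl⟩
      exact h1⟩
  apply Nat.card_eq_of_bijective f
  constructor
  · intro s s' h
    apply Subtype.ext
    apply kerHom_injective K₀ n
    have h1 := congrArg (fun x => ((x.1.1.1 : Kˣ), (x.1.2.1 : GL (Fin n) K₀))) h
    exact h1
  · rintro ⟨⟨t, h⟩, hker⟩
    have h1 : ((t.1 : Kˣ), (h.1 : GL (Fin n) K₀)) ∈ (scalarMulHom K₀ n).ker := by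
      rw [MonoidHom.mem_ker] at hker ⊢
      exact congrArg Subtype.val hker
    rw [← kerHom_range K₀ hn] at h1
    obtain ⟨s, hs⟩ := h1
    have hs1 : (kerHom K₀ n s).1 = t.1 := congrArg Prod.fst hs
    have hs2 : (kerHom K₀ n s).2 = h.1 := congrArg Prod.snd hs
    have hsm : s ∈ normOne K₀ q₀ := by
      rw [hmemK, hs1]
      exact t.2
    refine ⟨⟨s, hsm⟩, ?_⟩
    apply Subtype.ext
    apply Prod.ext
    · exact Subtype.ext hs1
    · exact Subtype.ext hs2

include hK hK₀ hpow in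
/-- the count of elements of `GU_n(q)` whose image under `σ` is a scalar multiple -/
theorem card_gu_fixed_cosets (σ : K ≃+* K) (hσK : ∀ a, a ∈ K₀ ↔ σ a = a) {r : ℕ}
    (hr : 0 < r) (hσ : orderOf σ = r) (hn : 1 ≤ n) :
    Nat.card {g : ↥(Cfsg.GU n K q) // ∃ c : K, c ≠ 0 ∧
        ((g : GL (Fin n) K) : Matrix (Fin n) (Fin n) K).map σ =
          c • ((g : GL (Fin n) K) : Matrix (Fin n) (Fin n) K)} * (q₀ + 1) =
      (q + 1) * Nat.card (Cfsg.GU n K₀ q₀) := by
  classical
  have h1 : Nat.card {g : ↥(Cfsg.GU n K q) // ∃ c : K, c ≠ 0 ∧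
        ((g : GL (Fin n) K) : Matrix (Fin n) (Fin n) K).map σ =
          c • ((g : GL (Fin n) K) : Matrix (Fin n) (Fin n) K)}
      = Nat.card (guScalarHom K₀ hK hK₀ hpow n).range := by
    apply Nat.card_congr
    exact (Equiv.subtypeEquivRight
      (fun g => mem_range_guScalarHom_iff K₀ hK hK₀ hpow σ hσK hr hσ hn g)).symm
  have h3 := Subgroup.card_mul_index (guScalarHom K₀ hK hK₀ hpow n).ker
  rw [Subgroup.index_ker, Nat.card_prod, card_normOne hK, card_ker_guScalarHom K₀ hK hK₀ hpow hn]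
    at h3
  rw [h1, mul_comm, h3]

end

end Cfsg.Agent.Lib.Helper16
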