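import Mathlib
import Cfsg.Agent.Lib.Helper6.Unitary2
import Cfsg.Agent.Lib.Helper16.FieldAutGU

set_option autoImplicit false
set_option linter.style.haveILetI false
set_option linter.unusedSimpArgs false
set_option linter.unusedSectionVars false

namespace Cfsg.Agent.Lib.Helper16

open Module Cfsg.Agent.Lib.Helper6 Matrix Cfsg

section
variable {F : Type*} [Field F] [Fintype F] {q n : ℕ}

theorem mem_SU_iff (s : Matrix.SpecialLinearGroup (Fin n) F) :
    s ∈ Cfsg.SU n F q ↔ ∀ x y, hermForm n F q ((s : Matrix (Fin n) (Fin n) F) *ᵥ x)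
      ((s : Matrix (Fin n) (Fin n) F) *ᵥ y) = hermForm n F q x y := Iff.rfl

theorem exists_SU_of_pres (M : Matrix (Fin n) (Fin n) F)
    (hM : ∀ x y, hermForm n F q (M *ᵥ x) (M *ᵥ y) = hermForm n F q x y) (hdet : M.det = 1) :
    ∃ s : Cfsg.SU n F q, ((s : Matrix.SpecialLinearGroup (Fin n) F) : Matrix (Fin n) (Fin n) F) = M :=
  ⟨⟨⟨M, hdet⟩, hM⟩, rfl⟩

/-- central elements of `SU` commute with all unitary matrices of determinant one -/
theorem SU_center_commute (z : Cfsg.SU n F q) (hz : z ∈ Subgroup.center (Cfsg.SU n F q))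
    (M : Matrix (Fin n) (Fin n) F)
    (hM : ∀ x y, hermForm n F q (M *ᵥ x) (M *ᵥ y) = hermForm n F q x y) (hdet : M.det = 1) :
    ((z : Matrix.SpecialLinearGroup (Fin n) F) : Matrix (Fin n) (Fin n) F) * M =
      M * ((z : Matrix.SpecialLinearGroup (Fin n) F) : Matrix (Fin n) (Fin n) F) := by
  rw [Subgroup.mem_center_iff] at hz
  obtain ⟨s, hs⟩ := exists_SU_of_pres M hM hdet
  have h1 := hz s
  have h2 := congrArg (fun t : Cfsg.SU n F q =>
    ((t : Matrix.SpecialLinearGroup (Fin n) F) : Matrix (Fin n) (Fin n) F)) h1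
  simp only [Subgroup.coe_mul, Matrix.SpecialLinearGroup.coe_mul, hs] at h2
  exact h2.symm

theorem conj_neg_one (hF : Fintype.card F = q ^ 2) : (-1 : F) ^ (q + 1) = 1 := by
  have h1 : (-1 : F) ^ q = -1 := by
    have : conjQ hF (-1) = -1 := by rw [map_neg, map_one]
    exact this
  rw [pow_succ, h1]
  ring


/-- central elements of `SU` are scalar -/
theorem SU_center_scalar (hF : Fintype.card F = q ^ 2) (hn : 2 ≤ n) (z : Cfsg.SU n F q)
    (hz : z ∈ Subgroup.center (Cfsg.SU n F q)) :
    ∃ a : F, a ^ (q + 1) = 1 ∧ a ^ n = 1 ∧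
      ((z : Matrix.SpecialLinearGroup (Fin n) F) : Matrix (Fin n) (Fin n) F) =
        a • (1 : Matrix (Fin n) (Fin n) F) := by
  classical
  set Z : Matrix (Fin n) (Fin n) F :=
    ((z : Matrix.SpecialLinearGroup (Fin n) F) : Matrix (Fin n) (Fin n) F) with hZ
  have hcomm := SU_center_commute z hz
  rw [← hZ] at hcomm
  obtain ⟨ζ, hζ⟩ := exists_prim_root hF
  have hq := two_le_q hF
  have hζ1 : (ζ : F) ^ (q + 1) = 1 := by
    rw [← Units.val_pow_eq_pow_val, hζ.pow_eq_one, Units.val_one]
  have hζ0 : (ζ : F) ≠ 0 := ζ.ne_zero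
  have hζinv : ((ζ : F)⁻¹) ^ (q + 1) = 1 := by rw [inv_pow, hζ1, inv_one]
  have hζ2 : (ζ : F) ≠ (ζ : F)⁻¹ := by
    intro h
    have h1 : (ζ : F) ^ 2 = 1 := by
      rw [sq]
      nth_rewrite 2 [h]
      exact mul_inv_cancel₀ hζ0
    have h2 : ζ ^ 2 = 1 := by
      apply Units.ext
      rw [Units.val_pow_eq_pow_val, h1, Units.val_one]
    exact hζ.pow_ne_one_of_pos_of_lt (l := 2) (by norm_num) (by omega) h2
  have hoff : ∀ j k, j ≠ k → Z j k = 0 := by
    intro j k hjk
    let d : Fin n → F := fun i => if i = j then (ζ : F)⁻¹ else if i = k then (ζ : F) else 1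
    have hdj : d j = (ζ : F)⁻¹ := by simp only [d, if_pos]
    have hdk : d k = (ζ : F) := by simp only [d, if_neg hjk.symm, if_pos]
    have hd : ∀ i, d i ^ (q + 1) = 1 := by
      intro i
      simp only [d]
      split_ifs
      · exact hζinv
      · exact hζ1
      · exact one_pow _
    have hdet : (Matrix.diagonal d).det = 1 := by
      rw [Matrix.det_diagonal, Finset.prod_eq_mul j k hjk, hdj, hdk, inv_mul_cancel₀ hζ0]
      · intro c _ hc
        simp only [d, if_neg hc.1, if_neg hc.2]
      · intro h; exact absurd (Finset.mem_univ _) h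
      · intro h; exact absurd (Finset.mem_univ _) h
    have h1 := hcomm (Matrix.diagonal d) (diag_pres d hd) hdet
    have h2 := congrFun (congrFun h1 j) k
    rw [Matrix.mul_diagonal, Matrix.diagonal_mul, hdj, hdk] at h2
    have h3 : Z j k * ((ζ : F) - (ζ : F)⁻¹) = 0 := by linear_combination h2
    rcases mul_eq_zero.mp h3 with h | h
    · exact h
    · exact absurd (sub_eq_zero.mp h) hζ2
  have hdiag : ∀ i j, i ≠ j → Z j j = Z i i := by
    intro i j hij
    let d : Fin n → F := fun l => if l = i then -1 else 1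
    have hd : ∀ l, d l ^ (q + 1) = 1 := by
      intro l
      simp only [d]
      split_ifs
      · exact conj_neg_one hF
      · exact one_pow _
    let M : Matrix (Fin n) (Fin n) F := Matrix.swap F i j * Matrix.diagonal d
    have hMpres : ∀ x y, hermForm n F q (M *ᵥ x) (M *ᵥ y) = hermForm n F q x y := by
      intro x y
      simp only [M]
      rw [← Matrix.mulVec_mulVec, ← Matrix.mulVec_mulVec, swap_pres, diag_pres d hd]
    have hMdet : M.det = 1 := by
      simp only [M]
      rw [Matrix.det_mul, Matrix.det_diagonal]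
      have h1 : (Matrix.swap F i j).det = -1 := by
        unfold Matrix.swap
        rw [Matrix.det_permutation, Equiv.Perm.sign_swap hij]
        simp
      have h2 : ∏ l, d l = -1 := by
        simp only [d]
        rw [Finset.prod_ite_eq']
        simp
      rw [h1, h2]
      ring
    have hMji : M j i = -1 := by
      simp only [M]
      rw [Matrix.mul_diagonal]
      have h1 : Matrix.swap F i j j i = 1 := by
        have := Matrix.swap_mul_apply_right (R := F) i j i (1 : Matrix (Fin n) (Fin n) F)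
        rw [Matrix.mul_one, Matrix.one_apply_eq] at this
        exact this
      rw [h1]
      simp only [d, if_pos]
      ring
    have h1 := hcomm M hMpres hMdet
    have h2 := congrFun (congrFun h1 j) i
    rw [Matrix.mul_apply, Matrix.mul_apply] at h2
    rw [Finset.sum_eq_single j, Finset.sum_eq_single i, hMji] at h2
    · have h3 : Z j j = Z i i := by linear_combination -h2
      exact h3
    · intro l _ hl
      rw [hoff l i hl, mul_zero]
    · intro h; exact absurd (Finset.mem_univ _) h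
    · intro l _ hl
      rw [hoff j l hl.symm, zero_mul]
    · intro h; exact absurd (Finset.mem_univ _) h
  have hn0 : 0 < n := by omega
  set a : F := Z ⟨0, hn0⟩ ⟨0, hn0⟩ with ha
  have hZa : Z = a • (1 : Matrix (Fin n) (Fin n) F) := by
    ext i j
    rw [Matrix.smul_apply, Matrix.one_apply]
    by_cases hij : i = j
    · subst hij
      rw [if_pos rfl, smul_eq_mul, mul_one]
      by_cases hi0 : i = ⟨0, hn0⟩
      · rw [hi0]
      · exact hdiag ⟨0, hn0⟩ i (fun h => hi0 h.symm)
    · rw [if_neg hij, smul_zero]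
      exact hoff i j hij
  refine ⟨a, ?_, ?_, hZa⟩
  · have h1 := (pres_iff hF Z).1 ((mem_SU_iff z.1).1 z.2)
    rw [hZa, smul_identity hF] at h1
    have h2 := congrFun (congrFun h1 ⟨0, hn0⟩) ⟨0, hn0⟩
    simp only [Matrix.transpose_one, Matrix.smul_apply, Matrix.mul_apply, Matrix.map_apply,
      Matrix.one_apply, smul_eq_mul] at h2
    simpa using h2
  · have h1 : Z.det = 1 := z.1.2
    rw [hZa, Matrix.det_smul, Matrix.det_one, mul_one, Fintype.card_fin] at h1
    exact h1


/-- scalar matrices in `SU` are central -/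
theorem SU_scalar_mem_center (a : F) (ha : a ^ (q + 1) = 1) (han : a ^ n = 1) :
    ∃ z : Cfsg.SU n F q, z ∈ Subgroup.center (Cfsg.SU n F q) ∧
      ((z : Matrix.SpecialLinearGroup (Fin n) F) : Matrix (Fin n) (Fin n) F) =
        a • (1 : Matrix (Fin n) (Fin n) F) := by
  obtain ⟨z, hz⟩ := exists_SU_of_pres (q := q) (a • (1 : Matrix (Fin n) (Fin n) F))
    (smul_pres a ha) (by
      rw [Matrix.det_smul, Matrix.det_one, mul_one, Fintype.card_fin, han])
  refine ⟨z, ?_, hz⟩
  rw [Subgroup.mem_center_iff]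
  intro g
  apply Subtype.ext
  apply Subtype.ext
  simp only [Subgroup.coe_mul, Matrix.SpecialLinearGroup.coe_mul]
  rw [hz, Matrix.mul_smul, Matrix.smul_mul, Matrix.mul_one, Matrix.one_mul]

/-- the number of common roots of unity -/
theorem card_common_roots (hF : Fintype.card F = q ^ 2) (n : ℕ) :
    Nat.card {a : F // a ^ (q + 1) = 1 ∧ a ^ n = 1} = Nat.gcd n (q + 1) := by
  classical
  obtain ⟨ζ, hζ⟩ := exists_prim_root hF
  obtain ⟨g, hg⟩ : ∃ g, g = Nat.gcd n (q + 1) := ⟨_, rfl⟩
  have hgpos : 0 < g := by rw [hg]; exact Nat.gcd_pos_of_pos_right _ (by omega)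
  have hgn : g ∣ n := by rw [hg]; exact Nat.gcd_dvd_left n (q + 1)
  have hgq : g ∣ q + 1 := by rw [hg]; exact Nat.gcd_dvd_right n (q + 1)
  have hgcd : ∀ x : F, x ^ n = 1 → x ^ (q + 1) = 1 → x ^ g = 1 := by
    intro x h1 h2
    rw [hg]
    exact pow_gcd_eq_one.2 ⟨h1, h2⟩
  rw [← hg]
  haveI : NeZero g := ⟨hgpos.ne'⟩
  obtain ⟨e, he⟩ := hgq
  obtain ⟨e', he'⟩ := hgn
  have hprim : IsPrimitiveRoot (ζ ^ e) g :=
    hζ.pow (by omega) (by rw [he, mul_comm])
  rw [← hprim.card_rootsOfUnity']
  let f : {a : F // a ^ (q + 1) = 1 ∧ a ^ n = 1} → rootsOfUnity g F := fun a =>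
    ⟨Units.mk0 a.1 (by
      intro h0
      have := a.2.1
      rw [h0, zero_pow (by omega)] at this
      exact zero_ne_one this), by
      rw [mem_rootsOfUnity']
      exact hgcd _ a.2.2 a.2.1⟩
  apply Nat.card_eq_of_bijective f
  constructor
  · intro a b h
    apply Subtype.ext
    have := congrArg (fun u : rootsOfUnity g F => ((u : Fˣ) : F)) h
    exact this
  · intro u
    have hu := (mem_rootsOfUnity' _ _).1 u.2
    refine ⟨⟨((u : Fˣ) : F), ?_, ?_⟩, ?_⟩
    · rw [he, pow_mul, hu, one_pow]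
    · rw [he', pow_mul, hu, one_pow]
    · apply Subtype.ext
      apply Units.ext
      rfl

/-- the centre of `SU_n(q)` has order `gcd(n, q + 1)` -/
theorem card_center_SU (hF : Fintype.card F = q ^ 2) (hn : 2 ≤ n) :
    Nat.card (Subgroup.center (Cfsg.SU n F q)) = Nat.gcd n (q + 1) := by
  classical
  rw [← card_common_roots hF n]
  have hn0 : 0 < n := by omega
  have hsc := fun z : Subgroup.center (Cfsg.SU n F q) => SU_center_scalar hF hn z.1 z.2
  let f : Subgroup.center (Cfsg.SU n F q) → {a : F // a ^ (q + 1) = 1 ∧ a ^ n = 1} := fun z =>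
    ⟨Classical.choose (hsc z), (Classical.choose_spec (hsc z)).1,
      (Classical.choose_spec (hsc z)).2.1⟩
  have hf : ∀ z : Subgroup.center (Cfsg.SU n F q),
      (((z : Cfsg.SU n F q) : Matrix.SpecialLinearGroup (Fin n) F) : Matrix (Fin n) (Fin n) F) =
        (f z).1 • (1 : Matrix (Fin n) (Fin n) F) := fun z => (Classical.choose_spec (hsc z)).2.2
  apply Nat.card_eq_of_bijective f
  constructor
  · intro z z' h
    apply Subtype.ext
    apply Subtype.ext
    apply Subtype.ext
    rw [hf z, hf z', h]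
  · intro a
    obtain ⟨z, hz, hza⟩ := SU_scalar_mem_center (n := n) a.1 a.2.1 a.2.2
    refine ⟨⟨z, hz⟩, ?_⟩
    apply Subtype.ext
    have h1 := hf ⟨z, hz⟩
    rw [hza] at h1
    have h2 := congrFun (congrFun h1 ⟨0, hn0⟩) ⟨0, hn0⟩
    simp only [Matrix.smul_apply, Matrix.one_apply_eq, smul_eq_mul, mul_one] at h2
    exact h2.symm

end

end Cfsg.Agent.Lib.Helper16
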