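import Mathlib
import Cfsg.Agent.Lib.Helper3.CardSL

set_option autoImplicit false
set_option linter.style.haveILetI false
set_option linter.unusedSimpArgs false
set_option linter.unusedSectionVars false

namespace Cfsg.Agent.Lib.Helper16

open Matrix Polynomial

section
variable {F : Type*} [Field F] {p : ℕ} [Fact p.Prime] [CharP F p]

/-- Cayley–Hamilton for `2 × 2` matrices -/
theorem cayley2 (m : Matrix (Fin 2) (Fin 2) F) : m ^ 2 = m.trace • m - m.det • (1 : Matrix (Fin 2) (Fin 2) F) := by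
  have h := Matrix.aeval_self_charpoly m
  rw [Matrix.charpoly_fin_two] at h
  simp only [map_add, map_sub, map_mul, map_pow, aeval_X, aeval_C,
    Algebra.algebraMap_eq_smul_one, smul_mul_assoc, one_mul] at h
  rw [← sub_eq_zero, ← h]
  abel

/-- a `2 × 2` matrix of `p`-power order in characteristic `p` has trace `2` -/
theorem trace_eq_two_of_pow_eq_one (x : Matrix (Fin 2) (Fin 2) F) (k : ℕ) (hx : x ^ (p ^ k) = 1) :
    x.trace = 2 := by
  set m := x - 1 with hm
  have hmk : m ^ (p ^ k) = 0 := by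
    rw [hm, sub_pow_char_pow_of_commute (p := p) (n := k) (h := Commute.one_right x), hx, one_pow,
      sub_self]
  have hdet : m.det = 0 := by
    have h1 : m.det ^ (p ^ k) = 0 := by
      rw [← Matrix.det_pow, hmk, Matrix.det_zero]
    exact pow_eq_zero_iff (pow_pos (Fact.out : p.Prime).pos k).ne' |>.1 h1
  have hsq : m ^ 2 = m.trace • m := by
    rw [cayley2, hdet, zero_smul, sub_zero]
  have hpow : ∀ j : ℕ, m ^ (j + 1) = m.trace ^ j • m := by
    intro j
    induction j with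
    | zero => simp
    | succ j ih =>
      rw [pow_succ, ih, smul_mul_assoc, ← pow_two, hsq, smul_smul, ← pow_succ]
  have htr : m.trace = 0 := by
    by_cases hm0 : m = 0
    · rw [hm0, Matrix.trace_zero]
    · obtain ⟨j, hj⟩ : ∃ j, p ^ k = j + 1 :=
        ⟨p ^ k - 1, (Nat.sub_add_cancel (pow_pos (Fact.out : p.Prime).pos k)).symm⟩
      rw [hj, hpow] at hmk
      rcases smul_eq_zero.1 hmk with h | h
      · by_cases hj0 : j = 0
        · subst hj0
          exfalso
          rw [pow_zero] at h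
          exact one_ne_zero h
        · exact (pow_eq_zero_iff hj0).1 h
      · exact absurd h hm0
  have : x = m + 1 := by rw [hm]; abel
  rw [this, Matrix.trace_add, htr, Matrix.trace_one, Fintype.card_fin]
  norm_num


omit [Fact p.Prime] [CharP F p] in
theorem trace_conj_w (a b c d : F) :
    (!![a, b; c, d] * (!![0, -1; 1, 0] * !![a, b; c, d] * !![0, 1; -1, 0])).trace =
      2 * (a * d) - b ^ 2 - c ^ 2 := by
  simp only [Matrix.mul_fin_two, Matrix.trace_fin_two_of]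
  ring

omit [Fact p.Prime] [CharP F p] in
theorem trace_conj_u (a b c d : F) :
    (!![a, b; c, d] * (!![1, 1; 0, 1] * !![a, b; c, d] * !![1, -1; 0, 1])).trace =
      (a + d) ^ 2 - 2 * (a * d - b * c) - c ^ 2 := by
  simp only [Matrix.mul_fin_two, Matrix.trace_fin_two_of]
  ring

/-- `SL₂` over a field of characteristic `p` has no non-trivial normal `p`-subgroup -/
theorem normal_pgroup_SL2_eq_bot (N : Subgroup (Matrix.SpecialLinearGroup (Fin 2) F)) [hn : N.Normal]
    (hN : IsPGroup p N) : N = ⊥ := by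
  rw [eq_bot_iff]
  intro x hx
  rw [Subgroup.mem_bot]
  have htr : ∀ y ∈ N, (y : Matrix (Fin 2) (Fin 2) F).trace = 2 := by
    intro y hy
    obtain ⟨k, hk⟩ := hN ⟨y, hy⟩
    have h1 : y ^ (p ^ k) = 1 := by
      have := congrArg Subtype.val hk
      simpa using this
    have h2 : (y : Matrix (Fin 2) (Fin 2) F) ^ (p ^ k) = 1 := by
      rw [← Matrix.SpecialLinearGroup.coe_pow, h1, Matrix.SpecialLinearGroup.coe_one]
    exact trace_eq_two_of_pow_eq_one _ k h2
  let w : Matrix.SpecialLinearGroup (Fin 2) F := ⟨!![0, -1; 1, 0], by simp [Matrix.det_fin_two]⟩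
  let u : Matrix.SpecialLinearGroup (Fin 2) F := ⟨!![1, 1; 0, 1], by simp [Matrix.det_fin_two]⟩
  have hw : x * (w * x * w⁻¹) ∈ N := N.mul_mem hx (hn.conj_mem x hx w)
  have hu : x * (u * x * u⁻¹) ∈ N := N.mul_mem hx (hn.conj_mem x hx u)
  have h0 := htr x hx
  have h1 := htr _ hw
  have h2 := htr _ hu
  have hdet := x.2
  have hxeta := Matrix.eta_fin_two (x : Matrix (Fin 2) (Fin 2) F)
  set a := (x : Matrix (Fin 2) (Fin 2) F) 0 0 with ha
  set b := (x : Matrix (Fin 2) (Fin 2) F) 0 1 with hb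
  set c := (x : Matrix (Fin 2) (Fin 2) F) 1 0 with hc
  set d := (x : Matrix (Fin 2) (Fin 2) F) 1 1 with hd
  rw [Matrix.det_fin_two, ← ha, ← hb, ← hc, ← hd] at hdet
  rw [Matrix.trace_fin_two, ← ha, ← hd] at h0
  have hwc : (w : Matrix (Fin 2) (Fin 2) F) = !![0, -1; 1, 0] := rfl
  have huc : (u : Matrix (Fin 2) (Fin 2) F) = !![1, 1; 0, 1] := rfl
  rw [Matrix.SpecialLinearGroup.coe_mul, Matrix.SpecialLinearGroup.coe_mul,
    Matrix.SpecialLinearGroup.coe_mul, Matrix.SpecialLinearGroup.coe_inv, hwc,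
    Matrix.adjugate_fin_two_of, hxeta] at h1
  rw [Matrix.SpecialLinearGroup.coe_mul, Matrix.SpecialLinearGroup.coe_mul,
    Matrix.SpecialLinearGroup.coe_mul, Matrix.SpecialLinearGroup.coe_inv, huc,
    Matrix.adjugate_fin_two_of, hxeta] at h2
  simp only [neg_neg, neg_zero] at h1 h2
  rw [trace_conj_w] at h1
  rw [trace_conj_u] at h2
  have hbc : (b - c) ^ 2 = 0 := by linear_combination -h1 + 2 * hdet
  have hbc' : b = c := by
    have := pow_eq_zero_iff (two_ne_zero) |>.1 hbc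
    exact sub_eq_zero.1 this
  have hc2 : c ^ 2 = 0 := by linear_combination -h2 + h0 * (a + d + 2) - 2 * hdet
  have hc0 : c = 0 := pow_eq_zero_iff (two_ne_zero) |>.1 hc2
  have hb0 : b = 0 := by rw [hbc', hc0]
  have ha1 : (a - 1) ^ 2 = 0 := by
    rw [hb0, hc0] at hdet
    linear_combination a * h0 - hdet
  have ha1' : a = 1 := sub_eq_zero.1 (pow_eq_zero_iff (two_ne_zero) |>.1 ha1)
  have hd1 : d = 1 := by
    rw [ha1'] at h0
    linear_combination h0
  apply Subtype.ext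
  rw [hxeta, ha1', hb0, hc0, hd1, Matrix.SpecialLinearGroup.coe_one]
  exact Matrix.one_fin_two.symm

end

section
variable {F : Type*} [Field F]

/-- the upper triangular subgroup of `SL₂` -/
def borelSL2 (F : Type*) [Field F] : Subgroup (Matrix.SpecialLinearGroup (Fin 2) F) where
  carrier := {A | (A : Matrix (Fin 2) (Fin 2) F) 1 0 = 0}
  mul_mem' := by
    intro A B hA hB
    simp only [Set.mem_ofPred_eq] at hA hB ⊢
    rw [Matrix.SpecialLinearGroup.coe_mul, Matrix.mul_apply, Fin.sum_univ_two, hA, hB]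
    ring
  one_mem' := by simp
  inv_mem' := by
    intro A hA
    simp only [Set.mem_ofPred_eq] at hA ⊢
    rw [Matrix.SpecialLinearGroup.coe_inv, Matrix.adjugate_fin_two]
    simp [hA]

theorem mem_borelSL2 (A : Matrix.SpecialLinearGroup (Fin 2) F) :
    A ∈ borelSL2 F ↔ (A : Matrix (Fin 2) (Fin 2) F) 1 0 = 0 := Iff.rfl

/-- the upper unitriangular subgroup of `SL₂` -/
def unipSL2 (F : Type*) [Field F] : Subgroup (Matrix.SpecialLinearGroup (Fin 2) F) where
  carrier := {A | (A : Matrix (Fin 2) (Fin 2) F) 0 0 = 1 ∧ (A : Matrix (Fin 2) (Fin 2) F) 1 0 = 0 ∧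
    (A : Matrix (Fin 2) (Fin 2) F) 1 1 = 1}
  mul_mem' := by
    rintro A B ⟨a0, a1, a2⟩ ⟨b0, b1, b2⟩
    simp only [Set.mem_ofPred_eq]
    rw [Matrix.SpecialLinearGroup.coe_mul]
    simp only [Matrix.mul_apply, Fin.sum_univ_two, a0, a1, a2, b0, b1, b2]
    simp
  one_mem' := by simp
  inv_mem' := by
    rintro A ⟨a0, a1, a2⟩
    simp only [Set.mem_ofPred_eq]
    rw [Matrix.SpecialLinearGroup.coe_inv, Matrix.adjugate_fin_two]
    simp [a0, a1, a2]

theorem mem_unipSL2 (A : Matrix.SpecialLinearGroup (Fin 2) F) :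
    A ∈ unipSL2 F ↔ (A : Matrix (Fin 2) (Fin 2) F) 0 0 = 1 ∧
      (A : Matrix (Fin 2) (Fin 2) F) 1 0 = 0 ∧ (A : Matrix (Fin 2) (Fin 2) F) 1 1 = 1 := Iff.rfl

theorem unipSL2_le_borelSL2 : unipSL2 F ≤ borelSL2 F := fun _ h => h.2.1

/-- the elementary matrix `[[1, b], [0, 1]]` -/
def upperSL2 (b : F) : Matrix.SpecialLinearGroup (Fin 2) F :=
  ⟨!![1, b; 0, 1], by simp [Matrix.det_fin_two]⟩

theorem upperSL2_mem (b : F) : upperSL2 b ∈ unipSL2 F := by
  refine ⟨?_, ?_, ?_⟩ <;> simp [upperSL2]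

/-- the Weyl element -/
def weylSL2 (F : Type*) [Field F] : Matrix.SpecialLinearGroup (Fin 2) F :=
  ⟨!![0, -1; 1, 0], by simp [Matrix.det_fin_two]⟩

/-- a Borel element -/
def borelMk (c d : F) (hc : c ≠ 0) : Matrix.SpecialLinearGroup (Fin 2) F :=
  ⟨!![c, d; 0, c⁻¹], by rw [Matrix.det_fin_two_of, mul_inv_cancel₀ hc, mul_zero, sub_zero]⟩

theorem borelMk_mem (c d : F) (hc : c ≠ 0) : borelMk c d hc ∈ borelSL2 F := by
  change (!![c, d; 0, c⁻¹] : Matrix (Fin 2) (Fin 2) F) 1 0 = 0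
  simp

theorem mat_fin_two_congr {x y z w x' y' z' w' : F} (h1 : x = x') (h2 : y = y') (h3 : z = z')
    (h4 : w = w') : !![x, y; z, w] = !![x', y'; z', w'] := by
  subst h1 h2 h3 h4; rfl

theorem bruhat_mat (a b c d : F) (hc : c ≠ 0) (hdet : a * d - b * c = 1) :
    !![a, b; c, d] = !![1, a * c⁻¹; 0, 1] * !![0, -1; 1, 0] * !![c, d; 0, c⁻¹] := by
  have hcc : c⁻¹ * c = 1 := inv_mul_cancel₀ hc
  rw [Matrix.mul_fin_two, Matrix.mul_fin_two]
  apply mat_fin_two_congr
  · linear_combination (-a) * hcc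
  · linear_combination (-b) * hcc - c⁻¹ * hdet
  · ring
  · ring

/-- Bruhat decomposition of the big cell -/
theorem bruhat_SL2 (g : Matrix.SpecialLinearGroup (Fin 2) F)
    (hc : (g : Matrix (Fin 2) (Fin 2) F) 1 0 ≠ 0) :
    ∃ b₁ ∈ borelSL2 F, ∃ b₂ ∈ borelSL2 F, g = b₁ * weylSL2 F * b₂ := by
  have hdet := g.2
  rw [Matrix.det_fin_two] at hdet
  refine ⟨upperSL2 ((g : Matrix (Fin 2) (Fin 2) F) 0 0 * ((g : Matrix (Fin 2) (Fin 2) F) 1 0)⁻¹),
    unipSL2_le_borelSL2 (upperSL2_mem _),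
    borelMk ((g : Matrix (Fin 2) (Fin 2) F) 1 0) ((g : Matrix (Fin 2) (Fin 2) F) 1 1) hc,
    borelMk_mem _ _ _, ?_⟩
  apply Subtype.ext
  rw [Matrix.SpecialLinearGroup.coe_mul, Matrix.SpecialLinearGroup.coe_mul]
  exact (Matrix.eta_fin_two (g : Matrix (Fin 2) (Fin 2) F)).trans (bruhat_mat _ _ _ _ hc hdet)

/-- the upper triangular subgroup of `SL₂` is a maximal subgroup -/
theorem borelSL2_maximal (K : Subgroup (Matrix.SpecialLinearGroup (Fin 2) F))
    (hB : borelSL2 F ≤ K) (g : Matrix.SpecialLinearGroup (Fin 2) F) (hg : g ∈ K)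
    (hc : (g : Matrix (Fin 2) (Fin 2) F) 1 0 ≠ 0) : K = ⊤ := by
  obtain ⟨b₁, hb₁, b₂, hb₂, hgb⟩ := bruhat_SL2 g hc
  have hw : weylSL2 F ∈ K := by
    have : weylSL2 F = b₁⁻¹ * g * b₂⁻¹ := by rw [hgb]; group
    rw [this]
    exact K.mul_mem (K.mul_mem (K.inv_mem (hB hb₁)) hg) (K.inv_mem (hB hb₂))
  rw [eq_top_iff]
  intro h _
  by_cases hh : (h : Matrix (Fin 2) (Fin 2) F) 1 0 = 0
  · exact hB hh
  · obtain ⟨c₁, hc₁, c₂, hc₂, hhc⟩ := bruhat_SL2 h hh
    rw [hhc]
    exact K.mul_mem (K.mul_mem (hB hc₁) hw) (hB hc₂)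


theorem upperSL2_add (a b : F) : upperSL2 (a + b) = upperSL2 a * upperSL2 b := by
  apply Subtype.ext
  rw [Matrix.SpecialLinearGroup.coe_mul]
  change !![1, a + b; 0, 1] = !![1, a; 0, 1] * !![1, b; 0, 1]
  rw [Matrix.mul_fin_two]
  apply mat_fin_two_congr <;> ring

theorem upperSL2_zero : upperSL2 (0 : F) = 1 := by
  apply Subtype.ext
  change !![1, 0; 0, 1] = (1 : Matrix (Fin 2) (Fin 2) F)
  exact Matrix.one_fin_two.symm

theorem upperSL2_apply (a : F) : ((upperSL2 a : Matrix.SpecialLinearGroup (Fin 2) F) :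
    Matrix (Fin 2) (Fin 2) F) = !![1, a; 0, 1] := rfl

theorem weylSL2_apply : ((weylSL2 F : Matrix.SpecialLinearGroup (Fin 2) F) :
    Matrix (Fin 2) (Fin 2) F) = !![0, -1; 1, 0] := rfl

theorem eq_upperSL2_of_mem {u : Matrix.SpecialLinearGroup (Fin 2) F} (hu : u ∈ unipSL2 F) :
    u = upperSL2 ((u : Matrix (Fin 2) (Fin 2) F) 0 1) := by
  obtain ⟨h0, h1, h2⟩ := hu
  apply Subtype.ext
  refine (Matrix.eta_fin_two (u : Matrix (Fin 2) (Fin 2) F)).trans ?_
  exact mat_fin_two_congr h0 rfl h1 h2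

theorem upperSL2_injective : Function.Injective (upperSL2 (F := F)) := by
  intro a b h
  have := congrArg (fun M : Matrix.SpecialLinearGroup (Fin 2) F =>
    (M : Matrix (Fin 2) (Fin 2) F) 0 1) h
  simpa [upperSL2] using this

theorem upperSL2_pow (a : F) (k : ℕ) : upperSL2 a ^ k = upperSL2 (k • a) := by
  induction k with
  | zero => rw [pow_zero, zero_smul, upperSL2_zero]
  | succ k ih => rw [pow_succ, ih, succ_nsmul, upperSL2_add]

theorem unipSL2_isPGroup (p : ℕ) [CharP F p] : IsPGroup p (unipSL2 F) := by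
  intro u
  refine ⟨1, ?_⟩
  apply Subtype.ext
  rw [pow_one, Subgroup.coe_pow, Subgroup.coe_one, eq_upperSL2_of_mem u.2, upperSL2_pow,
    nsmul_eq_mul, CharP.cast_eq_zero F p, zero_mul, upperSL2_zero]

/-- the unipotent subgroup is a copy of the additive group of the field -/
def unipEquiv : F ≃ unipSL2 F where
  toFun b := ⟨upperSL2 b, upperSL2_mem b⟩
  invFun u := ((u : Matrix.SpecialLinearGroup (Fin 2) F) : Matrix (Fin 2) (Fin 2) F) 0 1
  left_inv b := by simp [upperSL2]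
  right_inv u := Subtype.ext (eq_upperSL2_of_mem u.2).symm

theorem card_unipSL2 [Fintype F] : Nat.card (unipSL2 F) = Fintype.card F := by
  rw [← Nat.card_eq_fintype_card]
  exact (Nat.card_congr unipEquiv).symm

theorem index_unipSL2 [Fintype F] : (unipSL2 F).index = Fintype.card F ^ 2 - 1 := by
  have h := (unipSL2 F).card_mul_index
  rw [card_unipSL2, Cfsg.Agent.Lib.Helper3.CardSL.card_SL2] at h
  exact Nat.eq_of_mul_eq_mul_left Fintype.card_pos h

theorem not_dvd_index_unipSL2 [Fintype F] (p : ℕ) [hp : Fact p.Prime] [CharP F p] :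
    ¬ p ∣ (unipSL2 F).index := by
  rw [index_unipSL2]
  intro h
  obtain ⟨n, -, hn⟩ := FiniteField.card F p
  have hpq : p ∣ Fintype.card F := by
    rw [hn]
    exact dvd_pow_self p n.ne_zero
  have hq2 : p ∣ Fintype.card F ^ 2 := dvd_pow hpq two_ne_zero
  have hpos : 0 < Fintype.card F ^ 2 := pow_pos Fintype.card_pos 2
  have h1 : p ∣ 1 := by
    have := Nat.dvd_sub hq2 h
    rwa [show Fintype.card F ^ 2 - (Fintype.card F ^ 2 - 1) = 1 by omega] at this
  exact hp.out.one_lt.ne' (Nat.dvd_one.1 h1)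

theorem conj_upper_entry (a b c d x : F) :
    (!![a, b; c, d] * !![1, x; 0, 1] * !![d, -b; -c, a]) =
      !![a * d - (a * x + b) * c, -(a * b) + (a * x + b) * a;
        c * d - (c * x + d) * c, -(c * b) + (c * x + d) * a] := by
  rw [Matrix.mul_fin_two, Matrix.mul_fin_two]
  apply mat_fin_two_congr <;> ring

theorem conj_mem_unipSL2 {g u : Matrix.SpecialLinearGroup (Fin 2) F} (hg : g ∈ borelSL2 F)
    (hu : u ∈ unipSL2 F) : g * u * g⁻¹ ∈ unipSL2 F := by
  have hc : (g : Matrix (Fin 2) (Fin 2) F) 1 0 = 0 := hg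
  have hdet := g.2
  rw [Matrix.det_fin_two, hc, mul_zero, sub_zero] at hdet
  have hge := Matrix.eta_fin_two (g : Matrix (Fin 2) (Fin 2) F)
  rw [hc] at hge
  have key : ((g * u * g⁻¹ : Matrix.SpecialLinearGroup (Fin 2) F) : Matrix (Fin 2) (Fin 2) F) =
      !![(g : Matrix (Fin 2) (Fin 2) F) 0 0 * (g : Matrix (Fin 2) (Fin 2) F) 1 1 -
          ((g : Matrix (Fin 2) (Fin 2) F) 0 0 * (u : Matrix (Fin 2) (Fin 2) F) 0 1 +
            (g : Matrix (Fin 2) (Fin 2) F) 0 1) * 0,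
        -((g : Matrix (Fin 2) (Fin 2) F) 0 0 * (g : Matrix (Fin 2) (Fin 2) F) 0 1) +
          ((g : Matrix (Fin 2) (Fin 2) F) 0 0 * (u : Matrix (Fin 2) (Fin 2) F) 0 1 +
            (g : Matrix (Fin 2) (Fin 2) F) 0 1) * (g : Matrix (Fin 2) (Fin 2) F) 0 0;
        0 * (g : Matrix (Fin 2) (Fin 2) F) 1 1 - (0 * (u : Matrix (Fin 2) (Fin 2) F) 0 1 +
          (g : Matrix (Fin 2) (Fin 2) F) 1 1) * 0,
        -(0 * (g : Matrix (Fin 2) (Fin 2) F) 0 1) + (0 * (u : Matrix (Fin 2) (Fin 2) F) 0 1 +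
          (g : Matrix (Fin 2) (Fin 2) F) 1 1) * (g : Matrix (Fin 2) (Fin 2) F) 0 0] := by
    rw [Matrix.SpecialLinearGroup.coe_mul, Matrix.SpecialLinearGroup.coe_mul,
      Matrix.SpecialLinearGroup.coe_inv, Matrix.adjugate_fin_two, hc, ← conj_upper_entry]
    congr 2
    rw [← upperSL2_apply]
    exact congrArg _ (eq_upperSL2_of_mem hu)
  rw [mem_unipSL2, key]
  refine ⟨?_, ?_, ?_⟩
  · simp only [Matrix.of_apply, Matrix.cons_val', Matrix.cons_val_zero, Matrix.cons_val_fin_one]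
    linear_combination hdet
  · simp
  · simp only [Matrix.of_apply, Matrix.cons_val', Matrix.cons_val_one, Matrix.cons_val_fin_one]
    simp
    linear_combination hdet

theorem borelSL2_le_normalizer_unipSL2 :
    borelSL2 F ≤ Subgroup.normalizer ((unipSL2 F : Subgroup _) : Set _) := by
  intro g hg
  rw [Subgroup.mem_normalizer_iff]
  intro h
  constructor
  · exact conj_mem_unipSL2 hg
  · intro hh
    have := conj_mem_unipSL2 ((borelSL2 F).inv_mem hg) hh
    have e : g⁻¹ * (g * h * g⁻¹) * g⁻¹⁻¹ = h := by group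
    rwa [e] at this

theorem normalizer_unipSL2_le :
    Subgroup.normalizer ((unipSL2 F : Subgroup _) : Set _) ≤ borelSL2 F := by
  intro g hg
  have h1 := (Subgroup.mem_normalizer_iff.1 hg (upperSL2 1)).1 (upperSL2_mem 1)
  obtain ⟨-, h10, -⟩ := h1
  rw [Matrix.SpecialLinearGroup.coe_mul, Matrix.SpecialLinearGroup.coe_mul,
    Matrix.SpecialLinearGroup.coe_inv, Matrix.adjugate_fin_two, upperSL2_apply] at h10
  have hge := Matrix.eta_fin_two (g : Matrix (Fin 2) (Fin 2) F)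
  rw [mem_borelSL2]
  generalize (g : Matrix (Fin 2) (Fin 2) F) 0 0 = a at *
  generalize (g : Matrix (Fin 2) (Fin 2) F) 0 1 = b at *
  generalize (g : Matrix (Fin 2) (Fin 2) F) 1 0 = c at *
  generalize (g : Matrix (Fin 2) (Fin 2) F) 1 1 = d at *
  rw [hge, conj_upper_entry] at h10
  simp only [Matrix.of_apply, Matrix.cons_val', Matrix.cons_val_one, Matrix.cons_val_zero,
    Matrix.cons_val_fin_one] at h10
  have : c ^ 2 = 0 := by linear_combination -h10
  exact pow_eq_zero_iff (two_ne_zero) |>.1 this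

theorem normalizer_unipSL2 :
    Subgroup.normalizer ((unipSL2 F : Subgroup _) : Set _) = borelSL2 F :=
  le_antisymm normalizer_unipSL2_le borelSL2_le_normalizer_unipSL2

theorem weylSL2_not_mem_borelSL2 : weylSL2 F ∉ borelSL2 F := by
  rw [mem_borelSL2, weylSL2_apply]
  simp

end

end Cfsg.Agent.Lib.Helper16
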