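import Mathlib

set_option autoImplicit false
set_option linter.style.haveILetI false
set_option linter.unusedSimpArgs false
set_option linter.unusedSectionVars false
set_option linter.unnecessarySeqFocus false

namespace Cfsg.Agent.Lib.Helper16

section
variable {G : Type*} [Group G]

theorem orderOf_six_of_commute {t y : G} (ht : orderOf t = 2) (hy : orderOf y = 3)
    (hc : Commute t y) : orderOf (t * y) = 6 := by
  have := hc.orderOf_mul_eq_mul_orderOf_of_coprime (by rw [ht, hy]; norm_num)
  rw [this, ht, hy]

/-- a nontrivial `2`-element commuting with `y` has a power of order two commuting with `y` -/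
theorem exists_involution_commute [Finite G] {u y : G} (hu : ∃ k : ℕ, orderOf u = 2 ^ k) (hu1 : u ≠ 1)
    (hc : Commute u y) : ∃ t : G, orderOf t = 2 ∧ Commute t y := by
  obtain ⟨k, hk⟩ := hu
  have hk0 : k ≠ 0 := by
    rintro rfl
    rw [pow_zero, orderOf_eq_one_iff] at hk
    exact hu1 hk
  obtain ⟨m, rfl⟩ := Nat.exists_eq_succ_of_ne_zero hk0
  refine ⟨u ^ 2 ^ m, ?_, hc.pow_left _⟩
  rw [orderOf_pow_of_dvd (pow_ne_zero _ (by norm_num)) (by rw [hk]; exact pow_dvd_pow 2 (Nat.le_succ m)),
    hk, pow_succ, Nat.mul_div_cancel_left _ (pow_pos (by norm_num) m)]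

variable [Finite G]

theorem card_sylow_three_of_card_24 (h : Nat.card G = 24) (P : Sylow 3 G) : Nat.card P = 3 := by
  haveI : Fact (Nat.Prime 3) := ⟨Nat.prime_three⟩
  obtain ⟨k, hk⟩ := IsPGroup.exists_card_eq P.isPGroup'
  have h1 := (P : Subgroup G).card_mul_index
  have h2 := P.not_dvd_index
  rw [h] at h1
  have hk3 : k < 3 := by
    by_contra hk3
    push Not at hk3
    have : 3 ^ 3 ∣ Nat.card (P : Subgroup G) := by
      rw [hk]
      exact pow_dvd_pow 3 hk3
    have h27 : 3 ^ 3 ∣ 24 := by
      rw [← h1]
      exact Dvd.dvd.mul_right this _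
    omega
  change Nat.card (P : Subgroup G) = 3
  interval_cases k
  · rw [hk, pow_zero, one_mul] at h1
    rw [h1] at h2
    omega
  · rw [hk]
    norm_num
  · rw [hk] at h1
    omega

theorem card_sylow_two_of_card_24 (h : Nat.card G = 24) (Q : Sylow 2 G) : Nat.card Q = 8 := by
  haveI : Fact (Nat.Prime 2) := ⟨Nat.prime_two⟩
  obtain ⟨k, hk⟩ := IsPGroup.exists_card_eq Q.isPGroup'
  have h1 := (Q : Subgroup G).card_mul_index
  have h2 := Q.not_dvd_index
  rw [h] at h1
  have hk3 : k < 5 := by
    by_contra hk3
    push Not at hk3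
    have : 2 ^ 5 ∣ Nat.card (Q : Subgroup G) := by
      rw [hk]
      exact pow_dvd_pow 2 hk3
    have h27 : 2 ^ 5 ∣ 24 := by
      rw [← h1]
      exact Dvd.dvd.mul_right this _
    omega
  change Nat.card (Q : Subgroup G) = 8
  interval_cases k
  · rw [hk, pow_zero, one_mul] at h1
    rw [h1] at h2
    omega
  · rw [hk] at h1
    have : (Q : Subgroup G).index = 12 := by omega
    rw [this] at h2
    omega
  · rw [hk] at h1
    have : (Q : Subgroup G).index = 6 := by omega
    rw [this] at h2
    omega
  · rw [hk]
    norm_num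
  · rw [hk] at h1
    omega

/-- A group of order 24 with no element of order 6 is isomorphic to `S₄`. -/
theorem s4_of_card_24 (h : Nat.card G = 24) (h6 : ∀ g : G, orderOf g ≠ 6) :
    Nonempty (G ≃* Equiv.Perm (Fin 4)) := by
  classical
  haveI : Fact (Nat.Prime 3) := ⟨Nat.prime_three⟩
  haveI : Fact (Nat.Prime 2) := ⟨Nat.prime_two⟩
  have hno : ∀ t y : G, orderOf t = 2 → orderOf y = 3 → ¬ Commute t y :=
    fun t y ht hy hc => h6 _ (orderOf_six_of_commute ht hy hc)
  let P : Sylow 3 G := default
  have hPcard : Nat.card (P : Subgroup G) = 3 := card_sylow_three_of_card_24 h P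
  have hidx : (P : Subgroup G).index = 8 := by
    have := (P : Subgroup G).card_mul_index
    rw [hPcard, h] at this
    omega
  -- a generator of `P`
  obtain ⟨y', hy'⟩ := exists_prime_orderOf_dvd_card' (G := (P : Subgroup G)) 3 (by rw [hPcard])
  have hy : orderOf (y' : G) = 3 := by rw [Subgroup.orderOf_coe]; exact hy'
  have hPz : (P : Subgroup G) = Subgroup.zpowers (y' : G) := by
    symm
    apply Subgroup.eq_of_le_of_card_ge
    · rw [Subgroup.zpowers_le]
      exact y'.2
    · rw [Nat.card_zpowers, hy, hPcard]
  have hn3 : Nat.card (Sylow 3 G) = 1 ∨ Nat.card (Sylow 3 G) = 4 := by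
    have h1 : Nat.card (Sylow 3 G) ≡ 1 [MOD 3] := card_sylow_modEq_one 3 G
    have h2 := P.card_dvd_index
    rw [hidx] at h2
    have h3 : Nat.card (Sylow 3 G) ≤ 8 := Nat.le_of_dvd (by norm_num) h2
    unfold Nat.ModEq at h1
    generalize Nat.card (Sylow 3 G) = n at h1 h2 h3
    interval_cases n <;> omega
  rcases hn3 with hn3 | hn3
  · -- the Sylow 3-subgroup is normal
    exfalso
    haveI : Subsingleton (Sylow 3 G) := (Nat.card_eq_one_iff_unique.1 hn3).1
    have hPn : (P : Subgroup G).Normal := Sylow.normal_of_subsingleton P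
    have hconj : ∀ g : G, g * y' * g⁻¹ = y' ∨ g * y' * g⁻¹ = (y' : G)⁻¹ := by
      intro g
      have hmem : g * y' * g⁻¹ ∈ Subgroup.zpowers (y' : G) := by
        rw [← hPz]
        exact hPn.conj_mem _ y'.2 g
      rw [mem_zpowers_iff_mem_range_orderOf, hy] at hmem
      obtain ⟨k, hk, hk'⟩ := Finset.mem_image.1 hmem
      rw [Finset.mem_range] at hk
      have hy3 : (y' : G) ^ 3 = 1 := by
        have := pow_orderOf_eq_one (y' : G)
        rwa [hy] at this
      interval_cases k
      · exfalso
        rw [pow_zero] at hk'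
        have : (y' : G) = 1 := by
          have h1 : g * y' * g⁻¹ = 1 := hk'.symm
          have : (y' : G) = g⁻¹ * (g * y' * g⁻¹) * g := by group
          rw [this, h1]
          group
        rw [this, orderOf_one] at hy
        omega
      · left
        rw [← hk', pow_one]
      · right
        rw [← hk']
        rw [eq_inv_iff_mul_eq_one, ← pow_succ]
        exact hy3
    let Q : Sylow 2 G := default
    have hQcard : Nat.card (Q : Subgroup G) = 8 := card_sylow_two_of_card_24 h Q
    have h2pow : ∀ u : G, u ∈ (Q : Subgroup G) → ∃ k : ℕ, orderOf u = 2 ^ k := by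
      intro u hu
      obtain ⟨k, hk⟩ := (IsPGroup.iff_orderOf.1 Q.isPGroup') ⟨u, hu⟩
      exact ⟨k, by rw [← hk, Subgroup.orderOf_mk]⟩
    -- a nontrivial element of `Q` commuting with `y` is impossible
    have hbad : ∀ u : G, u ∈ (Q : Subgroup G) → u ≠ 1 → ¬ Commute u (y' : G) := by
      intro u hu hu1 hc
      obtain ⟨t, ht, htc⟩ := exists_involution_commute (h2pow u hu) hu1 hc
      exact hno t y' ht hy htc
    obtain ⟨t', ht'⟩ := exists_prime_orderOf_dvd_card' (G := (Q : Subgroup G)) 2 (by rw [hQcard]; norm_num)
    have ht : orderOf (t' : G) = 2 := by rw [Subgroup.orderOf_coe]; exact ht'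
    have ht1 : (t' : G) ≠ 1 := by
      intro h1
      rw [h1, orderOf_one] at ht
      omega
    have htinv : (t' : G) * y' * (t' : G)⁻¹ = (y' : G)⁻¹ := by
      rcases hconj t' with h1 | h1
      · exfalso
        apply hbad t' t'.2 ht1
        have h2 : (t' : G) * y' = ((t' : G) * y' * (t' : G)⁻¹) * t' := by group
        rw [commute_iff_eq, h2, h1]
      · exact h1
    -- an element of `Q` outside `⟨t⟩`
    have hex : ∃ q : G, q ∈ (Q : Subgroup G) ∧ q ∉ Subgroup.zpowers (t' : G) := by
      by_contra hcon
      push Not at hcon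
      have hle : (Q : Subgroup G) ≤ Subgroup.zpowers (t' : G) := fun q hq => hcon q hq
      have := Subgroup.card_le_of_le hle
      rw [hQcard, Nat.card_zpowers, ht] at this
      omega
    obtain ⟨q, hqQ, hqt⟩ := hex
    have hq1 : q ≠ 1 := by
      rintro rfl
      exact hqt (one_mem _)
    rcases hconj q with h1 | h1
    · apply hbad q hqQ hq1
      have h2 : q * y' = (q * y' * q⁻¹) * q := by group
      rw [commute_iff_eq, h2, h1]
    · have htq : (t' : G) * q ≠ 1 := by
        intro h2
        apply hqt
        have : q = (t' : G)⁻¹ := by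
          rw [eq_inv_iff_mul_eq_one]
          have h3 : q * t' = (t' : G)⁻¹ * (t' * q) * t' := by group
          rw [h3, h2]
          group
        rw [this]
        exact inv_mem (Subgroup.mem_zpowers _)
      apply hbad ((t' : G) * q) (mul_mem t'.2 hqQ) htq
      rw [commute_iff_eq]
      have h2 : (t' : G) * q * y' = (t' : G) * (q * y' * q⁻¹) * q := by group
      rw [h2, h1]
      have h3 : (t' : G) * (y' : G)⁻¹ = ((t' : G) * y' * (t' : G)⁻¹)⁻¹ * t' := by group
      rw [h3, htinv, inv_inv]
      group
  · -- four Sylow 3-subgroups: the conjugation action is faithful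
    let φ : G →* Equiv.Perm (Sylow 3 G) := MulAction.toPermHom G (Sylow 3 G)
    have hNcard : Nat.card (Subgroup.normalizer ((P : Subgroup G) : Set G)) = 6 := by
      have h1 : Nat.card (Sylow 3 G) = (Subgroup.normalizer ((P : Subgroup G) : Set G)).index :=
        P.card_eq_index_normalizer
      have h2 := (Subgroup.normalizer ((P : Subgroup G) : Set G)).card_mul_index
      rw [← h1, hn3, h] at h2
      omega
    have hker : ∀ g : G, φ g = 1 → ∀ R : Sylow 3 G, g ∈ Subgroup.normalizer ((R : Subgroup G) : Set G) := by
      intro g hg R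
      have := congrArg (fun σ : Equiv.Perm (Sylow 3 G) => σ R) hg
      exact Sylow.smul_eq_iff_mem_normalizer.1 this
    -- no element of order three in the kernel
    have hk3 : ∀ g : G, φ g = 1 → orderOf g ≠ 3 := by
      intro g hg ho
      have hgp : IsPGroup 3 (Subgroup.zpowers g) := by
        apply IsPGroup.of_card (n := 1)
        rw [Nat.card_zpowers, ho, pow_one]
      have hall : ∀ R : Sylow 3 G, (R : Subgroup G) = Subgroup.zpowers g := by
        intro R
        have h1 : Subgroup.zpowers g ⊓ Subgroup.normalizer ((R : Subgroup G) : Set G) =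
            Subgroup.zpowers g ⊓ (R : Subgroup G) := hgp.inf_normalizer_sylow R
        have h2 : Subgroup.zpowers g ≤ Subgroup.normalizer ((R : Subgroup G) : Set G) := by
          rw [Subgroup.zpowers_le]
          exact hker g hg R
        rw [inf_eq_left.2 h2] at h1
        have h3 : Subgroup.zpowers g ≤ (R : Subgroup G) := by
          rw [h1]
          exact inf_le_right
        symm
        apply Subgroup.eq_of_le_of_card_ge h3
        rw [Nat.card_zpowers, ho, card_sylow_three_of_card_24 h R]
      have hsub : Subsingleton (Sylow 3 G) := by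
        constructor
        intro R₁ R₂
        apply Sylow.ext
        rw [hall R₁, hall R₂]
      have := Nat.card_eq_one_iff_unique.2 ⟨hsub, ⟨P⟩⟩
      omega
    have hinj : Function.Injective φ := by
      rw [injective_iff_map_eq_one]
      intro g hg
      by_contra hg1
      have hgN := hker g hg P
      have hord : orderOf g ∣ 6 := by
        have := Subgroup.orderOf_dvd_natCard _ hgN
        rwa [hNcard] at this
      have hpos : 0 < orderOf g := orderOf_pos g
      have hle : orderOf g ≤ 6 := Nat.le_of_dvd (by norm_num) hord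
      have hne1 : orderOf g ≠ 1 := fun h1 => hg1 (orderOf_eq_one_iff.1 h1)
      have h62 : orderOf g = 2 := by
        have h3 := hk3 g hg
        have h6' := h6 g
        interval_cases (orderOf g) <;> omega
      -- `[g, y] ∈ ker φ ∩ P`
      set c := g * y' * g⁻¹ * (y' : G)⁻¹ with hc
      have hcP : c ∈ (P : Subgroup G) := by
        have h1 : g * y' * g⁻¹ ∈ (P : Subgroup G) := by
          have := (Subgroup.mem_normalizer_iff.1 hgN (y' : G)).1 y'.2
          exact this
        exact mul_mem h1 (inv_mem y'.2)
      have hcK : φ c = 1 := by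
        rw [hc, map_mul, map_mul, map_mul, hg, map_inv, map_inv, hg]
        group
      have hc1 : c = 1 := by
        by_contra hc1
        apply hk3 c hcK
        have hdvd : orderOf c ∣ 3 := by
          have := Subgroup.orderOf_dvd_natCard _ hcP
          rwa [hPcard] at this
        rcases (Nat.dvd_prime Nat.prime_three).1 hdvd with h1 | h1
        · exact absurd (orderOf_eq_one_iff.1 h1) hc1
        · exact h1
      apply hno g y' h62 hy
      rw [commute_iff_eq]
      have : g * y' = c * y' * g := by rw [hc]; group
      rw [this, hc1, one_mul]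
    have hbij : Function.Bijective φ := by
      rw [Nat.bijective_iff_injective_and_card]
      refine ⟨hinj, ?_⟩
      rw [Nat.card_perm, hn3, h]
      rfl
    let e : Sylow 3 G ≃ Fin 4 := Finite.equivFinOfCardEq hn3
    exact ⟨(MulEquiv.ofBijective φ hbij).trans e.permCongrHom⟩

end

end Cfsg.Agent.Lib.Helper16
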