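import Mathlib
import Cfsg.Agent.Lib.Helper16.S4Recog

set_option autoImplicit false
set_option linter.style.haveILetI false
set_option linter.unusedSimpArgs false
set_option linter.unusedSectionVars false
set_option linter.unnecessarySeqFocus false

namespace Cfsg.Agent.Lib.Helper16

open QuaternionGroup

/-- the quaternion group of order eight -/
abbrev Q8 := QuaternionGroup 2

/-- the map determined by the images of the two generators -/
def q8AutFun (p : Q8 × Q8) : Q8 → Q8
  | a k => p.1 ^ k.val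
  | xa k => p.2 * p.1 ^ k.val

/-- the admissible pairs of images -/
def Q8Good (p : Q8 × Q8) : Prop :=
  p.1 * p.1 = a 2 ∧ p.2 * p.2 = a 2 ∧ p.2 ≠ p.1 ∧ p.2 ≠ p.1⁻¹

instance : DecidablePred Q8Good := fun p => by unfold Q8Good; infer_instance

set_option maxRecDepth 1000000 in
theorem q8AutFun_mul : ∀ p : Q8 × Q8, Q8Good p → ∀ g h : Q8,
    q8AutFun p (g * h) = q8AutFun p g * q8AutFun p h := by decide

set_option maxRecDepth 1000000 in
theorem q8AutFun_inj : ∀ p : Q8 × Q8, Q8Good p → ∀ g h : Q8,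
    q8AutFun p g = q8AutFun p h → g = h := by decide

set_option maxRecDepth 1000000 in
theorem card_q8Good : Fintype.card {p : Q8 × Q8 // Q8Good p} = 24 := by decide

set_option maxRecDepth 1000000 in
theorem q8_no_six : ∀ p : Q8 × Q8, Q8Good p → (q8AutFun p)^[6] (a 1) = a 1 →
    (q8AutFun p)^[6] (xa 0) = xa 0 →
    ((q8AutFun p)^[2] (a 1) = a 1 ∧ (q8AutFun p)^[2] (xa 0) = xa 0) ∨
    ((q8AutFun p)^[3] (a 1) = a 1 ∧ (q8AutFun p)^[3] (xa 0) = xa 0) := by decide

set_option maxRecDepth 1000000 in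
theorem q8_unique_involution : ∀ g : Q8, g * g = 1 → g ≠ 1 → g = a 2 := by decide

set_option maxRecDepth 1000000 in
theorem q8AutFun_id : ∀ g : Q8, q8AutFun (a 1, xa 0) g = g := by decide

theorem q8Good_of_aut (σ : MulAut Q8) : Q8Good (σ (a 1), σ (xa 0)) := by
  have h2 : σ (a 2) = a 2 := by
    apply q8_unique_involution
    · rw [← map_mul]
      have : (a 2 : Q8) * a 2 = 1 := by decide
      rw [this, map_one]
    · intro h
      have : (a 2 : Q8) = 1 := σ.injective (by rw [h, map_one])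
      revert this
      decide
  refine ⟨?_, ?_, ?_, ?_⟩
  · change σ (a 1) * σ (a 1) = a 2
    rw [← map_mul]
    have : (a 1 : Q8) * a 1 = a 2 := by decide
    rw [this, h2]
  · change σ (xa 0) * σ (xa 0) = a 2
    rw [← map_mul]
    have : (xa 0 : Q8) * xa 0 = a 2 := by decide
    rw [this, h2]
  · change σ (xa 0) ≠ σ (a 1)
    intro h
    have := σ.injective h
    revert this
    decide
  · change σ (xa 0) ≠ (σ (a 1))⁻¹
    rw [← map_inv]
    intro h
    have := σ.injective h
    revert this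
    decide

theorem q8_aut_eq (σ : MulAut Q8) (g : Q8) : σ g = q8AutFun (σ (a 1), σ (xa 0)) g := by
  cases g with
  | a k =>
    change σ (a k) = σ (a 1) ^ k.val
    rw [← map_pow, a_one_pow, ZMod.natCast_zmod_val]
  | xa k =>
    change σ (xa k) = σ (xa 0) * σ (a 1) ^ k.val
    rw [← map_pow, ← map_mul, a_one_pow, ZMod.natCast_zmod_val, xa_mul_a, zero_add]

/-- the automorphism attached to an admissible pair -/
noncomputable def q8AutOfGood (p : {p : Q8 × Q8 // Q8Good p}) : MulAut Q8 :=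
  MulEquiv.ofBijective (MonoidHom.mk' (q8AutFun p.1) (q8AutFun_mul p.1 p.2))
    ((Finite.injective_iff_bijective).1 (fun g h hgh => q8AutFun_inj p.1 p.2 g h hgh))

theorem q8AutOfGood_apply (p : {p : Q8 × Q8 // Q8Good p}) (g : Q8) :
    q8AutOfGood p g = q8AutFun p.1 g := rfl

/-- automorphisms of `Q₈` correspond to admissible pairs -/
noncomputable def q8AutEquiv : MulAut Q8 ≃ {p : Q8 × Q8 // Q8Good p} where
  toFun σ := ⟨(σ (a 1), σ (xa 0)), q8Good_of_aut σ⟩
  invFun p := q8AutOfGood p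
  left_inv σ := by
    ext g
    rw [q8AutOfGood_apply]
    exact (q8_aut_eq σ g).symm
  right_inv p := by
    apply Subtype.ext
    apply Prod.ext
    · change q8AutFun p.1 (a 1) = p.1.1
      change p.1.1 ^ (1 : ZMod (2 * 2)).val = p.1.1
      have : (1 : ZMod (2 * 2)).val = 1 := by decide
      rw [this, pow_one]
    · change q8AutFun p.1 (xa 0) = p.1.2
      change p.1.2 * p.1.1 ^ (0 : ZMod (2 * 2)).val = p.1.2
      have : (0 : ZMod (2 * 2)).val = 0 := by decide
      rw [this, pow_zero, mul_one]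

theorem card_mulAut_q8 : Nat.card (MulAut Q8) = 24 := by
  rw [Nat.card_congr q8AutEquiv, Nat.card_eq_fintype_card, card_q8Good]

theorem q8_aut_pow_apply (σ : MulAut Q8) (n : ℕ) (g : Q8) :
    (σ ^ n) g = (q8AutFun (σ (a 1), σ (xa 0)))^[n] g := by
  induction n generalizing g with
  | zero => rfl
  | succ n ih =>
    rw [pow_succ, MulAut.mul_apply, ih, Function.iterate_succ_apply, ← q8_aut_eq]

theorem q8_aut_eq_one (σ : MulAut Q8) (h1 : σ (a 1) = a 1) (h2 : σ (xa 0) = xa 0) : σ = 1 := by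
  ext g
  rw [q8_aut_eq σ g, h1, h2, q8AutFun_id]
  rfl

theorem q8_aut_orderOf_ne_six (σ : MulAut Q8) : orderOf σ ≠ 6 := by
  intro h
  have h6 : σ ^ 6 = 1 := by rw [← h]; exact pow_orderOf_eq_one σ
  have h61 : (σ ^ 6) (a 1) = a 1 := by rw [h6]; rfl
  have h62 : (σ ^ 6) (xa 0) = xa 0 := by rw [h6]; rfl
  rw [q8_aut_pow_apply] at h61 h62
  rcases q8_no_six _ (q8Good_of_aut σ) h61 h62 with ⟨h1, h2⟩ | ⟨h1, h2⟩
  · rw [← q8_aut_pow_apply] at h1 h2
    have := orderOf_dvd_of_pow_eq_one (q8_aut_eq_one (σ ^ 2) h1 h2)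
    rw [h] at this
    omega
  · rw [← q8_aut_pow_apply] at h1 h2
    have := orderOf_dvd_of_pow_eq_one (q8_aut_eq_one (σ ^ 3) h1 h2)
    rw [h] at this
    omega

/-- `Aut(Q₈) ≅ S₄` -/
theorem mulAut_q8_equiv_perm : Nonempty (MulAut (QuaternionGroup 2) ≃* Equiv.Perm (Fin 4)) := by
  haveI : Finite (MulAut Q8) := Nat.finite_of_card_ne_zero (by rw [card_mulAut_q8]; norm_num)
  exact s4_of_card_24 card_mulAut_q8 q8_aut_orderOf_ne_six

end Cfsg.Agent.Lib.Helper16
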