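import Mathlib
import Cfsg.Agent.Lib.Helper16.S4Recog

set_option autoImplicit false
set_option linter.style.haveILetI false
set_option linter.unusedSimpArgs false
set_option linter.unusedSectionVars false
set_option linter.unnecessarySeqFocus false

namespace Cfsg.Agent.Lib.Helper16

open Matrix QuaternionGroup

/-- `SL₂(3)` -/
abbrev SL23 := Matrix.SpecialLinearGroup (Fin 2) (ZMod 3)

/-- membership in the quaternion subgroup of `SL₂(3)` -/
def sl23InQ (g : SL23) : Prop := g * g * (g * g) = 1

instance : DecidablePred sl23InQ := fun g => by unfold sl23InQ; infer_instance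

set_option maxRecDepth 1000000 in
theorem card_SL23 : Fintype.card SL23 = 24 := by decide

set_option maxRecDepth 1000000 in
theorem sl23_center : ∀ g : SL23, (∀ h : SL23, h * g = g * h) ↔ (g = 1 ∨ g = -1) := by decide

set_option maxRecDepth 1000000 in
theorem sl23_Q_mul : ∀ g h : SL23, sl23InQ g → sl23InQ h → sl23InQ (g * h) := by decide

set_option maxRecDepth 1000000 in
theorem sl23_Q_inv : ∀ g : SL23, sl23InQ g → sl23InQ g⁻¹ := by decide

set_option maxRecDepth 1000000 in
theorem sl23_comm_mem : ∀ g h : SL23, sl23InQ (g * h * g⁻¹ * h⁻¹) := by decide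

set_option maxRecDepth 1000000 in
theorem sl23_Q_comm : ∀ q : SL23, sl23InQ q → ∃ g h : SL23, g * h * g⁻¹ * h⁻¹ = q := by decide

set_option maxRecDepth 1000000 in
theorem sl23_D1 : ∀ g : SL23, ¬ sl23InQ g →
    ∃ x : SL23, (g * x * g⁻¹ * x⁻¹) * (g * x * g⁻¹ * x⁻¹) ≠ 1 := by decide

set_option maxRecDepth 1000000 in
theorem sl23_D2 : ∀ g : SL23, sl23InQ g → g * g ≠ 1 → ∀ q : SL23, sl23InQ q →
    (∃ x : SL23, q = x * g * x⁻¹) ∨ q = g * g ∨ q = 1 := by decide

set_option maxRecDepth 1000000 in
theorem sl23_D3 : ∀ g : SL23, g * g = 1 → g = 1 ∨ g = -1 := by decide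

set_option maxRecDepth 1000000 in
theorem card_sl23Q : Fintype.card {g : SL23 // sl23InQ g} = 8 := by decide

/-- the quaternion subgroup of `SL₂(3)` -/
def sl23Q : Subgroup SL23 where
  carrier := {g | sl23InQ g}
  mul_mem' := fun {a b} ha hb => sl23_Q_mul a b ha hb
  one_mem' := by decide
  inv_mem' := fun {a} ha => sl23_Q_inv a ha

theorem mem_sl23Q (g : SL23) : g ∈ sl23Q ↔ sl23InQ g := Iff.rfl

theorem commutator_SL23 : commutator SL23 = sl23Q := by
  apply le_antisymm
  · rw [commutator_def, Subgroup.commutator_le]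
    intro g _ h _
    rw [mem_sl23Q, commutatorElement_def]
    exact sl23_comm_mem g h
  · intro q hq
    obtain ⟨g, h, rfl⟩ := sl23_Q_comm q hq
    rw [commutator_def, ← commutatorElement_def]
    exact Subgroup.commutator_mem_commutator (Subgroup.mem_top g) (Subgroup.mem_top h)

theorem natCard_SL23 : Nat.card SL23 = 24 := by
  rw [Nat.card_eq_fintype_card, card_SL23]

theorem natCard_sl23Q : Nat.card sl23Q = 8 := by
  have : Nat.card sl23Q = Nat.card {g : SL23 // sl23InQ g} := rfl
  rw [this, Nat.card_eq_fintype_card, card_sl23Q]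

theorem center_SL23_eq : ∀ g : SL23, g ∈ Subgroup.center SL23 ↔ (g = 1 ∨ g = -1) := by
  intro g
  rw [Subgroup.mem_center_iff]
  exact sl23_center g

set_option maxRecDepth 1000000 in
theorem sl23_neg_one_ne : (-1 : SL23) ≠ 1 := by decide

theorem natCard_center_SL23 : Nat.card (Subgroup.center SL23) = 2 := by
  classical
  have hset : ((Subgroup.center SL23 : Subgroup SL23) : Set SL23) = {1, -1} := by
    ext g
    rw [SetLike.mem_coe, center_SL23_eq]
    simp
  have : Nat.card (Subgroup.center SL23) = Nat.card ((Subgroup.center SL23 : Subgroup SL23) : Set SL23) := rfl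
  rw [this, hset, Nat.card_eq_fintype_card, Fintype.card_ofFinset]
  rw [Finset.card_eq_two]
  exact ⟨1, -1, fun h => sl23_neg_one_ne h.symm, by ext; simp⟩

/-- the images of the generators of the quaternion group -/
def sl23I : SL23 := ⟨!![0, -1; 1, 0], by decide⟩
/-- the images of the generators of the quaternion group -/
def sl23J : SL23 := ⟨!![1, 1; 1, -1], by decide⟩

/-- the embedding of `Q₈` -/
def sl23QFun : QuaternionGroup 2 → SL23
  | a k => sl23I ^ k.val
  | xa k => sl23J * sl23I ^ k.val

set_option maxRecDepth 1000000 in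
theorem sl23QFun_mul : ∀ g h : QuaternionGroup 2, sl23QFun (g * h) = sl23QFun g * sl23QFun h := by
  decide

set_option maxRecDepth 1000000 in
theorem sl23QFun_inj : ∀ g h : QuaternionGroup 2, sl23QFun g = sl23QFun h → g = h := by decide

set_option maxRecDepth 1000000 in
theorem sl23QFun_range : ∀ g : SL23, sl23InQ g ↔ ∃ q : QuaternionGroup 2, sl23QFun q = g := by decide

theorem commutator_SL23_equiv : Nonempty (commutator SL23 ≃* QuaternionGroup 2) := by
  rw [commutator_SL23]
  let φ : QuaternionGroup 2 →* SL23 := MonoidHom.mk' sl23QFun sl23QFun_mul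
  have hmem : ∀ q, φ q ∈ sl23Q := fun q => (sl23QFun_range _).2 ⟨q, rfl⟩
  let ψ : QuaternionGroup 2 →* sl23Q := φ.codRestrict sl23Q hmem
  have hbij : Function.Bijective ψ := by
    constructor
    · intro x y hxy
      apply sl23QFun_inj
      exact congrArg Subtype.val hxy
    · rintro ⟨g, hg⟩
      obtain ⟨q, hq⟩ := (sl23QFun_range g).1 hg
      exact ⟨q, Subtype.ext hq⟩
  exact ⟨(MulEquiv.ofBijective ψ hbij).symm⟩

theorem SL23_normal_subgroups (N : Subgroup SL23) (hN : N.Normal) :
    N = ⊥ ∨ N = ⊤ ∨ N = Subgroup.center SL23 ∨ N = commutator SL23 := by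
  rw [commutator_SL23]
  have hD2 : ∀ g ∈ N, sl23InQ g → g * g ≠ 1 → sl23Q ≤ N := by
    intro g hgN hgQ hg2 q hq
    rcases sl23_D2 g hgQ hg2 q hq with ⟨x, rfl⟩ | rfl | rfl
    · exact hN.conj_mem g hgN x
    · exact mul_mem hgN hgN
    · exact one_mem N
  by_cases h1 : ∃ g ∈ N, ¬ sl23InQ g
  · obtain ⟨g, hgN, hgQ⟩ := h1
    right; left
    obtain ⟨x, hx⟩ := sl23_D1 g hgQ
    have hcN : g * x * g⁻¹ * x⁻¹ ∈ N := by
      have h1 : x * g⁻¹ * x⁻¹ ∈ N := hN.conj_mem _ (inv_mem hgN) x
      have h2 : g * x * g⁻¹ * x⁻¹ = g * (x * g⁻¹ * x⁻¹) := by group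
      rw [h2]
      exact mul_mem hgN h1
    have hle : sl23Q ≤ N := hD2 _ hcN (sl23_comm_mem g x) hx
    have hd1 : Nat.card sl23Q ∣ Nat.card N := Subgroup.card_dvd_of_le hle
    have hd2 : Nat.card N ∣ Nat.card SL23 := Subgroup.card_subgroup_dvd_card N
    rw [natCard_sl23Q] at hd1
    rw [natCard_SL23] at hd2
    have hne : Nat.card N ≠ 8 := by
      intro h8
      have : sl23Q = N := Subgroup.eq_of_le_of_card_ge hle (by rw [h8, natCard_sl23Q])
      rw [← this] at hgN
      exact hgQ hgN
    rw [← Subgroup.card_eq_iff_eq_top, natCard_SL23]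
    obtain ⟨k, hk⟩ := hd1
    have hk3 : k ∣ 3 := by
      rw [hk] at hd2
      exact Nat.dvd_of_mul_dvd_mul_left (by norm_num : 0 < 8) (by simpa using hd2)
    rcases (Nat.dvd_prime Nat.prime_three).1 hk3 with rfl | rfl
    · omega
    · omega
  · push Not at h1
    by_cases h2 : ∃ g ∈ N, g * g ≠ 1
    · obtain ⟨g, hgN, hg2⟩ := h2
      right; right; right
      exact le_antisymm (fun g hg => h1 g hg) (hD2 g hgN (h1 g hgN) hg2)
    · push Not at h2
      by_cases h3 : (-1 : SL23) ∈ N
      · right; right; left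
        ext g
        rw [center_SL23_eq]
        constructor
        · intro hg
          exact sl23_D3 g (h2 g hg)
        · rintro (rfl | rfl)
          · exact one_mem N
          · exact h3
      · left
        rw [Subgroup.eq_bot_iff_forall]
        intro g hg
        rcases sl23_D3 g (h2 g hg) with rfl | rfl
        · rfl
        · exact absurd hg h3

/-- the structure of `SL₂(3)` -/
theorem SL23_structure :
    Nat.card SL23 = 24 ∧
    Nat.card (Subgroup.center SL23) = 2 ∧
    Nat.card (commutator SL23) = 8 ∧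
    Nonempty (commutator SL23 ≃* QuaternionGroup 2) ∧
    (∀ P : Sylow 3 SL23, Subgroup.IsComplement' (commutator SL23) (P : Subgroup SL23)) ∧
    ∀ N : Subgroup SL23, N.Normal →
      N = ⊥ ∨ N = ⊤ ∨ N = Subgroup.center SL23 ∨ N = commutator SL23 := by
  have h8 : Nat.card (commutator SL23) = 8 := by rw [commutator_SL23, natCard_sl23Q]
  refine ⟨natCard_SL23, natCard_center_SL23, h8, commutator_SL23_equiv, ?_, SL23_normal_subgroups⟩
  intro P
  have h3 : Nat.card (P : Subgroup SL23) = 3 := card_sylow_three_of_card_24 natCard_SL23 P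
  apply Subgroup.isComplement'_of_coprime
  · rw [h8, h3, natCard_SL23]
  · rw [h8, h3]
    norm_num

end Cfsg.Agent.Lib.Helper16
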