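import Mathlib
import Cfsg.Prelude.Def_PLocal
import Cfsg.Prelude.Def_LocalEven

set_option autoImplicit false
set_option linter.style.haveILetI false
set_option linter.unusedSimpArgs false
set_option linter.unusedSectionVars false

namespace Cfsg.Agent.Lib.Helper16

open Matrix

section
variable {R : Type*} [CommRing R]

/-- the affine subgroup of `SL₃`: matrices with last row `(0, 0, 1)` -/
def affSL3 (R : Type*) [CommRing R] : Subgroup (Matrix.SpecialLinearGroup (Fin 3) R) where
  carrier := {M | (M : Matrix (Fin 3) (Fin 3) R) 2 0 = 0 ∧ (M : Matrix (Fin 3) (Fin 3) R) 2 1 = 0 ∧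
    (M : Matrix (Fin 3) (Fin 3) R) 2 2 = 1}
  mul_mem' := by
    rintro M N ⟨h0, h1, h2⟩ ⟨k0, k1, k2⟩
    simp only [Set.mem_ofPred_eq, Matrix.SpecialLinearGroup.coe_mul, Matrix.mul_apply,
      Fin.sum_univ_three, h0, h1, h2, k0, k1, k2]
    simp
  one_mem' := by
    simp
  inv_mem' := by
    rintro M ⟨h0, h1, h2⟩
    have h : (M : Matrix (Fin 3) (Fin 3) R) * ((M⁻¹ : Matrix.SpecialLinearGroup (Fin 3) R) :
        Matrix (Fin 3) (Fin 3) R) = 1 := by
      rw [← Matrix.SpecialLinearGroup.coe_mul, mul_inv_cancel, Matrix.SpecialLinearGroup.coe_one]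
    have e : ∀ j, ((M⁻¹ : Matrix.SpecialLinearGroup (Fin 3) R) : Matrix (Fin 3) (Fin 3) R) 2 j =
        (1 : Matrix (Fin 3) (Fin 3) R) 2 j := by
      intro j
      rw [← h, Matrix.mul_apply, Fin.sum_univ_three, h0, h1, h2]
      simp
    simp only [Set.mem_ofPred_eq, e]
    simp

theorem mem_affSL3 (M : Matrix.SpecialLinearGroup (Fin 3) R) :
    M ∈ affSL3 R ↔ (M : Matrix (Fin 3) (Fin 3) R) 2 0 = 0 ∧
      (M : Matrix (Fin 3) (Fin 3) R) 2 1 = 0 ∧ (M : Matrix (Fin 3) (Fin 3) R) 2 2 = 1 := Iff.rfl

theorem qd_eq_affSL3 (p : ℕ) : Cfsg.qd p = affSL3 (ZMod p) :=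
  Subgroup.closure_eq (affSL3 (ZMod p))

theorem qdOver_eq_affSL3 (F : Type*) [Field F] : Cfsg.qdOver F = affSL3 F :=
  Subgroup.closure_eq (affSL3 F)


theorem affSL3_row (M : affSL3 R) :
    ((M : Matrix.SpecialLinearGroup (Fin 3) R) : Matrix (Fin 3) (Fin 3) R) 2 0 = 0 ∧
    ((M : Matrix.SpecialLinearGroup (Fin 3) R) : Matrix (Fin 3) (Fin 3) R) 2 1 = 0 ∧
    ((M : Matrix.SpecialLinearGroup (Fin 3) R) : Matrix (Fin 3) (Fin 3) R) 2 2 = 1 := M.2

/-- entries of an element of the affine group -/
abbrev affE (M : affSL3 R) (i j : Fin 3) : R :=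
  ((M : Matrix.SpecialLinearGroup (Fin 3) R) : Matrix (Fin 3) (Fin 3) R) i j

theorem affE_mul (M N : affSL3 R) (i j : Fin 3) :
    affE (M * N) i j = affE M i 0 * affE N 0 j + affE M i 1 * affE N 1 j + affE M i 2 * affE N 2 j := by
  simp only [affE, Subgroup.coe_mul, Matrix.SpecialLinearGroup.coe_mul, Matrix.mul_apply,
    Fin.sum_univ_three]

theorem affE_one (i j : Fin 3) : affE (1 : affSL3 R) i j = if i = j then 1 else 0 := by
  simp only [affE, Subgroup.coe_one, Matrix.SpecialLinearGroup.coe_one, Matrix.one_apply]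

theorem affE_ext {M N : affSL3 R} (h : ∀ i j, affE M i j = affE N i j) : M = N := by
  apply Subtype.ext
  apply Subtype.ext
  ext i j
  exact h i j

theorem affE_det (M : affSL3 R) : affE M 0 0 * affE M 1 1 - affE M 0 1 * affE M 1 0 = 1 := by
  have h := M.1.2
  rw [Matrix.det_fin_three] at h
  obtain ⟨h0, h1, h2⟩ := affSL3_row M
  simp only [affE]
  rw [h0, h1, h2] at h
  linear_combination h

theorem affE_row (M : affSL3 R) : affE M 2 0 = 0 ∧ affE M 2 1 = 0 ∧ affE M 2 2 = 1 := M.2

/-- the matrix of the linear part -/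
def affLinMat (M : affSL3 R) : Matrix (Fin 2) (Fin 2) R :=
  !![affE M 0 0, affE M 0 1; affE M 1 0, affE M 1 1]

theorem affLinMat_mul (M N : affSL3 R) : affLinMat (M * N) = affLinMat M * affLinMat N := by
  obtain ⟨h0, h1, h2⟩ := affE_row N
  rw [affLinMat, affLinMat, affLinMat, Matrix.mul_fin_two]
  simp only [affE_mul, h0, h1, mul_zero, add_zero]

theorem affLinMat_one : affLinMat (1 : affSL3 R) = 1 := by
  rw [affLinMat]
  simp only [affE_one]
  ext i j
  fin_cases i <;> fin_cases j <;> simp

/-- the linear part of an affine transformation -/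
def affLin : affSL3 R →* Matrix.SpecialLinearGroup (Fin 2) R where
  toFun M := ⟨affLinMat M, by
    rw [affLinMat, Matrix.det_fin_two_of]; exact affE_det M⟩
  map_one' := Subtype.ext affLinMat_one
  map_mul' M N := Subtype.ext (affLinMat_mul M N)

theorem affLin_coe (M : affSL3 R) :
    ((affLin M : Matrix.SpecialLinearGroup (Fin 2) R) : Matrix (Fin 2) (Fin 2) R) = affLinMat M :=
  rfl

theorem affLin_apply (M : affSL3 R) (i j : Fin 2) :
    ((affLin M : Matrix.SpecialLinearGroup (Fin 2) R) : Matrix (Fin 2) (Fin 2) R) i j =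
      affE M (Fin.castSucc i) (Fin.castSucc j) := by
  fin_cases i <;> fin_cases j <;> rfl

/-- the translation part of an affine transformation -/
def affTr (M : affSL3 R) : Fin 2 → R := ![affE M 0 2, affE M 1 2]

theorem affTr_one : affTr (1 : affSL3 R) = 0 := by
  funext i
  fin_cases i <;> simp [affTr, affE_one]

theorem affTr_mul (M N : affSL3 R) :
    affTr (M * N) = ((affLin M : Matrix.SpecialLinearGroup (Fin 2) R) :
      Matrix (Fin 2) (Fin 2) R) *ᵥ affTr N + affTr M := by
  obtain ⟨h0, h1, h2⟩ := affE_row N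
  rw [affLin_coe]
  funext i
  fin_cases i
  · simp only [affTr, affLinMat, affE_mul, h2, mul_one, Matrix.mulVec, dotProduct,
      Fin.sum_univ_two, Pi.add_apply]
    simp
  · simp only [affTr, affLinMat, affE_mul, h2, mul_one, Matrix.mulVec, dotProduct,
      Fin.sum_univ_two, Pi.add_apply]
    simp

/-- the matrix of an affine transformation with given parts -/
def affMkMat (A : Matrix (Fin 2) (Fin 2) R) (t : Fin 2 → R) : Matrix (Fin 3) (Fin 3) R :=
  !![A 0 0, A 0 1, t 0; A 1 0, A 1 1, t 1; 0, 0, 1]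

/-- the affine transformation with given linear and translation parts -/
def affMk (A : Matrix.SpecialLinearGroup (Fin 2) R) (t : Fin 2 → R) : affSL3 R :=
  ⟨⟨affMkMat A.1 t, by
    have h := A.2
    rw [Matrix.det_fin_two] at h
    rw [affMkMat, Matrix.det_fin_three]
    simp
    linear_combination h⟩, by
    change _ ∧ _ ∧ _
    refine ⟨?_, ?_, ?_⟩ <;> simp [affMkMat]⟩

theorem affE_affMk (A : Matrix.SpecialLinearGroup (Fin 2) R) (t : Fin 2 → R) (i j : Fin 3) :
    affE (affMk A t) i j = affMkMat A.1 t i j := rfl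

theorem affLin_affMk (A : Matrix.SpecialLinearGroup (Fin 2) R) (t : Fin 2 → R) :
    affLin (affMk A t) = A := by
  apply Subtype.ext
  ext i j
  fin_cases i <;> fin_cases j <;> simp [affLin_coe, affLinMat, affE_affMk, affMkMat]

theorem affTr_affMk (A : Matrix.SpecialLinearGroup (Fin 2) R) (t : Fin 2 → R) :
    affTr (affMk A t) = t := by
  funext i
  fin_cases i <;> simp [affTr, affE_affMk, affMkMat]

theorem aff_ext {M N : affSL3 R} (h1 : affLin M = affLin N) (h2 : affTr M = affTr N) : M = N := by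
  apply affE_ext
  obtain ⟨m0, m1, m2⟩ := affSL3_row M
  obtain ⟨n0, n1, n2⟩ := affSL3_row N
  have hl : ∀ i j : Fin 2, affE M (Fin.castSucc i) (Fin.castSucc j) =
      affE N (Fin.castSucc i) (Fin.castSucc j) := by
    intro i j
    rw [← affLin_apply, ← affLin_apply, h1]
  have ht0 : affE M 0 2 = affE N 0 2 := congrFun h2 0
  have ht1 : affE M 1 2 = affE N 1 2 := congrFun h2 1
  intro i j
  fin_cases i <;> fin_cases j
  · exact hl 0 0
  · exact hl 0 1
  · exact ht0
  · exact hl 1 0
  · exact hl 1 1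
  · exact ht1
  · exact m0.trans n0.symm
  · exact m1.trans n1.symm
  · exact m2.trans n2.symm

theorem affMk_eta (M : affSL3 R) : affMk (affLin M) (affTr M) = M :=
  aff_ext (affLin_affMk _ _) (affTr_affMk _ _)

/-- the affine group as a set is the product of `SL₂` and the plane -/
def affEquiv : affSL3 R ≃ Matrix.SpecialLinearGroup (Fin 2) R × (Fin 2 → R) where
  toFun M := (affLin M, affTr M)
  invFun p := affMk p.1 p.2
  left_inv M := affMk_eta M
  right_inv p := Prod.ext (affLin_affMk p.1 p.2) (affTr_affMk p.1 p.2)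


/-- the affine action on the plane -/
@[instance_reducible]
def affAction (R : Type*) [CommRing R] : MulAction (affSL3 R) (Fin 2 → R) where
  smul M v := affLinMat M *ᵥ v + affTr M
  one_smul v := by
    change affLinMat (1 : affSL3 R) *ᵥ v + affTr (1 : affSL3 R) = v
    rw [affLinMat_one, affTr_one, Matrix.one_mulVec, add_zero]
  mul_smul M N v := by
    change affLinMat (M * N) *ᵥ v + affTr (M * N) =
      affLinMat M *ᵥ (affLinMat N *ᵥ v + affTr N) + affTr M
    rw [affLinMat_mul, affTr_mul, affLin_coe, Matrix.mulVec_add, Matrix.mulVec_mulVec, add_assoc]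

/-- the affine action as a homomorphism into the symmetric group of the plane -/
def affPerm (R : Type*) [CommRing R] : affSL3 R →* Equiv.Perm (Fin 2 → R) :=
  @MulAction.toPermHom (affSL3 R) (Fin 2 → R) _ (affAction R)

theorem affPerm_apply (M : affSL3 R) (v : Fin 2 → R) :
    affPerm R M v = affLinMat M *ᵥ v + affTr M := rfl

theorem affPerm_injective : Function.Injective (affPerm R) := by
  rw [injective_iff_map_eq_one]
  intro M hM
  have h : ∀ v : Fin 2 → R, affLinMat M *ᵥ v + affTr M = v := by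
    intro v
    rw [← affPerm_apply, hM]
    rfl
  have ht : affTr M = 0 := by
    have := h 0
    rw [Matrix.mulVec_zero, zero_add] at this
    exact this
  have hl : affLinMat M = 1 := by
    apply Matrix.toLin'.injective
    apply LinearMap.ext
    intro v
    have := h v
    rw [ht, add_zero] at this
    rw [Matrix.toLin'_apply, this, Matrix.toLin'_one]
    rfl
  apply aff_ext
  · apply Subtype.ext
    rw [affLin_coe, hl, map_one]
    rfl
  · rw [ht, affTr_one]

end

end Cfsg.Agent.Lib.Helper16
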