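import Mathlib
import Cfsg.Agent.Lib.Helper16.Qd
import Cfsg.Agent.Lib.Helper16.PCore
import Cfsg.Agent.Lib.Helper16.SL2Borel

set_option autoImplicit false
set_option linter.style.haveILetI false
set_option linter.unusedSimpArgs false
set_option linter.unusedSectionVars false

namespace Cfsg.Agent.Lib.Helper16

open Matrix

section
variable {F : Type*} [Field F]

theorem affMk_mul (A B : Matrix.SpecialLinearGroup (Fin 2) F) (s t : Fin 2 → F) :
    affMk A s * affMk B t = affMk (A * B) ((A : Matrix (Fin 2) (Fin 2) F) *ᵥ t + s) := by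
  apply aff_ext
  · rw [map_mul, affLin_affMk, affLin_affMk, affLin_affMk]
  · rw [affTr_mul, affLin_affMk, affTr_affMk, affTr_affMk, affTr_affMk]

theorem affMk_one_zero : affMk (1 : Matrix.SpecialLinearGroup (Fin 2) F) 0 = 1 := by
  apply aff_ext
  · rw [affLin_affMk, map_one]
  · rw [affTr_affMk, affTr_one]

theorem affLin_surjective : Function.Surjective (affLin (R := F)) :=
  fun A => ⟨affMk A 0, affLin_affMk A 0⟩

/-- the translation subgroup -/
def affV (F : Type*) [Field F] : Subgroup (affSL3 F) := (affLin (R := F)).ker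

instance affV_normal : (affV F).Normal := MonoidHom.normal_ker _

theorem mem_affV (M : affSL3 F) : M ∈ affV F ↔ affLin M = 1 := MonoidHom.mem_ker

theorem mem_affV_iff (M : affSL3 F) : M ∈ affV F ↔
    affE M 0 0 = 1 ∧ affE M 0 1 = 0 ∧ affE M 1 0 = 0 ∧ affE M 1 1 = 1 := by
  rw [mem_affV]
  constructor
  · intro h
    have h' : affLinMat M = 1 := by
      rw [← affLin_coe, h, Matrix.SpecialLinearGroup.coe_one]
    rw [affLinMat, Matrix.one_fin_two] at h'
    exact ⟨by simpa using congrFun (congrFun h' 0) 0, by simpa using congrFun (congrFun h' 0) 1,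
      by simpa using congrFun (congrFun h' 1) 0, by simpa using congrFun (congrFun h' 1) 1⟩
  · rintro ⟨h0, h1, h2, h3⟩
    apply Subtype.ext
    rw [affLin_coe, Matrix.SpecialLinearGroup.coe_one, affLinMat, Matrix.one_fin_two]
    exact mat_fin_two_congr h0 h1 h2 h3

theorem affTr_conj (M v : affSL3 F) (hv : affLin v = 1) :
    affTr (M * v * M⁻¹) = (affLin M : Matrix (Fin 2) (Fin 2) F) *ᵥ affTr v := by
  have hw : affLin (M * v * M⁻¹) = 1 := by
    rw [map_mul, map_mul, hv, mul_one, map_inv, mul_inv_cancel]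
  have h1 : affTr (M * v * M⁻¹ * M) = affTr (M * v) := by rw [inv_mul_cancel_right]
  rw [affTr_mul, affTr_mul M v, hw, Matrix.SpecialLinearGroup.coe_one, Matrix.one_mulVec] at h1
  exact add_left_cancel (h1.trans (add_comm _ _))

theorem affT_mul (s t : Fin 2 → F) :
    affMk (1 : Matrix.SpecialLinearGroup (Fin 2) F) s * affMk 1 t = affMk 1 (s + t) := by
  rw [affMk_mul, one_mul, Matrix.SpecialLinearGroup.coe_one, Matrix.one_mulVec, add_comm]

theorem affT_pow (t : Fin 2 → F) (k : ℕ) :
    affMk (1 : Matrix.SpecialLinearGroup (Fin 2) F) t ^ k = affMk 1 (k • t) := by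
  induction k with
  | zero => rw [pow_zero, zero_smul, affMk_one_zero]
  | succ k ih => rw [pow_succ, ih, affT_mul, succ_nsmul]

theorem eq_affT_of_mem {M : affSL3 F} (hM : M ∈ affV F) : M = affMk 1 (affTr M) := by
  conv_lhs => rw [← affMk_eta M, (mem_affV M).1 hM]

theorem affV_pow_eq_one (p : ℕ) [CharP F p] {M : affSL3 F} (hM : M ∈ affV F) : M ^ p = 1 := by
  rw [eq_affT_of_mem hM, affT_pow, ← Nat.cast_smul_eq_nsmul F, CharP.cast_eq_zero, zero_smul,
    affMk_one_zero]

theorem affV_isPGroup (p : ℕ) [CharP F p] : IsPGroup p (affV F) := by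
  intro v
  refine ⟨1, ?_⟩
  apply Subtype.ext
  rw [pow_one, Subgroup.coe_pow, Subgroup.coe_one]
  exact affV_pow_eq_one p v.2

theorem pCore_affSL3 [Fintype F] (p : ℕ) [Fact p.Prime] [CharP F p] :
    Cfsg.pCore p (affSL3 F) = affV F := by
  apply le_antisymm
  · have hn : (Cfsg.pCore p (affSL3 F)).Normal := pCore_normal
    have hp : IsPGroup p (Cfsg.pCore p (affSL3 F)) := pCore_isPGroup
    haveI h1 : ((Cfsg.pCore p (affSL3 F)).map affLin).Normal := hn.map affLin affLin_surjective
    have h2 : IsPGroup p ((Cfsg.pCore p (affSL3 F)).map affLin) := hp.map affLin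
    have h3 := normal_pgroup_SL2_eq_bot _ h2
    exact (Subgroup.map_eq_bot_iff _).1 h3
  · exact le_pCore _ inferInstance (affV_isPGroup p)

/-- the block diagonal complement -/
def affK (F : Type*) [Field F] : Subgroup (affSL3 F) where
  carrier := {M | affTr M = 0}
  mul_mem' := by
    intro M N hM hN
    change affTr (M * N) = 0
    rw [affTr_mul, (hN : affTr N = 0), (hM : affTr M = 0), Matrix.mulVec_zero, add_zero]
  one_mem' := affTr_one
  inv_mem' := by
    intro M hM
    change affTr M⁻¹ = 0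
    have h := affTr_mul M⁻¹ M
    rw [inv_mul_cancel, affTr_one, (hM : affTr M = 0), Matrix.mulVec_zero, zero_add] at h
    exact h.symm

theorem mem_affK (M : affSL3 F) : M ∈ affK F ↔ affTr M = 0 := Iff.rfl

theorem mem_affK_iff (M : affSL3 F) : M ∈ affK F ↔ affE M 0 2 = 0 ∧ affE M 1 2 = 0 := by
  rw [mem_affK, affTr]
  constructor
  · intro h
    exact ⟨by simpa using congrFun h 0, by simpa using congrFun h 1⟩
  · rintro ⟨h0, h1⟩
    funext i
    fin_cases i <;> simp [h0, h1]

theorem affK_inf_affV : affK F ⊓ affV F = ⊥ := by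
  rw [eq_bot_iff]
  rintro M ⟨hK, hV⟩
  rw [Subgroup.mem_bot]
  apply aff_ext
  · rw [(mem_affV M).1 hV, map_one]
  · rw [(hK : affTr M = 0), affTr_one]

theorem affK_sup_affV : affK F ⊔ affV F = ⊤ := by
  rw [eq_top_iff]
  intro M _
  have h : M = affMk 1 (affTr M) * affMk (affLin M) 0 := by
    rw [affMk_mul, one_mul, Matrix.SpecialLinearGroup.coe_one, Matrix.one_mulVec, zero_add,
      affMk_eta]
  rw [h, sup_comm]
  apply Subgroup.mul_mem_sup
  · rw [mem_affV, affLin_affMk]
  · rw [mem_affK, affTr_affMk]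

/-- the complement is a copy of `SL₂` -/
noncomputable def affKEquiv : affK F ≃* Matrix.SpecialLinearGroup (Fin 2) F :=
  MulEquiv.ofBijective (affLin.comp (affK F).subtype) ⟨by
    intro k₁ k₂ h
    apply Subtype.ext
    apply aff_ext h
    exact (k₁.2 : affTr k₁.1 = 0).trans (k₂.2 : affTr k₂.1 = 0).symm, by
    intro A
    exact ⟨⟨affMk A 0, affTr_affMk A 0⟩, affLin_affMk A 0⟩⟩

/-- the translation subgroup is a copy of the plane -/
def affVEquiv : Additive (affV F) ≃+ (Fin 2 → F) where
  toFun v := affTr (Additive.toMul v).1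
  invFun t := Additive.ofMul ⟨affMk 1 t, by rw [mem_affV, affLin_affMk]⟩
  left_inv v := by
    have h : affMk 1 (affTr (Additive.toMul v).1) = (Additive.toMul v).1 :=
      (eq_affT_of_mem (Additive.toMul v).2).symm
    exact Additive.toMul.injective (Subtype.ext h)
  right_inv t := affTr_affMk 1 t
  map_add' v w := by
    change affTr ((Additive.toMul v).1 * (Additive.toMul w).1) =
      affTr (Additive.toMul v).1 + affTr (Additive.toMul w).1
    rw [affTr_mul, (mem_affV _).1 (Additive.toMul v).2, Matrix.SpecialLinearGroup.coe_one,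
      Matrix.one_mulVec, add_comm]

theorem eq_one_of_mulVec {A : Matrix (Fin 2) (Fin 2) F} (h : ∀ t, A *ᵥ t = t) : A = 1 := by
  apply Matrix.toLin'.injective
  apply LinearMap.ext
  intro v
  rw [Matrix.toLin'_apply, h v, Matrix.toLin'_one]
  rfl

theorem affV_natural : Cfsg.IsNaturalSL2Module F (affV F) (affK F) := by
  refine ⟨Subgroup.le_normalizer_of_normal, affLin.comp (affK F).subtype, affVEquiv, ?_, ?_, ?_⟩
  · intro A
    exact ⟨⟨affMk A 0, affTr_affMk A 0⟩, affLin_affMk A 0⟩
  · ext l
    rw [MonoidHom.mem_ker, Subgroup.mem_subgroupOf, Subgroup.mem_centralizer_iff]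
    constructor
    · intro hl
      have hl1 : (l : affSL3 F) = 1 := by
        have : (l : affSL3 F) ∈ affK F ⊓ affV F := ⟨l.2, (mem_affV _).2 hl⟩
        rw [affK_inf_affV] at this
        exact this
      intro h _
      rw [hl1, mul_one, one_mul]
    · intro hl
      change affLin (l : affSL3 F) = 1
      apply Subtype.ext
      rw [Matrix.SpecialLinearGroup.coe_one]
      apply eq_one_of_mulVec
      intro t
      have hv : affMk (1 : Matrix.SpecialLinearGroup (Fin 2) F) t ∈ affV F := by
        rw [mem_affV, affLin_affMk]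
      have h1 := hl _ hv
      have h2 := affTr_conj (l : affSL3 F) _ (affLin_affMk 1 t)
      rw [← h1, mul_inv_cancel_right, affTr_affMk] at h2
      exact h2.symm
  · intro l v
    refine ⟨⟨(l : affSL3 F) * (v : affSL3 F) * (l : affSL3 F)⁻¹,
      affV_normal.conj_mem _ v.2 _⟩, rfl, ?_⟩
    exact affTr_conj _ _ ((mem_affV _).1 v.2)


/-- the structure of the affine group, stated for a subgroup equal to it -/
theorem qd_structure_aux [Fintype F] (p : ℕ) [Fact p.Prime] [CharP F p]
    (H : Subgroup (Matrix.SpecialLinearGroup (Fin 3) F)) (hH : H = affSL3 F) :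
    (∀ M : ↥H, M ∈ Cfsg.pCore p ↥H ↔ ((M : Matrix.SpecialLinearGroup (Fin 3) F) : Matrix (Fin 3) (Fin 3) F) 0 0 = 1 ∧ ((M : Matrix.SpecialLinearGroup (Fin 3) F) : Matrix (Fin 3) (Fin 3) F) 0 1 = 0 ∧ ((M : Matrix.SpecialLinearGroup (Fin 3) F) : Matrix (Fin 3) (Fin 3) F) 1 0 = 0 ∧ ((M : Matrix.SpecialLinearGroup (Fin 3) F) : Matrix (Fin 3) (Fin 3) F) 1 1 = 1) ∧ ∃ K : Subgroup ↥H, (∀ M : ↥H, M ∈ K ↔ ((M : Matrix.SpecialLinearGroup (Fin 3) F) : Matrix (Fin 3) (Fin 3) F) 0 2 = 0 ∧ ((M : Matrix.SpecialLinearGroup (Fin 3) F) : Matrix (Fin 3) (Fin 3) F) 1 2 = 0) ∧ K ⊓ Cfsg.pCore p ↥H = ⊥ ∧ K ⊔ Cfsg.pCore p ↥H = ⊤ ∧ Nonempty (↥K ≃* Matrix.SpecialLinearGroup (Fin 2) F) ∧ Cfsg.IsNaturalSL2Module F (Cfsg.pCore p ↥H) K := by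
  subst hH
  rw [pCore_affSL3]
  exact ⟨fun M => mem_affV_iff M, affK F, fun M => mem_affK_iff M, affK_inf_affV, affK_sup_affV,
    ⟨affKEquiv⟩, affV_natural⟩

/-! ### the standard Sylow subgroup -/

/-- the standard Sylow subgroup: the upper unitriangular matrices -/
def affS (F : Type*) [Field F] : Subgroup (affSL3 F) := (unipSL2 F).comap affLin

theorem mem_affS (M : affSL3 F) : M ∈ affS F ↔ affLin M ∈ unipSL2 F := Iff.rfl

theorem affS_isPGroup (p : ℕ) [Fact p.Prime] [CharP F p] : IsPGroup p (affS F) :=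
  (unipSL2_isPGroup p).comap_of_ker_isPGroup affLin (affV_isPGroup p)

theorem affS_index : (affS F).index = (unipSL2 F).index :=
  Subgroup.index_comap_of_surjective _ affLin_surjective

theorem normalizer_affS :
    Subgroup.normalizer ((affS F : Subgroup (affSL3 F)) : Set (affSL3 F)) =
      (borelSL2 F).comap affLin := by
  rw [affS, ← Subgroup.comap_normalizer_eq_of_surjective _ affLin_surjective, normalizer_unipSL2]

theorem normalizer_affS_ne_top :
    Subgroup.normalizer ((affS F : Subgroup (affSL3 F)) : Set (affSL3 F)) ≠ ⊤ := by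
  rw [normalizer_affS]
  intro h
  have : affMk (weylSL2 F) 0 ∈ (borelSL2 F).comap affLin := by rw [h]; trivial
  rw [Subgroup.mem_comap, affLin_affMk] at this
  exact weylSL2_not_mem_borelSL2 this

theorem comap_borel_maximal (K : Subgroup (affSL3 F)) (hK : (borelSL2 F).comap affLin ≤ K)
    (n : affSL3 F) (hn : n ∈ K) (hn' : n ∉ (borelSL2 F).comap affLin) : K = ⊤ := by
  have hker : (affLin (R := F)).ker ≤ K := by
    refine le_trans ?_ hK
    intro x hx
    rw [Subgroup.mem_comap, MonoidHom.mem_ker.1 hx]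
    exact (borelSL2 F).one_mem
  have h1 : borelSL2 F ≤ K.map affLin := by
    rw [← Subgroup.map_comap_eq_self_of_surjective affLin_surjective (borelSL2 F)]
    exact Subgroup.map_mono hK
  have h2 : K.map affLin = ⊤ :=
    borelSL2_maximal _ h1 (affLin n) (Subgroup.mem_map_of_mem _ hn) hn'
  rw [← Subgroup.comap_map_eq_self hker, h2, Subgroup.comap_top]

end

section Generic

/-- the normalizer of a subgroup normalizes its characteristic subgroups -/
theorem normalizer_le_normalizer_char {G : Type*} [Group G] (S : Subgroup G) (T : Subgroup S)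
    [hT : T.Characteristic] :
    Subgroup.normalizer (S : Set G) ≤
      Subgroup.normalizer ((T.map S.subtype : Subgroup G) : Set G) := by
  have key : ∀ (m : G) (hm : m ∈ Subgroup.normalizer (S : Set G)) (h : G),
      h ∈ T.map S.subtype → m * h * m⁻¹ ∈ T.map S.subtype := by
    intro m hm h hh
    obtain ⟨x, hx, rfl⟩ := hh
    let φ : MulAut S := S.normalizerMonoidHom ⟨m, hm⟩
    have h1 : φ x ∈ T := Subgroup.characteristic_iff_le_comap.1 hT φ hx
    exact ⟨φ x, h1, rfl⟩
  intro n hn
  rw [Subgroup.mem_normalizer_iff]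
  intro h
  constructor
  · exact key n hn h
  · intro hh
    have := key n⁻¹ (Subgroup.inv_mem _ hn) _ hh
    have e : n⁻¹ * (n * h * n⁻¹) * n⁻¹⁻¹ = h := by group
    rwa [e] at this

/-- transport of the normalizer statement along an automorphism of the ambient group -/
theorem char_normalizer_transport {G : Type*} [Group G] (S₀ : Subgroup G)
    (h0 : ∀ T : Subgroup S₀, T ≠ ⊥ → T.Characteristic →
      Subgroup.normalizer ((T.map S₀.subtype : Subgroup G) : Set G) =
        Subgroup.normalizer (S₀ : Set G))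
    (c : G ≃* G) (S : Subgroup G) (hS : S = S₀.map c.toMonoidHom)
    (T : Subgroup S) (hT : T ≠ ⊥) (hTc : T.Characteristic) :
    Subgroup.normalizer ((T.map S.subtype : Subgroup G) : Set G) =
      Subgroup.normalizer (S : Set G) := by
  subst hS
  let e : S₀ ≃* S₀.map c.toMonoidHom := c.subgroupMap S₀
  let T₀ : Subgroup S₀ := T.comap e.toMonoidHom
  have hT₀ : T₀ ≠ ⊥ := by
    intro h
    apply hT
    have : T = T₀.map e.toMonoidHom :=
      (Subgroup.map_comap_eq_self_of_surjective e.surjective T).symm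
    rw [this, h, Subgroup.map_bot]
  have hT₀c : T₀.Characteristic := by
    rw [Subgroup.characteristic_iff_comap_eq]
    intro φ
    have h1 := Subgroup.characteristic_iff_comap_eq.1 hTc ((e.symm.trans φ).trans e)
    ext x
    have h2 := SetLike.ext_iff.1 h1 (e x)
    simp only [Subgroup.mem_comap, MulEquiv.coe_toMonoidHom, MulEquiv.trans_apply,
      MulEquiv.symm_apply_apply] at h2
    exact h2
  have key := h0 T₀ hT₀ hT₀c
  have hmap : (T₀.map S₀.subtype).map c.toMonoidHom =
      T.map (S₀.map c.toMonoidHom).subtype := by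
    ext y
    constructor
    · rintro ⟨z, ⟨x, hx, rfl⟩, rfl⟩
      exact ⟨e x, hx, rfl⟩
    · rintro ⟨w, hw, rfl⟩
      refine ⟨S₀.subtype (e.symm w), ⟨e.symm w, ?_, rfl⟩, ?_⟩
      · change e (e.symm w) ∈ T
        rw [e.apply_symm_apply]
        exact hw
      · have : e (e.symm w) = w := e.apply_symm_apply w
        exact congrArg Subtype.val this
  rw [← hmap, ← Subgroup.map_equiv_normalizer_eq (T₀.map S₀.subtype) c,
    ← Subgroup.map_equiv_normalizer_eq S₀ c, key]

end Generic

section
variable {F : Type*} [Field F]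

end

end Cfsg.Agent.Lib.Helper16
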