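import Mathlib

set_option autoImplicit false

namespace Cfsg.Agent.Lib.Helper16

/-- In a finite cyclic group, the elements of order dividing a prime `p` form the cyclic group generated
by any nontrivial one of them. -/
theorem mem_zpowers_of_pow_eq_one_of_isCyclic {H : Type*} [Group H] [Finite H] [IsCyclic H] {p : ℕ}
    [Fact p.Prime] (x y : H) (hx : x ^ p = 1) (hx1 : x ≠ 1) (hy : y ^ p = 1) :
    y ∈ Subgroup.zpowers x := by
  classical
  haveI : Fintype H := Fintype.ofFinite H
  have hp : p.Prime := Fact.out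
  have hS : (Finset.univ.filter (fun a : H => a ^ p = 1)).card ≤ p :=
    IsCyclic.card_pow_eq_one_le hp.pos
  have hord : orderOf x = p := orderOf_eq_prime hx hx1
  have hZS : (Subgroup.zpowers x : Set H).toFinset ⊆ Finset.univ.filter (fun a : H => a ^ p = 1) := by
    intro z hz
    rw [Set.mem_toFinset] at hz
    obtain ⟨k, rfl⟩ := hz
    simp only [Finset.mem_filter, Finset.mem_univ, true_and]
    rw [← zpow_natCast, ← zpow_mul, mul_comm, zpow_mul, zpow_natCast, hx, one_zpow]
  have hZcard : (Subgroup.zpowers x : Set H).toFinset.card = p := by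
    rw [Set.toFinset_card, ← Nat.card_eq_fintype_card]
    rw [← hord]
    exact Nat.card_zpowers x
  have heq := Finset.eq_of_subset_of_card_le hZS (by rw [hZcard]; exact hS)
  have hyS : y ∈ Finset.univ.filter (fun a : H => a ^ p = 1) := by
    simp only [Finset.mem_filter, Finset.mem_univ, true_and]; exact hy
  rw [← heq, Set.mem_toFinset] at hyS
  exact hyS

/-- Same statement for the (generalized) quaternion groups. -/
theorem mem_zpowers_of_sq_eq_one_quaternion {n : ℕ} [NeZero n] (x y : QuaternionGroup n)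
    (hx : x ^ 2 = 1) (hx1 : x ≠ 1) (hy : y ^ 2 = 1) : y ∈ Subgroup.zpowers x := by
  have hn : (n : ZMod (2 * n)) ≠ 0 := by
    intro h
    rw [ZMod.natCast_eq_zero_iff] at h
    have hn0 : n ≠ 0 := NeZero.ne n
    have := Nat.le_of_dvd (Nat.pos_of_ne_zero hn0) h
    omega
  have hxa : ∀ i : ZMod (2 * n), (QuaternionGroup.xa i : QuaternionGroup n) ^ 2 ≠ 1 := by
    intro i h
    rw [QuaternionGroup.xa_sq, QuaternionGroup.one_def] at h
    injection h with h
    exact hn h
  have hmemC : ∀ i : ZMod (2 * n), (QuaternionGroup.a i : QuaternionGroup n) ∈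
      Subgroup.zpowers (QuaternionGroup.a 1 : QuaternionGroup n) := by
    intro i
    refine ⟨(i.val : ℤ), ?_⟩
    show (QuaternionGroup.a 1 : QuaternionGroup n) ^ ((i.val : ℕ) : ℤ) = QuaternionGroup.a i
    rw [zpow_natCast, QuaternionGroup.a_one_pow, ZMod.natCast_zmod_val]
  have hxC : x ∈ Subgroup.zpowers (QuaternionGroup.a 1 : QuaternionGroup n) := by
    rcases x with i | i
    · exact hmemC i
    · exact absurd hx (hxa i)
  have hyC : y ∈ Subgroup.zpowers (QuaternionGroup.a 1 : QuaternionGroup n) := by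
    rcases y with i | i
    · exact hmemC i
    · exact absurd hy (hxa i)
  haveI : Fact (Nat.Prime 2) := ⟨Nat.prime_two⟩
  have key := mem_zpowers_of_pow_eq_one_of_isCyclic (p := 2)
    (⟨x, hxC⟩ : Subgroup.zpowers (QuaternionGroup.a 1 : QuaternionGroup n)) ⟨y, hyC⟩
    (Subtype.ext hx) (fun h => hx1 (congrArg Subtype.val h)) (Subtype.ext hy)
  obtain ⟨k, hk⟩ := key
  exact ⟨k, by simpa using congrArg Subtype.val hk⟩

theorem quaternionGroup_zero_infinite : Infinite (QuaternionGroup 0) :=
  Infinite.of_injective (fun i : ℤ => (QuaternionGroup.a (i : ZMod (2 * 0)) : QuaternionGroup 0))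
    (fun i j h => by
      have h1 : ((i : ZMod (2 * 0)) : ZMod (2 * 0)) = (j : ZMod (2 * 0)) := QuaternionGroup.a.inj h
      have h' : ((i : ℤ) : ℤ) = ((j : ℤ) : ℤ) := h1
      simpa using h')

/-- A finite `p`-group which is cyclic or generalized quaternion has a unique subgroup of order `p`. -/
theorem mem_zpowers_of_cyclic_or_quaternion {H : Type*} [Group H] [Finite H] {p : ℕ} [Fact p.Prime]
    (hH : IsPGroup p H) (hT : IsCyclic H ∨ ∃ n : ℕ, Nonempty (H ≃* QuaternionGroup n))
    (x y : H) (hx : x ^ p = 1) (hx1 : x ≠ 1) (hy : y ^ p = 1) : y ∈ Subgroup.zpowers x := by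
  rcases hT with hc | ⟨n, ⟨e⟩⟩
  · exact mem_zpowers_of_pow_eq_one_of_isCyclic x y hx hx1 hy
  · have hn : n ≠ 0 := by
      rintro rfl
      haveI := quaternionGroup_zero_infinite
      exact not_finite_iff_infinite.2 (Infinite.of_injective e.symm e.symm.injective) inferInstance
    haveI : NeZero n := ⟨hn⟩
    have hp2 : p = 2 := by
      obtain ⟨k, hk⟩ := IsPGroup.iff_card.1 hH
      have hcard : Nat.card H = 4 * n := by
        rw [Nat.card_congr e.toEquiv, Nat.card_eq_fintype_card, QuaternionGroup.card]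
      rw [hcard] at hk
      have h2 : 2 ∣ p ^ k := by rw [← hk]; exact ⟨2 * n, by ring⟩
      have := (Nat.Prime.dvd_of_dvd_pow Nat.prime_two h2)
      exact ((Nat.prime_dvd_prime_iff_eq Nat.prime_two Fact.out).1 this).symm
    subst hp2
    have key := mem_zpowers_of_sq_eq_one_quaternion (e x) (e y)
      (by rw [← map_pow, hx, map_one]) (fun h => hx1 (by simpa using h)) (by rw [← map_pow, hy, map_one])
    obtain ⟨k, hk⟩ := key
    refine ⟨k, ?_⟩
    apply e.injective
    rw [map_zpow]; exact hk

end Cfsg.Agent.Lib.Helper16
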