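import Mathlib
import Cfsg.Agent.Lib.Helper20.Ord64A

/-!
# S1237 shared definitions (architect helper16)

`Hyp ρ`: a finite `2`-group `T` whose solutions of `x * x = 1` are `4` in number and central, with an
automorphism `ρ` of `3`-power order fixing no involution.  `Inv ρ S`: the subgroup `S` is `ρ`-invariant;
`res ρ S hS`: the restriction of `ρ` to an invariant subgroup.
-/

set_option autoImplicit false

namespace Cfsg.Agent.Lib.Helper16.S1237

open Subgroup

variable {T : Type*} [Group T]

/-- the working hypotheses of S1237 (after replacing `φ` by its `3`-part) -/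
structure Hyp (ρ : MulAut T) : Prop where
  pg : IsPGroup 2 T
  pow3 : ∃ k : ℕ, ρ ^ (3 ^ k) = 1
  card_inv : Nat.card {x : T // x * x = 1} = 4
  central : ∀ x : T, x * x = 1 → x ∈ center T
  nofix : ∀ x : T, x * x = 1 → ρ x = x → x = 1

/-- `S` is `ρ`-invariant -/
def Inv (ρ : MulAut T) (S : Subgroup T) : Prop := ∀ s ∈ S, ρ s ∈ S

theorem inv_top (ρ : MulAut T) : Inv ρ (⊤ : Subgroup T) := fun _ _ => mem_top _

theorem inv_bot (ρ : MulAut T) : Inv ρ (⊥ : Subgroup T) := by
  intro s hs
  rw [mem_bot] at hs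
  rw [hs, map_one]
  exact one_mem _

theorem inv_center (ρ : MulAut T) : Inv ρ (center T) :=
  fun z hz => Cfsg.Agent.Lib.Helper20.Ord64.Fpf3.center_inv ρ z hz

/-- the restriction of `ρ` to an invariant subgroup, as a monoid homomorphism -/
def resHom (ρ : MulAut T) (S : Subgroup T) (hS : Inv ρ S) : ↥S →* ↥S where
  toFun s := ⟨ρ s.1, hS s.1 s.2⟩
  map_one' := Subtype.ext (map_one ρ)
  map_mul' a b := Subtype.ext (map_mul ρ a.1 b.1)

theorem resHom_injective (ρ : MulAut T) (S : Subgroup T) (hS : Inv ρ S) :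
    Function.Injective (resHom ρ S hS) := by
  intro a b hab
  have h : ρ a.1 = ρ b.1 := congrArg Subtype.val hab
  exact Subtype.ext (ρ.injective h)

/-- the restriction of `ρ` to an invariant subgroup -/
noncomputable def res [Finite T] (ρ : MulAut T) (S : Subgroup T) (hS : Inv ρ S) : MulAut ↥S :=
  MulEquiv.ofBijective (resHom ρ S hS)
    ⟨resHom_injective ρ S hS, Finite.injective_iff_surjective.mp (resHom_injective ρ S hS)⟩

@[simp] theorem res_apply [Finite T] (ρ : MulAut T) (S : Subgroup T) (hS : Inv ρ S) (s : ↥S) :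
    ((res ρ S hS s : ↥S) : T) = ρ s.1 := rfl

theorem res_pow_apply [Finite T] (ρ : MulAut T) (S : Subgroup T) (hS : Inv ρ S) (n : ℕ) (s : ↥S) :
    (((res ρ S hS) ^ n) s : T) = (ρ ^ n) s.1 := by
  induction n generalizing s with
  | zero => simp
  | succ n ih =>
    rw [pow_succ, pow_succ, MulAut.mul_apply, MulAut.mul_apply, ih, res_apply]

/-- invariance under the inverse (finite case) -/
theorem Inv.symm [Finite T] {ρ : MulAut T} {S : Subgroup T} (hS : Inv ρ S) :
    ∀ s ∈ S, ρ.symm s ∈ S := by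
  intro s hs
  obtain ⟨t, ht⟩ := (res ρ S hS).surjective ⟨s, hs⟩
  have h1 : ρ t.1 = s := congrArg Subtype.val ht
  have h2 : ρ.symm s = t.1 := by rw [← h1, MulEquiv.symm_apply_apply]
  rw [h2]; exact t.2

end Cfsg.Agent.Lib.Helper16.S1237
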