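import Mathlib
import Cfsg.Prelude.Def_GeometricClasses

/-!
# Vocabulary for S5637: the tensor-product subgroup `(GL_a ⊗ GL_b) ∩ SL_{ab}` is maximal in `SL_{ab}`

`V = (Fin a × Fin b → F)` is `U ⊗ W` with `U = F^a`, `W = F^b`.
* `pur u w`   : the pure tensor `u ⊗ w`;
* `ctr ψ`     : the contraction `1 ⊗ ψ : V → U`, `v ↦ (i ↦ ∑ j, v (i,j) ψ j)`;
* `hyp ψ`     : its kernel `U ⊗ ker ψ`, a "standard hyperplane-type subspace" (codimension `a`);
* `act g`     : the action of `g : GL (Fin a × Fin b) F` on `V` (a linear equivalence);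
* `rootM k ψ` : the matrix `1 ⊗ₖ (1 + k ψᵀ)`; for `ψ ⬝ᵥ k = 0` this is the root element `rootGL k ψ h`
                of the Kronecker subgroup: `v ↦ v + (1 ⊗ ψ)(v) ⊗ k`;
* `Over M`    : `N0 ⊓ SL ≤ M ≤ SL`, `N0 = Cfsg.Geo.kroneckerSubgroup a b F`.
-/

set_option autoImplicit false

namespace Cfsg.Agent.Lib.Helper16.Tens

open Matrix Module
open scoped Kronecker

variable {F : Type*} [Field F] {a b : ℕ}

/-- the pure tensor `u ⊗ w` -/
def pur (u : Fin a → F) (w : Fin b → F) : Fin a × Fin b → F := fun p => u p.1 * w p.2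

@[simp] theorem pur_apply (u : Fin a → F) (w : Fin b → F) (i : Fin a) (j : Fin b) :
    pur u w (i, j) = u i * w j := rfl

theorem pur_add_left (u u' : Fin a → F) (w : Fin b → F) : pur (u + u') w = pur u w + pur u' w := by
  funext p; simp [pur, add_mul]

theorem pur_add_right (u : Fin a → F) (w w' : Fin b → F) : pur u (w + w') = pur u w + pur u w' := by
  funext p; simp [pur, mul_add]

theorem pur_smul_left (c : F) (u : Fin a → F) (w : Fin b → F) : pur (c • u) w = c • pur u w := by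
  funext p; simp [pur, mul_assoc]

theorem pur_smul_right (c : F) (u : Fin a → F) (w : Fin b → F) : pur u (c • w) = c • pur u w := by
  funext p; simp [pur, mul_left_comm]

@[simp] theorem pur_zero_left (w : Fin b → F) : pur (0 : Fin a → F) w = 0 := by
  funext p; simp [pur]

@[simp] theorem pur_zero_right (u : Fin a → F) : pur u (0 : Fin b → F) = 0 := by
  funext p; simp [pur]

theorem pur_neg_right (u : Fin a → F) (w : Fin b → F) : pur u (-w) = - pur u w := by
  funext p; simp [pur]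

theorem pur_neg_left (u : Fin a → F) (w : Fin b → F) : pur (-u) w = - pur u w := by
  funext p; simp [pur]

/-- `u ↦ u ⊗ w` as a linear map -/
def purL (w : Fin b → F) : (Fin a → F) →ₗ[F] (Fin a × Fin b → F) where
  toFun u := pur u w
  map_add' u u' := pur_add_left u u' w
  map_smul' c u := pur_smul_left c u w

@[simp] theorem purL_apply (w : Fin b → F) (u : Fin a → F) : purL w u = pur u w := rfl

/-- `w ↦ u ⊗ w` as a linear map -/
def purR (u : Fin a → F) : (Fin b → F) →ₗ[F] (Fin a × Fin b → F) where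
  toFun w := pur u w
  map_add' w w' := pur_add_right u w w'
  map_smul' c w := pur_smul_right c u w

@[simp] theorem purR_apply (u : Fin a → F) (w : Fin b → F) : purR u w = pur u w := rfl

theorem pur_eq_zero {u : Fin a → F} {w : Fin b → F} (h : pur u w = 0) : u = 0 ∨ w = 0 := by
  by_contra hcon
  push Not at hcon
  obtain ⟨i, hi⟩ : ∃ i, u i ≠ 0 := by
    by_contra hall; push Not at hall; exact hcon.1 (funext hall)
  obtain ⟨j, hj⟩ : ∃ j, w j ≠ 0 := by
    by_contra hall; push Not at hall; exact hcon.2 (funext hall)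
  have := congrFun h (i, j)
  simp only [pur_apply, Pi.zero_apply] at this
  exact mul_ne_zero hi hj this

theorem purL_injective {w : Fin b → F} (hw : w ≠ 0) : Function.Injective (purL (F := F) (a := a) w) := by
  rw [← LinearMap.ker_eq_bot, LinearMap.ker_eq_bot']
  intro u hu
  rcases pur_eq_zero hu with h | h
  · exact h
  · exact absurd h hw

theorem purR_injective {u : Fin a → F} (hu : u ≠ 0) : Function.Injective (purR (F := F) (b := b) u) := by
  rw [← LinearMap.ker_eq_bot, LinearMap.ker_eq_bot']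
  intro w hw
  rcases pur_eq_zero hw with h | h
  · exact absurd h hu
  · exact h

/-- the contraction `1 ⊗ ψ : U ⊗ W → U` -/
def ctr (ψ : Fin b → F) : (Fin a × Fin b → F) →ₗ[F] (Fin a → F) where
  toFun v i := ∑ j, v (i, j) * ψ j
  map_add' v v' := by
    funext i; simp [add_mul, Finset.sum_add_distrib]
  map_smul' c v := by
    funext i; simp [Finset.mul_sum, mul_assoc]

theorem ctr_apply (ψ : Fin b → F) (v : Fin a × Fin b → F) (i : Fin a) :
    ctr ψ v i = ∑ j, v (i, j) * ψ j := rfl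

theorem ctr_pur (ψ : Fin b → F) (u : Fin a → F) (w : Fin b → F) :
    ctr ψ (pur u w) = (w ⬝ᵥ ψ) • u := by
  funext i
  simp only [ctr_apply, pur_apply, Pi.smul_apply, smul_eq_mul, dotProduct, Finset.sum_mul]
  apply Finset.sum_congr rfl
  intro j _
  ring

theorem ctr_add (ψ ψ' : Fin b → F) (v : Fin a × Fin b → F) : ctr (ψ + ψ') v = ctr ψ v + ctr ψ' v := by
  funext i; simp [ctr_apply, mul_add, Finset.sum_add_distrib]

theorem ctr_smul (c : F) (ψ : Fin b → F) (v : Fin a × Fin b → F) : ctr (c • ψ) v = c • ctr ψ v := by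
  funext i; simp [ctr_apply, Finset.mul_sum, mul_left_comm]

/-- the standard hyperplane-type subspace `U ⊗ ker ψ` -/
def hyp (ψ : Fin b → F) : Submodule F (Fin a × Fin b → F) := LinearMap.ker (ctr (a := a) ψ)

theorem mem_hyp_iff (ψ : Fin b → F) (v : Fin a × Fin b → F) : v ∈ hyp ψ ↔ ctr ψ v = 0 := LinearMap.mem_ker

theorem pur_mem_hyp {ψ : Fin b → F} {w : Fin b → F} (h : w ⬝ᵥ ψ = 0) (u : Fin a → F) :
    pur u w ∈ hyp ψ := by
  rw [mem_hyp_iff, ctr_pur, h, zero_smul]

theorem ctr_surjective {ψ : Fin b → F} (hψ : ψ ≠ 0) : Function.Surjective (ctr (a := a) ψ) := by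
  obtain ⟨j, hj⟩ : ∃ j, ψ j ≠ 0 := by
    by_contra hall; push Not at hall; exact hψ (funext hall)
  intro u
  refine ⟨pur u (Pi.single j (ψ j)⁻¹), ?_⟩
  rw [ctr_pur]
  have : (Pi.single j (ψ j)⁻¹ : Fin b → F) ⬝ᵥ ψ = 1 := by
    rw [single_dotProduct, inv_mul_cancel₀ hj]
  rw [this, one_smul]

theorem finrank_hyp {ψ : Fin b → F} (hψ : ψ ≠ 0) :
    finrank F (hyp (a := a) ψ) + a = a * b := by
  have h := LinearMap.finrank_range_add_finrank_ker (ctr (a := a) ψ)
  rw [LinearMap.range_eq_top.mpr (ctr_surjective hψ), finrank_top, Module.finrank_fintype_fun_eq_card,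
    Module.finrank_fintype_fun_eq_card, Fintype.card_fin, Fintype.card_prod, Fintype.card_fin,
    Fintype.card_fin] at h
  unfold hyp
  omega

/-- the action of `GL (Fin a × Fin b) F` on `V`, as a linear equivalence -/
def act (g : GL (Fin a × Fin b) F) : (Fin a × Fin b → F) ≃ₗ[F] (Fin a × Fin b → F) :=
  LinearEquiv.ofLinearMap (Matrix.toLin' (g : Matrix (Fin a × Fin b) (Fin a × Fin b) F))
    (Matrix.toLin' ((g⁻¹ : GL (Fin a × Fin b) F) : Matrix (Fin a × Fin b) (Fin a × Fin b) F))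
    (by rw [← Matrix.toLin'_mul, ← Units.val_mul, mul_inv_cancel, Units.val_one, Matrix.toLin'_one])
    (by rw [← Matrix.toLin'_mul, ← Units.val_mul, inv_mul_cancel, Units.val_one, Matrix.toLin'_one])

theorem act_apply (g : GL (Fin a × Fin b) F) (v : Fin a × Fin b → F) :
    act g v = (g : Matrix (Fin a × Fin b) (Fin a × Fin b) F) *ᵥ v := rfl

@[simp] theorem act_one (v : Fin a × Fin b → F) : act (1 : GL (Fin a × Fin b) F) v = v := by
  rw [act_apply, Units.val_one, Matrix.one_mulVec]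

theorem act_mul (g h : GL (Fin a × Fin b) F) (v : Fin a × Fin b → F) :
    act (g * h) v = act g (act h v) := by
  rw [act_apply, act_apply, act_apply, Units.val_mul, Matrix.mulVec_mulVec]

@[simp] theorem act_inv_act (g : GL (Fin a × Fin b) F) (v : Fin a × Fin b → F) :
    act g⁻¹ (act g v) = v := by
  rw [← act_mul, inv_mul_cancel, act_one]

@[simp] theorem act_act_inv (g : GL (Fin a × Fin b) F) (v : Fin a × Fin b → F) :
    act g (act g⁻¹ v) = v := by
  rw [← act_mul, mul_inv_cancel, act_one]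

theorem act_symm (g : GL (Fin a × Fin b) F) : (act g).symm = act g⁻¹ := by
  ext v : 1
  apply (act g).injective
  rw [LinearEquiv.apply_symm_apply, act_act_inv]

/-- the image of a subspace under `g` -/
def img (g : GL (Fin a × Fin b) F) (P : Submodule F (Fin a × Fin b → F)) :
    Submodule F (Fin a × Fin b → F) := P.map (act g).toLinearMap

theorem mem_img_iff (g : GL (Fin a × Fin b) F) (P : Submodule F (Fin a × Fin b → F))
    (v : Fin a × Fin b → F) : v ∈ img g P ↔ act g⁻¹ v ∈ P := by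
  unfold img
  constructor
  · rintro ⟨x, hx, rfl⟩
    simpa using hx
  · intro h
    exact ⟨act g⁻¹ v, h, by simp⟩

theorem img_mul (g h : GL (Fin a × Fin b) F) (P : Submodule F (Fin a × Fin b → F)) :
    img (g * h) P = img g (img h P) := by
  ext v
  rw [mem_img_iff, mem_img_iff, mem_img_iff, _root_.mul_inv_rev, act_mul]

@[simp] theorem img_one (P : Submodule F (Fin a × Fin b → F)) : img 1 P = P := by
  ext v
  rw [mem_img_iff, inv_one, act_one]

theorem finrank_img (g : GL (Fin a × Fin b) F) (P : Submodule F (Fin a × Fin b → F)) :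
    finrank F (img g P) = finrank F P :=
  LinearEquiv.finrank_map_eq (act g) P

theorem img_sup (g : GL (Fin a × Fin b) F) (P Q : Submodule F (Fin a × Fin b → F)) :
    img g (P ⊔ Q) = img g P ⊔ img g Q := Submodule.map_sup P Q _

theorem img_mono (g : GL (Fin a × Fin b) F) {P Q : Submodule F (Fin a × Fin b → F)} (h : P ≤ Q) :
    img g P ≤ img g Q := Submodule.map_mono h

/-- Kronecker products act factorwise on pure tensors -/
theorem kron_mulVec_pur (A : Matrix (Fin a) (Fin a) F) (B : Matrix (Fin b) (Fin b) F)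
    (u : Fin a → F) (w : Fin b → F) : (A ⊗ₖ B) *ᵥ (pur u w) = pur (A *ᵥ u) (B *ᵥ w) := by
  funext p
  simp only [pur, Matrix.mulVec, dotProduct, Matrix.kroneckerMap_apply, Fintype.sum_prod_type]
  rw [Finset.sum_mul_sum]
  apply Finset.sum_congr rfl
  intro i _
  apply Finset.sum_congr rfl
  intro j _
  ring

/-- the matrix `1 ⊗ₖ (1 + k ψᵀ)` -/
def rootM (k ψ : Fin b → F) : Matrix (Fin a × Fin b) (Fin a × Fin b) F :=
  (1 : Matrix (Fin a) (Fin a) F) ⊗ₖ ((1 : Matrix (Fin b) (Fin b) F) + vecMulVec k ψ)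

theorem rootM_apply (k ψ : Fin b → F) (p q : Fin a × Fin b) :
    rootM (a := a) k ψ p q = if p.1 = q.1 then ((if p.2 = q.2 then 1 else 0) + k p.2 * ψ q.2) else 0 := by
  simp only [rootM, Matrix.kroneckerMap_apply, Matrix.one_apply, Matrix.add_apply, vecMulVec_apply]
  split_ifs <;> simp

theorem rootM_mulVec (k ψ : Fin b → F) (v : Fin a × Fin b → F) :
    rootM k ψ *ᵥ v = v + pur (ctr ψ v) k := by
  funext ⟨i, j⟩
  simp only [Matrix.mulVec, dotProduct, rootM_apply, Fintype.sum_prod_type, Pi.add_apply, pur_apply, ctr_apply]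
  rw [Finset.sum_eq_single i]
  · simp only [if_true, add_mul, Finset.sum_add_distrib]
    congr 1
    · simp
    · rw [Finset.sum_mul]
      apply Finset.sum_congr rfl
      intro j' _
      ring
  · intro i' _ hi'
    simp [Ne.symm hi']
  · simp

theorem rootM_mul_rootM (k k' ψ : Fin b → F) (h : ψ ⬝ᵥ k' = 0) :
    rootM (a := a) k ψ * rootM k' ψ = rootM (k + k') ψ := by
  unfold rootM
  rw [← Matrix.mul_kronecker_mul, one_mul]
  congr 1
  rw [add_mul, mul_add, mul_add, one_mul, mul_one, one_mul, Matrix.vecMulVec_mul_vecMulVec]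
  simp only [h, zero_smul]
  rw [Matrix.add_vecMulVec]
  have h0 : vecMulVec k ((0 : F) • ψ) = 0 := by
    ext i j; simp [vecMulVec_apply]
  simp [add_assoc, add_comm]

theorem rootM_zero (ψ : Fin b → F) : rootM (a := a) (0 : Fin b → F) ψ = 1 := by
  unfold rootM
  have : vecMulVec (0 : Fin b → F) ψ = 0 := by ext i j; simp [vecMulVec_apply]
  rw [this, add_zero, Matrix.one_kronecker_one]

/-- the root element `1 ⊗ (1 + k ψᵀ)`, `ψ ⬝ᵥ k = 0`, as an element of `GL` -/
def rootGL (k ψ : Fin b → F) (h : ψ ⬝ᵥ k = 0) : GL (Fin a × Fin b) F where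
  val := rootM k ψ
  inv := rootM (-k) ψ
  val_inv := by
    rw [rootM_mul_rootM _ _ _ (by rw [dotProduct_neg, h, neg_zero]), add_neg_cancel, rootM_zero]
  inv_val := by
    rw [rootM_mul_rootM _ _ _ h, neg_add_cancel, rootM_zero]

@[simp] theorem rootGL_val (k ψ : Fin b → F) (h : ψ ⬝ᵥ k = 0) :
    ((rootGL (a := a) k ψ h : GL (Fin a × Fin b) F) : Matrix (Fin a × Fin b) (Fin a × Fin b) F) = rootM k ψ := rfl

theorem rootGL_inv (k ψ : Fin b → F) (h : ψ ⬝ᵥ k = 0) :
    (rootGL (a := a) k ψ h)⁻¹ = rootGL (-k) ψ (by rw [dotProduct_neg, h, neg_zero]) := by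
  apply Units.ext
  rfl

theorem act_rootGL (k ψ : Fin b → F) (h : ψ ⬝ᵥ k = 0) (v : Fin a × Fin b → F) :
    act (rootGL (a := a) k ψ h) v = v + pur (ctr ψ v) k := by
  rw [act_apply, rootGL_val, rootM_mulVec]

/-- `N0 ⊓ SL ≤ M ≤ SL` -/
structure Over (M : Subgroup (GL (Fin a × Fin b) F)) : Prop where
  le_SL : M ≤ Cfsg.Geo.specialLinear (Fin a × Fin b) F
  kron_mem : ∀ g : GL (Fin a × Fin b) F, g ∈ Cfsg.Geo.kroneckerSubgroup a b F →
    g ∈ Cfsg.Geo.specialLinear (Fin a × Fin b) F → g ∈ M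

theorem mem_SL_iff (g : GL (Fin a × Fin b) F) :
    g ∈ Cfsg.Geo.specialLinear (Fin a × Fin b) F ↔
      (g : Matrix (Fin a × Fin b) (Fin a × Fin b) F).det = 1 := by
  unfold Cfsg.Geo.specialLinear
  rw [MonoidHom.mem_ker]
  constructor
  · intro h
    have := congrArg Units.val h
    simpa using this
  · intro h
    apply Units.ext
    simpa using h

theorem mem_kron_iff (g : GL (Fin a × Fin b) F) :
    g ∈ Cfsg.Geo.kroneckerSubgroup a b F ↔ ∃ (A : GL (Fin a) F) (B : GL (Fin b) F),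
      (g : Matrix (Fin a × Fin b) (Fin a × Fin b) F) =
        (A : Matrix (Fin a) (Fin a) F) ⊗ₖ (B : Matrix (Fin b) (Fin b) F) := Iff.rfl

theorem det_one_add_vecMulVec (k ψ : Fin b → F) (h : ψ ⬝ᵥ k = 0) :
    ((1 : Matrix (Fin b) (Fin b) F) + vecMulVec k ψ).det = 1 := by
  rw [vecMulVec_eq (ι := Unit), Matrix.det_one_add_mul_comm]
  have : (Matrix.replicateRow Unit ψ * Matrix.replicateCol Unit k) = 0 := by
    ext i j
    simp only [Matrix.mul_apply, Matrix.replicateRow_apply, Matrix.replicateCol_apply, Matrix.zero_apply]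
    exact h
  rw [this, add_zero, Matrix.det_one]

theorem rootGL_mem_SL (k ψ : Fin b → F) (h : ψ ⬝ᵥ k = 0) :
    rootGL (a := a) k ψ h ∈ Cfsg.Geo.specialLinear (Fin a × Fin b) F := by
  rw [mem_SL_iff, rootGL_val, rootM, Matrix.det_kronecker, Matrix.det_one, one_pow, one_mul,
    det_one_add_vecMulVec k ψ h, one_pow]

theorem rootGL_mem_kron (k ψ : Fin b → F) (h : ψ ⬝ᵥ k = 0) :
    rootGL (a := a) k ψ h ∈ Cfsg.Geo.kroneckerSubgroup a b F := by
  rw [mem_kron_iff]
  refine ⟨1, ⟨1 + vecMulVec k ψ, 1 + vecMulVec (-k) ψ, ?_, ?_⟩, rfl⟩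
  · rw [add_mul, mul_add, mul_add, one_mul, mul_one, one_mul, Matrix.vecMulVec_mul_vecMulVec]
    have h' : ψ ⬝ᵥ (-k) = 0 := by rw [dotProduct_neg, h, neg_zero]
    rw [h']
    ext i j
    simp [vecMulVec_apply]
  · rw [add_mul, mul_add, mul_add, one_mul, mul_one, one_mul, Matrix.vecMulVec_mul_vecMulVec, h]
    ext i j
    simp [vecMulVec_apply]

theorem Over.root_mem {M : Subgroup (GL (Fin a × Fin b) F)} (hM : Over M) (k ψ : Fin b → F)
    (h : ψ ⬝ᵥ k = 0) : rootGL (a := a) k ψ h ∈ M :=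
  hM.kron_mem _ (rootGL_mem_kron k ψ h) (rootGL_mem_SL k ψ h)

end Cfsg.Agent.Lib.Helper16.Tens
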