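import Mathlib
import Cfsg.Prelude.Def_GeometricClasses
import Cfsg.Agent.Lib.Helper7.AschDefs

/-!
# S5662 (Aschbacher's theorem for `Sp_2m(q)`): vocabulary  (helper16, top-level architect)

Everything is done on `Fin n → F` (the world of the S5630 hub) for an ARBITRARY non-degenerate alternating form `f`;
the frozen statement (index type `Fin m ⊕ Fin m`, `f = sympForm m F`, `I = spGL m F`) is obtained at the very end by transport
along `finSumFinEquiv` (block TR).

* `Iso f`      : the isometry group of `f` in `GL (Fin n) F`;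
* `InSp f H`   : `H` lies in a member of one of the classes of `InSymplecticClass` (for `f`, `Iso f`), as an inductive `Prop` whose
  constructors are the wrappers `InSp.ts / nondeg / decomp / tsPair / subfield / extraspecial / quadratic / fieldSA / fieldU /
  tensor / tensorPower` (the final `⊓ Iso f` is added in block TR, where `H ≤ Iso f` is known);
* `perp hf W`  : the orthogonal complement `{v | ∀ w ∈ W, f w v = 0}` as a subspace (`hf : IsBilinearForm f`);
* `adj f X`    : the adjoint matrix `G⁻¹ Xᵀ G`, `G = gramMatrix f`:  `f (X u) v = f u (adj f X v)`.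
-/

set_option autoImplicit false

namespace Cfsg.Agent.Lib.Helper16.SpA

open Matrix Cfsg.Geo Cfsg.Agent.Lib.Helper7.Asch

variable {F : Type*} [Field F] {n : ℕ}

/-- the isometry group of a two-argument form -/
def Iso (f : (Fin n → F) → (Fin n → F) → F) : Subgroup (GL (Fin n) F) where
  carrier := {g | ∀ u v, f ((g : Matrix (Fin n) (Fin n) F) *ᵥ u) ((g : Matrix (Fin n) (Fin n) F) *ᵥ v) = f u v}
  mul_mem' {a b} ha hb := by
    intro u v
    rw [Units.val_mul, ← Matrix.mulVec_mulVec, ← Matrix.mulVec_mulVec, ha, hb]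
  one_mem' := by
    intro u v
    simp
  inv_mem' {a} ha := by
    intro u v
    have h := ha (((a⁻¹ : GL (Fin n) F) : Matrix (Fin n) (Fin n) F) *ᵥ u)
      (((a⁻¹ : GL (Fin n) F) : Matrix (Fin n) (Fin n) F) *ᵥ v)
    rw [Matrix.mulVec_mulVec, Matrix.mulVec_mulVec, ← Units.val_mul, mul_inv_cancel, Units.val_one,
      Matrix.one_mulVec, Matrix.one_mulVec] at h
    exact h.symm

theorem mem_Iso (f : (Fin n → F) → (Fin n → F) → F) (g : GL (Fin n) F) :
    g ∈ Iso f ↔ ∀ u v, f ((g : Matrix (Fin n) (Fin n) F) *ᵥ u) ((g : Matrix (Fin n) (Fin n) F) *ᵥ v) = f u v :=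
  Iff.rfl

/-- the orthogonal complement `{v | ∀ w ∈ W, f w v = 0}` -/
def perp {f : (Fin n → F) → (Fin n → F) → F} (hf : IsBilinearForm f) (W : Submodule F (Fin n → F)) :
    Submodule F (Fin n → F) where
  carrier := {v | ∀ w ∈ W, f w v = 0}
  add_mem' {a b} ha hb := by
    intro w hw
    rw [hf.add_right, ha w hw, hb w hw, add_zero]
  zero_mem' := by
    intro w _
    have h := hf.smul_right 0 w 0
    rw [zero_smul, zero_mul] at h
    exact h
  smul_mem' c a ha := by
    intro w hw
    rw [hf.smul_right, ha w hw, mul_zero]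

theorem mem_perp {f : (Fin n → F) → (Fin n → F) → F} (hf : IsBilinearForm f) (W : Submodule F (Fin n → F))
    (v : Fin n → F) : v ∈ perp hf W ↔ ∀ w ∈ W, f w v = 0 := Iff.rfl

/-- the adjoint matrix for the form `f`: `G⁻¹ Xᵀ G` with `G` the Gram matrix -/
noncomputable def adj (f : (Fin n → F) → (Fin n → F) → F) (X : Matrix (Fin n) (Fin n) F) : Matrix (Fin n) (Fin n) F :=
  (gramMatrix f)⁻¹ * Xᵀ * gramMatrix f

/-- `H` lies in a member of one of the classes of the symplectic case, for the alternating form `f` on `F^n` (the constructors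
mirror the eleven alternatives of the frozen `InSymplecticClass`; the intersection with the isometry group is added at the end) -/
inductive InSp [Fintype F] (f : (Fin n → F) → (Fin n → F) → F) (H : Subgroup (GL (Fin n) F)) : Prop
  | ts (W : Submodule F (Fin n → F)) (h0 : W ≠ ⊥) (hts : IsTotallySingularFor f W) (hH : H ≤ subspaceStabilizer W)
  | nondeg (W : Submodule F (Fin n → F)) (h0 : W ≠ ⊥) (hnd : IsNondegenerateOn f W)
      (hdim : 2 * Module.finrank F W < n) (hH : H ≤ subspaceStabilizer W)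
  | decomp {t : ℕ} (k : ℕ) (D : Fin t → Submodule F (Fin n → F)) (hD : IsNondegenerateMDecomposition f k D)
      (hH : H ≤ decompositionStabilizer D)
  | tsPair (k : ℕ) (D : Fin 2 → Submodule F (Fin n → F)) (hq : Odd (Fintype.card F)) (hk : 2 * k = n)
      (hD : IsMDecomposition k D) (hts : ∀ i, IsTotallySingularFor f (D i)) (hH : H ≤ decompositionStabilizer D)
  | subfield (F₀ : Subfield F) (r : ℕ) (P : GL (Fin n) F) (ζ : F) (hr : r.Prime)
      (hcard : Fintype.card F = Nat.card F₀ ^ r) (hζ : ζ ≠ 0) (hform : IsFormRationalStructure f F₀ ζ P)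
      (hH : H ≤ subfieldSubgroup F₀ P)
  | extraspecial (R : Subgroup (GL (Fin n) F)) (p k : ℕ) (hR : IsSymplecticTypeGroup 2 R) (habs : AbsIrr R)
      (hsim : R ≤ similarityGroup f) (hp : p.Prime) (hpo : Odd p) (hcard : Fintype.card F = p)
      (hRc : Nat.card R = 2 ^ (1 + 2 * k)) (hZ : Nat.card (Subgroup.center R) = 2) (hminus : IsOfMinusType k R)
      (hH : H ≤ subgroupNormalizer R)
  | quadratic (Q : (Fin n → F) → F) (hq : ¬ Odd (Fintype.card F)) (hQ : IsNondegenerateQuadraticForm Q)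
      (hpolar : ∀ u v, QuadraticMap.polar Q u v = f u v) (hH : H ≤ quadSimilarityGroup Q)
  | fieldSA (r : ℕ) (K : Subalgebra F (Matrix (Fin n) (Fin n) F)) (hr : r.Prime) (hK : IsFieldSubalgebra r K)
      (hsa : IsSelfAdjointFor f K) (halt : ∀ k ∈ K, ∀ v, f (k *ᵥ v) v = 0) (hH : H ≤ subalgebraNormalizer K)
  | fieldU (K : Subalgebra F (Matrix (Fin n) (Fin n) F)) (hq : Odd (Fintype.card F)) (hK : IsFieldSubalgebra 2 K)
      (hac : IsAdjointClosedFor f K) (hnsa : ¬ IsSelfAdjointFor f K) (hH : H ≤ subalgebraNormalizer K)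
  | tensor (n₁ n₂ : ℕ) (e : Fin n ≃ Fin n₁ × Fin n₂) (P : GL (Fin n) F)
      (f₁ : (Fin n₁ → F) → (Fin n₁ → F) → F) (f₂ : (Fin n₂ → F) → (Fin n₂ → F) → F)
      (hq : Odd (Fintype.card F)) (h3 : 3 ≤ n₂) (hf₁ : IsSymplecticForm f₁) (hf₂ : IsSymmetricForm f₂)
      (hten : IsTensorFormStructure id f f₁ f₂ e P) (hH : H ≤ tensorProductSubgroup n₁ n₂ e P)
  | tensorPower (k t : ℕ) (e : Fin n ≃ (Fin t → Fin k)) (P : GL (Fin n) F) (f₁ : (Fin k → F) → (Fin k → F) → F)
      (hq : Odd (Fintype.card F)) (hto : Odd t) (h3 : 3 ≤ t) (hex : ¬ (Fintype.card F = 3 ∧ k = 2))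
      (hf₁ : IsSymplecticForm f₁) (hten : IsTensorPowerFormStructure id f f₁ e P)
      (hH : H ≤ tensorWreathSubgroup k t e P)

theorem InSp.mono [Fintype F] {f : (Fin n → F) → (Fin n → F) → F} {H K : Subgroup (GL (Fin n) F)} (h : H ≤ K)
    (hK : InSp f K) : InSp f H := by
  cases hK with
  | ts W h0 hts hH => exact .ts W h0 hts (h.trans hH)
  | nondeg W h0 hnd hdim hH => exact .nondeg W h0 hnd hdim (h.trans hH)
  | decomp k D hD hH => exact .decomp k D hD (h.trans hH)
  | tsPair k D hq hk hD hts hH => exact .tsPair k D hq hk hD hts (h.trans hH)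
  | subfield F₀ r P ζ hr hcard hζ hform hH => exact .subfield F₀ r P ζ hr hcard hζ hform (h.trans hH)
  | extraspecial R p k hR habs hsim hp hpo hcard hRc hZ hminus hH =>
    exact .extraspecial R p k hR habs hsim hp hpo hcard hRc hZ hminus (h.trans hH)
  | quadratic Q hq hQ hpolar hH => exact .quadratic Q hq hQ hpolar (h.trans hH)
  | fieldSA r K hr hK hsa halt hH => exact .fieldSA r K hr hK hsa halt (h.trans hH)
  | fieldU K hq hK hac hnsa hH => exact .fieldU K hq hK hac hnsa (h.trans hH)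
  | tensor n₁ n₂ e P f₁ f₂ hq h3 hf₁ hf₂ hten hH => exact .tensor n₁ n₂ e P f₁ f₂ hq h3 hf₁ hf₂ hten (h.trans hH)
  | tensorPower k t e P f₁ hq hto h3 hex hf₁ hten hH =>
    exact .tensorPower k t e P f₁ hq hto h3 hex hf₁ hten (h.trans hH)

end Cfsg.Agent.Lib.Helper16.SpA
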