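import Mathlib
import Cfsg.Agent.Lib.Helper3.SpTDefs
import Cfsg.Agent.Lib.Helper3.SpTL1
import Cfsg.Agent.Lib.Helper3.SpTL2

/-!
# S5704, piece L3 OMEGA (helper16): the root elements `gE`, `zA (X + X^*)`, `rootW` lie in `Ω`.
-/

set_option autoImplicit false

namespace Cfsg.Agent.Lib.Helper16.S5704OMEGA

open Matrix Module QuadraticMap
open scoped Kronecker commutatorElement
open Cfsg.Agent.Lib.Helper16.Tens
open Cfsg.Agent.Lib.Helper23.S5637T3b (kronGL)
open Cfsg.Agent.Lib.Helper3.SpT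

variable {F : Type*} [Field F] {a b : ℕ} {J1 : Matrix (Fin a) (Fin a) F} {J2 : Matrix (Fin b) (Fin b) F}
  {Q : QuadraticForm F (Fin a × Fin b → F)}

/-- all short root elements lie in `Ω` -/
theorem gE_mem_Om [Fintype F] (hS : Setup J1 J2 Q) (hb : 6 ≤ b) (C : Matrix (Fin a) (Fin a) F) (w w' : Fin b → F)
    (h : bf J2 w w' = 0) : gE J1 J2 hS.h2 C w w' h ∈ Cfsg.Geo.omegaGL (⇑Q) := by
  obtain ⟨w1, w1', h01, h1'2, h11', h01', h12⟩ := exists_aux_pair hS.h2 hb w w'
  have hc := comm1 hS.h1 hS.h2 (-C) 1 w w1 w1' w' h01 h1'2 h h11' h01' h12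
  have e : -(-C * 1) = C := by rw [Matrix.mul_one, neg_neg]
  rw [gE_congr (J1 := J1) hS.h2 h h e rfl rfl] at hc
  rw [← hc]
  exact commutator_mem_Om _ _ (gE_mem_iso hS _ _ _ _) (gE_mem_iso hS _ _ _ _)

/-- long root elements `zA (X + X^*) k` lie in `Ω` -/
theorem zA_mem_Om [Fintype F] (hS : Setup J1 J2 Q) (hb : 6 ≤ b) (X : Matrix (Fin a) (Fin a) F) (k : Fin b → F) :
    zA J2 hS.h2 (X + adj J1 X) k ∈ Cfsg.Geo.omegaGL (⇑Q) := by
  have hfin : 2 * finrank F (Submodule.span F {k}) < b := by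
    have h1 : finrank F (Submodule.span F {k}) ≤ 1 := by
      have := finrank_span_le_card (R := F) ({k} : Set (Fin b → F))
      simpa using this
    omega
  obtain ⟨w1, w1', hp1, hp1', h11'⟩ := exists_pair_perp hS.h2 (Submodule.span F {k}) hfin
  have h01 : bf J2 k w1 = 0 := hp1 k (Submodule.mem_span_singleton_self k)
  have h01' : bf J2 k w1' = 0 := hp1' k (Submodule.mem_span_singleton_self k)
  have hc := comm2 hS.h1 hS.h2 (-X) 1 k w1 w1' h01 h01' h11'
  have e : -(-X * adj J1 1 + 1 * adj J1 (-X)) = X + adj J1 X := by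
    rw [adj_one hS.h1, adj_neg, Matrix.mul_one, Matrix.one_mul, ← neg_add, neg_neg]
  rw [e] at hc
  rw [← hc]
  exact commutator_mem_Om _ _ (gE_mem_iso hS _ _ _ _) (gE_mem_iso hS _ _ _ _)

theorem bf_single_single (S : Matrix (Fin a) (Fin a) F) (i j : Fin a) :
    bf S (Pi.single i 1) (Pi.single j 1) = S i j := by
  unfold bf
  rw [Matrix.mulVec_single_one, single_one_dotProduct]
  rfl

/-- every self-adjoint alternating `α` is of the form `X + X^*` -/
theorem exists_add_adj (hJ1 : SympG J1) (α : Matrix (Fin a) (Fin a) F) (hα : adj J1 α = α)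
    (halt : ∀ u, bf J1 u (α *ᵥ u) = 0) : ∃ X : Matrix (Fin a) (Fin a) F, α = X + adj J1 X := by
  have hdet := hJ1.isUnit_det
  -- `S = J α` is alternating
  set S : Matrix (Fin a) (Fin a) F := J1 * α with hSdef
  have hSalt : ∀ u, bf S u u = 0 := by
    intro u
    have := halt u
    unfold bf at this ⊢
    rwa [hSdef, ← Matrix.mulVec_mulVec]
  have hdiag : ∀ i, S i i = 0 := by
    intro i
    have := hSalt (Pi.single i 1)
    rwa [bf_single_single] at this
  have hskew : ∀ i j, S i j = - S j i := by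
    intro i j
    have := hSalt (Pi.single i 1 + Pi.single j 1)
    rw [bf_add_left, bf_add_right, bf_add_right, bf_single_single, bf_single_single, bf_single_single,
      bf_single_single, hdiag, hdiag] at this
    linear_combination this
  -- transposes
  have hJT : J1ᵀ = -J1 := by
    ext i j
    rw [Matrix.transpose_apply, Matrix.neg_apply, ← bf_single_single J1 j i, ← bf_single_single J1 i j,
      hJ1.skew]
  set T : Matrix (Fin a) (Fin a) F := Matrix.of fun i j => if i < j then S i j else 0 with hT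
  have hST : S = T - Tᵀ := by
    ext i j
    rw [Matrix.sub_apply, Matrix.transpose_apply, hT]
    simp only [Matrix.of_apply]
    rcases lt_trichotomy i j with hij | hij | hij
    · rw [if_pos hij, if_neg (not_lt.mpr hij.le), sub_zero]
    · subst hij
      rw [if_neg (lt_irrefl _), sub_zero, hdiag]
    · rw [if_neg (not_lt.mpr hij.le), if_pos hij, zero_sub, hskew]
  refine ⟨J1⁻¹ * T, ?_⟩
  have hJinv : J1⁻¹ * J1 = 1 := Matrix.nonsing_inv_mul _ hdet
  have hJinv' : J1 * J1⁻¹ = 1 := Matrix.mul_nonsing_inv _ hdet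
  have hinvT : (J1⁻¹)ᵀ = -J1⁻¹ := by
    rw [Matrix.transpose_nonsing_inv, hJT]
    exact Matrix.inv_eq_left_inv (by rw [neg_mul_neg, hJinv])
  have hα' : α = J1⁻¹ * S := by
    rw [hSdef, ← Matrix.mul_assoc, hJinv, Matrix.one_mul]
  unfold adj
  rw [Matrix.transpose_mul, hinvT, Matrix.mul_neg, Matrix.mul_assoc J1⁻¹ (-(Tᵀ * J1⁻¹)) J1,
    Matrix.neg_mul, Matrix.mul_assoc Tᵀ, hJinv, Matrix.mul_one, Matrix.mul_neg, hα', hST, Matrix.mul_sub]
  abel

theorem rootW_mem_Om [Fintype F] (hS : Setup J1 J2 Q) (hb : 6 ≤ b) (k : Fin b → F) (c : F) :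
    rootW (a := a) J2 hS.h2 k c ∈ Cfsg.Geo.omegaGL (⇑Q) := by
  obtain ⟨X, hX⟩ := exists_add_adj hS.h1 (c • (1 : Matrix (Fin a) (Fin a) F))
    (by rw [adj_smul, adj_one hS.h1])
    (by
      intro u
      rw [Matrix.smul_mulVec, Matrix.one_mulVec, bf_smul_right, hS.h1.alt, mul_zero])
  unfold rootW
  rw [hX]
  exact zA_mem_Om hS hb X k

end Cfsg.Agent.Lib.Helper16.S5704OMEGA
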