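import Mathlib
import Cfsg.Agent.Lib.Helper3.SpTDefs
import Cfsg.Agent.Lib.Helper3.SpTL1
import Cfsg.Agent.Lib.Helper3.SpTL2
import Cfsg.Agent.Lib.Helper3.SpTL3

/-!
# S5704, piece L3T TRANS (helper16): transitivity of `1 ⊗ ⟨symplectic transvections⟩ ≤ Ω`.
-/

set_option autoImplicit false

namespace Cfsg.Agent.Lib.Helper16.S5704TRANS

open Matrix Module QuadraticMap
open scoped Kronecker commutatorElement
open Cfsg.Agent.Lib.Helper16.Tens
open Cfsg.Agent.Lib.Helper23.S5637T3b (kronGL)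
open Cfsg.Agent.Lib.Helper3.SpT

variable {F : Type*} [Field F] {a b : ℕ} {J1 : Matrix (Fin a) (Fin a) F} {J2 : Matrix (Fin b) (Fin b) F}
  {Q : QuadraticForm F (Fin a × Fin b → F)}

theorem tv_sq (hJ2 : SympG J2) (k : Fin b → F) (c : F) : (c • E J2 k k) * (c • E J2 k k) = 0 := by
  rw [Matrix.smul_mul, Matrix.mul_smul, E_mul_E, hJ2.alt]; simp

/-- the symplectic transvection `x ↦ x + c f₂(x,k) k` -/
def tv (hJ2 : SympG J2) (k : Fin b → F) (c : F) : GL (Fin b) F := uni (c • E J2 k k) (tv_sq hJ2 k c)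

theorem tv_mulVec (hJ2 : SympG J2) (k : Fin b → F) (c : F) (x : Fin b → F) :
    ((tv hJ2 k c : GL (Fin b) F) : Matrix (Fin b) (Fin b) F) *ᵥ x = x + (c * bf J2 x k) • k := by
  unfold tv
  rw [uni_val, Matrix.add_mulVec, Matrix.one_mulVec, Matrix.smul_mulVec, E_mulVec, smul_smul]

theorem tv_isom (hJ2 : SympG J2) (k : Fin b → F) (c : F) (x x' : Fin b → F) :
    bf J2 (((tv hJ2 k c : GL (Fin b) F) : Matrix (Fin b) (Fin b) F) *ᵥ x)
      (((tv hJ2 k c : GL (Fin b) F) : Matrix (Fin b) (Fin b) F) *ᵥ x') = bf J2 x x' := by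
  rw [tv_mulVec, tv_mulVec, bf_add_left, bf_add_right, bf_add_right, bf_smul_left, bf_smul_left,
    bf_smul_right, bf_smul_right, hJ2.alt, hJ2.skew k x']
  ring

theorem kronGL_one_mul (β β' : GL (Fin b) F) :
    kronGL (1 : GL (Fin a) F) (β * β') = kronGL 1 β * kronGL 1 β' := by
  apply Units.ext
  rw [Units.val_mul, Cfsg.Agent.Lib.Helper23.S5637T3b.kronGL_val,
    Cfsg.Agent.Lib.Helper23.S5637T3b.kronGL_val, Cfsg.Agent.Lib.Helper23.S5637T3b.kronGL_val,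
    ← Matrix.mul_kronecker_mul, Units.val_mul, Units.val_one, Matrix.one_mul]

/-- the "good" elements: isometries of `f₂` fixing `y` with `1 ⊗ β ∈ Ω` -/
def Good (a : ℕ) (J2 : Matrix (Fin b) (Fin b) F) (Q : QuadraticForm F (Fin a × Fin b → F)) (y : Fin b → F)
    (β : GL (Fin b) F) : Prop :=
  (∀ x x', bf J2 ((β : Matrix (Fin b) (Fin b) F) *ᵥ x) ((β : Matrix (Fin b) (Fin b) F) *ᵥ x') = bf J2 x x') ∧
    (β : Matrix (Fin b) (Fin b) F) *ᵥ y = y ∧ kronGL (1 : GL (Fin a) F) β ∈ Cfsg.Geo.omegaGL (⇑Q)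

theorem Good.mul {y : Fin b → F} {β β' : GL (Fin b) F} (h : Good a J2 Q y β) (h' : Good a J2 Q y β') :
    Good a J2 Q y (β * β') := by
  refine ⟨?_, ?_, ?_⟩
  · intro x x'
    rw [Units.val_mul, ← Matrix.mulVec_mulVec, ← Matrix.mulVec_mulVec, h.1, h'.1]
  · rw [Units.val_mul, ← Matrix.mulVec_mulVec, h'.2.1, h.2.1]
  · rw [kronGL_one_mul]
    exact Subgroup.mul_mem _ h.2.2 h'.2.2

theorem good_tv [Fintype F] (hS : Setup J1 J2 Q) (hb : 6 ≤ b) (y k : Fin b → F) (c : F) (hk : bf J2 y k = 0) :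
    Good a J2 Q y (tv hS.h2 k c) := by
  refine ⟨tv_isom hS.h2 k c, ?_, ?_⟩
  · rw [tv_mulVec, hk, mul_zero, zero_smul, add_zero]
  · have h1 := rootW_mem_Om (a := a) hS hb k c
    rw [rootW_eq_kronGL] at h1
    exact h1

/-- one step: `f₂(v, v') ≠ 0` -/
theorem good_step [Fintype F] (hS : Setup J1 J2 Q) (hb : 6 ≤ b) (y v v' : Fin b → F)
    (hv : bf J2 y v = 0) (hv' : bf J2 y v' = 0) (hne : bf J2 v v' ≠ 0) :
    ∃ β : GL (Fin b) F, Good a J2 Q y β ∧ (β : Matrix (Fin b) (Fin b) F) *ᵥ v = v' := by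
  refine ⟨tv hS.h2 (v' - v) (bf J2 v v')⁻¹, good_tv hS hb y _ _ ?_, ?_⟩
  · rw [bf_sub_right, hv, hv', sub_zero]
  · rw [tv_mulVec, bf_sub_right, hS.h2.alt, sub_zero, inv_mul_cancel₀ hne, one_smul]
    abel

/-- two steps -/
theorem good_move [Fintype F] (hS : Setup J1 J2 Q) (hb : 6 ≤ b) (y v v' : Fin b → F)
    (hv : bf J2 y v = 0) (hv' : bf J2 y v' = 0)
    (h1 : ∃ z1, bf J2 y z1 = 0 ∧ bf J2 v z1 ≠ 0) (h2 : ∃ z2, bf J2 y z2 = 0 ∧ bf J2 z2 v' ≠ 0) :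
    ∃ β : GL (Fin b) F, Good a J2 Q y β ∧ (β : Matrix (Fin b) (Fin b) F) *ᵥ v = v' := by
  by_cases hne : bf J2 v v' = 0
  · -- find `z` with `f(y,z) = 0`, `f(v,z) ≠ 0`, `f(z,v') ≠ 0`
    have hz : ∃ z, bf J2 y z = 0 ∧ bf J2 v z ≠ 0 ∧ bf J2 z v' ≠ 0 := by
      obtain ⟨z1, hy1, hz1⟩ := h1
      obtain ⟨z2, hy2, hz2⟩ := h2
      by_cases c1 : bf J2 z1 v' = 0
      · by_cases c2 : bf J2 v z2 = 0
        · refine ⟨z1 + z2, ?_, ?_, ?_⟩
          · rw [bf_add_right, hy1, hy2, add_zero]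
          · rw [bf_add_right, c2, add_zero]; exact hz1
          · rw [bf_add_left, c1, zero_add]; exact hz2
        · exact ⟨z2, hy2, c2, hz2⟩
      · exact ⟨z1, hy1, hz1, c1⟩
    obtain ⟨z, hyz, hvz, hzv'⟩ := hz
    obtain ⟨β1, hβ1, e1⟩ := good_step (a := a) hS hb y v z hv hyz hvz
    obtain ⟨β2, hβ2, e2⟩ := good_step (a := a) hS hb y z v' hyz hv' hzv'
    refine ⟨β2 * β1, hβ2.mul hβ1, ?_⟩
    rw [Units.val_mul, ← Matrix.mulVec_mulVec, e1, e2]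
  · exact good_step hS hb y v v' hv hv' hne

/-- `1 ⊗ ⟨transvections⟩ ≤ Ω` is transitive on non-zero vectors of `W` -/
theorem transW1 [Fintype F] (hS : Setup J1 J2 Q) (hb : 6 ≤ b) (w y : Fin b → F) (hw : w ≠ 0) (hy : y ≠ 0) :
    ∃ β : GL (Fin b) F,
      (∀ x x', bf J2 ((β : Matrix (Fin b) (Fin b) F) *ᵥ x) ((β : Matrix (Fin b) (Fin b) F) *ᵥ x') = bf J2 x x') ∧
      (β : Matrix (Fin b) (Fin b) F) *ᵥ w = y ∧
      kronGL (1 : GL (Fin a) F) β ∈ Cfsg.Geo.omegaGL (⇑Q) := by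
  obtain ⟨z1, hz1⟩ := exists_partner hS.h2 w hw
  obtain ⟨z2, hz2⟩ := exists_partner hS.h2 y hy
  obtain ⟨β, hβ, e⟩ := good_move (a := a) hS hb 0 w y (bf_zero_left _ _) (bf_zero_left _ _)
    ⟨z1, bf_zero_left _ _, by rw [hz1]; exact one_ne_zero⟩
    ⟨z2, bf_zero_left _ _, by rw [hS.h2.skew, hz2]; exact neg_ne_zero.mpr one_ne_zero⟩
  exact ⟨β, hβ.1, e, hβ.2.2⟩

theorem mulVec_injective_GL (β : GL (Fin b) F) {x : Fin b → F}
    (h : (β : Matrix (Fin b) (Fin b) F) *ᵥ x = 0) : x = 0 := by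
  have := congrArg (fun v => ((β⁻¹ : GL (Fin b) F) : Matrix (Fin b) (Fin b) F) *ᵥ v) h
  simp only [Matrix.mulVec_mulVec, Matrix.mulVec_zero] at this
  rwa [← Units.val_mul, inv_mul_cancel, Units.val_one, Matrix.one_mulVec] at this

/-- … and on linearly independent pairs `(w, w')` with `f₂(w, w') = 0` -/
theorem transW2 [Fintype F] (hS : Setup J1 J2 Q) (hb : 6 ≤ b) (w w' y y' : Fin b → F)
    (h : bf J2 w w' = 0) (h' : bf J2 y y' = 0)
    (hli : LinearIndependent F ![w, w']) (hli' : LinearIndependent F ![y, y']) :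
    ∃ β : GL (Fin b) F,
      (∀ x x', bf J2 ((β : Matrix (Fin b) (Fin b) F) *ᵥ x) ((β : Matrix (Fin b) (Fin b) F) *ᵥ x') = bf J2 x x') ∧
      (β : Matrix (Fin b) (Fin b) F) *ᵥ w = y ∧ (β : Matrix (Fin b) (Fin b) F) *ᵥ w' = y' ∧
      kronGL (1 : GL (Fin a) F) β ∈ Cfsg.Geo.omegaGL (⇑Q) := by
  have hw : w ≠ 0 := by
    have := hli.ne_zero 0
    simpa using this
  have hy : y ≠ 0 := by
    have := hli'.ne_zero 0
    simpa using this
  obtain ⟨β1, hiso1, e1, hOm1⟩ := transW1 (a := a) hS hb w y hw hy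
  set w'' := (β1 : Matrix (Fin b) (Fin b) F) *ᵥ w' with hw''
  have hyw'' : bf J2 y w'' = 0 := by rw [← e1, hw'', hiso1, h]
  have hliA : LinearIndependent F ![w'', y] := by
    rw [LinearIndependent.pair_iff] at hli ⊢
    intro s t hst
    have h0 : (β1 : Matrix (Fin b) (Fin b) F) *ᵥ (t • w + s • w') = 0 := by
      rw [Matrix.mulVec_add, Matrix.mulVec_smul, Matrix.mulVec_smul, e1, ← hw'', add_comm]
      exact hst
    have := hli t s (mulVec_injective_GL β1 h0)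
    exact ⟨this.2, this.1⟩
  have hliB : LinearIndependent F ![y', y] := by
    rw [LinearIndependent.pair_iff] at hli' ⊢
    intro s t hst
    have := hli' t s (by rw [add_comm]; exact hst)
    exact ⟨this.2, this.1⟩
  obtain ⟨z1, hz1, hz1'⟩ := exists_dual_pair hS.h2 w'' y hliA
  obtain ⟨z2, hz2, hz2'⟩ := exists_dual_pair hS.h2 y' y hliB
  obtain ⟨β2, hβ2, e2⟩ := good_move (a := a) hS hb y w'' y' hyw'' h'
    ⟨z1, hz1', by rw [hz1]; exact one_ne_zero⟩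
    ⟨z2, hz2', by rw [hS.h2.skew, hz2]; exact neg_ne_zero.mpr one_ne_zero⟩
  refine ⟨β2 * β1, ?_, ?_, ?_, ?_⟩
  · intro x x'
    rw [Units.val_mul, ← Matrix.mulVec_mulVec, ← Matrix.mulVec_mulVec, hβ2.1, hiso1]
  · rw [Units.val_mul, ← Matrix.mulVec_mulVec, e1, hβ2.2.1]
  · rw [Units.val_mul, ← Matrix.mulVec_mulVec, ← hw'', e2]
  · rw [kronGL_one_mul]
    exact Subgroup.mul_mem _ hβ2.2.2 hOm1

/-- consequence: `N0 ⊓ Ω` is transitive on the standard subspaces `Lk k` -/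
theorem exists_kron_img_Lk [Fintype F] (hS : Setup J1 J2 Q) (hb : 6 ≤ b) (k k' : Fin b → F) (hk : k ≠ 0) (hk' : k' ≠ 0) :
    ∃ n : GL (Fin a × Fin b) F, n ∈ Cfsg.Geo.kroneckerSubgroup a b F ∧ n ∈ Cfsg.Geo.omegaGL (⇑Q) ∧
      img n (Lk k) = Lk k' := by
  obtain ⟨β, -, e, hOm⟩ := transW1 (a := a) hS hb k k' hk hk'
  refine ⟨kronGL 1 β, Cfsg.Agent.Lib.Helper23.S5637T3b.kronGL_mem_kron _ _, hOm, ?_⟩
  unfold img Lk
  rw [← LinearMap.range_comp]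
  congr 1
  apply LinearMap.ext
  intro u
  rw [LinearMap.comp_apply, purL_apply, LinearEquiv.coe_coe, act_kronGL, Units.val_one, Matrix.one_mulVec, e,
    purL_apply]

end Cfsg.Agent.Lib.Helper16.S5704TRANS
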