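import Mathlib
import Cfsg.Prelude.Def_EvenType
import Cfsg.Agent.Lib.Helper16.PCore

set_option autoImplicit false

namespace Cfsg.Agent.Lib.Helper16

open Cfsg
open scoped Pointwise

variable {G : Type*} [Group G] {p : ℕ} [Fact p.Prime]

/-- A nontrivial finite `p`-subgroup has positive rank. -/
theorem not_pRankLE_zero_of_ne_bot (Q : Subgroup G) [Finite Q] (hQ : IsPGroup p Q) (hne : Q ≠ ⊥) :
    ¬ PRankLE p 0 ↥Q := by
  intro h
  have hcard : p ∣ Nat.card Q := by
    rcases hQ.card_eq_or_dvd with h1 | h1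
    · exfalso
      apply hne
      exact Subgroup.card_eq_one.1 h1
    · exact h1
  obtain ⟨x, hx⟩ := exists_prime_orderOf_dvd_card' p hcard
  have h1 := h (Subgroup.zpowers x) inferInstance (by
    intro a ha
    obtain ⟨k, rfl⟩ := Subgroup.mem_zpowers_iff.1 ha
    rw [← zpow_natCast, ← zpow_mul, mul_comm, zpow_mul, zpow_natCast, ← hx, pow_orderOf_eq_one, one_zpow])
  rw [Nat.card_zpowers, hx, pow_zero] at h1
  exact absurd h1 (not_le.2 (Fact.out : p.Prime).one_lt)

theorem pRankLE_zero_bot : PRankLE p 0 ↥(⊥ : Subgroup G) := by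
  intro A _ _
  rw [pow_zero]
  exact Finite.card_le_one_iff_subsingleton.2 inferInstance

/-- `Γ_{P,1}(G) ≤ M` unfolded. -/
theorem kGeneratedCore_one_le_iff [Finite G] (P : Sylow p G) (M : Subgroup G) :
    kGeneratedCore p 1 (P : Subgroup G) ≤ M ↔
      ∀ Q : Subgroup G, Q ≤ P → Q ≠ ⊥ → Subgroup.normalizer (Q : Set G) ≤ M := by
  unfold kGeneratedCore
  rw [iSup_le_iff]
  constructor
  · intro h Q hQP hQ
    exact h ⟨Q, hQP, not_pRankLE_zero_of_ne_bot Q (P.2.to_le hQP) hQ⟩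
  · rintro h ⟨Q, hQP, hQ⟩
    apply h Q hQP
    rintro rfl
    exact hQ pRankLE_zero_bot

theorem normalizer_map_conj (A : Subgroup G) (g : G) :
    Subgroup.normalizer ((A.map (MulAut.conj g).toMonoidHom : Subgroup G) : Set G) =
      (Subgroup.normalizer (A : Set G)).map (MulAut.conj g).toMonoidHom := by
  ext x
  rw [Subgroup.mem_normalizer_iff]
  constructor
  · intro h
    refine Subgroup.mem_map.2 ⟨g⁻¹ * x * g, ?_, by simp [mul_assoc]⟩
    rw [Subgroup.mem_normalizer_iff]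
    intro a
    have := h (g * a * g⁻¹)
    constructor
    · intro ha
      have h1 := this.1 ⟨a, ha, by simp⟩
      obtain ⟨b, hb, hbe⟩ := h1
      have : g⁻¹ * x * g * a * (g⁻¹ * x * g)⁻¹ = b := by
        have hbe' : g * b * g⁻¹ = x * (g * a * g⁻¹) * x⁻¹ := by simpa using hbe
        calc g⁻¹ * x * g * a * (g⁻¹ * x * g)⁻¹ = g⁻¹ * (x * (g * a * g⁻¹) * x⁻¹) * g := by group
          _ = g⁻¹ * (g * b * g⁻¹) * g := by rw [hbe']
          _ = b := by group
      rw [this]; exact hb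
    · intro ha
      have h2 : x * (g * a * g⁻¹) * x⁻¹ ∈ A.map (MulAut.conj g).toMonoidHom := by
        refine ⟨g⁻¹ * x * g * a * (g⁻¹ * x * g)⁻¹, ha, ?_⟩
        simp only [MulEquiv.toMonoidHom_eq_coe, MonoidHom.coe_coe, MulAut.conj_apply]
        group
      obtain ⟨b, hb, hbe⟩ := this.2 h2
      have : a = b := by
        have hbe' : g * b * g⁻¹ = g * a * g⁻¹ := by simpa using hbe
        have := mul_right_cancel hbe'
        exact (mul_left_cancel this).symm
      rw [this]; exact hb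
  · intro hx
    obtain ⟨n, hn, rfl⟩ := Subgroup.mem_map.1 hx
    intro a
    rw [Subgroup.mem_normalizer_iff] at hn
    constructor
    · rintro ⟨b, hb, rfl⟩
      refine ⟨n * b * n⁻¹, (hn b).1 hb, ?_⟩
      simp only [MulEquiv.toMonoidHom_eq_coe, MonoidHom.coe_coe, MulAut.conj_apply]
      group
    · rintro ⟨b, hb, hbe⟩
      refine ⟨n⁻¹ * b * n, ?_, ?_⟩
      · apply (hn _).2
        have : n * (n⁻¹ * b * n) * n⁻¹ = b := by group
        rw [this]; exact hb
      · simp only [MulEquiv.toMonoidHom_eq_coe, MonoidHom.coe_coe, MulAut.conj_apply] at hbe ⊢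
        have : a = (g * n * g⁻¹)⁻¹ * (g * b * g⁻¹) * (g * n * g⁻¹) := by rw [hbe]; group
        rw [this]; group

/-- A `p`-subgroup of `M` is `M`-conjugate into a Sylow `p`-subgroup `P ≤ M` of `G`. -/
theorem exists_conj_le_sylow [Finite G] (P : Sylow p G) (M : Subgroup G) (hPM : (P : Subgroup G) ≤ M)
    (A : Subgroup G) (hAM : A ≤ M) (hA : IsPGroup p A) :
    ∃ m ∈ M, A.map (MulAut.conj m).toMonoidHom ≤ P := by
  have hAsub : IsPGroup p (A.subgroupOf M) := hA.comap_subtype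
  obtain ⟨Q, hQ⟩ := hAsub.exists_le_sylow
  obtain ⟨m, hm⟩ := MulAction.exists_smul_eq M Q (P.subtype hPM)
  refine ⟨m, m.2, ?_⟩
  rintro _ ⟨a, ha, rfl⟩
  have h1 : (⟨a, hAM ha⟩ : M) ∈ (Q : Subgroup M) := hQ (by rw [Subgroup.mem_subgroupOf]; exact ha)
  have h2 : m * ⟨a, hAM ha⟩ * m⁻¹ ∈ ((m • Q : Sylow p M) : Subgroup M) := by
    have h3 : ((m • Q : Sylow p M) : Subgroup M) = MulAut.conj m • (Q : Subgroup M) := Sylow.coe_subgroup_smul
    rw [h3, Subgroup.mem_pointwise_smul_iff_inv_smul_mem]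
    simpa [MulAut.smul_def, mul_assoc] using h1
  rw [hm, Sylow.coe_subtype, Subgroup.mem_subgroupOf] at h2
  simpa using h2

/-- If `M` contains the normalizers of its nontrivial `p`-subgroups, then a `p`-subgroup meeting `M`
nontrivially lies in `M`. -/
theorem le_of_inf_ne_bot [Finite G] (M : Subgroup G)
    (hM : ∀ A : Subgroup G, A ≤ M → IsPGroup p A → A ≠ ⊥ → Subgroup.normalizer (A : Set G) ≤ M)
    (R : Subgroup G) (hR : IsPGroup p R) (hRM : R ⊓ M ≠ ⊥) : R ≤ M := by
  by_contra hle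
  have hnil : Group.IsNilpotent R := hR.isNilpotent
  have hNC := Group.normalizerCondition_of_isNilpotent (G := R)
  have hlt : (R ⊓ M).subgroupOf R < ⊤ := by
    rw [lt_top_iff_ne_top]
    intro htop
    apply hle
    rw [Subgroup.subgroupOf_eq_top] at htop
    exact (le_inf_iff.1 htop).2
  have h1 := hNC _ hlt
  obtain ⟨x, hxN, hxnot⟩ := SetLike.exists_of_lt h1
  apply hxnot
  rw [Subgroup.mem_subgroupOf]
  refine ⟨x.2, ?_⟩
  apply hM (R ⊓ M) inf_le_right (hR.to_le inf_le_left) hRM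
  rw [Subgroup.mem_normalizer_iff] at hxN ⊢
  intro a
  constructor
  · intro ha
    have := (hxN ⟨a, ha.1⟩).1 (by rw [Subgroup.mem_subgroupOf]; exact ha)
    rw [Subgroup.mem_subgroupOf] at this
    exact this
  · intro ha
    have haR : a ∈ R := by
      have h2 : (x : G)⁻¹ * ((x : G) * a * (x : G)⁻¹) * (x : G) ∈ R :=
        R.mul_mem (R.mul_mem (R.inv_mem x.2) ha.1) x.2
      have h3 : (x : G)⁻¹ * ((x : G) * a * (x : G)⁻¹) * (x : G) = a := by group
      rw [h3] at h2; exact h2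
    have := (hxN ⟨a, haR⟩).2 (by rw [Subgroup.mem_subgroupOf]; exact ha)
    rw [Subgroup.mem_subgroupOf] at this
    exact this

/-- Hub characterization of strongly `p`-embedded subgroups. -/
theorem spe_iff_normalizers [Finite G] (M : Subgroup G) (hM : M ≠ ⊤) (hpM : p ∣ Nat.card M) :
    IsStronglyPEmbedded p M ↔
      ∀ A : Subgroup G, A ≤ M → IsPGroup p A → A ≠ ⊥ → Subgroup.normalizer (A : Set G) ≤ M := by
  have hpG : p ∣ Nat.card G := hpM.trans (Subgroup.card_subgroup_dvd_card M)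
  constructor
  · rintro ⟨-, -, P, hP⟩ A hAM hA hAne
    rw [kGeneratedCore_one_le_iff] at hP
    have hPne : (P : Subgroup G) ≠ ⊥ := P.ne_bot_of_dvd_card hpG
    have hPM : (P : Subgroup G) ≤ M := Subgroup.le_normalizer.trans (hP P le_rfl hPne)
    obtain ⟨m, hm, hAm⟩ := exists_conj_le_sylow P M hPM A hAM hA
    have hne : A.map (MulAut.conj m).toMonoidHom ≠ ⊥ := by
      intro h
      apply hAne
      rw [Subgroup.map_eq_bot_iff_of_injective _ (MulAut.conj m).injective] at h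
      exact h
    have h1 := hP _ hAm hne
    rw [normalizer_map_conj] at h1
    intro n hn
    have h2 : m * n * m⁻¹ ∈ M := h1 ⟨n, hn, by simp⟩
    have h3 : m⁻¹ * (m * n * m⁻¹) * m ∈ M := M.mul_mem (M.mul_mem (M.inv_mem hm) h2) hm
    have h4 : m⁻¹ * (m * n * m⁻¹) * m = n := by group
    rw [h4] at h3; exact h3
  · intro h
    refine ⟨hpG, hM, ?_⟩
    -- a Sylow subgroup of M is a Sylow subgroup of G
    have PM : Sylow p M := default
    have hPMne : (PM : Subgroup M) ≠ ⊥ := PM.ne_bot_of_dvd_card hpM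
    obtain ⟨P, hP⟩ := (PM.2.map M.subtype).exists_le_sylow
    have hinf : (P : Subgroup G) ⊓ M ≠ ⊥ := by
      intro h0
      apply hPMne
      rw [eq_bot_iff]
      intro x hx
      have : (x : G) ∈ (P : Subgroup G) ⊓ M := ⟨hP ⟨x, hx, rfl⟩, x.2⟩
      rw [h0, Subgroup.mem_bot] at this
      rw [Subgroup.mem_bot]; exact Subtype.ext this
    have hPle : (P : Subgroup G) ≤ M := le_of_inf_ne_bot M h P P.2 hinf
    refine ⟨P, ?_⟩
    rw [kGeneratedCore_one_le_iff]
    intro Q hQP hQne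
    exact h Q (hQP.trans hPle) (P.2.to_le hQP) hQne

/-- strongly `p`-embedded subgroups have order divisible by `p` -/
theorem spe_dvd_card [Finite G] (M : Subgroup G) (h : IsStronglyPEmbedded p M) : p ∣ Nat.card M := by
  obtain ⟨hpG, -, P, hP⟩ := h
  rw [kGeneratedCore_one_le_iff] at hP
  have hPne : (P : Subgroup G) ≠ ⊥ := P.ne_bot_of_dvd_card hpG
  have hPM : (P : Subgroup G) ≤ M := Subgroup.le_normalizer.trans (hP P le_rfl hPne)
  exact (P.dvd_card_of_dvd_card hpG).trans (Subgroup.card_dvd_of_le hPM)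

/-- a strongly `p`-embedded subgroup contains a Sylow `p`-subgroup -/
theorem spe_sylow_le [Finite G] (M : Subgroup G) (h : IsStronglyPEmbedded p M) :
    ∃ P : Sylow p G, (P : Subgroup G) ≤ M ∧ (P : Subgroup G) ≠ ⊥ := by
  obtain ⟨hpG, -, P, hP⟩ := h
  rw [kGeneratedCore_one_le_iff] at hP
  have hPne : (P : Subgroup G) ≠ ⊥ := P.ne_bot_of_dvd_card hpG
  exact ⟨P, Subgroup.le_normalizer.trans (hP P le_rfl hPne), hPne⟩

end Cfsg.Agent.Lib.Helper16
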