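import Mathlib
import Cfsg.Prelude.Def_EvenType
import Cfsg.Agent.Lib.Helper16.SPE

set_option autoImplicit false

namespace Cfsg.Agent.Lib.Helper16

open Cfsg
open scoped Pointwise

variable {G : Type*} [Group G] {p : ℕ} [Fact p.Prime]

theorem mem_normalizer_of_map_conj_eq [Finite G] (Q : Subgroup G) (c : G)
    (h : Q.map (MulAut.conj c).toMonoidHom ≤ Q) : c ∈ Subgroup.normalizer (Q : Set G) := by
  have heq : Q.map (MulAut.conj c).toMonoidHom = Q := by
    apply Subgroup.eq_of_le_of_card_ge h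
    rw [Subgroup.card_map_of_injective (MulAut.conj c).injective]
  rw [Subgroup.mem_normalizer_iff]
  intro y
  constructor
  · intro hy
    rw [← heq]; exact ⟨y, hy, MulAut.conj_apply _ _⟩
  · intro hy
    rw [← heq] at hy
    obtain ⟨z, hz, hzy⟩ := hy
    have : z = y := by
      have h3 : c * z * c⁻¹ = c * y * c⁻¹ := hzy
      exact mul_left_cancel (mul_right_cancel h3)
    rw [← this]; exact hz

theorem map_conj_map_conj (A : Subgroup G) (g h : G) :
    (A.map (MulAut.conj g).toMonoidHom).map (MulAut.conj h).toMonoidHom =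
      A.map (MulAut.conj (h * g)).toMonoidHom := by
  rw [Subgroup.map_map]
  congr 1
  ext x
  simp [mul_assoc]

/-- A `p`-subgroup meets a normal `p'`-subgroup trivially. -/
theorem pgroup_inf_pprime_eq_bot [Finite G] (R N : Subgroup G) (hR : IsPGroup p R)
    (hN : (Nat.card N).Coprime p) : R ⊓ N = ⊥ := by
  rw [eq_bot_iff]
  intro x hx
  rw [Subgroup.mem_bot]
  obtain ⟨k, hk⟩ := (IsPGroup.iff_orderOf.1 hR) ⟨x, hx.1⟩
  have hk' : orderOf x = p ^ k := by rw [← hk]; simp
  have hdvd : orderOf x ∣ Nat.card N := by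
    have := orderOf_dvd_natCard (⟨x, hx.2⟩ : N)
    rwa [Subgroup.orderOf_mk] at this
  have hcop : (orderOf x).Coprime (Nat.card N) := by
    rw [hk']; exact (Nat.Coprime.pow_left k hN.symm)
  exact orderOf_eq_one_iff.1 (Nat.Coprime.eq_one_of_dvd hcop hdvd)

theorem card_map_mk_of_pgroup [Finite G] (R N : Subgroup G) [N.Normal] (hR : IsPGroup p R)
    (hN : (Nat.card N).Coprime p) : Nat.card (R.map (QuotientGroup.mk' N)) = Nat.card R := by
  have hinj : Function.Injective ((QuotientGroup.mk' N).comp R.subtype) := by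
    rw [← MonoidHom.ker_eq_bot_iff, eq_bot_iff]
    intro x hx
    rw [MonoidHom.mem_ker, MonoidHom.comp_apply, QuotientGroup.mk'_apply, QuotientGroup.eq_one_iff] at hx
    have : (x : G) ∈ R ⊓ N := ⟨x.2, hx⟩
    rw [pgroup_inf_pprime_eq_bot R N hR hN, Subgroup.mem_bot] at this
    rw [Subgroup.mem_bot]; exact Subtype.ext this
  have hrange : ((QuotientGroup.mk' N).comp R.subtype).range = R.map (QuotientGroup.mk' N) := by
    rw [MonoidHom.range_comp, Subgroup.range_subtype]
  rw [← hrange]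
  exact (Nat.card_congr (MonoidHom.ofInjective hinj).toEquiv).symm

/-- `N_{G/N}(QN/N) ≤ N_G(Q)N/N` for a `p`-subgroup `Q` and a normal `p'`-subgroup `N`. -/
theorem normalizer_map_mk_le [Finite G] (Q N : Subgroup G) [N.Normal] (hQ : IsPGroup p Q)
    (hN : (Nat.card N).Coprime p) :
    Subgroup.normalizer ((Q.map (QuotientGroup.mk' N) : Subgroup (G ⧸ N)) : Set (G ⧸ N)) ≤
      (Subgroup.normalizer (Q : Set G)).map (QuotientGroup.mk' N) := by
  intro gbar hg
  obtain ⟨g, rfl⟩ := QuotientGroup.mk'_surjective N gbar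
  set π := QuotientGroup.mk' N with hπ
  set L := Q ⊔ N with hL
  -- image of L is image of Q
  have hLmap : L.map π = Q.map π := by
    rw [hL, Subgroup.map_sup]
    have : N.map π = ⊥ := by
      rw [eq_bot_iff]
      rintro _ ⟨n, hn, rfl⟩
      rw [Subgroup.mem_bot]
      exact (QuotientGroup.eq_one_iff n).2 hn
    rw [this, sup_bot_eq]
  have hcomap : (Q.map π).comap π = L := by
    rw [Subgroup.comap_map_eq, hπ, QuotientGroup.ker_mk']
  -- Q is a Sylow subgroup of L
  have hQL : Q ≤ L := le_sup_left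
  have hmax : ∀ R : Subgroup G, R ≤ L → IsPGroup p R → Nat.card R ≤ Nat.card Q := by
    intro R hRL hR
    rw [← card_map_mk_of_pgroup R N hR hN, ← card_map_mk_of_pgroup Q N hQ hN, ← hLmap]
    exact Nat.card_le_card_of_injective (Subgroup.inclusion (Subgroup.map_mono hRL))
      (Subgroup.inclusion_injective _)
  let PL : Sylow p L :=
    { toSubgroup := Q.subgroupOf L
      isPGroup' := hQ.comap_subtype
      is_maximal' := by
        intro R hR hle
        symm
        apply Subgroup.eq_of_le_of_card_ge hle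
        have h1 : Nat.card R = Nat.card (R.map L.subtype) :=
          (Subgroup.card_map_of_injective L.subtype_injective).symm
        have h2 : Nat.card (Q.subgroupOf L) = Nat.card Q :=
          Nat.card_congr (Subgroup.subgroupOfEquivOfLe hQL).toEquiv
        rw [h1, h2]
        exact hmax _ (Subgroup.map_subtype_le _) (hR.map _) }
  -- the conjugate of Q by g lies in L
  set Q₂ := Q.map (MulAut.conj g).toMonoidHom with hQ₂
  have hQ₂L : Q₂ ≤ L := by
    rintro _ ⟨x, hx, rfl⟩
    rw [← hcomap, Subgroup.mem_comap]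
    have h1 := (Subgroup.mem_normalizer_iff.1 hg (π x)).1 ⟨x, hx, rfl⟩
    simpa using h1
  have hQ₂p : IsPGroup p Q₂ := hQ.map _
  obtain ⟨l, -, hl⟩ := exists_conj_le_sylow PL ⊤ le_top (Q₂.subgroupOf L) le_top hQ₂p.comap_subtype
  have hlQ : Q₂.map (MulAut.conj (l : G)).toMonoidHom ≤ Q := by
    rintro _ ⟨x, hx, rfl⟩
    have h1 : (MulAut.conj l).toMonoidHom ⟨x, hQ₂L hx⟩ ∈ (PL : Subgroup L) :=
      hl ⟨⟨x, hQ₂L hx⟩, Subgroup.mem_subgroupOf.2 hx, rfl⟩
    have h2 : (MulAut.conj l).toMonoidHom ⟨x, hQ₂L hx⟩ ∈ Q.subgroupOf L := h1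
    rw [Subgroup.mem_subgroupOf] at h2
    exact h2
  rw [hQ₂, map_conj_map_conj] at hlQ
  have hnorm := mem_normalizer_of_map_conj_eq Q _ hlQ
  -- π g = π(l)⁻¹ π(l g)
  have hπl : π (l : G) ∈ Q.map π := by
    rw [← hLmap]; exact ⟨l, l.2, rfl⟩
  have hQN : Q.map π ≤ (Subgroup.normalizer (Q : Set G)).map π := Subgroup.map_mono Subgroup.le_normalizer
  have h3 : π g = (π (l : G))⁻¹ * π ((l : G) * g) := by
    rw [map_mul]; group
  rw [h3]
  exact Subgroup.mul_mem _ (Subgroup.inv_mem _ (hQN hπl)) ⟨_, hnorm, rfl⟩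

end Cfsg.Agent.Lib.Helper16
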