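import Mathlib
import Cfsg.Prelude.Def_PLocal

set_option autoImplicit false

namespace Cfsg.Agent.Lib.Helper16

open Cfsg
open scoped commutatorElement

variable {G : Type*} [Group G]

/-- If `x r x⁻¹ = r c` and `x` commutes with `c` then `x^k r x^-k = r c^k`. -/
theorem conj_pow_eq (x r c : G) (h : x * r * x⁻¹ = r * c) (hc : x * c = c * x) (k : ℕ) :
    x ^ k * r * (x ^ k)⁻¹ = r * c ^ k := by
  induction k with
  | zero => simp
  | succ k ih =>
    have hck : x * c ^ k = c ^ k * x := by
      have : Commute x c := hc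
      exact (this.pow_right k).eq
    calc x ^ (k + 1) * r * (x ^ (k + 1))⁻¹ = x * (x ^ k * r * (x ^ k)⁻¹) * x⁻¹ := by
          rw [pow_succ']; group
      _ = x * (r * c ^ k) * x⁻¹ := by rw [ih]
      _ = (x * r * x⁻¹) * (x * c ^ k * x⁻¹) := by group
      _ = (r * c) * (c ^ k * x * x⁻¹) := by rw [h, hck]
      _ = r * c ^ (k + 1) := by rw [pow_succ']; group

/-- An element of order prime to `p` that stabilizes a descending chain from the `p`-group `R` to `1`
centralizes `R`. -/
theorem centralizes_of_chain {p : ℕ} [Fact p.Prime] (R : Subgroup G) (hR : IsPGroup p R)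
    (D : ℕ → Subgroup G) (n : ℕ) (h0 : D 0 = R) (hn : D n = ⊥) (hle : ∀ i, D i ≤ R)
    (x : G) (hx : (orderOf x).Coprime p)
    (hstab : ∀ i, ∀ r ∈ D i, r⁻¹ * x * r * x⁻¹ ∈ D (i + 1)) :
    ∀ r ∈ R, x * r = r * x := by
  -- downward induction: x centralizes D i for i ≤ n
  have key : ∀ j, j ≤ n → ∀ r ∈ D (n - j), x * r = r * x := by
    intro j
    induction j with
    | zero =>
      intro _ r hr
      rw [Nat.sub_zero, hn, Subgroup.mem_bot] at hr
      rw [hr]; simp
    | succ j ih =>
      intro hj r hr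
      have hj' : j ≤ n := by omega
      have hidx : n - (j + 1) + 1 = n - j := by omega
      set c := r⁻¹ * x * r * x⁻¹ with hc
      have hcD : c ∈ D (n - j) := by
        have := hstab (n - (j + 1)) r hr
        rw [hidx] at this; exact this
      have hxc : x * c = c * x := ih hj' c hcD
      have hconj : x * r * x⁻¹ = r * c := by rw [hc]; group
      have hpow := conj_pow_eq x r c hconj hxc (orderOf x)
      rw [pow_orderOf_eq_one] at hpow
      have hc1 : c ^ orderOf x = 1 := by
        have : r = r * c ^ orderOf x := by simpa using hpow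
        exact (mul_eq_left.1 this.symm)
      -- c is a p-element of order dividing orderOf x, coprime to p
      have hcR : c ∈ R := hle _ hcD
      obtain ⟨k, hk⟩ := (IsPGroup.iff_orderOf.1 hR) ⟨c, hcR⟩
      have hk' : orderOf c = p ^ k := by rw [← hk]; simp
      have hdvd : orderOf c ∣ orderOf x := orderOf_dvd_of_pow_eq_one hc1
      have hcop : (orderOf c).Coprime (orderOf x) := by
        rw [hk']; exact (Nat.Coprime.pow_left k hx.symm)
      have : orderOf c = 1 := Nat.Coprime.eq_one_of_dvd hcop hdvd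
      have hc1' : c = 1 := orderOf_eq_one_iff.1 this
      have : x * r * x⁻¹ = r := by rw [hconj, hc1', mul_one]
      calc x * r = (x * r * x⁻¹) * x := by group
        _ = r * x := by rw [this]
  intro r hr
  have := key n le_rfl r
  rw [Nat.sub_self, h0] at this
  exact this hr

/-- If every `p'`-element of `K` centralizes the `p`-subgroup `R`, and `C(R) ≤ R`, then `K` is a `p`-group. -/
theorem isPGroup_of_pprime_centralize [Finite G] {p : ℕ} [Fact p.Prime] (R : Subgroup G)
    (hR : IsPGroup p R) (hC : Subgroup.centralizer (R : Set G) ≤ R) (K : Subgroup G)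
    (h : ∀ x ∈ K, (orderOf x).Coprime p → ∀ r ∈ R, x * r = r * x) : IsPGroup p K := by
  have hp : p.Prime := Fact.out
  -- p'-elements of K are trivial
  have htriv : ∀ x ∈ K, (orderOf x).Coprime p → x = 1 := by
    intro x hx hcop
    have hxR : x ∈ R := by
      apply hC
      rw [Subgroup.mem_centralizer_iff]
      intro r hr
      exact (h x hx hcop r hr).symm
    obtain ⟨k, hk⟩ := (IsPGroup.iff_orderOf.1 hR) ⟨x, hxR⟩
    have hk' : orderOf x = p ^ k := by rw [← hk]; simp
    rw [hk'] at hcop
    rcases Nat.eq_zero_or_pos k with rfl | hkpos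
    · rw [pow_zero] at hk'; exact orderOf_eq_one_iff.1 hk'
    · exfalso
      have : p ∣ Nat.gcd (p ^ k) p := Nat.dvd_gcd (dvd_pow_self p hkpos.ne') dvd_rfl
      rw [Nat.Coprime] at hcop
      rw [hcop] at this
      exact hp.one_lt.ne' (Nat.dvd_one.1 this)
  rw [IsPGroup]
  intro y
  have hy0 : orderOf (y : G) ≠ 0 := (orderOf_pos (y : G)).ne'
  obtain ⟨a, m, hm, hfac⟩ := Nat.exists_eq_pow_mul_and_not_dvd hy0 p hp.ne_one
  refine ⟨a, ?_⟩
  have hx : (y : G) ^ (p ^ a) ∈ K := K.pow_mem y.2 _
  have hord : orderOf ((y : G) ^ (p ^ a)) = m := by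
    rw [orderOf_pow' _ (pow_ne_zero a hp.ne_zero), hfac, Nat.gcd_eq_right (Dvd.intro _ rfl)]
    exact Nat.mul_div_cancel_left m (pow_pos hp.pos a)
  have hcop : (orderOf ((y : G) ^ (p ^ a))).Coprime p := by
    rw [hord]; exact ((Nat.Prime.coprime_iff_not_dvd hp).2 hm).symm
  have := htriv _ hx hcop
  exact Subtype.ext (by simpa using this)

end Cfsg.Agent.Lib.Helper16
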