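import Mathlib
import Cfsg.Agent.H5.TCkSound
import Cfsg.Agent.H5.StemTC
import Cfsg.Agent.Lib.Helper21.G23MP
import Cfsg.Agent.Lib.Helper12.McLWData

/-!
# S2047 piece [P] (helper16, for helper12): a group generated by five elements satisfying `relsW` is perfect

All five generators have order dividing `7` and are linked by the conjugation relators `conjW`
(`u xᵢ u⁻¹ = c ^ (-m)` gives `xᵢ c ^ m ∈ Γ'`); helper21's verified checker
`Cfsg.Agent.Lib.Helper16.G23M.gens_mem_commutator_of_conj` (with the prime as a parameter) propagates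
"the generator lies in the commutator subgroup" along them.
-/

set_option autoImplicit false

namespace Cfsg.Agent.Lib.Helper12.McLW

open Cfsg Cfsg.H5.TCk
open Cfsg.Agent.Lib.Helper5.Sp62 (cr crOf)

universe u

namespace Helper16

theorem chkP : Cfsg.Agent.Lib.Helper16.G23M.Helper21.check 7 5 conjW = true := by decide +kernel

theorem ev_replicate_even {G : Type*} [Group G] (g : ℕ → G) (i n : ℕ) :
    ev g (List.replicate n (2 * i)) = g i ^ n := by
  induction n with
  | zero => simp [ev]
  | succ n ih => rw [List.replicate_succ, ev, ih, gl_even, pow_succ']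

theorem powW_mem_relsW (i : ℕ) (hi : i < 5) : List.replicate 7 (2 * i) ∈ relsW := by
  unfold relsW powW
  apply List.mem_append_left
  apply List.mem_append_left
  apply List.mem_append_left
  exact List.mem_map.mpr ⟨i, List.mem_range.mpr hi, rfl⟩

theorem conjW_mem_relsW (q : List ℕ × ℕ × ℕ × ℕ) (hq : q ∈ conjW) : crOf q ∈ relsW := by
  unfold relsW
  apply List.mem_append_left
  apply List.mem_append_left
  apply List.mem_append_right
  exact List.mem_map_of_mem hq

end Helper16

/-- **[P]** a group generated by five elements satisfying `relsW` is perfect -/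
theorem commutator_eq_top_of_relsW {G : Type u} [Group G] (g : ℕ → G)
    (hgen : Subgroup.closure (Set.range fun i : Fin 5 => g i.val) = ⊤)
    (hrel : ∀ r ∈ relsW, ev g r = 1) : commutator G = ⊤ := by
  have hpow : ∀ i < 5, g i ^ 7 = 1 := by
    intro i hi
    rw [← Helper16.ev_replicate_even g i 7]
    exact hrel _ (Helper16.powW_mem_relsW i hi)
  have hconj : ∀ q ∈ conjW, ev g (crOf q) = 1 := fun q hq => hrel _ (Helper16.conjW_mem_relsW q hq)
  have hmem := Cfsg.Agent.Lib.Helper16.G23M.gens_mem_commutator_of_conj g 7 5 (by norm_num) conjW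
    hpow hconj Helper16.chkP
  rw [eq_top_iff, ← hgen, Subgroup.closure_le]
  rintro _ ⟨i, rfl⟩
  exact hmem i.val i.2

end Cfsg.Agent.Lib.Helper12.McLW
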