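import Mathlib
import Cfsg.Prelude.Def_KGroupFacts
import Cfsg.Agent.H5.TCkSound
import Cfsg.Agent.H5.StemTC
import Cfsg.Agent.Lib.Helper12.McLWData
import Cfsg.Agent.Lib.Helper12.McLWCover

/-!
# S2047 piece [E] (helper16, for helper12): the group presented by `relsW` is a stem extension of `McL` with
kernel of order `3`

`exists_cover_of` takes the statements of the pieces [C] (Todd–Coxeter bound `≤ 6 |McL|`), [M] (permutation
model with `wordZ` of order `3`), [P] (perfectness), [CEN] (a normal subgroup of order `≤ 2 |Z|` over a central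
subgroup `Z` of a perfect group is central) and [UP] (the kernel of every finite stem extension has order
dividing `3`) as hypotheses.  Port of helper23's `Sp62EGen`, second half.
-/

set_option autoImplicit false
set_option linter.style.haveILetI false
set_option linter.unusedSectionVars false
set_option linter.unusedVariables false

namespace Cfsg.Agent.Lib.Helper12.McLW

open Cfsg Cfsg.H5.TCk
open Cfsg.H5.StemTC (cword cwords)

universe u

namespace Helper16E

theorem ev_cword_eq {Γ : Type*} [Group Γ] (γ : ℕ → Γ) (r : List ℕ) (i : ℕ) :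
    ev γ (cword r i) = ev γ r * γ i * (ev γ r)⁻¹ * (γ i)⁻¹ := by
  unfold cword
  rw [ev_append, ev_append, ev_append, ev_winv]
  simp only [ev, mul_one, gl_even, gl_odd]

theorem mem_cwords {cen : List (List ℕ)} {n : ℕ} {r : List ℕ} {i : ℕ} (hr : r ∈ cen) (hi : i < n) :
    cword r i ∈ cwords cen n := by
  unfold cwords
  exact List.mem_flatMap.mpr ⟨r, hr, List.mem_map.mpr ⟨i, List.mem_range.mpr hi, rfl⟩⟩

theorem wordZ_mem_weakW : wordZ ∈ weakW := by decide

/-- the relators of the cover hold wherever the relators of `McL` hold -/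
theorem relsW_of_relsG {G : Type*} [Group G] (g : ℕ → G) (hrel : ∀ r ∈ relsG, ev g r = 1) :
    ∀ r ∈ relsW, ev g r = 1 := by
  intro r hr
  unfold relsW at hr
  rcases List.mem_append.mp hr with h | h
  · apply hrel
    unfold relsG
    exact List.mem_append_left _ h
  · unfold cwords at h
    obtain ⟨ρ, hρ, h2⟩ := List.mem_flatMap.mp h
    obtain ⟨i, -, rfl⟩ := List.mem_map.mp h2
    apply Cfsg.H5.StemTC.ev_cword
    have : ev g ρ = 1 := by
      apply hrel
      unfold relsG
      exact List.mem_append_right _ hρ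
    rw [this]
    exact Subgroup.one_mem _

end Helper16E

/-- **[E]** the cover: the group presented by `relsW`, with the statements of [C], [M], [P], [CEN], [UP] as
hypotheses -/
theorem exists_cover_of
    (hC : ∀ {Δ : Type u} [Group Δ] (δ : ℕ → Δ), (∀ r ∈ relsW, ev δ r = 1) →
      Subgroup.closure (Set.range fun i : Fin 5 => δ i.val) = ⊤ →
      Finite Δ ∧ Nat.card Δ ≤ 5388768000)
    (hM : ∃ p : ℕ → Equiv.Perm (Fin 66825), (∀ r ∈ relsW, ev p r = 1) ∧
      ev p wordZ ≠ 1 ∧ ev p (wordZ ++ wordZ ++ wordZ) = 1)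
    (hP : ∀ {H : Type u} [Group H] (h : ℕ → H),
      Subgroup.closure (Set.range fun i : Fin 5 => h i.val) = ⊤ →
      (∀ r ∈ relsW, ev h r = 1) → commutator H = ⊤)
    (hCEN : ∀ {Δ : Type u} [Group Δ], commutator Δ = ⊤ → ∀ (N : Subgroup Δ) [N.Normal] [Finite N]
      (Z : Subgroup Δ), Z ≤ Subgroup.center Δ → Z ≤ N → Nat.card N ≤ 2 * Nat.card Z →
      N ≤ Subgroup.center Δ)
    (hUP : ∀ {G : Type u} [Group G] (g u : ℕ → G), IsMcLTuple g u →
      ∀ {Δ : Type u} [Group Δ] [Finite Δ] (τ : Δ →* G), IsStemExtension τ → Nat.card τ.ker ∣ 3)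
    {G : Type u} [Group G] (g u : ℕ → G) (hg : IsMcLTuple g u) :
    ∃ (Γ : Type u) (_ : Group Γ) (_ : Finite Γ) (σ : Γ →* G), IsStemExtension σ ∧
      Nonempty (σ.ker ≃* Multiplicative (ZMod 3)) := by
  classical
  have hcard : Nat.card G = 898128000 := hg.1
  have hgen := hg.2.1
  have hrelG := hg.2.2.1
  have hrel : ∀ r ∈ relsW, ev g r = 1 := Helper16E.relsW_of_relsG g hrelG
  have hz : ev g wordZ = 1 := by
    apply hrelG
    unfold relsG
    exact List.mem_append_right _ Helper16E.wordZ_mem_weakW
  obtain ⟨z, hzdef⟩ : ∃ z : Cover.{u}, z = ev cgen wordZ := ⟨_, rfl⟩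
  -- the homomorphism onto `G`
  obtain ⟨φ, hφ⟩ := exists_hom.{u} g hrel
  have hφgen : ∀ i : Fin 5, φ (cgen i.val) = g i.val := by
    intro i
    have := hφ [2 * i.val] (by fin_cases i <;> decide)
    simpa [ev, gl_even] using this
  have hφsurj : Function.Surjective φ := by
    rw [← MonoidHom.range_eq_top, eq_top_iff, ← hgen, Subgroup.closure_le]
    rintro _ ⟨i, rfl⟩
    exact ⟨cgen i.val, hφgen i⟩
  have hzker : z ∈ φ.ker := by
    rw [MonoidHom.mem_ker, hzdef, hφ _ wordZ_all]; exact hz
  -- `z` is central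
  have hzcomm : ∀ i < 5, cgen.{u} i * z = z * cgen.{u} i := by
    intro i hi
    have h1 : ev cgen.{u} (cword wordZ i) = 1 := by
      apply cgen_rel
      unfold relsW
      exact List.mem_append_right _ (Helper16E.mem_cwords Helper16E.wordZ_mem_weakW hi)
    rw [Helper16E.ev_cword_eq, ← hzdef] at h1
    have h2 : z * cgen.{u} i = cgen.{u} i * z := by
      have h3 := congrArg (fun x => x * cgen.{u} i * z) h1
      simpa [mul_assoc] using h3
    exact h2.symm
  have hzcen : z ∈ Subgroup.center Cover.{u} := by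
    rw [Subgroup.mem_center_iff]
    intro x
    have hx : x ∈ Subgroup.centralizer ({z} : Set Cover.{u}) := by
      have hle : Subgroup.closure (Set.range fun i : Fin 5 => cgen.{u} i.val) ≤
          Subgroup.centralizer ({z} : Set Cover.{u}) := by
        rw [Subgroup.closure_le]
        rintro _ ⟨i, rfl⟩
        rw [SetLike.mem_coe, Subgroup.mem_centralizer_iff]
        intro y hy
        rw [Set.mem_singleton_iff] at hy
        rw [hy]
        exact (hzcomm i.val i.2).symm
      apply hle
      rw [closure_cgen]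
      exact Subgroup.mem_top _
    rw [Subgroup.mem_centralizer_iff] at hx
    exact (hx z rfl).symm
  -- the order of the cover
  obtain ⟨hfin, hcardC⟩ := hC (Δ := Cover.{u}) cgen (fun r hr => cgen_rel r hr) closure_cgen
  have hcardker : Nat.card Cover.{u} = Nat.card G * Nat.card φ.ker := by
    rw [Subgroup.card_eq_card_quotient_mul_card_subgroup φ.ker,
      Nat.card_congr (QuotientGroup.quotientKerEquivOfSurjective φ hφsurj).toEquiv]
  have hkerle : Nat.card φ.ker ≤ 6 := by
    rw [hcard] at hcardker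
    have h3 : 898128000 * Nat.card φ.ker ≤ 898128000 * 6 := by
      rw [← hcardker]; exact hcardC
    exact Nat.le_of_mul_le_mul_left h3 (by norm_num)
  -- the order of `z` is divisible by `3`, from the model
  obtain ⟨p, hprel, hpz, hpz3⟩ := hM
  obtain ⟨ψ, hψ⟩ := exists_hom.{u} p hprel
  have hψz : ψ z = ev p wordZ := by rw [hzdef, hψ _ wordZ_all]
  haveI : Fact (Nat.Prime 3) := ⟨by norm_num⟩
  have hord3 : orderOf (ev p wordZ) = 3 := by
    apply orderOf_eq_prime
    · rw [ev_append, ev_append] at hpz3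
      rw [pow_succ, pow_succ, pow_one]
      exact hpz3
    · exact hpz
  have h3z : 3 ∣ orderOf z := by
    rw [← hord3, ← hψz]
    exact orderOf_map_dvd ψ z
  have hzpos : 0 < orderOf z := orderOf_pos z
  have hz3 : 3 ≤ orderOf z := Nat.le_of_dvd hzpos h3z
  have h3ker : 3 ∣ Nat.card φ.ker := h3z.trans (Subgroup.orderOf_dvd_natCard _ hzker)
  -- the kernel is central
  haveI : Finite φ.ker := inferInstance
  have hperf : commutator Cover.{u} = ⊤ := hP cgen closure_cgen (fun r hr => cgen_rel r hr)
  have hkercen : φ.ker ≤ Subgroup.center Cover.{u} := by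
    apply hCEN hperf φ.ker (Subgroup.zpowers z)
    · rw [Subgroup.zpowers_le]; exact hzcen
    · rw [Subgroup.zpowers_le]; exact hzker
    · rw [Nat.card_zpowers]
      omega
  have hstem : IsStemExtension φ := by
    refine ⟨hφsurj, hkercen, ?_⟩
    rw [hperf]; exact le_top
  have hker3 : Nat.card φ.ker = 3 := Nat.dvd_antisymm (hUP g u hg φ hstem) h3ker
  have hcard3 : Nat.card (Multiplicative (ZMod 3)) = 3 := by
    rw [Nat.card_eq_fintype_card, Fintype.card_multiplicative, ZMod.card]
  exact ⟨Cover.{u}, inferInstance, hfin, φ, hstem, ⟨mulEquivOfPrimeCardEq hker3 hcard3⟩⟩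

end Cfsg.Agent.Lib.Helper12.McLW
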