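import Mathlib
import Cfsg.Prelude.Def_Spor_J2
import Cfsg.Agent.Lib.Helper11.IcoLeech

/-!
# The icosian reflection group acts linearly and isometrically  (helper16)

Model-independent facts about `Cfsg.Spor.twoJ2`, straight from the definitions: the icosian Leech lattice is a left
module over the icosians, reflections are left-linear isometric involutions, and therefore every element of `twoJ2` is
additive, left-linear over the icosians and preserves the Hermitian product.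
-/

set_option autoImplicit false
set_option linter.unusedVariables false

namespace Cfsg.Agent.Lib.Helper16.IcoLin

open Cfsg.Spor Quaternion

/-- left multiplication of a triple by a quaternion -/
noncomputable def lsm (a : ℍ[ℝ]) (v : Fin 3 → ℍ[ℝ]) : Fin 3 → ℍ[ℝ] := fun t => a * v t

theorem lsm_apply (a : ℍ[ℝ]) (v : Fin 3 → ℍ[ℝ]) (t : Fin 3) : lsm a v t = a * v t := rfl

theorem lsm_add (a : ℍ[ℝ]) (v w : Fin 3 → ℍ[ℝ]) : lsm a (v + w) = lsm a v + lsm a w := by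
  funext t; simp [lsm, mul_add]

theorem lsm_mul (a b : ℍ[ℝ]) (v : Fin 3 → ℍ[ℝ]) : lsm (a * b) v = lsm a (lsm b v) := by
  funext t; simp [lsm, mul_assoc]

theorem lsm_one (v : Fin 3 → ℍ[ℝ]) : lsm 1 v = v := by
  funext t; simp [lsm]

theorem lsm_neg_one (v : Fin 3 → ℍ[ℝ]) : lsm (-1) v = -v := by
  funext t; simp [lsm]

/-! ## left ideals and the lattice -/

theorem leftIdeal_zero (q : ℍ[ℝ]) : (0 : ℍ[ℝ]) ∈ leftIdeal q :=
  ⟨0, icosians.zero_mem, by simp⟩

theorem leftIdeal_add {q x y : ℍ[ℝ]} (hx : x ∈ leftIdeal q) (hy : y ∈ leftIdeal q) : x + y ∈ leftIdeal q := by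
  obtain ⟨a, ha, rfl⟩ := hx
  obtain ⟨b, hb, rfl⟩ := hy
  exact ⟨a + b, icosians.add_mem ha hb, by rw [add_mul]⟩

theorem leftIdeal_neg {q x : ℍ[ℝ]} (hx : x ∈ leftIdeal q) : -x ∈ leftIdeal q := by
  obtain ⟨a, ha, rfl⟩ := hx
  exact ⟨-a, icosians.neg_mem ha, by rw [neg_mul]⟩

theorem leftIdeal_sub {q x y : ℍ[ℝ]} (hx : x ∈ leftIdeal q) (hy : y ∈ leftIdeal q) : x - y ∈ leftIdeal q := by
  rw [sub_eq_add_neg]
  exact leftIdeal_add hx (leftIdeal_neg hy)

theorem leftIdeal_mul {q x a : ℍ[ℝ]} (ha : a ∈ icosians) (hx : x ∈ leftIdeal q) : a * x ∈ leftIdeal q := by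
  obtain ⟨b, hb, rfl⟩ := hx
  exact ⟨a * b, icosians.mul_mem ha hb, by rw [mul_assoc]⟩

theorem zero_mem_icoLeech : (0 : Fin 3 → ℍ[ℝ]) ∈ icoLeech := by
  refine ⟨fun t => icosians.zero_mem, ?_, ?_, ?_⟩ <;> simpa using leftIdeal_zero _

theorem add_mem_icoLeech {v w : Fin 3 → ℍ[ℝ]} (hv : v ∈ icoLeech) (hw : w ∈ icoLeech) : v + w ∈ icoLeech := by
  obtain ⟨h0, h1, h2, h3⟩ := hv
  obtain ⟨k0, k1, k2, k3⟩ := hw
  refine ⟨fun t => icosians.add_mem (h0 t) (k0 t), ?_, ?_, ?_⟩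
  · have : (v + w) 0 - (v + w) 1 = (v 0 - v 1) + (w 0 - w 1) := by simp only [Pi.add_apply]; abel
    rw [this]; exact leftIdeal_add h1 k1
  · have : (v + w) 1 - (v + w) 2 = (v 1 - v 2) + (w 1 - w 2) := by simp only [Pi.add_apply]; abel
    rw [this]; exact leftIdeal_add h2 k2
  · have : (v + w) 0 + (v + w) 1 + (v + w) 2 = (v 0 + v 1 + v 2) + (w 0 + w 1 + w 2) := by
      simp only [Pi.add_apply]; abel
    rw [this]; exact leftIdeal_add h3 k3

theorem lsm_mem_icoLeech {a : ℍ[ℝ]} (ha : a ∈ icosians) {v : Fin 3 → ℍ[ℝ]} (hv : v ∈ icoLeech) :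
    lsm a v ∈ icoLeech := by
  obtain ⟨h0, h1, h2, h3⟩ := hv
  refine ⟨fun t => icosians.mul_mem ha (h0 t), ?_, ?_, ?_⟩
  · have : lsm a v 0 - lsm a v 1 = a * (v 0 - v 1) := by simp only [lsm]; rw [mul_sub]
    rw [this]; exact leftIdeal_mul ha h1
  · have : lsm a v 1 - lsm a v 2 = a * (v 1 - v 2) := by simp only [lsm]; rw [mul_sub]
    rw [this]; exact leftIdeal_mul ha h2
  · have : lsm a v 0 + lsm a v 1 + lsm a v 2 = a * (v 0 + v 1 + v 2) := by simp only [lsm]; rw [mul_add, mul_add]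
    rw [this]; exact leftIdeal_mul ha h3

theorem neg_mem_icoLeech {v : Fin 3 → ℍ[ℝ]} (hv : v ∈ icoLeech) : -v ∈ icoLeech := by
  rw [← lsm_neg_one]
  exact lsm_mem_icoLeech (icosians.neg_mem icosians.one_mem) hv

/-- the icosian Leech lattice as an additive subgroup -/
def icoLeechAdd : AddSubgroup (Fin 3 → ℍ[ℝ]) where
  carrier := icoLeech
  zero_mem' := zero_mem_icoLeech
  add_mem' := add_mem_icoLeech
  neg_mem' := neg_mem_icoLeech

theorem mem_icoLeechAdd (v : Fin 3 → ℍ[ℝ]) : v ∈ icoLeechAdd ↔ v ∈ icoLeech := Iff.rfl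

/-! ## the Hermitian product -/

theorem qip_add_left (x y r : Fin 3 → ℍ[ℝ]) : qip (x + y) r = qip x r + qip y r := by
  simp only [qip, Pi.add_apply, add_mul, Finset.sum_add_distrib]

theorem qip_add_right (x r s : Fin 3 → ℍ[ℝ]) : qip x (r + s) = qip x r + qip x s := by
  simp only [qip, Pi.add_apply, star_add, mul_add, Finset.sum_add_distrib]

theorem qip_lsm_left (a : ℍ[ℝ]) (x r : Fin 3 → ℍ[ℝ]) : qip (lsm a x) r = a * qip x r := by
  simp only [qip, lsm, Finset.mul_sum, mul_assoc]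

theorem qip_lsm_right (a : ℍ[ℝ]) (x r : Fin 3 → ℍ[ℝ]) : qip x (lsm a r) = qip x r * star a := by
  simp only [qip, lsm, Finset.sum_mul, star_mul, mul_assoc]

theorem qip_neg_left (x r : Fin 3 → ℍ[ℝ]) : qip (-x) r = -qip x r := by
  simp only [qip, Pi.neg_apply, neg_mul, Finset.sum_neg_distrib]

theorem qip_neg_right (x r : Fin 3 → ℍ[ℝ]) : qip x (-r) = -qip x r := by
  simp only [qip, Pi.neg_apply, star_neg, mul_neg, Finset.sum_neg_distrib]

theorem qip_sub_left (x y r : Fin 3 → ℍ[ℝ]) : qip (x - y) r = qip x r - qip y r := by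
  rw [sub_eq_add_neg, qip_add_left, qip_neg_left, sub_eq_add_neg]

theorem qip_sub_right (x r s : Fin 3 → ℍ[ℝ]) : qip x (r - s) = qip x r - qip x s := by
  rw [sub_eq_add_neg, qip_add_right, qip_neg_right, sub_eq_add_neg]

theorem star_qip (x r : Fin 3 → ℍ[ℝ]) : star (qip x r) = qip r x := by
  simp only [qip, star_sum, star_mul, star_star]

/-! ## reflections -/

theorem qrefl_eq (r x : Fin 3 → ℍ[ℝ]) : qrefl r x = x - lsm ((1 / 2 : ℝ) • qip x r) r := rfl

theorem qrefl_add (r x y : Fin 3 → ℍ[ℝ]) : qrefl r (x + y) = qrefl r x + qrefl r y := by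
  funext t
  simp only [qrefl, Pi.add_apply, qip_add_left, smul_add, add_mul]
  abel

theorem qrefl_lsm (a : ℍ[ℝ]) (r x : Fin 3 → ℍ[ℝ]) : qrefl r (lsm a x) = lsm a (qrefl r x) := by
  funext t
  simp only [qrefl, lsm, qip_lsm_left, mul_sub]
  rw [← mul_assoc a, mul_smul_comm]

theorem qrefl_neg (r x : Fin 3 → ℍ[ℝ]) : qrefl r (-x) = -qrefl r x := by
  rw [← lsm_neg_one, qrefl_lsm, lsm_neg_one]

theorem qrefl_zero (r : Fin 3 → ℍ[ℝ]) : qrefl r 0 = 0 := by
  funext t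
  simp [qrefl, qip]

/-- the Hermitian product of the images under a reflection in a vector of norm 4 -/
theorem qip_qrefl (r : Fin 3 → ℍ[ℝ]) (hr : qip r r = 4) (x y : Fin 3 → ℍ[ℝ]) :
    qip (qrefl r x) (qrefl r y) = qip x y := by
  have hr' : qip r r = ((4 : ℝ) : ℍ[ℝ]) := by rw [hr]; norm_cast
  have hry : qip r y = star (qip y r) := (star_qip y r).symm
  rw [qrefl_eq, qrefl_eq, qip_sub_left, qip_sub_right, qip_sub_right, qip_lsm_left, qip_lsm_left, qip_lsm_right,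
    qip_lsm_right, hr', hry, Quaternion.star_smul]
  set A := qip x r
  set B := star (qip y r)
  rw [Quaternion.coe_mul_eq_smul]
  simp only [smul_mul_assoc, mul_smul_comm, smul_smul]
  module

theorem qrefl_self (r : Fin 3 → ℍ[ℝ]) (hr : qip r r = 4) : qrefl r r = -r := by
  funext t
  simp only [qrefl, hr, Pi.neg_apply]
  have h : ((1 / 2 : ℝ) • (4 : ℍ[ℝ])) = 2 := by
    have : (4 : ℍ[ℝ]) = ((4 : ℝ) : ℍ[ℝ]) := by norm_cast
    rw [this, ← Quaternion.coe_smul]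
    norm_num
    norm_cast
  rw [h]
  noncomm_ring

theorem qrefl_sub (r x y : Fin 3 → ℍ[ℝ]) : qrefl r (x - y) = qrefl r x - qrefl r y := by
  rw [sub_eq_add_neg, qrefl_add, qrefl_neg, sub_eq_add_neg]

/-- a reflection in a vector of norm 4 is an involution -/
theorem qrefl_qrefl (r : Fin 3 → ℍ[ℝ]) (hr : qip r r = 4) (x : Fin 3 → ℍ[ℝ]) : qrefl r (qrefl r x) = x := by
  show qrefl r (x - lsm ((1 / 2 : ℝ) • qip x r) r) = x
  rw [qrefl_sub, qrefl_lsm, qrefl_self r hr, qrefl_eq]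
  funext t
  simp only [Pi.sub_apply, lsm, Pi.neg_apply, mul_neg, sub_neg_eq_add, sub_add_cancel]

/-! ## the group -/

/-- additive, left-linear over the icosians and isometric (stated without dependent membership proofs) -/
structure IsLin (f : Equiv.Perm icoLeech) : Prop where
  add : ∀ x y z : icoLeech, (z : Fin 3 → ℍ[ℝ]) = x + y → ((f z : icoLeech) : Fin 3 → ℍ[ℝ]) = f x + f y
  smul : ∀ a ∈ icosians, ∀ x z : icoLeech, (z : Fin 3 → ℍ[ℝ]) = lsm a x →
    ((f z : icoLeech) : Fin 3 → ℍ[ℝ]) = lsm a (f x)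
  isom : ∀ x y : icoLeech, qip (f x : Fin 3 → ℍ[ℝ]) (f y) = qip (x : Fin 3 → ℍ[ℝ]) y

theorem perm_apply_inv {α : Type*} (f : Equiv.Perm α) (x : α) : f (f⁻¹ x) = x := f.apply_symm_apply x

theorem perm_inv_apply {α : Type*} (f : Equiv.Perm α) (x : α) : f⁻¹ (f x) = x := f.symm_apply_apply x

theorem isLin_one : IsLin (1 : Equiv.Perm icoLeech) :=
  ⟨fun x y z h => h, fun a _ x z h => h, fun x y => rfl⟩

theorem IsLin.mul {f g : Equiv.Perm icoLeech} (hf : IsLin f) (hg : IsLin g) : IsLin (f * g) := by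
  refine ⟨fun x y z h => ?_, fun a ha x z h => ?_, fun x y => ?_⟩
  · exact hf.add (g x) (g y) (g z) (hg.add x y z h)
  · exact hf.smul a ha (g x) (g z) (hg.smul a ha x z h)
  · show qip (f (g x) : Fin 3 → ℍ[ℝ]) (f (g y)) = _
    rw [hf.isom, hg.isom]

theorem IsLin.inv {f : Equiv.Perm icoLeech} (hf : IsLin f) : IsLin f⁻¹ := by
  refine ⟨fun x y z h => ?_, fun a ha x z h => ?_, fun x y => ?_⟩
  · let w : icoLeech := ⟨(f⁻¹ x : Fin 3 → ℍ[ℝ]) + f⁻¹ y, add_mem_icoLeech (f⁻¹ x).2 (f⁻¹ y).2⟩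
    have h1 := hf.add (f⁻¹ x) (f⁻¹ y) w rfl
    have h2 : f w = z := by
      apply Subtype.ext
      rw [h1, h]
      simp
    have h3 : f⁻¹ z = w := by rw [← h2]; simp
    rw [h3]
  · let w : icoLeech := ⟨lsm a (f⁻¹ x : Fin 3 → ℍ[ℝ]), lsm_mem_icoLeech ha (f⁻¹ x).2⟩
    have h1 := hf.smul a ha (f⁻¹ x) w rfl
    have h2 : f w = z := by
      apply Subtype.ext
      rw [h1, h]
      simp
    have h3 : f⁻¹ z = w := by rw [← h2]; simp
    rw [h3]
  · have := hf.isom (f⁻¹ x) (f⁻¹ y)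
    rw [perm_apply_inv, perm_apply_inv] at this
    exact this.symm

theorem isLin_of_reflection {f : Equiv.Perm icoLeech} (hf : IsIcoReflection f) : IsLin f := by
  obtain ⟨r, hr, hfr⟩ := hf
  refine ⟨fun x y z h => ?_, fun a ha x z h => ?_, fun x y => ?_⟩
  · rw [hfr, hfr, hfr, h, qrefl_add]
  · rw [hfr, hfr, h, qrefl_lsm]
  · rw [hfr, hfr, qip_qrefl _ hr]

/-- every element of the icosian reflection group is additive, icosian-linear and isometric -/
theorem isLin_of_mem_twoJ2 {g : Equiv.Perm icoLeech} (hg : g ∈ twoJ2) : IsLin g := by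
  unfold twoJ2 at hg
  induction hg using Subgroup.closure_induction with
  | mem f hf => exact isLin_of_reflection hf
  | one => exact isLin_one
  | mul f g _ _ hf hg => exact hf.mul hg
  | inv f _ hf => exact hf.inv

theorem IsLin.neg {f : Equiv.Perm icoLeech} (hf : IsLin f) (x z : icoLeech) (h : (z : Fin 3 → ℍ[ℝ]) = -x) :
    ((f z : icoLeech) : Fin 3 → ℍ[ℝ]) = -(f x) := by
  have := hf.smul (-1) (icosians.neg_mem icosians.one_mem) x z (by rw [h, lsm_neg_one])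
  rw [this, lsm_neg_one]

theorem IsLin.map_zero {f : Equiv.Perm icoLeech} (hf : IsLin f) (z : icoLeech) (h : (z : Fin 3 → ℍ[ℝ]) = 0) :
    ((f z : icoLeech) : Fin 3 → ℍ[ℝ]) = 0 := by
  have := hf.add z z z (by rw [h, add_zero])
  have h2 : ((f z : icoLeech) : Fin 3 → ℍ[ℝ]) + 0 = (f z : Fin 3 → ℍ[ℝ]) + f z := by rw [add_zero]; exact this
  exact (add_left_cancel h2).symm

/-! ## `x·r ∈ 2I` on the lattice -/

theorem star_mem_closure (T : Set ℍ[ℝ]) (hT : ∀ x ∈ T, star x ∈ Subring.closure T) {q : ℍ[ℝ]}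
    (hq : q ∈ Subring.closure T) : star q ∈ Subring.closure T := by
  induction hq using Subring.closure_induction with
  | mem x hx => exact hT x hx
  | zero => rw [star_zero]; exact Subring.zero_mem _
  | one => rw [star_one]; exact Subring.one_mem _
  | add x y _ _ hx hy => rw [star_add]; exact Subring.add_mem _ hx hy
  | neg x _ hx => rw [star_neg]; exact Subring.neg_mem _ hx
  | mul x y _ _ hx hy => rw [star_mul]; exact Subring.mul_mem _ hy hx

theorem star_mem_icosians {q : ℍ[ℝ]} (hq : q ∈ icosians) : star q ∈ icosians := by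
  refine star_mem_closure _ ?_ hq
  intro x hx
  show star x ∈ icosians
  rcases hx with rfl | hx
  · have : star qI = (Cfsg.Agent.Lib.Helper11.Ico.Q8.conj Cfsg.Agent.Lib.Helper11.Ico.Q8.iQ).toH := by
      rw [Cfsg.Agent.Lib.Helper11.Ico.Q8.toH_conj, Cfsg.Agent.Lib.Helper11.Ico.Q8.toH_iQ]
    rw [this]
    exact Cfsg.Agent.Lib.Helper11.Ico.Q8.toH_mem_icosians (by decide)
  · have : star x = (Cfsg.Agent.Lib.Helper11.Ico.Q8.conj Cfsg.Agent.Lib.Helper11.Ico.Q8.gQ).toH := by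
      rw [Cfsg.Agent.Lib.Helper11.Ico.Q8.toH_conj, Cfsg.Agent.Lib.Helper11.Ico.Q8.toH_gQ]
      exact congrArg star hx
    rw [this]
    exact Cfsg.Agent.Lib.Helper11.Ico.Q8.toH_mem_icosians (by decide)

theorem icoH_mem_icosians : icoH ∈ icosians := by
  rw [← Cfsg.Agent.Lib.Helper11.Ico.Q8.toH_hQ]
  exact Cfsg.Agent.Lib.Helper11.Ico.Q8.toH_mem_icosians (x := Cfsg.Agent.Lib.Helper11.Ico.Q8.hQ) (by decide)

/-- the purely ring-theoretic identity behind `x·r ∈ 2I` -/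
theorem qip_identity (x0 P a a' cb cb' h hb e fb : ℍ[ℝ])
    (hD1 : 3 * x0 + (a + a') * h - e * hb = 0) (hD2 : 3 * P + hb * (cb + cb') - h * fb = 0)
    (hN1 : h * hb - 2 = 0) (hN2 : hb * h - 2 = 0) :
    x0 * P + (x0 + a * h) * (P + hb * cb) + (x0 + a' * h) * (P + hb * cb') =
      2 * (e * fb - x0 * h * fb - (a + a') * (cb + cb') - (a + a') * h * P + a * cb + a' * cb') := by
  have key : x0 * P + (x0 + a * h) * (P + hb * cb) + (x0 + a' * h) * (P + hb * cb') -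
      2 * (e * fb - x0 * h * fb - (a + a') * (cb + cb') - (a + a') * h * P + a * cb + a' * cb') =
      x0 * (3 * P + hb * (cb + cb') - h * fb) + a * (h * hb - 2) * cb + a' * (h * hb - 2) * cb' +
        (3 * x0 + (a + a') * h - e * hb) * h * fb + (a + a') * h * (3 * P + hb * (cb + cb') - h * fb) +
        e * (hb * h - 2) * fb - (a + a') * (h * hb - 2) * (cb + cb') := by
    noncomm_ring
  rw [hD1, hD2, hN1, hN2] at key
  simp only [mul_zero, zero_mul, add_zero, sub_zero] at key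
  exact sub_eq_zero.mp key

/-- **(e)** the Hermitian product of two lattice vectors lies in `2I` -/
theorem qip_mem_two {x r : Fin 3 → ℍ[ℝ]} (hx : x ∈ icoLeech) (hr : r ∈ icoLeech) :
    ∃ e ∈ icosians, qip x r = (2 : ℝ) • e := by
  obtain ⟨hx0, ⟨a1, ha1, e1⟩, ⟨a2, ha2, e2⟩, ⟨e, he, e3⟩⟩ := hx
  obtain ⟨hr0, ⟨c1, hc1, f1⟩, ⟨c2, hc2, f2⟩, ⟨f, hf, f3⟩⟩ := hr
  have hh := icoH_mem_icosians
  have hx1 : x 1 = x 0 + (-a1) * icoH := by rw [neg_mul, ← e1]; abel
  have hx2 : x 2 = x 0 + (-(a1 + a2)) * icoH := by rw [neg_mul, add_mul, ← e1, ← e2]; abel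
  have hr1 : r 1 = r 0 + (-c1) * icoH := by rw [neg_mul, ← f1]; abel
  have hr2 : r 2 = r 0 + (-(c1 + c2)) * icoH := by rw [neg_mul, add_mul, ← f1, ← f2]; abel
  have hsr1 : star (r 1) = star (r 0) + star icoH * star (-c1) := by rw [hr1, star_add, star_mul]
  have hsr2 : star (r 2) = star (r 0) + star icoH * star (-(c1 + c2)) := by rw [hr2, star_add, star_mul]
  have hD1 : 3 * x 0 + (-a1 + -(a1 + a2)) * icoH - e * star icoH = 0 := by
    rw [← e3, hx1, hx2]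
    noncomm_ring
  have hD2 : 3 * star (r 0) + star icoH * (star (-c1) + star (-(c1 + c2))) - icoH * star f = 0 := by
    have : icoH * star f = star (r 0 + r 1 + r 2) := by rw [f3, star_mul, star_star]
    rw [this, star_add, star_add, hsr1, hsr2]
    noncomm_ring
  have hN1 : icoH * star icoH - 2 = 0 := by rw [Cfsg.Agent.Lib.Helper11.Ico.Q8.icoH_mul_star, sub_self]
  have hN2 : star icoH * icoH - 2 = 0 := by rw [Cfsg.Agent.Lib.Helper11.Ico.Q8.star_icoH_mul, sub_self]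
  have hq : qip x r = x 0 * star (r 0) + x 1 * star (r 1) + x 2 * star (r 2) := by
    simp only [qip, Fin.sum_univ_three]
  refine ⟨e * star f - x 0 * icoH * star f - (-a1 + -(a1 + a2)) * (star (-c1) + star (-(c1 + c2))) -
      (-a1 + -(a1 + a2)) * icoH * star (r 0) + (-a1) * star (-c1) + (-(a1 + a2)) * star (-(c1 + c2)), ?_, ?_⟩
  · have hA : -a1 + -(a1 + a2) ∈ icosians :=
      icosians.add_mem (icosians.neg_mem ha1) (icosians.neg_mem (icosians.add_mem ha1 ha2))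
    have hC1 : star (-c1) ∈ icosians := star_mem_icosians (icosians.neg_mem hc1)
    have hC2 : star (-(c1 + c2)) ∈ icosians := star_mem_icosians (icosians.neg_mem (icosians.add_mem hc1 hc2))
    refine icosians.add_mem (icosians.add_mem (icosians.sub_mem (icosians.sub_mem (icosians.sub_mem ?_ ?_) ?_) ?_) ?_) ?_
    · exact icosians.mul_mem he (star_mem_icosians hf)
    · exact icosians.mul_mem (icosians.mul_mem (hx0 0) hh) (star_mem_icosians hf)
    · exact icosians.mul_mem hA (icosians.add_mem hC1 hC2)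
    · exact icosians.mul_mem (icosians.mul_mem hA hh) (star_mem_icosians (hr0 0))
    · exact icosians.mul_mem (icosians.neg_mem ha1) hC1
    · exact icosians.mul_mem (icosians.neg_mem (icosians.add_mem ha1 ha2)) hC2
  · rw [hq, hx1, hx2, hsr1, hsr2, two_smul, ← two_mul]
    exact qip_identity _ _ _ _ _ _ _ _ _ _ hD1 hD2 hN1 hN2

theorem half_qip_mem {x r : Fin 3 → ℍ[ℝ]} (hx : x ∈ icoLeech) (hr : r ∈ icoLeech) :
    (1 / 2 : ℝ) • qip x r ∈ icosians := by
  obtain ⟨e, he, h⟩ := qip_mem_two hx hr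
  rw [h, smul_smul]
  norm_num
  exact he

theorem qrefl_mem_icoLeech {r x : Fin 3 → ℍ[ℝ]} (hr : r ∈ icoLeech) (hx : x ∈ icoLeech) :
    qrefl r x ∈ icoLeech := by
  rw [qrefl_eq, sub_eq_add_neg]
  exact add_mem_icoLeech hx (neg_mem_icoLeech (lsm_mem_icoLeech (half_qip_mem hx hr) hr))

/-! ## **(f)** the reflection permutations -/

/-- the reflection in a minimal vector as a permutation of the lattice -/
noncomputable def reflPerm (r : Fin 3 → ℍ[ℝ]) (hr : r ∈ icoLeech) (hr4 : qip r r = 4) : Equiv.Perm icoLeech where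
  toFun x := ⟨qrefl r x, qrefl_mem_icoLeech hr x.2⟩
  invFun x := ⟨qrefl r x, qrefl_mem_icoLeech hr x.2⟩
  left_inv x := Subtype.ext (qrefl_qrefl r hr4 x)
  right_inv x := Subtype.ext (qrefl_qrefl r hr4 x)

theorem reflPerm_apply (r : Fin 3 → ℍ[ℝ]) (hr : r ∈ icoLeech) (hr4 : qip r r = 4) (x : icoLeech) :
    ((reflPerm r hr hr4 x : icoLeech) : Fin 3 → ℍ[ℝ]) = qrefl r x := rfl

theorem isIcoReflection_reflPerm (r : Fin 3 → ℍ[ℝ]) (hr : r ∈ icoLeech) (hr4 : qip r r = 4) :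
    IsIcoReflection (reflPerm r hr hr4) :=
  ⟨⟨r, hr⟩, hr4, fun _ => rfl⟩

theorem reflPerm_mem_twoJ2 (r : Fin 3 → ℍ[ℝ]) (hr : r ∈ icoLeech) (hr4 : qip r r = 4) :
    reflPerm r hr hr4 ∈ twoJ2 :=
  Subgroup.subset_closure (isIcoReflection_reflPerm r hr hr4)

theorem isIcoReflection_iff (f : Equiv.Perm icoLeech) :
    IsIcoReflection f ↔ ∃ (r : Fin 3 → ℍ[ℝ]) (hr : r ∈ icoLeech) (hr4 : qip r r = 4), f = reflPerm r hr hr4 := by
  constructor
  · rintro ⟨r, hr4, hf⟩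
    refine ⟨r, r.2, hr4, ?_⟩
    ext x : 1
    apply Subtype.ext
    rw [hf, reflPerm_apply]
  · rintro ⟨r, hr, hr4, rfl⟩
    exact isIcoReflection_reflPerm r hr hr4

theorem reflPerm_mul_self (r : Fin 3 → ℍ[ℝ]) (hr : r ∈ icoLeech) (hr4 : qip r r = 4) :
    reflPerm r hr hr4 * reflPerm r hr hr4 = 1 := by
  ext x : 1
  apply Subtype.ext
  show qrefl r (qrefl r x) = x
  exact qrefl_qrefl r hr4 x

theorem reflPerm_inv (r : Fin 3 → ℍ[ℝ]) (hr : r ∈ icoLeech) (hr4 : qip r r = 4) :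
    (reflPerm r hr hr4)⁻¹ = reflPerm r hr hr4 :=
  inv_eq_of_mul_eq_one_left (reflPerm_mul_self r hr hr4)

/-! ## **(d)** conjugation of reflections -/

/-- the conjugate of the reflection in `r` by a linear isometric permutation `g` is the reflection in `g r` -/
theorem IsLin.conj_reflection {g f : Equiv.Perm icoLeech} (hg : IsLin g) (r : icoLeech)
    (hfr : ∀ x : icoLeech, ((f x : icoLeech) : Fin 3 → ℍ[ℝ]) = qrefl (r : Fin 3 → ℍ[ℝ]) x) :
    ∀ x : icoLeech, (((g * f * g⁻¹) x : icoLeech) : Fin 3 → ℍ[ℝ]) = qrefl (g r : Fin 3 → ℍ[ℝ]) x := by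
  intro x
  show ((g (f (g⁻¹ x)) : icoLeech) : Fin 3 → ℍ[ℝ]) = _
  obtain ⟨x', hx'⟩ : ∃ x', x' = g⁻¹ x := ⟨_, rfl⟩
  have hx : g x' = x := by rw [hx']; exact perm_apply_inv g x
  rw [← hx']
  obtain ⟨c, hc⟩ : ∃ c, c = (1 / 2 : ℝ) • qip (x' : Fin 3 → ℍ[ℝ]) r := ⟨_, rfl⟩
  have hcI : c ∈ icosians := by rw [hc]; exact half_qip_mem x'.2 r.2
  let w : icoLeech := ⟨lsm c r, lsm_mem_icoLeech hcI r.2⟩
  have h1 : ((f x' : icoLeech) : Fin 3 → ℍ[ℝ]) + w = x' := by
    rw [hfr, qrefl_eq, ← hc]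
    show (x' : Fin 3 → ℍ[ℝ]) - lsm c r + lsm c r = x'
    rw [sub_add_cancel]
  have h2 := hg.add (f x') w x' h1.symm
  have h3 := hg.smul c hcI r w rfl
  rw [hx] at h2
  rw [qrefl_eq, ← hx, hg.isom, ← hc, hx, ← h3, h2]
  abel

theorem IsLin.isIcoReflection_conj {g f : Equiv.Perm icoLeech} (hg : IsLin g) (hf : IsIcoReflection f) :
    IsIcoReflection (g * f * g⁻¹) := by
  obtain ⟨r, hr, hfr⟩ := hf
  exact ⟨g r, by rw [hg.isom]; exact hr, hg.conj_reflection r hfr⟩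

/-- conjugates of reflections by elements of `twoJ2` are reflections -/
theorem isIcoReflection_conj {g f : Equiv.Perm icoLeech} (hg : g ∈ twoJ2) (hf : IsIcoReflection f) :
    IsIcoReflection (g * f * g⁻¹) :=
  (isLin_of_mem_twoJ2 hg).isIcoReflection_conj hf

theorem IsLin.conj_reflPerm {g : Equiv.Perm icoLeech} (hg : IsLin g) (r : icoLeech)
    (hr4 : qip (r : Fin 3 → ℍ[ℝ]) r = 4) :
    g * reflPerm r r.2 hr4 * g⁻¹ = reflPerm (g r) (g r).2 (by rw [hg.isom]; exact hr4) := by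
  ext x : 1
  apply Subtype.ext
  rw [hg.conj_reflection r (fun _ => rfl), reflPerm_apply]

/-! ## **(c)** convenient forms for elements of `twoJ2` -/

theorem map_add_of_mem {g : Equiv.Perm icoLeech} (hg : g ∈ twoJ2) (x y : icoLeech) :
    ((g ⟨(x : Fin 3 → ℍ[ℝ]) + y, add_mem_icoLeech x.2 y.2⟩ : icoLeech) : Fin 3 → ℍ[ℝ]) = g x + g y :=
  (isLin_of_mem_twoJ2 hg).add x y _ rfl

theorem map_lsm_of_mem {g : Equiv.Perm icoLeech} (hg : g ∈ twoJ2) {a : ℍ[ℝ]} (ha : a ∈ icosians) (x : icoLeech) :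
    ((g ⟨lsm a x, lsm_mem_icoLeech ha x.2⟩ : icoLeech) : Fin 3 → ℍ[ℝ]) = lsm a (g x) :=
  (isLin_of_mem_twoJ2 hg).smul a ha x _ rfl

theorem map_neg_of_mem {g : Equiv.Perm icoLeech} (hg : g ∈ twoJ2) (x : icoLeech) :
    ((g ⟨-(x : Fin 3 → ℍ[ℝ]), neg_mem_icoLeech x.2⟩ : icoLeech) : Fin 3 → ℍ[ℝ]) = -(g x : Fin 3 → ℍ[ℝ]) :=
  (isLin_of_mem_twoJ2 hg).neg x _ rfl

theorem map_zero_of_mem {g : Equiv.Perm icoLeech} (hg : g ∈ twoJ2) :
    ((g ⟨0, zero_mem_icoLeech⟩ : icoLeech) : Fin 3 → ℍ[ℝ]) = 0 :=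
  (isLin_of_mem_twoJ2 hg).map_zero _ rfl

theorem qip_map_of_mem {g : Equiv.Perm icoLeech} (hg : g ∈ twoJ2) (x y : icoLeech) :
    qip (g x : Fin 3 → ℍ[ℝ]) (g y) = qip (x : Fin 3 → ℍ[ℝ]) y :=
  (isLin_of_mem_twoJ2 hg).isom x y

/-- conjugating the reflection in `r` by `g ∈ twoJ2` gives the reflection in `g r` -/
theorem conj_reflPerm_of_mem {g : Equiv.Perm icoLeech} (hg : g ∈ twoJ2) (r : icoLeech)
    (hr4 : qip (r : Fin 3 → ℍ[ℝ]) r = 4) :
    g * reflPerm r r.2 hr4 * g⁻¹ = reflPerm (g r) (g r).2 (by rw [qip_map_of_mem hg]; exact hr4) :=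
  (isLin_of_mem_twoJ2 hg).conj_reflPerm r hr4

/-- the reflection in a unit multiple `u r` of `r` (`u ū = 1`) is the reflection in `r` -/
theorem qrefl_lsm_vec (u : ℍ[ℝ]) (hu : star u * u = 1) (r x : Fin 3 → ℍ[ℝ]) : qrefl (lsm u r) x = qrefl r x := by
  funext t
  simp only [qrefl, lsm, qip_lsm_right]
  rw [smul_mul_assoc, smul_mul_assoc, mul_assoc, ← mul_assoc (star u), hu, one_mul]

end Cfsg.Agent.Lib.Helper16.IcoLin
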