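import Mathlib
import Cfsg.Agent.Lib.Helper16.IcoLin

/-!
# `-1` lies in the centre of the icosian reflection group; equality of reflections  (helper16)
-/

set_option autoImplicit false
set_option linter.unusedVariables false

namespace Cfsg.Agent.Lib.Helper16.IcoNeg

open Cfsg.Spor Quaternion Cfsg.Agent.Lib.Helper16.IcoLin

/-! ## the coordinate vectors `2 e_i` -/

/-- `2 e_i` -/
noncomputable def ev (i : Fin 3) : Fin 3 → ℍ[ℝ] := Pi.single i 2

theorem two_mem_icosians : (2 : ℍ[ℝ]) ∈ icosians := by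
  have : (2 : ℍ[ℝ]) = 1 + 1 := by norm_num
  rw [this]
  exact icosians.add_mem icosians.one_mem icosians.one_mem

theorem two_mem_leftIdeal_h : (2 : ℍ[ℝ]) ∈ leftIdeal icoH :=
  ⟨star icoH, star_mem_icosians icoH_mem_icosians, Cfsg.Agent.Lib.Helper11.Ico.Q8.star_icoH_mul.symm⟩

theorem two_mem_leftIdeal_hbar : (2 : ℍ[ℝ]) ∈ leftIdeal (star icoH) :=
  ⟨icoH, icoH_mem_icosians, Cfsg.Agent.Lib.Helper11.Ico.Q8.icoH_mul_star.symm⟩

theorem ev_mem (i : Fin 3) : ev i ∈ icoLeech := by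
  refine ⟨fun t => ?_, ?_, ?_, ?_⟩
  · unfold ev
    by_cases h : t = i
    · subst h; rw [Pi.single_eq_same]; exact two_mem_icosians
    · rw [Pi.single_eq_of_ne h]; exact icosians.zero_mem
  · fin_cases i
    · simpa [ev] using two_mem_leftIdeal_h
    · simpa [ev] using leftIdeal_neg two_mem_leftIdeal_h
    · simpa [ev] using leftIdeal_zero icoH
  · fin_cases i
    · simpa [ev] using leftIdeal_zero icoH
    · simpa [ev] using two_mem_leftIdeal_h
    · simpa [ev] using leftIdeal_neg two_mem_leftIdeal_h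
  · fin_cases i
    · simpa [ev] using two_mem_leftIdeal_hbar
    · simpa [ev] using two_mem_leftIdeal_hbar
    · simpa [ev] using two_mem_leftIdeal_hbar

theorem qip_ev_right (x : Fin 3 → ℍ[ℝ]) (i : Fin 3) : qip x (ev i) = 2 * x i := by
  unfold qip ev
  rw [Finset.sum_eq_single i]
  · rw [Pi.single_eq_same, star_ofNat]
    exact (Commute.ofNat_right (x i) 2).eq
  · intro t _ ht
    rw [Pi.single_eq_of_ne ht, star_zero, mul_zero]
  · intro h
    exact absurd (Finset.mem_univ i) h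

theorem qip_ev_ev (i : Fin 3) : qip (ev i) (ev i) = 4 := by
  rw [qip_ev_right]
  unfold ev
  rw [Pi.single_eq_same]
  norm_num

theorem qrefl_ev (i : Fin 3) (x : Fin 3 → ℍ[ℝ]) : qrefl (ev i) x = Function.update x i (-x i) := by
  funext t
  unfold qrefl
  rw [qip_ev_right]
  by_cases h : t = i
  · subst h
    rw [Function.update_self]
    unfold ev
    rw [Pi.single_eq_same, smul_mul_assoc]
    have : (2 : ℍ[ℝ]) * x t * 2 = (4 : ℝ) • x t := by
      have h2 : (2 : ℍ[ℝ]) = ((2 : ℝ) : ℍ[ℝ]) := by norm_cast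
      rw [h2, Quaternion.coe_mul_eq_smul, Quaternion.mul_coe_eq_smul, smul_smul]
      norm_num
    rw [this, smul_smul]
    norm_num
    rw [two_smul]
    abel
  · rw [Function.update_of_ne h]
    unfold ev
    rw [Pi.single_eq_of_ne h, mul_zero, sub_zero]

/-! ## `-1` -/

/-- `x ↦ -x` on the lattice -/
noncomputable def negPerm : Equiv.Perm icoLeech where
  toFun x := ⟨-(x : Fin 3 → ℍ[ℝ]), neg_mem_icoLeech x.2⟩
  invFun x := ⟨-(x : Fin 3 → ℍ[ℝ]), neg_mem_icoLeech x.2⟩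
  left_inv x := Subtype.ext (neg_neg _)
  right_inv x := Subtype.ext (neg_neg _)

theorem negPerm_apply (x : icoLeech) : ((negPerm x : icoLeech) : Fin 3 → ℍ[ℝ]) = -(x : Fin 3 → ℍ[ℝ]) := rfl

theorem negPerm_eq : negPerm = reflPerm (ev 0) (ev_mem 0) (qip_ev_ev 0) * reflPerm (ev 1) (ev_mem 1) (qip_ev_ev 1) *
    reflPerm (ev 2) (ev_mem 2) (qip_ev_ev 2) := by
  ext x : 1
  apply Subtype.ext
  show -(x : Fin 3 → ℍ[ℝ]) = qrefl (ev 0) (qrefl (ev 1) (qrefl (ev 2) x))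
  rw [qrefl_ev, qrefl_ev, qrefl_ev]
  funext t
  fin_cases t <;> simp [Function.update]

theorem negPerm_mem_twoJ2 : negPerm ∈ twoJ2 := by
  rw [negPerm_eq]
  exact twoJ2.mul_mem (twoJ2.mul_mem (reflPerm_mem_twoJ2 _ _ _) (reflPerm_mem_twoJ2 _ _ _)) (reflPerm_mem_twoJ2 _ _ _)

theorem negPerm_comm {g : Equiv.Perm icoLeech} (hg : g ∈ twoJ2) : g * negPerm = negPerm * g := by
  ext x : 1
  apply Subtype.ext
  show ((g (negPerm x) : icoLeech) : Fin 3 → ℍ[ℝ]) = -(g x : Fin 3 → ℍ[ℝ])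
  exact (isLin_of_mem_twoJ2 hg).neg x (negPerm x) rfl

theorem negPerm_mem_center : (⟨negPerm, negPerm_mem_twoJ2⟩ : twoJ2) ∈ Subgroup.center twoJ2 := by
  rw [Subgroup.mem_center_iff]
  intro g
  apply Subtype.ext
  exact negPerm_comm g.2

/-- the third conjunct of S1619 -/
theorem exists_neg_center : ∃ z ∈ Subgroup.center twoJ2, ∀ x : icoLeech,
    (((z : Equiv.Perm icoLeech) x : icoLeech) : Fin 3 → ℍ[ℝ]) = -(x : Fin 3 → ℍ[ℝ]) :=
  ⟨⟨negPerm, negPerm_mem_twoJ2⟩, negPerm_mem_center, fun _ => rfl⟩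

theorem two_ne_zero_H : (2 : ℍ[ℝ]) ≠ 0 := by
  have h2 : (2 : ℍ[ℝ]) = ((2 : ℝ) : ℍ[ℝ]) := by norm_cast
  rw [h2]
  intro h
  have h3 : ((2 : ℝ) : ℍ[ℝ]) = ((0 : ℝ) : ℍ[ℝ]) := by rw [h]; norm_cast
  have := Quaternion.coe_injective h3
  norm_num at this

theorem ev_ne_zero (i : Fin 3) : ev i ≠ 0 := by
  intro h
  have := congrFun h i
  unfold ev at this
  rw [Pi.single_eq_same] at this
  exact two_ne_zero_H this

theorem negPerm_ne_one : negPerm ≠ 1 := by
  intro h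
  have h1 : ((negPerm ⟨ev 0, ev_mem 0⟩ : icoLeech) : Fin 3 → ℍ[ℝ]) = ev 0 := by rw [h]; rfl
  rw [negPerm_apply] at h1
  have h2 : (2 : ℝ) • ev 0 = 0 := by
    rw [two_smul]
    nth_rewrite 1 [← h1]
    exact neg_add_cancel _
  rcases smul_eq_zero.mp h2 with h3 | h3
  · norm_num at h3
  · exact ev_ne_zero 0 h3

theorem negPerm_mul_self : negPerm * negPerm = 1 := by
  ext x : 1
  apply Subtype.ext
  show - -(x : Fin 3 → ℍ[ℝ]) = x
  exact neg_neg _

/-! ## equality of reflections -/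

theorem qip_lsm_lsm (u : ℍ[ℝ]) (r s : Fin 3 → ℍ[ℝ]) : qip (lsm u r) (lsm u s) = u * qip r s * star u := by
  rw [qip_lsm_left, qip_lsm_right, mul_assoc]

theorem star_mul_self_of_mul_star {u : ℍ[ℝ]} (h : u * star u = 1) : star u * u = 1 := by
  rw [Quaternion.star_mul_self, ← Quaternion.self_mul_star, h]

theorem reflPerm_eq_of_lsm {r r' : Fin 3 → ℍ[ℝ]} (hr : r ∈ icoLeech) (hr4 : qip r r = 4) (hr' : r' ∈ icoLeech)
    (hr4' : qip r' r' = 4) (u : ℍ[ℝ]) (hu : star u * u = 1) (h : r = lsm u r') :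
    reflPerm r hr hr4 = reflPerm r' hr' hr4' := by
  ext x : 1
  apply Subtype.ext
  rw [reflPerm_apply, reflPerm_apply, h, qrefl_lsm_vec u hu]

/-- two minimal vectors with the same reflection differ by the left scalar `u = ¼ (r·r')`, of norm 1 -/
theorem lsm_of_reflPerm_eq {r r' : Fin 3 → ℍ[ℝ]} (hr : r ∈ icoLeech) (hr4 : qip r r = 4) (hr' : r' ∈ icoLeech)
    (hr4' : qip r' r' = 4) (h : reflPerm r hr hr4 = reflPerm r' hr' hr4') :
    star ((1 / 4 : ℝ) • qip r r') * ((1 / 4 : ℝ) • qip r r') = 1 ∧ r = lsm ((1 / 4 : ℝ) • qip r r') r' := by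
  have h1 : qrefl r r = qrefl r' r := by
    have := congrArg (fun f : Equiv.Perm icoLeech => ((f ⟨r, hr⟩ : icoLeech) : Fin 3 → ℍ[ℝ])) h
    exact this
  rw [qrefl_self r hr4, qrefl_eq] at h1
  have h2 : r = lsm ((1 / 4 : ℝ) • qip r r') r' := by
    funext t
    have ht := congrFun h1 t
    simp only [Pi.neg_apply, Pi.sub_apply, lsm_apply] at ht
    rw [lsm_apply]
    have e : ((1 / 4 : ℝ) • qip r r') * r' t = (1 / 2 : ℝ) • (((1 / 2 : ℝ) • qip r r') * r' t) := by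
      rw [smul_mul_assoc, smul_mul_assoc, smul_smul]
      norm_num
    rw [e]
    have e2 : ((1 / 2 : ℝ) • qip r r') * r' t = r t + r t := by
      rw [eq_sub_iff_add_eq] at ht
      have h5 := congrArg (fun y => r t + y) ht
      simp only [add_neg_cancel_left] at h5
      exact h5
    rw [e2, ← two_smul ℝ (r t), smul_smul]
    norm_num
  refine ⟨?_, h2⟩
  apply star_mul_self_of_mul_star
  have h3 : qip r r = ((1 / 4 : ℝ) • qip r r') * qip r' r' * star ((1 / 4 : ℝ) • qip r r') := by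
    conv_lhs => rw [h2]
    exact qip_lsm_lsm _ _ _
  rw [hr4, hr4'] at h3
  set u := (1 / 4 : ℝ) • qip r r' with hu
  have h4 : (4 : ℍ[ℝ]) * (u * star u) = 4 * 1 := by
    rw [mul_one]
    conv_lhs => rw [← mul_assoc, (Commute.ofNat_left 4 u).eq]
    exact h3.symm
  have h40 : (4 : ℍ[ℝ]) ≠ 0 := by
    have h2' : (4 : ℍ[ℝ]) = 2 * 2 := by norm_num
    rw [h2']
    exact mul_ne_zero two_ne_zero_H two_ne_zero_H
  exact mul_left_cancel₀ h40 h4

theorem reflPerm_eq_iff {r r' : Fin 3 → ℍ[ℝ]} (hr : r ∈ icoLeech) (hr4 : qip r r = 4) (hr' : r' ∈ icoLeech)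
    (hr4' : qip r' r' = 4) :
    reflPerm r hr hr4 = reflPerm r' hr' hr4' ↔ ∃ u : ℍ[ℝ], star u * u = 1 ∧ r = lsm u r' :=
  ⟨fun h => ⟨_, lsm_of_reflPerm_eq hr hr4 hr' hr4' h⟩, fun ⟨u, hu, h⟩ => reflPerm_eq_of_lsm hr hr4 hr' hr4' u hu h⟩

/-- an element of `twoJ2` commuting with the reflection in `r` fixes the line of `r` -/
theorem fixes_line_of_comm {g : Equiv.Perm icoLeech} (hg : g ∈ twoJ2) (r : icoLeech)
    (hr4 : qip (r : Fin 3 → ℍ[ℝ]) r = 4) (hc : g * reflPerm r r.2 hr4 = reflPerm r r.2 hr4 * g) :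
    ∃ u : ℍ[ℝ], star u * u = 1 ∧ ((g r : icoLeech) : Fin 3 → ℍ[ℝ]) = lsm u r := by
  have h1 := conj_reflPerm_of_mem hg r hr4
  rw [hc, mul_assoc, mul_inv_cancel, mul_one] at h1
  exact ⟨_, lsm_of_reflPerm_eq _ _ _ _ h1.symm⟩

/-- a central element of `twoJ2` fixes every line -/
theorem center_fixes_lines (z : twoJ2) (hz : z ∈ Subgroup.center twoJ2) (r : icoLeech)
    (hr4 : qip (r : Fin 3 → ℍ[ℝ]) r = 4) :
    ∃ u : ℍ[ℝ], star u * u = 1 ∧ (((z : Equiv.Perm icoLeech) r : icoLeech) : Fin 3 → ℍ[ℝ]) = lsm u r := by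
  apply fixes_line_of_comm z.2 r hr4
  have := (Subgroup.mem_center_iff.mp hz) ⟨reflPerm r r.2 hr4, reflPerm_mem_twoJ2 _ _ _⟩
  exact (congrArg Subtype.val this).symm

end Cfsg.Agent.Lib.Helper16.IcoNeg
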