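import Mathlib
import Cfsg.Agent.Lib.Helper16.IcoNeg

/-!
# The kernel of the action of the icosian reflection group on lines is `{±1}`; the centre of `twoJ2`  (helper16)
-/

set_option autoImplicit false
set_option linter.unusedVariables false

namespace Cfsg.Agent.Lib.Helper16.IcoKer

open Cfsg.Spor Quaternion Cfsg.Agent.Lib.Helper16.IcoLin Cfsg.Agent.Lib.Helper16.IcoNeg
open Cfsg.Agent.Lib.Helper11.Ico

/-! ## three test vectors -/

/-- `½(−√5 − i + j + k) = i h̄ i⁻¹` -/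
def wQ : Q8 := ⟨1, -2, -1, 0, 1, 0, 1, 0⟩

/-- `(1, 1, h̄)` -/
def t1 : V3 := ⟨Q8.one, Q8.one, Q8.conj Q8.hQ⟩
/-- `(1, h̄, 1)` -/
def t2 : V3 := ⟨Q8.one, Q8.conj Q8.hQ, Q8.one⟩
/-- `(1, i, i h̄ i⁻¹)` -/
def t3 : V3 := ⟨Q8.one, Q8.iQ, wQ⟩

theorem t1_mem : t1.toV ∈ icoLeech := (V3.mem_icoLeech_iff _).mpr ⟨t1, by decide, rfl⟩
theorem t2_mem : t2.toV ∈ icoLeech := (V3.mem_icoLeech_iff _).mpr ⟨t2, by decide, rfl⟩
theorem t3_mem : t3.toV ∈ icoLeech := (V3.mem_icoLeech_iff _).mpr ⟨t3, by decide, rfl⟩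

theorem t1_val : t1.toV = ![1, 1, star icoH] := by
  unfold t1 V3.toV
  rw [Q8.toH_one, Q8.toH_conj, Q8.toH_hQ]

theorem t2_val : t2.toV = ![1, star icoH, 1] := by
  unfold t2 V3.toV
  rw [Q8.toH_one, Q8.toH_conj, Q8.toH_hQ]

theorem t3_val : t3.toV = ![1, qI, wQ.toH] := by
  unfold t3 V3.toV
  rw [Q8.toH_one, Q8.toH_iQ]

theorem wQ_mul_star : wQ.toH * star wQ.toH = 2 := by
  rw [Quaternion.self_mul_star]
  have ht := Q8.tau_sq
  have : Quaternion.normSq wQ.toH = 2 := by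
    rw [Quaternion.normSq_def']
    simp only [Q8.toH_re, Q8.toH_imI, Q8.toH_imJ, Q8.toH_imK, wQ]
    push_cast
    linear_combination ht
  rw [this]
  norm_cast

theorem t1_min : qip t1.toV t1.toV = 4 := by
  rw [t1_val]
  simp only [qip, Fin.sum_univ_three, Matrix.cons_val_zero, Matrix.cons_val_one, Matrix.cons_val_two,
    Matrix.head_cons, Matrix.tail_cons, star_one, mul_one, star_star, Q8.star_icoH_mul]
  norm_num

theorem t2_min : qip t2.toV t2.toV = 4 := by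
  rw [t2_val]
  simp only [qip, Fin.sum_univ_three, Matrix.cons_val_zero, Matrix.cons_val_one, Matrix.cons_val_two,
    Matrix.head_cons, Matrix.tail_cons, star_one, mul_one, star_star, Q8.star_icoH_mul]
  norm_num

theorem qI_mul_star : qI * star qI = 1 := by
  rw [Quaternion.self_mul_star]
  have : Quaternion.normSq qI = 1 := by
    rw [Quaternion.normSq_def']
    simp [qI]
  rw [this]
  norm_cast

theorem t3_min : qip t3.toV t3.toV = 4 := by
  rw [t3_val]
  simp only [qip, Fin.sum_univ_three, Matrix.cons_val_zero, Matrix.cons_val_one, Matrix.cons_val_two,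
    Matrix.head_cons, Matrix.tail_cons, star_one, mul_one, qI_mul_star, wQ_mul_star]
  norm_num

/-! ## the coordinate formula -/

theorem lsm_ev (a : ℍ[ℝ]) (i : Fin 3) : lsm a (ev i) = Pi.single i (a * 2) := by
  funext t
  unfold ev
  rw [lsm_apply]
  by_cases h : t = i
  · subst h; rw [Pi.single_eq_same, Pi.single_eq_same]
  · rw [Pi.single_eq_of_ne h, Pi.single_eq_of_ne h, mul_zero]

theorem add_self_eq (x : Fin 3 → ℍ[ℝ]) :
    x + x = lsm (x 0) (ev 0) + lsm (x 1) (ev 1) + lsm (x 2) (ev 2) := by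
  rw [lsm_ev, lsm_ev, lsm_ev]
  funext t
  fin_cases t <;> simp [mul_two]

theorem add_self_cancel_H {a b : ℍ[ℝ]} (h : a + a = b + b) : a = b := by
  have h2 : (2 : ℍ[ℝ]) * a = 2 * b := by rw [two_mul, two_mul, h]
  exact mul_left_cancel₀ two_ne_zero_H h2

/-- a linear permutation mapping each `2 e_i` into its line acts by right multiplications on the coordinates -/
theorem coord_formula {g : Equiv.Perm icoLeech} (hg : IsLin g) (u : Fin 3 → ℍ[ℝ])
    (hu : ∀ i, ((g ⟨ev i, ev_mem i⟩ : icoLeech) : Fin 3 → ℍ[ℝ]) = lsm (u i) (ev i)) (x : icoLeech) (t : Fin 3) :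
    ((g x : icoLeech) : Fin 3 → ℍ[ℝ]) t = (x : Fin 3 → ℍ[ℝ]) t * u t := by
  have hxI : ∀ t, (x : Fin 3 → ℍ[ℝ]) t ∈ icosians := x.2.1
  -- the three multiples
  let y : Fin 3 → icoLeech := fun i => ⟨lsm ((x : Fin 3 → ℍ[ℝ]) i) (ev i), lsm_mem_icoLeech (hxI i) (ev_mem i)⟩
  have hy : ∀ i, ((g (y i) : icoLeech) : Fin 3 → ℍ[ℝ]) = lsm ((x : Fin 3 → ℍ[ℝ]) i) (lsm (u i) (ev i)) := by
    intro i
    rw [← hu i]
    exact hg.smul _ (hxI i) ⟨ev i, ev_mem i⟩ (y i) rfl
  let w01 : icoLeech := ⟨(y 0 : Fin 3 → ℍ[ℝ]) + y 1, add_mem_icoLeech (y 0).2 (y 1).2⟩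
  let z : icoLeech := ⟨(x : Fin 3 → ℍ[ℝ]) + x, add_mem_icoLeech x.2 x.2⟩
  have h01 := hg.add (y 0) (y 1) w01 rfl
  have hz1 := hg.add x x z rfl
  have hz2 := hg.add w01 (y 2) z (add_self_eq _)
  rw [hz1, h01, hy 0, hy 1, hy 2] at hz2
  have ht := congrFun hz2 t
  simp only [Pi.add_apply, lsm_apply] at ht
  apply add_self_cancel_H
  rw [ht]
  unfold ev
  fin_cases t <;> simp [mul_two, mul_add]

/-! ## centraliser computations in `ℍ` -/

theorem imJK_zero_of_comm_qI (V : ℍ[ℝ]) (h : qI * V = V * qI) : V.imJ = 0 ∧ V.imK = 0 := by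
  have h2 := congrArg (fun q : ℍ[ℝ] => q.imJ) h
  have h3 := congrArg (fun q : ℍ[ℝ] => q.imK) h
  simp only [Quaternion.imJ_mul, Quaternion.imK_mul] at h2 h3
  have e1 : qI.re = 0 := rfl
  have e2 : qI.imI = 1 := rfl
  have e3 : qI.imJ = 0 := rfl
  have e4 : qI.imK = 0 := rfl
  rw [e1, e2, e3, e4] at h2 h3
  constructor <;> linarith

theorem imI_zero_of_comm_hbar (V : ℍ[ℝ]) (hJ : V.imJ = 0) (hK : V.imK = 0) (h : star icoH * V = V * star icoH) :
    V.imI = 0 := by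
  have h2 := congrArg (fun q : ℍ[ℝ] => q.imJ) h
  simp only [Quaternion.imJ_mul, Quaternion.re_star, Quaternion.imI_star, Quaternion.imJ_star,
    Quaternion.imK_star] at h2
  have e1 : icoH.re = -(Real.sqrt 5) / 2 := rfl
  have e2 : icoH.imI = 1 / 2 := rfl
  have e3 : icoH.imJ = 1 / 2 := rfl
  have e4 : icoH.imK = 1 / 2 := rfl
  rw [e1, e2, e3, e4, hJ, hK] at h2
  linarith

theorem eq_coe_of_comm (V : ℍ[ℝ]) (h1 : qI * V = V * qI) (h2 : star icoH * V = V * star icoH) :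
    V = ((V.re : ℝ) : ℍ[ℝ]) := by
  obtain ⟨hJ, hK⟩ := imJK_zero_of_comm_qI V h1
  have hI := imI_zero_of_comm_hbar V hJ hK h2
  ext <;> simp [hI, hJ, hK]

/-! ## the kernel -/

/-- **kernel of the action on lines**: a linear isometric permutation of the lattice mapping every minimal vector into
its own line is `1` or `-1` -/
theorem eq_one_or_neg_of_fixes_lines {g : Equiv.Perm icoLeech} (hg : IsLin g)
    (hfix : ∀ r : icoLeech, qip (r : Fin 3 → ℍ[ℝ]) r = 4 →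
      ∃ u : ℍ[ℝ], ((g r : icoLeech) : Fin 3 → ℍ[ℝ]) = lsm u r) :
    g = 1 ∨ g = negPerm := by
  choose u hu using fun i => hfix ⟨ev i, ev_mem i⟩ (qip_ev_ev i)
  have hco := coord_formula hg u hu
  -- the three test vectors
  obtain ⟨c1, hc1⟩ := hfix ⟨t1.toV, t1_mem⟩ t1_min
  obtain ⟨c2, hc2⟩ := hfix ⟨t2.toV, t2_mem⟩ t2_min
  obtain ⟨c3, hc3⟩ := hfix ⟨t3.toV, t3_mem⟩ t3_min
  have k1 : ∀ t, t1.toV t * u t = c1 * t1.toV t := by
    intro t
    rw [← hco ⟨t1.toV, t1_mem⟩ t, hc1, lsm_apply]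
  have k2 : ∀ t, t2.toV t * u t = c2 * t2.toV t := by
    intro t
    rw [← hco ⟨t2.toV, t2_mem⟩ t, hc2, lsm_apply]
  have k3 : ∀ t, t3.toV t * u t = c3 * t3.toV t := by
    intro t
    rw [← hco ⟨t3.toV, t3_mem⟩ t, hc3, lsm_apply]
  rw [t1_val] at k1
  rw [t2_val] at k2
  rw [t3_val] at k3
  have a0 := k1 0
  have a1 := k1 1
  have a2 := k1 2
  have b0 := k2 0
  have b2 := k2 2
  have d0 := k3 0
  have d1 := k3 1
  simp only [Matrix.cons_val_zero, Matrix.cons_val_one, Matrix.cons_val_two, Matrix.head_cons, Matrix.tail_cons,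
    one_mul, mul_one] at a0 a1 a2 b0 b2 d0 d1
  -- u 0 = u 1 = u 2 =: V
  have e01 : u 1 = u 0 := by rw [a1, a0]
  have e02 : u 2 = u 0 := by rw [b2, b0]
  have hcomm_h : star icoH * u 0 = u 0 * star icoH := by rw [← e02, a2, ← a0, e02]
  have hcomm_i : qI * u 0 = u 0 * qI := by rw [← e01, d1, ← d0, e01]
  have hV := eq_coe_of_comm (u 0) hcomm_i hcomm_h
  obtain ⟨a, ha⟩ : ∃ a : ℝ, u 0 = (a : ℍ[ℝ]) := ⟨_, hV⟩
  have hall : ∀ (x : icoLeech), ((g x : icoLeech) : Fin 3 → ℍ[ℝ]) = a • (x : Fin 3 → ℍ[ℝ]) := by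
    intro x
    funext t
    rw [hco x t, Pi.smul_apply]
    have : u t = (a : ℍ[ℝ]) := by
      fin_cases t
      · exact ha
      · exact e01.trans ha
      · exact e02.trans ha
    rw [this, Quaternion.mul_coe_eq_smul]
  -- a² = 1 from the isometry
  have hiso := hg.isom ⟨ev 0, ev_mem 0⟩ ⟨ev 0, ev_mem 0⟩
  rw [hall] at hiso
  have hq : qip (a • ev 0) (a • ev 0) = ((a * a : ℝ) : ℍ[ℝ]) * qip (ev 0) (ev 0) := by
    have : a • ev 0 = lsm (a : ℍ[ℝ]) (ev 0) := by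
      funext t
      rw [Pi.smul_apply, lsm_apply, Quaternion.coe_mul_eq_smul]
    rw [this, qip_lsm_lsm, Quaternion.star_coe, Quaternion.coe_mul]
    rw [mul_assoc, ← Quaternion.coe_commutes, ← mul_assoc]
  simp only at hiso
  rw [hq, qip_ev_ev] at hiso
  have h4 : ((a * a : ℝ) : ℍ[ℝ]) = ((1 : ℝ) : ℍ[ℝ]) := by
    have h40 : (4 : ℍ[ℝ]) ≠ 0 := by
      have h2' : (4 : ℍ[ℝ]) = 2 * 2 := by norm_num
      rw [h2']
      exact mul_ne_zero two_ne_zero_H two_ne_zero_H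
    apply mul_right_cancel₀ h40
    rw [hiso, Quaternion.coe_one, one_mul]
  have h5 : a * a = 1 := Quaternion.coe_injective h4
  have h6 : a = 1 ∨ a = -1 := mul_self_eq_one_iff.mp h5
  rcases h6 with rfl | rfl
  · left
    ext x : 1
    apply Subtype.ext
    rw [hall, one_smul]
    rfl
  · right
    ext x : 1
    apply Subtype.ext
    rw [hall, neg_one_smul]
    rfl

theorem eq_one_or_neg_of_mem_of_fixes_lines {g : Equiv.Perm icoLeech} (hg : g ∈ twoJ2)
    (hfix : ∀ r : icoLeech, qip (r : Fin 3 → ℍ[ℝ]) r = 4 →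
      ∃ u : ℍ[ℝ], ((g r : icoLeech) : Fin 3 → ℍ[ℝ]) = lsm u r) :
    g = 1 ∨ g = negPerm :=
  eq_one_or_neg_of_fixes_lines (isLin_of_mem_twoJ2 hg) hfix

/-! ## the centre of `twoJ2` -/

/-- `-1` as an element of `twoJ2` -/
noncomputable def negJ : twoJ2 := ⟨negPerm, negPerm_mem_twoJ2⟩

theorem negJ_ne_one : negJ ≠ 1 := by
  intro h
  exact negPerm_ne_one (congrArg Subtype.val h)

theorem negJ_mem_center : negJ ∈ Subgroup.center twoJ2 := negPerm_mem_center

theorem negJ_mul_self : negJ * negJ = 1 := Subtype.ext negPerm_mul_self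

/-- the centre of `2·J₂` is `{1, -1}` -/
theorem mem_center_iff (z : twoJ2) : z ∈ Subgroup.center twoJ2 ↔ z = 1 ∨ z = negJ := by
  constructor
  · intro hz
    have h := eq_one_or_neg_of_mem_of_fixes_lines z.2 (fun r hr4 => by
      obtain ⟨u, _, hu⟩ := center_fixes_lines z hz r hr4
      exact ⟨u, hu⟩)
    rcases h with h | h
    · left; exact Subtype.ext h
    · right; exact Subtype.ext h
  · rintro (rfl | rfl)
    · exact (Subgroup.center twoJ2).one_mem
    · exact negJ_mem_center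

/-- the second conjunct of S1619 -/
theorem card_center : Nat.card (Subgroup.center twoJ2) = 2 := by
  rw [Nat.card_eq_two_iff]
  refine ⟨1, ⟨negJ, negJ_mem_center⟩, ?_, ?_⟩
  · intro h
    exact negJ_ne_one (congrArg Subtype.val h).symm
  · ext z
    simp only [Set.mem_insert_iff, Set.mem_singleton_iff, Set.mem_univ, iff_true]
    rcases (mem_center_iff z.1).mp z.2 with h | h
    · left; exact Subtype.ext h
    · right; exact Subtype.ext h

/-- `|2·J₂| = 2 |J₂|` -/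
theorem card_twoJ2 : Nat.card twoJ2 = Nat.card J2 * 2 := by
  have h := Subgroup.card_eq_card_quotient_mul_card_subgroup (Subgroup.center twoJ2)
  rw [card_center] at h
  exact h

/-- S1619 from the order of `2·J₂` -/
theorem S1619_of_card (h : Nat.card twoJ2 = 1209600) :
    Nat.card twoJ2 = 1209600 ∧ Nat.card (Subgroup.center twoJ2) = 2 ∧
      (∃ z ∈ Subgroup.center twoJ2, ∀ x : icoLeech,
        (((z : Equiv.Perm icoLeech) x : icoLeech) : Fin 3 → ℍ[ℝ]) = -(x : Fin 3 → ℍ[ℝ])) ∧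
      Nat.card J2 = 604800 := by
  refine ⟨h, card_center, exists_neg_center, ?_⟩
  have := card_twoJ2
  rw [h] at this
  omega

end Cfsg.Agent.Lib.Helper16.IcoKer
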