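import Mathlib
import Cfsg.Agent.Lib.Helper16.IcoKer

/-!
# The action of the icosian reflection group on the lines of minimal vectors, from abstract line data  (helper16)

`LineData L` : representatives `rep k` (`k : L`) of the lines `{u • rep k}` of minimal vectors of the icosian Leech lattice,
every minimal vector being an icosian multiple of exactly one of them.  From it: the homomorphism
`alpha D : twoJ2 →* Perm L`, its kernel `{1, -1}` (= the centre), `J2 ≃* range (alpha D)`, the reflections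
(`= reflPerm (rep j)`, one for each line), the generation of the image, the evaluation rule, conjugacy of the
reflections from transitivity, and the count of the minimal vectors.
-/

set_option autoImplicit false
set_option linter.unusedVariables false
set_option linter.unusedSectionVars false

namespace Cfsg.Agent.Lib.Helper16.IcoLines

open Cfsg.Spor Quaternion Cfsg.Agent.Lib.Helper16.IcoLin Cfsg.Agent.Lib.Helper16.IcoNeg
  Cfsg.Agent.Lib.Helper16.IcoKer

/-- representatives of the lines of minimal vectors -/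
structure LineData (L : Type) where
  rep : L → Fin 3 → ℍ[ℝ]
  mem : ∀ k, rep k ∈ icoLeech
  min : ∀ k, qip (rep k) (rep k) = 4
  cover : ∀ r ∈ icoLeech, qip r r = 4 → ∃ k, ∃ u ∈ icosians, r = lsm u (rep k)
  uniq : ∀ k k' (u : ℍ[ℝ]), rep k = lsm u (rep k') → k = k'

/-! ## generalities on scalar multiples of minimal vectors -/

theorem four_ne_zero_H : (4 : ℍ[ℝ]) ≠ 0 := by
  have h2' : (4 : ℍ[ℝ]) = 2 * 2 := by norm_num
  rw [h2']
  exact mul_ne_zero two_ne_zero_H two_ne_zero_H

/-- a scalar relating two minimal vectors has norm one -/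
theorem mul_star_of_lsm {r s : Fin 3 → ℍ[ℝ]} {u : ℍ[ℝ]} (hr : qip r r = 4) (hs : qip s s = 4) (h : r = lsm u s) :
    u * star u = 1 := by
  have h3 : qip r r = u * qip s s * star u := by
    conv_lhs => rw [h]
    exact qip_lsm_lsm _ _ _
  rw [hr, hs] at h3
  have h4 : (4 : ℍ[ℝ]) * (u * star u) = 4 * 1 := by
    rw [mul_one]
    conv_lhs => rw [← mul_assoc, (Commute.ofNat_left 4 u).eq]
    exact h3.symm
  exact mul_left_cancel₀ four_ne_zero_H h4

theorem star_mul_of_lsm {r s : Fin 3 → ℍ[ℝ]} {u : ℍ[ℝ]} (hr : qip r r = 4) (hs : qip s s = 4) (h : r = lsm u s) :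
    star u * u = 1 :=
  star_mul_self_of_mul_star (mul_star_of_lsm hr hs h)

theorem lsm_lsm (a b : ℍ[ℝ]) (v : Fin 3 → ℍ[ℝ]) : lsm a (lsm b v) = lsm (a * b) v := (lsm_mul a b v).symm

theorem lsm_star_of_lsm {r s : Fin 3 → ℍ[ℝ]} {u : ℍ[ℝ]} (hu : star u * u = 1) (h : r = lsm u s) :
    s = lsm (star u) r := by
  rw [h, lsm_lsm, hu, lsm_one]

theorem ne_zero_of_min {r : Fin 3 → ℍ[ℝ]} (hr : qip r r = 4) : r ≠ 0 := by
  intro h
  rw [h] at hr
  have : qip (0 : Fin 3 → ℍ[ℝ]) 0 = 0 := by simp [qip]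
  rw [this] at hr
  exact four_ne_zero_H hr.symm

theorem lsm_injective_left {s : Fin 3 → ℍ[ℝ]} (hs : s ≠ 0) {u u' : ℍ[ℝ]} (h : lsm u s = lsm u' s) : u = u' := by
  obtain ⟨t, ht⟩ : ∃ t, s t ≠ 0 := by
    by_contra hcon
    push Not at hcon
    exact hs (funext hcon)
  have := congrFun h t
  rw [lsm_apply, lsm_apply] at this
  exact mul_right_cancel₀ ht this

variable {L : Type} (D : LineData L)

/-- the representative as a lattice element -/
def LineData.repL (k : L) : icoLeech := ⟨D.rep k, D.mem k⟩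

/-- `r` lies on the line `k` -/
def OnLine (r : Fin 3 → ℍ[ℝ]) (k : L) : Prop := ∃ u ∈ icosians, r = lsm u (D.rep k)

theorem onLine_rep (k : L) : OnLine D (D.rep k) k := ⟨1, icosians.one_mem, (lsm_one _).symm⟩

theorem onLine_unique {r : Fin 3 → ℍ[ℝ]} (hr : qip r r = 4) {k k' : L} (h : OnLine D r k) (h' : OnLine D r k') :
    k = k' := by
  obtain ⟨u, _, hu⟩ := h
  obtain ⟨u', _, hu'⟩ := h'
  have h1 := star_mul_of_lsm hr (D.min k) hu
  have h2 : D.rep k = lsm (star u) r := lsm_star_of_lsm h1 hu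
  rw [hu', lsm_lsm] at h2
  exact D.uniq k k' _ h2

theorem exists_onLine {r : Fin 3 → ℍ[ℝ]} (hr : r ∈ icoLeech) (hr4 : qip r r = 4) : ∃ k, OnLine D r k := by
  obtain ⟨k, u, hu, h⟩ := D.cover r hr hr4
  exact ⟨k, u, hu, h⟩

theorem OnLine.lsm {r : Fin 3 → ℍ[ℝ]} {k : L} (h : OnLine D r k) {a : ℍ[ℝ]} (ha : a ∈ icosians) :
    OnLine D (lsm a r) k := by
  obtain ⟨u, hu, rfl⟩ := h
  exact ⟨a * u, icosians.mul_mem ha hu, lsm_lsm _ _ _⟩

/-- a linear map sends lines to lines -/
theorem IsLin.onLine_map {g : Equiv.Perm icoLeech} (hg : IsLin g) {r : icoLeech} {k k' : L}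
    (h : OnLine D (r : Fin 3 → ℍ[ℝ]) k) (h' : OnLine D ((g (D.repL k) : icoLeech) : Fin 3 → ℍ[ℝ]) k') :
    OnLine D ((g r : icoLeech) : Fin 3 → ℍ[ℝ]) k' := by
  obtain ⟨u, hu, hr⟩ := h
  have := hg.smul u hu (D.repL k) r hr
  rw [this]
  exact h'.lsm D hu

/-! ## the action on the lines -/

theorem min_map {g : Equiv.Perm icoLeech} (hg : g ∈ twoJ2) (k : L) :
    qip ((g (D.repL k) : icoLeech) : Fin 3 → ℍ[ℝ]) (g (D.repL k)) = 4 := by
  rw [qip_map_of_mem hg]
  exact D.min k

/-- the image line -/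
noncomputable def lineMap (g : twoJ2) (k : L) : L :=
  Classical.choose (exists_onLine D ((g : Equiv.Perm icoLeech) (D.repL k)).2 (min_map D g.2 k))

theorem lineMap_spec (g : twoJ2) (k : L) :
    OnLine D (((g : Equiv.Perm icoLeech) (D.repL k) : icoLeech) : Fin 3 → ℍ[ℝ]) (lineMap D g k) :=
  Classical.choose_spec (exists_onLine D ((g : Equiv.Perm icoLeech) (D.repL k)).2 (min_map D g.2 k))

theorem lineMap_eq_iff (g : twoJ2) (k k' : L) :
    lineMap D g k = k' ↔ OnLine D (((g : Equiv.Perm icoLeech) (D.repL k) : icoLeech) : Fin 3 → ℍ[ℝ]) k' := by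
  constructor
  · rintro rfl
    exact lineMap_spec D g k
  · intro h
    exact onLine_unique D (min_map D g.2 k) (lineMap_spec D g k) h

theorem lineMap_one (k : L) : lineMap D 1 k = k := by
  rw [lineMap_eq_iff]
  exact onLine_rep D k

theorem lineMap_mul (g g' : twoJ2) (k : L) : lineMap D (g * g') k = lineMap D g (lineMap D g' k) := by
  rw [lineMap_eq_iff]
  show OnLine D (((g : Equiv.Perm icoLeech) ((g' : Equiv.Perm icoLeech) (D.repL k)) : icoLeech) : Fin 3 → ℍ[ℝ]) _
  exact IsLin.onLine_map D (isLin_of_mem_twoJ2 g.2) (lineMap_spec D g' k) (lineMap_spec D g _)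

/-- the action of `2·J₂` on the lines -/
@[reducible] noncomputable def lineAction : MulAction twoJ2 L where
  smul g k := lineMap D g k
  one_smul k := lineMap_one D k
  mul_smul g g' k := lineMap_mul D g g' k

/-- the permutation representation of `2·J₂` on the lines -/
noncomputable def alpha : twoJ2 →* Equiv.Perm L :=
  @MulAction.toPermHom twoJ2 L _ (lineAction D)

theorem alpha_apply (g : twoJ2) (k : L) : alpha D g k = lineMap D g k := rfl

theorem alpha_eq_iff (g : twoJ2) (k k' : L) :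
    alpha D g k = k' ↔ OnLine D (((g : Equiv.Perm icoLeech) (D.repL k) : icoLeech) : Fin 3 → ℍ[ℝ]) k' :=
  lineMap_eq_iff D g k k'

theorem alpha_spec (g : twoJ2) (k : L) :
    ∃ u ∈ icosians, (((g : Equiv.Perm icoLeech) (D.repL k) : icoLeech) : Fin 3 → ℍ[ℝ]) = lsm u (D.rep (alpha D g k)) :=
  lineMap_spec D g k

/-! ## the kernel -/

theorem fixes_lines_of_alpha_eq_one (g : twoJ2) (h : alpha D g = 1) (r : icoLeech)
    (hr4 : qip (r : Fin 3 → ℍ[ℝ]) r = 4) :
    ∃ u : ℍ[ℝ], (((g : Equiv.Perm icoLeech) r : icoLeech) : Fin 3 → ℍ[ℝ]) = lsm u r := by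
  obtain ⟨k, u, hu, hr⟩ := D.cover r r.2 hr4
  have hk : alpha D g k = k := by rw [h]; rfl
  obtain ⟨u', hu', h'⟩ := alpha_spec D g k
  rw [hk] at h'
  have h1 := (isLin_of_mem_twoJ2 g.2).smul u hu (D.repL k) r hr
  have h2 : D.rep k = lsm (star u) r := lsm_star_of_lsm (star_mul_of_lsm hr4 (D.min k) hr) hr
  refine ⟨u * u' * star u, ?_⟩
  rw [h1, h', lsm_lsm]
  conv_lhs => rw [h2]
  rw [lsm_lsm]

theorem alpha_negJ : alpha D negJ = 1 := by
  ext k
  show alpha D negJ k = k
  rw [alpha_eq_iff]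
  refine ⟨-1, icosians.neg_mem icosians.one_mem, ?_⟩
  rw [lsm_neg_one]
  rfl

/-- the kernel of the action on the lines is `{1, -1}` -/
theorem alpha_eq_one_iff (g : twoJ2) : alpha D g = 1 ↔ g = 1 ∨ g = negJ := by
  constructor
  · intro h
    rcases eq_one_or_neg_of_mem_of_fixes_lines g.2 (fixes_lines_of_alpha_eq_one D g h) with h1 | h1
    · left; exact Subtype.ext h1
    · right; exact Subtype.ext h1
  · rintro (rfl | rfl)
    · exact map_one _
    · exact alpha_negJ D

theorem ker_alpha : (alpha D).ker = Subgroup.center twoJ2 := by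
  ext g
  rw [MonoidHom.mem_ker, alpha_eq_one_iff, mem_center_iff]

/-- `J₂` is the image of the action on the lines -/
noncomputable def J2EquivRange : J2 ≃* (alpha D).range :=
  (QuotientGroup.quotientMulEquivOfEq (ker_alpha D).symm).trans (QuotientGroup.quotientKerEquivRange (alpha D))

theorem card_J2_eq : Nat.card J2 = Nat.card (alpha D).range :=
  Nat.card_congr (J2EquivRange D).toEquiv

theorem card_twoJ2_eq : Nat.card twoJ2 = 2 * Nat.card (alpha D).range := by
  rw [card_twoJ2, card_J2_eq D, mul_comm]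

/-! ## the reflections -/

/-- the reflection in the `j`-th representative -/
noncomputable def refl (j : L) : Equiv.Perm icoLeech := reflPerm (D.rep j) (D.mem j) (D.min j)

theorem refl_mem (j : L) : refl D j ∈ twoJ2 := reflPerm_mem_twoJ2 _ _ _

/-- the reflection in the `j`-th representative, as an element of `2·J₂` -/
noncomputable def reflJ (j : L) : twoJ2 := ⟨refl D j, refl_mem D j⟩

theorem refl_apply (j : L) (x : icoLeech) : ((refl D j x : icoLeech) : Fin 3 → ℍ[ℝ]) = qrefl (D.rep j) x := rfl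

theorem isIcoReflection_refl (j : L) : IsIcoReflection (refl D j) := isIcoReflection_reflPerm _ _ _

/-- every reflection is the reflection in one of the representatives -/
theorem exists_refl_eq {f : Equiv.Perm icoLeech} (hf : IsIcoReflection f) : ∃ j, f = refl D j := by
  obtain ⟨r, hr, hr4, rfl⟩ := (isIcoReflection_iff f).mp hf
  obtain ⟨j, u, hu, h⟩ := D.cover r hr hr4
  exact ⟨j, reflPerm_eq_of_lsm hr hr4 (D.mem j) (D.min j) u (star_mul_of_lsm hr4 (D.min j) h) h⟩

theorem refl_injective : Function.Injective (refl D) := by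
  intro j j' h
  obtain ⟨hu, h1⟩ := lsm_of_reflPerm_eq (D.mem j) (D.min j) (D.mem j') (D.min j') h
  exact D.uniq j j' _ h1

theorem setOf_isIcoReflection : {f : Equiv.Perm icoLeech | IsIcoReflection f} = Set.range (refl D) := by
  ext f
  constructor
  · intro hf
    obtain ⟨j, rfl⟩ := exists_refl_eq D hf
    exact ⟨j, rfl⟩
  · rintro ⟨j, rfl⟩
    exact isIcoReflection_refl D j

/-- the number of reflections is the number of lines (second half of S1621) -/
theorem ncard_reflections (D : LineData L) : {f : Equiv.Perm icoLeech | IsIcoReflection f}.ncard = Nat.card L := by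
  rw [setOf_isIcoReflection, ← Set.image_univ, Set.ncard_image_of_injective _ (refl_injective D), Set.ncard_univ]

/-- evaluation rule for the image of a reflection -/
theorem alpha_reflJ_eq_iff (j k k' : L) :
    alpha D (reflJ D j) k = k' ↔ ∃ u ∈ icosians, qrefl (D.rep j) (D.rep k) = lsm u (D.rep k') :=
  alpha_eq_iff D (reflJ D j) k k'

/-- the image of the action is generated by the images of the reflections in the representatives -/
theorem range_alpha : (alpha D).range = Subgroup.closure (Set.range fun j => alpha D (reflJ D j)) := by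
  have htop : (⊤ : Subgroup twoJ2) = Subgroup.closure (Set.range (reflJ D)) := by
    have h1 : Subgroup.closure (((↑) : twoJ2 → Equiv.Perm icoLeech) ⁻¹' {f | IsIcoReflection f}) = ⊤ :=
      Subgroup.closure_closure_coe_preimage
    rw [← h1]
    congr 1
    ext g
    simp only [Set.mem_preimage, Set.mem_ofPred_eq, Set.mem_range]
    constructor
    · intro hg
      obtain ⟨j, hj⟩ := exists_refl_eq D hg
      exact ⟨j, Subtype.ext hj.symm⟩
    · rintro ⟨j, rfl⟩
      exact isIcoReflection_refl D j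
  rw [MonoidHom.range_eq_map, htop, MonoidHom.map_closure]
  congr 1
  ext x
  simp only [Set.mem_image, Set.mem_range]
  constructor
  · rintro ⟨_, ⟨j, rfl⟩, rfl⟩
    exact ⟨j, rfl⟩
  · rintro ⟨j, rfl⟩
    exact ⟨_, ⟨j, rfl⟩, rfl⟩

/-- conjugating the reflection in line `j` by `g` gives the reflection in line `alpha g j` -/
theorem conj_refl (g : twoJ2) (j : L) :
    (g : Equiv.Perm icoLeech) * refl D j * (g : Equiv.Perm icoLeech)⁻¹ = refl D (alpha D g j) := by
  have h1 := conj_reflPerm_of_mem g.2 (D.repL j) (D.min j)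
  obtain ⟨u, hu, h⟩ := alpha_spec D g j
  have hmin : qip (((g : Equiv.Perm icoLeech) (D.repL j) : icoLeech) : Fin 3 → ℍ[ℝ]) ((g : Equiv.Perm icoLeech) (D.repL j)) = 4 :=
    min_map D g.2 j
  have h2 := reflPerm_eq_of_lsm ((g : Equiv.Perm icoLeech) (D.repL j)).2 hmin (D.mem _) (D.min _) u
    (star_mul_of_lsm hmin (D.min _) h) h
  unfold refl
  exact h1.trans h2

/-- S1622 from the transitivity of the image on the lines -/
theorem conj_of_transitive (htr : ∀ j j' : L, ∃ g : twoJ2, alpha D g j = j')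
    (f f' : Equiv.Perm icoLeech) (hf : IsIcoReflection f) (hf' : IsIcoReflection f') :
    ∃ g ∈ twoJ2, g * f * g⁻¹ = f' := by
  obtain ⟨j, rfl⟩ := exists_refl_eq D hf
  obtain ⟨j', rfl⟩ := exists_refl_eq D hf'
  obtain ⟨g, hg⟩ := htr j j'
  refine ⟨g, g.2, ?_⟩
  rw [conj_refl, hg]

/-! ## counting the minimal vectors -/

/-- the unit group of the icosians, as a set -/
def icoUnits : Set ℍ[ℝ] := {u | u ∈ icosians ∧ u * star u = 1}

theorem minimal_eq_image : {r : Fin 3 → ℍ[ℝ] | r ∈ icoLeech ∧ qip r r = 4} =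
    (fun p : L × ℍ[ℝ] => lsm p.2 (D.rep p.1)) '' ((Set.univ : Set L) ×ˢ icoUnits) := by
  ext r
  simp only [Set.mem_ofPred_eq, Set.mem_image, Set.mem_prod, Set.mem_univ, true_and, Prod.exists]
  constructor
  · rintro ⟨hr, hr4⟩
    obtain ⟨k, u, hu, h⟩ := D.cover r hr hr4
    exact ⟨k, u, ⟨hu, mul_star_of_lsm hr4 (D.min k) h⟩, h.symm⟩
  · rintro ⟨k, u, ⟨hu, hu1⟩, rfl⟩
    refine ⟨lsm_mem_icoLeech hu (D.mem k), ?_⟩
    rw [qip_lsm_lsm, D.min k]
    have : u * 4 * star u = 4 * (u * star u) := by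
      rw [← mul_assoc, (Commute.ofNat_left 4 u).eq]
    rw [this, hu1, mul_one]

theorem lsm_rep_injOn : Set.InjOn (fun p : L × ℍ[ℝ] => lsm p.2 (D.rep p.1)) ((Set.univ : Set L) ×ˢ icoUnits) := by
  rintro ⟨k, u⟩ ⟨_, hu, hu1⟩ ⟨k', u'⟩ ⟨_, hu', hu1'⟩ h
  simp only at h
  have hmin : qip (lsm u (D.rep k)) (lsm u (D.rep k)) = 4 := by
    rw [qip_lsm_lsm, D.min k]
    have : u * 4 * star u = 4 * (u * star u) := by
      rw [← mul_assoc, (Commute.ofNat_left 4 u).eq]
    rw [this, hu1, mul_one]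
  have hk : k = k' := onLine_unique D hmin ⟨u, hu, rfl⟩ ⟨u', hu', h⟩
  subst hk
  have := lsm_injective_left (ne_zero_of_min (D.min k)) h
  rw [this]

/-- the number of minimal vectors is (number of lines) × (number of units) (first half of S1621) -/
theorem ncard_minimal (D : LineData L) : {r : Fin 3 → ℍ[ℝ] | r ∈ icoLeech ∧ qip r r = 4}.ncard = Nat.card L * icoUnits.ncard := by
  rw [minimal_eq_image D, Set.InjOn.ncard_image (lsm_rep_injOn D), Set.ncard_prod, Set.ncard_univ]

/-! ## a criterion for `uniq` -/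

/-- `uniq` follows from the explicit check `rep k ≠ (¼ (rep k · rep k')) • rep k'` for `k ≠ k'` -/
theorem uniq_of_check {rep : L → Fin 3 → ℍ[ℝ]} (hmin : ∀ k, qip (rep k) (rep k) = 4)
    (hchk : ∀ k k', k ≠ k' → rep k ≠ lsm ((1 / 4 : ℝ) • qip (rep k) (rep k')) (rep k'))
    (k k' : L) (u : ℍ[ℝ]) (h : rep k = lsm u (rep k')) : k = k' := by
  by_contra hne
  apply hchk k k' hne
  have h1 : qip (rep k) (rep k') = u * 4 := by
    conv_lhs => rw [h]
    rw [qip_lsm_left, hmin k']
  have h2 : (1 / 4 : ℝ) • qip (rep k) (rep k') = u := by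
    rw [h1]
    have h4 : (4 : ℍ[ℝ]) = ((4 : ℝ) : ℍ[ℝ]) := by norm_cast
    rw [h4, Quaternion.mul_coe_eq_smul, smul_smul]
    norm_num
  rw [h2]
  exact h

end Cfsg.Agent.Lib.Helper16.IcoLines
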