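import Mathlib
import Cfsg.Agent.Lib.Helper16.IcoLines

/-!
# The icosian ring has exactly 120 units  (helper16)
-/

set_option autoImplicit false

namespace Cfsg.Agent.Lib.Helper16.IcoUnits

open Cfsg.Spor Quaternion Cfsg.Agent.Lib.Helper11.Ico Cfsg.Agent.Lib.Helper16.IcoLines

/-- `4 N(x) = A + B τ` -/
theorem toH_mul_star (x : Q8) :
    x.toH * star x.toH = (((((Q8.nrm x).1 : ℤ) : ℝ) + (((Q8.nrm x).2 : ℤ) : ℝ) * tau) / 4 : ℝ) := by
  rw [Quaternion.self_mul_star]
  congr 1
  rw [Quaternion.normSq_def']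
  simp only [Q8.toH_re, Q8.toH_imI, Q8.toH_imJ, Q8.toH_imK, Q8.nrm]
  have ht := Q8.tau_sq
  push_cast
  linear_combination ((x.b0 : ℝ) * x.b0 + x.b1 * x.b1 + x.b2 * x.b2 + x.b3 * x.b3) / 4 * ht

theorem toH_mul_star_eq_one_iff (x : Q8) : x.toH * star x.toH = 1 ↔ Q8.nrm x = (4, 0) := by
  rw [toH_mul_star]
  constructor
  · intro h
    have h1 : (((((Q8.nrm x).1 : ℤ) : ℝ) + (((Q8.nrm x).2 : ℤ) : ℝ) * tau) / 4 : ℝ) = 1 := by
      have : ((1 : ℝ) : ℍ[ℝ]) = 1 := by norm_cast
      rw [← this] at h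
      exact Quaternion.coe_injective h
    have h2 : (((Q8.nrm x).1 : ℤ) : ℝ) + (((Q8.nrm x).2 : ℤ) : ℝ) * tau = ((4 : ℤ) : ℝ) + ((0 : ℤ) : ℝ) * tau := by
      push_cast
      linarith
    obtain ⟨e1, e2⟩ := Q8.int_tau_inj h2
    exact Prod.ext e1 e2
  · intro h
    rw [h]
    norm_num

/-! ## enumeration -/

/-- the possible doubled coordinates of a unit -/
def box : List ℤ := [-2, -1, 0, 1, 2]

/-- lists of `n` integers from `box` with sum of squares `b` -/
def gen : ℕ → ℤ → List (List ℤ)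
  | 0, b => if b = 0 then [[]] else []
  | n + 1, b => box.flatMap fun a => if a * a ≤ b then (gen n (b - a * a)).map (a :: ·) else []

theorem sum_sq_nonneg (l : List ℤ) : 0 ≤ (l.map fun a => a * a).sum := by
  induction l with
  | nil => simp
  | cons a l ih =>
    rw [List.map_cons, List.sum_cons]
    exact add_nonneg (mul_self_nonneg a) ih

theorem mem_box_of_sq_le {a : ℤ} (h : a * a ≤ 4) : a ∈ box := by
  have h1 : -2 ≤ a := by nlinarith
  have h2 : a ≤ 2 := by nlinarith
  interval_cases a <;> simp [box]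

theorem mem_gen : ∀ (n : ℕ) (b : ℤ) (l : List ℤ), b ≤ 4 → l.length = n → (l.map fun a => a * a).sum = b →
    l ∈ gen n b := by
  intro n
  induction n with
  | zero =>
    intro b l _ hl hs
    have : l = [] := List.length_eq_zero_iff.mp hl
    subst this
    simp only [List.map_nil, List.sum_nil] at hs
    subst hs
    simp [gen]
  | succ n ih =>
    intro b l hb hl hs
    obtain ⟨a, l', rfl⟩ : ∃ a l', l = a :: l' := by
      cases l with
      | nil => simp at hl
      | cons a l' => exact ⟨a, l', rfl⟩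
    rw [List.map_cons, List.sum_cons] at hs
    have hnn := sum_sq_nonneg l'
    have hab : a * a ≤ b := by linarith
    have hl' : l'.length = n := by simpa using hl
    have hmem := ih (b - a * a) l' (by nlinarith [mul_self_nonneg a]) hl' (by linarith)
    unfold gen
    rw [List.mem_flatMap]
    refine ⟨a, mem_box_of_sq_le (by linarith), ?_⟩
    rw [if_pos hab, List.mem_map]
    exact ⟨l', hmem, rfl⟩

/-- the coordinates as a list -/
def toL (x : Q8) : List ℤ := [x.a0, x.b0, x.a1, x.b1, x.a2, x.b2, x.a3, x.b3]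

/-- a list of eight integers as an element of the model -/
def ofL : List ℤ → Q8
  | [a0, b0, a1, b1, a2, b2, a3, b3] => ⟨a0, b0, a1, b1, a2, b2, a3, b3⟩
  | _ => ⟨0, 0, 0, 0, 0, 0, 0, 0⟩

theorem ofL_toL (x : Q8) : ofL (toL x) = x := rfl

/-- the unit test on the model -/
def isUnitQ (x : Q8) : Bool := Q8.inI x && decide (Q8.nrm x = (4, 0))

/-- the list of all units of the model -/
def unitsL : List Q8 := ((gen 8 4).map ofL).filter isUnitQ

theorem mem_unitsL_iff (x : Q8) : x ∈ unitsL ↔ Q8.inI x = true ∧ Q8.nrm x = (4, 0) := by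
  unfold unitsL
  rw [List.mem_filter]
  constructor
  · rintro ⟨_, h⟩
    unfold isUnitQ at h
    rw [Bool.and_eq_true, decide_eq_true_eq] at h
    exact h
  · rintro ⟨h1, h2⟩
    refine ⟨?_, ?_⟩
    · rw [List.mem_map]
      refine ⟨toL x, ?_, ofL_toL x⟩
      apply mem_gen 8 4 (toL x) le_rfl rfl
      have := congrArg Prod.fst h2
      simp only [Q8.nrm] at this
      simp only [toL, List.map_cons, List.map_nil, List.sum_cons, List.sum_nil]
      linarith
    · unfold isUnitQ
      rw [Bool.and_eq_true, decide_eq_true_eq]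
      exact ⟨h1, h2⟩

set_option maxRecDepth 100000 in
theorem unitsL_card : unitsL.toFinset.card = 120 := by decide +kernel

theorem icoUnits_eq : icoUnits = Q8.toH '' (↑unitsL.toFinset : Set Q8) := by
  ext u
  simp only [icoUnits, Set.mem_ofPred_eq, Set.mem_image, Finset.mem_coe, List.mem_toFinset, mem_unitsL_iff]
  constructor
  · rintro ⟨hu, h1⟩
    obtain ⟨x, hx, rfl⟩ := (Q8.mem_icosians_iff u).mp hu
    exact ⟨x, ⟨hx, (toH_mul_star_eq_one_iff x).mp h1⟩, rfl⟩
  · rintro ⟨x, ⟨hx, hn⟩, rfl⟩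
    exact ⟨Q8.toH_mem_icosians hx, (toH_mul_star_eq_one_iff x).mpr hn⟩

/-- **the icosian ring has 120 units** -/
theorem ncard_icoUnits : icoUnits.ncard = 120 := by
  rw [icoUnits_eq, Set.ncard_image_of_injective _ Q8.toH_injective, Set.ncard_coe_finset, unitsL_card]

end Cfsg.Agent.Lib.Helper16.IcoUnits
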