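import Mathlib
import Cfsg.Agent.Lib.Helper11.IcoData
import Cfsg.Agent.Lib.Helper16.IcoUnits

/-!
# From the classification of the minimal vectors (helper11's Block B) to the line data  (helper16)
-/

set_option autoImplicit false
set_option linter.unusedVariables false

namespace Cfsg.Agent.Lib.Helper16.IcoBridge

open Cfsg.Spor Quaternion Cfsg.Agent.Lib.Helper11.Ico Cfsg.Agent.Lib.Helper16.IcoLin
  Cfsg.Agent.Lib.Helper16.IcoNeg Cfsg.Agent.Lib.Helper16.IcoKer Cfsg.Agent.Lib.Helper16.IcoLines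
  Cfsg.Agent.Lib.Helper16.IcoUnits

/-- the facts of Block B that are used, in helper11's exact shapes -/
structure BlockB : Prop where
  classify : ∀ (v : V3), V3.isMin v = true → ∃ u ∈ U, ∃ c ∈ C, v = V3.lsmul u c
  unique_line : ∀ {u u' : Q8} {c c' : V3}, u ∈ U → u' ∈ U → c ∈ C → c' ∈ C →
    V3.lsmul u c = V3.lsmul u' c' → u = u' ∧ c = c'
  C_nodup : C.Nodup

/-! ## computations -/

set_option maxRecDepth 100000 in
theorem U_inI : ∀ u ∈ U, Q8.inI u = true := by decide +kernel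

set_option maxRecDepth 100000 in
theorem unitsL_sub_U : ∀ x ∈ unitsL, x ∈ U := by decide +kernel

set_option maxRecDepth 100000 in
theorem one_mem_U : Q8.one ∈ U := by decide +kernel

set_option maxRecDepth 100000 in
theorem C_isMin : ∀ c ∈ C, V3.isMin c = true := by decide +kernel

/-- witnesses: `cvec (wit k) · cvec k = 2 · unit` -/
def wit : List ℕ := [4, 4, 4, 4, 0, 0, 0, 0, 0, 0, 0, 0, 4, 4, 4, 4, 1, 1, 2, 2, 2, 2, 0, 0, 4, 9, 1, 1, 0, 0, 0, 0, 1, 1, 2, 2, 3, 3, 0, 0, 7, 4, 0, 0, 1, 1, 0, 0, 1, 1, 4, 7, 2, 2, 0, 0, 3, 3, 0, 0, 1, 1, 0, 0, 1, 1, 7, 5, 3, 3, 0, 0, 2, 2, 1, 1, 0, 0, 0, 0, 0, 0, 0, 0, 0, 0, 0, 0, 16, 16, 0, 0, 0, 0, 0, 0, 0, 0, 1, 1, 1, 1, 3, 3, 2, 2, 0, 0, 0, 0, 0, 0, 0, 0, 2, 2, 7, 4, 1, 1, 1, 1, 0, 0, 0, 0, 0, 0, 0, 0, 1, 1, 1, 1, 4, 7, 2, 2, 0, 0, 0, 0, 0, 0, 0, 0, 2, 2, 3, 3, 1, 1, 1, 1, 1, 1, 1, 1, 1, 1, 1, 1, 0, 0, 0, 0, 0, 0, 0, 0, 0, 0, 0, 0, 0, 0, 0, 0, 0, 0, 0, 0, 0, 0,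 0, 0, 0, 0, 0, 0, 0, 0, 0, 0, 2, 2, 4, 4, 1, 1, 1, 1, 0, 0, 0, 0, 0, 0, 0, 0, 0, 0, 0, 0, 0, 0, 0, 0, 0, 0, 0, 0, 0, 0, 0, 0, 0, 0, 0, 0, 0, 0, 0, 0, 0, 0, 0, 0, 0, 0, 0, 0, 0, 0, 0, 0, 0, 0, 0, 0, 0, 0, 0, 0, 0, 0, 0, 0, 2, 2, 3, 3, 1, 1, 1, 1, 2, 2, 3, 3, 1, 1, 1, 1, 2, 2, 4, 7, 1, 1, 1, 1, 2, 2, 4, 4, 3, 3, 4, 4, 2, 2, 3, 3, 2, 2, 5, 5, 1, 1, 1, 1, 1, 1, 1, 1, 1, 1, 1, 1, 1, 1, 1, 1, 154]

/-- the witness test -/
def witOK (k : ℕ) : Bool :=
  let d := V3.dotRaw (cvec (wit.getD k 0)) (cvec k)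
  Q8.div4 d && decide (Q8.quarter d ∈ U)

set_option maxRecDepth 100000 in
theorem wit_ok : ∀ k ∈ List.range 315, witOK k = true := by decide +kernel

/-! ## structural lemmas -/

theorem mul_one_left (x : Q8) : Q8.mul Q8.one x = x := by
  ext <;> simp [Q8.mul, Q8.mulRaw, Q8.half, Q8.one]

theorem lsmul_one (c : V3) : V3.lsmul Q8.one c = c := by
  unfold V3.lsmul
  rw [mul_one_left, mul_one_left, mul_one_left]

theorem cvec_mem (k : Fin 315) : cvec k ∈ C := by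
  unfold cvec
  have hk : (k : ℕ) < C.length := by rw [C_length]; exact k.2
  rw [List.getD_eq_getElem _ _ hk]
  exact List.getElem_mem hk

theorem exists_cvec_of_mem {c : V3} (hc : c ∈ C) : ∃ k : Fin 315, cvec k = c := by
  obtain ⟨i, hi, h⟩ := List.mem_iff_getElem.mp hc
  refine ⟨⟨i, by rw [← C_length]; exact hi⟩, ?_⟩
  unfold cvec
  rw [List.getD_eq_getElem _ _ hi]
  exact h

theorem cvec_injective (hnd : C.Nodup) : Function.Injective (fun k : Fin 315 => cvec k) := by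
  intro k k' h
  have hk : (k : ℕ) < C.length := by rw [C_length]; exact k.2
  have hk' : (k' : ℕ) < C.length := by rw [C_length]; exact k'.2
  simp only [cvec] at h
  rw [List.getD_eq_getElem _ _ hk, List.getD_eq_getElem _ _ hk'] at h
  exact Fin.ext ((List.Nodup.getElem_inj_iff hnd).mp h)

theorem inI_of_isMin {c : V3} (h : V3.isMin c = true) :
    Q8.inI c.x = true ∧ Q8.inI c.y = true ∧ Q8.inI c.z = true := by
  simp only [V3.isMin, V3.inLeech, Bool.and_eq_true] at h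
  exact ⟨h.1.1.1.1.1.1, h.1.1.1.1.1.2, h.1.1.1.1.2⟩

theorem toV_lsmul_eq {u : Q8} {c : V3} (hu : Q8.inI u = true) (hc : V3.isMin c = true) :
    (V3.lsmul u c).toV = lsm u.toH c.toV := by
  obtain ⟨hx, hy, hz⟩ := inI_of_isMin hc
  exact V3.toV_lsmul hu hx hy hz

/-- the representatives -/
noncomputable def rep (k : Fin 315) : Fin 3 → ℍ[ℝ] := (cvec k).toV

theorem rep_mem_min (k : Fin 315) : rep k ∈ icoLeech ∧ qip (rep k) (rep k) = 4 :=
  (V3.minvec_iff _).mpr ⟨cvec k, C_isMin _ (cvec_mem k), rfl⟩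

theorem cover (hB : BlockB) (r : Fin 3 → ℍ[ℝ]) (hr : r ∈ icoLeech) (hr4 : qip r r = 4) :
    ∃ k, ∃ u ∈ icosians, r = lsm u (rep k) := by
  obtain ⟨v, hv, rfl⟩ := (V3.minvec_iff r).mp ⟨hr, hr4⟩
  obtain ⟨u, hu, c, hc, rfl⟩ := hB.classify v hv
  obtain ⟨k, rfl⟩ := exists_cvec_of_mem hc
  exact ⟨k, u.toH, Q8.toH_mem_icosians (U_inI u hu), toV_lsmul_eq (U_inI u hu) (C_isMin _ (cvec_mem k))⟩

/-- uniqueness for icosian scalars -/
theorem uniq_weak (hB : BlockB) (k k' : Fin 315) (w : ℍ[ℝ]) (hw : w ∈ icosians) (h : rep k = lsm w (rep k')) :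
    k = k' := by
  obtain ⟨x, hx, rfl⟩ := (Q8.mem_icosians_iff w).mp hw
  have h1 : x.toH * star x.toH = 1 := mul_star_of_lsm (rep_mem_min k).2 (rep_mem_min k').2 h
  have hxU : x ∈ U := unitsL_sub_U x ((mem_unitsL_iff x).mpr ⟨hx, (toH_mul_star_eq_one_iff x).mp h1⟩)
  have h2 : (V3.lsmul x (cvec k')).toV = (V3.lsmul Q8.one (cvec k)).toV := by
    rw [toV_lsmul_eq hx (C_isMin _ (cvec_mem k')), lsmul_one]
    exact h.symm
  have h3 := V3.toV_injective h2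
  have h4 := (hB.unique_line hxU one_mem_U (cvec_mem k') (cvec_mem k) h3).2
  exact (cvec_injective hB.C_nodup h4).symm

/-- a scalar relating two lattice vectors is an icosian as soon as the second one has product `2 · unit` with some
lattice vector -/
theorem mem_icosians_of_lsm {r r' x : Fin 3 → ℍ[ℝ]} (hr : r ∈ icoLeech) (hx : x ∈ icoLeech) {u w w' : ℍ[ℝ]}
    (hw' : w' ∈ icosians) (hww : w' * w = 1) (hq : qip x r' = (2 : ℝ) • w) (h : r = lsm u r') : u ∈ icosians := by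
  obtain ⟨e, he, h2⟩ := qip_mem_two hx hr
  rw [h, qip_lsm_right, hq, smul_mul_assoc] at h2
  have h3 : w * star u = e := smul_right_injective _ (two_ne_zero (α := ℝ)) h2
  have h4 : star u = w' * e := by rw [← h3, ← mul_assoc, hww, one_mul]
  have h5 : star u ∈ icosians := by rw [h4]; exact icosians.mul_mem hw' he
  have := star_mem_icosians h5
  rwa [star_star] at this

theorem witOK_spec (k : Fin 315) : ∃ x ∈ icoLeech, ∃ w w' : ℍ[ℝ], w' ∈ icosians ∧ w' * w = 1 ∧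
    qip x (rep k) = (2 : ℝ) • w := by
  have hok := wit_ok k (List.mem_range.mpr k.2)
  unfold witOK at hok
  simp only [Bool.and_eq_true, decide_eq_true_eq] at hok
  obtain ⟨hd4, hqU⟩ := hok
  have hj : wit.getD k 0 < 315 := by
    have : ∀ k ∈ List.range 315, wit.getD k 0 < 315 := by decide +kernel
    exact this k (List.mem_range.mpr k.2)
  set j : Fin 315 := ⟨wit.getD k 0, hj⟩ with hjdef
  set d := V3.dotRaw (cvec (wit.getD k 0)) (cvec k) with hd
  set y := Q8.quarter d with hy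
  have hyI := U_inI y hqU
  have hd' : d.toH = (2 : ℝ) • qip (rep j) (rep k) := V3.toH_dotRaw _ _
  have hdq : d = Q8.dbl (Q8.dbl y) := (Q8.dbl_dbl_quarter hd4).symm
  have h1 : (2 : ℝ) • qip (rep j) (rep k) = (2 : ℝ) • ((2 : ℝ) • y.toH) := by
    rw [← hd', hdq, Q8.toH_dbl, Q8.toH_dbl]
  have h2 : qip (rep j) (rep k) = (2 : ℝ) • y.toH := smul_right_injective _ (two_ne_zero (α := ℝ)) h1
  have hyn : y.toH * star y.toH = 1 := by
    rw [toH_mul_star_eq_one_iff]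
    have : ∀ u ∈ U, Q8.nrm u = (4, 0) := by decide +kernel
    exact this y hqU
  exact ⟨rep j, (rep_mem_min j).1, y.toH, star y.toH, star_mem_icosians (Q8.toH_mem_icosians hyI),
    star_mul_self_of_mul_star hyn, h2⟩

/-- uniqueness for arbitrary quaternion scalars -/
theorem uniq_strong (hB : BlockB) (k k' : Fin 315) (u : ℍ[ℝ]) (h : rep k = lsm u (rep k')) : k = k' := by
  obtain ⟨x, hx, w, w', hw', hww, hq⟩ := witOK_spec k'
  exact uniq_weak hB k k' u (mem_icosians_of_lsm (rep_mem_min k).1 hx hw' hww hq h) h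

/-- **the line data of the icosian Leech lattice** -/
noncomputable def lineData (hB : BlockB) : LineData (Fin 315) where
  rep := rep
  mem k := (rep_mem_min k).1
  min k := (rep_mem_min k).2
  cover := cover hB
  uniq := uniq_strong hB

/-- S1621 from Block B -/
theorem S1621_of_blockB (hB : BlockB) :
    {r : Fin 3 → ℍ[ℝ] | r ∈ Cfsg.Spor.icoLeech ∧ Cfsg.Spor.qip r r = 4}.ncard = 37800 ∧
      {f : Equiv.Perm ↥Cfsg.Spor.icoLeech | Cfsg.Spor.IsIcoReflection f}.ncard = 315 := by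
  constructor
  · rw [ncard_minimal (lineData hB), ncard_icoUnits, Nat.card_eq_fintype_card, Fintype.card_fin]
  · rw [ncard_reflections (lineData hB), Nat.card_eq_fintype_card, Fintype.card_fin]

end Cfsg.Agent.Lib.Helper16.IcoBridge
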