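import Mathlib
import Cfsg.Agent.Lib.Helper16.IcoLines

/-!
# The image of the icosian reflection group on the lines is generated by few reflections  (helper16)

If the images of the reflections in a set `S` of lines generate a group that is transitive on the lines, then this group is
the whole image `range (alpha D)`; consequences for S1619 and S1622.
-/

set_option autoImplicit false
set_option linter.unusedVariables false
set_option linter.unusedSectionVars false

namespace Cfsg.Agent.Lib.Helper16.IcoGen

open Cfsg.Spor Quaternion Cfsg.Agent.Lib.Helper16.IcoLin Cfsg.Agent.Lib.Helper16.IcoNeg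
  Cfsg.Agent.Lib.Helper16.IcoKer Cfsg.Agent.Lib.Helper16.IcoLines

variable {L : Type} (D : LineData L)

/-- the image of the reflection in line `j` -/
noncomputable def pj (j : L) : Equiv.Perm L := alpha D (reflJ D j)

theorem conj_reflJ (g : twoJ2) (j : L) : g * reflJ D j * g⁻¹ = reflJ D (alpha D g j) := by
  apply Subtype.ext
  exact conj_refl D g j

theorem conj_pj (g : twoJ2) (j : L) : alpha D g * pj D j * (alpha D g)⁻¹ = pj D (alpha D g j) := by
  unfold pj
  rw [← conj_reflJ, map_mul, map_mul, map_inv]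

theorem pj_mem_range (j : L) : pj D j ∈ (alpha D).range := ⟨reflJ D j, rfl⟩

theorem range_alpha_eq_closure : (alpha D).range = Subgroup.closure (Set.range (pj D)) := range_alpha D

/-- the subgroup generated by the images of the reflections in the lines of `S` -/
noncomputable def GS (S : Set L) : Subgroup (Equiv.Perm L) := Subgroup.closure (pj D '' S)

theorem GS_le_range (S : Set L) : GS D S ≤ (alpha D).range := by
  unfold GS
  rw [Subgroup.closure_le]
  rintro _ ⟨j, _, rfl⟩
  exact pj_mem_range D j

/-- if the group generated by the reflections in the lines of `S` is transitive, it is the whole image -/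
theorem range_alpha_eq_GS (S : Set L) (j0 : L) (hj0 : j0 ∈ S) (htr : ∀ j' : L, ∃ x ∈ GS D S, x j0 = j') :
    (alpha D).range = GS D S := by
  apply le_antisymm _ (GS_le_range D S)
  rw [range_alpha_eq_closure, Subgroup.closure_le]
  rintro _ ⟨j', rfl⟩
  obtain ⟨x, hx, hxj⟩ := htr j'
  obtain ⟨g, rfl⟩ := GS_le_range D S hx
  rw [← hxj, ← conj_pj]
  have h0 : pj D j0 ∈ GS D S := Subgroup.subset_closure ⟨j0, hj0, rfl⟩
  exact (GS D S).mul_mem ((GS D S).mul_mem hx h0) ((GS D S).inv_mem hx)

theorem transitive_of_GS (S : Set L) (j0 : L) (htr : ∀ j' : L, ∃ x ∈ GS D S, x j0 = j') (j j' : L) :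
    ∃ g : twoJ2, alpha D g j = j' := by
  obtain ⟨x, hx, hxj⟩ := htr j
  obtain ⟨y, hy, hyj⟩ := htr j'
  obtain ⟨g, rfl⟩ := GS_le_range D S hx
  obtain ⟨g', rfl⟩ := GS_le_range D S hy
  refine ⟨g' * g⁻¹, ?_⟩
  rw [map_mul, map_inv, Equiv.Perm.mul_apply, ← hxj, perm_inv_apply]
  exact hyj

/-- **S1622** from the transitivity of the group generated by the reflections in the lines of `S` -/
theorem S1622_of_GS (S : Set L) (j0 : L) (htr : ∀ j' : L, ∃ x ∈ GS D S, x j0 = j')
    (f f' : Equiv.Perm icoLeech) (hf : IsIcoReflection f) (hf' : IsIcoReflection f') :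
    ∃ g ∈ twoJ2, g * f * g⁻¹ = f' :=
  conj_of_transitive D (transitive_of_GS D S j0 htr) f f' hf hf'

/-- **S1619** from the order of the group generated by the reflections in the lines of `S` -/
theorem S1619_of_GS (S : Set L) (j0 : L) (hj0 : j0 ∈ S) (htr : ∀ j' : L, ∃ x ∈ GS D S, x j0 = j')
    (hcard : Nat.card (GS D S) = 604800) :
    Nat.card twoJ2 = 1209600 ∧ Nat.card (Subgroup.center twoJ2) = 2 ∧
      (∃ z ∈ Subgroup.center twoJ2, ∀ x : icoLeech,
        (((z : Equiv.Perm icoLeech) x : icoLeech) : Fin 3 → ℍ[ℝ]) = -(x : Fin 3 → ℍ[ℝ])) ∧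
      Nat.card J2 = 604800 := by
  apply S1619_of_card
  rw [card_twoJ2_eq D, range_alpha_eq_GS D S j0 hj0 htr, hcard]

/-- `J₂` is isomorphic to the group generated by the reflections in the lines of `S` -/
noncomputable def J2EquivGS (S : Set L) (j0 : L) (hj0 : j0 ∈ S) (htr : ∀ j' : L, ∃ x ∈ GS D S, x j0 = j') :
    J2 ≃* GS D S :=
  (J2EquivRange D).trans (MulEquiv.subgroupCongr (range_alpha_eq_GS D S j0 hj0 htr))

end Cfsg.Agent.Lib.Helper16.IcoGen
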