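import Mathlib
import Cfsg.Agent.Lib.Helper16.IcoBridge
import Cfsg.Agent.Lib.Helper16.IcoGen
import Cfsg.Agent.Lib.Helper28.BSGSPerm

/-!
# Evaluation harness: the line permutations of the icosian reflections as explicit tables  (helper16)

* `toV_reflM` : the model reflection `V3.reflM` computes `qrefl` on lattice vectors;
* `pj_eq_of_check` : a kernel-checkable table certificate for `pj D j` (`D = lineData hB`);
* `pj_eq_permOf` : `pj D j = permOf 315 w t t` in helper28's packed-table format;
* `GS_eq_genGroup`, `S1619_of_bsgs`, `S1622_of_bsgs` : the two rows from a BSGS certificate.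
-/

set_option autoImplicit false
set_option linter.unusedVariables false
set_option linter.unusedSectionVars false

namespace Cfsg.Agent.Lib.Helper16.IcoEval

open Cfsg.Spor Quaternion Cfsg.Agent.Lib.Helper11.Ico Cfsg.Agent.Lib.Helper16.IcoLin
  Cfsg.Agent.Lib.Helper16.IcoNeg Cfsg.Agent.Lib.Helper16.IcoKer Cfsg.Agent.Lib.Helper16.IcoLines
  Cfsg.Agent.Lib.Helper16.IcoUnits Cfsg.Agent.Lib.Helper16.IcoBridge Cfsg.Agent.Lib.Helper16.IcoGen
  Cfsg.Agent.Lib.Helper28.BSGS

/-- for lattice vectors the raw product is divisible by four, with an icosian quotient `½ (x·r)` -/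
theorem quarter_dotRaw {r x : V3} (hr : r.toV ∈ icoLeech) (hx : x.toV ∈ icoLeech) :
    Q8.inI (Q8.quarter (V3.dotRaw x r)) = true ∧
      (Q8.quarter (V3.dotRaw x r)).toH = (1 / 2 : ℝ) • qip x.toV r.toV := by
  obtain ⟨e, he, h2⟩ := qip_mem_two hx hr
  obtain ⟨z, hz, rfl⟩ := (Q8.mem_icosians_iff e).mp he
  have hd : V3.dotRaw x r = Q8.dbl (Q8.dbl z) := by
    apply Q8.toH_injective
    rw [V3.toH_dotRaw, h2, Q8.toH_dbl, Q8.toH_dbl]
  obtain ⟨_, hq⟩ := Q8.div4_dbl_dbl z
  rw [hd, hq]
  refine ⟨hz, ?_⟩
  rw [h2, smul_smul]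
  norm_num

/-- the model reflection computes the quaternionic reflection on lattice vectors -/
theorem toV_reflM {r x : V3} (hr : V3.isMin r = true) (hx : x.toV ∈ icoLeech) :
    (V3.reflM r x).toV = qrefl r.toV x.toV := by
  have hrL : r.toV ∈ icoLeech := ((V3.minvec_iff _).mpr ⟨r, hr, rfl⟩).1
  obtain ⟨hy, hyH⟩ := quarter_dotRaw hrL hx
  unfold V3.reflM
  rw [V3.toV_sub, toV_lsmul_eq hy hr, hyH, qrefl_eq]

/-- the certificate for one entry of the table of the `j`-th reflection -/
def entryOK (j k k' ui : ℕ) : Bool :=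
  decide (V3.reflM (cvec j) (cvec k) = V3.lsmul (U.getD ui Q8.zero) (cvec k')) && decide (ui < 120)

theorem getD_mem_U {ui : ℕ} (h : ui < 120) : U.getD ui Q8.zero ∈ U := by
  have hl : ui < U.length := by rw [U_length]; exact h
  rw [List.getD_eq_getElem _ _ hl]
  exact List.getElem_mem hl

theorem pj_eq_of_entryOK (hB : BlockB) (j k k' : Fin 315) (ui : ℕ)
    (h : entryOK j k k' ui = true) : pj (lineData hB) j k = k' := by
  unfold entryOK at h
  simp only [Bool.and_eq_true, decide_eq_true_eq] at h
  obtain ⟨h1, h2⟩ := h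
  have hu := getD_mem_U h2
  have huI := U_inI _ hu
  unfold pj
  rw [alpha_reflJ_eq_iff]
  refine ⟨(U.getD ui Q8.zero).toH, Q8.toH_mem_icosians huI, ?_⟩
  show qrefl (rep j) (rep k) = lsm _ (rep k')
  unfold rep
  rw [← toV_reflM (C_isMin _ (cvec_mem j)) (rep_mem_min k).1, h1,
    toV_lsmul_eq huI (C_isMin _ (cvec_mem k'))]

/-- the certificate for the whole table (packed, `w` bits per entry), with the list of the unit indices -/
def tableOK (w j t : ℕ) (us : List ℕ) : Bool :=
  (List.range 315).all fun k => entryOK j k (look w t k) (us.getD k 0) && decide (look w t k < 315)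

theorem pj_apply_of_tableOK (hB : BlockB) (w : ℕ) (j : Fin 315) (t : ℕ) (us : List ℕ)
    (h : tableOK w j t us = true) (k : Fin 315) : (pj (lineData hB) j k).val = look w t k.val := by
  unfold tableOK at h
  rw [List.all_eq_true] at h
  have := h k (List.mem_range.mpr k.2)
  simp only [Bool.and_eq_true, decide_eq_true_eq] at this
  obtain ⟨h1, h2⟩ := this
  have := pj_eq_of_entryOK hB j k ⟨look w t k, h2⟩ _ h1
  rw [this]

/-- the line permutation of the `j`-th reflection in helper28's packed format -/
theorem pj_eq_permOf (hB : BlockB) (w : ℕ) (j : Fin 315) (t : ℕ) (us : List ℕ)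
    (h : tableOK w j t us = true) (hp : pairOK 315 w t t = true) :
    pj (lineData hB) j = permOf 315 w t t := by
  ext k
  rw [pj_apply_of_tableOK hB w j t us h k, permOf_apply hp]

/-! ## several generators and the BSGS certificate -/

/-- generator data: (line index, packed table, unit indices) -/
abbrev GenData := List (ℕ × ℕ × List ℕ)

/-- the generator list in helper28's format -/
def gensOf (data : GenData) : List (ℕ × ℕ) := data.map fun d => (d.2.1, d.2.1)

/-- all tables are certified -/
def dataOK (w : ℕ) (data : GenData) : Bool :=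
  data.all fun d => decide (d.1 < 315) && tableOK w d.1 d.2.1 d.2.2 && pairOK 315 w d.2.1 d.2.1

/-- the set of generator lines -/
def lineSet (data : GenData) : Set (Fin 315) := {j | ∃ d ∈ data, d.1 = j.val}

theorem dataOK_spec {w : ℕ} {data : GenData} (h : dataOK w data = true) {d : ℕ × ℕ × List ℕ} (hd : d ∈ data) :
    ∃ hlt : d.1 < 315, ∀ hB : BlockB, pj (lineData hB) ⟨d.1, hlt⟩ = permOf 315 w d.2.1 d.2.1 := by
  unfold dataOK at h
  rw [List.all_eq_true] at h
  have := h d hd
  simp only [Bool.and_eq_true, decide_eq_true_eq] at this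
  obtain ⟨⟨h1, h2⟩, h3⟩ := this
  exact ⟨h1, fun hB => pj_eq_permOf hB w ⟨d.1, h1⟩ d.2.1 d.2.2 h2 h3⟩

theorem gensOK_gensOf {w : ℕ} {data : GenData} (h : dataOK w data = true) : gensOK 315 w (gensOf data) = true := by
  unfold gensOK gensOf
  rw [List.all_eq_true]
  intro g hg
  obtain ⟨d, hd, rfl⟩ := List.mem_map.mp hg
  unfold dataOK at h
  rw [List.all_eq_true] at h
  have := h d hd
  simp only [Bool.and_eq_true, decide_eq_true_eq] at this
  exact this.2

/-- the group generated by the certified reflections, in helper28's format -/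
theorem GS_eq_genGroup (hB : BlockB) {w : ℕ} {data : GenData} (h : dataOK w data = true) :
    GS (lineData hB) (lineSet data) = genGroup 315 w (gensOf data) := by
  unfold GS genGroup
  congr 1
  ext s
  constructor
  · rintro ⟨j, ⟨d, hd, hdj⟩, rfl⟩
    obtain ⟨hlt, hp⟩ := dataOK_spec h hd
    have hj : j = ⟨d.1, hlt⟩ := Fin.ext hdj.symm
    show _ ∈ semGens 315 w (gensOf data)
    unfold semGens gensOf
    rw [List.map_map]
    exact List.mem_map.mpr ⟨d, hd, by rw [hj, hp hB]; rfl⟩
  · intro hs
    have hs' : s ∈ semGens 315 w (gensOf data) := hs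
    unfold semGens gensOf at hs'
    rw [List.map_map] at hs'
    obtain ⟨d, hd, rfl⟩ := List.mem_map.mp hs'
    obtain ⟨hlt, hp⟩ := dataOK_spec h hd
    exact ⟨⟨d.1, hlt⟩, ⟨d, hd, rfl⟩, by rw [hp hB]; rfl⟩

/-- the first transversal covers all points -/
def coverOK (lv : CLevel) : Bool := (List.range 315).all fun k => lv.2.any fun e => e.1 == k

/-- transitivity of the generated group from the first level of the chain -/
theorem transitive_of_chain {w : ℕ} {gens : List (ℕ × ℕ)} {lv : CLevel} {rest : List CLevel}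
    (hg : gensOK 315 w gens = true) (hc : checkChain 315 w gens (lv :: rest) = true) (hcov : coverOK lv = true)
    (j j' : Fin 315) : ∃ x ∈ genGroup 315 w gens, x j = j' := by
  have hr := perm_reach 315 w gens lv rest hg hc
  have key : ∀ k : Fin 315, ∃ g ∈ genGroup 315 w gens, g (pt 315 lv.1) = k := by
    intro k
    unfold coverOK at hcov
    rw [List.all_eq_true] at hcov
    have := hcov k (List.mem_range.mpr k.2)
    rw [List.any_eq_true] at this
    obtain ⟨e, he, hek⟩ := this
    obtain ⟨g, hg', hgb⟩ := hr e he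
    refine ⟨g, hg', ?_⟩
    rw [hgb, beq_iff_eq.mp hek, pt_of_val]
  obtain ⟨x, hx, hxj⟩ := key j
  obtain ⟨y, hy, hyj⟩ := key j'
  refine ⟨y * x⁻¹, (genGroup 315 w gens).mul_mem hy ((genGroup 315 w gens).inv_mem hx), ?_⟩
  rw [Equiv.Perm.mul_apply, ← hxj, perm_inv_apply]
  exact hyj

/-- all inputs of the group side: the certified generator tables and a BSGS certificate of order `604800` -/
structure GroupSide (w : ℕ) (data : GenData) (levels : List CLevel) : Prop where
  data_ok : dataOK w data = true
  chain_ok : checkChain 315 w (gensOf data) levels = true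
  size : codeSize levels = 604800
  cover : ∀ lv ∈ levels.head?, coverOK lv = true
  data_ne : data ≠ []

section final
variable (hB : BlockB) {w : ℕ} {data : GenData} {levels : List CLevel} (hG : GroupSide w data levels)
include hG

theorem levels_ne : levels ≠ [] := by
  intro h
  have := hG.size
  rw [h] at this
  simp [codeSize] at this

theorem card_GS : Nat.card (GS (lineData hB) (lineSet data)) = 604800 := by
  rw [GS_eq_genGroup hB hG.data_ok, (perm_main 315 w _ levels (gensOK_gensOf hG.data_ok) hG.chain_ok).1, hG.size]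

theorem transitive_GS (j j' : Fin 315) : ∃ x ∈ GS (lineData hB) (lineSet data), x j = j' := by
  rw [GS_eq_genGroup hB hG.data_ok]
  obtain ⟨lv, rest, hl⟩ := List.exists_cons_of_ne_nil (levels_ne hG)
  have hc := hG.chain_ok
  have hcov := hG.cover lv (by rw [hl]; rfl)
  rw [hl] at hc
  exact transitive_of_chain (gensOK_gensOf hG.data_ok) hc hcov j j'

theorem exists_line : ∃ j0 : Fin 315, j0 ∈ lineSet data := by
  obtain ⟨d, tl, hd⟩ := List.exists_cons_of_ne_nil hG.data_ne
  have hmem : d ∈ data := by rw [hd]; exact List.mem_cons_self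
  obtain ⟨hlt, _⟩ := dataOK_spec hG.data_ok hmem
  exact ⟨⟨d.1, hlt⟩, d, hmem, rfl⟩

/-- the image of `twoJ2` on the lines is the certified group -/
theorem range_alpha_eq_genGroup : (alpha (lineData hB)).range = genGroup 315 w (gensOf data) := by
  obtain ⟨j0, hj0⟩ := exists_line hG
  rw [range_alpha_eq_GS (lineData hB) (lineSet data) j0 hj0 (fun j' => transitive_GS hB hG j0 j'),
    GS_eq_genGroup hB hG.data_ok]

theorem card_range_alpha : Nat.card (alpha (lineData hB)).range = 604800 := by
  rw [range_alpha_eq_genGroup hB hG, (perm_main 315 w _ levels (gensOK_gensOf hG.data_ok) hG.chain_ok).1, hG.size]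

include hB in
/-- **S1619** from Block B and the group side -/
theorem S1619_of_sides :
    Nat.card twoJ2 = 1209600 ∧ Nat.card (Subgroup.center twoJ2) = 2 ∧
      (∃ z ∈ Subgroup.center twoJ2, ∀ x : icoLeech,
        (((z : Equiv.Perm icoLeech) x : icoLeech) : Fin 3 → ℍ[ℝ]) = -(x : Fin 3 → ℍ[ℝ])) ∧
      Nat.card J2 = 604800 := by
  obtain ⟨j0, hj0⟩ := exists_line hG
  exact S1619_of_GS (lineData hB) (lineSet data) j0 hj0 (fun j' => transitive_GS hB hG j0 j') (card_GS hB hG)

include hB in
/-- **S1622** from Block B and the group side -/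
theorem S1622_of_sides (f f' : Equiv.Perm icoLeech) (hf : IsIcoReflection f) (hf' : IsIcoReflection f') :
    ∃ g ∈ twoJ2, g * f * g⁻¹ = f' := by
  obtain ⟨j0, hj0⟩ := exists_line hG
  exact S1622_of_GS (lineData hB) (lineSet data) j0 (fun j' => transitive_GS hB hG j0 j') f f' hf hf'

/-- `J₂` as the certified permutation group of degree `315` -/
noncomputable def J2EquivGenGroup : J2 ≃* genGroup 315 w (gensOf data) :=
  (J2EquivRange (lineData hB)).trans (MulEquiv.subgroupCongr (range_alpha_eq_genGroup hB hG))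

end final

end Cfsg.Agent.Lib.Helper16.IcoEval
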