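import Mathlib
import Cfsg.Agent.Lib.Helper16.IcoEval

/-!
# Assembly glue for the icosian `J₂`: strong generators as words in a few reflections  (helper16)

Generic in the data: `gens` is a strong generating set in helper28's packed format whose first `gidx.length` members are
the line permutations of the reflections in the lines `gidx`; the remaining ones are words in the first ones.
-/

set_option autoImplicit false
set_option linter.unusedVariables false
set_option linter.unusedSectionVars false

namespace Cfsg.Agent.Lib.Helper16.IcoAsm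

open Cfsg.Spor Quaternion Cfsg.Agent.Lib.Helper11.Ico Cfsg.Agent.Lib.Helper16.IcoLin
  Cfsg.Agent.Lib.Helper16.IcoNeg Cfsg.Agent.Lib.Helper16.IcoKer Cfsg.Agent.Lib.Helper16.IcoLines
  Cfsg.Agent.Lib.Helper16.IcoUnits Cfsg.Agent.Lib.Helper16.IcoBridge Cfsg.Agent.Lib.Helper16.IcoGen
  Cfsg.Agent.Lib.Helper16.IcoEval Cfsg.Agent.Lib.Helper28.BSGS

section words

variable {n : ℕ} [NeZero n] {w : ℕ}

/-- the table of the `k`-th generator -/
def gtab (gens : List (ℕ × ℕ)) (k : ℕ) : ℕ := (gens.getD k (0, 0)).1

/-- the permutation of the `k`-th generator -/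
def gperm (n w : ℕ) (gens : List (ℕ × ℕ)) (k : ℕ) : Equiv.Perm (Fin n) :=
  permOf n w (gens.getD k (0, 0)).1 (gens.getD k (0, 0)).2

theorem getD_mem {gens : List (ℕ × ℕ)} {k : ℕ} (hk : k < gens.length) : gens.getD k (0, 0) ∈ gens := by
  rw [List.getD_eq_getElem _ _ hk]
  exact List.getElem_mem hk

theorem gperm_mem_semGens {gens : List (ℕ × ℕ)} {k : ℕ} (hk : k < gens.length) :
    gperm n w gens k ∈ semGens n w gens := by
  unfold semGens gperm
  exact List.mem_map.mpr ⟨_, getD_mem hk, rfl⟩

theorem gperm_mem {gens : List (ℕ × ℕ)} {k : ℕ} (hk : k < gens.length) : gperm n w gens k ∈ genGroup n w gens :=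
  Subgroup.subset_closure (gperm_mem_semGens hk)

theorem exists_gperm_of_mem {gens : List (ℕ × ℕ)} {s : Equiv.Perm (Fin n)} (hs : s ∈ semGens n w gens) :
    ∃ k, k < gens.length ∧ s = gperm n w gens k := by
  unfold semGens at hs
  obtain ⟨g, hg, rfl⟩ := List.mem_map.mp hs
  obtain ⟨k, hk, rfl⟩ := List.getElem_of_mem hg
  refine ⟨k, hk, ?_⟩
  unfold gperm
  rw [List.getD_eq_getElem _ _ hk]

theorem gperm_apply {gens : List (ℕ × ℕ)} (hg : gensOK n w gens = true) {k : ℕ} (hk : k < gens.length) (a : Fin n) :
    (gperm n w gens k a).val = look w (gtab gens k) a.val :=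
  permOf_apply (gensOK_spec n w hg _ (getD_mem hk)) a

/-- a product of generators acts through the word of its tables -/
theorem actsByW_word {gens : List (ℕ × ℕ)} (hg : gensOK n w gens = true) :
    ∀ (ws : List ℕ), (∀ i ∈ ws, i < gens.length) →
      ActsByW n w ((ws.map (gperm n w gens)).prod) (ws.map (gtab gens))
  | [], _ => by simpa using actsByW_one n w
  | i :: ws, h => by
    rw [List.map_cons, List.prod_cons, List.map_cons]
    exact actsByW_cons (gperm_apply hg (h i List.mem_cons_self))
      (actsByW_word hg ws fun j hj => h j (List.mem_cons_of_mem _ hj))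

theorem gperm_eq_word {gens : List (ℕ × ℕ)} (hg : gensOK n w gens = true) {k : ℕ} (hk : k < gens.length)
    (ws : List ℕ) (hws : ∀ i ∈ ws, i < gens.length)
    (he : wordEq n w [gtab gens k] (ws.map (gtab gens)) = true) :
    gperm n w gens k = (ws.map (gperm n w gens)).prod :=
  eq_of_wordEq n w (actsByW_single (gperm_apply hg hk)) (actsByW_word hg ws hws) he

/-- if the first `m` generators lie in `K` and the others are words in them, the whole group lies in `K` -/
theorem genGroup_le_of_words {gens : List (ℕ × ℕ)} (hg : gensOK n w gens = true) (K : Subgroup (Equiv.Perm (Fin n)))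
    (m : ℕ) (hm : ∀ k, k < m → k < gens.length → gperm n w gens k ∈ K)
    (hw : ∀ k, m ≤ k → k < gens.length → ∃ ws : List ℕ, (∀ i ∈ ws, i < m ∧ i < gens.length) ∧
      wordEq n w [gtab gens k] (ws.map (gtab gens)) = true) :
    genGroup n w gens ≤ K := by
  unfold genGroup
  rw [Subgroup.closure_le]
  intro s hs
  obtain ⟨k, hk, rfl⟩ := exists_gperm_of_mem hs
  by_cases hkm : k < m
  · exact hm k hkm hk
  · obtain ⟨ws, hws, he⟩ := hw k (Nat.le_of_not_lt hkm) hk
    rw [gperm_eq_word hg hk ws (fun i hi => (hws i hi).2) he]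
    apply Subgroup.list_prod_mem
    intro x hx
    obtain ⟨i, hi, rfl⟩ := List.mem_map.mp hx
    exact hm i (hws i hi).1 (hws i hi).2

end words

/-! ## the icosian assembly -/

/-- the set of generator lines -/
def idxSet (gidx : List ℕ) : Set (Fin 315) := {j | j.val ∈ gidx}

/-- the permutation-group side: a strong generating set with a certified chain of order `604800`, the first
`gidx.length` generators being the distinguished ones, the others words in them -/
structure PermSide (w : ℕ) (m : ℕ) (gens : List (ℕ × ℕ)) (levels : List CLevel) : Prop where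
  gens_ok : gensOK 315 w gens = true
  chain_ok : checkChain 315 w gens levels = true
  size : codeSize levels = 604800
  cover : ∀ lv ∈ levels.head?, coverOK lv = true
  m_pos : 0 < m
  m_le : m ≤ gens.length
  words : ∀ k, m ≤ k → k < gens.length → ∃ ws : List ℕ, (∀ i ∈ ws, i < m ∧ i < gens.length) ∧
    wordEq 315 w [gtab gens k] (ws.map (gtab gens)) = true

/-- the link between the two sides: the `g`-th generator is the line permutation of the reflection in the line
`gidx[g]` -/
def Linked (hB : BlockB) (w : ℕ) (gidx : List ℕ) (gens : List (ℕ × ℕ)) : Prop :=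
  ∀ g, g < gidx.length → ∃ h : gidx.getD g 0 < 315, pj (lineData hB) ⟨gidx.getD g 0, h⟩ = gperm 315 w gens g

section perm

variable {w m : ℕ} {gens : List (ℕ × ℕ)} {levels : List CLevel} (hP : PermSide w m gens levels)
include hP

theorem levels_ne' : levels ≠ [] := by
  intro h
  have := hP.size
  rw [h] at this
  simp [codeSize] at this

theorem transitive_genGroup (j j' : Fin 315) : ∃ x ∈ genGroup 315 w gens, x j = j' := by
  obtain ⟨lv, rest, hl⟩ := List.exists_cons_of_ne_nil (levels_ne' hP)
  have hc := hP.chain_ok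
  have hcov := hP.cover lv (by rw [hl]; rfl)
  rw [hl] at hc
  exact transitive_of_chain hP.gens_ok hc hcov j j'

theorem card_genGroup : Nat.card (genGroup 315 w gens) = 604800 := by
  rw [(perm_main 315 w gens levels hP.gens_ok hP.chain_ok).1, hP.size]

end perm

section final

variable (hB : BlockB) {w : ℕ} {gidx : List ℕ} {gens : List (ℕ × ℕ)} {levels : List CLevel}
  (hP : PermSide w gidx.length gens levels) (hL : Linked hB w gidx gens)
include hP hL

theorem GS_eq_genGroup' : GS (lineData hB) (idxSet gidx) = genGroup 315 w gens := by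
  apply le_antisymm
  · unfold GS
    rw [Subgroup.closure_le]
    rintro _ ⟨j, hj, rfl⟩
    obtain ⟨g, hg, hgj⟩ := List.getElem_of_mem hj
    obtain ⟨h, hp⟩ := hL g hg
    have hjj : j = ⟨gidx.getD g 0, h⟩ := by
      apply Fin.ext
      show j.val = gidx.getD g 0
      rw [List.getD_eq_getElem _ _ hg, hgj]
    rw [hjj, hp]
    exact gperm_mem (lt_of_lt_of_le hg hP.m_le)
  · apply genGroup_le_of_words hP.gens_ok _ gidx.length _ hP.words
    intro k hk _
    obtain ⟨h, hp⟩ := hL k hk
    rw [← hp]
    refine Subgroup.subset_closure ⟨_, ?_, rfl⟩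
    show gidx.getD k 0 ∈ gidx
    rw [List.getD_eq_getElem _ _ hk]
    exact List.getElem_mem hk

theorem exists_idx : ∃ j0 : Fin 315, j0 ∈ idxSet gidx := by
  obtain ⟨h, _⟩ := hL 0 hP.m_pos
  refine ⟨⟨gidx.getD 0 0, h⟩, ?_⟩
  show gidx.getD 0 0 ∈ gidx
  rw [List.getD_eq_getElem _ _ hP.m_pos]
  exact List.getElem_mem hP.m_pos

/-- **A2**: the image of `twoJ2` on the lines is the certified group -/
theorem range_alpha_eq : (alpha (lineData hB)).range = genGroup 315 w gens := by
  obtain ⟨j0, hj0⟩ := exists_idx hB hP hL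
  rw [range_alpha_eq_GS (lineData hB) (idxSet gidx) j0 hj0, GS_eq_genGroup' hB hP hL]
  intro j'
  rw [GS_eq_genGroup' hB hP hL]
  exact transitive_genGroup hP j0 j'

/-- **A3** -/
theorem card_range : Nat.card (alpha (lineData hB)).range = 604800 := by
  rw [range_alpha_eq hB hP hL, card_genGroup hP]

/-- `J₂` as the certified permutation group of degree `315` -/
noncomputable def J2Equiv : J2 ≃* genGroup 315 w gens :=
  (J2EquivRange (lineData hB)).trans (MulEquiv.subgroupCongr (range_alpha_eq hB hP hL))

/-- **S1619** -/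
theorem S1619_of :
    Nat.card twoJ2 = 1209600 ∧ Nat.card (Subgroup.center twoJ2) = 2 ∧
      (∃ z ∈ Subgroup.center twoJ2, ∀ x : icoLeech,
        (((z : Equiv.Perm icoLeech) x : icoLeech) : Fin 3 → ℍ[ℝ]) = -(x : Fin 3 → ℍ[ℝ])) ∧
      Nat.card J2 = 604800 := by
  apply S1619_of_card
  rw [card_twoJ2_eq (lineData hB), card_range hB hP hL]

/-- **S1622** -/
theorem S1622_of (f f' : Equiv.Perm icoLeech) (hf : IsIcoReflection f) (hf' : IsIcoReflection f') :
    ∃ g ∈ twoJ2, g * f * g⁻¹ = f' := by
  apply conj_of_transitive (lineData hB) _ f f' hf hf'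
  intro j j'
  obtain ⟨x, hx, hxj⟩ := transitive_genGroup hP j j'
  rw [← range_alpha_eq hB hP hL] at hx
  obtain ⟨g, rfl⟩ := hx
  exact ⟨g, hxj⟩

/-- simplicity and non-commutativity of `J₂` from those of the certified group -/
theorem S1620_of (hs : IsSimpleGroup (genGroup 315 w gens))
    (hnc : ∃ a b : genGroup 315 w gens, a * b ≠ b * a) :
    IsSimpleGroup J2 ∧ ∃ a b : J2, a * b ≠ b * a := by
  have e := J2Equiv hB hP hL
  refine ⟨@MulEquiv.isSimpleGroup _ _ _ _ hs e, ?_⟩
  obtain ⟨a, b, hab⟩ := hnc
  refine ⟨e.symm a, e.symm b, fun h => hab ?_⟩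
  have := congrArg e h
  simpa using this

end final

end Cfsg.Agent.Lib.Helper16.IcoAsm
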