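import Mathlib
import Cfsg.Prelude.Def_Classical
import Cfsg.Agent.Lib.Helper16.FieldEmbed

set_option autoImplicit false
set_option linter.style.haveILetI false

namespace Cfsg.Agent.Lib.Helper16

open Module Matrix Polynomial

/-- The two roots in a quadratic extension of an anisotropic binary form over a finite field. -/
theorem exists_roots_of_anisotropic {F K : Type*} [Field F] [Finite F] [Field K] [Finite K]
    [Algebra F K] (h2 : finrank F K = 2) (a c : F)
    (hac : ∀ z₁ z₂ : F, z₁ ^ 2 + a * z₁ * z₂ + c * z₂ ^ 2 = 0 → z₁ = 0 ∧ z₂ = 0) :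
    ∃ β β' : K, β + β' = algebraMap F K a ∧ β * β' = algebraMap F K c ∧ β ≠ β' := by
  classical
  -- the polynomial t^2 - a t + c
  set f : F[X] := X ^ 2 - C a * X + C c with hf
  have hfdeg : f.natDegree = 2 := by
    rw [hf]
    compute_degree!
  have hfmonic : f.Monic := by
    rw [hf]
    monicity!
  have hnoroot : ∀ x : F, ¬ IsRoot f x := by
    intro x hx
    have h1 : x ^ 2 - a * x + c = 0 := by
      simpa [hf, IsRoot.def] using hx
    have h3 := hac (-x) 1 (by linear_combination h1)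
    exact one_ne_zero h3.2
  have hirr : Irreducible f := by
    apply irreducible_of_degree_le_three_of_not_isRoot
    · rw [hfdeg]; decide
    · exact hnoroot
  haveI : Fact (Irreducible f) := ⟨hirr⟩
  have hfr : finrank F (AdjoinRoot f) = 2 := by
    rw [(AdjoinRoot.powerBasis hirr.ne_zero).finrank]
    exact hfdeg
  obtain ⟨ψ⟩ := FiniteField.nonempty_algHom_of_finrank_dvd (F := F) (K := AdjoinRoot f) (L := K)
    (by rw [hfr, h2])
  let β : K := ψ (AdjoinRoot.root f)
  have hβ : β ^ 2 - algebraMap F K a * β + algebraMap F K c = 0 := by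
    have h1 : aeval β f = 0 := by
      change aeval (ψ (AdjoinRoot.root f)) f = 0
      rw [aeval_algHom_apply, AdjoinRoot.aeval_eq, AdjoinRoot.mk_self, map_zero]
    simpa [hf] using h1
  refine ⟨β, algebraMap F K a - β, by ring, by linear_combination -hβ, ?_⟩
  intro heq
  -- β = a - β: then a = 2β, c = β^2
  have ha : algebraMap F K a = 2 * β := by linear_combination (-1 : K) * heq
  have hc : algebraMap F K c = β ^ 2 := by
    rw [ha] at hβ
    linear_combination hβ
  have hdisc : a ^ 2 = 4 * c := by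
    apply (algebraMap F K).injective
    rw [map_pow, map_mul, ha, hc]
    simp only [map_ofNat]
    ring
  by_cases h20 : (2 : F) = 0
  · -- characteristic two: a = 0, c is a square
    have ha0 : a = 0 := by
      have h4 : (4 : F) = 0 := by
        have : (4 : F) = 2 * 2 := by norm_num
        rw [this, h20, mul_zero]
      rw [h4, zero_mul] at hdisc
      exact pow_eq_zero_iff (by norm_num) |>.1 hdisc
    haveI : CharP F 2 := by
      apply CharTwo.of_one_ne_zero_of_two_eq_zero one_ne_zero h20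
    obtain ⟨d, hd⟩ : ∃ d : F, d ^ 2 = c := by
      have hsurj : Function.Surjective (frobenius F 2) := by
        apply Finite.surjective_of_injective
        exact frobenius_inj F 2
      obtain ⟨d, hd⟩ := hsurj c
      exact ⟨d, hd⟩
    have h3 := hac d 1 (by
      rw [ha0, hd]
      have : c + c = 0 := by rw [← two_mul, h20, zero_mul]
      linear_combination this)
    exact one_ne_zero h3.2
  · have h3 := hac (-a) 2 (by linear_combination (-1 : F) * hdisc)
    exact h20 h3.2

/-- A group acting faithfully and linearly, preserving the pull-back of `Q'` along a linear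
equivalence with a coordinate space, embeds in the isometry group of `Q'`. -/
theorem exists_hom_to_isometryGroup {K W : Type*} [Field K] [AddCommGroup W] [Module K W]
    {ι' : Type} [Fintype ι'] [DecidableEq ι'] {G : Type*} [Group G]
    (ρ : G →* Module.End K W) (hρ : Function.Injective ρ) (Ψ : W ≃ₗ[K] (ι' → K))
    (Q' : (ι' → K) → K) (hpres : ∀ g w, Q' (Ψ (ρ g w)) = Q' (Ψ w)) :
    ∃ φ : G →* ↥(Cfsg.isometryGroup K Q'), Function.Injective φ := by
  classical
  let f : G →* Matrix ι' ι' K :=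
    { toFun := fun g => LinearMap.toMatrix' (Ψ.toLinearMap ∘ₗ ρ g ∘ₗ Ψ.symm.toLinearMap)
      map_one' := by
        rw [map_one]
        have : Ψ.toLinearMap ∘ₗ (1 : Module.End K W) ∘ₗ Ψ.symm.toLinearMap = LinearMap.id := by
          refine LinearMap.ext fun x => ?_
          simp
        rw [this, LinearMap.toMatrix'_id]
      map_mul' := by
        intro g h
        rw [map_mul, ← LinearMap.toMatrix'_comp]
        congr 1
        refine LinearMap.ext fun x => ?_
        simp }
  have hf : ∀ g x, (f g) *ᵥ x = Ψ (ρ g (Ψ.symm x)) := by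
    intro g x
    change LinearMap.toMatrix' _ *ᵥ x = _
    rw [LinearMap.toMatrix'_mulVec]
    rfl
  have hmem : ∀ g, f.toHomUnits g ∈ Cfsg.isometryGroup K Q' := by
    intro g u v
    change Q' ((f g) *ᵥ u) = Q' u
    rw [hf, hpres, LinearEquiv.apply_symm_apply]
  refine ⟨MonoidHom.codRestrict f.toHomUnits _ hmem, ?_⟩
  intro g h hgh
  apply hρ
  have h1 : f g = f h := by
    have h0 := congrArg (fun x : ↥(Cfsg.isometryGroup K Q') =>
      ((x : GL ι' K) : Matrix ι' ι' K)) hgh
    exact h0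
  refine LinearMap.ext fun v => ?_
  have h2 := congrArg (fun A => Ψ.symm (A *ᵥ (Ψ v))) h1
  simp only [hf, LinearEquiv.symm_apply_apply] at h2
  exact h2

section
variable {F K : Type*} [Field F] [Field K]

theorem quadFormMinus_map (ι : F →+* K) (k : ℕ) (a c : F)
    (v : (Fin k ⊕ Fin k) ⊕ Fin 2 → F) :
    Cfsg.quadFormMinus k K (ι a) (ι c) (fun i => ι (v i)) = ι (Cfsg.quadFormMinus k F a c v) := by
  unfold Cfsg.quadFormMinus
  simp only [map_add, map_sum, map_mul, map_pow]

theorem quadFormMinus_add_smul (k : ℕ) (a c : K) (x y : (Fin k ⊕ Fin k) ⊕ Fin 2 → K) (t : K) :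
    Cfsg.quadFormMinus k K a c (x + t • y) = Cfsg.quadFormMinus k K a c x
      + t * (Cfsg.quadFormMinus k K a c (x + y) - Cfsg.quadFormMinus k K a c x
          - Cfsg.quadFormMinus k K a c y)
      + t ^ 2 * Cfsg.quadFormMinus k K a c y := by
  unfold Cfsg.quadFormMinus
  simp only [Pi.add_apply, Pi.smul_apply, smul_eq_mul]
  have h1 : ∀ (f g : Fin k → K), ∑ i, f i - ∑ i, g i = ∑ i, (f i - g i) := by
    intro f g; rw [Finset.sum_sub_distrib]
  have hsum : ∑ i : Fin k, (x (Sum.inl (Sum.inl i)) + t * y (Sum.inl (Sum.inl i))) *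
        (x (Sum.inl (Sum.inr i)) + t * y (Sum.inl (Sum.inr i)))
      = ∑ i : Fin k, x (Sum.inl (Sum.inl i)) * x (Sum.inl (Sum.inr i))
        + t * (∑ i : Fin k, (x (Sum.inl (Sum.inl i)) + y (Sum.inl (Sum.inl i))) *
            (x (Sum.inl (Sum.inr i)) + y (Sum.inl (Sum.inr i)))
          - ∑ i : Fin k, x (Sum.inl (Sum.inl i)) * x (Sum.inl (Sum.inr i))
          - ∑ i : Fin k, y (Sum.inl (Sum.inl i)) * y (Sum.inl (Sum.inr i)))
        + t ^ 2 * ∑ i : Fin k, y (Sum.inl (Sum.inl i)) * y (Sum.inl (Sum.inr i)) := by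
    rw [h1, h1, Finset.mul_sum, Finset.mul_sum, ← Finset.sum_add_distrib, ← Finset.sum_add_distrib]
    apply Finset.sum_congr rfl
    intro i _
    ring
  rw [hsum]
  ring

/-- Isometries of the elliptic form stay isometries after extending scalars. -/
theorem quadFormMinus_extend (ι : F →+* K) (β : K)
    (hspan : ∀ z : K, ∃ x y : F, z = ι x + β * ι y) (k : ℕ) (a c : F)
    (g : Matrix ((Fin k ⊕ Fin k) ⊕ Fin 2) ((Fin k ⊕ Fin k) ⊕ Fin 2) F)
    (hg : ∀ v, Cfsg.quadFormMinus k F a c (g *ᵥ v) = Cfsg.quadFormMinus k F a c v)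
    (w : (Fin k ⊕ Fin k) ⊕ Fin 2 → K) :
    Cfsg.quadFormMinus k K (ι a) (ι c) ((g.map ι) *ᵥ w) = Cfsg.quadFormMinus k K (ι a) (ι c) w := by
  choose x y hxy using hspan
  have hw : w = (fun i => ι (x (w i))) + β • (fun i => ι (y (w i))) := by
    funext i
    simp only [Pi.add_apply, Pi.smul_apply, smul_eq_mul]
    exact hxy (w i)
  have hmap : ∀ v : (Fin k ⊕ Fin k) ⊕ Fin 2 → F,
      (g.map ι) *ᵥ (fun i => ι (v i)) = fun i => ι ((g *ᵥ v) i) := by
    intro v
    funext i
    simp only [Matrix.mulVec, dotProduct, Matrix.map_apply, map_sum, map_mul]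
  rw [hw, Matrix.mulVec_add, Matrix.mulVec_smul, hmap, hmap, quadFormMinus_add_smul,
    quadFormMinus_add_smul]
  have hadd : ∀ u v : (Fin k ⊕ Fin k) ⊕ Fin 2 → F,
      ((fun i => ι (u i)) + fun i => ι (v i)) = fun i => ι ((u + v) i) := by
    intro u v
    funext i
    simp
  rw [hadd, hadd, ← Matrix.mulVec_add]
  simp only [quadFormMinus_map, hg]

end

section
variable {K : Type*} [Field K]

/-- The change of coordinates turning the elliptic form (with split binary part) into the
hyperbolic form. -/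
noncomputable def splitMap (k : ℕ) (β β' : K) :
    ((Fin k ⊕ Fin k) ⊕ Fin 2 → K) →ₗ[K] (Fin (k + 1) ⊕ Fin (k + 1) → K) :=
  LinearMap.pi (fun idx =>
    Sum.elim
      (fun j : Fin (k + 1) => Fin.lastCases
        (LinearMap.proj (Sum.inr 0) + β • LinearMap.proj (Sum.inr 1))
        (fun i : Fin k => LinearMap.proj (Sum.inl (Sum.inl i))) j)
      (fun j : Fin (k + 1) => Fin.lastCases
        (LinearMap.proj (Sum.inr 0) + β' • LinearMap.proj (Sum.inr 1))
        (fun i : Fin k => LinearMap.proj (Sum.inl (Sum.inr i))) j) idx)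

theorem splitMap_inl_last (k : ℕ) (β β' : K) (v : (Fin k ⊕ Fin k) ⊕ Fin 2 → K) :
    splitMap k β β' v (Sum.inl (Fin.last k)) = v (Sum.inr 0) + β * v (Sum.inr 1) := by
  simp [splitMap]

theorem splitMap_inr_last (k : ℕ) (β β' : K) (v : (Fin k ⊕ Fin k) ⊕ Fin 2 → K) :
    splitMap k β β' v (Sum.inr (Fin.last k)) = v (Sum.inr 0) + β' * v (Sum.inr 1) := by
  simp [splitMap]

theorem splitMap_inl_castSucc (k : ℕ) (β β' : K) (v : (Fin k ⊕ Fin k) ⊕ Fin 2 → K) (i : Fin k) :
    splitMap k β β' v (Sum.inl i.castSucc) = v (Sum.inl (Sum.inl i)) := by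
  simp [splitMap]

theorem splitMap_inr_castSucc (k : ℕ) (β β' : K) (v : (Fin k ⊕ Fin k) ⊕ Fin 2 → K) (i : Fin k) :
    splitMap k β β' v (Sum.inr i.castSucc) = v (Sum.inl (Sum.inr i)) := by
  simp [splitMap]

theorem quadFormPlus_splitMap (k : ℕ) (β β' : K) (v : (Fin k ⊕ Fin k) ⊕ Fin 2 → K) :
    Cfsg.quadFormPlus (k + 1) K (splitMap k β β' v)
      = Cfsg.quadFormMinus k K (β + β') (β * β') v := by
  unfold Cfsg.quadFormPlus Cfsg.quadFormMinus
  rw [Fin.sum_univ_castSucc]
  simp only [splitMap_inl_castSucc, splitMap_inr_castSucc, splitMap_inl_last, splitMap_inr_last]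
  ring

theorem splitMap_injective (k : ℕ) (β β' : K) (hβ : β ≠ β') :
    Function.Injective (splitMap k β β') := by
  rw [← LinearMap.ker_eq_bot, Submodule.eq_bot_iff]
  intro v hv
  rw [LinearMap.mem_ker] at hv
  have h1 := congrFun hv (Sum.inl (Fin.last k))
  have h2 := congrFun hv (Sum.inr (Fin.last k))
  rw [splitMap_inl_last, Pi.zero_apply] at h1
  rw [splitMap_inr_last, Pi.zero_apply] at h2
  have h3 : (β - β') * v (Sum.inr 1) = 0 := by linear_combination h1 - h2
  have h4 : v (Sum.inr 1) = 0 := (mul_eq_zero.1 h3).resolve_left (sub_ne_zero.2 hβ)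
  have h5 : v (Sum.inr 0) = 0 := by rw [h4] at h1; simpa using h1
  funext idx
  rcases idx with (i | i) | j
  · have := congrFun hv (Sum.inl i.castSucc)
    rwa [splitMap_inl_castSucc] at this
  · have := congrFun hv (Sum.inr i.castSucc)
    rwa [splitMap_inr_castSucc] at this
  · fin_cases j
    · exact h5
    · exact h4

/-- `splitMap` as a linear equivalence. -/
noncomputable def splitEquiv (k : ℕ) (β β' : K) (hβ : β ≠ β') :
    ((Fin k ⊕ Fin k) ⊕ Fin 2 → K) ≃ₗ[K] (Fin (k + 1) ⊕ Fin (k + 1) → K) :=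
  LinearEquiv.ofBijective (splitMap k β β')
    ⟨splitMap_injective k β β' hβ,
      (LinearMap.injective_iff_surjective_of_finrank_eq_finrank (by
        rw [Module.finrank_fintype_fun_eq_card, Module.finrank_fintype_fun_eq_card]
        simp only [Fintype.card_sum, Fintype.card_fin]
        ring)).1 (splitMap_injective k β β' hβ)⟩

theorem splitEquiv_apply (k : ℕ) (β β' : K) (hβ : β ≠ β') (v : (Fin k ⊕ Fin k) ⊕ Fin 2 → K) :
    splitEquiv k β β' hβ v = splitMap k β β' v := rfl

end


/-- `{1, β}` spans a quadratic extension when `β` is not in the base field. -/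
theorem exists_decomp_of_not_mem {F K : Type*} [Field F] [Field K] [Algebra F K]
    (h2 : finrank F K = 2) (β : K) (hβ : β ∉ (algebraMap F K).range) (z : K) :
    ∃ x y : F, z = algebraMap F K x + β * algebraMap F K y := by
  have hli : LinearIndependent F ![(1 : K), β] := by
    rw [LinearIndependent.pair_iff]
    intro s t hst
    by_cases ht : t = 0
    · subst ht
      rw [zero_smul, add_zero, Algebra.smul_def, mul_one] at hst
      exact ⟨(map_eq_zero (algebraMap F K)).1 hst, rfl⟩
    · exfalso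
      apply hβ
      refine ⟨-s / t, ?_⟩
      rw [Algebra.smul_def, Algebra.smul_def, mul_one] at hst
      have ht' : algebraMap F K t ≠ 0 := (_root_.map_ne_zero _).2 ht
      rw [map_div₀, map_neg]
      field_simp
      linear_combination (-1 : K) * hst
  haveI : FiniteDimensional F K := Module.finite_of_finrank_pos (by rw [h2]; norm_num)
  have hspan := hli.span_eq_top_of_card_eq_finrank' (by rw [h2]; rfl)
  have hz : z ∈ Submodule.span F (Set.range ![(1 : K), β]) := by rw [hspan]; trivial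
  rw [Submodule.mem_span_range_iff_exists_fun] at hz
  obtain ⟨cf, hcf⟩ := hz
  refine ⟨cf 0, cf 1, ?_⟩
  rw [← hcf, Fin.sum_univ_two]
  simp only [Matrix.cons_val_zero, Matrix.cons_val_one, Algebra.smul_def, mul_one]
  ring

/-- `O⁻_{2k+2}(q)` embeds in `O⁺_{2k+2}(q²)`. -/
theorem elliptic_to_hyperbolic_embedding {F K : Type*} [Field F] [Fintype F] [Field K] [Fintype K]
    {q : ℕ} (hF : Fintype.card F = q) (hK : Fintype.card K = q ^ 2) (k : ℕ) (a c : F)
    (hac : ∀ z₁ z₂ : F, z₁ ^ 2 + a * z₁ * z₂ + c * z₂ ^ 2 = 0 → z₁ = 0 ∧ z₂ = 0) :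
    ∃ φ : ↥(Cfsg.isometryGroup F (Cfsg.quadFormMinus k F a c)) →*
        ↥(Cfsg.isometryGroup K (Cfsg.quadFormPlus (k + 1) K)), Function.Injective φ := by
  classical
  obtain ⟨ι⟩ := exists_ringHom_of_card_pow (n := 2) (by norm_num) hF hK
  letI : Algebra F K := ι.toAlgebra
  have hι : ∀ x : F, algebraMap F K x = ι x := fun x => rfl
  have h2 : finrank F K = 2 := by
    have h := Module.card_eq_pow_finrank (K := F) (V := K)
    rw [hF, hK] at h
    have hq : 2 ≤ q := by
      rw [← hF]; exact Fintype.one_lt_card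
    exact (Nat.pow_right_injective hq h).symm
  obtain ⟨β, β', hsum, hprod, hne⟩ := exists_roots_of_anisotropic h2 a c hac
  have hβ : β ∉ (algebraMap F K).range := by
    rintro ⟨b₀, hb₀⟩
    have h1 : β' = algebraMap F K (a - b₀) := by
      rw [map_sub, hb₀]; linear_combination hsum
    have h3 : b₀ * (a - b₀) = c := by
      apply (algebraMap F K).injective
      rw [map_mul, hb₀, ← h1, hprod]
    have h4 := hac (-b₀) 1 (by linear_combination (-1 : F) * h3)
    exact one_ne_zero h4.2
  have hspan : ∀ z : K, ∃ x y : F, z = ι x + β * ι y := exists_decomp_of_not_mem h2 β hβ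
  let ρ : ↥(Cfsg.isometryGroup F (Cfsg.quadFormMinus k F a c)) →*
      Module.End K ((Fin k ⊕ Fin k) ⊕ Fin 2 → K) :=
    { toFun := fun g => Matrix.toLin' (ι.mapMatrix ((g : GL ((Fin k ⊕ Fin k) ⊕ Fin 2) F) : Matrix ((Fin k ⊕ Fin k) ⊕ Fin 2) ((Fin k ⊕ Fin k) ⊕ Fin 2) F))
      map_one' := by
        rw [OneMemClass.coe_one, Units.val_one, map_one, Matrix.toLin'_one]
        rfl
      map_mul' := by
        intro g h
        rw [Subgroup.coe_mul, Units.val_mul, map_mul, Matrix.toLin'_mul]
        rfl }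
  have hρ : ∀ g w, ρ g w = (((g : GL ((Fin k ⊕ Fin k) ⊕ Fin 2) F) : Matrix ((Fin k ⊕ Fin k) ⊕ Fin 2) ((Fin k ⊕ Fin k) ⊕ Fin 2) F).map ι) *ᵥ w := fun g w => rfl
  have hρinj : Function.Injective ρ := by
    intro g h hgh
    apply Subtype.ext
    apply Units.ext
    have h1 : (((g : GL ((Fin k ⊕ Fin k) ⊕ Fin 2) F) : Matrix ((Fin k ⊕ Fin k) ⊕ Fin 2) ((Fin k ⊕ Fin k) ⊕ Fin 2) F).map ι) = (((h : GL ((Fin k ⊕ Fin k) ⊕ Fin 2) F) : Matrix ((Fin k ⊕ Fin k) ⊕ Fin 2) ((Fin k ⊕ Fin k) ⊕ Fin 2) F).map ι) := by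
      rw [Matrix.ext_iff_mulVec]
      intro v
      rw [← hρ, ← hρ, hgh]
    ext i j
    have := congrFun (congrFun h1 i) j
    simp only [Matrix.map_apply] at this
    exact ι.injective this
  refine exists_hom_to_isometryGroup ρ hρinj (splitEquiv k β β' hne) _ (fun g w => ?_)
  rw [splitEquiv_apply, splitEquiv_apply, quadFormPlus_splitMap, quadFormPlus_splitMap, hsum,
    hprod, hι, hι, hρ]
  exact quadFormMinus_extend ι β hspan k a c _ (fun v => g.2 v v) w

end Cfsg.Agent.Lib.Helper16
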