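import Mathlib
import Cfsg.Prelude.Def_GeometricClasses
import Cfsg.Agent.Lib.Helper13.OrthNondeg
import Cfsg.Agent.Lib.Helper13.OrthMax
import Cfsg.Agent.Lib.Helper29.S5814AFLD
import Cfsg.Agent.Lib.Helper29.S5814PFLD

/-!
# Even-dimensional orthogonal rows, piece P-FLD (helper16, for helper1): `Ω` normalises no field subalgebra of degree `r ≥ 2`

`not_omega_le_field` : EXACT signature of `notes/OECorSkel_helper1.lean.txt` (every prime `r`, including `r = 2`).

Proof (after helper29's `S5814PFLD`, which handles `r ≠ 2`).  `u, u'` a hyperbolic pair, `w ≠ 0` singular orthogonal to both,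
`w'` singular with `B(u, w') = 0`, `B(w, w') = 1`.  The long root elements `1 + N`, `N x = B(w, x) u - B(u, x) w`, and `1 + N'`
(for `u, w'`) lie in `Ω`; if they normalise `K` they commute with `K` (rank count, `n ≥ 5`), so the ranges of `N`, `N'` are
`K`-invariant; `u = N w' = N' w` lies in both, so `K u ⊆ ⟨u, w⟩ ∩ ⟨u, w'⟩ = ⟨u⟩` and `⟨u⟩` is a `K`-invariant line: `r ∣ 1`.
-/

set_option autoImplicit false
set_option linter.unusedSectionVars false
set_option linter.unusedVariables false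

namespace Cfsg.Agent.Lib.Helper16.OECorPFLD

open Matrix Cfsg Cfsg.Geo Module QuadraticMap
open Cfsg.Agent.Lib.Helper6 Cfsg.Agent.Lib.Helper13 Cfsg.Agent.Lib.Helper13.OND Cfsg.Agent.Lib.Helper29.S5814

section gen

universe u
variable {F : Type u} [Field F] [Fintype F] {ι : Type} [Fintype ι] [DecidableEq ι]
variable (Q : QuadraticForm F (ι → F))

/-- a long root element that normalises the field subalgebra `K` commutes with it (`n ≥ 5`) -/
theorem root_comm (h5 : 5 ≤ Fintype.card ι) (r : ℕ) (K : Subalgebra F (Matrix ι ι F)) (hK : IsFieldSubalgebra r K)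
    (u w : ι → F) (g : GL ι F)
    (hg : ∀ x, (g : Matrix ι ι F) *ᵥ x = x + polar (⇑Q) w x • u - polar (⇑Q) u x • w)
    (hgN : g ∈ subalgebraNormalizer K) :
    ∀ k ∈ K, ((g : Matrix ι ι F) - 1) * k = k * ((g : Matrix ι ι F) - 1) := by
  have hgN' : ∀ k : Matrix ι ι F, k ∈ K ↔
      (g : Matrix ι ι F) * k * ((g⁻¹ : GL ι F) : Matrix ι ι F) ∈ K := hgN
  set G : Matrix ι ι F := (g : Matrix ι ι F) with hG
  set N : Matrix ι ι F := G - 1 with hN
  have hNx : ∀ x, N *ᵥ x = polar (⇑Q) w x • u - polar (⇑Q) u x • w := by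
    intro x
    rw [hN, sub_mulVec, one_mulVec, hg]
    abel
  have hGinv : ((g⁻¹ : GL ι F) : Matrix ι ι F) * G = 1 := by
    rw [hG, ← Units.val_mul, inv_mul_cancel, Units.val_one]
  have hGinv' : G * ((g⁻¹ : GL ι F) : Matrix ι ι F) = 1 := by
    rw [hG, ← Units.val_mul, mul_inv_cancel, Units.val_one]
  have hcomm : ∀ k ∈ K, G * k = k * G := by
    intro k hk
    have hk' := (hgN' k).mp hk
    set d : Matrix ι ι F := G * k * ((g⁻¹ : GL ι F) : Matrix ι ι F) - k with hd
    have hdK : d ∈ K := K.sub_mem hk' hk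
    have hdG : d * G = N * k - k * N := by
      rw [hd, sub_mul, mul_assoc, hGinv, mul_one, hN]
      noncomm_ring
    by_contra hne
    have hd0 : d ≠ 0 := by
      intro h0
      apply hne
      have : d * G = 0 := by rw [h0, zero_mul]
      rw [hdG, hN] at this
      have h1 : (G - 1) * k - k * (G - 1) = G * k - k * G := by noncomm_ring
      rw [h1] at this
      exact sub_eq_zero.mp this
    obtain ⟨y, hyK, hdy⟩ := hK.inv d hdK hd0
    let b : Fin 4 → (ι → F) := ![u, w, k *ᵥ u, k *ᵥ w]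
    have hS : ∀ v : ι → F, v ∈ Submodule.span F (Set.range b) := by
      intro v
      have hv : v = (d * G) *ᵥ (((g⁻¹ : GL ι F) : Matrix ι ι F) *ᵥ (y *ᵥ v)) := by
        rw [mulVec_mulVec, mulVec_mulVec]
        have e : d * G * ((g⁻¹ : GL ι F) : Matrix ι ι F) * y = 1 := by
          calc d * G * ((g⁻¹ : GL ι F) : Matrix ι ι F) * y
              = d * (G * ((g⁻¹ : GL ι F) : Matrix ι ι F)) * y := by noncomm_ring
            _ = 1 := by rw [hGinv', mul_one, hdy]
        rw [e, one_mulVec]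
      rw [hv, hdG, sub_mulVec, ← mulVec_mulVec, ← mulVec_mulVec, hNx, hNx, mulVec_sub, mulVec_smul,
        mulVec_smul]
      have hb0 : u ∈ Submodule.span F (Set.range b) := Submodule.subset_span ⟨0, rfl⟩
      have hb1 : w ∈ Submodule.span F (Set.range b) := Submodule.subset_span ⟨1, rfl⟩
      have hb2 : k *ᵥ u ∈ Submodule.span F (Set.range b) := Submodule.subset_span ⟨2, rfl⟩
      have hb3 : k *ᵥ w ∈ Submodule.span F (Set.range b) := Submodule.subset_span ⟨3, rfl⟩
      exact Submodule.sub_mem _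
        (Submodule.sub_mem _ (Submodule.smul_mem _ _ hb0) (Submodule.smul_mem _ _ hb1))
        (Submodule.sub_mem _ (Submodule.smul_mem _ _ hb2) (Submodule.smul_mem _ _ hb3))
    have htop : Submodule.span F (Set.range b) = ⊤ := by
      rw [eq_top_iff]
      intro v _
      exact hS v
    have h1 : finrank F (Submodule.span F (Set.range b)) ≤ 4 := by
      have := finrank_range_le_card (R := F) b
      rw [Fintype.card_fin] at this
      exact this
    rw [htop, finrank_top, Module.finrank_fintype_fun_eq_card] at h1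
    omega
  intro k hk
  rw [hN, sub_mul, mul_sub, hcomm k hk, one_mul, mul_one]

/-- consequence: `K` maps the range of `N = g - 1` into `⟨u, w⟩` -/
theorem root_range (h5 : 5 ≤ Fintype.card ι) (r : ℕ) (K : Subalgebra F (Matrix ι ι F)) (hK : IsFieldSubalgebra r K)
    (u w : ι → F) (g : GL ι F)
    (hg : ∀ x, (g : Matrix ι ι F) *ᵥ x = x + polar (⇑Q) w x • u - polar (⇑Q) u x • w)
    (hgN : g ∈ subalgebraNormalizer K) (x : ι → F) (k : Matrix ι ι F) (hk : k ∈ K) :
    ∃ a b : F, k *ᵥ (polar (⇑Q) w x • u - polar (⇑Q) u x • w) = a • u + b • w := by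
  have hc := root_comm Q h5 r K hK u w g hg hgN k hk
  have hNx : ∀ x, ((g : Matrix ι ι F) - 1) *ᵥ x = polar (⇑Q) w x • u - polar (⇑Q) u x • w := by
    intro x
    rw [sub_mulVec, one_mulVec, hg]
    abel
  refine ⟨polar (⇑Q) w (k *ᵥ x), -polar (⇑Q) u (k *ᵥ x), ?_⟩
  rw [← hNx x, mulVec_mulVec, ← hc, ← mulVec_mulVec, hNx]
  rw [neg_smul, sub_eq_add_neg]

/-- **P-FLD**, Mathlib vocabulary: `Ω` normalises no field subalgebra of degree `r ≥ 2` -/
theorem not_omega_le_fieldNormalizer_all (hQ : (polarBilin Q).Nondegenerate) (h5 : 5 ≤ Fintype.card ι)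
    (r : ℕ) (hr : 2 ≤ r) (K : Subalgebra F (Matrix ι ι F)) (hK : IsFieldSubalgebra r K) :
    ¬ omegaGL ⇑Q ≤ subalgebraNormalizer K := by
  intro hle
  have : Nonempty ι := by
    rw [← Fintype.card_pos_iff]
    omega
  obtain ⟨u, u', w, hu, hu', huu', hw0, hw, huw, hu'w⟩ := exists_sing_pair Q hQ h5
  have hsymm : ∀ a b : ι → F, polar (⇑Q) a b = polar (⇑Q) b a := fun a b => polar_comm (⇑Q) a b
  -- a vector `y` with `B(w, y) = 1`
  obtain ⟨y₀, hy₀⟩ : ∃ y₀, polar (⇑Q) w y₀ ≠ 0 := by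
    by_contra hcon
    push Not at hcon
    exact hw0 (hQ.1 w (fun y => by rw [polarBilin_apply_apply]; exact hcon y))
  obtain ⟨y, hy⟩ : ∃ y, polar (⇑Q) w y = 1 := by
    refine ⟨(polar (⇑Q) w y₀)⁻¹ • y₀, ?_⟩
    rw [polar_smul_right, smul_eq_mul, inv_mul_cancel₀ hy₀]
  -- orthogonal to `u`
  obtain ⟨y₁, hy₁⟩ : ∃ y₁, y₁ = y - polar (⇑Q) u y • u' := ⟨_, rfl⟩
  have huy₁ : polar (⇑Q) u y₁ = 0 := by
    rw [hy₁, polar_sub_right, polar_smul_right, huu', smul_eq_mul, mul_one, sub_self]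
  have hwy₁ : polar (⇑Q) w y₁ = 1 := by
    rw [hy₁, polar_sub_right, polar_smul_right, hsymm w u', hu'w, smul_zero, sub_zero, hy]
  -- singular
  obtain ⟨w', hw'⟩ : ∃ w', w' = y₁ - Q y₁ • w := ⟨_, rfl⟩
  have huw' : polar (⇑Q) u w' = 0 := by
    rw [hw', polar_sub_right, polar_smul_right, huw, huy₁, smul_zero, sub_zero]
  have hww : polar (⇑Q) w w = 0 := by
    rw [QuadraticMap.polar_self, hw, smul_zero]
  have hww' : polar (⇑Q) w w' = 1 := by
    rw [hw', polar_sub_right, polar_smul_right, hww, smul_zero, sub_zero, hwy₁]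
  have hQw' : Q w' = 0 := by
    have h1 : w' = y₁ + (-(Q y₁)) • w := by rw [hw', neg_smul, sub_eq_add_neg]
    have h2 : Q (y₁ + (-(Q y₁)) • w) = Q y₁ + Q ((-(Q y₁)) • w) + polar (⇑Q) y₁ ((-(Q y₁)) • w) := by
      unfold QuadraticMap.polar
      ring
    rw [h1, h2, QuadraticMap.map_smul, hw, polar_smul_right, hsymm y₁ w, hwy₁]
    simp only [smul_eq_mul, mul_zero, mul_one, add_zero]
    ring
  -- the two root elements
  obtain ⟨g₁, hg₁Ω, hg₁⟩ := exists_root Q hQ h5 u w hu hw huw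
  obtain ⟨g₂, hg₂Ω, hg₂⟩ := exists_root Q hQ h5 u w' hu hQw' huw'
  have hu0 : u ≠ 0 := by
    rintro rfl
    rw [polar_zero_left] at huu'
    exact zero_ne_one huu'
  -- `K u ⊆ ⟨u⟩`
  have hKu : ∀ k ∈ K, k *ᵥ u ∈ Submodule.span F {u} := by
    intro k hk
    obtain ⟨a, b, hab⟩ := root_range Q h5 r K hK u w g₁ hg₁ (hle hg₁Ω) w' k hk
    obtain ⟨a', c, hac⟩ := root_range Q h5 r K hK u w' g₂ hg₂ (hle hg₂Ω) w k hk
    rw [hww', huw', one_smul, zero_smul, sub_zero] at hab
    rw [hsymm w' w, hww', huw, one_smul, zero_smul, sub_zero] at hac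
    -- `a u + b w = a' u + c w'`; apply `B(w, ·)`
    have h1 : polar (⇑Q) w (a • u + b • w) = polar (⇑Q) w (a' • u + c • w') := by rw [← hab, ← hac]
    rw [polar_add_right, polar_add_right, polar_smul_right, polar_smul_right, polar_smul_right, polar_smul_right,
      hsymm w u, huw, hww, hww'] at h1
    simp only [smul_eq_mul, mul_zero, mul_one, add_zero, zero_add] at h1
    rw [hac, ← h1, zero_smul, add_zero]
    exact Submodule.smul_mem _ _ (Submodule.mem_span_singleton_self u)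
  have hinv : ∀ k ∈ K, ∀ v ∈ Submodule.span F {u}, k *ᵥ v ∈ Submodule.span F {u} := by
    intro k hk v hv
    obtain ⟨c, rfl⟩ := Submodule.mem_span_singleton.mp hv
    rw [mulVec_smul]
    exact Submodule.smul_mem _ _ (hKu k hk)
  have hdvd := dvd_finrank_of_invariant r K hK (Submodule.span F {u}) hinv
  rw [finrank_span_singleton hu0] at hdvd
  have := Nat.le_of_dvd one_pos hdvd
  omega

end gen

section frozen

variable {F : Type*} [Field F] [Fintype F] {n : ℕ}

/-- **P-FLD** : EXACT signature of `notes/OECorSkel_helper1.lean.txt` -/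
theorem not_omega_le_field {Q : (Fin n → F) → F} (hQ : IsNondegenerateQuadraticForm Q) (h5 : 5 ≤ n)
    (r : ℕ) (hr : r.Prime) (K : Subalgebra F (Matrix (Fin n) (Fin n) F)) (hK : IsFieldSubalgebra r K) :
    ¬ omegaGL Q ≤ subalgebraNormalizer K :=
  not_omega_le_fieldNormalizer_all (toQF Q hQ) (toQF_nondegenerate Q hQ) (by rw [Fintype.card_fin]; exact h5) r
    hr.two_le K hK

end frozen

end Cfsg.Agent.Lib.Helper16.OECorPFLD
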