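import Mathlib
import Cfsg.Prelude.Def_GeometricClasses
import Cfsg.Agent.Lib.Helper1.OEDefs

/-!
# Even-dimensional orthogonal PLUS rows, piece A5 `pair_decomp` (helper16, for helper13)

EXACT signature of `notes/OEPlusSkel_helper13.lean.txt`: a non-degenerate subspace `W` of half dimension and an orthogonal
complement `W'` form a non-degenerate `Fin 2` decomposition; the stabiliser of `W` in `I(Q)` stabilises the decomposition, and if
`W`, `W'` are not isometric the stabiliser of the decomposition in `I(Q)` stabilises `W`.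
-/

set_option autoImplicit false
set_option linter.unusedSectionVars false
set_option linter.unusedVariables false

namespace Cfsg.Agent.Lib.Helper16.OEPlus

open Matrix Cfsg Cfsg.Geo Module
open Cfsg.Agent.Lib.Helper1.OE

variable {F : Type*} [Field F] [Fintype F] {n : ℕ} {Q : (Fin n → F) → F}

theorem quad_apply_of_mem' {g : GL (Fin n) F} (hg : g ∈ isometryGroup F Q) (v : Fin n → F) :
    Q ((g : Matrix (Fin n) (Fin n) F) *ᵥ v) = Q v := hg v v

theorem polar_apply_of_mem {g : GL (Fin n) F} (hg : g ∈ isometryGroup F Q) (u v : Fin n → F) :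
    QuadraticMap.polar Q ((g : Matrix (Fin n) (Fin n) F) *ᵥ u) ((g : Matrix (Fin n) (Fin n) F) *ᵥ v) =
      QuadraticMap.polar Q u v := by
  unfold QuadraticMap.polar
  rw [← Matrix.mulVec_add, quad_apply_of_mem' hg, quad_apply_of_mem' hg, quad_apply_of_mem' hg]

theorem inv_mulVec_mulVec (g : GL (Fin n) F) (v : Fin n → F) :
    ((g⁻¹ : GL (Fin n) F) : Matrix (Fin n) (Fin n) F) *ᵥ ((g : Matrix (Fin n) (Fin n) F) *ᵥ v) = v := by
  rw [Matrix.mulVec_mulVec, ← Units.val_mul, inv_mul_cancel, Units.val_one, Matrix.one_mulVec]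

theorem mulVec_inv_mulVec (g : GL (Fin n) F) (v : Fin n → F) :
    (g : Matrix (Fin n) (Fin n) F) *ᵥ (((g⁻¹ : GL (Fin n) F) : Matrix (Fin n) (Fin n) F) *ᵥ v) = v := by
  rw [Matrix.mulVec_mulVec, ← Units.val_mul, mul_inv_cancel, Units.val_one, Matrix.one_mulVec]

/-- membership in the stabiliser of a subspace from `map = ` -/
theorem mem_subspaceStabilizer_of_map_eq (g : GL (Fin n) F) (W : Submodule F (Fin n → F))
    (h : W.map (Matrix.toLin' (g : Matrix (Fin n) (Fin n) F)) = W) : g ∈ subspaceStabilizer W := by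
  intro v
  constructor
  · intro hv
    have : (g : Matrix (Fin n) (Fin n) F) *ᵥ v ∈ W.map (Matrix.toLin' (g : Matrix (Fin n) (Fin n) F)) :=
      ⟨v, hv, by rw [Matrix.toLin'_apply]⟩
    rw [h] at this
    exact this
  · intro hv
    have hv' : (g : Matrix (Fin n) (Fin n) F) *ᵥ v ∈ (W : Set (Fin n → F)) := hv
    rw [SetLike.mem_coe, ← h] at hv'
    obtain ⟨w, hw, hwv⟩ := hv'
    rw [Matrix.toLin'_apply] at hwv
    have := congrArg (fun x => ((g⁻¹ : GL (Fin n) F) : Matrix (Fin n) (Fin n) F) *ᵥ x) hwv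
    simp only [inv_mulVec_mulVec] at this
    rw [← this]
    exact hw

/-- the stabiliser of a subspace maps it onto itself -/
theorem map_eq_of_mem_subspaceStabilizer (g : GL (Fin n) F) (W : Submodule F (Fin n → F))
    (h : g ∈ subspaceStabilizer W) : W.map (Matrix.toLin' (g : Matrix (Fin n) (Fin n) F)) = W := by
  have h' : ∀ v, v ∈ W ↔ (g : Matrix (Fin n) (Fin n) F) *ᵥ v ∈ W := h
  apply le_antisymm
  · rintro _ ⟨w, hw, rfl⟩
    rw [Matrix.toLin'_apply]
    exact (h' w).mp hw
  · intro w hw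
    refine ⟨((g⁻¹ : GL (Fin n) F) : Matrix (Fin n) (Fin n) F) *ᵥ w, ?_, ?_⟩
    · rw [SetLike.mem_coe, h', mulVec_inv_mulVec]
      exact hw
    · rw [Matrix.toLin'_apply, mulVec_inv_mulVec]

/-- **A5** -/
theorem pair_decomp (hQ : IsNondegenerateQuadraticForm Q) (m : ℕ) (hm : 0 < m) (W W' : Submodule F (Fin n → F))
    (hW : IsNondegenerateOn (QuadraticMap.polar Q) W) (hW' : IsNondegenerateOn (QuadraticMap.polar Q) W')
    (hc : IsCompl W W') (ho : AreOrthogonalFor (QuadraticMap.polar Q) W W')
    (hdim : finrank F W = m) (hdim' : finrank F W' = m) :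
    IsNondegenerateMDecomposition (QuadraticMap.polar Q) m ![W, W'] ∧
      subspaceStabilizer W ⊓ isometryGroup F Q ≤ decompositionStabilizer ![W, W'] ∧
      (¬ AreIsometricFor Q W W' →
        decompositionStabilizer ![W, W'] ⊓ isometryGroup F Q ≤ subspaceStabilizer W) := by
  have hb := hQ.polar_bilinear
  -- `W'` is the orthogonal complement of `W`
  have hperp : ∀ v : Fin n → F, (∀ w ∈ W, QuadraticMap.polar Q w v = 0) → v ∈ W' := by
    intro v hv
    have hvt : v ∈ W ⊔ W' := by rw [hc.sup_eq_top]; exact Submodule.mem_top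
    obtain ⟨a, ha, b, hb', hab⟩ := Submodule.mem_sup.mp hvt
    have ha0 : a = 0 := by
      by_contra hne
      obtain ⟨-, ⟨x, hx, hxa⟩⟩ := hW a ha hne
      apply hxa
      rw [QuadraticMap.polar_comm]
      have h1 : QuadraticMap.polar Q x v = 0 := hv x hx
      rw [← hab, hb.add_right, ho x hx b hb', add_zero] at h1
      exact h1
    rw [← hab, ha0, zero_add]
    exact hb'
  refine ⟨⟨⟨le_refl 2, hm, ?_, ?_, ?_⟩, ?_, ?_⟩, ?_, ?_⟩
  · intro i
    fin_cases i
    · exact hdim
    · exact hdim'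
  · -- independence
    rw [iSupIndep_def]
    intro i
    fin_cases i
    · have h1 : (⨆ j, ⨆ (_ : j ≠ (0 : Fin 2)), (![W, W'] : Fin 2 → Submodule F (Fin n → F)) j) ≤ W' := by
        refine iSup_le fun j => iSup_le fun hj => ?_
        fin_cases j
        · exact absurd rfl hj
        · exact le_refl _
      exact hc.disjoint.mono_right h1
    · have h1 : (⨆ j, ⨆ (_ : j ≠ (1 : Fin 2)), (![W, W'] : Fin 2 → Submodule F (Fin n → F)) j) ≤ W := by
        refine iSup_le fun j => iSup_le fun hj => ?_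
        fin_cases j
        · exact le_refl _
        · exact absurd rfl hj
      exact hc.disjoint.symm.mono_right h1
  · -- span
    rw [eq_top_iff, ← hc.sup_eq_top]
    exact sup_le (le_iSup (![W, W'] : Fin 2 → Submodule F (Fin n → F)) 0)
      (le_iSup (![W, W'] : Fin 2 → Submodule F (Fin n → F)) 1)
  · intro i
    fin_cases i
    · exact hW
    · exact hW'
  · intro i j hij
    fin_cases i <;> fin_cases j
    · exact absurd rfl hij
    · exact ho
    · intro u hu v hv
      rw [QuadraticMap.polar_comm]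
      exact ho v hv u hu
    · exact absurd rfl hij
  · -- the stabiliser of `W` stabilises the pair
    rintro g ⟨hgW, hgI⟩
    have hgW' : ∀ g : GL (Fin n) F, g ∈ subspaceStabilizer W → g ∈ isometryGroup F Q →
        W'.map (Matrix.toLin' (g : Matrix (Fin n) (Fin n) F)) ≤ W' := by
      intro g hgW hgI
      rintro _ ⟨v, hv, rfl⟩
      rw [Matrix.toLin'_apply]
      apply hperp
      intro w hw
      have hgW2 : ∀ v, v ∈ W ↔ (g : Matrix (Fin n) (Fin n) F) *ᵥ v ∈ W := hgW
      have hw' : ((g⁻¹ : GL (Fin n) F) : Matrix (Fin n) (Fin n) F) *ᵥ w ∈ W := by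
        rw [hgW2, mulVec_inv_mulVec]
        exact hw
      have h1 := polar_apply_of_mem hgI (((g⁻¹ : GL (Fin n) F) : Matrix (Fin n) (Fin n) F) *ᵥ w) v
      rw [mulVec_inv_mulVec] at h1
      rw [h1]
      exact ho _ hw' v hv
    refine ⟨1, fun i => ?_⟩
    fin_cases i
    · exact map_eq_of_mem_subspaceStabilizer g W hgW
    · apply le_antisymm
      · exact hgW' g hgW hgI
      · intro v hv
        have h1 := hgW' g⁻¹ ((subspaceStabilizer W).inv_mem hgW) ((isometryGroup F Q).inv_mem hgI)
        refine ⟨((g⁻¹ : GL (Fin n) F) : Matrix (Fin n) (Fin n) F) *ᵥ v, ?_, ?_⟩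
        · exact h1 ⟨v, hv, by rw [Matrix.toLin'_apply]⟩
        · rw [Matrix.toLin'_apply, mulVec_inv_mulVec]
  · -- non-isometric halves: the stabiliser of the pair fixes `W`
    intro hni
    rintro g ⟨⟨σ, hσ⟩, hgI⟩
    have h0 := hσ 0
    rcases (by omega : (σ 0 : ℕ) = 0 ∨ (σ 0 : ℕ) = 1) with h | h
    · have hs : σ 0 = 0 := Fin.ext h
      rw [hs] at h0
      exact mem_subspaceStabilizer_of_map_eq g W h0
    · exfalso
      have hs : σ 0 = 1 := Fin.ext h
      rw [hs] at h0
      have h0' : W.map (Matrix.toLin' (g : Matrix (Fin n) (Fin n) F)) = W' := h0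
      apply hni
      have hinj : Function.Injective (Matrix.toLin' (g : Matrix (Fin n) (Fin n) F)) := by
        intro x y hxy
        have h1 := congrArg (fun v => ((g⁻¹ : GL (Fin n) F) : Matrix (Fin n) (Fin n) F) *ᵥ v) hxy
        simp only [Matrix.toLin'_apply, inv_mulVec_mulVec] at h1
        exact h1
      refine ⟨(Submodule.equivMapOfInjective _ hinj W).trans (LinearEquiv.ofEq _ _ h0'), ?_⟩
      intro w
      have h1 : (((Submodule.equivMapOfInjective _ hinj W).trans (LinearEquiv.ofEq _ _ h0')) w : Fin n → F) =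
          (g : Matrix (Fin n) (Fin n) F) *ᵥ (w : Fin n → F) := by
        rw [LinearEquiv.trans_apply, LinearEquiv.coe_ofEq_apply, Submodule.coe_equivMapOfInjective_apply,
          Matrix.toLin'_apply]
      rw [h1]
      exact quad_apply_of_mem' hgI _

end Cfsg.Agent.Lib.Helper16.OEPlus
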