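import Mathlib
import Cfsg.Agent.Lib.Helper6.Quad

/-!
# Quadratic forms and extension of scalars (characteristic free)

For a ring homomorphism `j : F₀ →+* F` of fields: a quadratic form over `F` is determined by its
values on the `F₀`-points; a form taking `F₀`-values on `F₀`-points restricts to a form over `F₀`;
nondegeneracy descends.
-/

set_option autoImplicit false
set_option linter.unusedSectionVars false
set_option linter.unusedVariables false
set_option linter.style.haveILetI false

namespace Cfsg.Agent.Lib.Helper16.QuadExt

open Matrix QuadraticMap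

variable {F : Type*} [Field F] {F₀ : Type*} [Field F₀] (j : F₀ →+* F)
  {ι : Type} [Fintype ι] [DecidableEq ι]

theorem single_map' (i : ι) :
    (fun k => j ((Pi.single i (1 : F₀) : ι → F₀) k)) = (Pi.single i (1 : F) : ι → F) := by
  funext k
  by_cases h : k = i
  · subst h; simp
  · simp [Pi.single_eq_of_ne h]

theorem add_map (u v : ι → F₀) :
    (fun i => j ((u + v) i)) = (fun i => j (u i)) + (fun i => j (v i)) := by
  funext i
  simp

theorem smul_map (a : F₀) (v : ι → F₀) :
    (fun i => j ((a • v) i)) = j a • (fun i => j (v i)) := by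
  funext i
  simp

theorem sum_single (w : ι → F) : ∑ i, w i • (Pi.single i (1 : F) : ι → F) = w := by
  have := (Pi.basisFun F ι).sum_repr w
  simpa only [Pi.basisFun_repr, Pi.basisFun_apply] using this

/-- a quadratic form vanishing on the `F₀`-points vanishes -/
theorem qf_zero_of_points (R : QuadraticForm F (ι → F))
    (h : ∀ v : ι → F₀, R (fun i => j (v i)) = 0) (w : ι → F) : R w = 0 := by
  have he : ∀ k, R (Pi.single k (1 : F)) = 0 := by
    intro k
    rw [← single_map' j k]
    exact h _
  have hp : ∀ k l, polar (⇑R) (Pi.single k (1 : F)) (Pi.single l (1 : F)) = 0 := by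
    intro k l
    unfold polar
    rw [he, he, ← single_map' j k, ← single_map' j l, ← add_map, h]
    ring
  have hB : polarBilin R = 0 := by
    apply (Pi.basisFun F ι).ext
    intro k
    apply (Pi.basisFun F ι).ext
    intro l
    rw [Pi.basisFun_apply, Pi.basisFun_apply, polarBilin_apply_apply, hp]
    rfl
  have hadd : ∀ x y, R (x + y) = R x + R y := by
    intro x y
    have h1 : polar (⇑R) x y = 0 := by
      rw [← polarBilin_apply_apply, hB]
      rfl
    unfold polar at h1
    linear_combination h1
  let A : (ι → F) →+ F := AddMonoidHom.mk' (fun x => R x) hadd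
  have hA : ∀ x, A x = R x := fun x => rfl
  rw [← sum_single w, ← hA, map_sum]
  apply Finset.sum_eq_zero
  intro k _
  rw [hA, QuadraticMap.map_smul, he, smul_zero]

/-- two quadratic forms agreeing on the `F₀`-points agree -/
theorem qf_ext (R₁ R₂ : QuadraticForm F (ι → F))
    (h : ∀ v : ι → F₀, R₁ (fun i => j (v i)) = R₂ (fun i => j (v i))) (w : ι → F) :
    R₁ w = R₂ w := by
  have := qf_zero_of_points j (R₁ - R₂) (fun v => by rw [QuadraticMap.sub_apply, h, sub_self]) w
  rw [QuadraticMap.sub_apply] at this
  exact sub_eq_zero.mp this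

/-- a form with `F₀`-values on the `F₀`-points restricts to `F₀` -/
theorem exists_restrict (R : QuadraticForm F (ι → F))
    (h : ∀ v : ι → F₀, ∃ c : F₀, R (fun i => j (v i)) = j c) :
    ∃ R₀ : QuadraticForm F₀ (ι → F₀), ∀ v, j (R₀ v) = R (fun i => j (v i)) := by
  choose f hf using h
  have hinj : Function.Injective j := j.injective
  have hpolar : ∀ u v, j (polar f u v) = polar (⇑R) (fun i => j (u i)) (fun i => j (v i)) := by
    intro u v
    unfold polar
    rw [map_sub, map_sub, ← hf, ← hf, ← hf, add_map]
  refine ⟨QuadraticMap.ofPolar f ?_ ?_ ?_, fun v => (hf v).symm⟩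
  · intro a x
    apply hinj
    rw [← hf, smul_map, QuadraticMap.map_smul, smul_eq_mul, smul_eq_mul, map_mul, map_mul, ← hf]
  · intro x x' y
    apply hinj
    rw [map_add, hpolar, hpolar, hpolar, add_map, polar_add_left]
  · intro a x y
    apply hinj
    rw [hpolar, smul_map, polar_smul_left, smul_eq_mul, smul_eq_mul, map_mul, hpolar]

/-- the polar form of a restriction -/
theorem polar_restrict (R : QuadraticForm F (ι → F)) (R₀ : QuadraticForm F₀ (ι → F₀))
    (h : ∀ v, j (R₀ v) = R (fun i => j (v i))) (u v : ι → F₀) :
    j (polar (⇑R₀) u v) = polar (⇑R) (fun i => j (u i)) (fun i => j (v i)) := by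
  unfold polar
  rw [map_sub, map_sub, h, h, h, add_map]

/-- nondegeneracy descends -/
theorem nondeg_restrict (R : QuadraticForm F (ι → F)) (R₀ : QuadraticForm F₀ (ι → F₀))
    (h : ∀ v, j (R₀ v) = R (fun i => j (v i))) (hR : (polarBilin R).Nondegenerate) :
    (polarBilin R₀).Nondegenerate := by
  have hinj : Function.Injective j := j.injective
  have key : ∀ u : ι → F₀, (∀ v, polar (⇑R₀) u v = 0) → u = 0 := by
    intro u hu
    have h1 : (fun i => j (u i)) = 0 := by
      apply hR.1
      intro w
      have h2 : polarBilin R (fun i => j (u i)) = 0 := by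
        apply (Pi.basisFun F ι).ext
        intro l
        rw [Pi.basisFun_apply, polarBilin_apply_apply, ← single_map' j l,
          ← polar_restrict j R R₀ h, hu, map_zero]
        rfl
      rw [h2]
      rfl
    funext i
    have := congrFun h1 i
    apply hinj
    rw [this, Pi.zero_apply, Pi.zero_apply, map_zero]
  constructor
  · intro u hu
    exact key u (fun v => hu v)
  · intro u hu
    apply key u
    intro v
    rw [polar_comm]
    exact hu v

end Cfsg.Agent.Lib.Helper16.QuadExt
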