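import Mathlib
import Cfsg.Agent.Lib.Helper16.QuadExt
import Cfsg.Agent.Lib.Helper15.QuadClassify
import Cfsg.Agent.Lib.Helper15.QuadCount7
import Cfsg.Agent.Lib.Helper6.AutOrt20

/-!
# Minus type quadratic forms over finite fields and their descents (characteristic free)

A nondegenerate form over a subfield `F₀` which becomes, up to a scalar and a change of basis, the
minus type form over `F` is of minus type over `F₀`; any two minus type forms over a finite field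
are isometric.
-/

set_option autoImplicit false
set_option linter.unusedSectionVars false
set_option linter.unusedVariables false
set_option linter.style.haveILetI false

namespace Cfsg.Agent.Lib.Helper16.MinusType

open Matrix Module QuadraticMap Cfsg.Agent.Lib.Helper15 Cfsg.Agent.Lib.Helper6
  Cfsg.Agent.Lib.Helper6.AutOrt Cfsg.Agent.Lib.Helper16.QuadExt

section aniso
variable {F : Type*} [Field F]

/-- an irreducible `t² + t + ζ` gives an anisotropic binary form -/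
theorem aniso_of_irred (ζ : F) (h : ∀ t : F, t ^ 2 + t + ζ ≠ 0) :
    ∀ z₁ z₂ : F, z₁ ^ 2 + 1 * z₁ * z₂ + ζ * z₂ ^ 2 = 0 → z₁ = 0 ∧ z₂ = 0 := by
  intro z₁ z₂ hz
  by_cases h2 : z₂ = 0
  · subst h2
    refine ⟨?_, rfl⟩
    have : z₁ ^ 2 = 0 := by linear_combination hz
    exact pow_eq_zero_iff (two_ne_zero) |>.mp this
  · exfalso
    apply h (z₁ / z₂)
    field_simp
    linear_combination hz

end aniso

section iso
variable {F : Type*} [Field F] [Fintype F] (a₁ b₁ a₂ b₂ : F)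
  (hab₁ : ∀ z₁ z₂ : F, z₁ ^ 2 + a₁ * z₁ * z₂ + b₁ * z₂ ^ 2 = 0 → z₁ = 0 ∧ z₂ = 0)
  (hab₂ : ∀ z₁ z₂ : F, z₁ ^ 2 + a₂ * z₁ * z₂ + b₂ * z₂ ^ 2 = 0 → z₁ = 0 ∧ z₂ = 0)

include hab₁ hab₂ in
/-- two anisotropic binary forms over a finite field are isometric -/
theorem exists_binIso' :
    ∃ L : (Fin 2 → F) →ₗ[F] (Fin 2 → F), ∀ x, binForm a₂ b₂ (L x) = binForm a₁ b₁ x := by
  classical
  apply exists_isometry_binForm a₁ b₁ hab₁ (binForm a₂ b₂) (nondegenerate_binForm a₂ b₂ hab₂)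
  · rw [Module.finrank_fintype_fun_eq_card, Fintype.card_fin]
  · intro c
    rw [card_binForm_value a₂ b₂ hab₂ c, card_binForm_value a₁ b₁ hab₁ c]

/-- extension of a map of the binary part by the identity -/
def sumMap (m : ℕ) (L : (Fin 2 → F) →ₗ[F] (Fin 2 → F)) :
    ((Fin m ⊕ Fin m) ⊕ Fin 2 → F) →ₗ[F] ((Fin m ⊕ Fin m) ⊕ Fin 2 → F) where
  toFun v := Sum.elim (fun i => v (Sum.inl i)) (L (fun j => v (Sum.inr j)))
  map_add' x y := by
    have h1 : (fun j => (x + y) (Sum.inr j)) =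
        (fun j => x (Sum.inr j)) + (fun j : Fin 2 => y (Sum.inr j)) := rfl
    funext i
    rcases i with i | i
    · rfl
    · change L (fun j => (x + y) (Sum.inr j)) i = _
      rw [h1, map_add]
      rfl
  map_smul' c x := by
    have h1 : (fun j => (c • x) (Sum.inr j)) = c • (fun j : Fin 2 => x (Sum.inr j)) := rfl
    funext i
    rcases i with i | i
    · rfl
    · change L (fun j => (c • x) (Sum.inr j)) i = _
      rw [h1, map_smul]
      rfl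

include hab₁ hab₂ in
/-- two minus type forms over a finite field are isometric -/
theorem exists_QgenIso (m : ℕ) :
    ∃ k : Matrix ((Fin m ⊕ Fin m) ⊕ Fin 2) ((Fin m ⊕ Fin m) ⊕ Fin 2) F,
      ∀ v, Qgen m (binForm a₂ b₂) (k *ᵥ v) = Qgen m (binForm a₁ b₁) v := by
  obtain ⟨L, hL⟩ := exists_binIso' a₁ b₁ a₂ b₂ hab₁ hab₂
  refine ⟨LinearMap.toMatrix' (sumMap m L), fun v => ?_⟩
  rw [LinearMap.toMatrix'_mulVec, Qgen_apply, Qgen_apply]
  change ∑ i : Fin m, v (Sum.inl (Sum.inl i)) * v (Sum.inl (Sum.inr i)) +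
    binForm a₂ b₂ (L (fun j => v (Sum.inr j))) = _
  rw [hL]

end iso

section descend
variable {F : Type*} [Field F] [Fintype F] {F₀ : Type*} [Field F₀] [Fintype F₀] (j : F₀ →+* F)
  {m : ℕ} (a b : F)
  (hab : ∀ z₁ z₂ : F, z₁ ^ 2 + a * z₁ * z₂ + b * z₂ ^ 2 = 0 → z₁ = 0 ∧ z₂ = 0)
  (Q₀ : QuadraticForm F₀ ((Fin m ⊕ Fin m) ⊕ Fin 2 → F₀))
  (B : GL ((Fin m ⊕ Fin m) ⊕ Fin 2) F) (c : F) (hc : c ≠ 0)
  (h : ∀ v, j (Q₀ v) = c * Qgen m (binForm a b) (B.1 *ᵥ (fun i => j (v i))))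

/-- extension by zero -/
def inlMap (R : Type*) [Semiring R] (n : ℕ) : (Fin n → R) →ₗ[R] (Fin n ⊕ Fin n → R) where
  toFun c := Sum.elim c 0
  map_add' x y := by funext i; rcases i with i | i <;> simp
  map_smul' c x := by funext i; rcases i with i | i <;> simp

theorem inlMap_inl (R : Type*) [Semiring R] (n : ℕ) (c : Fin n → R) (i : Fin n) :
    inlMap R n c (Sum.inl i) = c i := rfl

theorem inlMap_inr (R : Type*) [Semiring R] (n : ℕ) (c : Fin n → R) (i : Fin n) :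
    inlMap R n c (Sum.inr i) = 0 := rfl

include hab hc h in
/-- a descended form is not of plus type -/
theorem not_plus (g : ((Fin m ⊕ Fin m) ⊕ Fin 2 → F₀) ≃ₗ[F₀] (Fin (m + 1) ⊕ Fin (m + 1) → F₀))
    (hg : ∀ v, Q₀ v = Cfsg.quadFormPlus (m + 1) F₀ (g v)) : False := by
  classical
  obtain ⟨s, hs⟩ : ∃ s : (Fin (m + 1) → F₀) →ₗ[F₀] ((Fin m ⊕ Fin m) ⊕ Fin 2 → F₀),
      s = g.symm.toLinearMap ∘ₗ inlMap F₀ (m + 1) := ⟨_, rfl⟩
  obtain ⟨π, hπ⟩ : ∃ π : ((Fin m ⊕ Fin m) ⊕ Fin 2 → F₀) →ₗ[F₀] (Fin (m + 1) → F₀),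
      π = (LinearMap.funLeft F₀ F₀ Sum.inl) ∘ₗ g.toLinearMap := ⟨_, rfl⟩
  have hπs : π ∘ₗ s = LinearMap.id := by
    apply LinearMap.ext
    intro c'
    funext i
    rw [hπ, hs]
    simp only [LinearMap.coe_comp, Function.comp_apply, LinearEquiv.coe_coe,
      LinearEquiv.apply_symm_apply, LinearMap.funLeft_apply, LinearMap.id_coe, id_eq]
    rfl
  have hQs : ∀ c', Q₀ (s c') = 0 := by
    intro c'
    rw [hg, hs]
    simp only [LinearMap.coe_comp, Function.comp_apply, LinearEquiv.coe_coe,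
      LinearEquiv.apply_symm_apply]
    unfold Cfsg.quadFormPlus
    apply Finset.sum_eq_zero
    intro i _
    rw [inlMap_inr, mul_zero]
  obtain ⟨S₀, hS₀⟩ : ∃ S₀, S₀ = LinearMap.toMatrix' s := ⟨_, rfl⟩
  obtain ⟨P₀, hP₀⟩ : ∃ P₀, P₀ = LinearMap.toMatrix' π := ⟨_, rfl⟩
  have hPS : P₀ * S₀ = 1 := by
    rw [hP₀, hS₀, ← LinearMap.toMatrix'_comp, hπs, LinearMap.toMatrix'_id]
  have hPS' : P₀.map j * S₀.map j = 1 := by
    rw [← Matrix.map_mul, hPS]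
    exact Matrix.map_one _ (map_zero j) (map_one j)
  obtain ⟨M, hM⟩ : ∃ M : Matrix ((Fin m ⊕ Fin m) ⊕ Fin 2) (Fin (m + 1)) F, M = B.1 * S₀.map j :=
    ⟨_, rfl⟩
  have hBinv : (B⁻¹).1 * B.1 = 1 := by
    rw [← Units.val_mul, inv_mul_cancel, Units.val_one]
  have hinj : Function.Injective (Matrix.toLin' M) := by
    intro x y hxy
    rw [Matrix.toLin'_apply, Matrix.toLin'_apply] at hxy
    have h1 : ∀ z : Fin (m + 1) → F, (P₀.map j * (B⁻¹).1) *ᵥ (M *ᵥ z) = z := by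
      intro z
      rw [Matrix.mulVec_mulVec, hM, Matrix.mul_assoc, ← Matrix.mul_assoc (B⁻¹).1, hBinv,
        Matrix.one_mul, hPS', Matrix.one_mulVec]
    rw [← h1 x, ← h1 y, hxy]
  have hE : ∀ x ∈ LinearMap.range (Matrix.toLin' M), Qgen m (binForm a b) x = 0 := by
    rintro x ⟨c', rfl⟩
    have := qf_zero_of_points j ((Qgen m (binForm a b)).comp (Matrix.toLin' M)) (fun v => ?_) c'
    · rwa [QuadraticMap.comp_apply] at this
    · rw [QuadraticMap.comp_apply, Matrix.toLin'_apply]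
      have h1 : M *ᵥ (fun i => j (v i)) = B.1 *ᵥ (fun i => j ((s v) i)) := by
        rw [hM, ← Matrix.mulVec_mulVec]
        congr 1
        funext i
        rw [← LinearMap.toMatrix'_mulVec s v, ← hS₀]
        exact (RingHom.map_mulVec j S₀ v i).symm
      rw [h1]
      have h2 := h (s v)
      rw [hQs, map_zero] at h2
      rcases mul_eq_zero.mp h2.symm with h3 | h3
      · exact absurd h3 hc
      · exact h3
  have hfr : finrank F (LinearMap.range (Matrix.toLin' M)) = m + 1 := by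
    rw [LinearMap.finrank_range_of_inj hinj, Module.finrank_fintype_fun_eq_card, Fintype.card_fin]
  exact no_ts_Qgen m (binForm a b) (binForm_aniso a b hab)
    (nondegenerate_Qgen m (binForm a b) (nondegenerate_binForm a b hab)) _ hE
    (by rw [hfr, Module.finrank_fintype_fun_eq_card, card_JJ]; ring) (by rw [hfr]; omega)

include hab hc h in
/-- a descended form is of minus type -/
theorem minus_of_descended (hQ₀ : (polarBilin Q₀).Nondegenerate) :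
    ∃ ζ : F₀, (∀ t : F₀, t ^ 2 + t + ζ ≠ 0) ∧
      ∃ g : ((Fin m ⊕ Fin m) ⊕ Fin 2 → F₀) ≃ₗ[F₀] ((Fin m ⊕ Fin m) ⊕ Fin 2 → F₀),
        ∀ v, Q₀ v = Qgen m (binForm 1 ζ) (g v) := by
  have hV : finrank F₀ ((Fin m ⊕ Fin m) ⊕ Fin 2 → F₀) = 2 * (m + 1) := by
    rw [Module.finrank_fintype_fun_eq_card, card_JJ]; ring
  have hcl := classify_even Q₀ hQ₀ (m + 1) (by omega) hV
  rw [Nat.add_sub_cancel] at hcl
  rcases hcl with ⟨g, hg⟩ | ⟨ζ, hζ, g, hg⟩
  · exact (not_plus j a b hab Q₀ B c hc h g hg).elim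
  · refine ⟨ζ, hζ, g, fun v => ?_⟩
    rw [hg, Qgen_apply, binForm_apply]
    rfl

end descend

section similar
variable {F : Type*} [Field F] [Fintype F] {F₀ : Type*} [Field F₀] [Fintype F₀] (j : F₀ →+* F)
  {m : ℕ} (a b : F)
  (hab : ∀ z₁ z₂ : F, z₁ ^ 2 + a * z₁ * z₂ + b * z₂ ^ 2 = 0 → z₁ = 0 ∧ z₂ = 0)

include hab in
/-- two descended forms are isometric over the small field -/
theorem exists_similar (Q₁ Q₂ : QuadraticForm F₀ ((Fin m ⊕ Fin m) ⊕ Fin 2 → F₀))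
    (hQ₁ : (polarBilin Q₁).Nondegenerate) (hQ₂ : (polarBilin Q₂).Nondegenerate)
    (B₁ B₂ : GL ((Fin m ⊕ Fin m) ⊕ Fin 2) F) (c₁ c₂ : F) (hc₁ : c₁ ≠ 0) (hc₂ : c₂ ≠ 0)
    (h₁ : ∀ v, j (Q₁ v) = c₁ * Qgen m (binForm a b) (B₁.1 *ᵥ (fun i => j (v i))))
    (h₂ : ∀ v, j (Q₂ v) = c₂ * Qgen m (binForm a b) (B₂.1 *ᵥ (fun i => j (v i)))) :
    ∃ k : Matrix ((Fin m ⊕ Fin m) ⊕ Fin 2) ((Fin m ⊕ Fin m) ⊕ Fin 2) F₀,
      ∀ v, Q₁ (k *ᵥ v) = Q₂ v := by
  classical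
  obtain ⟨ζ₁, hζ₁, g₁, hg₁⟩ := minus_of_descended j a b hab Q₁ B₁ c₁ hc₁ h₁ hQ₁
  obtain ⟨ζ₂, hζ₂, g₂, hg₂⟩ := minus_of_descended j a b hab Q₂ B₂ c₂ hc₂ h₂ hQ₂
  obtain ⟨K, hK⟩ := exists_QgenIso 1 ζ₂ 1 ζ₁ (aniso_of_irred ζ₂ hζ₂) (aniso_of_irred ζ₁ hζ₁) m
  refine ⟨LinearMap.toMatrix' (g₁.symm.toLinearMap ∘ₗ Matrix.toLin' K ∘ₗ g₂.toLinearMap),
    fun v => ?_⟩
  rw [LinearMap.toMatrix'_mulVec, hg₁]
  simp only [LinearMap.coe_comp, Function.comp_apply, LinearEquiv.coe_coe,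
    LinearEquiv.apply_symm_apply, Matrix.toLin'_apply]
  rw [hK, hg₂]

include hab in
/-- a descended form is isometric to a standard minus type form -/
theorem exists_std (Q₁ : QuadraticForm F₀ ((Fin m ⊕ Fin m) ⊕ Fin 2 → F₀))
    (hQ₁ : (polarBilin Q₁).Nondegenerate)
    (B₁ : GL ((Fin m ⊕ Fin m) ⊕ Fin 2) F) (c₁ : F) (hc₁ : c₁ ≠ 0)
    (h₁ : ∀ v, j (Q₁ v) = c₁ * Qgen m (binForm a b) (B₁.1 *ᵥ (fun i => j (v i)))) :
    ∃ (a₀ b₀ : F₀) (k : GL ((Fin m ⊕ Fin m) ⊕ Fin 2) F₀),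
      (∀ z₁ z₂ : F₀, z₁ ^ 2 + a₀ * z₁ * z₂ + b₀ * z₂ ^ 2 = 0 → z₁ = 0 ∧ z₂ = 0) ∧
      ∀ v, Q₁ (k.1 *ᵥ v) = Qgen m (binForm a₀ b₀) v := by
  classical
  obtain ⟨ζ₁, hζ₁, g₁, hg₁⟩ := minus_of_descended j a b hab Q₁ B₁ c₁ hc₁ h₁ hQ₁
  refine ⟨1, ζ₁, ⟨LinearMap.toMatrix' g₁.symm.toLinearMap, LinearMap.toMatrix' g₁.toLinearMap,
    ?_, ?_⟩, aniso_of_irred ζ₁ hζ₁, fun v => ?_⟩
  · rw [← LinearMap.toMatrix'_comp]
    have : g₁.symm.toLinearMap ∘ₗ g₁.toLinearMap = LinearMap.id := by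
      apply LinearMap.ext; intro x; simp
    rw [this, LinearMap.toMatrix'_id]
  · rw [← LinearMap.toMatrix'_comp]
    have : g₁.toLinearMap ∘ₗ g₁.symm.toLinearMap = LinearMap.id := by
      apply LinearMap.ext; intro x; simp
    rw [this, LinearMap.toMatrix'_id]
  · change Q₁ (LinearMap.toMatrix' g₁.symm.toLinearMap *ᵥ v) = _
    rw [LinearMap.toMatrix'_mulVec, hg₁]
    simp

end similar

end Cfsg.Agent.Lib.Helper16.MinusType
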