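import Mathlib
import Cfsg.Prelude.Def_LieClassical
import Cfsg.Agent.Lib.Helper16.OrthEmbed
import Cfsg.Agent.Lib.Helper16.SympEmbed2

set_option autoImplicit false
set_option linter.style.haveILetI false
set_option linter.unusedSimpArgs false

namespace Cfsg.Agent.Lib.Helper16

open Module Matrix

theorem quadFormPlus_nondeg {F : Type*} [Field F] (m : ℕ) (x : Fin m ⊕ Fin m → F)
    (h : ∀ y, Cfsg.quadFormPlus m F (x + y) = Cfsg.quadFormPlus m F y) : x = 0 := by
  classical
  have h0 : Cfsg.quadFormPlus m F x = 0 := by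
    have := h 0
    simpa [Cfsg.quadFormPlus] using this
  funext idx
  rcases idx with i | i
  · have h1 := h (Pi.single (Sum.inr i) 1)
    unfold Cfsg.quadFormPlus at h1 h0
    simp only [Pi.add_apply, Pi.single_apply, Sum.inr.injEq, reduceCtorEq, if_false, add_zero,
      mul_add, Finset.sum_add_distrib, h0, zero_add, mul_ite, mul_one, mul_zero,
      Finset.sum_ite_eq', Finset.mem_univ, if_true, zero_mul, Finset.sum_const_zero] at h1
    simpa using h1
  · have h1 := h (Pi.single (Sum.inl i) 1)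
    unfold Cfsg.quadFormPlus at h1 h0
    simp only [Pi.add_apply, Pi.single_apply, Sum.inl.injEq, reduceCtorEq, if_false, add_zero,
      add_mul, Finset.sum_add_distrib, h0, zero_add, ite_mul, one_mul, zero_mul,
      Finset.sum_ite_eq', Finset.mem_univ, if_true, mul_zero, Finset.sum_const_zero] at h1
    simpa using h1

theorem quadFormMinus_nondeg {F : Type*} [Field F] (m : ℕ) (a b : F)
    (hab : ∀ z₁ z₂ : F, z₁ ^ 2 + a * z₁ * z₂ + b * z₂ ^ 2 = 0 → z₁ = 0 ∧ z₂ = 0)
    (x : (Fin m ⊕ Fin m) ⊕ Fin 2 → F)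
    (h : ∀ y, Cfsg.quadFormMinus m F a b (x + y) = Cfsg.quadFormMinus m F a b y) : x = 0 := by
  classical
  have h0 : Cfsg.quadFormMinus m F a b x = 0 := by
    have := h 0
    simpa [Cfsg.quadFormMinus] using this
  have hl : ∀ i, x (Sum.inl (Sum.inl i)) = 0 := by
    intro i
    have h1 := h (Pi.single (Sum.inl (Sum.inr i)) 1)
    unfold Cfsg.quadFormMinus at h1 h0
    simp only [Pi.add_apply, Pi.single_apply, Sum.inl.injEq, Sum.inr.injEq, reduceCtorEq, if_false,
      add_zero, mul_add, Finset.sum_add_distrib, mul_ite, mul_one, mul_zero,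
      Finset.sum_ite_eq', Finset.mem_univ, if_true, zero_mul, Finset.sum_const_zero] at h1
    linear_combination h1 - h0
  have hr : ∀ i, x (Sum.inl (Sum.inr i)) = 0 := by
    intro i
    have h1 := h (Pi.single (Sum.inl (Sum.inl i)) 1)
    unfold Cfsg.quadFormMinus at h1 h0
    simp only [Pi.add_apply, Pi.single_apply, Sum.inl.injEq, Sum.inr.injEq, reduceCtorEq, if_false,
      add_zero, add_mul, Finset.sum_add_distrib, ite_mul, one_mul, zero_mul,
      Finset.sum_ite_eq', Finset.mem_univ, if_true, mul_zero, Finset.sum_const_zero] at h1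
    linear_combination h1 - h0
  have hbin := hab (x (Sum.inr 0)) (x (Sum.inr 1)) (by
    unfold Cfsg.quadFormMinus at h0
    simp only [hl, hr, mul_zero, Finset.sum_const_zero, zero_add] at h0
    exact h0)
  funext idx
  rcases idx with (i | i) | j
  · exact hl i
  · exact hr i
  · fin_cases j
    · exact hbin.1
    · exact hbin.2

/-- A linear map intertwining a "nondegenerate" function with some function is injective. -/
theorem injective_of_form {F K V I : Type*} [Field F] [Field K] [Algebra F K] [AddCommGroup V]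
    [Module F V] (Φ : (I → F) →ₗ[F] V) (Q : (I → F) → F) (N : V → K)
    (hN : ∀ x, N (Φ x) = algebraMap F K (Q x))
    (hQ : ∀ x, (∀ y, Q (x + y) = Q y) → x = 0) : Function.Injective Φ := by
  intro x x' hxx
  have h0 : Φ (x - x') = 0 := by rw [map_sub, hxx, sub_self]
  have h1 : x - x' = 0 := by
    apply hQ
    intro y
    apply (algebraMap F K).injective
    rw [← hN, ← hN, map_add, h0, zero_add]
  exact sub_eq_zero.1 h1

/-- Data used to split the norm form of a quadratic extension. -/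
structure HermData (F K : Type*) [Field F] [Field K] [Algebra F K] where
  σ : K →+* K
  hσι : ∀ x : F, σ (algebraMap F K x) = algebraMap F K x
  hσσ : ∀ x, σ (σ x) = x
  β : K
  lam : K
  lam' : K
  τ : K
  hδ : β - σ β ≠ 0
  hlam : lam * σ lam = -1
  hlam' : lam' * σ lam' = -1
  hτ : σ τ * (1 + lam * σ lam') = 1
  hτ' : τ * (1 + σ lam * lam') = 1

namespace HermData

variable {F K : Type*} [Field F] [Field K] [Algebra F K] (D : HermData F K)

/-- first component of a block -/
def blockA (x₀ x₁ : F) : K := algebraMap F K x₀ + algebraMap F K x₁ * D.β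

/-- second component of a block -/
noncomputable def blockB (y₀ y₁ : F) : K :=
  (algebraMap F K y₀ * D.β - algebraMap F K y₁) / (D.β - D.σ D.β)

theorem σ_blockA (x₀ x₁ : F) :
    D.σ (D.blockA x₀ x₁) = algebraMap F K x₀ + algebraMap F K x₁ * D.σ D.β := by
  simp only [blockA, map_add, map_mul, D.hσι]

theorem σ_blockB (y₀ y₁ : F) :
    D.σ (D.blockB y₀ y₁) = (algebraMap F K y₀ * D.σ D.β - algebraMap F K y₁) / (D.σ D.β - D.β) := by
  simp only [blockB, map_div₀, map_sub, map_mul, D.hσι, D.hσσ]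

theorem blockA_add (x₀ x₁ x₀' x₁' : F) :
    D.blockA (x₀ + x₀') (x₁ + x₁') = D.blockA x₀ x₁ + D.blockA x₀' x₁' := by
  simp only [blockA, map_add]; ring

theorem blockB_add (x₀ x₁ x₀' x₁' : F) :
    D.blockB (x₀ + x₀') (x₁ + x₁') = D.blockB x₀ x₁ + D.blockB x₀' x₁' := by
  simp only [blockB, map_add]; ring

theorem blockA_smul (c x₀ x₁ : F) :
    D.blockA (c * x₀) (c * x₁) = algebraMap F K c * D.blockA x₀ x₁ := by
  simp only [blockA, map_mul]; ring

theorem blockB_smul (c x₀ x₁ : F) :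
    D.blockB (c * x₀) (c * x₁) = algebraMap F K c * D.blockB x₀ x₁ := by
  simp only [blockB, map_mul]; ring

theorem block_identity (x₀ x₁ y₀ y₁ : F) :
    (D.blockA x₀ x₁ + D.τ * D.blockB y₀ y₁) * D.σ (D.blockA x₀ x₁ + D.τ * D.blockB y₀ y₁)
      + (D.lam * D.blockA x₀ x₁ + D.τ * D.lam' * D.blockB y₀ y₁)
        * D.σ (D.lam * D.blockA x₀ x₁ + D.τ * D.lam' * D.blockB y₀ y₁)
      = algebraMap F K (x₀ * y₀ + x₁ * y₁) := by
  have h1 : (D.blockA x₀ x₁ + D.τ * D.blockB y₀ y₁) * D.σ (D.blockA x₀ x₁ + D.τ * D.blockB y₀ y₁)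
      + (D.lam * D.blockA x₀ x₁ + D.τ * D.lam' * D.blockB y₀ y₁)
        * D.σ (D.lam * D.blockA x₀ x₁ + D.τ * D.lam' * D.blockB y₀ y₁)
      = D.blockA x₀ x₁ * D.σ (D.blockB y₀ y₁) + D.σ (D.blockA x₀ x₁) * D.blockB y₀ y₁ := by
    simp only [map_add, map_mul]
    linear_combination (D.blockA x₀ x₁ * D.σ (D.blockA x₀ x₁)) * D.hlam
      + (D.τ * D.σ D.τ * D.blockB y₀ y₁ * D.σ (D.blockB y₀ y₁)) * D.hlam'
      + (D.blockA x₀ x₁ * D.σ (D.blockB y₀ y₁)) * D.hτ
      + (D.σ (D.blockA x₀ x₁) * D.blockB y₀ y₁) * D.hτ'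
  rw [h1, σ_blockA, σ_blockB, blockA, blockB, map_add, map_mul, map_mul]
  have hδ := D.hδ
  have hδ' : D.σ D.β - D.β ≠ 0 := by
    intro h
    apply hδ
    linear_combination (-1 : K) * h
  field_simp
  ring

/-- The `F`-linear map `F^{2k} ⊕ F^{2k} → K^{2k}` carrying the hyperbolic form to the
sum of norms. -/
noncomputable def evenMap (k : ℕ) : (Fin (k + k) ⊕ Fin (k + k) → F) →ₗ[F] (Fin (k + k) → K) where
  toFun x := Fin.addCases
    (fun j : Fin k => D.blockA (x (Sum.inl (Fin.castAdd k j))) (x (Sum.inl (Fin.natAdd k j)))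
      + D.τ * D.blockB (x (Sum.inr (Fin.castAdd k j))) (x (Sum.inr (Fin.natAdd k j))))
    (fun j : Fin k => D.lam * D.blockA (x (Sum.inl (Fin.castAdd k j))) (x (Sum.inl (Fin.natAdd k j)))
      + D.τ * D.lam' * D.blockB (x (Sum.inr (Fin.castAdd k j))) (x (Sum.inr (Fin.natAdd k j))))
  map_add' x y := by
    funext i
    refine Fin.addCases (fun j => ?_) (fun j => ?_) i
    · simp only [Fin.addCases_left, Pi.add_apply, blockA_add, blockB_add]; ring
    · simp only [Fin.addCases_right, Pi.add_apply, blockA_add, blockB_add]; ring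
  map_smul' c x := by
    funext i
    refine Fin.addCases (fun j => ?_) (fun j => ?_) i
    · simp only [Fin.addCases_left, Pi.smul_apply, smul_eq_mul, blockA_smul, blockB_smul,
        RingHom.id_apply, Algebra.smul_def]; ring
    · simp only [Fin.addCases_right, Pi.smul_apply, smul_eq_mul, blockA_smul, blockB_smul,
        RingHom.id_apply, Algebra.smul_def]; ring

theorem evenMap_castAdd (k : ℕ) (x : Fin (k + k) ⊕ Fin (k + k) → F) (j : Fin k) :
    D.evenMap k x (Fin.castAdd k j)
      = D.blockA (x (Sum.inl (Fin.castAdd k j))) (x (Sum.inl (Fin.natAdd k j)))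
      + D.τ * D.blockB (x (Sum.inr (Fin.castAdd k j))) (x (Sum.inr (Fin.natAdd k j))) := by
  unfold evenMap
  simp only [LinearMap.coe_mk, AddHom.coe_mk, Fin.addCases_left]

theorem evenMap_natAdd (k : ℕ) (x : Fin (k + k) ⊕ Fin (k + k) → F) (j : Fin k) :
    D.evenMap k x (Fin.natAdd k j)
      = D.lam * D.blockA (x (Sum.inl (Fin.castAdd k j))) (x (Sum.inl (Fin.natAdd k j)))
      + D.τ * D.lam' * D.blockB (x (Sum.inr (Fin.castAdd k j))) (x (Sum.inr (Fin.natAdd k j))) := by
  unfold evenMap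
  simp only [LinearMap.coe_mk, AddHom.coe_mk, Fin.addCases_right]

theorem evenMap_form (k : ℕ) (x : Fin (k + k) ⊕ Fin (k + k) → F) :
    ∑ i, D.evenMap k x i * D.σ (D.evenMap k x i)
      = algebraMap F K (Cfsg.quadFormPlus (k + k) F x) := by
  unfold Cfsg.quadFormPlus
  rw [Fin.sum_univ_add, Fin.sum_univ_add, map_add, map_sum, map_sum, ← Finset.sum_add_distrib,
    ← Finset.sum_add_distrib]
  apply Finset.sum_congr rfl
  intro j _
  rw [evenMap_castAdd, evenMap_natAdd, block_identity, map_add]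

theorem evenMap_injective (k : ℕ) : Function.Injective (D.evenMap k) :=
  injective_of_form (D.evenMap k) (Cfsg.quadFormPlus (k + k) F)
    (fun w => ∑ i, w i * D.σ (w i)) (D.evenMap_form k) (quadFormPlus_nondeg (k + k))

/-- the even map as an equivalence -/
noncomputable def evenEquiv (h2 : finrank F K = 2) (k : ℕ) :
    (Fin (k + k) ⊕ Fin (k + k) → F) ≃ₗ[F] (Fin (k + k) → K) :=
  haveI : Module.Finite F K := Module.finite_of_finrank_pos (by rw [h2]; norm_num)
  LinearEquiv.ofBijective (D.evenMap k)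
    ⟨D.evenMap_injective k,
      (LinearMap.injective_iff_surjective_of_finrank_eq_finrank (by
        rw [Module.finrank_fintype_fun_eq_card, Module.finrank_pi_fintype]
        simp only [h2, Finset.sum_const, Finset.card_univ, Fintype.card_sum, Fintype.card_fin,
          smul_eq_mul]
        ring)).1 (D.evenMap_injective k)⟩

theorem evenEquiv_apply (h2 : finrank F K = 2) (k : ℕ) (x : Fin (k + k) ⊕ Fin (k + k) → F) :
    D.evenEquiv h2 k x = D.evenMap k x := rfl

/-- The odd-dimensional variant: an extra coordinate carrying the binary anisotropic form. -/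
noncomputable def oddMap (k : ℕ) (β₁ : K) :
    ((Fin (k + k) ⊕ Fin (k + k)) ⊕ Fin 2 → F) →ₗ[F] (Fin (k + k + 1) → K) where
  toFun x := Fin.lastCases
    (algebraMap F K (x (Sum.inr 0)) + algebraMap F K (x (Sum.inr 1)) * β₁)
    (fun i : Fin (k + k) => D.evenMap k (fun idx => x (Sum.inl idx)) i)
  map_add' x y := by
    funext i
    refine Fin.lastCases ?_ (fun j => ?_) i
    · simp only [Fin.lastCases_last, Pi.add_apply, map_add]; ring
    · simp only [Fin.lastCases_castSucc, Pi.add_apply]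
      have : (fun idx => x (Sum.inl idx) + y (Sum.inl idx))
          = (fun idx => x (Sum.inl idx)) + (fun idx => y (Sum.inl idx)) := rfl
      rw [this, map_add]
      rfl
  map_smul' c x := by
    funext i
    refine Fin.lastCases ?_ (fun j => ?_) i
    · simp only [Fin.lastCases_last, Pi.smul_apply, smul_eq_mul, map_mul, RingHom.id_apply,
        Algebra.smul_def]; ring
    · simp only [Fin.lastCases_castSucc, Pi.smul_apply, smul_eq_mul, RingHom.id_apply]
      have : (fun idx => c * x (Sum.inl idx)) = c • (fun idx => x (Sum.inl idx)) := rfl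
      rw [this, map_smul]
      rfl

theorem oddMap_last (k : ℕ) (β₁ : K) (x : (Fin (k + k) ⊕ Fin (k + k)) ⊕ Fin 2 → F) :
    D.oddMap k β₁ x (Fin.last (k + k))
      = algebraMap F K (x (Sum.inr 0)) + algebraMap F K (x (Sum.inr 1)) * β₁ := by
  unfold oddMap
  simp only [LinearMap.coe_mk, AddHom.coe_mk, Fin.lastCases_last]

theorem oddMap_castSucc (k : ℕ) (β₁ : K) (x : (Fin (k + k) ⊕ Fin (k + k)) ⊕ Fin 2 → F)
    (i : Fin (k + k)) :
    D.oddMap k β₁ x i.castSucc = D.evenMap k (fun idx => x (Sum.inl idx)) i := by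
  unfold oddMap
  simp only [LinearMap.coe_mk, AddHom.coe_mk, Fin.lastCases_castSucc]

theorem oddMap_form (k : ℕ) (β₁ : K) (a b : F) (ha : β₁ + D.σ β₁ = algebraMap F K a)
    (hb : β₁ * D.σ β₁ = algebraMap F K b) (x : (Fin (k + k) ⊕ Fin (k + k)) ⊕ Fin 2 → F) :
    ∑ i, D.oddMap k β₁ x i * D.σ (D.oddMap k β₁ x i)
      = algebraMap F K (Cfsg.quadFormMinus (k + k) F a b x) := by
  rw [Fin.sum_univ_castSucc]
  simp only [oddMap_castSucc, oddMap_last]
  rw [evenMap_form]
  unfold Cfsg.quadFormMinus Cfsg.quadFormPlus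
  simp only [map_add, map_mul, map_pow, D.hσι, map_sum]
  linear_combination (algebraMap F K (x (Sum.inr 0)) * algebraMap F K (x (Sum.inr 1))) * ha
    + (algebraMap F K (x (Sum.inr 1))) ^ 2 * hb

theorem oddMap_injective (k : ℕ) (β₁ : K) (a b : F) (ha : β₁ + D.σ β₁ = algebraMap F K a)
    (hb : β₁ * D.σ β₁ = algebraMap F K b)
    (hab : ∀ z₁ z₂ : F, z₁ ^ 2 + a * z₁ * z₂ + b * z₂ ^ 2 = 0 → z₁ = 0 ∧ z₂ = 0) :
    Function.Injective (D.oddMap k β₁) :=
  injective_of_form (D.oddMap k β₁) (Cfsg.quadFormMinus (k + k) F a b)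
    (fun w => ∑ i, w i * D.σ (w i)) (D.oddMap_form k β₁ a b ha hb)
    (quadFormMinus_nondeg (k + k) a b hab)

/-- the odd map as an equivalence -/
noncomputable def oddEquiv (h2 : finrank F K = 2) (k : ℕ) (β₁ : K) (a b : F)
    (ha : β₁ + D.σ β₁ = algebraMap F K a) (hb : β₁ * D.σ β₁ = algebraMap F K b)
    (hab : ∀ z₁ z₂ : F, z₁ ^ 2 + a * z₁ * z₂ + b * z₂ ^ 2 = 0 → z₁ = 0 ∧ z₂ = 0) :
    ((Fin (k + k) ⊕ Fin (k + k)) ⊕ Fin 2 → F) ≃ₗ[F] (Fin (k + k + 1) → K) :=
  haveI : Module.Finite F K := Module.finite_of_finrank_pos (by rw [h2]; norm_num)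
  LinearEquiv.ofBijective (D.oddMap k β₁)
    ⟨D.oddMap_injective k β₁ a b ha hb hab,
      (LinearMap.injective_iff_surjective_of_finrank_eq_finrank (by
        rw [Module.finrank_fintype_fun_eq_card, Module.finrank_pi_fintype]
        simp only [h2, Finset.sum_const, Finset.card_univ, Fintype.card_sum, Fintype.card_fin,
          smul_eq_mul]
        ring)).1 (D.oddMap_injective k β₁ a b ha hb hab)⟩

end HermData

end Cfsg.Agent.Lib.Helper16
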