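import Mathlib
import Cfsg.Agent.S3377
import Cfsg.Agent.S0801
import Cfsg.Agent.Lib.Helper3.CardSL

/-!
# `SL(2,5)`: presentation `⟨x, y, z | x³, y⁵, z², [z,x], [z,y], (xy)² = z⟩`

* `card_le_sixty`: a group generated by `a, b` with `a³ = b⁵ = (ab)² = 1` has order at most 60.
* `card_le_120`: a group generated by `x, y, z` with the relations above has order at most 120.
* `Γ`, `presented_equiv : Γ ≃* SL(2, ZMod 5)`, `card_Γ`.
-/

set_option autoImplicit false

namespace Cfsg.Agent.Lib.Helper16.SL25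

open Cfsg.Agent.S3377 (T T_one T_mul_a T_mul_b rel_of ev wl)

theorem all_T {Q : Type*} [Group Q] (a b : Q) (h3 : a ^ 3 = 1) (h5 : b ^ 5 = 1)
    (h2 : (a * b) ^ 2 = 1) (hgen : Subgroup.closure ({a, b} : Set Q) = ⊤) (g : Q) :
    T a b g := by
  have R := rel_of a b h3 h5 h2
  have hinv_a : a⁻¹ = a * a := by
    have h := h3
    rw [pow_succ, pow_succ, pow_one] at h
    exact inv_eq_of_mul_eq_one_left h
  have hinv_b : b⁻¹ = b * b * b * b := by
    have h := h5
    rw [pow_succ, pow_succ, pow_succ, pow_succ, pow_one] at h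
    exact inv_eq_of_mul_eq_one_left h
  have key : ∀ z ∈ Subgroup.closure ({a, b} : Set Q), ∀ t, T a b t → T a b (t * z) := by
    intro z hz
    induction hz using Subgroup.closure_induction'' with
    | mem x hx =>
      intro t ht
      simp only [Set.mem_insert_iff, Set.mem_singleton_iff] at hx
      rcases hx with h | h
      · rw [h]; exact T_mul_a a b R t ht
      · rw [h]; exact T_mul_b a b R t ht
    | inv_mem x hx =>
      intro t ht
      simp only [Set.mem_insert_iff, Set.mem_singleton_iff] at hx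
      rcases hx with h | h
      · rw [h, hinv_a, ← mul_assoc]
        exact T_mul_a a b R _ (T_mul_a a b R _ ht)
      · rw [h, hinv_b, ← mul_assoc, ← mul_assoc, ← mul_assoc]
        exact T_mul_b a b R _ (T_mul_b a b R _ (T_mul_b a b R _ (T_mul_b a b R _ ht)))
    | one =>
      intro t ht
      simpa using ht
    | mul x y hx hy ihx ihy =>
      intro t ht
      rw [← mul_assoc]
      exact ihy _ (ihx _ ht)
  have := key g (by rw [hgen]; exact Subgroup.mem_top g) 1 (T_one a b)
  simpa using this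

theorem card_le_sixty {Q : Type*} [Group Q] (a b : Q) (h3 : a ^ 3 = 1) (h5 : b ^ 5 = 1)
    (h2 : (a * b) ^ 2 = 1) (hgen : Subgroup.closure ({a, b} : Set Q) = ⊤) :
    Finite Q ∧ Nat.card Q ≤ 60 := by
  have hs : Function.Surjective
      (fun p : Fin 5 × Fin 12 => (b ^ (p.1 : ℕ) * ev a b (wl (p.2 : ℕ)) : Q)) := by
    intro g
    obtain ⟨j, i, hi, rfl⟩ := all_T a b h3 h5 h2 hgen g
    refine ⟨(⟨j % 5, Nat.mod_lt _ (by norm_num)⟩, ⟨i, hi⟩), ?_⟩
    change b ^ (j % 5) * ev a b (wl i) = b ^ j * ev a b (wl i)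
    rw [← pow_eq_pow_mod j h5]
  have hfin : Finite Q := Finite.of_surjective _ hs
  refine ⟨hfin, ?_⟩
  have h := Nat.card_le_card_of_surjective _ hs
  simpa using h

theorem card_le_120 {G : Type*} [Group G] (x y z : G) (hx : x ^ 3 = 1) (hy : y ^ 5 = 1)
    (hz : z ^ 2 = 1) (hzx : z * x = x * z) (hzy : z * y = y * z) (hxy : (x * y) ^ 2 = z)
    (hgen : Subgroup.closure ({x, y, z} : Set G) = ⊤) : Finite G ∧ Nat.card G ≤ 120 := by
  have hcen : ∀ g : G, z * g = g * z := by
    intro g
    have hle : Subgroup.closure ({x, y, z} : Set G) ≤ Subgroup.centralizer ({z} : Set G) := by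
      rw [Subgroup.closure_le]
      intro w hw
      simp only [Set.mem_insert_iff, Set.mem_singleton_iff] at hw
      rw [SetLike.mem_coe, Subgroup.mem_centralizer_iff]
      intro h hh
      rw [Set.mem_singleton_iff] at hh
      rw [hh]
      rcases hw with h1 | h1 | h1
      · rw [h1]; exact hzx
      · rw [h1]; exact hzy
      · rw [h1]
    rw [hgen] at hle
    have hg := hle (Subgroup.mem_top g)
    rw [Subgroup.mem_centralizer_iff] at hg
    exact hg z (Set.mem_singleton z)
  have hZc : Subgroup.zpowers z ≤ Subgroup.center G := by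
    rw [Subgroup.zpowers_le, Subgroup.mem_center_iff]
    intro g
    exact (hcen g).symm
  have hZn : (Subgroup.zpowers z).Normal := by
    constructor
    intro n hn g
    have hn' := hZc hn
    rw [Subgroup.mem_center_iff] at hn'
    have : g * n * g⁻¹ = n := by rw [hn' g, mul_inv_cancel_right]
    rw [this]; exact hn
  have hπz : (QuotientGroup.mk' (Subgroup.zpowers z)) z = 1 :=
    (QuotientGroup.eq_one_iff z).mpr (Subgroup.mem_zpowers z)
  have h3 : ((QuotientGroup.mk' (Subgroup.zpowers z)) x) ^ 3 = 1 := by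
    rw [← map_pow, hx, map_one]
  have h5 : ((QuotientGroup.mk' (Subgroup.zpowers z)) y) ^ 5 = 1 := by
    rw [← map_pow, hy, map_one]
  have h2 : ((QuotientGroup.mk' (Subgroup.zpowers z)) x *
      (QuotientGroup.mk' (Subgroup.zpowers z)) y) ^ 2 = 1 := by
    rw [← map_mul, ← map_pow, hxy, hπz]
  have hgenQ : Subgroup.closure ({(QuotientGroup.mk' (Subgroup.zpowers z)) x,
      (QuotientGroup.mk' (Subgroup.zpowers z)) y} : Set (G ⧸ Subgroup.zpowers z)) = ⊤ := by
    rw [eq_top_iff]
    intro q _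
    obtain ⟨g, rfl⟩ := QuotientGroup.mk'_surjective (Subgroup.zpowers z) q
    have hle : Subgroup.closure ({x, y, z} : Set G) ≤
        (Subgroup.closure ({(QuotientGroup.mk' (Subgroup.zpowers z)) x,
          (QuotientGroup.mk' (Subgroup.zpowers z)) y} : Set (G ⧸ Subgroup.zpowers z))).comap
          (QuotientGroup.mk' (Subgroup.zpowers z)) := by
      rw [Subgroup.closure_le]
      intro w hw
      simp only [Set.mem_insert_iff, Set.mem_singleton_iff] at hw
      rw [SetLike.mem_coe, Subgroup.mem_comap]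
      rcases hw with h1 | h1 | h1
      · rw [h1]; exact Subgroup.subset_closure (Set.mem_insert _ _)
      · rw [h1]; exact Subgroup.subset_closure (Set.mem_insert_of_mem _ rfl)
      · rw [h1, hπz]; exact Subgroup.one_mem _
    rw [hgen] at hle
    exact hle (Subgroup.mem_top g)
  obtain ⟨hfinQ, hcardQ⟩ := card_le_sixty _ _ h3 h5 h2 hgenQ
  have hord : orderOf z ∣ 2 := orderOf_dvd_of_pow_eq_one hz
  have hord_le : orderOf z ≤ 2 := Nat.le_of_dvd (by norm_num) hord
  have hord_pos : 0 < orderOf z := Nat.pos_of_dvd_of_pos hord (by norm_num)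
  have hcardZ : Nat.card (Subgroup.zpowers z) = orderOf z := Nat.card_zpowers z
  have hfinZ : Finite (Subgroup.zpowers z) :=
    Nat.finite_of_card_ne_zero (by rw [hcardZ]; omega)
  have hfin : Finite G := Finite.of_subgroup_quotient (Subgroup.zpowers z)
  refine ⟨hfin, ?_⟩
  have h1 : Nat.card G = Nat.card (G ⧸ Subgroup.zpowers z) * Nat.card (Subgroup.zpowers z) :=
    Subgroup.card_eq_card_quotient_mul_card_subgroup _
  calc Nat.card G = Nat.card (G ⧸ Subgroup.zpowers z) * Nat.card (Subgroup.zpowers z) := h1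
    _ ≤ 60 * 2 := Nat.mul_le_mul hcardQ (by rw [hcardZ]; exact hord_le)

/-! ### The presented group -/

/-- the relators -/
abbrev rels3 : Set (FreeGroup (Fin 3)) :=
  {FreeGroup.of (0 : Fin 3) ^ 3, FreeGroup.of (1 : Fin 3) ^ 5, FreeGroup.of (2 : Fin 3) ^ 2,
    (FreeGroup.of (2 : Fin 3))⁻¹ * FreeGroup.of 0 * FreeGroup.of 2 * (FreeGroup.of (0 : Fin 3))⁻¹,
    (FreeGroup.of (2 : Fin 3))⁻¹ * FreeGroup.of 1 * FreeGroup.of 2 * (FreeGroup.of (1 : Fin 3))⁻¹,
    (FreeGroup.of (0 : Fin 3) * FreeGroup.of 1) ^ 2 * (FreeGroup.of (2 : Fin 3))⁻¹}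

/-- the presented group -/
abbrev Γ : Type := PresentedGroup rels3

/-- first generator -/
abbrev gx : Γ := PresentedGroup.of 0

/-- second generator -/
abbrev gy : Γ := PresentedGroup.of 1

/-- third generator -/
abbrev gz : Γ := PresentedGroup.of 2

theorem gx3 : gx ^ 3 = 1 := by
  have h : PresentedGroup.mk rels3 (FreeGroup.of 0 ^ 3) = 1 :=
    PresentedGroup.one_of_mem (Set.mem_insert _ _)
  rw [map_pow] at h
  exact h

theorem gy5 : gy ^ 5 = 1 := by
  have h : PresentedGroup.mk rels3 (FreeGroup.of 1 ^ 5) = 1 :=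
    PresentedGroup.one_of_mem (Set.mem_insert_of_mem _ (Set.mem_insert _ _))
  rw [map_pow] at h
  exact h

theorem gz2 : gz ^ 2 = 1 := by
  have h : PresentedGroup.mk rels3 (FreeGroup.of 2 ^ 2) = 1 :=
    PresentedGroup.one_of_mem
      (Set.mem_insert_of_mem _ (Set.mem_insert_of_mem _ (Set.mem_insert _ _)))
  rw [map_pow] at h
  exact h

theorem gzx : gz * gx = gx * gz := by
  have h : PresentedGroup.mk rels3 ((FreeGroup.of (2 : Fin 3))⁻¹ * FreeGroup.of 0 *
      FreeGroup.of 2 * (FreeGroup.of (0 : Fin 3))⁻¹) = 1 :=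
    PresentedGroup.one_of_mem
      (Set.mem_insert_of_mem _ (Set.mem_insert_of_mem _ (Set.mem_insert_of_mem _
        (Set.mem_insert _ _))))
  rw [map_mul, map_mul, map_mul, map_inv, map_inv] at h
  change gz⁻¹ * gx * gz * gx⁻¹ = 1 at h
  have h' : gz⁻¹ * gx * gz = gx := mul_inv_eq_one.mp h
  calc gz * gx = gz * (gz⁻¹ * gx * gz) := by rw [h']
    _ = gx * gz := by group

theorem gzy : gz * gy = gy * gz := by
  have h : PresentedGroup.mk rels3 ((FreeGroup.of (2 : Fin 3))⁻¹ * FreeGroup.of 1 *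
      FreeGroup.of 2 * (FreeGroup.of (1 : Fin 3))⁻¹) = 1 :=
    PresentedGroup.one_of_mem
      (Set.mem_insert_of_mem _ (Set.mem_insert_of_mem _ (Set.mem_insert_of_mem _
        (Set.mem_insert_of_mem _ (Set.mem_insert _ _)))))
  rw [map_mul, map_mul, map_mul, map_inv, map_inv] at h
  change gz⁻¹ * gy * gz * gy⁻¹ = 1 at h
  have h' : gz⁻¹ * gy * gz = gy := mul_inv_eq_one.mp h
  calc gz * gy = gz * (gz⁻¹ * gy * gz) := by rw [h']
    _ = gy * gz := by group

theorem gxy2 : (gx * gy) ^ 2 = gz := by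
  have h : PresentedGroup.mk rels3 ((FreeGroup.of (0 : Fin 3) * FreeGroup.of 1) ^ 2 *
      (FreeGroup.of (2 : Fin 3))⁻¹) = 1 :=
    PresentedGroup.one_of_mem
      (Set.mem_insert_of_mem _ (Set.mem_insert_of_mem _ (Set.mem_insert_of_mem _
        (Set.mem_insert_of_mem _ (Set.mem_insert_of_mem _ (Set.mem_singleton _))))))
  rw [map_mul, map_pow, map_mul, map_inv] at h
  change (gx * gy) ^ 2 * gz⁻¹ = 1 at h
  exact mul_inv_eq_one.mp h

theorem closure_gens : Subgroup.closure ({gx, gy, gz} : Set Γ) = ⊤ := by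
  rw [eq_top_iff, ← PresentedGroup.closure_range_of rels3]
  apply Subgroup.closure_mono
  rintro _ ⟨i, rfl⟩
  fin_cases i
  · exact Set.mem_insert _ _
  · exact Set.mem_insert_of_mem _ (Set.mem_insert _ _)
  · exact Set.mem_insert_of_mem _ (Set.mem_insert_of_mem _ rfl)

theorem finite_card_Γ : Finite Γ ∧ Nat.card Γ ≤ 120 :=
  card_le_120 gx gy gz gx3 gy5 gz2 gzx gzy gxy2 closure_gens

instance finiteΓ : Finite Γ := finite_card_Γ.1

/-! ### The matrices -/

instance fact5 : Fact (Nat.Prime 5) := ⟨by norm_num⟩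

/-- element of order 3 -/
def mX : Matrix.SpecialLinearGroup (Fin 2) (ZMod 5) :=
  ⟨!![0, -1; 1, -1], by rw [Matrix.det_fin_two_of]; decide⟩

/-- element of order 5 -/
def mY : Matrix.SpecialLinearGroup (Fin 2) (ZMod 5) :=
  ⟨!![1, 1; 0, 1], by rw [Matrix.det_fin_two_of]; decide⟩

/-- the central involution -/
def mZ : Matrix.SpecialLinearGroup (Fin 2) (ZMod 5) :=
  ⟨!![-1, 0; 0, -1], by rw [Matrix.det_fin_two_of]; decide⟩

/-- the images of the generators -/
def fgen : Fin 3 → Matrix.SpecialLinearGroup (Fin 2) (ZMod 5) := ![mX, mY, mZ]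

set_option linter.unusedSimpArgs false in
theorem lift_rels3 : ∀ r ∈ rels3, FreeGroup.lift fgen r = 1 := by
  intro r hr
  simp only [rels3, Set.mem_insert_iff, Set.mem_singleton_iff] at hr
  rcases hr with rfl | rfl | rfl | rfl | rfl | rfl
  · simp only [map_pow, map_mul, map_inv, FreeGroup.lift_apply_of]; decide
  · simp only [map_pow, map_mul, map_inv, FreeGroup.lift_apply_of]; decide
  · simp only [map_pow, map_mul, map_inv, FreeGroup.lift_apply_of]; decide
  · simp only [map_pow, map_mul, map_inv, FreeGroup.lift_apply_of]; decide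
  · simp only [map_pow, map_mul, map_inv, FreeGroup.lift_apply_of]; decide
  · simp only [map_pow, map_mul, map_inv, FreeGroup.lift_apply_of]; decide

/-- the homomorphism onto `SL(2,5)` -/
def φ : Γ →* Matrix.SpecialLinearGroup (Fin 2) (ZMod 5) := PresentedGroup.toGroup lift_rels3

theorem φ_x : φ gx = mX := by
  simp [φ, gx, fgen]

theorem φ_y : φ gy = mY := by
  simp [φ, gy, fgen]

theorem card_SL25 : Nat.card (Matrix.SpecialLinearGroup (Fin 2) (ZMod 5)) = 120 := by
  rw [Cfsg.Agent.Lib.Helper3.CardSL.card_SL2, ZMod.card]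
  norm_num

theorem closure_one_eq_top : Subfield.closure ({1} : Set (ZMod 5)) = ⊤ := by
  rw [eq_top_iff]
  intro x _
  have : x = ((x.val : ℕ) : ZMod 5) := (ZMod.natCast_zmod_val x).symm
  rw [this]
  exact natCast_mem _ _

theorem φ_surj : Function.Surjective φ := by
  rw [← MonoidHom.range_eq_top]
  have h := Cfsg.Agent.S0801.result (F := ZMod 5) (by decide) 1 one_ne_zero closure_one_eq_top
  rcases h with ⟨h, -⟩ | ⟨h, -⟩
  · rw [eq_top_iff, ← h, Subgroup.closure_le]
    intro g hg
    rcases hg with hg | hg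
    · have : g = φ (gx * gy⁻¹ * gx⁻¹) := by
        rw [map_mul, map_mul, map_inv, map_inv, φ_x, φ_y]
        apply Subtype.ext
        rw [hg]
        decide
      rw [this]
      exact ⟨_, rfl⟩
    · have : g = φ gy := by
        rw [φ_y]
        apply Subtype.ext
        rw [hg]
        decide
      rw [this]
      exact ⟨_, rfl⟩
  · exfalso
    rw [ZMod.card] at h
    omega

theorem φ_bij : Function.Bijective φ :=
  φ_surj.bijective_of_nat_card_le (by rw [card_SL25]; exact finite_card_Γ.2)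

/-- the presentation of `SL(2,5)` -/
noncomputable def presented_equiv : Γ ≃* Matrix.SpecialLinearGroup (Fin 2) (ZMod 5) :=
  MulEquiv.ofBijective φ φ_bij

theorem card_Γ : Nat.card Γ = 120 := by
  rw [Nat.card_congr presented_equiv.toEquiv, card_SL25]

end Cfsg.Agent.Lib.Helper16.SL25
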