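import Mathlib
import Cfsg.Agent.Lib.Helper16.SL25
import Cfsg.Agent.S3669
import Cfsg.Agent.S0494

/-!
# Recognition of `SL(2,5)`: a non-solvable group of order 120 with quaternion Sylow 2-subgroups

* `eq_of_commute_invol`: with quaternion Sylow 2-subgroups, commuting involutions are equal.
* `simple_of_card_sixty`: a non-solvable group of order 60 is simple.
* `not_simple_120`: no simple group of order 120.
* `main`: the recognition theorem.
-/

set_option autoImplicit false

namespace Cfsg.Agent.Lib.Helper16.SL25Recog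

open Cfsg.Agent.Lib.Helper16.SL25

theorem q8_inv : ∀ g h : QuaternionGroup 2, g ≠ 1 → h ≠ 1 → g * g = 1 → h * h = 1 → g = h := by
  decide

theorem eq_of_commute_invol {G : Type*} [Group G] [Finite G]
    (hQ : ∀ P : Sylow 2 G, Nonempty ((P : Subgroup G) ≃* QuaternionGroup 2))
    (s t : G) (hs1 : s ≠ 1) (ht1 : t ≠ 1) (hs : s * s = 1) (ht : t * t = 1)
    (hst : s * t = t * s) : s = t := by
  have : Fact (Nat.Prime 2) := ⟨Nat.prime_two⟩
  have hps : IsPGroup 2 (Subgroup.zpowers s) := by
    apply IsPGroup.of_card (n := 1)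
    rw [Nat.card_zpowers, pow_one]
    exact orderOf_eq_prime (by rw [pow_two]; exact hs) hs1
  have hpt : IsPGroup 2 (Subgroup.zpowers t) := by
    apply IsPGroup.of_card (n := 1)
    rw [Nat.card_zpowers, pow_one]
    exact orderOf_eq_prime (by rw [pow_two]; exact ht) ht1
  have hnorm : Subgroup.zpowers s ≤
      Subgroup.normalizer ((Subgroup.zpowers t : Subgroup G) : Set G) := by
    refine le_trans ?_ (Subgroup.centralizer_le_normalizer _)
    rw [Subgroup.zpowers_le, Subgroup.mem_centralizer_iff]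
    intro h hh
    rw [SetLike.mem_coe, Subgroup.mem_zpowers_iff] at hh
    obtain ⟨k, rfl⟩ := hh
    have hc : Commute t s := hst.symm
    exact (hc.zpow_left k).eq
  have hK := IsPGroup.to_sup_of_normal_right' hps hpt hnorm
  obtain ⟨P, hP⟩ := hK.exists_le_sylow
  have hsP : s ∈ (P : Subgroup G) := hP (Subgroup.mem_sup_left (Subgroup.mem_zpowers s))
  have htP : t ∈ (P : Subgroup G) := hP (Subgroup.mem_sup_right (Subgroup.mem_zpowers t))
  obtain ⟨e⟩ := hQ P
  have h1 : e ⟨s, hsP⟩ ≠ 1 := by
    intro h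
    apply hs1
    have h' : (⟨s, hsP⟩ : (P : Subgroup G)) = 1 := by
      rw [← e.map_eq_one_iff]; exact h
    exact congrArg Subtype.val h'
  have h2 : e ⟨t, htP⟩ ≠ 1 := by
    intro h
    apply ht1
    have h' : (⟨t, htP⟩ : (P : Subgroup G)) = 1 := by
      rw [← e.map_eq_one_iff]; exact h
    exact congrArg Subtype.val h'
  have h3 : e ⟨s, hsP⟩ * e ⟨s, hsP⟩ = 1 := by
    rw [← map_mul]
    have : (⟨s, hsP⟩ : (P : Subgroup G)) * ⟨s, hsP⟩ = 1 := Subtype.ext hs
    rw [this, map_one]
  have h4 : e ⟨t, htP⟩ * e ⟨t, htP⟩ = 1 := by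
    rw [← map_mul]
    have : (⟨t, htP⟩ : (P : Subgroup G)) * ⟨t, htP⟩ = 1 := Subtype.ext ht
    rw [this, map_one]
  have h5 := q8_inv _ _ h1 h2 h3 h4
  have h6 := e.injective h5
  exact congrArg Subtype.val h6

set_option maxRecDepth 100000 in
theorem a5_two_invol : ∃ s t : alternatingGroup (Fin 5), s ≠ 1 ∧ t ≠ 1 ∧ s * s = 1 ∧ t * t = 1 ∧
    s * t = t * s ∧ s ≠ t := by
  refine ⟨⟨Equiv.swap 0 1 * Equiv.swap 2 3, Equiv.Perm.mem_alternatingGroup.mpr (by decide)⟩,
    ⟨Equiv.swap 0 2 * Equiv.swap 1 3, Equiv.Perm.mem_alternatingGroup.mpr (by decide)⟩, ?_⟩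
  decide

theorem no_a5 {G : Type*} [Group G] [Finite G]
    (hQ : ∀ P : Sylow 2 G, Nonempty ((P : Subgroup G) ≃* QuaternionGroup 2))
    (L : Type*) [Group L] (e : L ≃* alternatingGroup (Fin 5)) (j : L →* G)
    (hj : Function.Injective j) : False := by
  obtain ⟨s, t, hs1, ht1, hs, ht, hst, hne⟩ := a5_two_invol
  have key := eq_of_commute_invol hQ (j (e.symm s)) (j (e.symm t)) ?_ ?_ ?_ ?_ ?_
  · apply hne
    exact e.symm.injective (hj key)
  · intro h
    apply hs1
    have := (map_eq_one_iff j hj).mp h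
    exact (e.symm.map_eq_one_iff).mp this
  · intro h
    apply ht1
    have := (map_eq_one_iff j hj).mp h
    exact (e.symm.map_eq_one_iff).mp this
  · rw [← map_mul, ← map_mul, hs, map_one, map_one]
  · rw [← map_mul, ← map_mul, ht, map_one, map_one]
  · rw [← map_mul, ← map_mul, ← map_mul, ← map_mul, hst]

theorem simple_of_card_sixty {K : Type*} [Group K] [Finite K] (hK : Nat.card K = 60)
    (hns : ¬ Group.IsSolvable K) : IsSimpleGroup K := by
  have hnt : Nontrivial K := by
    rw [← Finite.one_lt_card_iff_nontrivial]; omega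
  refine { exists_pair_ne := hnt.exists_pair_ne, eq_bot_or_eq_top_of_normal := ?_ }
  intro N hN
  by_contra hcon
  push Not at hcon
  obtain ⟨hb, ht⟩ := hcon
  apply hns
  have hcard : Nat.card K = Nat.card (K ⧸ N) * Nat.card N :=
    Subgroup.card_eq_card_quotient_mul_card_subgroup N
  have hN1 : 1 < Nat.card N := (Subgroup.one_lt_card_iff_ne_bot N).mpr hb
  have hN2 : 1 < Nat.card (K ⧸ N) := by
    have h1 : N.index ≠ 1 := by rw [Ne, Subgroup.index_eq_one]; exact ht
    have h0 : N.index ≠ 0 := Subgroup.index_ne_zero_of_finite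
    rw [← Subgroup.index_eq_card]; omega
  have hNlt : Nat.card N < 60 := by nlinarith
  have hQlt : Nat.card (K ⧸ N) < 60 := by nlinarith
  have s1 : Group.IsSolvable N := Cfsg.Agent.S3669.isSolvable_of_card_lt _ N rfl hNlt
  have s2 : Group.IsSolvable (K ⧸ N) :=
    Cfsg.Agent.S3669.isSolvable_of_card_lt _ (K ⧸ N) rfl hQlt
  exact Group.isSolvable_of_ker_le_range N.subtype (QuotientGroup.mk' N)
    (by rw [QuotientGroup.ker_mk', Subgroup.range_subtype])

theorem not_simple_120 {G : Type*} [Group G] [Finite G] (hG : Nat.card G = 120) :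
    ¬ IsSimpleGroup G := by
  intro hs
  classical
  have : Fact (Nat.Prime 5) := ⟨by norm_num⟩
  obtain ⟨P⟩ : Nonempty (Sylow 5 G) := inferInstance
  have hP : Nat.card (P : Subgroup G) = 5 := by
    rw [P.card_eq_multiplicity, hG]
    have : (5 * 24 : ℕ).factorization 5 = 1 :=
      Cfsg.Agent.S3669.factorization_five 24 (by norm_num) (by norm_num)
    have h120 : (120 : ℕ) = 5 * 24 := by norm_num
    rw [h120, this, pow_one]
  have hidx : (P : Subgroup G).index = 24 := by
    have := Subgroup.index_mul_card (P : Subgroup G)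
    rw [hP, hG] at this
    omega
  have h1 : Nat.card (Sylow 5 G) ∣ 24 := by
    have := P.card_dvd_index
    rwa [hidx] at this
  have h2 : Nat.card (Sylow 5 G) ≡ 1 [MOD 5] := card_sylow_modEq_one 5 G
  have h3 : Nat.card (Sylow 5 G) = (Subgroup.normalizer ((P : Subgroup G) : Set G)).index :=
    P.card_eq_index_normalizer
  have hcases : Nat.card (Sylow 5 G) = 1 ∨ Nat.card (Sylow 5 G) = 6 := by
    have hle : Nat.card (Sylow 5 G) ≤ 24 := Nat.le_of_dvd (by norm_num) h1
    generalize Nat.card (Sylow 5 G) = n at h1 h2 hle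
    unfold Nat.ModEq at h2
    interval_cases n <;> omega
  rcases hcases with hc | hc
  · -- normal Sylow 5
    rw [hc] at h3
    have hnorm : (P : Subgroup G).Normal := by
      rw [← Subgroup.normalizer_eq_top_iff, ← Subgroup.index_eq_one]
      exact h3.symm
    rcases hs.eq_bot_or_eq_top_of_normal (P : Subgroup G) hnorm with h | h
    · rw [h, Subgroup.card_bot] at hP
      omega
    · rw [h, Subgroup.card_top, hG] at hP
      omega
  · rw [hc] at h3
    set H := Subgroup.normalizer ((P : Subgroup G) : Set G) with hH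
    have hHtop : H ≠ ⊤ := by
      intro h
      rw [h, Subgroup.index_top] at h3
      omega
    have hinj := Cfsg.Agent.S0494.toPermHom_injective H hHtop
    have hfin : Finite (G ⧸ H) := inferInstance
    letI : Fintype (G ⧸ H) := Fintype.ofFinite _
    have hcardX : Nat.card (G ⧸ H) = 6 := by
      rw [← Subgroup.index_eq_card]; exact h3.symm
    -- the sign homomorphism
    let ψ : G →* ℤˣ := Equiv.Perm.sign.comp (MulAction.toPermHom G (G ⧸ H))
    have hker : ψ.ker = ⊤ := by
      rcases hs.eq_bot_or_eq_top_of_normal ψ.ker inferInstance with h | h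
      · exfalso
        have hi : Function.Injective ψ := (MonoidHom.ker_eq_bot_iff ψ).mp h
        have := Nat.card_le_card_of_injective ψ hi
        rw [hG, Nat.card_eq_fintype_card, Fintype.card_units_int] at this
        omega
      · exact h
    have hmem : ∀ g : G, MulAction.toPermHom G (G ⧸ H) g ∈ alternatingGroup (G ⧸ H) := by
      intro g
      rw [Equiv.Perm.mem_alternatingGroup]
      have : g ∈ ψ.ker := by rw [hker]; exact Subgroup.mem_top g
      exact (MonoidHom.mem_ker).mp this
    let φ' : G →* alternatingGroup (G ⧸ H) :=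
      (MulAction.toPermHom G (G ⧸ H)).codRestrict (alternatingGroup (G ⧸ H)) hmem
    have hinj' : Function.Injective φ' := by
      intro a b hab
      apply hinj
      exact congrArg Subtype.val hab
    have hnt : Nontrivial (G ⧸ H) := by
      rw [← Finite.one_lt_card_iff_nontrivial]; omega
    have hcardA : Nat.card (alternatingGroup (G ⧸ H)) = 360 := by
      rw [nat_card_alternatingGroup, hcardX]
      rfl
    have hsimpA : IsSimpleGroup (alternatingGroup (G ⧸ H)) :=
      alternatingGroup.isSimpleGroup (by rw [hcardX]; norm_num)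
    have hcardK : Nat.card φ'.range = 120 := by
      rw [← hG]
      exact (Nat.card_congr (Equiv.ofInjective _ hinj')).symm
    have hKtop : φ'.range ≠ ⊤ := by
      intro h
      rw [h, Subgroup.card_top, hcardA] at hcardK
      omega
    have hdvd := Cfsg.Agent.S0494.card_dvd_factorial_index φ'.range hKtop
    have hidxK : φ'.range.index = 3 := by
      have := Subgroup.index_mul_card φ'.range
      rw [hcardK, hcardA] at this
      omega
    rw [hidxK, hcardA] at hdvd
    revert hdvd
    decide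

theorem adjust {G : Type*} [Group G] (N : Subgroup G) [N.Normal] (z : G) (hz2 : z * z = 1)
    (hzc : ∀ g : G, g * z = z * g) (hzN : z ∈ N) (hmem : ∀ n ∈ N, n = 1 ∨ n = z)
    (k m : ℕ) (hk : k = 2 * m + 1) (q : G ⧸ N) (hq : q ^ k = 1) :
    ∃ x : G, (QuotientGroup.mk' N) x = q ∧ x ^ k = 1 := by
  obtain ⟨x0, rfl⟩ := QuotientGroup.mk'_surjective N q
  have hx0 : x0 ^ k ∈ N := by
    rw [← QuotientGroup.eq_one_iff, QuotientGroup.mk_pow]
    exact hq
  rcases hmem _ hx0 with h | h
  · exact ⟨x0, rfl, h⟩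
  · refine ⟨x0 * z, ?_, ?_⟩
    · rw [map_mul]
      have : (QuotientGroup.mk' N) z = 1 := (QuotientGroup.eq_one_iff z).mpr hzN
      rw [this, mul_one]
    · have hc : Commute x0 z := hzc x0
      rw [hc.mul_pow, h]
      have hzk : z ^ k = z := by
        rw [hk, pow_succ, pow_mul, pow_two, hz2, one_pow, one_mul]
      rw [hzk, hz2]

theorem main {G : Type*} [Group G] [Finite G] (hG : Nat.card G = 120)
    (hns : ¬ Group.IsSolvable G)
    (hQ : ∀ P : Sylow 2 G, Nonempty ((P : Subgroup G) ≃* QuaternionGroup 2)) :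
    Nonempty (G ≃* Matrix.SpecialLinearGroup (Fin 2) (ZMod 5)) := by
  -- step 1: a normal subgroup of order 2
  have hex : ∃ N : Subgroup G, N.Normal ∧ Nat.card N = 2 := by
    have hnot := not_simple_120 hG
    have hnt : Nontrivial G := by
      rw [← Finite.one_lt_card_iff_nontrivial]; omega
    have hex' : ∃ N : Subgroup G, N.Normal ∧ N ≠ ⊥ ∧ N ≠ ⊤ := by
      by_contra hcon
      push Not at hcon
      apply hnot
      exact { exists_pair_ne := hnt.exists_pair_ne
              eq_bot_or_eq_top_of_normal := fun N hN => by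
                by_cases h : N = ⊥
                · left; exact h
                · right; exact hcon N hN h }
    obtain ⟨N, hN, hb, ht⟩ := hex'
    refine ⟨N, hN, ?_⟩
    have hcard : Nat.card G = Nat.card (G ⧸ N) * Nat.card N :=
      Subgroup.card_eq_card_quotient_mul_card_subgroup N
    have hN1 : 1 < Nat.card N := (Subgroup.one_lt_card_iff_ne_bot N).mpr hb
    have hN2 : 1 < Nat.card (G ⧸ N) := by
      have h1 : N.index ≠ 1 := by rw [Ne, Subgroup.index_eq_one]; exact ht
      have h0 : N.index ≠ 0 := Subgroup.index_ne_zero_of_finite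
      rw [← Subgroup.index_eq_card]; omega
    by_cases hsN : Group.IsSolvable N
    · have hq : ¬ Group.IsSolvable (G ⧸ N) := fun h =>
        hns (Group.isSolvable_of_ker_le_range N.subtype (QuotientGroup.mk' N)
          (by rw [QuotientGroup.ker_mk', Subgroup.range_subtype]))
      have h60 : 60 ≤ Nat.card (G ⧸ N) := by
        by_contra hlt
        push Not at hlt
        exact hq (Cfsg.Agent.S3669.isSolvable_of_card_lt _ (G ⧸ N) rfl hlt)
      nlinarith
    · exfalso
      have h60 : 60 ≤ Nat.card N := by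
        by_contra hlt
        push Not at hlt
        exact hsN (Cfsg.Agent.S3669.isSolvable_of_card_lt _ N rfl hlt)
      have hc60 : Nat.card N = 60 := by nlinarith
      have hsimple := simple_of_card_sixty hc60 hsN
      obtain ⟨e⟩ := Cfsg.Agent.S0494.result (G := N) hc60
      exact no_a5 hQ N e N.subtype (Subgroup.subtype_injective N)
  obtain ⟨N, hN, hN2⟩ := hex
  -- step 2: the generator z of N
  have hNb : N ≠ ⊥ := by
    rw [← Subgroup.one_lt_card_iff_ne_bot]; omega
  obtain ⟨⟨z, hzN⟩, hz1'⟩ := Subgroup.ne_bot_iff_exists_ne_one.mp hNb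
  have hz1 : z ≠ 1 := fun h => hz1' (Subtype.ext h)
  have hmem : ∀ n ∈ N, n = 1 ∨ n = z := by
    intro n hn
    by_cases h : n = 1
    · left; exact h
    · right
      obtain ⟨w, -, hw⟩ := (Nat.card_eq_two_iff' (1 : N)).mp hN2
      have e1 : (⟨n, hn⟩ : N) = w := hw _ (fun h' => h (congrArg Subtype.val h'))
      have e2 : (⟨z, hzN⟩ : N) = w := hw _ hz1'
      exact congrArg Subtype.val (e1.trans e2.symm)
  have hz2 : z * z = 1 := by
    have h : (⟨z, hzN⟩ : N) ^ Nat.card N = 1 := pow_card_eq_one'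
    rw [hN2] at h
    have := congrArg Subtype.val h
    rw [pow_two] at this
    exact this
  have hzc : ∀ g : G, g * z = z * g := by
    intro g
    have h := hN.conj_mem z hzN g
    rcases hmem _ h with h' | h'
    · exfalso
      apply hz1
      have : z = g⁻¹ * (g * z * g⁻¹) * g := by group
      rw [this, h']; group
    · calc g * z = g * z * g⁻¹ * g := by group
        _ = z * g := by rw [h']
  -- step 3: the quotient is A5
  have hcard : Nat.card G = Nat.card (G ⧸ N) * Nat.card N :=
    Subgroup.card_eq_card_quotient_mul_card_subgroup N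
  have hcQ : Nat.card (G ⧸ N) = 60 := by
    rw [hG, hN2] at hcard; omega
  have hsN : Group.IsSolvable N :=
    Cfsg.Agent.S3669.isSolvable_of_card_lt _ N rfl (by omega)
  have hnsQ : ¬ Group.IsSolvable (G ⧸ N) := fun h =>
    hns (Group.isSolvable_of_ker_le_range N.subtype (QuotientGroup.mk' N)
      (by rw [QuotientGroup.ker_mk', Subgroup.range_subtype]))
  have hsimpQ := simple_of_card_sixty hcQ hnsQ
  obtain ⟨e⟩ := Cfsg.Agent.S0494.result (G := G ⧸ N) hcQ
  obtain ⟨e0⟩ := Cfsg.Agent.S3377.result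
  let ψ : Cfsg.Agent.S3377.G ≃* (G ⧸ N) := e0.trans e.symm
  have hgenS : Subgroup.closure ({Cfsg.Agent.S3377.ga, Cfsg.Agent.S3377.gb} :
      Set Cfsg.Agent.S3377.G) = ⊤ := by
    rw [eq_top_iff, ← PresentedGroup.closure_range_of Cfsg.Agent.S3377.rels]
    apply Subgroup.closure_mono
    rintro _ ⟨i, rfl⟩
    fin_cases i
    · exact Set.mem_insert _ _
    · exact Set.mem_insert_of_mem _ rfl
  have ha3 : (ψ Cfsg.Agent.S3377.ga) ^ 3 = 1 := by
    rw [← map_pow, Cfsg.Agent.S3377.ga3, map_one]
  have hb5 : (ψ Cfsg.Agent.S3377.gb) ^ 5 = 1 := by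
    rw [← map_pow, Cfsg.Agent.S3377.gb5, map_one]
  have hab2 : (ψ Cfsg.Agent.S3377.ga * ψ Cfsg.Agent.S3377.gb) ^ 2 = 1 := by
    rw [← map_mul, ← map_pow, Cfsg.Agent.S3377.gab2, map_one]
  have hgenQ : Subgroup.closure ({ψ Cfsg.Agent.S3377.ga, ψ Cfsg.Agent.S3377.gb} :
      Set (G ⧸ N)) = ⊤ := by
    have h := MonoidHom.map_closure ψ.toMonoidHom
      ({Cfsg.Agent.S3377.ga, Cfsg.Agent.S3377.gb} : Set Cfsg.Agent.S3377.G)
    rw [hgenS, Subgroup.map_top_of_surjective _ ψ.surjective, Set.image_pair] at h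
    exact h.symm
  -- step 4: lifts
  obtain ⟨x, hx, hx3⟩ := adjust N z hz2 hzc hzN hmem 3 1 rfl _ ha3
  obtain ⟨y, hy, hy5⟩ := adjust N z hz2 hzc hzN hmem 5 2 rfl _ hb5
  have hπz : (QuotientGroup.mk' N) z = 1 := (QuotientGroup.eq_one_iff z).mpr hzN
  -- step 5: (xy)^2 = z
  have hxyN : (x * y) ^ 2 ∈ N := by
    rw [← QuotientGroup.eq_one_iff]
    have : ((QuotientGroup.mk' N) (x * y)) ^ 2 = 1 := by
      rw [map_mul, hx, hy]; exact hab2
    rw [← map_pow] at this
    exact this
  have hπxy : (QuotientGroup.mk' N) (x * y) ≠ 1 := by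
    intro h
    rw [map_mul, hx, hy] at h
    -- a * b = 1 with a^3 = 1, b^5 = 1 gives a = b = 1
    have hb : ψ Cfsg.Agent.S3377.gb = (ψ Cfsg.Agent.S3377.ga)⁻¹ := (inv_eq_of_mul_eq_one_right h).symm
    have ha5 : (ψ Cfsg.Agent.S3377.ga) ^ 5 = 1 := by
      have := hb5
      rw [hb, inv_pow, inv_eq_one] at this
      exact this
    have ha1 : ψ Cfsg.Agent.S3377.ga = 1 := by
      have h6 : (ψ Cfsg.Agent.S3377.ga) ^ 6 = 1 := by
        rw [show 6 = 3 * 2 from rfl, pow_mul, ha3, one_pow]
      have : (ψ Cfsg.Agent.S3377.ga) ^ 6 = (ψ Cfsg.Agent.S3377.ga) ^ 5 * ψ Cfsg.Agent.S3377.ga :=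
        pow_succ _ 5
      rw [h6, ha5, one_mul] at this
      exact this.symm
    have hb1 : ψ Cfsg.Agent.S3377.gb = 1 := by rw [hb, ha1, inv_one]
    rw [ha1, hb1] at hgenQ
    have hbot : Subgroup.closure ({1, 1} : Set (G ⧸ N)) = ⊥ := by
      rw [Set.pair_eq_singleton, Subgroup.closure_singleton_one]
    rw [hbot] at hgenQ
    have := Subgroup.card_bot (G := G ⧸ N)
    rw [hgenQ, Subgroup.card_top, hcQ] at this
    omega
  have hxyz : (x * y) ^ 2 = z := by
    rcases hmem _ hxyN with h | h
    · exfalso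
      have hu1 : x * y ≠ 1 := by
        intro h'
        apply hπxy
        rw [h', map_one]
      have hne : x * y ≠ z := by
        intro h'
        apply hπxy
        rw [h', hπz]
      rw [pow_two] at h
      exact hne (eq_of_commute_invol hQ (x * y) z hu1 hz1 h hz2 (hzc (x * y)))
    · exact h
  -- step 6: generation
  have hgen : Subgroup.closure ({x, y, z} : Set G) = ⊤ := by
    set M := Subgroup.closure ({x, y, z} : Set G) with hM
    have hxM : x ∈ M := Subgroup.subset_closure (Set.mem_insert _ _)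
    have hyM : y ∈ M := Subgroup.subset_closure (Set.mem_insert_of_mem _ (Set.mem_insert _ _))
    have hzM : z ∈ M :=
      Subgroup.subset_closure (Set.mem_insert_of_mem _ (Set.mem_insert_of_mem _ rfl))
    have hNM : N ≤ M := by
      intro n hn
      rcases hmem n hn with h | h
      · rw [h]; exact M.one_mem
      · rw [h]; exact hzM
    have hmap : M.map (QuotientGroup.mk' N) = ⊤ := by
      rw [eq_top_iff, ← hgenQ, Subgroup.closure_le]
      intro w hw
      simp only [Set.mem_insert_iff, Set.mem_singleton_iff] at hw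
      rcases hw with h | h
      · rw [h, ← hx]; exact Subgroup.mem_map_of_mem _ hxM
      · rw [h, ← hy]; exact Subgroup.mem_map_of_mem _ hyM
    rw [eq_top_iff]
    intro g _
    have hg : (QuotientGroup.mk' N) g ∈ M.map (QuotientGroup.mk' N) := by
      rw [hmap]; exact Subgroup.mem_top _
    obtain ⟨m, hmM, hmg⟩ := Subgroup.mem_map.mp hg
    have hmg' : m⁻¹ * g ∈ N := by
      rw [← QuotientGroup.eq]
      exact hmg
    have : g = m * (m⁻¹ * g) := by group
    rw [this]
    exact M.mul_mem hmM (hNM hmg')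
  -- step 7: the homomorphism from the presented group
  have hxz : x * z = z * x := hzc x
  have hyz : y * z = z * y := hzc y
  have hrel : ∀ r ∈ rels3, FreeGroup.lift ![x, y, z] r = 1 := by
    intro r hr
    simp only [rels3, Set.mem_insert_iff, Set.mem_singleton_iff] at hr
    rcases hr with rfl | rfl | rfl | rfl | rfl | rfl
    · rw [map_pow, FreeGroup.lift_apply_of]; exact hx3
    · rw [map_pow, FreeGroup.lift_apply_of]; exact hy5
    · rw [map_pow, FreeGroup.lift_apply_of, pow_two]; exact hz2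
    · rw [map_mul, map_mul, map_mul, map_inv, map_inv, FreeGroup.lift_apply_of,
        FreeGroup.lift_apply_of]
      change z⁻¹ * x * z * x⁻¹ = 1
      rw [mul_assoc z⁻¹, hxz, ← mul_assoc, inv_mul_cancel, one_mul, mul_inv_cancel]
    · rw [map_mul, map_mul, map_mul, map_inv, map_inv, FreeGroup.lift_apply_of,
        FreeGroup.lift_apply_of]
      change z⁻¹ * y * z * y⁻¹ = 1
      rw [mul_assoc z⁻¹, hyz, ← mul_assoc, inv_mul_cancel, one_mul, mul_inv_cancel]
    · rw [map_mul, map_pow, map_mul, map_inv, FreeGroup.lift_apply_of, FreeGroup.lift_apply_of,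
        FreeGroup.lift_apply_of]
      change (x * y) ^ 2 * z⁻¹ = 1
      rw [hxyz, mul_inv_cancel]
  let θ : Γ →* G := PresentedGroup.toGroup hrel
  have hθx : θ gx = x := PresentedGroup.toGroup.of hrel
  have hθy : θ gy = y := PresentedGroup.toGroup.of hrel
  have hθz : θ gz = z := PresentedGroup.toGroup.of hrel
  have hsurj : Function.Surjective θ := by
    rw [← MonoidHom.range_eq_top, eq_top_iff, ← hgen, Subgroup.closure_le]
    intro w hw
    simp only [Set.mem_insert_iff, Set.mem_singleton_iff] at hw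
    rcases hw with h | h | h
    · rw [h]; exact ⟨gx, hθx⟩
    · rw [h]; exact ⟨gy, hθy⟩
    · rw [h]; exact ⟨gz, hθz⟩
  have hbij : Function.Bijective θ :=
    hsurj.bijective_of_nat_card_le (by rw [card_Γ, hG])
  exact ⟨(MulEquiv.ofBijective θ hbij).symm.trans presented_equiv⟩

end Cfsg.Agent.Lib.Helper16.SL25Recog
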