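import Cfsg.Agent.Lib.Helper16.StCCB.Asm
import Cfsg.Agent.Lib.Helper20.StCCBB0
import Cfsg.Agent.Lib.Helper13.StCCBBM
import Cfsg.Agent.Lib.Helper9.StCCBBTSmall
import Cfsg.Agent.Lib.Helper9.StCCBBTE6
import Cfsg.Agent.Lib.Helper22.StCCBBTE78

set_option autoImplicit false

/-! Steinberg's Theorem 10, PART B: the lifts of a `RootLift` satisfy the commutator relations
(R2), for the seven types `G₂, B₂, D₄, F₄, E₆, E₇, E₈`. -/

namespace Cfsg.Agent.Lib.Helper14.StCC

open Cfsg.Lie Cfsg.Agent.Lib.Helper8.Chev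

variable {D : ChevalleyDatum} {K : Type*} [Field K] {Γ : Type*} [Group Γ] {E : Type*} [Group E]

/-- the shape table for the seven types (pieces [BT] of helper9 and helper22) -/
theorem B.Helper16.shapeP_all (hD : D ∈ [chevG2, chevB2, chevD4, chevF4, chevE6, chevE7, chevE8])
    {r s : ℕ} (hr : r < D.nroots) (hs : s < D.nroots) (h1 : s ≠ r) (h2 : s ≠ D.neg r) :
    B.ShapeP D r s := by
  simp only [List.mem_cons, List.not_mem_nil, or_false] at hD
  rcases hD with rfl | rfl | rfl | rfl | rfl | rfl | rfl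
  · exact B.shapeP_G2 hr hs h1 h2
  · exact B.shapeP_B2 hr hs h1 h2
  · exact B.shapeP_D4 hr hs h1 h2
  · exact B.shapeP_F4 hr hs h1 h2
  · exact B.shapeP_E6 hr hs h1 h2
  · exact B.Helper22.shapeP_E7 hr hs h1 h2
  · exact B.Helper22.shapeP_E8 hr hs h1 h2

/-- PART B: the lifts satisfy the commutator relations (R2). -/
theorem RootLift.comm (S : StRep D K Γ) (hK5 : ∃ s : Finset K, 4 < s.card)
    (ψ : E →* Γ) (hψ : Function.Surjective ψ) (hc : ψ.ker ≤ Subgroup.center E)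
    (L : RootLift S ψ) :
    ∀ r < D.nroots, ∀ s < D.nroots, s ≠ r → s ≠ D.neg r → ∀ t u : K,
      L.φ s u * L.φ r t = L.φ r t * L.φ s u * wS L.φ (D.commWord K r s t u) :=
  B.comm_main_of S hK5 ψ hψ hc L (fun _ _ hr hs h1 h2 => B.Helper16.shapeP_all S.hD hr hs h1 h2)
    (fun _ _ hr hs h1 h2 => B.exists_perp S.hD hr hs h1 h2)
    (fun m _ _ hr hs h1 h2 _ hc' => B.wt_commTerms S.hD m hr hs h1 h2 hc')

end Cfsg.Agent.Lib.Helper14.StCC
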