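import Mathlib

/-!
# Feit–Higman for (B,N)-pairs of rank 2 (S1142): shared definitions

The proof goes through the Hecke algebra of dihedral type: the chamber set `C = G ⧸ B` carries two
symmetric 0/1 matrices `A`, `B` (adjacency along the two kinds of panels) satisfying the quadratic and
braid relations; for every two-dimensional real representation `(r1, r2)` of these relations the
"Schur element" `schurSum` is `4 * card C / m` for a natural number `m` (the rank of an idempotent),
hence rational; evaluating `schurSum` on the explicit representations `rho1`, `rho2` and applying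
Niven's theorem forces `n ∈ {2, 3, 4, 6, 8}`.
-/

set_option autoImplicit false

namespace Cfsg.Agent.Lib.Helper16.FH

/-- alternating product `a * b * a * b * ⋯` with `k` factors, starting with `a`. -/
def alt {E : Type*} [Monoid E] (a b : E) : ℕ → E
  | 0 => 1
  | k + 1 => a * alt b a k

@[simp] theorem alt_zero {E : Type*} [Monoid E] (a b : E) : alt a b 0 = 1 := rfl

theorem alt_succ {E : Type*} [Monoid E] (a b : E) (k : ℕ) : alt a b (k + 1) = a * alt b a k := rfl

@[simp] theorem alt_one {E : Type*} [Monoid E] (a b : E) : alt a b 1 = a := by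
  simp [alt_succ]

theorem alt_two {E : Type*} [Monoid E] (a b : E) : alt a b 2 = a * b := by
  simp [alt_succ]

open Matrix

/-- Hecke data of dihedral type `I₂(n)` with parameters `p`, `q` on a finite set `C` of chambers:
two symmetric matrices satisfying the quadratic relations and the braid relation of length `n`, such
that the `2n` alternating products of length `≤ n` (the two of length `0` coincide, and so do the two of
length `n`) are pairwise orthogonal for the trace form `(X, Y) ↦ tr (X Yᵀ)`, with squared norms
`card C * (alternating product of the parameters)`. -/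
structure IsHeckeData {C : Type*} [Fintype C] [DecidableEq C] (n : ℕ) (p q : ℝ)
    (A B : Matrix C C ℝ) : Prop where
  symmA : Aᵀ = A
  symmB : Bᵀ = B
  quadA : A * A = p • (1 : Matrix C C ℝ) + (p - 1) • A
  quadB : B * B = q • (1 : Matrix C C ℝ) + (q - 1) • B
  braid : alt A B n = alt B A n
  orthAA : ∀ k l, k ≤ n → l ≤ n →
    (alt A B k * (alt A B l)ᵀ).trace = if k = l then (Fintype.card C : ℝ) * alt p q k else 0
  orthBB : ∀ k l, k ≤ n → l ≤ n →
    (alt B A k * (alt B A l)ᵀ).trace = if k = l then (Fintype.card C : ℝ) * alt q p k else 0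
  orthAB : ∀ k l, k ≤ n → l ≤ n →
    (alt A B k * (alt B A l)ᵀ).trace =
      if k = l ∧ (k = 0 ∨ k = n) then (Fintype.card C : ℝ) * alt p q k else 0

/-- The Schur element sum `∑_w χ(T_w)² / q_w` over the `2n` elements `w` of the dihedral group of order
`2n`, for the character `χ = tr ∘ ρ` of the representation `T₁ ↦ r1`, `T₂ ↦ r2`. -/
noncomputable def schurSum (n : ℕ) (p q : ℝ) (r1 r2 : Matrix (Fin 2) (Fin 2) ℝ) : ℝ :=
  4 + (∑ k ∈ Finset.Ico 1 n,
        ((alt r1 r2 k).trace ^ 2 / alt p q k + (alt r2 r1 k).trace ^ 2 / alt q p k))
    + (alt r1 r2 n).trace ^ 2 / alt p q n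

/-- the parameter `c = cos² θ` of the pair of projections -/
noncomputable def cpar (p q y : ℝ) : ℝ := (p + q + y) / ((p + 1) * (q + 1))

/-- image of the first generator in the two-dimensional representation -/
def rho1 (p : ℝ) : Matrix (Fin 2) (Fin 2) ℝ := !![p, 0; 0, -1]

/-- image of the second generator in the two-dimensional representation with parameter `y` -/
noncomputable def rho2 (p q y : ℝ) : Matrix (Fin 2) (Fin 2) ℝ :=
  !![(q + 1) * cpar p q y - 1, (q + 1) * Real.sqrt (cpar p q y * (1 - cpar p q y));
     (q + 1) * Real.sqrt (cpar p q y * (1 - cpar p q y)), q - (q + 1) * cpar p q y]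

/-- `y_j = 2 √(pq) cos (2πj/n)` -/
noncomputable def ypar (n j : ℕ) (p q : ℝ) : ℝ :=
  2 * Real.sqrt (p * q) * Real.cos (2 * Real.pi * j / n)

/-- `(pq + 1 - y)(p + q + y) / (4pq - y²)`; the Schur element of the representation with parameter `y`
is `n` times this. -/
noncomputable def rpar (p q y : ℝ) : ℝ := (p * q + 1 - y) * (p + q + y) / (4 * p * q - y ^ 2)

end Cfsg.Agent.Lib.Helper16.FH
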