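import Mathlib
import Cfsg.Prelude.Def_Transfer
import Cfsg.Prelude.Def_CaseTheorems
import Cfsg.Agent.Lib.Helper1.Extraspecial
import Cfsg.Agent.Lib.Helper1.ExtraspecialIso
import Cfsg.Agent.Lib.Helper1.ClassTwo
import Cfsg.Agent.Lib.Helper1.Frattini
import Cfsg.Agent.Lib.Helper1.NormalElemAb
import Cfsg.Agent.Lib.Helper10.UniqueOrderP
import Cfsg.Agent.Lib.Helper4.CSC9

/-!
# P. Hall's theorem on `p`-groups all of whose characteristic abelian subgroups are cyclic

Such a group is a central product `E ∗ R` with `E` trivial or extraspecial and `R` cyclic, or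
`p = 2` and `R` dihedral, generalized quaternion or quasi-dihedral of order at least `16`.
-/

set_option autoImplicit false
set_option linter.unusedVariables false
set_option linter.unusedSectionVars false
set_option linter.deprecated false
set_option linter.style.haveILetI false

open Subgroup
open scoped commutatorElement

namespace Cfsg.Agent.Lib.Helper16.SympType

variable {G : Type*} [Group G]

/-! ### Generalities -/

theorem exists_mul_of_mem_sup' {A B : Subgroup G} (hc : ∀ a ∈ A, ∀ b ∈ B, a * b = b * a) {x : G}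
    (hx : x ∈ A ⊔ B) : ∃ a ∈ A, ∃ b ∈ B, x = a * b := by
  have hcm : ∀ (m : ↥A) (n : ↥B), Commute (A.subtype m) (B.subtype n) := fun a b => hc a a.2 b b.2
  have hr := MonoidHom.noncommCoprod_range A.subtype B.subtype hcm
  rw [Subgroup.range_subtype, Subgroup.range_subtype] at hr
  rw [← hr] at hx
  obtain ⟨⟨a, b⟩, rfl⟩ := hx
  exact ⟨a, a.2, b, b.2, by simp [MonoidHom.noncommCoprod_apply]⟩

theorem commEl_mem (H : Subgroup G) {a b : G} (ha : a ∈ H) (hb : b ∈ H) : ⁅a, b⁆ ∈ H := by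
  rw [commutatorElement_def]
  exact H.mul_mem (H.mul_mem (H.mul_mem ha hb) (H.inv_mem ha)) (H.inv_mem hb)

/-- a proper subgroup of a subgroup of a `p`-group has index at least `p` -/
theorem p_mul_card_le [Finite G] {p : ℕ} [Fact p.Prime] (hG : IsPGroup p G) {H K : Subgroup G}
    (hHK : H ≤ K) (hne : ¬ K ≤ H) : p * Nat.card H ≤ Nat.card K := by
  have hp : p.Prime := Fact.out
  obtain ⟨n, hn⟩ := (hG.to_subgroup K).index (H.subgroupOf K)
  have h1 := Subgroup.card_mul_index (H.subgroupOf K)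
  rw [Nat.card_congr (Subgroup.subgroupOfEquivOfLe hHK).toEquiv, hn] at h1
  have hn0 : n ≠ 0 := by
    rintro rfl
    rw [pow_zero, Subgroup.index_eq_one, Subgroup.subgroupOf_eq_top] at hn
    exact hne hn
  have h2 : p ≤ p ^ n := Nat.le_self_pow hn0 p
  calc p * Nat.card H ≤ p ^ n * Nat.card H := Nat.mul_le_mul_right _ h2
    _ = Nat.card K := by rw [mul_comm]; exact h1

/-! ### The subgroups `Z0 = Ω₁(Z(G))` and `T` -/

/-- `Ω₁` of the centre -/
def Z0 (p : ℕ) (G : Type*) [Group G] : Subgroup G where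
  carrier := {x | x ∈ center G ∧ x ^ p = 1}
  one_mem' := ⟨Subgroup.one_mem _, one_pow _⟩
  mul_mem' := by
    rintro a b ⟨ha, hap⟩ ⟨hb, hbp⟩
    refine ⟨Subgroup.mul_mem _ ha hb, ?_⟩
    have hc : Commute a b := Subgroup.mem_center_iff.mp hb a
    rw [hc.mul_pow, hap, hbp, one_mul]
  inv_mem' := by
    rintro a ⟨ha, hap⟩
    exact ⟨Subgroup.inv_mem _ ha, by rw [inv_pow, hap, inv_one]⟩

theorem mem_Z0_iff {p : ℕ} {x : G} : x ∈ Z0 p G ↔ x ∈ center G ∧ x ^ p = 1 := Iff.rfl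

theorem Z0_center {p : ℕ} {x : G} (hx : x ∈ Z0 p G) : x ∈ center G := (mem_Z0_iff.mp hx).1

theorem Z0_pow {p : ℕ} {x : G} (hx : x ∈ Z0 p G) : x ^ p = 1 := (mem_Z0_iff.mp hx).2

theorem Z0_comm {p : ℕ} {x : G} (hx : x ∈ Z0 p G) (g : G) : g * x = x * g :=
  Subgroup.mem_center_iff.mp (Z0_center hx) g

/-- elements of order dividing `p` modulo `Z0` that are central modulo `Z0` -/
def symT (p : ℕ) (G : Type*) [Group G] : Subgroup G where
  carrier := {x | x ^ p ∈ Z0 p G ∧ ∀ g : G, ⁅x, g⁆ ∈ Z0 p G}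
  one_mem' := by
    refine ⟨?_, fun g => ?_⟩
    · rw [one_pow]; exact Subgroup.one_mem _
    · rw [commutatorElement_one_left]; exact Subgroup.one_mem _
  mul_mem' := by
    rintro a b ⟨hap, hac⟩ ⟨hbp, hbc⟩
    refine ⟨?_, fun g => ?_⟩
    · have hba : ⁅b, a⁆ ∈ Z0 p G := hbc a
      have h1 : ⁅b, a⁆ * a = a * ⁅b, a⁆ := (Z0_comm hba a).symm
      have h2 : ⁅b, a⁆ * b = b * ⁅b, a⁆ := (Z0_comm hba b).symm
      rw [Cfsg.Agent.Lib.Helper1.mul_pow_of_commutator_central h1 h2 p]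
      exact Subgroup.mul_mem _ (Subgroup.mul_mem _ hap hbp) (Subgroup.pow_mem _ hba _)
    · have e : ⁅a * b, g⁆ = a * ⁅b, g⁆ * a⁻¹ * ⁅a, g⁆ := by
        simp only [commutatorElement_def]; group
      have e2 : a * ⁅b, g⁆ * a⁻¹ = ⁅b, g⁆ := by
        rw [Z0_comm (hbc g) a]; group
      rw [e, e2]
      exact Subgroup.mul_mem _ (hbc g) (hac g)
  inv_mem' := by
    rintro a ⟨hap, hac⟩
    refine ⟨?_, fun g => ?_⟩
    · rw [inv_pow]; exact Subgroup.inv_mem _ hap
    · have e : ⁅a⁻¹, g⁆ = a⁻¹ * ⁅a, g⁆⁻¹ * a := by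
        simp only [commutatorElement_def]; group
      have hinv : ⁅a, g⁆⁻¹ ∈ Z0 p G := Subgroup.inv_mem _ (hac g)
      have e2 : a⁻¹ * ⁅a, g⁆⁻¹ * a = ⁅a, g⁆⁻¹ := by
        rw [Z0_comm hinv a⁻¹]; group
      rw [e, e2]
      exact hinv

theorem mem_symT_iff {p : ℕ} {x : G} :
    x ∈ symT p G ↔ x ^ p ∈ Z0 p G ∧ ∀ g : G, ⁅x, g⁆ ∈ Z0 p G := Iff.rfl

theorem symT_pow {p : ℕ} {x : G} (hx : x ∈ symT p G) : x ^ p ∈ Z0 p G := (mem_symT_iff.mp hx).1

theorem symT_comm {p : ℕ} {x : G} (hx : x ∈ symT p G) (g : G) : ⁅x, g⁆ ∈ Z0 p G :=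
  (mem_symT_iff.mp hx).2 g

theorem Z0_le_symT (p : ℕ) : Z0 p G ≤ symT p G := by
  intro x hx
  refine mem_symT_iff.mpr ⟨?_, fun g => ?_⟩
  · rw [Z0_pow hx]; exact Subgroup.one_mem _
  · have h1 : ⁅x, g⁆ = 1 := by
      rw [commutatorElement_eq_one_iff_commute]
      exact (Z0_comm hx g).symm
    rw [h1]; exact Subgroup.one_mem _

theorem Z0_map_mem (p : ℕ) (ϕ : G ≃* G) {x : G} (hx : x ∈ Z0 p G) : ϕ x ∈ Z0 p G := by
  refine mem_Z0_iff.mpr ⟨?_, ?_⟩
  · rw [Subgroup.mem_center_iff]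
    intro g
    have h := Z0_comm hx (ϕ.symm g)
    have h2 := congrArg ϕ h
    simpa using h2
  · rw [← map_pow, Z0_pow hx, map_one]

theorem symT_characteristic (p : ℕ) : (symT p G).Characteristic := by
  rw [Subgroup.characteristic_iff_le_comap]
  intro ϕ x hx
  rw [Subgroup.mem_comap]
  change ϕ x ∈ symT p G
  refine mem_symT_iff.mpr ⟨?_, fun g => ?_⟩
  · rw [← map_pow]; exact Z0_map_mem p ϕ (symT_pow hx)
  · have h := Z0_map_mem p ϕ (symT_comm hx (ϕ.symm g))
    rw [map_commutatorElement, MulEquiv.apply_symm_apply] at h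
    exact h

/-- the centre of `T` -/
def symZT (p : ℕ) (G : Type*) [Group G] : Subgroup G :=
  symT p G ⊓ centralizer (symT p G : Set G)

theorem mem_symZT_iff {p : ℕ} {x : G} :
    x ∈ symZT p G ↔ x ∈ symT p G ∧ x ∈ centralizer (symT p G : Set G) := Subgroup.mem_inf

theorem symZT_characteristic (p : ℕ) : (symZT p G).Characteristic := by
  have hT : (symT p G).Characteristic := symT_characteristic p
  have hC : (centralizer (symT p G : Set G)).Characteristic := inferInstance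
  rw [Subgroup.characteristic_iff_le_comap] at hT hC ⊢
  intro ϕ x hx
  obtain ⟨h1, h2⟩ := mem_symZT_iff.mp hx
  rw [Subgroup.mem_comap]
  exact mem_symZT_iff.mpr ⟨Subgroup.mem_comap.mp (hT ϕ h1), Subgroup.mem_comap.mp (hC ϕ h2)⟩

theorem symZT_comm (p : ℕ) : IsMulCommutative ↥(symZT p G) := by
  refine ⟨⟨fun a b => Subtype.ext ?_⟩⟩
  have ha := (mem_symZT_iff.mp a.2).2
  have hb := (mem_symZT_iff.mp b.2).1
  exact (Subgroup.mem_centralizer_iff.mp ha b.1 hb).symm

theorem Z0_le_symZT (p : ℕ) : Z0 p G ≤ symZT p G := by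
  intro x hx
  refine mem_symZT_iff.mpr ⟨Z0_le_symT p hx, ?_⟩
  rw [Subgroup.mem_centralizer_iff]
  intro h _
  exact Z0_comm hx h

/-! ### Consequences of the hypothesis -/

section Hyp

variable [Finite G] {p : ℕ} [Fact p.Prime]

theorem mem_zpowers_of_mem_Z0
    (hsymp : ∀ A : Subgroup G, A.Characteristic → IsMulCommutative A → IsCyclic A)
    {c x : G} (hc : c ∈ Z0 p G) (hc1 : c ≠ 1) (hx : x ∈ Z0 p G) : x ∈ zpowers c := by
  have hcyc : IsCyclic ↥(center G) := hsymp _ inferInstance inferInstance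
  apply Helper10.mem_zpowers_of_orderOf_dvd' (center G) hcyc (Z0_center hx) (Z0_center hc)
  rw [orderOf_eq_prime (Z0_pow hc) hc1]
  exact orderOf_dvd_of_pow_eq_one (Z0_pow hx)

theorem Z0_eq_zpowers
    (hsymp : ∀ A : Subgroup G, A.Characteristic → IsMulCommutative A → IsCyclic A)
    {c : G} (hc : c ∈ Z0 p G) (hc1 : c ≠ 1) : Z0 p G = zpowers c :=
  le_antisymm (fun x hx => mem_zpowers_of_mem_Z0 hsymp hc hc1 hx) (Subgroup.zpowers_le.mpr hc)

theorem card_Z0
    (hsymp : ∀ A : Subgroup G, A.Characteristic → IsMulCommutative A → IsCyclic A)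
    {c : G} (hc : c ∈ Z0 p G) (hc1 : c ≠ 1) : Nat.card (Z0 p G) = p := by
  rw [Z0_eq_zpowers hsymp hc hc1, Nat.card_zpowers, orderOf_eq_prime (Z0_pow hc) hc1]

theorem exists_Z0_ne_one (hG : IsPGroup p G) [Nontrivial G] : ∃ c ∈ Z0 p G, c ≠ 1 := by
  have hp : p.Prime := Fact.out
  haveI := hG.center_nontrivial
  have hZ : IsPGroup p (center G) := hG.to_subgroup _
  rcases hZ.card_eq_or_dvd with h1 | hdvd
  · exfalso
    have h2 : 1 < Nat.card (center G) := Finite.one_lt_card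
    omega
  · obtain ⟨x, hx⟩ := exists_prime_orderOf_dvd_card' p hdvd
    refine ⟨x.1, mem_Z0_iff.mpr ⟨x.2, ?_⟩, ?_⟩
    · have h2 := pow_orderOf_eq_one x
      rw [hx] at h2
      have h3 := congrArg Subtype.val h2
      simpa using h3
    · intro h
      have h2 : x = 1 := Subtype.ext h
      rw [h2, orderOf_one] at hx
      exact hp.one_lt.ne hx

theorem mem_Z0_of_mem_symZT (hG : IsPGroup p G)
    (hsymp : ∀ A : Subgroup G, A.Characteristic → IsMulCommutative A → IsCyclic A)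
    {a : G} (ha : a ∈ symZT p G) (hap : a ^ p = 1) : a ∈ Z0 p G := by
  by_cases ha1 : a = 1
  · rw [ha1]; exact Subgroup.one_mem _
  haveI : Nontrivial G := ⟨⟨a, 1, ha1⟩⟩
  obtain ⟨c, hc, hc1⟩ := exists_Z0_ne_one (p := p) hG
  have hcZT : c ∈ symZT p G := Z0_le_symZT p hc
  have hcyc : IsCyclic ↥(symZT p G) := hsymp _ (symZT_characteristic p) (symZT_comm p)
  have h := Helper10.mem_zpowers_of_orderOf_dvd' (symZT p G) hcyc ha hcZT
    (by rw [orderOf_eq_prime hap ha1, orderOf_eq_prime (Z0_pow hc) hc1])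
  exact (Subgroup.zpowers_le.mpr hc) h

/-- injective images landing in `Z0` on elements of order `p` have the unique-order-`p`
property -/
theorem uop_of_inj
    (hsymp : ∀ A : Subgroup G, A.Characteristic → IsMulCommutative A → IsCyclic A)
    {H : Type*} [Group H] (f : H →* G) (hf : Function.Injective f)
    (hΩ : ∀ x : H, x ^ p = 1 → f x ∈ Z0 p G) : Helper10.UniqueOrderP p H := by
  intro x y hx hx1 hy
  have hfx1 : f x ≠ 1 := fun h0 => hx1 (hf (by rw [h0, map_one]))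
  have h1 := mem_zpowers_of_mem_Z0 hsymp (hΩ x hx) hfx1 (hΩ y hy)
  obtain ⟨k, hk⟩ := Subgroup.mem_zpowers_iff.mp h1
  refine Subgroup.mem_zpowers_iff.mpr ⟨k, hf ?_⟩
  rw [map_zpow]; exact hk

theorem sup_Z0_comm (x : G) : ∀ a ∈ zpowers x ⊔ Z0 p G, ∀ b ∈ zpowers x ⊔ Z0 p G,
    a * b = b * a := by
  have hc : ∀ u ∈ zpowers x, ∀ z ∈ Z0 p G, u * z = z * u := fun u _ z hz => Z0_comm hz u
  intro a ha b hb
  obtain ⟨u, hu, z1, hz1, rfl⟩ := exists_mul_of_mem_sup' hc ha
  obtain ⟨v, hv, z2, hz2, rfl⟩ := exists_mul_of_mem_sup' hc hb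
  obtain ⟨i, rfl⟩ := Subgroup.mem_zpowers_iff.mp hu
  obtain ⟨j, rfl⟩ := Subgroup.mem_zpowers_iff.mp hv
  have huv : Commute (x ^ i) (x ^ j) := Commute.zpow_zpow_self x i j
  have hz1c : ∀ g : G, Commute z1 g := fun g => (Z0_comm hz1 g).symm
  have hz2c : ∀ g : G, Commute g z2 := fun g => Z0_comm hz2 g
  exact ((huv.mul_right (hz2c _)).mul_left (hz1c _)).eq

/-! ### Extraspecial subgroups of `T` -/

/-- `X ≤ T` with centre inside `Z0`, trivial or nonabelian -/
structure IsES (p : ℕ) (X : Subgroup G) : Prop where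
  le_T : X ≤ symT p G
  cent : X ⊓ centralizer (X : Set G) ≤ Z0 p G
  nonab : X = ⊥ ∨ ∃ a ∈ X, ∃ b ∈ X, ⁅a, b⁆ ≠ 1

theorem isES_bot (p : ℕ) : IsES p (⊥ : Subgroup G) :=
  ⟨bot_le, le_trans inf_le_left bot_le, Or.inl rfl⟩

theorem isExtraspecial_of_isES (hG : IsPGroup p G)
    (hsymp : ∀ A : Subgroup G, A.Characteristic → IsMulCommutative A → IsCyclic A)
    {X : Subgroup G} (hX : IsES p X) {a b : G} (ha : a ∈ X) (hb : b ∈ X) (hab : ⁅a, b⁆ ≠ 1) :
    Cfsg.IsExtraspecial p ↥X := by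
  have hXT := hX.le_T
  have hXZ := hX.cent
  have hcZ : ⁅a, b⁆ ∈ Z0 p G := symT_comm (hXT ha) b
  have hcX : ⁅a, b⁆ ∈ X := commEl_mem X ha hb
  have hZeq : Z0 p G = zpowers ⁅a, b⁆ := Z0_eq_zpowers hsymp hcZ hab
  have hZcard : Nat.card (Z0 p G) = p := card_Z0 hsymp hcZ hab
  have hZX : Z0 p G ≤ X := by rw [hZeq]; exact Subgroup.zpowers_le.mpr hcX
  have hcenter : ∀ z : ↥X, z ∈ center ↥X ↔ (z : G) ∈ Z0 p G := by
    intro z
    constructor
    · intro hz
      apply hXZ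
      refine Subgroup.mem_inf.mpr ⟨z.2, Subgroup.mem_centralizer_iff.mpr fun g hg => ?_⟩
      have h1 := Subgroup.mem_center_iff.mp hz ⟨g, hg⟩
      exact congrArg Subtype.val h1
    · intro hz
      rw [Subgroup.mem_center_iff]
      intro g
      exact Subtype.ext (Z0_comm hz g.1)
  have hcentercard : Nat.card (center ↥X) = p := by
    have e : center ↥X = (Z0 p G).subgroupOf X := by
      ext z
      rw [hcenter z, Subgroup.mem_subgroupOf]
    rw [e, Nat.card_congr (Subgroup.subgroupOfEquivOfLe hZX).toEquiv, hZcard]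
  have hPX : IsPGroup p ↥X := hG.to_subgroup X
  have hcomm_le : commutator ↥X ≤ center ↥X := by
    rw [_root_.commutator_def, Subgroup.commutator_le]
    intro x _ y _
    rw [hcenter]
    exact symT_comm (hXT x.2) y
  have hcenter_le : center ↥X ≤ commutator ↥X := by
    intro z hz
    have hz' := (hcenter z).mp hz
    rw [hZeq] at hz'
    obtain ⟨k, hk⟩ := Subgroup.mem_zpowers_iff.mp hz'
    have h1 : z = ⁅(⟨a, ha⟩ : ↥X), ⟨b, hb⟩⁆ ^ k := by
      apply Subtype.ext
      rw [Subgroup.coe_zpow]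
      exact hk.symm
    rw [h1]
    apply Subgroup.zpow_mem
    rw [_root_.commutator_def]
    exact Subgroup.commutator_mem_commutator (Subgroup.mem_top _) (Subgroup.mem_top _)
  have hcomm_eq : commutator ↥X = center ↥X := le_antisymm hcomm_le hcenter_le
  have hfrat : frattini ↥X = center ↥X := by
    apply le_antisymm
    · apply Helper1.frattini_le_of_commutator_le_of_pow_mem (p := p) _ hcomm_le
      intro x
      rw [hcenter, Subgroup.coe_pow]
      exact symT_pow (hXT x.2)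
    · rw [← hcomm_eq]; exact Helper1.IsPGroup.commutator_le_frattini hPX
  exact ⟨⟨hPX, hfrat, hcomm_eq⟩, hcentercard⟩

/-- the centre of a nonabelian two-generator subgroup of `T` -/
theorem center_closure_pair (hG : IsPGroup p G)
    (hsymp : ∀ A : Subgroup G, A.Characteristic → IsMulCommutative A → IsCyclic A)
    {b r : G} (hb : b ∈ symT p G) (hr : r ∈ symT p G) (hbr : ⁅b, r⁆ ≠ 1) {u : G}
    (hu : u ∈ closure ({b, r} : Set G)) (hub : u * b = b * u) (hur : u * r = r * u) :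
    u ∈ Z0 p G := by
  have hp : p.Prime := Fact.out
  have hcZ : ⁅b, r⁆ ∈ Z0 p G := symT_comm hb r
  have hZeq := Z0_eq_zpowers hsymp hcZ hbr
  have hZcard := card_Z0 hsymp hcZ hbr
  have hbK : b ∈ closure ({b, r} : Set G) := subset_closure (by simp)
  have hrK : r ∈ closure ({b, r} : Set G) := subset_closure (by simp)
  have hKcard : Nat.card (closure ({b, r} : Set G)) ≤ p ^ 3 := by
    apply Helper1.ExtraspecialIso.card_closure_pair_le b r p hp.pos
    · exact (Z0_comm hcZ b).symm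
    · exact (Z0_comm hcZ r).symm
    · exact Z0_pow hcZ
    · rw [← hZeq]; exact symT_pow hb
    · rw [← hZeq]; exact symT_pow hr
  have h1 : p * Nat.card (closure ({b, r} : Set G) ⊓ centralizer {b} : Subgroup G) ≤
      Nat.card (closure ({b, r} : Set G)) := by
    apply p_mul_card_le hG inf_le_left
    intro hle
    have h2 := (Subgroup.mem_inf.mp (hle hrK)).2
    rw [Subgroup.mem_centralizer_iff] at h2
    have h3 := h2 b (Set.mem_singleton b)
    apply hbr
    rw [commutatorElement_eq_one_iff_commute]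
    exact h3
  have h2 : p * Nat.card (closure ({b, r} : Set G) ⊓ centralizer {b} ⊓ centralizer {r} :
      Subgroup G) ≤ Nat.card (closure ({b, r} : Set G) ⊓ centralizer {b} : Subgroup G) := by
    apply p_mul_card_le hG inf_le_left
    intro hle
    have hb1 : b ∈ closure ({b, r} : Set G) ⊓ centralizer {b} :=
      Subgroup.mem_inf.mpr ⟨hbK, Subgroup.mem_centralizer_iff.mpr
        (fun h hh => by rw [Set.mem_singleton_iff.mp hh])⟩
    have h2 := (Subgroup.mem_inf.mp (hle hb1)).2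
    rw [Subgroup.mem_centralizer_iff] at h2
    have h3 := h2 r (Set.mem_singleton r)
    apply hbr
    rw [commutatorElement_eq_one_iff_commute]
    exact h3.symm
  have h3 : Nat.card (closure ({b, r} : Set G) ⊓ centralizer {b} ⊓ centralizer {r} :
      Subgroup G) ≤ p := by
    have hpp : 0 < p := hp.pos
    have h4 : p * (p * Nat.card (closure ({b, r} : Set G) ⊓ centralizer {b} ⊓ centralizer {r} :
        Subgroup G)) ≤ p * (p * p) := by
      calc p * (p * Nat.card (closure ({b, r} : Set G) ⊓ centralizer {b} ⊓ centralizer {r} :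
            Subgroup G))
          ≤ p * Nat.card (closure ({b, r} : Set G) ⊓ centralizer {b} : Subgroup G) :=
            Nat.mul_le_mul_left _ h2
        _ ≤ Nat.card (closure ({b, r} : Set G)) := h1
        _ ≤ p ^ 3 := hKcard
        _ = p * (p * p) := by ring
    exact Nat.le_of_mul_le_mul_left (Nat.le_of_mul_le_mul_left h4 hpp) hpp
  have hZle : Z0 p G ≤ closure ({b, r} : Set G) ⊓ centralizer {b} ⊓ centralizer {r} := by
    intro z hz
    refine Subgroup.mem_inf.mpr ⟨Subgroup.mem_inf.mpr ⟨?_, ?_⟩, ?_⟩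
    · rw [hZeq] at hz
      exact (Subgroup.zpowers_le.mpr (commEl_mem _ hbK hrK)) hz
    · rw [Subgroup.mem_centralizer_iff]
      intro h _
      exact Z0_comm hz h
    · rw [Subgroup.mem_centralizer_iff]
      intro h _
      exact Z0_comm hz h
  have heq : Z0 p G = closure ({b, r} : Set G) ⊓ centralizer {b} ⊓ centralizer {r} :=
    Subgroup.eq_of_le_of_card_ge hZle (by rw [hZcard]; exact h3)
  rw [heq]
  refine Subgroup.mem_inf.mpr ⟨Subgroup.mem_inf.mpr ⟨hu, ?_⟩, ?_⟩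
  · rw [Subgroup.mem_centralizer_iff]
    intro h hh
    rw [Set.mem_singleton_iff.mp hh]
    exact hub.symm
  · rw [Subgroup.mem_centralizer_iff]
    intro h hh
    rw [Set.mem_singleton_iff.mp hh]
    exact hur.symm

/-- enlarging an `IsES` subgroup by a noncommuting pair from `T ∩ C(E)` -/
theorem isES_sup (hG : IsPGroup p G)
    (hsymp : ∀ A : Subgroup G, A.Characteristic → IsMulCommutative A → IsCyclic A)
    {E : Subgroup G} (hE : IsES p E) {b r : G} (hbT : b ∈ symT p G) (hrT : r ∈ symT p G)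
    (hbC : b ∈ centralizer (E : Set G)) (hrC : r ∈ centralizer (E : Set G))
    (hbr : ⁅b, r⁆ ≠ 1) : IsES p (E ⊔ closure ({b, r} : Set G)) := by
  have hET := hE.le_T
  have hEZ := hE.cent
  have hbK : b ∈ closure ({b, r} : Set G) := subset_closure (by simp)
  have hrK : r ∈ closure ({b, r} : Set G) := subset_closure (by simp)
  have hKT : closure ({b, r} : Set G) ≤ symT p G := by
    rw [Subgroup.closure_le]
    intro x hx
    rw [Set.mem_insert_iff, Set.mem_singleton_iff] at hx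
    rcases hx with h | h
    · rw [h]; exact hbT
    · rw [h]; exact hrT
  have hKC : closure ({b, r} : Set G) ≤ centralizer (E : Set G) := by
    rw [Subgroup.closure_le]
    intro x hx
    rw [Set.mem_insert_iff, Set.mem_singleton_iff] at hx
    rcases hx with h | h
    · rw [h]; exact hbC
    · rw [h]; exact hrC
  have hcomm : ∀ e ∈ E, ∀ k ∈ closure ({b, r} : Set G), e * k = k * e := by
    intro e he k hk
    exact Subgroup.mem_centralizer_iff.mp (hKC hk) e he
  refine ⟨sup_le hET hKT, ?_,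
    Or.inr ⟨b, Subgroup.mem_sup_right hbK, r, Subgroup.mem_sup_right hrK, hbr⟩⟩
  intro x hx
  obtain ⟨hx1, hx2⟩ := Subgroup.mem_inf.mp hx
  rw [Subgroup.mem_centralizer_iff] at hx2
  obtain ⟨e, he, k, hk, rfl⟩ := exists_mul_of_mem_sup' hcomm hx1
  have heZ : e ∈ Z0 p G := by
    apply hEZ
    refine Subgroup.mem_inf.mpr ⟨he, Subgroup.mem_centralizer_iff.mpr fun e' he' => ?_⟩
    have h1 := hx2 e' (Subgroup.mem_sup_left he')
    have h2 := hcomm e' he' k hk
    have h3 : e' * e * k = e * e' * k := by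
      calc e' * e * k = e' * (e * k) := mul_assoc _ _ _
        _ = e * k * e' := h1
        _ = e * (k * e') := mul_assoc _ _ _
        _ = e * (e' * k) := by rw [h2]
        _ = e * e' * k := (mul_assoc _ _ _).symm
    exact mul_right_cancel h3
  have hkcomm : ∀ w ∈ closure ({b, r} : Set G), k * w = w * k := by
    intro w hw
    have h1 := hx2 w (Subgroup.mem_sup_right hw)
    have h2 := Z0_comm heZ w
    have h3 : e * (w * k) = e * (k * w) := by
      calc e * (w * k) = e * w * k := (mul_assoc _ _ _).symm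
        _ = w * e * k := by rw [h2]
        _ = w * (e * k) := mul_assoc _ _ _
        _ = e * k * w := h1
        _ = e * (k * w) := mul_assoc _ _ _
    exact (mul_left_cancel h3).symm
  have hkZ : k ∈ Z0 p G :=
    center_closure_pair hG hsymp hbT hrT hbr hk (hkcomm b hbK) (hkcomm r hrK)
  exact Subgroup.mul_mem _ heZ hkZ

/-! ### The decomposition -/

/-- the properties of the pair `(E, C_G(E))` used to analyse `R = C_G(E)` -/
structure Decomp (p : ℕ) (E R : Subgroup G) : Prop where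
  comm : ∀ e ∈ E, ∀ r ∈ R, e * r = r * e
  sup_eq : E ⊔ R = ⊤
  le_T : E ≤ symT p G
  ab : ∀ b ∈ symT p G, b ∈ R → ∀ r ∈ symT p G, r ∈ R → ⁅b, r⁆ = 1
  Z0_le : Z0 p G ≤ R

variable {E R : Subgroup G}

theorem Decomp.exists_mul (h : Decomp p E R) (g : G) : ∃ e ∈ E, ∃ r ∈ R, g = e * r := by
  have hg : g ∈ E ⊔ R := by rw [h.sup_eq]; exact Subgroup.mem_top g
  exact exists_mul_of_mem_sup' h.comm hg

theorem Decomp.TR_le_ZT (h : Decomp p E R) {a : G} (haT : a ∈ symT p G) (haR : a ∈ R) :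
    a ∈ symZT p G := by
  refine mem_symZT_iff.mpr ⟨haT, Subgroup.mem_centralizer_iff.mpr fun t ht => ?_⟩
  obtain ⟨e, he, r, hr, rfl⟩ := h.exists_mul t
  have hrT : r ∈ symT p G := by
    have h1 : r = e⁻¹ * (e * r) := by group
    rw [h1]; exact Subgroup.mul_mem _ (Subgroup.inv_mem _ (h.le_T he)) ht
  have h1 : ⁅a, r⁆ = 1 := h.ab a haT haR r hrT hr
  rw [commutatorElement_eq_one_iff_commute] at h1
  have h2 : e * a = a * e := h.comm e he a haR
  calc e * r * a = e * (r * a) := mul_assoc _ _ _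
    _ = e * (a * r) := by rw [h1.eq]
    _ = e * a * r := (mul_assoc _ _ _).symm
    _ = a * e * r := by rw [h2]
    _ = a * (e * r) := mul_assoc _ _ _

/-- an element commuting with `E` and `R` is central -/
theorem Decomp.mem_center (h : Decomp p E R) {w : G} (hw : w ∈ R)
    (hwz : ∀ z ∈ R, z * w = w * z) : w ∈ center G := by
  rw [Subgroup.mem_center_iff]
  intro g
  obtain ⟨e', he', r, hr, rfl⟩ := h.exists_mul g
  have h1 := h.comm e' he' w hw
  have h2 := hwz r hr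
  calc e' * r * w = e' * (r * w) := mul_assoc _ _ _
    _ = e' * (w * r) := by rw [h2]
    _ = e' * w * r := (mul_assoc _ _ _).symm
    _ = w * e' * r := by rw [h1]
    _ = w * (e' * r) := mul_assoc _ _ _

/-- commutators with `R`-elements only see the `R`-component -/
theorem Decomp.commEl_eq (h : Decomp p E R) {x : G} (hx : x ∈ R) {e' r : G} (he' : e' ∈ E)
    (hr : r ∈ R) : ⁅x, e' * r⁆ = ⁅x, r⁆ := by
  have hc1 : e' * x = x * e' := h.comm e' he' x hx
  have hc3 : e' * ⁅x, r⁆ = ⁅x, r⁆ * e' := h.comm e' he' _ (commEl_mem R hx hr)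
  calc ⁅x, e' * r⁆ = (x * e') * r * x⁻¹ * r⁻¹ * e'⁻¹ := by
        simp only [commutatorElement_def]; group
    _ = (e' * x) * r * x⁻¹ * r⁻¹ * e'⁻¹ := by rw [hc1]
    _ = e' * ⁅x, r⁆ * e'⁻¹ := by simp only [commutatorElement_def]; group
    _ = ⁅x, r⁆ * e' * e'⁻¹ := by rw [hc3]
    _ = ⁅x, r⁆ := by group

/-- the elements of order `p` of an abelian subgroup of `R` normalised by `R` lie in `Z0` -/
theorem Decomp.omega_le (hG : IsPGroup p G)
    (hsymp : ∀ A : Subgroup G, A.Characteristic → IsMulCommutative A → IsCyclic A)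
    (h : Decomp p E R) (B : Subgroup G) (hBR : B ≤ R)
    (hBn : ∀ r ∈ R, ∀ x ∈ B, r * x * r⁻¹ ∈ B) (hBab : ∀ x ∈ B, ∀ y ∈ B, x * y = y * x) :
    ∀ x ∈ B, x ^ p = 1 → x ∈ Z0 p G := by
  let Ω : Subgroup G :=
    { carrier := {x | x ∈ B ∧ x ^ p = 1}
      one_mem' := ⟨B.one_mem, one_pow _⟩
      mul_mem' := by
        rintro a b ⟨ha, hap⟩ ⟨hb, hbp⟩
        refine ⟨B.mul_mem ha hb, ?_⟩
        have hc : Commute a b := hBab a ha b hb
        rw [hc.mul_pow, hap, hbp, one_mul]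
      inv_mem' := by
        rintro a ⟨ha, hap⟩
        exact ⟨B.inv_mem ha, by rw [inv_pow, hap, inv_one]⟩ }
  have hΩmem : ∀ x, x ∈ Ω ↔ x ∈ B ∧ x ^ p = 1 := fun x => Iff.rfl
  have hBnG : ∀ g : G, ∀ x ∈ B, g * x * g⁻¹ ∈ B := by
    intro g x hx
    obtain ⟨e, he, r, hr, rfl⟩ := h.exists_mul g
    have h1 : r * x * r⁻¹ ∈ B := hBn r hr x hx
    have h2 : e * (r * x * r⁻¹) = (r * x * r⁻¹) * e := h.comm e he _ (hBR h1)
    have h3 : e * r * x * (e * r)⁻¹ = r * x * r⁻¹ := by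
      calc e * r * x * (e * r)⁻¹ = e * (r * x * r⁻¹) * e⁻¹ := by group
        _ = (r * x * r⁻¹) * e * e⁻¹ := by rw [h2]
        _ = r * x * r⁻¹ := by group
    rw [h3]; exact h1
  haveI hΩn : Ω.Normal := by
    constructor
    intro x hx g
    obtain ⟨hxB, hxp⟩ := (hΩmem x).mp hx
    refine (hΩmem _).mpr ⟨hBnG g x hxB, ?_⟩
    rw [conj_pow, hxp]; group
  haveI hZn : (Z0 p G).Normal := by
    constructor
    intro z hz g
    have h1 : g * z * g⁻¹ = z := by rw [Z0_comm hz g]; group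
    rw [h1]; exact hz
  haveI : Group.IsNilpotent G := hG.isNilpotent
  by_contra hcon
  push Not at hcon
  obtain ⟨x, hxB, hxp, hxZ⟩ := hcon
  have hnot : ¬ Ω ≤ Z0 p G := fun hle => hxZ (hle ((hΩmem x).mpr ⟨hxB, hxp⟩))
  obtain ⟨a, haΩ, haZ, hac⟩ := Helper1.NormalElemAb.exists_central_mod (Z0 p G) Ω hnot
  obtain ⟨haB, hap⟩ := (hΩmem a).mp haΩ
  have haT : a ∈ symT p G :=
    mem_symT_iff.mpr ⟨by rw [hap]; exact Subgroup.one_mem _, hac⟩
  have haZT := h.TR_le_ZT haT (hBR haB)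
  exact haZ (mem_Z0_of_mem_symZT hG hsymp haZT hap)

theorem Decomp.normal_abelian_cyclic (hG : IsPGroup p G)
    (hsymp : ∀ A : Subgroup G, A.Characteristic → IsMulCommutative A → IsCyclic A)
    (h : Decomp p E R) (A : Subgroup ↥R) (hAn : A.Normal) (hAc : IsMulCommutative A) :
    IsCyclic A := by
  have hB1 : A.map R.subtype ≤ R := by
    rintro _ ⟨x, _, rfl⟩
    exact x.2
  have hB2 : ∀ r ∈ R, ∀ x ∈ A.map R.subtype, r * x * r⁻¹ ∈ A.map R.subtype := by
    rintro r hr _ ⟨x, hx, rfl⟩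
    refine Subgroup.mem_map.mpr ⟨⟨r, hr⟩ * x * ⟨r, hr⟩⁻¹, hAn.conj_mem x hx ⟨r, hr⟩, ?_⟩
    simp
  have hB3 : ∀ x ∈ A.map R.subtype, ∀ y ∈ A.map R.subtype, x * y = y * x := by
    rintro _ ⟨x, hx, rfl⟩ _ ⟨y, hy, rfl⟩
    have h1 := hAc.is_comm.comm ⟨x, hx⟩ ⟨y, hy⟩
    have h2 := congrArg (fun z : ↥A => ((z : ↥R) : G)) h1
    simpa using h2
  have hΩ := h.omega_le hG hsymp (A.map R.subtype) hB1 hB2 hB3
  have hu : Helper10.UniqueOrderP p ↥A := by
    apply uop_of_inj hsymp (R.subtype.comp A.subtype)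
      (fun a b hab => Subtype.ext (Subtype.ext hab))
    intro x hx
    apply hΩ
    · exact Subgroup.mem_map.mpr ⟨x.1, x.2, rfl⟩
    · have h1 := congrArg (fun z : ↥A => ((z : ↥R) : G)) hx
      simpa using h1
  exact Helper10.isCyclic_of_comm_of_uniqueOrderP ((hG.to_subgroup R).to_subgroup A)
    (fun a b => hAc.is_comm.comm a b) hu

theorem q8_facts : ∀ x y z : QuaternionGroup 2,
    ⁅x, y⁆ * z = z * ⁅x, y⁆ ∧ x ^ 2 * z = z * x ^ 2 ∧ ⁅x, y⁆ ^ 2 = 1 ∧ (x ^ 2) ^ 2 = 1 := by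
  decide

/-- a nonabelian quaternion `R` has order at least `16` -/
theorem Decomp.card_of_quaternion (hG : IsPGroup p G)
    (hsymp : ∀ A : Subgroup G, A.Characteristic → IsMulCommutative A → IsCyclic A)
    (h : Decomp p E R) (hp2 : p = 2) (hna : ∃ x ∈ R, ∃ y ∈ R, x * y ≠ y * x) {m : ℕ}
    (e : ↥R ≃* QuaternionGroup m) : 16 ≤ Nat.card R := by
  subst hp2
  by_contra hlt
  push Not at hlt
  have hm0 : m ≠ 0 := by
    rintro rfl
    have h1 : orderOf (e.symm (QuaternionGroup.a 1)) = 0 := by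
      rw [MulEquiv.orderOf_eq, QuaternionGroup.orderOf_a_one]
    exact (orderOf_pos _).ne' h1
  haveI : NeZero m := ⟨hm0⟩
  have hcard : Nat.card R = 4 * m := by
    rw [Nat.card_congr e.toEquiv, Nat.card_eq_fintype_card, QuaternionGroup.card]
  have hm4 : m < 4 := by omega
  obtain ⟨k, hk⟩ := IsPGroup.iff_card.mp (hG.to_subgroup R)
  obtain ⟨x, hx, y, hy, hxy⟩ := hna
  have hm1 : 1 ≤ m := Nat.one_le_iff_ne_zero.mpr hm0
  interval_cases m
  · -- order `4`
    have hc := IsPGroup.isMulCommutative_of_card_eq_prime_sq (p := 2) (G := ↥R)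
      (by rw [hcard]; norm_num)
    have h1 := hc.is_comm.comm (⟨x, hx⟩ : ↥R) ⟨y, hy⟩
    have h2 : x * y = y * x := congrArg Subtype.val h1
    exact hxy h2
  · -- `Q₈`
    have key1 : ∀ a b c : ↥R, ⁅a, b⁆ * c = c * ⁅a, b⁆ ∧ a ^ 2 * c = c * a ^ 2 ∧
        ⁅a, b⁆ ^ 2 = 1 ∧ (a ^ 2) ^ 2 = 1 := by
      intro a b c
      have hq := q8_facts (e a) (e b) (e c)
      refine ⟨e.injective ?_, e.injective ?_, e.injective ?_, e.injective ?_⟩
      · simp only [map_mul, map_commutatorElement]; exact hq.1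
      · simp only [map_mul, map_pow]; exact hq.2.1
      · simp only [map_pow, map_commutatorElement, map_one]; exact hq.2.2.1
      · simp only [map_pow, map_one]; exact hq.2.2.2
    have hZR : ∀ w ∈ R, (∀ z ∈ R, z * w = w * z) → w ^ 2 = 1 → w ∈ Z0 2 G :=
      fun w hw hwz hw2 => mem_Z0_iff.mpr ⟨h.mem_center hw hwz, hw2⟩
    have hRT : ∀ x ∈ R, x ∈ symT 2 G := by
      intro x hx
      refine mem_symT_iff.mpr ⟨?_, fun g => ?_⟩
      · apply hZR (x ^ 2) (R.pow_mem hx 2)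
        · intro z hz
          have h1 := congrArg Subtype.val (key1 ⟨x, hx⟩ ⟨x, hx⟩ ⟨z, hz⟩).2.1
          simpa using h1.symm
        · have h1 := congrArg Subtype.val (key1 ⟨x, hx⟩ ⟨x, hx⟩ ⟨x, hx⟩).2.2.2
          simpa using h1
      · obtain ⟨e', he', r, hr, rfl⟩ := h.exists_mul g
        rw [h.commEl_eq hx he' hr]
        apply hZR ⁅x, r⁆ (commEl_mem R hx hr)
        · intro z hz
          have h1 := congrArg Subtype.val (key1 ⟨x, hx⟩ ⟨r, hr⟩ ⟨z, hz⟩).1
          exact h1.symm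
        · have h1 := congrArg Subtype.val (key1 ⟨x, hx⟩ ⟨r, hr⟩ ⟨x, hx⟩).2.2.1
          exact h1
    have h1 := h.ab x (hRT x hx) hx y (hRT y hy) hy
    rw [commutatorElement_eq_one_iff_commute] at h1
    exact hxy h1.eq
  · -- order `12`
    have h12 : 2 ^ k = 12 := by omega
    have hk4 : k < 4 := by
      by_contra hge
      push Not at hge
      have h2 : 2 ^ 4 ≤ 2 ^ k := Nat.pow_le_pow_right (by norm_num) hge
      omega
    interval_cases k <;> norm_num at h12

/-- the structure of `R` -/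
theorem Decomp.final (hG : IsPGroup p G)
    (hsymp : ∀ A : Subgroup G, A.Characteristic → IsMulCommutative A → IsCyclic A)
    (h : Decomp p E R) :
    IsCyclic R ∨ (p = 2 ∧ 16 ≤ Nat.card R ∧ ((∃ m : ℕ, Nonempty (↥R ≃* DihedralGroup m)) ∨
      (∃ m : ℕ, Nonempty (↥R ≃* QuaternionGroup m)) ∨ Cfsg.IsQuasiDihedral ↥R)) := by
  have hPR : IsPGroup p ↥R := hG.to_subgroup R
  have hn := h.normal_abelian_cyclic hG hsymp
  by_cases hΩ : ∀ x ∈ R, x ^ p = 1 → x ∈ Z0 p G
  · have hu : Helper10.UniqueOrderP p ↥R := by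
      apply uop_of_inj hsymp R.subtype (Subgroup.subtype_injective R)
      intro x hx
      apply hΩ _ x.2
      have h1 := congrArg Subtype.val hx
      simpa using h1
    rcases Helper10.isCyclic_or_quaternion_of_uniqueOrderP hPR hu with hc | ⟨hp2, n, ⟨e⟩⟩
    · exact Or.inl hc
    · by_cases hab : ∀ x ∈ R, ∀ y ∈ R, x * y = y * x
      · left
        exact Helper10.isCyclic_of_comm_of_uniqueOrderP hPR
          (fun a b => Subtype.ext (hab a.1 a.2 b.1 b.2)) hu
      · push Not at hab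
        right
        exact ⟨hp2, h.card_of_quaternion hG hsymp hp2 hab e, Or.inr (Or.inl ⟨2 ^ n, ⟨e⟩⟩)⟩
  · push Not at hΩ
    obtain ⟨x, hxR, hxp, hxZ⟩ := hΩ
    right
    have hab : ∃ a ∈ R, ∃ b ∈ R, a * b ≠ b * a := by
      by_contra hcon
      push Not at hcon
      exact hxZ (h.omega_le hG hsymp R le_rfl
        (fun r hr y hy => R.mul_mem (R.mul_mem hr hy) (R.inv_mem hr)) hcon x hxR hxp)
    have hm : ∃ B : Subgroup ↥R, IsMulCommutative B ∧ ¬ IsCyclic B := by
      have hx1 : x ≠ 1 := fun h1 => hxZ (h1 ▸ Subgroup.one_mem _)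
      haveI : Nontrivial G := ⟨⟨x, 1, hx1⟩⟩
      obtain ⟨c, hc, hc1⟩ := exists_Z0_ne_one (p := p) hG
      have hAR : zpowers x ⊔ Z0 p G ≤ R := sup_le (Subgroup.zpowers_le.mpr hxR) h.Z0_le
      have hAcomm := sup_Z0_comm (p := p) x
      refine ⟨(zpowers x ⊔ Z0 p G).subgroupOf R,
        ⟨⟨fun a b => Subtype.ext (Subtype.ext (hAcomm a.1.1 a.2 b.1.1 b.2))⟩⟩, ?_⟩
      intro hcyc
      have hcycA : IsCyclic ↥(zpowers x ⊔ Z0 p G) :=
        (Subgroup.subgroupOfEquivOfLe hAR).isCyclic.mp hcyc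
      have hxA : x ∈ zpowers x ⊔ Z0 p G := Subgroup.mem_sup_left (Subgroup.mem_zpowers x)
      have hcA : c ∈ zpowers x ⊔ Z0 p G := Subgroup.mem_sup_right hc
      have h1 := Helper10.mem_zpowers_of_orderOf_dvd' _ hcycA hxA hcA
        (by rw [orderOf_eq_prime hxp hx1, orderOf_eq_prime (Z0_pow hc) hc1])
      exact hxZ ((Subgroup.zpowers_le.mpr hc) h1)
    obtain ⟨hp2, hstruct⟩ := Cfsg.Agent.Helper4.CSC.pgroup_normal_abelian_cyclic p hPR hn hm
    refine ⟨hp2, ?_, ?_⟩
    · rcases hstruct with ⟨n, ⟨e⟩⟩ | ⟨n, hn8, ⟨e⟩⟩ | ⟨n, hn3, hcard, -⟩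
      · exact h.card_of_quaternion hG hsymp hp2 hab e
      · rw [Nat.card_congr e.toEquiv, DihedralGroup.nat_card]; omega
      · rw [hcard]
        calc 16 = 2 ^ 4 := by norm_num
          _ ≤ 2 ^ (n + 1) := Nat.pow_le_pow_right (by norm_num) (by omega)
    · rcases hstruct with ⟨n, hn'⟩ | ⟨n, -, hn'⟩ | hqd
      · exact Or.inr (Or.inl ⟨n, hn'⟩)
      · exact Or.inl ⟨n, hn'⟩
      · exact Or.inr (Or.inr hqd)

/-- **P. Hall**: the structure of `p`-groups of symplectic type -/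
theorem main (hG : IsPGroup p G)
    (hsymp : ∀ A : Subgroup G, A.Characteristic → IsMulCommutative A → IsCyclic A) :
    ∃ E R : Subgroup G, (∀ e ∈ E, ∀ r ∈ R, e * r = r * e) ∧ E ⊔ R = ⊤ ∧
      (E = ⊥ ∨ Cfsg.IsExtraspecial p ↥E) ∧
      (IsCyclic R ∨ (p = 2 ∧ 16 ≤ Nat.card R ∧ ((∃ m : ℕ, Nonempty (↥R ≃* DihedralGroup m)) ∨
        (∃ m : ℕ, Nonempty (↥R ≃* QuaternionGroup m)) ∨ Cfsg.IsQuasiDihedral ↥R))) := by
  obtain ⟨E, hEmax⟩ := Set.Finite.exists_maximal (s := {X : Subgroup G | IsES p X})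
    (Set.toFinite _) ⟨⊥, isES_bot p⟩
  have hE : IsES p E := hEmax.prop
  have hcommER : ∀ e ∈ E, ∀ r ∈ centralizer (E : Set G), e * r = r * e :=
    fun e he r hr => Subgroup.mem_centralizer_iff.mp hr e he
  have hTRab : ∀ b ∈ symT p G, b ∈ centralizer (E : Set G) → ∀ r ∈ symT p G,
      r ∈ centralizer (E : Set G) → ⁅b, r⁆ = 1 := by
    intro b hbT hbR r hrT hrR
    by_contra hbr
    have hES : (E ⊔ closure ({b, r} : Set G)) ∈ {X : Subgroup G | IsES p X} :=
      isES_sup hG hsymp hE hbT hrT hbR hrR hbr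
    have hle := hEmax.le_of_ge hES le_sup_left
    have hbE : b ∈ E := hle (Subgroup.mem_sup_right (subset_closure (by simp)))
    have hbZ : b ∈ Z0 p G := hE.cent (Subgroup.mem_inf.mpr ⟨hbE, hbR⟩)
    apply hbr
    rw [commutatorElement_eq_one_iff_commute]
    exact (Z0_comm hbZ r).symm
  have hsup : E ⊔ centralizer (E : Set G) = ⊤ := by
    rcases hE.nonab with hbot | ⟨a, ha, b, hb, hab⟩
    · have h1 : centralizer ((E : Subgroup G) : Set G) = ⊤ := by
        rw [eq_top_iff]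
        intro x _
        rw [Subgroup.mem_centralizer_iff]
        intro g hg
        rw [hbot] at hg
        have h2 : g = 1 := Subgroup.mem_bot.mp hg
        rw [h2, one_mul, mul_one]
      rw [h1, sup_top_eq]
    · have hEx := isExtraspecial_of_isES hG hsymp hE ha hb hab
      apply Helper1.extraspecial_sup_centralizer hG E hEx
      rw [Subgroup.commutator_le]
      intro g _ e he
      have h1 : ⁅e, g⁆ ∈ Z0 p G := symT_comm (hE.le_T he) g
      have h2 : ⁅g, e⁆ ∈ Z0 p G := by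
        rw [← commutatorElement_inv]; exact Subgroup.inv_mem _ h1
      have hcZ : ⁅a, b⁆ ∈ Z0 p G := symT_comm (hE.le_T ha) b
      have hZE : Z0 p G ≤ E := by
        rw [Z0_eq_zpowers hsymp hcZ hab]; exact Subgroup.zpowers_le.mpr (commEl_mem E ha hb)
      exact Subgroup.mem_inf.mpr ⟨hZE h2, Subgroup.mem_centralizer_iff.mpr fun x _ => Z0_comm h2 x⟩
  have hZ0R : Z0 p G ≤ centralizer (E : Set G) :=
    fun z hz => Subgroup.mem_centralizer_iff.mpr fun e _ => Z0_comm hz e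
  have hD : Decomp p E (centralizer (E : Set G)) := ⟨hcommER, hsup, hE.le_T, hTRab, hZ0R⟩
  refine ⟨E, centralizer (E : Set G), hcommER, hsup, ?_, hD.final hG hsymp⟩
  rcases hE.nonab with hbot | ⟨a, ha, b, hb, hab⟩
  · exact Or.inl hbot
  · exact Or.inr (isExtraspecial_of_isES hG hsymp hE ha hb hab)

end Hyp

end Cfsg.Agent.Lib.Helper16.SympType
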