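import Mathlib

set_option autoImplicit false
set_option linter.style.haveILetI false
set_option linter.unusedSimpArgs false

namespace Cfsg.Agent.Lib.Helper16

open Matrix Polynomial

/-- Cayley–Hamilton for `3 × 3` matrices in explicit form. -/
theorem cayley3 {R : Type*} [CommRing R] [Nontrivial R] (x : Matrix (Fin 3) (Fin 3) R) :
    ∃ a₂ a₁ : R, x ^ 3 + a₂ • x ^ 2 + a₁ • x - x.det • (1 : Matrix (Fin 3) (Fin 3) R) = 0 ∧
      ∀ t : R, (Matrix.scalar (Fin 3) t - x).det = t ^ 3 + a₂ * t ^ 2 + a₁ * t - x.det := by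
  have hmon := Matrix.charpoly_monic x
  have hdeg : x.charpoly.natDegree = 3 := by
    rw [Matrix.charpoly_natDegree_eq_dim, Fintype.card_fin]
  have h0 : x.charpoly.coeff 0 = - x.det := by
    have := Matrix.det_eq_sign_charpoly_coeff x
    rw [Fintype.card_fin] at this
    rw [this]; ring
  have hp := hmon.as_sum
  rw [hdeg] at hp
  simp only [Finset.sum_range_succ, Finset.sum_range_zero, zero_add, pow_zero, mul_one, pow_one,
    h0] at hp
  obtain ⟨a₂, ha₂⟩ : ∃ a, a = x.charpoly.coeff 2 := ⟨_, rfl⟩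
  obtain ⟨a₁, ha₁⟩ : ∃ a, a = x.charpoly.coeff 1 := ⟨_, rfl⟩
  rw [← ha₂, ← ha₁] at hp
  refine ⟨a₂, a₁, ?_, ?_⟩
  · have h := Matrix.aeval_self_charpoly x
    rw [hp] at h
    simp only [map_add, map_mul, map_pow, aeval_X, aeval_C, map_neg] at h
    rw [← h]
    simp only [Algebra.algebraMap_eq_smul_one, smul_mul_assoc, one_mul]
    abel
  · intro t
    rw [← Matrix.eval_charpoly, hp]
    simp only [eval_add, eval_mul, eval_pow, eval_X, eval_C, eval_neg]
    ring

end Cfsg.Agent.Lib.Helper16
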