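import Mathlib
import Cfsg.Agent.Lib.Helper16.Cayley3

set_option autoImplicit false
set_option linter.style.haveILetI false
set_option linter.unusedSimpArgs false
set_option linter.unusedSectionVars false

namespace Cfsg.Agent.Lib.Helper16

open Matrix Polynomial

section
variable {F : Type*} [Field F] [Fintype F]

theorem two_eq_zero_of_card_four (hF : Fintype.card F = 4) : (2 : F) = 0 := by
  have h4 : ((4 : ℕ) : F) = 0 := by rw [← hF]; exact Nat.cast_card_eq_zero F
  have h22 : (2 : F) * 2 = 0 := by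
    have : ((4 : ℕ) : F) = 2 * 2 := by norm_num
    rw [← this]; exact h4
  exact mul_self_eq_zero.1 h22

theorem cube_of_card_four (hF : Fintype.card F = 4) (s : F) : s = 0 ∨ s ^ 3 = 1 := by
  by_cases hs : s = 0
  · left; exact hs
  · right
    have := FiniteField.pow_card_sub_one_eq_one s hs
    rw [hF] at this
    exact this

theorem neg_eq_self_of_card_four (hF : Fintype.card F = 4) (s : F) : -s = s := by
  have h2 := two_eq_zero_of_card_four hF
  linear_combination (-s) * h2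

/-- a scalar multiple of a non-scalar matrix is scalar only if the coefficient vanishes -/
theorem smul_eq_smul_one {x : Matrix (Fin 3) (Fin 3) F} (hns : ¬ ∃ s : F, x = s • (1 : Matrix (Fin 3) (Fin 3) F))
    {a b : F} (h : a • x = b • (1 : Matrix (Fin 3) (Fin 3) F)) : a = 0 ∧ b = 0 := by
  by_cases ha : a = 0
  · refine ⟨ha, ?_⟩
    rw [ha, zero_smul] at h
    have h00 := congrFun (congrFun h 0) 0
    simp at h00
    exact h00.symm
  · exfalso
    apply hns
    refine ⟨a⁻¹ * b, ?_⟩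
    rw [mul_smul, ← h, smul_smul, inv_mul_cancel₀ ha, one_smul]

/-- a matrix over the field with four elements whose cube is a non-trivial scalar `c` has
determinant `c`. -/
theorem det_eq_of_cube (hF : Fintype.card F = 4) (x : Matrix (Fin 3) (Fin 3) F) (c : F)
    (hc0 : c ≠ 0) (hc1 : c ≠ 1) (hx : x ^ 3 = c • (1 : Matrix (Fin 3) (Fin 3) F)) : x.det = c := by
  obtain ⟨a₂, a₁, hCH, -⟩ := cayley3 x
  have hneg := neg_eq_self_of_card_four hF
  have hns : ¬ ∃ s : F, x = s • (1 : Matrix (Fin 3) (Fin 3) F) := by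
    rintro ⟨s, rfl⟩
    rw [_root_.smul_pow, one_pow] at hx
    have h00 := congrFun (congrFun hx 0) 0
    simp only [Matrix.smul_apply, Matrix.one_apply_eq, smul_eq_mul, mul_one] at h00
    rcases cube_of_card_four hF s with h | h
    · rw [h] at h00; apply hc0; rw [← h00]; ring
    · rw [h] at h00; exact hc1 h00.symm
  rw [hx] at hCH
  by_cases ha₂ : a₂ = 0
  · rw [ha₂, zero_smul, add_zero] at hCH
    have h1 : a₁ • x = (x.det - c) • (1 : Matrix (Fin 3) (Fin 3) F) := by
      rw [sub_smul]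
      rw [← sub_eq_zero]
      rw [← hCH]
      abel
    obtain ⟨-, h2⟩ := smul_eq_smul_one hns h1
    exact sub_eq_zero.1 h2
  · exfalso
    -- x^2 = α x + β
    have hx2 : x ^ 2 = (-(a₁ / a₂)) • x + ((x.det - c) / a₂) • (1 : Matrix (Fin 3) (Fin 3) F) := by
      have h1 : a₂ • x ^ 2 = (-a₁) • x + (x.det - c) • (1 : Matrix (Fin 3) (Fin 3) F) := by
        rw [sub_smul, neg_smul, ← sub_eq_zero, ← hCH]
        abel
      have h2 : x ^ 2 = a₂⁻¹ • (a₂ • x ^ 2) := by
        rw [smul_smul, inv_mul_cancel₀ ha₂, one_smul]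
      rw [h2, h1, smul_add, smul_smul, smul_smul]
      congr 2 <;> field_simp
    set α : F := -(a₁ / a₂) with hα
    set β : F := (x.det - c) / a₂ with hβ
    have hx3 : x ^ 3 = (α ^ 2 + β) • x + (α * β) • (1 : Matrix (Fin 3) (Fin 3) F) := by
      have h1 : x ^ 3 = x * x ^ 2 := by rw [pow_succ']
      rw [h1, hx2, mul_add, Matrix.mul_smul, Matrix.mul_smul, mul_one, ← pow_two, hx2, smul_add,
        smul_smul, smul_smul, add_smul]
      rw [pow_two]
      abel
    rw [hx] at hx3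
    have h3 : (α ^ 2 + β) • x = (c - α * β) • (1 : Matrix (Fin 3) (Fin 3) F) := by
      rw [sub_smul, hx3]
      abel
    obtain ⟨h4, h5⟩ := smul_eq_smul_one hns h3
    have h6 : c = α ^ 3 := by
      have hβ' : β = -α ^ 2 := by linear_combination h4
      rw [hβ'] at h5
      have : c = -α ^ 3 := by linear_combination h5
      rw [this, hneg]
    rcases cube_of_card_four hF α with h | h
    · rw [h] at h6; apply hc0; rw [h6]; ring
    · rw [h] at h6; exact hc1 h6


/-- a non-scalar matrix of determinant one and order three over the field with four elements is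
conjugate, by a matrix of determinant one, to `diag(1, ω, ω²)` -/
theorem conj_diag_of_cube_eq_one (hF : Fintype.card F = 4) (ω : F) (hω1 : ω ≠ 1) (hω3 : ω ^ 3 = 1)
    (x : Matrix (Fin 3) (Fin 3) F) (hdet : x.det = 1) (hx3 : x ^ 3 = 1)
    (hns : ¬ ∃ s : F, x = s • (1 : Matrix (Fin 3) (Fin 3) F)) :
    ∃ P : Matrix (Fin 3) (Fin 3) F, P.det = 1 ∧ x * P = P * Matrix.diagonal ![1, ω, ω ^ 2] := by
  classical
  have h2 := two_eq_zero_of_card_four hF
  have hω : ω ^ 2 + ω + 1 = 0 := by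
    have h1 : (ω - 1) * (ω ^ 2 + ω + 1) = 0 := by linear_combination hω3
    rcases mul_eq_zero.1 h1 with h | h
    · exact absurd (sub_eq_zero.1 h) hω1
    · exact h
  obtain ⟨a₂, a₁, hCH, hev⟩ := cayley3 x
  rw [hx3, hdet, one_smul] at hCH
  have hCH' : a₂ • x ^ 2 + a₁ • x = 0 := by
    rw [← hCH]; abel
  -- a₂ x + a₁ = 0
  have h1 : a₂ • x = (-a₁) • (1 : Matrix (Fin 3) (Fin 3) F) := by
    have h3 : x ^ 2 * (a₂ • x ^ 2 + a₁ • x) = 0 := by rw [hCH', mul_zero]
    rw [mul_add, Matrix.mul_smul, Matrix.mul_smul, ← pow_add, ← pow_succ, hx3] at h3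
    have h4 : x ^ (2 + 2) = x := by
      have : x ^ (2 + 2) = x ^ 3 * x := by rw [← pow_succ]
      rw [this, hx3, one_mul]
    rw [h4] at h3
    rw [neg_smul, ← add_eq_zero_iff_eq_neg]
    exact h3
  obtain ⟨ha₂, ha₁'⟩ := smul_eq_smul_one hns h1
  have ha₁ : a₁ = 0 := neg_eq_zero.1 ha₁'
  rw [ha₂, ha₁] at hev
  have hroot : ∀ t : F, t ^ 3 = 1 → ∃ v : Fin 3 → F, v ≠ 0 ∧ x *ᵥ v = t • v := by
    intro t ht
    have h3 : (Matrix.scalar (Fin 3) t - x).det = 0 := by
      rw [hev t, hdet, ht]; ring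
    obtain ⟨v, hv0, hv⟩ := Matrix.exists_mulVec_eq_zero_iff.2 h3
    refine ⟨v, hv0, ?_⟩
    rw [Matrix.sub_mulVec, sub_eq_zero] at hv
    rw [← hv]
    ext i
    simp [Matrix.mulVec, dotProduct, Matrix.scalar, Matrix.diagonal_apply]
  obtain ⟨v₀, hv₀0, hv₀⟩ := hroot 1 (one_pow 3)
  obtain ⟨v₁, hv₁0, hv₁⟩ := hroot ω hω3
  obtain ⟨v₂, hv₂0, hv₂⟩ := hroot (ω ^ 2) (by rw [← pow_mul, mul_comm, pow_mul, hω3, one_pow])
  rw [one_smul] at hv₀
  let P : Matrix (Fin 3) (Fin 3) F := Matrix.of fun i j => ![v₀, v₁, v₂] j i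
  have hPmul : ∀ w : Fin 3 → F, P *ᵥ w = w 0 • v₀ + w 1 • v₁ + w 2 • v₂ := by
    intro w
    ext i
    simp [P, Matrix.mulVec, dotProduct, Fin.sum_univ_three]
    ring
  have hxP : x * P = P * Matrix.diagonal ![1, ω, ω ^ 2] := by
    ext i j
    rw [Matrix.mul_diagonal]
    have hcol : (x * P) i j = (x *ᵥ (![v₀, v₁, v₂] j)) i := by
      simp [P, Matrix.mul_apply, Matrix.mulVec, dotProduct]
    rw [hcol]
    fin_cases j
    · simp [P, hv₀]
    · simp [P, hv₁]; ring
    · simp [P, hv₂]; ring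
  have hPdet : P.det ≠ 0 := by
    intro h0
    obtain ⟨w, hw0, hw⟩ := Matrix.exists_mulVec_eq_zero_iff.2 h0
    rw [hPmul] at hw
    have hw1 : x *ᵥ (w 0 • v₀ + w 1 • v₁ + w 2 • v₂) = 0 := by rw [hw, Matrix.mulVec_zero]
    rw [Matrix.mulVec_add, Matrix.mulVec_add, Matrix.mulVec_smul, Matrix.mulVec_smul,
      Matrix.mulVec_smul, hv₀, hv₁, hv₂] at hw1
    have hw2 : x *ᵥ (w 0 • v₀ + w 1 • ω • v₁ + w 2 • ω ^ 2 • v₂) = 0 := by
      rw [hw1, Matrix.mulVec_zero]
    rw [Matrix.mulVec_add, Matrix.mulVec_add, Matrix.mulVec_smul, Matrix.mulVec_smul,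
      Matrix.mulVec_smul, Matrix.mulVec_smul, Matrix.mulVec_smul, hv₀, hv₁, hv₂] at hw2
    have e0 : ∀ i, w 0 * v₀ i + w 1 * v₁ i + w 2 * v₂ i = 0 := fun i => by
      have := congrFun hw i
      simpa using this
    have e1 : ∀ i, w 0 * v₀ i + w 1 * (ω * v₁ i) + w 2 * (ω ^ 2 * v₂ i) = 0 := fun i => by
      have := congrFun hw1 i
      simpa using this
    have e2 : ∀ i, w 0 * v₀ i + w 1 * (ω * (ω * v₁ i)) + w 2 * (ω ^ 2 * (ω ^ 2 * v₂ i)) = 0 :=
      fun i => by
        have := congrFun hw2 i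
        simpa using this
    have hu0 : ∀ i, w 0 * v₀ i = 0 := fun i => by
      linear_combination e0 i + e1 i + e2 i - (w 1 * v₁ i + w 2 * v₂ i) * hω
        - (w 0 * v₀ i) * h2 - (w 2 * v₂ i * ω) * (ω - 1) * hω
    have hu1 : ∀ i, w 1 * v₁ i = 0 := fun i => by
      linear_combination e0 i + ω ^ 2 * e1 i + ω * e2 i - (w 0 * v₀ i) * hω
        - (ω ^ 3 * w 1 * v₁ i) * h2 - (w 2 * v₂ i) * hω - (w 2 * v₂ i) * (ω + ω ^ 2) * hω3
    have hu2 : ∀ i, w 2 * v₂ i = 0 := fun i => by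
      linear_combination e0 i - hu0 i - hu1 i
    have key : ∀ (a : F) (v : Fin 3 → F), v ≠ 0 → (∀ i, a * v i = 0) → a = 0 := by
      intro a v hv hav
      by_contra ha
      apply hv
      funext i
      exact (mul_eq_zero.1 (hav i)).resolve_left ha
    apply hw0
    funext i
    fin_cases i
    · exact key _ _ hv₀0 hu0
    · exact key _ _ hv₁0 hu1
    · exact key _ _ hv₂0 hu2
  refine ⟨P * Matrix.diagonal ![(P.det)⁻¹, 1, 1], ?_, ?_⟩
  · rw [Matrix.det_mul, Matrix.det_diagonal, Fin.prod_univ_three]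
    simp [mul_inv_cancel₀ hPdet]
  · rw [← mul_assoc, hxP, mul_assoc, mul_assoc, Matrix.diagonal_mul_diagonal,
      Matrix.diagonal_mul_diagonal]
    congr 2
    funext i
    fin_cases i <;> simp [mul_comm]

end

end Cfsg.Agent.Lib.Helper16
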