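import Mathlib
import Cfsg.Agent.Lib.Helper16.PSL34

set_option autoImplicit false
set_option linter.style.haveILetI false
set_option linter.unusedSimpArgs false
set_option linter.unusedSectionVars false
set_option linter.unnecessarySeqFocus false

namespace Cfsg.Agent.Lib.Helper16

open Matrix Polynomial

section
variable {F : Type*} [Field F] [Fintype F]

theorem pow_four_of_card_four (hF : Fintype.card F = 4) (z : F) : z ^ 4 = z := by
  have := FiniteField.pow_card z
  rwa [hF] at this

theorem exists_ne_zero_one_of_card_four (hF : Fintype.card F = 4) : ∃ ω : F, ω ≠ 0 ∧ ω ≠ 1 := by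
  classical
  by_contra h
  push Not at h
  have : Fintype.card F ≤ 2 := by
    calc Fintype.card F = (Finset.univ : Finset F).card := Finset.card_univ.symm
      _ ≤ ({0, 1} : Finset F).card := Finset.card_le_card (fun x _ => by
          by_cases hx : x = 0
          · simp [hx]
          · simp [h x hx])
      _ ≤ 2 := Finset.card_le_two
  omega

theorem sq_add_self_cases (hF : Fintype.card F = 4) (t : F) :
    t ^ 2 + t = 0 ∨ t ^ 2 + t + 1 = 0 := by
  have h2 := two_eq_zero_of_card_four hF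
  have ht4 := pow_four_of_card_four hF t
  have hprod : (t ^ 2 + t) * (t ^ 2 + t + 1) = 0 := by
    linear_combination ht4 + (t ^ 3 + t ^ 2 + t) * h2
  exact mul_eq_zero.1 hprod

theorem eq_zero_or_one_of_sq_add_self (hF : Fintype.card F = 4) (t : F) (h : t ^ 2 + t = 0) :
    t = 0 ∨ t = 1 := by
  have h2 := two_eq_zero_of_card_four hF
  have : t * (t + 1) = 0 := by linear_combination h
  rcases mul_eq_zero.1 this with h | h
  · exact Or.inl h
  · right
    linear_combination h - h2

theorem quad_noroot (hF : Fintype.card F = 4) (s u : F) (h : ∀ z : F, z ^ 2 + s * z + u ≠ 0) :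
    s ^ 3 = 1 ∧ s + s ^ 2 * u + u ^ 2 = 0 := by
  have h2 := two_eq_zero_of_card_four hF
  have hs0 : s ≠ 0 := by
    intro hs
    apply h (u ^ 2)
    have hu := pow_four_of_card_four hF u
    rw [hs]
    linear_combination hu + u * h2
  have hs3 : s ^ 3 = 1 := (cube_of_card_four hF s).resolve_left hs0
  refine ⟨hs3, ?_⟩
  have key : (u * s) ^ 2 + u * s + 1 = 0 := by
    rcases sq_add_self_cases hF (u * s) with h0 | h1
    · exfalso
      rcases eq_zero_or_one_of_sq_add_self hF _ h0 with ht0 | ht1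
      · have hu : u = 0 := by
          rcases mul_eq_zero.1 ht0 with hu | hs'
          · exact hu
          · exact absurd hs' hs0
        apply h 0
        rw [hu]
        ring
      · obtain ⟨ω, hω0, hω1⟩ := exists_ne_zero_one_of_card_four hF
        have hb1 : ω ^ 2 + ω + 1 = 0 := by
          rcases sq_add_self_cases hF ω with hb | hb
          · exfalso
            rcases eq_zero_or_one_of_sq_add_self hF _ hb with h' | h'
            · exact hω0 h'
            · exact hω1 h'
          · exact hb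
        apply h (s * ω)
        linear_combination s ^ 2 * hb1 + s ^ 2 * ht1 - u * hs3
    · exact h1
  linear_combination s * key - u ^ 2 * hs3

theorem two_eq_zero_poly (hF : Fintype.card F = 4) : (2 : F[X]) = 0 := by
  have h2 := two_eq_zero_of_card_four hF
  have : (2 : F[X]) = C (2 : F) := (C_ofNat 2).symm
  rw [this, h2, C_0]

theorem quad_dvd (hF : Fintype.card F = 4) (s u : F) (h : ∀ z : F, z ^ 2 + s * z + u ≠ 0) :
    (X ^ 2 + C s * X + C u : F[X]) ∣ X ^ 5 - C u := by
  obtain ⟨hs3, hsu⟩ := quad_noroot hF s u h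
  have h2 := two_eq_zero_poly hF
  have hs3' : (C s : F[X]) ^ 3 = 1 := by rw [← C_pow, hs3, C_1]
  have hsu' : (C s : F[X]) + C s ^ 2 * C u + C u ^ 2 = 0 := by
    rw [← C_pow, ← C_pow, ← C_mul, ← C_add, ← C_add, hsu, C_0]
  refine ⟨X ^ 3 + C s * X ^ 2 + (C u + C s ^ 2) * X + C s ^ 3, ?_⟩
  linear_combination (-(C s) * X ^ 4 - (C u + C s ^ 2) * X ^ 3 - (C s ^ 3 + C s * C u) * X ^ 2
    - C u) * h2 + (-(C s) * X - C u) * hs3' + (-X) * hsu'

theorem X_sub_C_dvd_cube (ν : F) (hν : ν ^ 3 = 1) : (X - C ν : F[X]) ∣ X ^ 3 - 1 := by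
  rw [dvd_iff_isRoot]
  simp [hν]

theorem monic_quadratic_eq (ψ : F[X]) (hm : ψ.Monic) (hd : ψ.natDegree = 2) :
    ψ = X ^ 2 + C (ψ.coeff 1) * X + C (ψ.coeff 0) := by
  conv_lhs => rw [hm.as_sum, hd]
  simp [Finset.sum_range_succ]
  ring

theorem cubic_cases (hF : Fintype.card F = 4) (χ : F[X]) (hm : χ.Monic) (hd : χ.natDegree = 3)
    (h0 : χ.coeff 0 = 1) :
    χ ∣ X ^ 63 - 1 ∨ (∃ u : F, χ ∣ X ^ 5 - C u) ∨ χ ∣ X ^ 12 - 1 := by
  have h2 := two_eq_zero_of_card_four hF
  by_cases hr : ∃ ν, χ.IsRoot ν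
  · obtain ⟨ν, hν⟩ := hr
    right
    have hχ : (X - C ν) * (χ /ₘ (X - C ν)) = χ := mul_divByMonic_eq_iff_isRoot.2 hν
    generalize χ /ₘ (X - C ν) = ψ at hχ
    have hψm : ψ.Monic := (monic_X_sub_C ν).of_mul_monic_left (hχ ▸ hm)
    have hψd : ψ.natDegree = 2 := by
      have := (monic_X_sub_C ν).natDegree_mul hψm
      rw [hχ, hd, natDegree_X_sub_C] at this
      omega
    have hc0 : -ν * ψ.coeff 0 = 1 := by
      rw [← h0, ← hχ, mul_coeff_zero]
      simp
    have hν0 : ν ≠ 0 := by
      rintro rfl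
      simp at hc0
    have hν3 : ν ^ 3 = 1 := (cube_of_card_four hF ν).resolve_left hν0
    by_cases hr2 : ∃ ν₂, ψ.IsRoot ν₂
    · right
      obtain ⟨ν₂, hν₂⟩ := hr2
      have hψ : (X - C ν₂) * (ψ /ₘ (X - C ν₂)) = ψ := mul_divByMonic_eq_iff_isRoot.2 hν₂
      generalize ψ /ₘ (X - C ν₂) = ψ₂ at hψ
      have hψ₂m : ψ₂.Monic := (monic_X_sub_C ν₂).of_mul_monic_left (hψ ▸ hψm)
      have hψ₂d : ψ₂.natDegree = 1 := by
        have := (monic_X_sub_C ν₂).natDegree_mul hψ₂m
        rw [hψ, hψd, natDegree_X_sub_C] at this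
        omega
      have hψ₂ : ψ₂ = X + C (ψ₂.coeff 0) := hψ₂m.eq_X_add_C hψ₂d
      generalize ψ₂.coeff 0 = c at hψ₂
      have hc0' : ψ.coeff 0 = -ν₂ * c := by
        rw [← hψ, mul_coeff_zero, hψ₂]
        simp
      have hν₂0 : ν₂ ≠ 0 := by
        rintro rfl
        rw [hc0'] at hc0
        simp at hc0
      have hc : c ≠ 0 := by
        rintro rfl
        rw [hc0'] at hc0
        simp at hc0
      have hν₂3 := (cube_of_card_four hF ν₂).resolve_left hν₂0
      have hc3 := (cube_of_card_four hF c).resolve_left hc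
      have h3 : ψ₂ ∣ X ^ 3 - 1 := by
        rw [hψ₂]
        have : (X + C c : F[X]) = X - C (-c) := by rw [C_neg, sub_neg_eq_add]
        rw [this]
        apply X_sub_C_dvd_cube
        rw [neg_eq_self_of_card_four hF]
        exact hc3
      have h12 : (X ^ 12 - 1 : F[X]) = (X ^ 3 - 1) * ((X ^ 3 - 1) * (X ^ 3 - 1)) * (X ^ 3 - 1) := by
        have h2' := two_eq_zero_poly hF
        linear_combination (2 * X ^ 9 - 3 * X ^ 6 + 2 * X ^ 3 - 1) * h2'
      rw [h12, ← hχ, ← hψ]
      exact Dvd.dvd.mul_right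
        (mul_dvd_mul (X_sub_C_dvd_cube ν hν3) (mul_dvd_mul (X_sub_C_dvd_cube ν₂ hν₂3) h3)) _
    · left
      push Not at hr2
      have hψ := monic_quadratic_eq ψ hψm hψd
      generalize ψ.coeff 1 = s at hψ
      generalize hu : ψ.coeff 0 = u at hψ hc0
      have hnr : ∀ z : F, z ^ 2 + s * z + u ≠ 0 := by
        intro z hz
        apply hr2 z
        rw [IsRoot.def, hψ]
        simp
        exact hz
      obtain ⟨Q, hQ⟩ := quad_dvd hF s u hnr
      refine ⟨u, ?_⟩
      have hνu : ν ^ 5 = u := by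
        linear_combination (ν ^ 2 + u) * hν3 + ν ^ 2 * h2 + ν ^ 2 * hc0
      have h1 : (X - C ν) ∣ ψ * Q := by
        rw [hψ, ← hQ, dvd_iff_isRoot]
        simp [hνu]
      rcases (prime_X_sub_C ν).dvd_or_dvd h1 with h | h
      · exfalso
        rw [dvd_iff_isRoot] at h
        exact hr2 ν h
      · obtain ⟨Q', rfl⟩ := h
        refine ⟨Q', ?_⟩
        rw [hQ, ← hχ, ← hψ]
        ring
  · left
    push Not at hr
    have hirr : Irreducible χ := by
      rw [hm.irreducible_iff_roots_eq_zero_of_degree_le_three (by omega) (by omega)]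
      rw [Multiset.eq_zero_iff_forall_notMem]
      intro a ha
      exact hr a (isRoot_of_mem_roots ha)
    have hdv := (hirr.natDegree_dvd_iff_dvd_X_pow_card_pow_sub_X (n := 3)).1 (by rw [hd])
    rw [Nat.card_eq_fintype_card, hF] at hdv
    have h64 : (X ^ 4 ^ 3 - X : F[X]) = X * (X ^ 63 - 1) := by ring
    rw [h64] at hdv
    rcases hirr.prime.dvd_or_dvd hdv with h | h
    · exfalso
      have := natDegree_le_of_dvd h X_ne_zero
      rw [hd, natDegree_X] at this
      omega
    · exact h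

theorem aeval_eq_zero_of_charpoly_dvd (M : Matrix (Fin 3) (Fin 3) F) (p : F[X])
    (h : M.charpoly ∣ p) : aeval M p = 0 := by
  obtain ⟨q, rfl⟩ := h
  rw [map_mul, Matrix.aeval_self_charpoly, zero_mul]

/-- the key fact: an element of `SL₃(4)` whose 15th power is scalar has scalar fifth power or
trivial ninth power -/
theorem pow_scalar_of_card_four (hF : Fintype.card F = 4) (M : Matrix (Fin 3) (Fin 3) F)
    (hdet : M.det = 1) (c : F) (hc : c ^ 3 = 1) (h15 : M ^ 15 = scalar (Fin 3) c) :
    (∃ u : F, M ^ 5 = scalar (Fin 3) u) ∨ M ^ 9 = 1 := by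
  have h2 := two_eq_zero_of_card_four hF
  have h45 : M ^ 45 = 1 := by
    have : M ^ 45 = (M ^ 15) ^ 3 := by rw [← pow_mul]
    rw [this, h15, ← map_pow, hc, map_one]
  have hm := Matrix.charpoly_monic M
  have hd : M.charpoly.natDegree = 3 := by
    rw [Matrix.charpoly_natDegree_eq_dim, Fintype.card_fin]
  have h0 : M.charpoly.coeff 0 = 1 := by
    have := Matrix.det_eq_sign_charpoly_coeff M
    rw [hdet, Fintype.card_fin] at this
    linear_combination (-1 : F) * this + (M.charpoly.coeff 0) * h2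
  rcases cubic_cases hF M.charpoly hm hd h0 with h | ⟨u, h⟩ | h
  · right
    have h63 := aeval_eq_zero_of_charpoly_dvd M _ h
    rw [map_sub, map_pow, aeval_X, map_one, sub_eq_zero] at h63
    have h18 : M ^ 18 = 1 := by
      have : M ^ 63 = M ^ 45 * M ^ 18 := by rw [← pow_add]
      rw [h63, h45, one_mul] at this
      exact this.symm
    have : M ^ 45 = M ^ 18 * M ^ 18 * M ^ 9 := by rw [← pow_add, ← pow_add]
    rw [h45, h18, one_mul, one_mul] at this
    exact this.symm
  · left
    refine ⟨u, ?_⟩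
    have h5 := aeval_eq_zero_of_charpoly_dvd M _ h
    rw [map_sub, map_pow, aeval_X, aeval_C, sub_eq_zero] at h5
    rw [h5]
    rfl
  · right
    have h12 := aeval_eq_zero_of_charpoly_dvd M _ h
    rw [map_sub, map_pow, aeval_X, map_one, sub_eq_zero] at h12
    have h36 : M ^ 36 = 1 := by
      have : M ^ 36 = (M ^ 12) ^ 3 := by rw [← pow_mul]
      rw [this, h12, one_pow]
    have : M ^ 45 = M ^ 36 * M ^ 9 := by rw [← pow_add]
    rw [h45, h36, one_mul] at this
    exact this.symm

theorem det_scalar_three (u : F) : (scalar (Fin 3) u).det = u ^ 3 := by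
  simp [Matrix.scalar_apply]

/-- `PSL₃(4)` has no element of order 15 -/
theorem orderOf_ne_fifteen_PSL34 (hF : Fintype.card F = 4)
    (g : Matrix.ProjectiveSpecialLinearGroup (Fin 3) F) : orderOf g ≠ 15 := by
  intro hg
  obtain ⟨x, rfl⟩ := QuotientGroup.mk_surjective g
  have h15 : (QuotientGroup.mk x : Matrix.ProjectiveSpecialLinearGroup (Fin 3) F) ^ 15 = 1 := by
    rw [← hg]
    exact pow_orderOf_eq_one _
  rw [← QuotientGroup.mk_pow, QuotientGroup.eq_one_iff,
    Matrix.SpecialLinearGroup.mem_center_iff] at h15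
  obtain ⟨c, hc, hcx⟩ := h15
  rw [Fintype.card_fin] at hc
  rw [Matrix.SpecialLinearGroup.coe_pow] at hcx
  rcases pow_scalar_of_card_four hF (x : Matrix (Fin 3) (Fin 3) F) x.2 c hc hcx.symm with
    ⟨u, hu⟩ | h9
  · have hu3 : u ^ 3 = 1 := by
      rw [← det_scalar_three, ← hu, Matrix.det_pow, x.2, one_pow]
    have h5 : (QuotientGroup.mk x : Matrix.ProjectiveSpecialLinearGroup (Fin 3) F) ^ 5 = 1 := by
      rw [← QuotientGroup.mk_pow, QuotientGroup.eq_one_iff,
        Matrix.SpecialLinearGroup.mem_center_iff]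
      refine ⟨u, by rw [Fintype.card_fin]; exact hu3, ?_⟩
      rw [Matrix.SpecialLinearGroup.coe_pow]
      exact hu.symm
    have := orderOf_dvd_of_pow_eq_one h5
    rw [hg] at this
    omega
  · have h9' : (QuotientGroup.mk x : Matrix.ProjectiveSpecialLinearGroup (Fin 3) F) ^ 9 = 1 := by
      rw [← QuotientGroup.mk_pow]
      have : x ^ 9 = 1 := by
        apply Subtype.ext
        rw [Matrix.SpecialLinearGroup.coe_pow]
        exact h9
      rw [this]
      rfl
    have := orderOf_dvd_of_pow_eq_one h9'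
    rw [hg] at this
    omega

end

end Cfsg.Agent.Lib.Helper16
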