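import Mathlib
import Cfsg.Agent.Lib.Helper16.PSL34Order
import Cfsg.Agent.Lib.Helper3.CardSL

set_option autoImplicit false
set_option linter.style.haveILetI false
set_option linter.unusedSimpArgs false
set_option linter.unusedSectionVars false
set_option linter.unnecessarySeqFocus false

namespace Cfsg.Agent.Lib.Helper16

open Matrix

/-- the companion matrix of `X⁴ + X + 1` over the field with two elements -/
def singerMat : Matrix (Fin 4) (Fin 4) (ZMod 2) := !![0,0,0,1; 1,0,0,1; 0,1,0,0; 0,0,1,0]

set_option maxRecDepth 100000 in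
theorem singerMat_det : singerMat.det = 1 := by decide

set_option maxRecDepth 100000 in
theorem singerMat_pow15 : singerMat ^ 15 = 1 := by decide

set_option maxRecDepth 100000 in
theorem singerMat_pow5 : singerMat ^ 5 ≠ 1 := by decide

set_option maxRecDepth 100000 in
theorem singerMat_pow3 : singerMat ^ 3 ≠ 1 := by decide

/-- a Singer cycle of `SL₄(2)` -/
def singerSL : Matrix.SpecialLinearGroup (Fin 4) (ZMod 2) := ⟨singerMat, singerMat_det⟩

theorem orderOf_singerSL : orderOf singerSL = 15 := by
  apply orderOf_eq_of_pow_and_pow_div_prime (by norm_num)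
  · apply Subtype.ext
    rw [Matrix.SpecialLinearGroup.coe_pow]
    exact singerMat_pow15
  · intro p hp hdvd
    have hp15 : p ≤ 15 := Nat.le_of_dvd (by norm_num) hdvd
    have h35 : p = 3 ∨ p = 5 := by
      interval_cases p <;> first | (exfalso; revert hp; decide) | (exfalso; revert hdvd; decide) | simp
    rcases h35 with rfl | rfl
    · intro h
      apply singerMat_pow5
      have := congrArg Subtype.val h
      rw [Matrix.SpecialLinearGroup.coe_pow] at this
      exact this
    · intro h
      apply singerMat_pow3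
      have := congrArg Subtype.val h
      rw [Matrix.SpecialLinearGroup.coe_pow] at this
      exact this

section
variable {F : Type*} [Field F] [Fintype F]

theorem two_eq_zero_of_card_two (hF : Fintype.card F = 2) : (2 : F) = 0 := by
  have h := Nat.cast_card_eq_zero F
  rw [hF] at h
  exact_mod_cast h

theorem eq_one_of_ne_zero_of_card_two (hF : Fintype.card F = 2) (r : F) (hr : r ≠ 0) : r = 1 := by
  classical
  have hc : Fintype.card Fˣ = 1 := by rw [Fintype.card_units, hF]
  haveI : Subsingleton Fˣ := Fintype.card_le_one_iff_subsingleton.1 hc.le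
  have := Subsingleton.elim (Units.mk0 r hr) 1
  exact congrArg Units.val this

theorem center_SL4_of_card_two (hF : Fintype.card F = 2) :
    Subgroup.center (Matrix.SpecialLinearGroup (Fin 4) F) = ⊥ := by
  ext A
  rw [Matrix.SpecialLinearGroup.mem_center_iff, Subgroup.mem_bot]
  constructor
  · rintro ⟨r, hr, hA⟩
    have hr0 : r ≠ 0 := by
      rintro rfl
      simp at hr
    have := eq_one_of_ne_zero_of_card_two hF r hr0
    subst this
    apply Subtype.ext
    rw [← hA]
    simp
  · rintro rfl
    exact ⟨1, by simp, by simp⟩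

theorem SL_map_injective {R S : Type*} [CommRing R] [CommRing S] {n : Type*} [Fintype n]
    [DecidableEq n] (f : R →+* S) (hf : Function.Injective f) :
    Function.Injective (Matrix.SpecialLinearGroup.map (n := n) f) := by
  intro A B h
  apply Subtype.ext
  have h' := congrArg Subtype.val h
  rw [Matrix.SpecialLinearGroup.map_apply_coe, Matrix.SpecialLinearGroup.map_apply_coe,
    RingHom.mapMatrix_apply, RingHom.mapMatrix_apply] at h'
  exact Matrix.map_injective hf h'

theorem exists_orderOf_fifteen_PSL42 (hF : Fintype.card F = 2) :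
    ∃ g : Matrix.ProjectiveSpecialLinearGroup (Fin 4) F, orderOf g = 15 := by
  haveI : CharP F 2 :=
    CharTwo.of_one_ne_zero_of_two_eq_zero one_ne_zero (two_eq_zero_of_card_two hF)
  let f : ZMod 2 →+* F := ZMod.castHom (dvd_refl 2) F
  have hf : Function.Injective f := f.injective
  have hinj := SL_map_injective (n := Fin 4) f hf
  have hcenter := center_SL4_of_card_two hF
  refine ⟨QuotientGroup.mk' _ (Matrix.SpecialLinearGroup.map f singerSL), ?_⟩
  rw [← orderOf_singerSL, ← orderOf_injective (Matrix.SpecialLinearGroup.map f) hinj singerSL]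
  apply orderOf_injective
  rw [← MonoidHom.ker_eq_bot_iff, QuotientGroup.ker_mk']
  exact hcenter

theorem card_PSL42 (hF : Fintype.card F = 2) :
    Nat.card (Matrix.ProjectiveSpecialLinearGroup (Fin 4) F) = 20160 := by
  have h1 := Cfsg.Agent.Lib.Helper3.CardSL.card_PSL_mul (F := F) 4
  rw [center_SL4_of_card_two hF, Subgroup.card_bot, mul_one] at h1
  have h2 := Cfsg.Agent.Lib.Helper3.CardSL.card_GL_eq_card_SL_mul (F := F) 4 (by norm_num)
  rw [Matrix.card_GL_field, Nat.card_units, Nat.card_eq_fintype_card (α := F), hF] at h2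
  rw [h1]
  simp [Fin.prod_univ_four] at h2
  omega

theorem card_center_SL3_of_card_four (hK : Fintype.card F = 4) :
    Nat.card (Subgroup.center (Matrix.SpecialLinearGroup (Fin 3) F)) = 3 := by
  classical
  rw [Nat.card_congr (Matrix.SpecialLinearGroup.center_equiv_rootsOfUnity' (0 : Fin 3)).toEquiv]
  have htop : rootsOfUnity (Fintype.card (Fin 3)) F = ⊤ := by
    rw [eq_top_iff]
    intro u _
    rw [mem_rootsOfUnity, Fintype.card_fin]
    have hc : Fintype.card Fˣ = 3 := by rw [Fintype.card_units, hK]
    rw [← hc]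
    exact pow_card_eq_one
  rw [htop, Subgroup.card_top, Nat.card_units, Nat.card_eq_fintype_card, hK]

theorem card_PSL34 (hK : Fintype.card F = 4) :
    Nat.card (Matrix.ProjectiveSpecialLinearGroup (Fin 3) F) = 20160 := by
  have h1 := Cfsg.Agent.Lib.Helper3.CardSL.card_PSL_mul (F := F) 3
  rw [card_center_SL3_of_card_four hK] at h1
  have h2 := Cfsg.Agent.Lib.Helper3.CardSL.card_GL_eq_card_SL_mul (F := F) 3 (by norm_num)
  rw [Matrix.card_GL_field, Nat.card_units, Nat.card_eq_fintype_card (α := F), hK] at h2
  simp [Fin.prod_univ_three] at h2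
  omega

end

/-- `PSL₄(2)` and `PSL₃(4)` have the same order but are not isomorphic -/
theorem PSL42_not_iso_PSL34 {F K : Type*} [Field F] [Fintype F] [Field K] [Fintype K]
    (hF : Fintype.card F = 2) (hK : Fintype.card K = 4) :
    Nat.card (Matrix.ProjectiveSpecialLinearGroup (Fin 4) F) =
      Nat.card (Matrix.ProjectiveSpecialLinearGroup (Fin 3) K) ∧
    ¬ Nonempty (Matrix.ProjectiveSpecialLinearGroup (Fin 4) F ≃*
      Matrix.ProjectiveSpecialLinearGroup (Fin 3) K) := by
  refine ⟨by rw [card_PSL42 hF, card_PSL34 hK], ?_⟩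
  rintro ⟨e⟩
  obtain ⟨g, hg⟩ := exists_orderOf_fifteen_PSL42 hF
  apply orderOf_ne_fifteen_PSL34 hK (e g)
  rw [MulEquiv.orderOf_eq, hg]

end Cfsg.Agent.Lib.Helper16
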