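import Mathlib
import Cfsg.Prelude.Def_CaseTheorems
import Cfsg.Agent.Lib.Helper1.Frattini
import Cfsg.Agent.Lib.Helper12.QuatFpf

/-!
Sectional rank: a concrete description of `Cfsg.SectionalPRankLE` through pairs of subgroups
`N ≤ B` with `B / N` elementary abelian, and consequences (inheritance to subgroups, products).
-/

set_option autoImplicit false

namespace Cfsg.Agent.Lib.Helper16.SectRank

open Cfsg

variable {G : Type*} [Group G]

/-- `EA p B N`: `N ≤ B`, `B` normalizes `N`, and `B / N` is elementary abelian of exponent `p`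
(stated concretely on elements). -/
def EA (p : ℕ) (B N : Subgroup G) : Prop :=
  N ≤ B ∧ (∀ b ∈ B, ∀ n ∈ N, b * n * b⁻¹ ∈ N) ∧ (∀ b ∈ B, b ^ p ∈ N) ∧
    (∀ a ∈ B, ∀ b ∈ B, a * b * a⁻¹ * b⁻¹ ∈ N)

/-- A concrete elementary abelian section of a group of sectional rank `≤ k` has order `≤ p ^ k`. -/
theorem card_le_of_EA [Finite G] {p k : ℕ} (hr : SectionalPRankLE p k G) {B N : Subgroup G}
    (h : EA p B N) : Nat.card B ≤ p ^ k * Nat.card N := by
  obtain ⟨hNB, hnorm, hpow, hcomm⟩ := h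
  haveI hNn : (N.subgroupOf B).Normal := by
    constructor
    intro n hn b
    rw [Subgroup.mem_subgroupOf] at hn ⊢
    have := hnorm b b.2 n hn
    simpa using this
  have hsec := hr B (N.subgroupOf B)
  have hexp : ∀ q : ↥B ⧸ N.subgroupOf B, q ^ p = 1 := by
    intro q
    obtain ⟨⟨b, hb⟩, rfl⟩ := QuotientGroup.mk_surjective q
    rw [← QuotientGroup.mk_pow, QuotientGroup.eq_one_iff, Subgroup.mem_subgroupOf]
    exact hpow b hb
  have hcm : ∀ a b : ↥B ⧸ N.subgroupOf B, a * b = b * a := by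
    intro a b
    obtain ⟨⟨a, ha⟩, rfl⟩ := QuotientGroup.mk_surjective a
    obtain ⟨⟨b, hb⟩, rfl⟩ := QuotientGroup.mk_surjective b
    rw [← QuotientGroup.mk_mul, ← QuotientGroup.mk_mul, QuotientGroup.eq, Subgroup.mem_subgroupOf]
    have := hcomm b⁻¹ (inv_mem hb) a⁻¹ (inv_mem ha)
    simpa [mul_assoc] using this
  have hmc : IsMulCommutative ↥(⊤ : Subgroup (↥B ⧸ N.subgroupOf B)) :=
    ⟨⟨fun a b => Subtype.ext (hcm a.1 b.1)⟩⟩
  have hle := hsec ⊤ hmc (fun a _ => hexp a)
  rw [Subgroup.card_top, ← Subgroup.index_eq_card] at hle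
  have hle' : N.relIndex B ≤ p ^ k := hle
  have h1 := Subgroup.relIndex_mul_relIndex _ _ _ (bot_le : (⊥ : Subgroup G) ≤ N) hNB
  rw [Subgroup.relIndex_bot_left, Subgroup.relIndex_bot_left] at h1
  rw [← h1, mul_comm]
  exact Nat.mul_le_mul_right _ hle'

/-- The image of a concrete elementary abelian section under a homomorphism. -/
theorem EA.map {G' : Type*} [Group G'] {p : ℕ} {B N : Subgroup G} (h : EA p B N) (f : G →* G') :
    EA p (B.map f) (N.map f) := by
  obtain ⟨h1, h2, h3, h4⟩ := h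
  refine ⟨Subgroup.map_mono h1, ?_, ?_, ?_⟩
  · rintro _ ⟨b, hb, rfl⟩ _ ⟨n, hn, rfl⟩
    exact ⟨b * n * b⁻¹, h2 b hb n hn, by simp⟩
  · rintro _ ⟨b, hb, rfl⟩
    exact ⟨b ^ p, h3 b hb, by simp⟩
  · rintro _ ⟨a, ha, rfl⟩ _ ⟨b, hb, rfl⟩
    exact ⟨a * b * a⁻¹ * b⁻¹, h4 a ha b hb, by simp⟩

/-- Conversely, a bound on all concrete elementary abelian sections bounds the sectional rank. -/
theorem sectionalPRankLE_of_EA [Finite G] {p k : ℕ}
    (h : ∀ B N : Subgroup G, EA p B N → Nat.card B ≤ p ^ k * Nat.card N) :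
    SectionalPRankLE p k G := by
  intro H N hN A hA hexp
  obtain ⟨π, hπ⟩ : ∃ π : ↥H →* ↥H ⧸ N, π = QuotientGroup.mk' N := ⟨_, rfl⟩
  have hπs : Function.Surjective π := by rw [hπ]; exact QuotientGroup.mk'_surjective N
  have hπ1 : ∀ x : ↥H, π x = 1 ↔ x ∈ N := by
    intro x; rw [hπ]; exact QuotientGroup.eq_one_iff x
  obtain ⟨B₀, hB₀⟩ : ∃ B₀ : Subgroup ↥H, B₀ = A.comap π := ⟨_, rfl⟩
  have hmemB₀ : ∀ x, x ∈ B₀ ↔ π x ∈ A := by
    intro x; rw [hB₀, Subgroup.mem_comap]
  have hNB₀ : N ≤ B₀ := by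
    intro n hn
    rw [hmemB₀, (hπ1 n).mpr hn]
    exact one_mem _
  have hEA : EA p (B₀.map H.subtype) (N.map H.subtype) := by
    refine ⟨Subgroup.map_mono hNB₀, ?_, ?_, ?_⟩
    · rintro _ ⟨b, hb, rfl⟩ _ ⟨n, hn, rfl⟩
      exact ⟨b * n * b⁻¹, hN.conj_mem n hn b, by simp⟩
    · rintro _ ⟨b, hb, rfl⟩
      refine ⟨b ^ p, ?_, by simp⟩
      have hb' : π b ∈ A := (hmemB₀ b).mp hb
      have := hexp (π b) hb'
      rw [← map_pow] at this
      exact (hπ1 _).mp this
    · rintro _ ⟨a, ha, rfl⟩ _ ⟨b, hb, rfl⟩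
      refine ⟨a * b * a⁻¹ * b⁻¹, ?_, by simp⟩
      have ha' : π a ∈ A := (hmemB₀ a).mp ha
      have hb' : π b ∈ A := (hmemB₀ b).mp hb
      have hc : π a * π b = π b * π a := by
        have := (isMulCommutative_iff.mp hA) ⟨π a, ha'⟩ ⟨π b, hb'⟩
        exact congrArg Subtype.val this
      apply (hπ1 _).mp
      rw [map_mul, map_mul, map_mul, map_inv, map_inv, hc]
      group
  have hcard := h _ _ hEA
  rw [Subgroup.card_map_of_injective H.subtype_injective,
    Subgroup.card_map_of_injective H.subtype_injective] at hcard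
  have hB₀card : Nat.card B₀ = Nat.card A * Nat.card N := by
    have h1 : B₀.index = A.index := by
      rw [hB₀]; exact Subgroup.index_comap_of_surjective A hπs
    have h2 := Subgroup.card_mul_index B₀
    have h3 := Subgroup.card_mul_index A
    have h4 := Subgroup.card_eq_card_quotient_mul_card_subgroup N
    have h5 : A.index ≠ 0 := Subgroup.index_ne_zero_of_finite
    have h6 : Nat.card B₀ * A.index = Nat.card A * Nat.card N * A.index := by
      rw [← h1, h2, h4, ← h3, h1]; ring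
    exact Nat.eq_of_mul_eq_mul_right (Nat.pos_of_ne_zero h5) h6
  rw [hB₀card] at hcard
  exact Nat.le_of_mul_le_mul_right hcard Nat.card_pos

/-- Sectional rank bounds pass to subgroups. -/
theorem sectionalPRankLE_subgroup [Finite G] {p k : ℕ} (hr : SectionalPRankLE p k G)
    (H : Subgroup G) : SectionalPRankLE p k ↥H := by
  apply sectionalPRankLE_of_EA
  intro B N h
  have := card_le_of_EA hr (h.map H.subtype)
  rwa [Subgroup.card_map_of_injective H.subtype_injective,
    Subgroup.card_map_of_injective H.subtype_injective] at this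

/-- Elements of the join of two elementwise commuting subgroups are products. -/
theorem exists_mul_of_mem_sup {A B : Subgroup G} (hc : ∀ a ∈ A, ∀ b ∈ B, a * b = b * a) {x : G}
    (hx : x ∈ A ⊔ B) : ∃ a ∈ A, ∃ b ∈ B, x = a * b := by
  have hcm : ∀ (m : ↥A) (n : ↥B), Commute (A.subtype m) (B.subtype n) := fun a b => hc a a.2 b b.2
  have hr := MonoidHom.noncommCoprod_range A.subtype B.subtype hcm
  rw [Subgroup.range_subtype, Subgroup.range_subtype] at hr
  rw [← hr] at hx
  obtain ⟨⟨a, b⟩, rfl⟩ := hx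
  exact ⟨a, a.2, b, b.2, by simp [MonoidHom.noncommCoprod_apply]⟩

theorem card_sup_le [Finite G] {A B : Subgroup G} (hc : ∀ a ∈ A, ∀ b ∈ B, a * b = b * a) :
    Nat.card ↥(A ⊔ B) ≤ Nat.card A * Nat.card B := by
  have hcm : ∀ (m : ↥A) (n : ↥B), Commute (A.subtype m) (B.subtype n) := fun a b => hc a a.2 b b.2
  have hr := MonoidHom.noncommCoprod_range A.subtype B.subtype hcm
  rw [Subgroup.range_subtype, Subgroup.range_subtype] at hr
  rw [← hr, ← Nat.card_prod]
  exact Nat.card_le_card_of_surjective _ (MonoidHom.rangeRestrict_surjective _)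

theorem card_sup_eq [Finite G] {A B : Subgroup G} (hc : ∀ a ∈ A, ∀ b ∈ B, a * b = b * a)
    (hd : A ⊓ B = ⊥) : Nat.card ↥(A ⊔ B) = Nat.card A * Nat.card B := by
  have hcm : ∀ (m : ↥A) (n : ↥B), Commute (A.subtype m) (B.subtype n) := fun a b => hc a a.2 b b.2
  have hr := MonoidHom.noncommCoprod_range A.subtype B.subtype hcm
  rw [Subgroup.range_subtype, Subgroup.range_subtype] at hr
  have hinj : Function.Injective
      (MonoidHom.noncommCoprod A.subtype B.subtype hcm) := by
    rw [MonoidHom.noncommCoprod_injective]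
    refine ⟨A.subtype_injective, B.subtype_injective, ?_⟩
    rw [Subgroup.range_subtype, Subgroup.range_subtype, disjoint_iff, hd]
  rw [← hr, ← Nat.card_prod]
  exact (Nat.card_congr (MonoidHom.ofInjective hinj).toEquiv).symm

/-- The join of two commuting concrete elementary abelian sections. -/
theorem EA.sup {p : ℕ} {B N B' N' : Subgroup G} (h : EA p B N) (h' : EA p B' N')
    (hc : ∀ a ∈ B, ∀ b ∈ B', a * b = b * a) : EA p (B ⊔ B') (N ⊔ N') := by
  obtain ⟨h1, h2, h3, h4⟩ := h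
  obtain ⟨h1', h2', h3', h4'⟩ := h'
  refine ⟨sup_le_sup h1 h1', ?_, ?_, ?_⟩
  · intro x hx
    obtain ⟨a, ha, b, hb, rfl⟩ := exists_mul_of_mem_sup hc hx
    have key : N ⊔ N' ≤ (N ⊔ N').comap (MulAut.conj (a * b)).toMonoidHom := by
      apply sup_le
      · intro n hn
        rw [Subgroup.mem_comap]
        show (a * b) * n * (a * b)⁻¹ ∈ N ⊔ N'
        have e : (a * b) * n * (a * b)⁻¹ = a * n * a⁻¹ := by
          have h5 := hc n (h1 hn) b hb
          calc a * b * n * (a * b)⁻¹ = a * (b * n) * b⁻¹ * a⁻¹ := by group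
            _ = a * (n * b) * b⁻¹ * a⁻¹ := by rw [h5]
            _ = a * n * a⁻¹ := by group
        rw [e]; exact Subgroup.mem_sup_left (h2 a ha n hn)
      · intro n hn
        rw [Subgroup.mem_comap]
        show (a * b) * n * (a * b)⁻¹ ∈ N ⊔ N'
        have e : (a * b) * n * (a * b)⁻¹ = b * n * b⁻¹ := by
          have h5 := hc a ha (b * n * b⁻¹) (B'.mul_mem (B'.mul_mem hb (h1' hn)) (B'.inv_mem hb))
          calc a * b * n * (a * b)⁻¹ = a * (b * n * b⁻¹) * a⁻¹ := by group
            _ = (b * n * b⁻¹) * a * a⁻¹ := by rw [h5]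
            _ = b * n * b⁻¹ := by group
        rw [e]; exact Subgroup.mem_sup_right (h2' b hb n hn)
    intro n hn
    exact key hn
  · intro x hx
    obtain ⟨a, ha, b, hb, rfl⟩ := exists_mul_of_mem_sup hc hx
    have hab : Commute a b := hc a ha b hb
    rw [hab.mul_pow]
    exact Subgroup.mul_mem _ (Subgroup.mem_sup_left (h3 a ha)) (Subgroup.mem_sup_right (h3' b hb))
  · intro x hx y hy
    obtain ⟨a, ha, b, hb, rfl⟩ := exists_mul_of_mem_sup hc hx
    obtain ⟨a', ha', b', hb', rfl⟩ := exists_mul_of_mem_sup hc hy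
    have c1 : b * a' = a' * b := (hc a' ha' b hb).symm
    have c2 : (b * b' * b⁻¹) * a⁻¹ = a⁻¹ * (b * b' * b⁻¹) :=
      (hc a⁻¹ (inv_mem ha) _ (B'.mul_mem (B'.mul_mem hb hb') (B'.inv_mem hb))).symm
    have c3 : (b * b' * b⁻¹ * b'⁻¹) * a'⁻¹ = a'⁻¹ * (b * b' * b⁻¹ * b'⁻¹) :=
      (hc a'⁻¹ (inv_mem ha') _
        (B'.mul_mem (B'.mul_mem (B'.mul_mem hb hb') (B'.inv_mem hb)) (B'.inv_mem hb'))).symm
    have e : a * b * (a' * b') * (a * b)⁻¹ * (a' * b')⁻¹ =
        (a * a' * a⁻¹ * a'⁻¹) * (b * b' * b⁻¹ * b'⁻¹) := by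
      calc a * b * (a' * b') * (a * b)⁻¹ * (a' * b')⁻¹
          = a * (b * a') * b' * b⁻¹ * a⁻¹ * b'⁻¹ * a'⁻¹ := by group
        _ = a * (a' * b) * b' * b⁻¹ * a⁻¹ * b'⁻¹ * a'⁻¹ := by rw [c1]
        _ = a * a' * ((b * b' * b⁻¹) * a⁻¹) * b'⁻¹ * a'⁻¹ := by group
        _ = a * a' * (a⁻¹ * (b * b' * b⁻¹)) * b'⁻¹ * a'⁻¹ := by rw [c2]
        _ = a * a' * a⁻¹ * ((b * b' * b⁻¹ * b'⁻¹) * a'⁻¹) := by group
        _ = a * a' * a⁻¹ * (a'⁻¹ * (b * b' * b⁻¹ * b'⁻¹)) := by rw [c3]
        _ = (a * a' * a⁻¹ * a'⁻¹) * (b * b' * b⁻¹ * b'⁻¹) := by group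
    rw [e]
    exact Subgroup.mul_mem _ (Subgroup.mem_sup_left (h4 a ha a' ha'))
      (Subgroup.mem_sup_right (h4' b hb b' hb'))

/-- A cyclic group over its subgroup of `p`-th powers. -/
theorem EA_zpowers (p : ℕ) (x : G) : EA p (Subgroup.zpowers x) (Subgroup.zpowers (x ^ p)) := by
  refine ⟨?_, ?_, ?_, ?_⟩
  · rw [Subgroup.zpowers_le]; exact Subgroup.pow_mem _ (Subgroup.mem_zpowers x) p
  · intro b hb n hn
    obtain ⟨i, rfl⟩ := Subgroup.mem_zpowers_iff.mp hb
    obtain ⟨j, rfl⟩ := Subgroup.mem_zpowers_iff.mp hn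
    have hc : Commute (x ^ i) ((x ^ p) ^ j) := ((Commute.refl x).pow_right p).zpow_zpow i j
    rw [hc.eq, mul_inv_cancel_right]
    exact Subgroup.zpow_mem _ (Subgroup.mem_zpowers _) j
  · intro b hb
    obtain ⟨i, rfl⟩ := Subgroup.mem_zpowers_iff.mp hb
    rw [Subgroup.mem_zpowers_iff]
    exact ⟨i, by rw [← zpow_natCast, ← zpow_natCast, ← zpow_mul, ← zpow_mul, mul_comm]⟩
  · intro a ha b hb
    obtain ⟨i, rfl⟩ := Subgroup.mem_zpowers_iff.mp ha
    obtain ⟨j, rfl⟩ := Subgroup.mem_zpowers_iff.mp hb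
    have hc : Commute (x ^ i) (x ^ j) := (Commute.refl x).zpow_zpow i j
    rw [hc.eq, mul_inv_cancel_right, mul_inv_cancel]
    exact one_mem _

/-- A finite `p`-group over its Frattini subgroup. -/
theorem EA_frattini {P : Type*} [Group P] [Finite P] {p : ℕ} [Fact p.Prime] (hP : IsPGroup p P) :
    EA p (⊤ : Subgroup P) (frattini P) := by
  refine ⟨le_top, ?_, ?_, ?_⟩
  · intro b _ n hn
    exact (inferInstance : (frattini P).Normal).conj_mem n hn b
  · intro b _
    exact Cfsg.Agent.Lib.Helper1.IsPGroup.pow_mem_frattini hP b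
  · intro a _ b _
    apply Cfsg.Agent.Lib.Helper1.IsPGroup.commutator_le_frattini hP
    rw [← commutatorElement_def]
    exact Subgroup.commutator_mem_commutator (Subgroup.mem_top a) (Subgroup.mem_top b)

/-- the Frattini quotient of a non-commutative 2-group has order at least 4 -/
theorem four_le_index_frattini {P : Type*} [Group P] [Finite P] (h2 : IsPGroup 2 P)
    (hP : ¬ IsMulCommutative P) : 4 ≤ (frattini P).index := by
  have : Fact (Nat.Prime 2) := ⟨Nat.prime_two⟩
  have hq : IsPGroup 2 (P ⧸ frattini P) := h2.to_quotient (frattini P)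
  obtain ⟨k, hk⟩ := IsPGroup.iff_card.mp hq
  have hnc : ¬ IsCyclic (P ⧸ frattini P) := fun hc =>
    hP (Cfsg.Agent.Lib.Helper12.QuatFpf.isMulCommutative_of_isCyclic_quotient (frattini P) le_rfl hc)
  rw [Subgroup.index_eq_card, hk]
  rcases k with _ | _ | k
  · exfalso; apply hnc
    rw [pow_zero] at hk
    have : Subsingleton (P ⧸ frattini P) := (Nat.card_eq_one_iff_unique.mp hk).1
    exact isCyclic_of_subsingleton
  · exfalso; apply hnc
    rw [zero_add, pow_one] at hk
    exact isCyclic_of_prime_card hk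
  · have : 2 ^ (k + 1 + 1) = 4 * 2 ^ k := by ring
    rw [this]
    have := Nat.one_le_two_pow (n := k)
    omega

/-- order of the preimage of a subgroup under a surjective homomorphism -/
theorem card_comap_of_surjective {G' : Type*} [Group G'] [Finite G] (f : G →* G')
    (hf : Function.Surjective f) (A : Subgroup G') :
    Nat.card (A.comap f) = Nat.card A * Nat.card f.ker := by
  haveI : Finite G' := Finite.of_surjective f hf
  have h1 : (A.comap f).index = A.index := Subgroup.index_comap_of_surjective A hf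
  have h2 := Subgroup.card_mul_index (A.comap f)
  have h3 := Subgroup.card_mul_index A
  have h4 : Nat.card G = Nat.card G' * Nat.card f.ker := by
    rw [← Nat.card_congr (QuotientGroup.quotientKerEquivOfSurjective f hf).toEquiv]
    exact Subgroup.card_eq_card_quotient_mul_card_subgroup f.ker
  have h5 : A.index ≠ 0 := Subgroup.index_ne_zero_of_finite
  have h6 : Nat.card (A.comap f) * A.index = Nat.card A * Nat.card f.ker * A.index := by
    rw [← h1, h2, h4, ← h3, h1]; ring
  exact Nat.eq_of_mul_eq_mul_right (Nat.pos_of_ne_zero h5) h6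

/-- The preimage of a concrete elementary abelian section under a homomorphism. -/
theorem EA.comap {G' : Type*} [Group G'] {p : ℕ} {B N : Subgroup G'} (h : EA p B N)
    (f : G →* G') : EA p (B.comap f) (N.comap f) := by
  obtain ⟨h1, h2, h3, h4⟩ := h
  refine ⟨Subgroup.comap_mono h1, ?_, ?_, ?_⟩
  · intro b hb n hn
    rw [Subgroup.mem_comap] at hb hn ⊢
    rw [map_mul, map_mul, map_inv]; exact h2 _ hb _ hn
  · intro b hb
    rw [Subgroup.mem_comap] at hb ⊢
    rw [map_pow]; exact h3 _ hb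
  · intro a ha b hb
    rw [Subgroup.mem_comap] at ha hb ⊢
    rw [map_mul, map_mul, map_mul, map_inv, map_inv]; exact h4 _ ha _ hb

/-- Sectional rank bounds pass to homomorphic images. -/
theorem sectionalPRankLE_of_surjective {G' : Type*} [Group G'] [Finite G] {p k : ℕ}
    (hr : SectionalPRankLE p k G) (f : G →* G') (hf : Function.Surjective f) :
    SectionalPRankLE p k G' := by
  haveI : Finite G' := Finite.of_surjective f hf
  apply sectionalPRankLE_of_EA
  intro B N h
  have h1 := card_le_of_EA hr (h.comap f)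
  rw [card_comap_of_surjective f hf, card_comap_of_surjective f hf, ← mul_assoc] at h1
  exact Nat.le_of_mul_le_mul_right h1 Nat.card_pos

/-- a non-commutative 2-group has index at least 4 over any normal subgroup of its Frattini
subgroup -/
theorem four_le_index_of_le_frattini {P : Type*} [Group P] [Finite P] (h2 : IsPGroup 2 P)
    (hP : ¬ IsMulCommutative P) (N : Subgroup P) [N.Normal] (hN : N ≤ frattini P) :
    4 ≤ N.index := by
  have : Fact (Nat.Prime 2) := ⟨Nat.prime_two⟩
  have hq : IsPGroup 2 (P ⧸ N) := h2.to_quotient N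
  obtain ⟨k, hk⟩ := IsPGroup.iff_card.mp hq
  have hnc : ¬ IsCyclic (P ⧸ N) := fun hc =>
    hP (Cfsg.Agent.Lib.Helper12.QuatFpf.isMulCommutative_of_isCyclic_quotient N hN hc)
  rw [Subgroup.index_eq_card, hk]
  rcases k with _ | _ | k
  · exfalso; apply hnc
    rw [pow_zero] at hk
    have : Subsingleton (P ⧸ N) := (Nat.card_eq_one_iff_unique.mp hk).1
    exact isCyclic_of_subsingleton
  · exfalso; apply hnc
    rw [zero_add, pow_one] at hk
    exact isCyclic_of_prime_card hk
  · have : 2 ^ (k + 1 + 1) = 4 * 2 ^ k := by ring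
    rw [this]
    have := Nat.one_le_two_pow (n := k)
    omega

end Cfsg.Agent.Lib.Helper16.SectRank
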