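import Mathlib
import Cfsg.Prelude.Def_Characters
import Cfsg.Agent.Lib.Helper11.S3282Defs
import Cfsg.Agent.Lib.Helper11.S3282Eval
import Cfsg.Agent.Lib.Helper2.NormalInduction
import Cfsg.Agent.Lib.Helper24.S3282CT45

set_option autoImplicit false
set_option linter.unusedSectionVars false

namespace Cfsg.Agent.Lib.Helper16.S3282S5

open Cfsg Cfsg.Agent.Lib.Helper2 Cfsg.Agent.Lib.Helper11 Cfsg.Agent.Lib.Helper11.S3282
open Cfsg.Agent.Lib.Helper24.S3282CT45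
open scoped ComplexConjugate

universe u

variable {G : Type u} [Group G] {t s : G} {K : Subgroup G}


variable [Fintype G] [Fintype K]

/-- `Del` does not see complex conjugation of `μ`. -/
theorem Del_cj
    (hmem : ∀ {μ : K → ℂ}, Cfsg.IsIrrCharacter K μ → ∀ y : K,
      Del K μ (y : G) = 2 - μ y - conj (μ y))
    (hnot : ∀ (μ : K → ℂ) {x : G}, x ≠ 1 → x ∉ conjSet K → Del K μ x = 0)
    {μ : K → ℂ} (hμ : Cfsg.IsIrrCharacter K μ) :
    Del K (cj μ) = Del K μ := by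
  have hcμ : Cfsg.IsIrrCharacter K (cj μ) := isIrrCharacter_conj hμ
  have key : ∀ y : K, Del K (cj μ) (y : G) = Del K μ (y : G) := by
    intro y
    rw [hmem hcμ y, hmem hμ y]
    simp only [cj, Complex.conj_conj]
    ring
  funext x
  by_cases hx1 : x = 1
  · subst hx1
    exact key 1
  by_cases hx : x ∈ conjSet K
  · obtain ⟨_, g, hg⟩ := hx
    have e1 := Del_isClassFunction K (cj μ) x g
    have e2 := Del_isClassFunction K μ x g
    rw [← e1, ← e2]
    exact key ⟨g * x * g⁻¹, hg⟩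
  · rw [hnot (cj μ) hx1 hx, hnot μ hx1 hx]

theorem Del_apply_one (h : Hyp t s K)
    (hmem : ∀ {μ : K → ℂ}, Cfsg.IsIrrCharacter K μ → ∀ y : K,
      Del K μ (y : G) = 2 - μ y - conj (μ y))
    {μ : K → ℂ} (hμ : Cfsg.IsIrrCharacter K μ) :
    Del K μ 1 = 0 := by
  have e := hmem hμ 1
  rw [(CT5_mul h.comm hμ).1] at e
  rw [Subgroup.coe_one] at e
  rw [e]
  simp
  norm_num

theorem classInner_zero_left (ψ : G → ℂ) : Cfsg.classInner (0 : G → ℂ) ψ = 0 := by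
  unfold Cfsg.classInner
  simp

/-- the sum over `Irr K` when `Irr K = {1, μ₁, cj μ₁, μ₂, cj μ₂, σ}`. -/
theorem sum_six [Fintype (Cfsg.IrrCharacter K)]
    (μ₁ μ₂ σ : K → ℂ) (hμ₁ : Cfsg.IsIrrCharacter K μ₁) (hμ₂ : Cfsg.IsIrrCharacter K μ₂)
    (hσ : Cfsg.IsIrrCharacter K σ) (h1 : cj μ₁ ≠ μ₁) (h2 : cj μ₂ ≠ μ₂) (hσr : cj σ = σ)
    (hσ1 : σ ≠ fun _ => 1) (h21 : μ₂ ≠ μ₁) (h21' : μ₂ ≠ cj μ₁)
    (hall : ∀ μ : K → ℂ, Cfsg.IsIrrCharacter K μ →
      μ = (fun _ => 1) ∨ μ = μ₁ ∨ μ = cj μ₁ ∨ μ = μ₂ ∨ μ = cj μ₂ ∨ μ = σ)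
    (f : (K → ℂ) → ℂ) :
    ∑ μ : Cfsg.IrrCharacter K, f (μ : K → ℂ)
      = f (fun _ => 1) + f μ₁ + f (cj μ₁) + f μ₂ + f (cj μ₂) + f σ := by
  classical
  have hcc : ∀ μ : K → ℂ, cj (cj μ) = μ := by
    intro μ; funext a; simp [cj]
  have hc1 : cj (fun _ : K => (1 : ℂ)) = fun _ => 1 := by
    funext a; simp [cj]
  have hI1 : Cfsg.IsIrrCharacter K (fun _ : K => (1 : ℂ)) :=
    Cfsg.Agent.Lib.Helper25.isIrrCharacter_one
  have hc₁ : Cfsg.IsIrrCharacter K (cj μ₁) := isIrrCharacter_conj hμ₁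
  have hc₂ : Cfsg.IsIrrCharacter K (cj μ₂) := isIrrCharacter_conj hμ₂
  -- distinctness
  have d1 : μ₁ ≠ fun _ => 1 := by
    intro e; apply h1; rw [e, hc1]
  have d2 : μ₂ ≠ fun _ => 1 := by
    intro e; apply h2; rw [e, hc1]
  have d3 : cj μ₁ ≠ fun _ => 1 := by
    intro e; apply d1; rw [← hcc μ₁, e, hc1]
  have d4 : cj μ₂ ≠ fun _ => 1 := by
    intro e; apply d2; rw [← hcc μ₂, e, hc1]
  have d5 : μ₁ ≠ σ := by
    intro e; apply h1; rw [e, hσr]
  have d6 : μ₂ ≠ σ := by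
    intro e; apply h2; rw [e, hσr]
  have d7 : cj μ₁ ≠ σ := by
    intro e; apply d5; rw [← hcc μ₁, e, hσr]
  have d8 : cj μ₂ ≠ σ := by
    intro e; apply d6; rw [← hcc μ₂, e, hσr]
  have d9 : cj μ₂ ≠ μ₁ := by
    intro e; apply h21'; rw [← e, hcc]
  have d10 : cj μ₂ ≠ cj μ₁ := by
    intro e; apply h21; rw [← hcc μ₂, e, hcc]
  let I1 : Cfsg.IrrCharacter K := ⟨_, hI1⟩
  let J1 : Cfsg.IrrCharacter K := ⟨_, hμ₁⟩
  let J1' : Cfsg.IrrCharacter K := ⟨_, hc₁⟩
  let J2 : Cfsg.IrrCharacter K := ⟨_, hμ₂⟩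
  let J2' : Cfsg.IrrCharacter K := ⟨_, hc₂⟩
  let Js : Cfsg.IrrCharacter K := ⟨_, hσ⟩
  have huniv : (Finset.univ : Finset (Cfsg.IrrCharacter K)) = {I1, J1, J1', J2, J2', Js} := by
    ext μ
    simp only [Finset.mem_univ, true_iff, Finset.mem_insert, Finset.mem_singleton]
    rcases hall μ.1 μ.2 with e | e | e | e | e | e
    · exact Or.inl (Subtype.ext e)
    · exact Or.inr (Or.inl (Subtype.ext e))
    · exact Or.inr (Or.inr (Or.inl (Subtype.ext e)))
    · exact Or.inr (Or.inr (Or.inr (Or.inl (Subtype.ext e))))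
    · exact Or.inr (Or.inr (Or.inr (Or.inr (Or.inl (Subtype.ext e)))))
    · exact Or.inr (Or.inr (Or.inr (Or.inr (Or.inr (Subtype.ext e)))))
  rw [huniv]
  rw [Finset.sum_insert, Finset.sum_insert, Finset.sum_insert, Finset.sum_insert,
    Finset.sum_insert, Finset.sum_singleton]
  · simp only [I1, J1, J1', J2, J2', Js]
    ring
  · simp only [Finset.mem_singleton, J2', Js, Subtype.mk.injEq]
    exact d8
  · simp only [Finset.mem_insert, Finset.mem_singleton, J2, J2', Js, Subtype.mk.injEq, not_or]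
    exact ⟨fun e => h2 e.symm, d6⟩
  · simp only [Finset.mem_insert, Finset.mem_singleton, J1', J2, J2', Js, Subtype.mk.injEq, not_or]
    exact ⟨fun e => h21' e.symm, fun e => d10 e.symm, d7⟩
  · simp only [Finset.mem_insert, Finset.mem_singleton, J1, J1', J2, J2', Js, Subtype.mk.injEq,
      not_or]
    exact ⟨fun e => h1 e.symm, fun e => h21 e.symm, fun e => d9 e.symm, d5⟩
  · simp only [Finset.mem_insert, Finset.mem_singleton, I1, J1, J1', J2, J2', Js,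
      Subtype.mk.injEq, not_or]
    exact ⟨fun e => d1 e.symm, fun e => d3 e.symm, fun e => d2 e.symm, fun e => d4 e.symm,
      fun e => hσ1 e.symm⟩

theorem sq_one_cases {z : ℂ} (hz : z * z = 1) : z = 1 ∨ z = -1 := by
  have : (z - 1) * (z + 1) = 0 := by ring_nf; rw [pow_two, hz]; ring
  rcases mul_eq_zero.mp this with e | e
  · left; exact sub_eq_zero.mp e
  · right; exact eq_neg_of_add_eq_zero_left e

theorem S5_false_aux (h : Hyp t s K) [Fintype (Cfsg.IrrCharacter G)]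
    [Fintype (Cfsg.IrrCharacter K)]
    (hmem : ∀ {μ : K → ℂ}, Cfsg.IsIrrCharacter K μ → ∀ y : K,
      Del K μ (y : G) = 2 - μ y - conj (μ y))
    (hnot : ∀ (μ : K → ℂ) {x : G}, x ≠ 1 → x ∉ conjSet K → Del K μ x = 0)
    (hsoft : ∀ {μ : K → ℂ}, Cfsg.IsIrrCharacter K μ → (μ ≠ fun _ => 1) →
      evalF (fun χ => χ t ^ 2 / χ 1) (Del K μ)
        = 4 * (Nat.card K : ℂ) ^ 3 / (Nat.card G : ℂ))
    (μ₁ μ₂ σ : K → ℂ) (hμ₁ : Cfsg.IsIrrCharacter K μ₁) (hμ₂ : Cfsg.IsIrrCharacter K μ₂)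
    (hσ : Cfsg.IsIrrCharacter K σ) (h1 : cj μ₁ ≠ μ₁) (h2 : cj μ₂ ≠ μ₂) (hσr : cj σ = σ)
    (hσ1 : σ ≠ fun _ => 1) (h21 : μ₂ ≠ μ₁) (h21' : μ₂ ≠ cj μ₁)
    (hall : ∀ μ : K → ℂ, Cfsg.IsIrrCharacter K μ →
      μ = (fun _ => 1) ∨ μ = μ₁ ∨ μ = cj μ₁ ∨ μ = μ₂ ∨ μ = cj μ₂ ∨ μ = σ)
    (X L₁ L₂ B : G → ℂ) (hX : IsSignedIrr X) (hL₁ : IsSignedIrr L₁) (hL₂ : IsSignedIrr L₂)
    (_hB : IsSignedIrr B)
    (hD1 : Del K μ₁ = (fun _ => 1) + X - L₁) (hD2 : Del K μ₂ = (fun _ => 1) + X - L₂)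
    (hDσ : Del K σ = (fun _ => 1) - L₁ - L₂ + B)
    (_o1 : Cfsg.classInner X (fun _ => 1) = 0) (o2 : Cfsg.classInner L₁ (fun _ => 1) = 0)
    (o3 : Cfsg.classInner L₂ (fun _ => 1) = 0) (_o4 : Cfsg.classInner B (fun _ => 1) = 0)
    (o5 : Cfsg.classInner X L₁ = 0) (o6 : Cfsg.classInner X L₂ = 0)
    (_o7 : Cfsg.classInner X B = 0) (o8 : Cfsg.classInner L₁ L₂ = 0)
    (o9 : Cfsg.classInner L₁ B = 0) (o10 : Cfsg.classInner L₂ B = 0) : False := by
  classical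
  have hc1 : cj (fun _ : K => (1 : ℂ)) = fun _ => 1 := by
    funext a; simp [cj]
  have d1 : μ₁ ≠ fun _ => 1 := by
    intro e; apply h1; rw [e, hc1]
  have d2 : μ₂ ≠ fun _ => 1 := by
    intro e; apply h2; rw [e, hc1]
  -- the element `t` of `K`
  let tK : K := ⟨t, h.htK⟩
  have htK1 : tK ≠ 1 := by
    intro e
    have e' : t = 1 := congrArg Subtype.val e
    have := h.ht
    rw [e', orderOf_one] at this
    omega
  have htt : tK * tK = 1 := by
    apply Subtype.ext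
    show t * t = 1
    have := pow_orderOf_eq_one t
    rw [h.ht, pow_two] at this
    exact this
  -- values at `t` are signs
  have hsign : ∀ μ : K → ℂ, Cfsg.IsIrrCharacter K μ → μ tK = 1 ∨ μ tK = -1 := by
    intro μ hμ
    obtain ⟨e1, em⟩ := CT5_mul h.comm hμ
    apply sq_one_cases
    rw [← em, htt, e1]
  have hconj : ∀ z : ℂ, z = 1 ∨ z = -1 → conj z = z := by
    intro z hz
    rcases hz with rfl | rfl <;> simp
  set a := μ₁ tK with ha
  set b := μ₂ tK with hb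
  set c := σ tK with hc
  have ha' := hsign μ₁ hμ₁
  have hb' := hsign μ₂ hμ₂
  have hc' := hsign σ hσ
  rw [← ha] at ha'
  rw [← hb] at hb'
  rw [← hc] at hc'
  -- ∑ μ t = 0
  have hsum := CT5_sum (K := K) h.comm htK1
  rw [sum_six μ₁ μ₂ σ hμ₁ hμ₂ hσ h1 h2 hσr hσ1 h21 h21' hall (fun μ => μ tK)] at hsum
  simp only [cj] at hsum
  rw [← ha, ← hb, ← hc, hconj a ha', hconj b hb'] at hsum
  -- symmetric orthogonality
  have sym : ∀ φ ψ : G → ℂ, Cfsg.classInner φ ψ = 0 → Cfsg.classInner ψ φ = 0 := by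
    intro φ ψ e
    rw [← classInner_conj_symm, e, map_zero]
  have hL₁cf := signedIrr_isClassFunction hL₁
  have hL₂cf := signedIrr_isClassFunction hL₂
  -- the inner products with `L₁`
  have i1 : Cfsg.classInner (Del K μ₁) L₁ = -1 := by
    rw [hD1, classInner_sub_left, classInner_add_left, sym _ _ o2, o5, hL₁.inner_self]
    ring
  have i2 : Cfsg.classInner (Del K μ₂) L₁ = 0 := by
    rw [hD2, classInner_sub_left, classInner_add_left, sym _ _ o2, o5, sym _ _ o8]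
    ring
  have i3 : Cfsg.classInner (Del K σ) L₁ = -1 := by
    rw [hDσ, classInner_add_left, classInner_sub_left, classInner_sub_left, sym _ _ o2,
      hL₁.inner_self, sym _ _ o8, sym _ _ o9]
    ring
  have j1 : Cfsg.classInner (Del K μ₁) L₂ = 0 := by
    rw [hD1, classInner_sub_left, classInner_add_left, sym _ _ o3, o6, o8]
    ring
  have j2 : Cfsg.classInner (Del K μ₂) L₂ = -1 := by
    rw [hD2, classInner_sub_left, classInner_add_left, sym _ _ o3, o6, hL₂.inner_self]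
    ring
  have j3 : Cfsg.classInner (Del K σ) L₂ = -1 := by
    rw [hDσ, classInner_add_left, classInner_sub_left, classInner_sub_left, sym _ _ o3,
      hL₂.inner_self, o8, sym _ _ o10]
    ring
  -- values of `L₁`, `L₂` at `t`
  have hL₁t : L₁ t = 2 * a + c := by
    have e := CT4_apply (K := K) h.comm hL₁cf tK htK1
    rw [sum_six μ₁ μ₂ σ hμ₁ hμ₂ hσ h1 h2 hσr hσ1 h21 h21' hall
      (fun μ => conj (Cfsg.classInner (Del K μ) L₁) * μ tK)] at e
    rw [Del_one, classInner_zero_left, Del_cj hmem hnot hμ₁, Del_cj hmem hnot hμ₂, i1, i2, i3] at e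
    simp only [cj] at e
    rw [← ha, ← hb, ← hc, hconj a ha', hconj b hb'] at e
    have e' : L₁ t = L₁ (tK : G) := rfl
    rw [e', e]
    simp
    ring
  have hL₂t : L₂ t = 2 * b + c := by
    have e := CT4_apply (K := K) h.comm hL₂cf tK htK1
    rw [sum_six μ₁ μ₂ σ hμ₁ hμ₂ hσ h1 h2 hσr hσ1 h21 h21' hall
      (fun μ => conj (Cfsg.classInner (Del K μ) L₂) * μ tK)] at e
    rw [Del_one, classInner_zero_left, Del_cj hmem hnot hμ₁, Del_cj hmem hnot hμ₂, j1, j2, j3] at e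
    simp only [cj] at e
    rw [← ha, ← hb, ← hc, hconj a ha', hconj b hb'] at e
    have e' : L₂ t = L₂ (tK : G) := rfl
    rw [e', e]
    simp
    ring
  -- degrees
  have hdeg1 : L₁ 1 = 1 + X 1 := by
    have e := Del_apply_one h hmem hμ₁
    rw [hD1] at e
    simp only [Pi.add_apply, Pi.sub_apply] at e
    linear_combination -e
  have hdeg2 : L₂ 1 = 1 + X 1 := by
    have e := Del_apply_one h hmem hμ₂
    rw [hD2] at e
    simp only [Pi.add_apply, Pi.sub_apply] at e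
    linear_combination -e
  -- the soft identity
  have hodd : ∀ f : G → ℂ, (fun χ : G → ℂ => χ t ^ 2 / χ 1) (-f)
      = - (fun χ : G → ℂ => χ t ^ 2 / χ 1) f := by
    intro f
    simp only [Pi.neg_apply]
    rw [neg_sq, div_neg]
  have s1 := hsoft hμ₁ d1
  have s2 := hsoft hμ₂ d2
  rw [hD1, evalF_sub, evalF_add, evalF_signed _ hX hodd, evalF_signed _ hL₁ hodd] at s1
  rw [hD2, evalF_sub, evalF_add, evalF_signed _ hX hodd, evalF_signed _ hL₂ hodd] at s2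
  have s3 : L₁ t ^ 2 / L₁ 1 = L₂ t ^ 2 / L₂ 1 := by
    have := s1.trans s2.symm
    simp only at this
    linear_combination -this
  have hne : L₁ 1 ≠ 0 := hL₁.apply_one_ne_zero
  rw [hdeg2, ← hdeg1, hL₁t, hL₂t] at s3
  have s4 : (2 * a + c) ^ 2 = (2 * b + c) ^ 2 := by
    field_simp at s3
    exact s3
  -- finish by cases on the signs
  rcases ha' with e1 | e1 <;> rcases hb' with e2 | e2 <;> rcases hc' with e3 | e3 <;>
    rw [e1, e2, e3] at hsum s4 <;>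
    first | (norm_num at hsum; done) | (norm_num at s4)

end Cfsg.Agent.Lib.Helper16.S3282S5
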