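import Mathlib
import Cfsg.Prelude.Def_Characters
import Cfsg.Agent.Lib.Helper11.S3282Defs
import Cfsg.Agent.Lib.Helper11.S3282Eval
import Cfsg.Agent.Lib.Helper24.S3282CT45
import Cfsg.Agent.Lib.Helper29.S3282CT23
import Cfsg.Agent.Lib.Helper16.S3282S5
import Cfsg.Agent.Lib.Helper24.S3282CT7

/-!
S3282 (Brauer–Suzuki–Wall), piece CT9D: the number of ways of writing an element outside the
conjugates of `K` as a product of two involutions, in terms of the generic decomposition.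
-/

set_option autoImplicit false
set_option linter.unusedSectionVars false

namespace Cfsg.Agent.Lib.Helper16.S3282CT9D

open Cfsg Cfsg.Agent.Lib.Helper2 Cfsg.Agent.Lib.Helper11 Cfsg.Agent.Lib.Helper11.S3282
open Cfsg.Agent.Lib.Helper24.S3282CT45 Cfsg.Agent.Lib.Helper29.S3282CT23
open scoped ComplexConjugate

universe u

variable {G : Type u} [Group G] {t s : G} {K : Subgroup G}

variable [Fintype G] [Fintype K]

/-- the inner product of a signed irreducible with an irreducible is real. -/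
theorem conj_inner_signed {a χ : G → ℂ} (ha : IsSignedIrr a) (hχ : Cfsg.IsIrrCharacter G χ) :
    conj (Cfsg.classInner a χ) = Cfsg.classInner a χ := by
  rcases ha.inner_cases (Or.inl hχ : IsSignedIrr χ) with ⟨e, _, _⟩ | ⟨_, e⟩ | ⟨_, e⟩ <;>
    rw [e] <;> simp

theorem evalF_zero [Fintype (Cfsg.IrrCharacter G)] (F : (G → ℂ) → ℂ) :
    evalF F (0 : G → ℂ) = 0 := by
  unfold evalF
  apply Finset.sum_eq_zero
  intro χ _
  rw [Cfsg.Agent.Lib.Helper16.S3282S5.classInner_zero_left, zero_mul]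

theorem CT9D_beta_aux (h : Hyp t s K) [Fintype (Cfsg.IrrCharacter G)]
    [Fintype (Cfsg.IrrCharacter K)]
    (hbeta : ∀ x : G, 4 * (Nat.card K : ℂ) ^ 2 * (S3282.beta x : ℂ) = (Nat.card G : ℂ) *
      ∑ χ : Cfsg.IrrCharacter G, (χ : G → ℂ) t ^ 2 / (χ : G → ℂ) 1 * (χ : G → ℂ) x)
    {σ : K → ℂ} {X Y Z : G → ℂ} {Lam : (K → ℂ) → G → ℂ}
    (gen : Gen K σ X Y Z Lam) (hY1 : Y 1 = (1 + X 1) / 2) (hZ1 : Z 1 = (1 + X 1) / 2)
    {x : G} (hx1 : x ≠ 1) (hxK : x ∉ conjSet K) :
    4 * (Nat.card K : ℂ) ^ 2 * (S3282.beta x : ℂ) = (Nat.card G : ℂ) *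
      (1 + X x / X 1 + (2 * (Nat.card K : ℂ) - 2) * (1 + X x) / (1 + X 1)) := by
  classical
  -- the element `t` of `K`
  let tK : K := ⟨t, h.htK⟩
  have htK1 : tK ≠ 1 := by
    intro e
    exact t_ne_one h (congrArg Subtype.val e)
  have htt : tK * tK = 1 := Subtype.ext (t_mul_self h)
  have hsign : ∀ μ : K → ℂ, Cfsg.IsIrrCharacter K μ → μ tK = 1 ∨ μ tK = -1 := by
    intro μ hμ
    obtain ⟨e1, em⟩ := CT5_mul h.comm hμ
    apply Cfsg.Agent.Lib.Helper16.S3282S5.sq_one_cases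
    rw [← em, htt, e1]
  have hsq : ∀ μ : K → ℂ, Cfsg.IsIrrCharacter K μ → μ tK * μ tK = 1 := by
    intro μ hμ
    rcases hsign μ hμ with e | e <;> rw [e] <;> ring
  have hconj : ∀ μ : K → ℂ, Cfsg.IsIrrCharacter K μ → conj (μ tK) = μ tK := by
    intro μ hμ
    rcases hsign μ hμ with e | e <;> rw [e] <;> simp
  have hI1 : Cfsg.IsIrrCharacter K (fun _ : K => (1 : ℂ)) := isIrr_one K
  have hG1 : Cfsg.IsIrrCharacter G (fun _ : G => (1 : ℂ)) := isIrr_one G
  have hc1 : cj (fun _ : K => (1 : ℂ)) = fun _ => 1 := by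
    funext a; simp [cj]
  -- degrees and nonvanishing
  have hX1ne : X 1 ≠ 0 := gen.hX.apply_one_ne_zero
  have hY1ne : Y 1 ≠ 0 := gen.hY.apply_one_ne_zero
  have hXY : (1 + X 1) ≠ 0 := by
    intro e
    apply hY1ne
    rw [hY1, e, zero_div]
  -- realness of the multiplicities
  have hreal : ∀ μ : K → ℂ, Cfsg.IsIrrCharacter K μ → ∀ χ : G → ℂ, Cfsg.IsIrrCharacter G χ →
      conj (Cfsg.classInner (Del K μ) χ) = Cfsg.classInner (Del K μ) χ := by
    intro μ hμ χ hχ
    by_cases hr : cj μ = μ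
    · rcases gen.hσu μ hμ hr with e | e
      · rw [e, Del_one, Cfsg.Agent.Lib.Helper16.S3282S5.classInner_zero_left, map_zero]
      · rw [e, gen.hDelσ, classInner_sub_left, classInner_sub_left, classInner_add_left, map_sub,
          map_sub, map_add, conj_inner_signed (Or.inl hG1) hχ, conj_inner_signed gen.hX hχ,
          conj_inner_signed gen.hY hχ, conj_inner_signed gen.hZ hχ]
    · rw [gen.hDel μ hμ hr, classInner_sub_left, classInner_add_left, map_sub, map_add,
        conj_inner_signed (Or.inl hG1) hχ, conj_inner_signed gen.hX hχ,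
        conj_inner_signed (gen.hL μ hμ hr) hχ]
  -- the odd functional
  set Gx : (G → ℂ) → ℂ := fun χ => χ t * χ x / χ 1 with hGx
  have hodd : ∀ f : G → ℂ, Gx (-f) = - Gx f := by
    intro f
    simp only [hGx, Pi.neg_apply]
    rw [neg_mul_neg, div_neg]
  -- swap the sums
  have hkey : ∑ χ : Cfsg.IrrCharacter G, (χ : G → ℂ) t ^ 2 / (χ : G → ℂ) 1 * (χ : G → ℂ) x
      = - ∑ μ : Cfsg.IrrCharacter K, (μ : K → ℂ) tK * evalF Gx (Del K (μ : K → ℂ)) := by
    unfold evalF
    simp_rw [Finset.mul_sum]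
    rw [Finset.sum_comm, ← Finset.sum_neg_distrib]
    apply Finset.sum_congr rfl
    intro χ _
    have hcf : Cfsg.IsClassFunction G (χ : G → ℂ) :=
      Cfsg.Agent.Lib.Helper25.isClassFunction_of_char
        (Cfsg.Agent.Lib.Helper25.isCharacter_of_irr χ.2)
    have e := CT4_apply (K := K) h.comm hcf tK htK1
    have e' : (χ : G → ℂ) t = (χ : G → ℂ) (tK : G) := rfl
    have e2 : (χ : G → ℂ) t ^ 2 / (χ : G → ℂ) 1 * (χ : G → ℂ) x
        = (χ : G → ℂ) t * Gx (χ : G → ℂ) := by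
      simp only [hGx]; ring
    rw [e2]
    nth_rewrite 1 [e', e]
    rw [neg_mul, Finset.sum_mul]
    congr 1
    apply Finset.sum_congr rfl
    intro μ _
    rw [hreal μ.1 μ.2 χ.1 χ.2]
    ring
  -- the values of the functional on `Del μ`
  set A : ℂ := 1 + X x / X 1 with hA
  set C : ℂ := (1 + X x) / (1 + X 1) with hC
  have hXt : X t = 1 := gen.hXK tK htK1
  have hG11 : Gx (fun _ => 1) = 1 := by
    simp only [hGx]; norm_num
  have hGX : Gx X = X x / X 1 := by
    simp only [hGx]; rw [hXt, one_mul]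
  have hE : ∀ μ : K → ℂ, Cfsg.IsIrrCharacter K μ → (μ ≠ fun _ => 1) →
      evalF Gx (Del K μ) = A - 2 * μ tK * C := by
    intro μ hμ hμ1
    have hD1 : Del K μ 1 = 0 :=
      Cfsg.Agent.Lib.Helper16.S3282S5.Del_apply_one h (fun hν y => CT2_apply_mem h hν y) hμ
    have hDx : Del K μ x = 0 := CT2_apply_not_mem μ hx1 hxK
    by_cases hr : cj μ = μ
    · rcases gen.hσu μ hμ hr with e | e
      · exact absurd e hμ1
      · subst e
        rw [gen.hDelσ] at hD1 hDx
        simp only [Pi.add_apply, Pi.sub_apply] at hD1 hDx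
        rw [gen.hDelσ, evalF_sub, evalF_sub, evalF_add, evalF_one, evalF_signed _ gen.hX hodd,
          evalF_signed _ gen.hY hodd, evalF_signed _ gen.hZ hodd, hG11, hGX]
        have hYt : Y t = μ tK := gen.hYK tK htK1
        have hZt : Z t = μ tK := gen.hZK tK htK1
        simp only [hGx]
        rw [hYt, hZt, hY1, hZ1, hA, hC]
        have hYZ : Y x + Z x = 1 + X x := by linear_combination -hDx
        have : Z x = 1 + X x - Y x := by linear_combination hYZ
        rw [this]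
        field_simp
        ring
    · have hLt : Lam μ t = 2 * μ tK := by
        have := gen.hLK μ hμ hr tK htK1
        rw [hconj μ hμ] at this
        show Lam μ (tK : G) = _
        rw [this]; ring
      rw [gen.hDel μ hμ hr] at hD1 hDx
      simp only [Pi.add_apply, Pi.sub_apply] at hD1 hDx
      have hL1 : Lam μ 1 = 1 + X 1 := by linear_combination -hD1
      have hLx : Lam μ x = 1 + X x := by linear_combination -hDx
      rw [gen.hDel μ hμ hr, evalF_sub, evalF_add, evalF_one, evalF_signed _ gen.hX hodd,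
        evalF_signed _ (gen.hL μ hμ hr) hodd, hG11, hGX]
      simp only [hGx]
      rw [hLt, hL1, hLx, hA, hC]
      ring
  -- termwise formula
  let I1 : Cfsg.IrrCharacter K := ⟨_, hI1⟩
  have hterm : ∀ μ : Cfsg.IrrCharacter K, (μ : K → ℂ) tK * evalF Gx (Del K (μ : K → ℂ))
      = ((μ : K → ℂ) tK * A - 2 * C) - (if μ = I1 then (A - 2 * C) else 0) := by
    intro μ
    by_cases hμ : μ = I1
    · rw [if_pos hμ, hμ]
      simp only [I1]
      rw [Del_one, evalF_zero]
      ring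
    · rw [if_neg hμ]
      have hμ1 : (μ : K → ℂ) ≠ fun _ => 1 := fun e => hμ (Subtype.ext e)
      rw [hE μ.1 μ.2 hμ1]
      have := hsq μ.1 μ.2
      linear_combination (-2 * C) * this
  have hsum0 : ∑ μ : Cfsg.IrrCharacter K, (μ : K → ℂ) tK = 0 := CT5_sum (K := K) h.comm htK1
  have hcard : (Fintype.card (Cfsg.IrrCharacter K) : ℂ) = (Nat.card K : ℂ) := by
    rw [CT5_card (K := K) h.comm]
  rw [hbeta x, hkey]
  congr 1
  simp_rw [hterm]
  rw [Finset.sum_sub_distrib, Finset.sum_sub_distrib, ← Finset.sum_mul, hsum0,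
    Finset.sum_const, Finset.card_univ, Finset.sum_ite_eq' Finset.univ I1]
  simp only [Finset.mem_univ, if_true, nsmul_eq_mul, hcard]
  rw [hA, hC]
  ring

/-- `CT9D_beta`, exact skeleton signature. -/
theorem CT9D_beta (h : Hyp t s K) (_hk : 4 ≤ Nat.card K) [Fintype (Cfsg.IrrCharacter G)]
    [Fintype (Cfsg.IrrCharacter K)] {σ : K → ℂ} {X Y Z : G → ℂ} {Lam : (K → ℂ) → G → ℂ}
    (gen : Gen K σ X Y Z Lam) (hY1 : Y 1 = (1 + X 1) / 2) (hZ1 : Z 1 = (1 + X 1) / 2)
    {x : G} (hx1 : x ≠ 1) (hxK : x ∉ conjSet K) :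
    4 * (Nat.card K : ℂ) ^ 2 * (S3282.beta x : ℂ) = (Nat.card G : ℂ) *
      (1 + X x / X 1 + (2 * (Nat.card K : ℂ) - 2) * (1 + X x) / (1 + X 1)) :=
  CT9D_beta_aux h (fun y => Cfsg.Agent.Lib.Helper24.S3282CT7.CT7_beta h y) gen hY1 hZ1 hx1 hxK

end Cfsg.Agent.Lib.Helper16.S3282CT9D
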