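import Mathlib
import Cfsg.Prelude.Def_Characters
import Cfsg.Agent.Lib.Helper16.S3282S5
import Cfsg.Agent.Lib.Helper29.S3282CT23
import Cfsg.Agent.Lib.Helper24.S3282CT7

/-!
S3282 (Brauer–Suzuki–Wall), piece S5 with the exact skeleton signature.
-/

set_option autoImplicit false
set_option linter.unusedSectionVars false

namespace Cfsg.Agent.Lib.Helper16.S3282S5Final

open Cfsg Cfsg.Agent.Lib.Helper11 Cfsg.Agent.Lib.Helper11.S3282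
open scoped ComplexConjugate

universe u

variable {G : Type u} [Group G] {t s : G} {K : Subgroup G}

variable [Fintype G] [Fintype K]

theorem S5_false (h : Hyp t s K) [Fintype (Cfsg.IrrCharacter G)] [Fintype (Cfsg.IrrCharacter K)]
    (μ₁ μ₂ σ : K → ℂ) (hμ₁ : Cfsg.IsIrrCharacter K μ₁) (hμ₂ : Cfsg.IsIrrCharacter K μ₂)
    (hσ : Cfsg.IsIrrCharacter K σ) (h1 : cj μ₁ ≠ μ₁) (h2 : cj μ₂ ≠ μ₂) (hσr : cj σ = σ)
    (hσ1 : σ ≠ fun _ => 1) (h21 : μ₂ ≠ μ₁) (h21' : μ₂ ≠ cj μ₁)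
    (hall : ∀ μ : K → ℂ, Cfsg.IsIrrCharacter K μ →
      μ = (fun _ => 1) ∨ μ = μ₁ ∨ μ = cj μ₁ ∨ μ = μ₂ ∨ μ = cj μ₂ ∨ μ = σ)
    (X L₁ L₂ B : G → ℂ) (hX : IsSignedIrr X) (hL₁ : IsSignedIrr L₁) (hL₂ : IsSignedIrr L₂)
    (hB : IsSignedIrr B)
    (hD1 : Del K μ₁ = (fun _ => 1) + X - L₁) (hD2 : Del K μ₂ = (fun _ => 1) + X - L₂)
    (hDσ : Del K σ = (fun _ => 1) - L₁ - L₂ + B)
    (o1 : Cfsg.classInner X (fun _ => 1) = 0) (o2 : Cfsg.classInner L₁ (fun _ => 1) = 0)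
    (o3 : Cfsg.classInner L₂ (fun _ => 1) = 0) (o4 : Cfsg.classInner B (fun _ => 1) = 0)
    (o5 : Cfsg.classInner X L₁ = 0) (o6 : Cfsg.classInner X L₂ = 0)
    (o7 : Cfsg.classInner X B = 0) (o8 : Cfsg.classInner L₁ L₂ = 0)
    (o9 : Cfsg.classInner L₁ B = 0) (o10 : Cfsg.classInner L₂ B = 0) : False :=
  Cfsg.Agent.Lib.Helper16.S3282S5.S5_false_aux h
    (fun hμ y => Cfsg.Agent.Lib.Helper29.S3282CT23.CT2_apply_mem h hμ y)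
    (fun μ _ hx1 hx => Cfsg.Agent.Lib.Helper29.S3282CT23.CT2_apply_not_mem μ hx1 hx)
    (fun hμ hμ1 => Cfsg.Agent.Lib.Helper24.S3282CT7.CT7_soft h hμ hμ1)
    μ₁ μ₂ σ hμ₁ hμ₂ hσ h1 h2 hσr hσ1 h21 h21' hall X L₁ L₂ B hX hL₁ hL₂ hB hD1 hD2 hDσ
    o1 o2 o3 o4 o5 o6 o7 o8 o9 o10

end Cfsg.Agent.Lib.Helper16.S3282S5Final
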