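import Mathlib
import Cfsg.Agent.Lib.Helper6.Unitary2
import Cfsg.Agent.Lib.Helper16.UnitaryCount3

set_option autoImplicit false
set_option linter.style.haveILetI false
set_option linter.unusedSimpArgs false
set_option linter.unusedSectionVars false

namespace Cfsg.Agent.Lib.Helper16

open Module Cfsg.Agent.Lib.Helper6 Matrix Cfsg

section
variable {K : Type*} [Field K] [Fintype K] {q : ℕ} (hK : Fintype.card K = q ^ 2)
variable {V : Type*} [AddCommGroup V] [Module K V] [FiniteDimensional K V]

/-- the isometries of a hermitian space correspond to the full orthonormal frames -/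
theorem card_herm_isometries (H : V →ₛₗ[conjQ hK] V →ₗ[K] K) (hS : H.IsSymm)
    (hN : H.Nondegenerate) :
    Nat.card {g : V →ₗ[K] V // ∀ u v, H (g u) (g v) = H u v} =
      Nat.card (ONF hK H (finrank K V)) := by
  classical
  obtain ⟨β, hβ⟩ := Cfsg.Agent.S0755.result (conjQ hK) (conjQ_ne_id hK) (conjQ_conjQ hK) H hS hN
  let f : {g : V →ₗ[K] V // ∀ u v, H (g u) (g v) = H u v} → ONF hK H (finrank K V) := fun g =>
    ⟨fun i => g.1 (β i), fun i j => by rw [g.2]; exact hβ i j⟩
  apply Nat.card_eq_of_bijective f
  constructor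
  · intro g g' h
    apply Subtype.ext
    apply β.ext
    intro i
    exact congrFun (congrArg Subtype.val h) i
  · intro c
    refine ⟨⟨β.constr K c.1, ?_⟩, ?_⟩
    · intro u v
      rw [Basis.constr_apply_fintype, Basis.constr_apply_fintype,
        orthonormal_apply (conjQ hK) H β hβ u v]
      simp only [map_sum, map_smulₛₗ, LinearMap.sum_apply, LinearMap.smul_apply, map_smul, c.2,
        smul_eq_mul, mul_ite, mul_one, mul_zero, Finset.sum_ite_eq', Finset.sum_ite_eq,
        Finset.mem_univ, if_true, Basis.equivFun_apply, RingHom.id_apply]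
      apply Finset.sum_congr rfl
      intro i _
      ring
    · apply Subtype.ext
      funext i
      simp only [f]
      exact Basis.constr_basis β K c.1 i

include hK in
theorem card_herm_isometries_eq_GU (H : V →ₛₗ[conjQ hK] V →ₗ[K] K) (hS : H.IsSymm)
    (hN : H.Nondegenerate) (m : ℕ) (hm : finrank K V = m) :
    Nat.card {g : V →ₗ[K] V // ∀ u v, H (g u) (g v) = H u v} = Nat.card (Cfsg.GU m K q) := by
  rw [card_herm_isometries hK H hS hN, card_GU_eq_card_onf hK, hm,
    card_onf_full hK hS hN m hm,
    card_onf_full hK (hermB_isSymm hK) (hermB_nondeg hK m) m (Module.finrank_fin_fun K)]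

end

end Cfsg.Agent.Lib.Helper16
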