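import Mathlib
import Cfsg.Agent.Lib.Helper16.UnitaryCount3

set_option autoImplicit false
set_option linter.style.haveILetI false
set_option linter.unusedSimpArgs false
set_option linter.unusedSectionVars false

namespace Cfsg.Agent.Lib.Helper16

open Module Cfsg.Agent.Lib.Helper6

/-- number of vectors of hermitian norm `c` in the standard space of dimension `d` -/
noncomputable def normCount (K : Type*) [Field K] (q d : ℕ) (c : K) : ℕ :=
  Nat.card {x : Fin d → K // ∑ i, x i ^ (q + 1) = c}

theorem normCount_zero_zero (K : Type*) [Field K] (q : ℕ) : normCount K q 0 (0 : K) = 1 := by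
  unfold normCount
  haveI : Unique {x : Fin 0 → K // ∑ i, x i ^ (q + 1) = 0} :=
    { default := ⟨Fin.elim0, by simp⟩
      uniq := fun x => by
        apply Subtype.ext
        funext i
        exact i.elim0 }
  exact Nat.card_unique

theorem normCount_le (K : Type*) [Field K] [Fintype K] {q : ℕ} (hK : Fintype.card K = q ^ 2)
    (d : ℕ) (c : K) : normCount K q d c ≤ q ^ (2 * d) := by
  unfold normCount
  calc Nat.card {x : Fin d → K // ∑ i, x i ^ (q + 1) = c}
      ≤ Nat.card (Fin d → K) := Nat.card_le_card_of_injective _ Subtype.val_injective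
    _ = q ^ (2 * d) := by
        rw [Nat.card_eq_fintype_card, Fintype.card_fun, Fintype.card_fin, hK, ← pow_mul]

theorem normCount_succ (K : Type*) [Field K] [Fintype K] {q : ℕ} (hK : Fintype.card K = q ^ 2)
    (c : K) (hc : c ^ q = c) (d : ℕ) :
    normCount K q (d + 1) c = normCount K q d c + (q + 1) * (q ^ (2 * d) - normCount K q d c) := by
  classical
  have hnorm : ∀ y : K, (y ^ (q + 1)) ^ q = y ^ (q + 1) := by
    intro y
    have h1 : y ^ (q ^ 2) = y := by rw [← hK]; exact FiniteField.pow_card y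
    rw [← pow_mul]
    have : (q + 1) * q = q ^ 2 + q := by ring
    rw [this, pow_add, h1, pow_succ']
  have hfix : ∀ y : Fin d → K, (c - ∑ i, y i ^ (q + 1)) ^ q = c - ∑ i, y i ^ (q + 1) := by
    intro y
    have h1 : (c - ∑ i, y i ^ (q + 1)) ^ q = conjQ hK (c - ∑ i, y i ^ (q + 1)) := rfl
    rw [h1, map_sub, map_sum, conjQ_apply, hc]
    congr 1
    apply Finset.sum_congr rfl
    intro i _
    rw [conjQ_apply, hnorm]
  let S : (Fin d → K) → K := fun y => ∑ i, y i ^ (q + 1)
  have e : {x : Fin (d + 1) → K // ∑ i, x i ^ (q + 1) = c}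
      ≃ Σ y : Fin d → K, {x₀ : K // x₀ ^ (q + 1) = c - S y} :=
    { toFun := fun x => ⟨Fin.tail x.1, ⟨x.1 0, by
        have := x.2
        rw [Fin.sum_univ_succ] at this
        simp only [S, Fin.tail]
        linear_combination this⟩⟩
      invFun := fun p => ⟨Fin.cons p.2.1 p.1, by
        rw [Fin.sum_univ_succ]
        simp only [Fin.cons_zero, Fin.cons_succ]
        have := p.2.2
        simp only [S] at this
        linear_combination this⟩
      left_inv := fun x => by
        apply Subtype.ext
        simp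
      right_inv := fun p => by
        apply Sigma.subtype_ext
        · simp
        · simp }
  unfold normCount
  rw [Nat.card_congr e, Nat.card_sigma]
  have hfib : ∀ y : Fin d → K, Nat.card {x₀ : K // x₀ ^ (q + 1) = c - S y}
      = if S y = c then 1 else q + 1 := by
    intro y
    rw [card_pow_fiber hK _ (hfix y)]
    by_cases h : S y = c
    · rw [if_pos h, if_pos (by rw [sub_eq_zero]; exact h.symm)]
    · rw [if_neg h, if_neg (by rw [sub_eq_zero]; exact fun h' => h h'.symm)]
  simp only [hfib]
  rw [Finset.sum_ite, Finset.sum_const, Finset.sum_const, smul_eq_mul, smul_eq_mul, mul_one]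
  have h1 : (Finset.univ.filter (fun y : Fin d → K => S y = c)).card
      = Nat.card {x : Fin d → K // ∑ i, x i ^ (q + 1) = c} := by
    rw [Nat.card_eq_fintype_card, Fintype.card_subtype]
  have h2 : (Finset.univ.filter (fun y : Fin d → K => ¬ S y = c)).card
      = q ^ (2 * d) - Nat.card {x : Fin d → K // ∑ i, x i ^ (q + 1) = c} := by
    rw [← h1]
    have h3 := Finset.card_filter_add_card_filter_not (s := Finset.univ)
      (fun y : Fin d → K => S y = c)
    rw [Finset.card_univ, Fintype.card_fun, Fintype.card_fin, hK, ← pow_mul] at h3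
    omega
  rw [h1, h2, mul_comm]

/-- closed form for the number of isotropic vectors, from the recurrence -/
theorem isoCount_closed_aux (q : ℕ) (Z : ℕ → ℕ) (h0 : Z 0 = 1)
    (hle : ∀ d, Z d ≤ q ^ (2 * d))
    (hsucc : ∀ d, Z (d + 1) = Z d + (q + 1) * (q ^ (2 * d) - Z d)) (d : ℕ) :
    (q : ℤ) * Z d = (q : ℤ) ^ (2 * d) + ((q : ℤ) - 1) * (-(q : ℤ)) ^ d := by
  induction d with
  | zero => simp [h0]
  | succ d ih =>
    rw [hsucc d]
    push_cast [hle d]
    have : (q : ℤ) ^ (2 * (d + 1)) = (q : ℤ) ^ (2 * d) * q ^ 2 := by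
      rw [mul_add, pow_add]
    rw [this, pow_succ]
    linear_combination (-(q : ℤ)) * ih

theorem isoCount_explicit_aux (q : ℕ) (hq : 0 < q) (Z : ℕ → ℕ)
    (hcl : ∀ d, (q : ℤ) * Z d = (q : ℤ) ^ (2 * d) + ((q : ℤ) - 1) * (-(q : ℤ)) ^ d) (n : ℕ) :
    Z n = (if Even n then (q ^ n - 1) * (q ^ (n - 1) + 1) else (q ^ n + 1) * (q ^ (n - 1) - 1))
      + 1 := by
  have hq' : (q : ℤ) ≠ 0 := by exact_mod_cast hq.ne'
  rcases n with _ | i
  · have h := hcl 0
    simp only [mul_zero, pow_zero] at h
    have h1 : (q : ℤ) * Z 0 = q * 1 := by rw [h]; ring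
    have h2 : ((Z 0 : ℕ) : ℤ) = 1 := mul_left_cancel₀ hq' h1
    have h3 : Z 0 = 1 := by exact_mod_cast h2
    rw [h3]
    simp
  · have h := hcl (i + 1)
    have hpos : 1 ≤ q ^ (i + 1) := Nat.one_le_pow _ _ hq
    have hpos' : 1 ≤ q ^ i := Nat.one_le_pow _ _ hq
    simp only [Nat.add_sub_cancel]
    have key : ((Z (i + 1) : ℕ) : ℤ)
        = (((if Even (i + 1) then (q ^ (i + 1) - 1) * (q ^ i + 1)
            else (q ^ (i + 1) + 1) * (q ^ i - 1)) + 1 : ℕ) : ℤ) := by
      apply mul_left_cancel₀ hq'
      rw [h]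
      by_cases he : Even (i + 1)
      · rw [if_pos he]
        push_cast [hpos]
        rw [Even.neg_pow he]
        ring
      · rw [if_neg he]
        push_cast [hpos']
        have ho : Odd (i + 1) := Nat.not_even_iff_odd.1 he
        rw [Odd.neg_pow ho]
        ring
    exact_mod_cast key

theorem normCount_zero_explicit {K : Type*} [Field K] [Fintype K] {q : ℕ}
    (hK : Fintype.card K = q ^ 2) (n : ℕ) :
    normCount K q n (0 : K) =
      (if Even n then (q ^ n - 1) * (q ^ (n - 1) + 1) else (q ^ n + 1) * (q ^ (n - 1) - 1))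
        + 1 := by
  have hq : 2 ≤ q := two_le_q hK
  exact isoCount_explicit_aux q (by omega) (fun d => normCount K q d (0 : K))
    (isoCount_closed_aux q (fun d => normCount K q d (0 : K)) (normCount_zero_zero K q)
      (fun d => normCount_le K hK d 0)
      (normCount_succ K hK 0 (zero_pow (by omega)))) n

end Cfsg.Agent.Lib.Helper16
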