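import Mathlib
import Cfsg.Agent.Lib.Helper28.OTDefs

/-!
# S5681 / S5709, piece ROOT-C (helper16): `Ω ≤ IsoG (J1 ⊗ₖ J2)` and the standard root elements `yL` lie in `Ω`.

`yL c = 1 ⊗ ρ_c` with `ρ_c = 1 + c • T2` a long root element of `O(W)`; if `l` is a singular vector with `f₂(k₁,l) = 0`,
`f₂(k₂,l) = 1` and `B = 1 - 2 (E_{k₂,l} + E_{l,k₂})` (the isometry `-1` on the hyperbolic plane `⟨k₂,l⟩`, `1` on its perp), then
`B ρ_{c'} B⁻¹ = ρ_{-c'}`, so `⁅B, ρ_{c'}⁆ = ρ_{-2c'}` and `1 ⊗ ρ_c = ⁅1 ⊗ B, 1 ⊗ ρ_{-c/2}⁆` is a commutator of isometries of `Q`.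
-/

set_option autoImplicit false
set_option linter.unusedSectionVars false

namespace Cfsg.Agent.Lib.Helper16.OTRootC

open Matrix Module
open Cfsg.Agent.Lib.Helper16.Tens Cfsg.Agent.Lib.Helper10.TensFund
open Cfsg.Agent.Lib.Helper3.SpT (bf E adj uni Over)
open Cfsg.Agent.Lib.Helper13.TensSO (OrthG IsoG)
open Cfsg.Agent.Lib.Helper28.OT
open scoped Kronecker commutatorElement

variable {F : Type*} [Field F] {a b : ℕ}
variable {J1 : Matrix (Fin a) (Fin a) F} {J2 : Matrix (Fin b) (Fin b) F}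
variable {Q : QuadraticForm F (Fin a × Fin b → F)}

/-! ### `Q` is determined by its polar form -/

theorem two_mul_Q (hS : SetupO J1 J2 Q) (x : Fin a × Fin b → F) : 2 * Q x = bf (J1 ⊗ₖ J2) x x := by
  rw [← hS.polar, QuadraticMap.polar_self, two_smul, two_mul]

theorem mem_iso_of_IsoG (hS : SetupO J1 J2 Q) (g : GL (Fin a × Fin b) F) (hg : g ∈ IsoG (J1 ⊗ₖ J2)) :
    g ∈ Cfsg.isometryGroup F (⇑Q) := by
  intro u _
  have h1 := two_mul_Q hS ((g : Matrix (Fin a × Fin b) (Fin a × Fin b) F) *ᵥ u)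
  have h2 := two_mul_Q hS u
  rw [hg u u, ← h2] at h1
  exact mul_left_cancel₀ hS.two h1

/-- ROOT (j) -/
theorem Om_le_IsoG (hS : SetupO J1 J2 Q) : Cfsg.Geo.omegaGL (⇑Q) ≤ IsoG (J1 ⊗ₖ J2) := by
  intro g hg
  have hgi : g ∈ Cfsg.isometryGroup F (⇑Q) := Cfsg.Agent.Lib.Helper3.SpT.Om_le_iso hg
  intro x y
  have h1 : ∀ u, Q ((g : Matrix (Fin a × Fin b) (Fin a × Fin b) F) *ᵥ u) = Q u := fun u => hgi u u
  rw [← hS.polar, ← hS.polar]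
  unfold QuadraticMap.polar
  rw [← Matrix.mulVec_add, h1, h1, h1]

/-! ### `1 ⊗ R` -/

/-- `M ↦ 1 ⊗ₖ M` as a monoid homomorphism -/
def oneKM : Matrix (Fin b) (Fin b) F →* Matrix (Fin a × Fin b) (Fin a × Fin b) F where
  toFun M := (1 : Matrix (Fin a) (Fin a) F) ⊗ₖ M
  map_one' := Matrix.one_kronecker_one
  map_mul' M N := by rw [← Matrix.mul_kronecker_mul, one_mul]

/-- `R ↦ 1 ⊗ R` on `GL` -/
def oneK : GL (Fin b) F →* GL (Fin a × Fin b) F := Units.map (oneKM (a := a))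

theorem oneK_val (R : GL (Fin b) F) :
    ((oneK (a := a) R : GL (Fin a × Fin b) F) : Matrix (Fin a × Fin b) (Fin a × Fin b) F) =
      (1 : Matrix (Fin a) (Fin a) F) ⊗ₖ (R : Matrix (Fin b) (Fin b) F) := rfl

theorem bf_zero_left' {κ : Type} [Fintype κ] (J : Matrix κ κ F) (y : κ → F) : bf J 0 y = 0 := by
  unfold bf
  rw [zero_dotProduct]

theorem bf_zero_right' {κ : Type} [Fintype κ] (J : Matrix κ κ F) (x : κ → F) : bf J x 0 = 0 := by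
  unfold bf
  rw [Matrix.mulVec_zero, dotProduct_zero]

theorem oneK_mem_IsoG (R : GL (Fin b) F) (hR : R ∈ IsoG J2) : oneK (a := a) R ∈ IsoG (J1 ⊗ₖ J2) := by
  intro x y
  rw [oneK_val]
  revert y
  refine Cfsg.Agent.Lib.Helper3.SpT.pur_induction
    (p := fun x => ∀ y, bf (J1 ⊗ₖ J2) (((1 : Matrix (Fin a) (Fin a) F) ⊗ₖ (R : Matrix (Fin b) (Fin b) F)) *ᵥ x)
      (((1 : Matrix (Fin a) (Fin a) F) ⊗ₖ (R : Matrix (Fin b) (Fin b) F)) *ᵥ y) = bf (J1 ⊗ₖ J2) x y) ?_ ?_ ?_ x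
  · intro y
    rw [Matrix.mulVec_zero, bf_zero_left', bf_zero_left']
  · intro x x' hx hx' y
    rw [Matrix.mulVec_add, Cfsg.Agent.Lib.Helper3.SpT.bf_add_left, Cfsg.Agent.Lib.Helper3.SpT.bf_add_left, hx, hx']
  · intro u w y
    refine Cfsg.Agent.Lib.Helper3.SpT.pur_induction
      (p := fun y => bf (J1 ⊗ₖ J2) (((1 : Matrix (Fin a) (Fin a) F) ⊗ₖ (R : Matrix (Fin b) (Fin b) F)) *ᵥ pur u w)
        (((1 : Matrix (Fin a) (Fin a) F) ⊗ₖ (R : Matrix (Fin b) (Fin b) F)) *ᵥ y) = bf (J1 ⊗ₖ J2) (pur u w) y) ?_ ?_ ?_ y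
    · rw [Matrix.mulVec_zero, bf_zero_right', bf_zero_right']
    · intro y y' hy hy'
      rw [Matrix.mulVec_add, Cfsg.Agent.Lib.Helper3.SpT.bf_add_right, Cfsg.Agent.Lib.Helper3.SpT.bf_add_right, hy, hy']
    · intro u' w'
      rw [kron_mulVec_pur, kron_mulVec_pur, Matrix.one_mulVec, Matrix.one_mulVec,
        Cfsg.Agent.Lib.Helper3.SpT.bf_kron_pur, Cfsg.Agent.Lib.Helper3.SpT.bf_kron_pur, hR w w']

/-! ### the long root element `ρ_c = 1 + c • T2` of `O(W)` -/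

theorem smul_T2_sq (hJ2 : OrthG J2) {k1 k2 : Fin b → F} (h : Ts2 J2 k1 k2) (c : F) :
    (c • T2 J2 k1 k2) * (c • T2 J2 k1 k2) = 0 := by
  rw [Matrix.smul_mul, Matrix.mul_smul, T2_sq hJ2 h]
  simp

/-- `ρ_c` -/
def rho (hJ2 : OrthG J2) {k1 k2 : Fin b → F} (h : Ts2 J2 k1 k2) (c : F) : GL (Fin b) F :=
  uni (c • T2 J2 k1 k2) (smul_T2_sq hJ2 h c)

theorem oneK_rho (hJ2 : OrthG J2) {k1 k2 : Fin b → F} (h : Ts2 J2 k1 k2) (c : F) :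
    oneK (a := a) (rho hJ2 h c) = yL (a := a) hJ2 h c := by
  apply Units.ext
  rw [oneK_val, yL_val]
  unfold rho nL
  rw [Cfsg.Agent.Lib.Helper3.SpT.uni_val, Matrix.kronecker_add, Matrix.one_kronecker_one, Matrix.kronecker_smul]

theorem rho_mem_IsoG (hJ2 : OrthG J2) {k1 k2 : Fin b → F} (h : Ts2 J2 k1 k2) (c : F) : rho hJ2 h c ∈ IsoG J2 := by
  intro x y
  unfold rho
  rw [Cfsg.Agent.Lib.Helper3.SpT.uni_val, Matrix.add_mulVec, Matrix.add_mulVec, Matrix.one_mulVec, Matrix.one_mulVec,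
    Matrix.smul_mulVec, Matrix.smul_mulVec, T2_mulVec, T2_mulVec]
  have h21 : bf J2 k2 k1 = 0 := by rw [hJ2.symm, h.h12]
  simp only [Cfsg.Agent.Lib.Helper3.SpT.bf_add_left, Cfsg.Agent.Lib.Helper3.SpT.bf_add_right,
    Cfsg.Agent.Lib.Helper3.SpT.bf_smul_left, Cfsg.Agent.Lib.Helper3.SpT.bf_smul_right,
    Cfsg.Agent.Lib.Helper3.SpT.bf_sub_left, Cfsg.Agent.Lib.Helper3.SpT.bf_sub_right, h.h11, h.h12, h.h22, h21,
    hJ2.symm k1 y, hJ2.symm k2 y]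
  ring

/-! ### the hyperbolic partner and the involution `B` -/

theorem exists_partner (hJ2 : OrthG J2) (h2 : (2 : F) ≠ 0) {k1 k2 : Fin b → F} (h : Ts2 J2 k1 k2) :
    ∃ l : Fin b → F, bf J2 k1 l = 0 ∧ bf J2 k2 l = 1 ∧ bf J2 l l = 0 := by
  have hk1 : k1 ≠ 0 := by
    intro h0
    have := h.indep 1 0 (by rw [h0]; simp)
    exact one_ne_zero this.1
  obtain ⟨y1, hy1⟩ : ∃ y1, bf J2 k1 y1 ≠ 0 := by
    by_contra hcon
    push Not at hcon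
    exact hk1 (hJ2.nondeg k1 hcon)
  obtain ⟨l, hl1, hl2⟩ : ∃ l, bf J2 k1 l = 0 ∧ bf J2 k2 l ≠ 0 := by
    by_contra hcon
    push Not at hcon
    have hz : k2 - (bf J2 k2 y1 / bf J2 k1 y1) • k1 = 0 := by
      apply hJ2.nondeg
      intro x
      have h1 := hcon (x - (bf J2 k1 x / bf J2 k1 y1) • y1) (by
        rw [Cfsg.Agent.Lib.Helper3.SpT.bf_sub_right, Cfsg.Agent.Lib.Helper3.SpT.bf_smul_right]
        field_simp
        ring)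
      rw [Cfsg.Agent.Lib.Helper3.SpT.bf_sub_right, Cfsg.Agent.Lib.Helper3.SpT.bf_smul_right] at h1
      rw [Cfsg.Agent.Lib.Helper3.SpT.bf_sub_left, Cfsg.Agent.Lib.Helper3.SpT.bf_smul_left]
      field_simp
      field_simp at h1
      linear_combination h1
    have := h.indep (-(bf J2 k2 y1 / bf J2 k1 y1)) 1 (by
      rw [one_smul, neg_smul, neg_add_eq_sub]
      exact hz)
    exact one_ne_zero this.2
  -- normalise
  obtain ⟨l0, hl0⟩ : ∃ l0 : Fin b → F, l0 = (bf J2 k2 l)⁻¹ • l := ⟨_, rfl⟩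
  have h10 : bf J2 k1 l0 = 0 := by
    rw [hl0, Cfsg.Agent.Lib.Helper3.SpT.bf_smul_right, hl1, mul_zero]
  have h20 : bf J2 k2 l0 = 1 := by
    rw [hl0, Cfsg.Agent.Lib.Helper3.SpT.bf_smul_right, inv_mul_cancel₀ hl2]
  have h02 : bf J2 l0 k2 = 1 := by rw [hJ2.symm, h20]
  refine ⟨l0 - (bf J2 l0 l0 / 2) • k2, ?_, ?_, ?_⟩
  · rw [Cfsg.Agent.Lib.Helper3.SpT.bf_sub_right, Cfsg.Agent.Lib.Helper3.SpT.bf_smul_right, h10, h.h12]
    ring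
  · rw [Cfsg.Agent.Lib.Helper3.SpT.bf_sub_right, Cfsg.Agent.Lib.Helper3.SpT.bf_smul_right, h20, h.h22]
    ring
  · simp only [Cfsg.Agent.Lib.Helper3.SpT.bf_sub_right, Cfsg.Agent.Lib.Helper3.SpT.bf_smul_right,
      Cfsg.Agent.Lib.Helper3.SpT.bf_sub_left, Cfsg.Agent.Lib.Helper3.SpT.bf_smul_left, h20, h02, h.h22]
    field_simp
    ring

/-- the matrix of `-1` on `⟨k, l⟩`, `1` on `⟨k, l⟩^⊥` -/
def Bm (J2 : Matrix (Fin b) (Fin b) F) (k l : Fin b → F) : Matrix (Fin b) (Fin b) F :=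
  1 - (2 : F) • (E J2 k l + E J2 l k)

theorem Bm_mulVec (J2 : Matrix (Fin b) (Fin b) F) (k l x : Fin b → F) :
    Bm J2 k l *ᵥ x = x - (2 : F) • (bf J2 x l • k + bf J2 x k • l) := by
  unfold Bm
  rw [Matrix.sub_mulVec, Matrix.one_mulVec, Matrix.smul_mulVec, Matrix.add_mulVec,
    Cfsg.Agent.Lib.Helper3.SpT.E_mulVec, Cfsg.Agent.Lib.Helper3.SpT.E_mulVec]

section B

variable (hJ2 : OrthG J2) {k l : Fin b → F} (hkk : bf J2 k k = 0) (hkl : bf J2 k l = 1) (hll : bf J2 l l = 0)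
include hJ2 hkk hkl hll

theorem bf_Bm_k (x : Fin b → F) : bf J2 (Bm J2 k l *ᵥ x) k = - bf J2 x k := by
  have hlk : bf J2 l k = 1 := by rw [hJ2.symm, hkl]
  rw [Bm_mulVec]
  simp only [Cfsg.Agent.Lib.Helper3.SpT.bf_sub_left, Cfsg.Agent.Lib.Helper3.SpT.bf_smul_left,
    Cfsg.Agent.Lib.Helper3.SpT.bf_add_left, hkk, hlk]
  ring

theorem bf_Bm_l (x : Fin b → F) : bf J2 (Bm J2 k l *ᵥ x) l = - bf J2 x l := by
  rw [Bm_mulVec]
  simp only [Cfsg.Agent.Lib.Helper3.SpT.bf_sub_left, Cfsg.Agent.Lib.Helper3.SpT.bf_smul_left,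
    Cfsg.Agent.Lib.Helper3.SpT.bf_add_left, hkl, hll]
  ring

theorem Bm_sq : Bm J2 k l * Bm J2 k l = 1 := by
  apply Cfsg.Agent.Lib.Helper3.SpT.mat_ext_mulVec
  intro x
  rw [← Matrix.mulVec_mulVec, Matrix.one_mulVec, Bm_mulVec J2 k l (Bm J2 k l *ᵥ x), bf_Bm_k hJ2 hkk hkl hll,
    bf_Bm_l hJ2 hkk hkl hll, Bm_mulVec]
  simp only [neg_smul, smul_add, smul_neg]
  abel

/-- `B` as an element of `GL` -/
def Bgl : GL (Fin b) F :=
  ⟨Bm J2 k l, Bm J2 k l, Bm_sq hJ2 hkk hkl hll, Bm_sq hJ2 hkk hkl hll⟩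

theorem Bgl_mem_IsoG : Bgl hJ2 hkk hkl hll ∈ IsoG J2 := by
  intro x y
  show bf J2 (Bm J2 k l *ᵥ x) (Bm J2 k l *ᵥ y) = bf J2 x y
  have hlk : bf J2 l k = 1 := by rw [hJ2.symm, hkl]
  rw [Bm_mulVec J2 k l y]
  simp only [Cfsg.Agent.Lib.Helper3.SpT.bf_sub_right, Cfsg.Agent.Lib.Helper3.SpT.bf_smul_right,
    Cfsg.Agent.Lib.Helper3.SpT.bf_add_right, bf_Bm_k hJ2 hkk hkl hll, bf_Bm_l hJ2 hkk hkl hll]
  rw [Bm_mulVec]
  simp only [Cfsg.Agent.Lib.Helper3.SpT.bf_sub_left, Cfsg.Agent.Lib.Helper3.SpT.bf_smul_left,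
    Cfsg.Agent.Lib.Helper3.SpT.bf_add_left, hJ2.symm k y, hJ2.symm l y]
  ring

end B

/-! ### the commutator -/

theorem Bm_T2_Bm (hJ2 : OrthG J2) {k1 k2 l : Fin b → F} (h : Ts2 J2 k1 k2) (h1l : bf J2 k1 l = 0)
    (h2l : bf J2 k2 l = 1) (hll : bf J2 l l = 0) :
    Bm J2 k2 l * T2 J2 k1 k2 * Bm J2 k2 l = - T2 J2 k1 k2 := by
  apply Cfsg.Agent.Lib.Helper3.SpT.mat_ext_mulVec
  intro x
  have h21 : bf J2 k2 k1 = 0 := by rw [hJ2.symm, h.h12]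
  have hl1 : bf J2 l k1 = 0 := by rw [hJ2.symm, h1l]
  have hk1 : Bm J2 k2 l *ᵥ k1 = k1 := by
    rw [Bm_mulVec, h1l, h.h12]
    simp
  have hk2 : Bm J2 k2 l *ᵥ k2 = - k2 := by
    rw [Bm_mulVec, h2l, h.h22]
    simp only [one_smul, zero_smul, add_zero, two_smul]
    abel
  have hx1 : bf J2 (Bm J2 k2 l *ᵥ x) k1 = bf J2 x k1 := by
    rw [Bm_mulVec]
    simp only [Cfsg.Agent.Lib.Helper3.SpT.bf_sub_left, Cfsg.Agent.Lib.Helper3.SpT.bf_smul_left,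
      Cfsg.Agent.Lib.Helper3.SpT.bf_add_left, h21, hl1]
    ring
  rw [← Matrix.mulVec_mulVec, ← Matrix.mulVec_mulVec, T2_mulVec, bf_Bm_k hJ2 h.h22 h2l hll, hx1,
    Matrix.mulVec_sub, Matrix.mulVec_smul, Matrix.mulVec_smul, hk1, hk2, Matrix.neg_mulVec, T2_mulVec]
  simp only [neg_smul, smul_neg]
  abel

theorem comm_eq (hJ2 : OrthG J2) {k1 k2 l : Fin b → F} (h : Ts2 J2 k1 k2) (h1l : bf J2 k1 l = 0)
    (h2l : bf J2 k2 l = 1) (hll : bf J2 l l = 0) (c : F) :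
    ⁅Bgl hJ2 h.h22 h2l hll, rho hJ2 h c⁆ = rho hJ2 h (-(2 * c)) := by
  apply Units.ext
  rw [commutatorElement_def, Units.val_mul, Units.val_mul, Units.val_mul]
  unfold rho
  rw [Cfsg.Agent.Lib.Helper3.SpT.uni_val, Cfsg.Agent.Lib.Helper3.SpT.uni_inv_val, Cfsg.Agent.Lib.Helper3.SpT.uni_val]
  show Bm J2 k2 l * (1 + c • T2 J2 k1 k2) * Bm J2 k2 l * (1 - c • T2 J2 k1 k2) = 1 + (-(2 * c)) • T2 J2 k1 k2
  have e1 : Bm J2 k2 l * (1 + c • T2 J2 k1 k2) * Bm J2 k2 l = 1 - c • T2 J2 k1 k2 := by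
    rw [mul_add, add_mul, mul_one, Bm_sq hJ2 h.h22 h2l hll, Matrix.mul_smul, Matrix.smul_mul,
      Bm_T2_Bm hJ2 h h1l h2l hll, smul_neg, sub_eq_add_neg]
  rw [e1, mul_sub, mul_one, sub_mul, one_mul, smul_T2_sq hJ2 h c, sub_zero, neg_smul, mul_smul, two_smul]
  abel

/-- ROOT (h) : `1 ⊗ ρ_{π,c} ∈ Ω(V)` -/
theorem yL_mem_Om (hS : SetupO J1 J2 Q) (_hb : 5 ≤ b) {k1 k2 : Fin b → F} (h : Ts2 J2 k1 k2) (c : F) :
    yL (a := a) hS.h2 h c ∈ Cfsg.Geo.omegaGL (⇑Q) := by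
  obtain ⟨l, h1l, h2l, hll⟩ := exists_partner hS.h2 hS.two h
  have hc : c = -(2 * (-(c / 2))) := by
    have := hS.two
    field_simp
  have e : yL (a := a) hS.h2 h c =
      ⁅oneK (a := a) (Bgl hS.h2 h.h22 h2l hll), oneK (a := a) (rho hS.h2 h (-(c / 2)))⁆ := by
    rw [← map_commutatorElement, comm_eq hS.h2 h h1l h2l hll, ← hc, oneK_rho]
  rw [e]
  exact Cfsg.Agent.Lib.Helper3.SpT.commutator_mem_Om _ _
    (mem_iso_of_IsoG hS _ (oneK_mem_IsoG _ (Bgl_mem_IsoG hS.h2 h.h22 h2l hll)))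
    (mem_iso_of_IsoG hS _ (oneK_mem_IsoG _ (rho_mem_IsoG hS.h2 h _)))

end Cfsg.Agent.Lib.Helper16.OTRootC
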