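import Mathlib
import Cfsg.Agent.Lib.Helper16.S1237Defs

/-!
# S1237 piece FO-A: `fpf`, `cube_inv`, `inv_mem`
-/

set_option autoImplicit false
set_option linter.unusedSectionVars false

namespace Cfsg.Agent.Lib.Helper16.S1237FOA

open Subgroup Cfsg.Agent.Lib.Helper16.S1237

universe u

variable {T : Type u} [Group T] [Finite T] {ρ : MulAut T}

/-- a non-identity element of a `2`-group has a power which is an involution -/
theorem exists_inv_pow (hT : IsPGroup 2 T) (x : T) (hx : x ≠ 1) :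
    ∃ j : ℕ, x ^ (2 ^ j) ≠ 1 ∧ x ^ (2 ^ j) * x ^ (2 ^ j) = 1 := by
  obtain ⟨k, hk⟩ := (IsPGroup.iff_orderOf.mp hT) x
  have hk1 : 1 ≤ k := by
    by_contra h0
    have : k = 0 := by omega
    rw [this, pow_zero, orderOf_eq_one_iff] at hk
    exact hx hk
  refine ⟨k - 1, ?_, ?_⟩
  · intro h
    have hd := orderOf_dvd_of_pow_eq_one h
    rw [hk] at hd
    have : 2 ^ k ≤ 2 ^ (k - 1) := Nat.le_of_dvd (by positivity) hd
    have h2 : 2 ^ (k - 1) < 2 ^ k := Nat.pow_lt_pow_right (by norm_num) (by omega)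
    omega
  · rw [← pow_add, ← two_mul, ← pow_succ']
    have : k - 1 + 1 = k := by omega
    rw [this, ← hk, pow_orderOf_eq_one]

/-- **FO-A1**. -/
theorem fpf (H : Hyp ρ) : ∀ x : T, ρ x = x → x = 1 := by
  intro x hx
  by_contra hx1
  obtain ⟨j, hj1, hj2⟩ := exists_inv_pow H.pg x hx1
  apply hj1
  apply H.nofix _ hj2
  rw [map_pow, hx]

theorem sq_map (ρ : MulAut T) (x : T) (hx : x * x = 1) : ρ x * ρ x = 1 := by
  rw [← map_mul, hx, map_one]

/-- `ρ ρ x = x` is impossible for an involution -/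
theorem not_two (H : Hyp ρ) (x : T) (hx : x * x = 1) (hx1 : x ≠ 1) : ρ (ρ x) ≠ x := by
  intro h2
  obtain ⟨k, hk⟩ := H.pow3
  -- `ρ^(2m) x = x`
  have heven : ∀ m : ℕ, (ρ ^ (2 * m)) x = x := by
    intro m
    induction m with
    | zero => simp
    | succ m ih =>
      have : 2 * (m + 1) = 2 * m + 2 := by ring
      rw [this, pow_add, MulAut.mul_apply]
      have e : (ρ ^ 2) x = x := by
        rw [pow_two, MulAut.mul_apply]; exact h2
      rw [e, ih]
  have hodd : ∃ m : ℕ, 3 ^ k = 2 * m + 1 := by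
    have : Odd (3 ^ k) := Odd.pow (by decide)
    obtain ⟨m, hm⟩ := this
    exact ⟨m, hm⟩
  obtain ⟨m, hm⟩ := hodd
  have h1 : (ρ ^ (3 ^ k)) x = ρ x := by
    rw [hm, pow_succ', MulAut.mul_apply, heven m]
  rw [hk, MulAut.one_apply] at h1
  exact hx1 (H.nofix x hx h1.symm)

/-- **FO-A2**. -/
theorem cube_inv (H : Hyp ρ) : ∀ x : T, x * x = 1 → ρ (ρ (ρ x)) = x := by
  classical
  intro x hx
  by_cases hx1 : x = 1
  · rw [hx1]; simp
  have hρ1 : ρ x ≠ 1 := fun h => hx1 (by simpa using h)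
  have hρρ1 : ρ (ρ x) ≠ 1 := fun h => hρ1 (by simpa using h)
  have hρρρ1 : ρ (ρ (ρ x)) ≠ 1 := fun h => hρρ1 (by simpa using h)
  have hsq1 := sq_map ρ x hx
  have hsq2 := sq_map ρ _ hsq1
  have hsq3 := sq_map ρ _ hsq2
  have hne1 : ρ x ≠ x := fun h => hx1 (H.nofix x hx h)
  have hne2 : ρ (ρ x) ≠ x := not_two H x hx hx1
  have : Fintype {y : T // y * y = 1} := Fintype.ofFinite _
  let f : Fin 5 → {y : T // y * y = 1} := fun i =>
    match i with
    | 0 => ⟨1, by simp⟩
    | 1 => ⟨x, hx⟩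
    | 2 => ⟨ρ x, hsq1⟩
    | 3 => ⟨ρ (ρ x), hsq2⟩
    | 4 => ⟨ρ (ρ (ρ x)), hsq3⟩
  have hcard : Fintype.card {y : T // y * y = 1} < Fintype.card (Fin 5) := by
    rw [← Nat.card_eq_fintype_card, H.card_inv]; simp
  obtain ⟨i, j, hij, hf⟩ := Fintype.exists_ne_map_eq_of_card_lt f hcard
  have hval : (f i).1 = (f j).1 := congrArg Subtype.val hf
  have hinj : ∀ a b : T, ρ a = ρ b → a = b := fun a b h => ρ.injective h
  by_contra hgoal
  fin_cases i <;> fin_cases j <;> simp only [f] at hval <;>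
    first
    | exact hij rfl
    | exact hx1 hval
    | exact hx1 hval.symm
    | exact hρ1 hval
    | exact hρ1 hval.symm
    | exact hρρ1 hval
    | exact hρρ1 hval.symm
    | exact hρρρ1 hval
    | exact hρρρ1 hval.symm
    | exact hne1 hval
    | exact hne1 hval.symm
    | exact hne2 hval
    | exact hne2 hval.symm
    | exact hgoal hval
    | exact hgoal hval.symm
    | exact hne1 (hinj _ _ hval)
    | exact hne1 (hinj _ _ hval.symm)
    | exact hne2 (hinj _ _ hval)
    | exact hne2 (hinj _ _ hval.symm)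
    | exact hne1 (hinj _ _ (hinj _ _ hval))
    | exact hne1 (hinj _ _ (hinj _ _ hval.symm))

/-- **FO-A3**. -/
theorem inv_mem (H : Hyp ρ) (S : Subgroup T) (hS : Inv ρ S) (hne : S ≠ ⊥) :
    ∀ x : T, x * x = 1 → x ∈ S := by
  classical
  obtain ⟨⟨s, hs⟩, hs1⟩ := (Subgroup.ne_bot_iff_exists_ne_one.mp hne)
  have hs1' : (s : T) ≠ 1 := fun h => hs1 (Subtype.ext h)
  obtain ⟨j, hj1, hj2⟩ := exists_inv_pow H.pg (s : T) hs1'
  set v := (s : T) ^ (2 ^ j) with hv
  have hvS : v ∈ S := pow_mem hs _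
  have h1S : ρ v ∈ S := hS v hvS
  have h2S : ρ (ρ v) ∈ S := hS _ h1S
  have hsq1 := sq_map ρ v hj2
  have hsq2 := sq_map ρ _ hsq1
  have hρ1 : ρ v ≠ 1 := fun h => hj1 (by simpa using h)
  have hρρ1 : ρ (ρ v) ≠ 1 := fun h => hρ1 (by simpa using h)
  have hne1 : ρ v ≠ v := fun h => hj1 (H.nofix v hj2 h)
  have hne2 : ρ (ρ v) ≠ v := not_two H v hj2 hj1
  have hne3 : ρ (ρ v) ≠ ρ v := fun h => hne1 (ρ.injective h)
  have : Fintype {y : T // y * y = 1} := Fintype.ofFinite _
  let f : Fin 4 → {y : T // y * y = 1} := fun i =>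
    match i with
    | 0 => ⟨1, by simp⟩
    | 1 => ⟨v, hj2⟩
    | 2 => ⟨ρ v, hsq1⟩
    | 3 => ⟨ρ (ρ v), hsq2⟩
  have hfinj : Function.Injective f := by
    intro i j hf
    have hval : (f i).1 = (f j).1 := congrArg Subtype.val hf
    fin_cases i <;> fin_cases j <;> simp only [f] at hval <;>
      first
      | rfl
      | exact absurd hval hj1
      | exact absurd hval.symm hj1
      | exact absurd hval hρ1
      | exact absurd hval.symm hρ1
      | exact absurd hval hρρ1
      | exact absurd hval.symm hρρ1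
      | exact absurd hval hne1
      | exact absurd hval.symm hne1
      | exact absurd hval hne2
      | exact absurd hval.symm hne2
      | exact absurd hval hne3
      | exact absurd hval.symm hne3
  have hfbij : Function.Bijective f := by
    rw [Fintype.bijective_iff_injective_and_card]
    refine ⟨hfinj, ?_⟩
    rw [← Nat.card_eq_fintype_card (α := {y : T // y * y = 1}), H.card_inv]; simp
  intro x hx
  obtain ⟨i, hi⟩ := hfbij.2 ⟨x, hx⟩
  have hval : (f i).1 = x := congrArg Subtype.val hi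
  fin_cases i <;> simp only [f] at hval <;> rw [← hval]
  · exact one_mem _
  · exact hvS
  · exact h1S
  · exact h2S

end Cfsg.Agent.Lib.Helper16.S1237FOA
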