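import Mathlib
import Cfsg.Agent.Lib.Helper16.S1237FOA

/-!
# S1237 piece FO-C1: `card_omega`
-/

set_option autoImplicit false
set_option linter.unusedSectionVars false

namespace Cfsg.Agent.Lib.Helper16.S1237FOC1

open Subgroup Cfsg.Agent.Lib.Helper16.S1237 Cfsg.Agent.Lib.Helper16.S1237FOA

universe u

variable {T : Type u} [Group T] [Finite T] {ρ : MulAut T}

/-- `Ω_i(A) = {x ∈ A | x^(2^i) = 1}` for an abelian subgroup `A` -/
def Om (A : Subgroup T) (hc : ∀ a ∈ A, ∀ b ∈ A, a * b = b * a) (i : ℕ) : Subgroup T where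
  carrier := {x | x ∈ A ∧ x ^ (2 ^ i) = 1}
  one_mem' := ⟨one_mem _, one_pow _⟩
  mul_mem' := by
    rintro a b ⟨ha, ha'⟩ ⟨hb, hb'⟩
    refine ⟨mul_mem ha hb, ?_⟩
    have : Commute a b := hc a ha b hb
    rw [this.mul_pow, ha', hb', one_mul]
  inv_mem' := by
    rintro a ⟨ha, ha'⟩
    exact ⟨inv_mem ha, by rw [inv_pow, ha', inv_one]⟩

theorem mem_Om (A : Subgroup T) (hc : ∀ a ∈ A, ∀ b ∈ A, a * b = b * a) (i : ℕ) (x : T) :
    x ∈ Om A hc i ↔ x ∈ A ∧ x ^ (2 ^ i) = 1 := Iff.rfl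

/-- the power map on `Ω_{i+1}` -/
def powHom (A : Subgroup T) (hc : ∀ a ∈ A, ∀ b ∈ A, a * b = b * a) (i : ℕ) :
    ↥(Om A hc (i + 1)) →* T where
  toFun x := (x : T) ^ (2 ^ i)
  map_one' := by simp
  map_mul' := by
    intro a b
    have : Commute (a : T) (b : T) := hc a a.2.1 b b.2.1
    simp only [Subgroup.coe_mul]
    exact this.mul_pow _

theorem card_step (H : Hyp ρ) (A : Subgroup T) (hA : Inv ρ A)
    (hc : ∀ a ∈ A, ∀ b ∈ A, a * b = b * a) (i : ℕ)
    (hex : ∃ a ∈ A, a ^ (2 ^ (i + 1)) = 1 ∧ a ^ (2 ^ i) ≠ 1) :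
    Nat.card (Om A hc (i + 1)) = 4 * Nat.card (Om A hc i) := by
  classical
  set ψ := powHom A hc i with hψ
  -- the range is the set of all solutions of `y * y = 1`
  have hrange_sq : ∀ y ∈ ψ.range, y * y = 1 := by
    rintro y ⟨x, rfl⟩
    show (x : T) ^ (2 ^ i) * (x : T) ^ (2 ^ i) = 1
    rw [← pow_add, ← two_mul, ← pow_succ']
    exact x.2.2
  have hrange_inv : Inv ρ ψ.range := by
    rintro y ⟨x, rfl⟩
    have hx' : ρ (x : T) ∈ Om A hc (i + 1) := by
      refine ⟨hA _ x.2.1, ?_⟩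
      rw [← map_pow, x.2.2, map_one]
    refine ⟨⟨ρ (x : T), hx'⟩, ?_⟩
    show (ρ (x : T)) ^ (2 ^ i) = ρ ((x : T) ^ (2 ^ i))
    rw [map_pow]
  have hrange_ne : ψ.range ≠ ⊥ := by
    obtain ⟨a, haA, ha1, ha2⟩ := hex
    intro hbot
    have : ψ ⟨a, haA, ha1⟩ ∈ ψ.range := ⟨_, rfl⟩
    rw [hbot, mem_bot] at this
    exact ha2 this
  have hrange_all : ∀ y : T, y * y = 1 → y ∈ ψ.range := inv_mem H ψ.range hrange_inv hrange_ne
  have hcard_range : Nat.card ψ.range = 4 := by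
    rw [← H.card_inv]
    apply Nat.card_congr
    exact Equiv.subtypeEquivRight (fun y => ⟨fun h => hrange_sq y h, fun h => hrange_all y h⟩)
  -- the kernel is `Ω_i`
  have hcard_ker : Nat.card ψ.ker = Nat.card (Om A hc i) := by
    apply Nat.card_congr
    refine
      { toFun := fun x => ⟨(x.1 : T), x.1.2.1, x.2⟩
        invFun := fun y => ⟨⟨(y : T), y.2.1, by
          rw [pow_succ, pow_mul, y.2.2, one_pow]⟩, y.2.2⟩
        left_inv := fun x => by
          apply Subtype.ext; apply Subtype.ext; rfl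
        right_inv := fun y => by
          apply Subtype.ext; rfl }
  have h1 := Subgroup.card_mul_index ψ.ker
  rw [Subgroup.index_ker, hcard_range, hcard_ker] at h1
  omega

/-- **FO-C1**. -/
theorem card_omega (H : Hyp ρ) (A : Subgroup T) (hA : Inv ρ A) (hne : A ≠ ⊥)
    (hc : ∀ a ∈ A, ∀ b ∈ A, a * b = b * a) :
    ∃ n : ℕ, 1 ≤ n ∧ Nat.card A = 4 ^ n ∧ (∀ x ∈ A, x ^ (2 ^ n) = 1) ∧
      ∀ i : ℕ, i ≤ n → Nat.card {x : T // x ∈ A ∧ x ^ (2 ^ i) = 1} = 4 ^ i := by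
  classical
  obtain ⟨r, hr⟩ := (IsPGroup.iff_card (p := 2)).mp H.pg
  have hP : ∃ n : ℕ, ∀ x ∈ A, x ^ (2 ^ n) = 1 :=
    ⟨r, fun x _ => by rw [← hr]; exact pow_card_eq_one'⟩
  let n := Nat.find hP
  have hn : ∀ x ∈ A, x ^ (2 ^ n) = 1 := Nat.find_spec hP
  have hn1 : 1 ≤ n := by
    by_contra h0
    have h0' : n = 0 := by omega
    apply hne
    rw [eq_bot_iff]
    intro x hx
    have := hn x hx
    rw [h0', pow_zero, pow_one] at this
    rw [mem_bot]; exact this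
  have hmin : ¬ ∀ x ∈ A, x ^ (2 ^ (n - 1)) = 1 := Nat.find_min hP (by omega)
  push Not at hmin
  obtain ⟨a, haA, ha⟩ := hmin
  have hcount : ∀ i : ℕ, i ≤ n → Nat.card (Om A hc i) = 4 ^ i := by
    intro i
    induction i with
    | zero =>
      intro _
      have : Om A hc 0 = ⊥ := by
        rw [eq_bot_iff]
        intro x hx
        have := hx.2
        rw [pow_zero, pow_one] at this
        rw [mem_bot]; exact this
      rw [this]; simp
    | succ i ih =>
      intro hi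
      have hex : ∃ b ∈ A, b ^ (2 ^ (i + 1)) = 1 ∧ b ^ (2 ^ i) ≠ 1 := by
        refine ⟨a ^ (2 ^ (n - 1 - i)), pow_mem haA _, ?_, ?_⟩
        · rw [← pow_mul, ← pow_add]
          have : n - 1 - i + (i + 1) = n := by omega
          rw [this]; exact hn a haA
        · rw [← pow_mul, ← pow_add]
          have : n - 1 - i + i = n - 1 := by omega
          rw [this]; exact ha
      rw [card_step H A hA hc i hex, ih (by omega), pow_succ]
      ring
  refine ⟨n, hn1, ?_, hn, ?_⟩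
  · have hAeq : Om A hc n = A := by
      ext x
      rw [mem_Om]
      exact ⟨fun h => h.1, fun h => ⟨h, hn x h⟩⟩
    rw [← hcount n le_rfl, hAeq]
  · intro i hi
    exact hcount i hi

end Cfsg.Agent.Lib.Helper16.S1237FOC1
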