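import Mathlib
import Cfsg.Agent.Lib.Helper12.S1903Defs

/-!
# S1903 FO-E2 (helper16): at most 320 elements of `SU₃(4)` commute with the swap matrix `t0`.
-/

set_option autoImplicit false
set_option linter.unusedSectionVars false
set_option linter.unusedVariables false

namespace Cfsg.Agent.Lib.Helper16.S1903E2

open Cfsg Matrix Polynomial
open Cfsg.Agent.Lib.Helper12.S1903 Cfsg.Agent.Lib.Helper14.PSU3 Cfsg.Agent.Lib.Helper6

variable {F : Type*} [Field F] [Fintype F]

lemma swap_explicit : Matrix.swap F (0 : Fin 3) 1 = !![0,1,0;1,0,0;0,0,1] := by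
  ext i j
  fin_cases i <;> fin_cases j <;> simp [Matrix.swap, PEquiv.toMatrix_apply, Equiv.swap_apply_def]

/-- The relations satisfied by the entries of a matrix of `SU₃(4)` commuting with `t0`. -/
lemma entries (hF : Fintype.card F = 16) (g : SU 3 F 4) (hg : g * t0 hF = t0 hF * g) :
    mat g 1 1 = mat g 0 0 ∧ mat g 1 0 = mat g 0 1 ∧ mat g 1 2 = mat g 0 2 ∧ mat g 2 1 = mat g 2 0 ∧
    (mat g 0 0 + mat g 0 1) ^ 5 = 1 ∧ (mat g 0 0 + mat g 0 1) ^ 2 * mat g 2 2 = 1 ∧
    (mat g 0 0 + mat g 0 1) * (mat g 0 2) ^ 4 + mat g 2 0 * (mat g 2 2) ^ 4 = 0 ∧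
    (mat g 0 0 + mat g 0 1) * (mat g 0 0) ^ 4 + (mat g 0 0 + mat g 0 1) ^ 4 * mat g 0 0
      + (mat g 0 2) ^ 5 = 0 := by
  have h2 : (2 : F) = 0 := two_eq_zero hF
  have hF' : Fintype.card F = 4 ^ 2 := by rw [hF]; norm_num
  have hm : mat g * Matrix.swap F (0 : Fin 3) 1 = Matrix.swap F (0 : Fin 3) 1 * mat g := by
    have := congrArg mat hg
    rwa [mat_mul, mat_mul, mat_t0] at this
  rw [swap_explicit] at hm
  have hp := mat_pres hF' g
  have hdet := mat_det g
  set M := mat g with hM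
  have e01 : M 0 1 = M 1 0 := by
    have := congrFun (congrFun hm 0) 0
    simpa [Matrix.mul_apply, Fin.sum_univ_three] using this
  have e11 : M 0 0 = M 1 1 := by
    have := congrFun (congrFun hm 0) 1
    simpa [Matrix.mul_apply, Fin.sum_univ_three] using this
  have e12 : M 0 2 = M 1 2 := by
    have := congrFun (congrFun hm 0) 2
    simpa [Matrix.mul_apply, Fin.sum_univ_three] using this
  have e21 : M 2 1 = M 2 0 := by
    have := congrFun (congrFun hm 2) 0
    simpa [Matrix.mul_apply, Fin.sum_univ_three] using this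
  have p00 : M 0 0 * (M 0 0) ^ 4 + M 1 0 * (M 1 0) ^ 4 + M 2 0 * (M 2 0) ^ 4 = 1 := by
    have := congrFun (congrFun hp 0) 0
    simpa [Matrix.mul_apply, Fin.sum_univ_three, conjQ_apply] using this
  have p01 : M 0 0 * (M 0 1) ^ 4 + M 1 0 * (M 1 1) ^ 4 + M 2 0 * (M 2 1) ^ 4 = 0 := by
    have := congrFun (congrFun hp 0) 1
    simpa [Matrix.mul_apply, Fin.sum_univ_three, conjQ_apply] using this
  have p02 : M 0 0 * (M 0 2) ^ 4 + M 1 0 * (M 1 2) ^ 4 + M 2 0 * (M 2 2) ^ 4 = 0 := by
    have := congrFun (congrFun hp 0) 2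
    simpa [Matrix.mul_apply, Fin.sum_univ_three, conjQ_apply] using this
  have p22 : M 0 2 * (M 0 2) ^ 4 + M 1 2 * (M 1 2) ^ 4 + M 2 2 * (M 2 2) ^ 4 = 1 := by
    have := congrFun (congrFun hp 2) 2
    simpa [Matrix.mul_apply, Fin.sum_univ_three, conjQ_apply] using this
  rw [Matrix.det_fin_three] at hdet
  rw [← e01, ← e11, e21] at p01
  rw [← e01] at p00 p02
  rw [← e12] at p02 p22
  rw [← e01, ← e11, ← e12, e21] at hdet
  set a := M 0 0
  set b := M 0 1
  set c := M 0 2
  set d := M 2 0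
  set f := M 2 2
  have hs5 : (a + b) ^ 5 = 1 := by
    linear_combination p00 + p01 +
      (2 * a ^ 4 * b + 5 * a ^ 3 * b ^ 2 + 5 * a ^ 2 * b ^ 3 + 2 * a * b ^ 4 - d ^ 5) * h2
  have hf5 : f ^ 5 = 1 := by
    linear_combination p22 - c ^ 5 * h2
  have hsf : (a + b) ^ 2 * f = 1 := by
    linear_combination hdet + (a * b * f + b ^ 2 * f + a * c * d - b * c * d) * h2
  have hd : (a + b) * c ^ 4 + d * f ^ 4 = 0 := by
    linear_combination p02
  have hc16 : c ^ 16 = c := by
    have := FiniteField.pow_card c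
    rwa [hF] at this
  have hd5 : d ^ 5 = c ^ 5 := by
    have h1 : d * f ^ 4 = -((a + b) * c ^ 4) := by linear_combination hd
    have h3 : (d * f ^ 4) ^ 5 = d ^ 5 := by
      have : (d * f ^ 4) ^ 5 = d ^ 5 * (f ^ 5) ^ 4 := by ring
      rw [this, hf5]; ring
    have h4 : (-((a + b) * c ^ 4)) ^ 5 = -(c ^ 5) := by
      have : (-((a + b) * c ^ 4)) ^ 5 = -((a + b) ^ 5 * (c ^ 16 * c ^ 4)) := by ring
      rw [this, hs5, hc16]; ring
    rw [h1, h4] at h3
    linear_combination -h3 - c ^ 5 * h2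
  refine ⟨e11.symm, e01.symm, e12.symm, e21, hs5, hsf, hd, ?_⟩
  linear_combination p01 - hd5 +
    (a ^ 5 + 2 * a ^ 4 * b + 3 * a ^ 3 * b ^ 2 + 2 * a ^ 2 * b ^ 3) * h2

/-- The invariants `(s, c, a)` of a matrix. -/
noncomputable def trip (g : SU 3 F 4) : F × F × F :=
  (mat g 0 0 + mat g 0 1, mat g 0 2, mat g 0 0)

lemma trip_injOn (hF : Fintype.card F = 16) (g g' : SU 3 F 4)
    (hg : g * t0 hF = t0 hF * g) (hg' : g' * t0 hF = t0 hF * g') (h : trip g = trip g') :
    g = g' := by
  obtain ⟨e11, e10, e12, e21, hs5, hsf, hd, -⟩ := entries hF g hg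
  obtain ⟨e11', e10', e12', e21', hs5', hsf', hd', -⟩ := entries hF g' hg'
  simp only [trip, Prod.mk.injEq] at h
  obtain ⟨hs, hc, ha⟩ := h
  have hb : mat g 0 1 = mat g' 0 1 := by
    rw [ha] at hs; exact add_left_cancel hs
  have hsne : (mat g 0 0 + mat g 0 1) ^ 2 ≠ 0 := by
    intro h0; rw [h0, zero_mul] at hsf; exact zero_ne_one hsf
  have hf : mat g 2 2 = mat g' 2 2 := by
    rw [← hs] at hsf'
    have : (mat g 0 0 + mat g 0 1) ^ 2 * mat g 2 2 = (mat g 0 0 + mat g 0 1) ^ 2 * mat g' 2 2 := by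
      rw [hsf, hsf']
    exact mul_left_cancel₀ hsne this
  have hfne : (mat g 2 2) ^ 4 ≠ 0 := by
    apply pow_ne_zero
    intro h0; rw [h0, mul_zero] at hsf; exact zero_ne_one hsf
  have hdd : mat g 2 0 = mat g' 2 0 := by
    rw [← hs, ← hc, ← hf] at hd'
    have : mat g 2 0 * (mat g 2 2) ^ 4 = mat g' 2 0 * (mat g 2 2) ^ 4 := by
      linear_combination hd - hd'
    exact mul_right_cancel₀ hfne this
  apply mat_injective
  ext i j
  fin_cases i <;> fin_cases j
  · exact ha
  · exact hb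
  · exact hc
  · show mat g 1 0 = mat g' 1 0
    rw [e10, e10', hb]
  · show mat g 1 1 = mat g' 1 1
    rw [e11, e11', ha]
  · show mat g 1 2 = mat g' 1 2
    rw [e12, e12', hc]
  · exact hdd
  · show mat g 2 1 = mat g' 2 1
    rw [e21, e21', hdd]
  · exact hf

open Classical in
/-- The set of admissible triples. -/
noncomputable def admissible (F : Type*) [Field F] [Fintype F] : Finset (F × F × F) :=
  Finset.univ.filter fun x => x.1 ^ 5 = 1 ∧ x.1 * x.2.2 ^ 4 + x.1 ^ 4 * x.2.2 + x.2.1 ^ 5 = 0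

open Classical in
lemma card_quartic_le (s c : F) (hs : s ≠ 0) :
    (Finset.univ.filter fun a : F => s * a ^ 4 + s ^ 4 * a + c ^ 5 = 0).card ≤ 4 := by
  set p : F[X] := C s * X ^ 4 + C (s ^ 4) * X + C (c ^ 5) with hp
  have hdeg : p.natDegree = 4 := by
    rw [hp]
    compute_degree!
  have hp0 : p ≠ 0 := by
    intro h0; rw [h0] at hdeg; simp at hdeg
  have hsub : (Finset.univ.filter fun a : F => s * a ^ 4 + s ^ 4 * a + c ^ 5 = 0) ⊆ p.roots.toFinset := by
    intro a ha
    rw [Finset.mem_filter] at ha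
    rw [Multiset.mem_toFinset, mem_roots hp0, IsRoot.def, hp]
    simp only [eval_add, eval_mul, eval_C, eval_pow, eval_X]
    exact ha.2
  calc _ ≤ p.roots.toFinset.card := Finset.card_le_card hsub
    _ ≤ p.roots.card := Multiset.toFinset_card_le _
    _ ≤ p.natDegree := card_roots' p
    _ = 4 := hdeg

open Classical in
lemma card_fifth_roots_le : (Finset.univ.filter fun s : F => s ^ 5 = 1).card ≤ 5 := by
  have hsub : (Finset.univ.filter fun s : F => s ^ 5 = 1) ⊆ (nthRoots 5 (1 : F)).toFinset := by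
    intro s hs
    rw [Finset.mem_filter] at hs
    rw [Multiset.mem_toFinset, mem_nthRoots (by norm_num)]
    exact hs.2
  calc _ ≤ (nthRoots 5 (1 : F)).toFinset.card := Finset.card_le_card hsub
    _ ≤ (nthRoots 5 (1 : F)).card := Multiset.toFinset_card_le _
    _ ≤ 5 := card_nthRoots 5 1

open Classical in
lemma card_admissible_le (hF : Fintype.card F = 16) : (admissible F).card ≤ 320 := by
  classical
  -- fibre over `(s, c)`
  have hsub : admissible F ⊆
      ((Finset.univ.filter fun s : F => s ^ 5 = 1) ×ˢ (Finset.univ : Finset F)).biUnion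
        (fun sc => (Finset.univ.filter fun a : F =>
          sc.1 * a ^ 4 + sc.1 ^ 4 * a + sc.2 ^ 5 = 0).image (fun a => (sc.1, sc.2, a))) := by
    intro x hx
    rw [admissible, Finset.mem_filter] at hx
    rw [Finset.mem_biUnion]
    refine ⟨(x.1, x.2.1), ?_, ?_⟩
    · rw [Finset.mem_product]
      exact ⟨Finset.mem_filter.mpr ⟨Finset.mem_univ _, hx.2.1⟩, Finset.mem_univ _⟩
    · rw [Finset.mem_image]
      exact ⟨x.2.2, Finset.mem_filter.mpr ⟨Finset.mem_univ _, hx.2.2⟩, rfl⟩
  calc (admissible F).card ≤ _ := Finset.card_le_card hsub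
    _ ≤ ∑ sc ∈ ((Finset.univ.filter fun s : F => s ^ 5 = 1) ×ˢ (Finset.univ : Finset F)),
          ((Finset.univ.filter fun a : F =>
            sc.1 * a ^ 4 + sc.1 ^ 4 * a + sc.2 ^ 5 = 0).image (fun a => (sc.1, sc.2, a))).card :=
        Finset.card_biUnion_le
    _ ≤ ∑ sc ∈ ((Finset.univ.filter fun s : F => s ^ 5 = 1) ×ˢ (Finset.univ : Finset F)), 4 := by
        apply Finset.sum_le_sum
        intro sc hsc
        rw [Finset.mem_product, Finset.mem_filter] at hsc
        have hs0 : sc.1 ≠ 0 := by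
          intro h0
          have := hsc.1.2
          rw [h0] at this
          simp at this
        exact Finset.card_image_le.trans (card_quartic_le sc.1 sc.2 hs0)
    _ = ((Finset.univ.filter fun s : F => s ^ 5 = 1).card * Fintype.card F) * 4 := by
        rw [Finset.sum_const, Finset.card_product, Finset.card_univ, smul_eq_mul]
    _ ≤ (5 * 16) * 4 := by
        rw [hF]
        exact Nat.mul_le_mul_right 4 (Nat.mul_le_mul_right 16 card_fifth_roots_le)
    _ = 320 := by norm_num

/-- FO-E2.  At most 320 elements of `SU₃(4)` commute with the swap matrix `t0`. -/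
theorem card_centralizer_t0_le {F : Type*} [Field F] [Fintype F] (hF : Fintype.card F = 16) :
    Nat.card (Subgroup.centralizer {t0 hF} : Subgroup (Cfsg.SU 3 F 4)) ≤ 320 := by
  classical
  have hmem : ∀ g : (Subgroup.centralizer {t0 hF} : Subgroup (Cfsg.SU 3 F 4)),
      (g : SU 3 F 4) * t0 hF = t0 hF * g := by
    intro g
    have := g.2
    rw [Subgroup.mem_centralizer_iff] at this
    exact (this (t0 hF) (Set.mem_singleton _)).symm
  let φ : (Subgroup.centralizer {t0 hF} : Subgroup (Cfsg.SU 3 F 4)) → admissible F := fun g =>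
    ⟨trip (g : SU 3 F 4), by
      obtain ⟨-, -, -, -, hs5, -, -, hpoly⟩ := entries hF (g : SU 3 F 4) (hmem g)
      rw [admissible, Finset.mem_filter]
      exact ⟨Finset.mem_univ _, hs5, hpoly⟩⟩
  have hφ : Function.Injective φ := by
    intro g g' h
    have : trip (g : SU 3 F 4) = trip (g' : SU 3 F 4) := congrArg Subtype.val h
    exact Subtype.ext (trip_injOn hF _ _ (hmem g) (hmem g') this)
  calc Nat.card (Subgroup.centralizer {t0 hF} : Subgroup (Cfsg.SU 3 F 4))
      ≤ Nat.card (admissible F) := Nat.card_le_card_of_injective φ hφ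
    _ = (admissible F).card := by simp
    _ ≤ 320 := card_admissible_le hF

end Cfsg.Agent.Lib.Helper16.S1903E2
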