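import Mathlib
import Cfsg.Prelude.Def_GeometricClasses
import Cfsg.Agent.Lib.Helper1.OEDefs
import Cfsg.Agent.Lib.Helper7.OETypeC

/-!
# Even-dimensional orthogonal PLUS rows, pieces T2 `not_plus_of_odd_minus` and T4 (modulo TC12) (helper16, for helper13)

* `not_plus_of_odd_minus` : EXACT signature of `notes/OEPlusSkel_helper13.lean.txt` (wrapper of helper7's R3);
* `halves_iso_of`         : T4 for a `Fin 2` non-degenerate decomposition into halves of even dimension inside a plus-type space,
  with TC12a / TC12b (helper14) as hypotheses `h12a`, `h12b` (same dimension + same type ⇒ isometric); the final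
  `halves_six` is in `OEPlusT4.lean`.
-/

set_option autoImplicit false
set_option linter.unusedSectionVars false
set_option linter.unusedVariables false

namespace Cfsg.Agent.Lib.Helper16.OEPlus

open Matrix Cfsg Cfsg.Geo Module
open Cfsg.Agent.Lib.Helper1.OE

variable {F : Type*} [Field F] [Fintype F] {n : ℕ} {Q : (Fin n → F) → F}

/-- **T2** an ODD number of pairwise isometric even-dimensional blocks of non-plus type: the sum is not of plus type -/
theorem not_plus_of_odd_minus (hQ : IsNondegenerateQuadraticForm Q) {t k : ℕ} (ht : Odd t) (hk : Even k)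
    (D : Fin t → Submodule F (Fin n → F)) (hD : IsOrthogonalMDecomposition Q k D)
    (hminus : ∀ i, ¬ IsPlusTypeOn Q (D i)) : ¬ IsPlusTypeOn Q ⊤ := by
  intro hV
  have ht0 : 0 < t := ht.pos
  exact hminus ⟨0, ht0⟩
    ((Cfsg.Agent.Lib.Helper7.OEType.isPlusTypeOn_top_iff_block hQ D hD ht hk ⟨0, ht0⟩).mp hV)

/-- the two members of a `Fin 2` decomposition are complementary -/
theorem isCompl_of_decomp_two {m : ℕ} (D : Fin 2 → Submodule F (Fin n → F)) (hD : IsMDecomposition m D) :
    IsCompl (D 0) (D 1) := by
  constructor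
  · exact hD.indep.pairwiseDisjoint (by decide)
  · rw [codisjoint_iff, eq_top_iff, ← hD.iSup_eq_top]
    refine iSup_le fun i => ?_
    fin_cases i
    · exact le_sup_left
    · exact le_sup_right

/-- **T4**, modulo TC12: two orthogonal non-degenerate halves of even dimension in a plus-type space are isometric -/
theorem halves_iso_of (hQ : IsNondegenerateQuadraticForm Q) (hplus : IsPlusTypeOn Q ⊤) {m : ℕ} (hm : Even m)
    (D : Fin 2 → Submodule F (Fin n → F)) (hD : IsNondegenerateMDecomposition (QuadraticMap.polar Q) m D)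
    (h12a : ∀ W W' : Submodule F (Fin n → F), IsNondegenerateOn (QuadraticMap.polar Q) W →
      IsNondegenerateOn (QuadraticMap.polar Q) W' → finrank F W = finrank F W' → IsPlusTypeOn Q W →
      IsPlusTypeOn Q W' → AreIsometricFor Q W W')
    (h12b : ∀ W W' : Submodule F (Fin n → F), IsNondegenerateOn (QuadraticMap.polar Q) W →
      IsNondegenerateOn (QuadraticMap.polar Q) W' → finrank F W = finrank F W' → Even (finrank F W) →
      ¬ IsPlusTypeOn Q W → ¬ IsPlusTypeOn Q W' → AreIsometricFor Q W W') :
    AreIsometricFor Q (D 0) (D 1) := by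
  have hc := isCompl_of_decomp_two D hD.decomp
  have ho01 : AreOrthogonalFor (QuadraticMap.polar Q) (D 0) (D 1) := hD.orthogonal 0 1 (by decide)
  have ho10 : AreOrthogonalFor (QuadraticMap.polar Q) (D 1) (D 0) := hD.orthogonal 1 0 (by decide)
  have hdim : finrank F (D 0) = finrank F (D 1) := by
    rw [hD.decomp.finrank_eq 0, hD.decomp.finrank_eq 1]
  by_cases h0 : IsPlusTypeOn Q (D 0)
  · have h1 : IsPlusTypeOn Q (D 1) :=
      Cfsg.Agent.Lib.Helper7.OEType.isPlusTypeOn_of_isCompl_cancel hQ (D 0) (D 1) hc ho01 h0 hplus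
    exact h12a (D 0) (D 1) (hD.nondegenerate 0) (hD.nondegenerate 1) hdim h0 h1
  · have h1 : ¬ IsPlusTypeOn Q (D 1) := by
      intro h1
      exact h0 (Cfsg.Agent.Lib.Helper7.OEType.isPlusTypeOn_of_isCompl_cancel hQ (D 1) (D 0) hc.symm ho10 h1 hplus)
    refine h12b (D 0) (D 1) (hD.nondegenerate 0) (hD.nondegenerate 1) hdim ?_ h0 h1
    rw [hD.decomp.finrank_eq 0]
    exact hm

end Cfsg.Agent.Lib.Helper16.OEPlus
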