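import Mathlib
import Cfsg.Prelude.Def_GeometricClasses

/-!
# Transport of the geometric-class vocabulary along a bijection of index types  (helper16; block TR of S5662, generic)

`e : κ ≃ ι`, `glReindex e : GL κ F ≃* GL ι F`.  Vectors are transported by `rv e v = v ∘ e.symm`, two-argument forms by
`tf e f u v = f (u ∘ e) (v ∘ e)`, one-argument forms by `tq e Q v = Q (v ∘ e)`, subspaces by `tW e W = W.map (rv e)`, subalgebras of the
matrix algebra by `tK e K = K.map (Matrix.reindexAlgEquiv F F e)`.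
-/

set_option autoImplicit false
set_option linter.unusedSectionVars false

namespace Cfsg.Agent.Lib.Helper16.GeoTR

open Matrix Cfsg.Geo

variable {κ ι : Type} [Fintype κ] [DecidableEq κ] [Fintype ι] [DecidableEq ι] {F : Type*} [Field F]

/-- transport of vectors: `v ↦ v ∘ e.symm` -/
def rv (e : κ ≃ ι) : (κ → F) ≃ₗ[F] (ι → F) := LinearEquiv.funCongrLeft F F e.symm

@[simp] theorem rv_apply (e : κ ≃ ι) (v : κ → F) : rv e v = v ∘ e.symm := rfl

@[simp] theorem rv_symm_apply (e : κ ≃ ι) (v : ι → F) : (rv e).symm v = v ∘ e := by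
  ext i
  simp [rv, LinearEquiv.funCongrLeft]

theorem rv_comp (e : κ ≃ ι) (v : ι → F) : rv e (v ∘ e) = v := by
  ext i
  simp

theorem rv_comp' (e : κ ≃ ι) (v : κ → F) : (rv e v) ∘ e = v := by
  ext i
  simp

/-- transport of two-argument forms -/
def tf (e : κ ≃ ι) (f : (κ → F) → (κ → F) → F) : (ι → F) → (ι → F) → F := fun u v => f (u ∘ e) (v ∘ e)

@[simp] theorem tf_apply (e : κ ≃ ι) (f : (κ → F) → (κ → F) → F) (u v : ι → F) : tf e f u v = f (u ∘ e) (v ∘ e) := rfl

theorem tf_rv (e : κ ≃ ι) (f : (κ → F) → (κ → F) → F) (u v : κ → F) : tf e f (rv e u) (rv e v) = f u v := by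
  rw [tf_apply, rv_comp', rv_comp']

/-- transport of one-argument forms -/
def tq (e : κ ≃ ι) (Q : (κ → F) → F) : (ι → F) → F := fun v => Q (v ∘ e)

@[simp] theorem tq_apply (e : κ ≃ ι) (Q : (κ → F) → F) (v : ι → F) : tq e Q v = Q (v ∘ e) := rfl

/-- transport of subspaces -/
def tW (e : κ ≃ ι) (W : Submodule F (κ → F)) : Submodule F (ι → F) :=
  W.map ((rv e : (κ → F) ≃ₗ[F] (ι → F)) : (κ → F) →ₗ[F] (ι → F))

theorem mem_tW (e : κ ≃ ι) (W : Submodule F (κ → F)) (v : ι → F) : v ∈ tW e W ↔ v ∘ e ∈ W := by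
  unfold tW
  rw [Submodule.mem_map]
  constructor
  · rintro ⟨w, hw, rfl⟩
    have : (rv e w) ∘ e = w := rv_comp' e w
    simp only [LinearEquiv.coe_coe]
    rw [this]
    exact hw
  · intro h
    exact ⟨v ∘ e, h, rv_comp e v⟩

/-- transport of subalgebras of the matrix algebra -/
def tK (e : κ ≃ ι) (K : Subalgebra F (Matrix κ κ F)) : Subalgebra F (Matrix ι ι F) :=
  K.map (Matrix.reindexAlgEquiv F F e : Matrix κ κ F →ₐ[F] Matrix ι ι F)

theorem mem_tK (e : κ ≃ ι) (K : Subalgebra F (Matrix κ κ F)) (x : Matrix ι ι F) :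
    x ∈ tK e K ↔ Matrix.reindex e.symm e.symm x ∈ K := by
  unfold tK
  rw [Subalgebra.mem_map]
  constructor
  · rintro ⟨k, hk, rfl⟩
    have : Matrix.reindex e.symm e.symm ((Matrix.reindexAlgEquiv F F e : Matrix κ κ F →ₐ[F] Matrix ι ι F) k) = k := by
      ext i j
      simp [Matrix.coe_reindexAlgEquiv]
    rw [this]
    exact hk
  · intro h
    refine ⟨Matrix.reindex e.symm e.symm x, h, ?_⟩
    ext i j
    simp [Matrix.coe_reindexAlgEquiv]

/-- the matrix of `glReindex e g` -/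
theorem glReindex_val (e : κ ≃ ι) (g : GL κ F) :
    ((glReindex e g : GL ι F) : Matrix ι ι F) = Matrix.reindex e e (g : Matrix κ κ F) := rfl

theorem glReindex_apply (e : κ ≃ ι) (g : GL κ F) (i j : ι) :
    ((glReindex e g : GL ι F) : Matrix ι ι F) i j = (g : Matrix κ κ F) (e.symm i) (e.symm j) := rfl

/-- the action of `glReindex e g` -/
theorem glReindex_mulVec (e : κ ≃ ι) (g : GL κ F) (v : ι → F) :
    ((glReindex e g : GL ι F) : Matrix ι ι F) *ᵥ v = rv e ((g : Matrix κ κ F) *ᵥ (v ∘ e)) := by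
  ext i
  rw [rv_apply, Function.comp_apply, Matrix.mulVec, Matrix.mulVec, dotProduct, dotProduct]
  rw [← Equiv.sum_comp e]
  refine Finset.sum_congr rfl fun j _ => ?_
  rw [glReindex_apply, Equiv.symm_apply_apply, Function.comp_apply]

theorem glReindex_mulVec_comp (e : κ ≃ ι) (g : GL κ F) (v : ι → F) :
    (((glReindex e g : GL ι F) : Matrix ι ι F) *ᵥ v) ∘ e = (g : Matrix κ κ F) *ᵥ (v ∘ e) := by
  rw [glReindex_mulVec, rv_comp']

theorem glReindex_mulVec_rv (e : κ ≃ ι) (g : GL κ F) (v : κ → F) :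
    ((glReindex e g : GL ι F) : Matrix ι ι F) *ᵥ (rv e v) = rv e ((g : Matrix κ κ F) *ᵥ v) := by
  rw [glReindex_mulVec, rv_comp']

/-- reindexed matrices act through `rv` -/
theorem reindex_mulVec (e : κ ≃ ι) (x : Matrix κ κ F) (v : ι → F) :
    (Matrix.reindex e e x) *ᵥ v = rv e (x *ᵥ (v ∘ e)) := by
  ext i
  rw [rv_apply, Function.comp_apply, Matrix.mulVec, Matrix.mulVec, dotProduct, dotProduct]
  rw [← Equiv.sum_comp e]
  refine Finset.sum_congr rfl fun j _ => ?_
  simp

theorem glReindex_symm_apply (e : κ ≃ ι) (g : GL ι F) : (glReindex e).symm g = glReindex e.symm g := by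
  apply Units.ext
  ext i j
  rfl

theorem glReindex_symm_glReindex (e : κ ≃ ι) (g : GL κ F) : glReindex e.symm (glReindex e g) = g := by
  rw [← glReindex_symm_apply, MulEquiv.symm_apply_apply]

theorem glReindex_glReindex_symm (e : κ ≃ ι) (g : GL ι F) : glReindex e (glReindex e.symm g) = g := by
  rw [← glReindex_symm_apply, MulEquiv.apply_symm_apply]

theorem tf_symm_tf (e : κ ≃ ι) (f : (κ → F) → (κ → F) → F) : tf e.symm (tf e f) = f := by
  funext u v
  simp only [tf_apply]
  congr 1 <;> · ext i; simp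

theorem tf_tf_symm (e : κ ≃ ι) (f : (ι → F) → (ι → F) → F) : tf e (tf e.symm f) = f := by
  funext u v
  simp only [tf_apply]
  congr 1 <;> · ext i; simp

theorem tq_symm_tq (e : κ ≃ ι) (Q : (κ → F) → F) : tq e.symm (tq e Q) = Q := by
  funext v
  simp only [tq_apply]
  congr 1
  ext i; simp

theorem tW_symm_tW (e : κ ≃ ι) (W : Submodule F (κ → F)) : tW e.symm (tW e W) = W := by
  ext v
  rw [mem_tW, mem_tW]
  have : (v ∘ e.symm) ∘ e = v := by ext i; simp
  rw [this]

theorem map_map_symm (e : κ ≃ ι) (R : Subgroup (GL κ F)) :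
    (R.map (glReindex (F := F) e).toMonoidHom).map (glReindex (F := F) e.symm).toMonoidHom = R := by
  ext g
  constructor
  · rintro ⟨_, ⟨h, hh, rfl⟩, rfl⟩
    simp only [MulEquiv.toMonoidHom_eq_coe, MonoidHom.coe_coe]
    rw [glReindex_symm_glReindex]
    exact hh
  · intro hg
    exact ⟨glReindex e g, ⟨g, hg, rfl⟩, glReindex_symm_glReindex e g⟩

theorem mem_map_glReindex (e : κ ≃ ι) (R : Subgroup (GL κ F)) (g : GL ι F) :
    g ∈ R.map (glReindex (F := F) e).toMonoidHom ↔ glReindex e.symm g ∈ R := by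
  constructor
  · rintro ⟨h, hh, rfl⟩
    simp only [MulEquiv.toMonoidHom_eq_coe, MonoidHom.coe_coe]
    rw [glReindex_symm_glReindex]
    exact hh
  · intro hg
    exact ⟨glReindex e.symm g, hg, glReindex_glReindex_symm e g⟩

end Cfsg.Agent.Lib.Helper16.GeoTR
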