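import Mathlib
import Cfsg.Agent.S4333
import Cfsg.Agent.Lib.Helper20.Subnormal

/-!
Flavell's generalisation of Wielandt's zipper lemma.

Let `A` be a proper subgroup of the finite group `G` whose normal closure is `G`, and let `Y` be
the join of the proper subgroups `H ≥ A` in which `A` is contranormal (the normal closure of `A`
in `H` is `H`).  Then `Y = G` or `A` lies in a unique maximal subgroup of `G`.
-/

set_option autoImplicit false

namespace Cfsg.Agent.Lib.Helper16.Zip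

open Subgroup
open scoped Pointwise

universe u

variable {G : Type u} [Group G]

/-! ### conjugation toolkit -/

theorem smul_top' (g : G) : MulAut.conj g • (⊤ : Subgroup G) = ⊤ := by
  rw [eq_top_iff]
  intro x _
  rw [Subgroup.mem_pointwise_smul_iff_inv_smul_mem]
  exact Subgroup.mem_top _

theorem smul_ne_top {H : Subgroup G} (g : G) (h : H ≠ ⊤) : MulAut.conj g • H ≠ ⊤ := by
  intro h1
  apply h
  have h2 : (MulAut.conj g)⁻¹ • (MulAut.conj g • H) = (MulAut.conj g)⁻¹ • (⊤ : Subgroup G) := by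
    rw [h1]
  rw [inv_smul_smul, ← map_inv, smul_top'] at h2
  exact h2

theorem card_smul (g : G) (H : Subgroup G) : Nat.card ↥(MulAut.conj g • H) = Nat.card ↥H :=
  Nat.card_congr (Subgroup.equivSMul (MulAut.conj g) H).symm.toEquiv

theorem smul_eq_of_le [Finite G] {g : G} {H : Subgroup G} (h : MulAut.conj g • H ≤ H) :
    MulAut.conj g • H = H :=
  Subgroup.eq_of_le_of_card_ge h (by rw [card_smul])

theorem smul_eq_of_ge [Finite G] {g : G} {H : Subgroup G} (h : H ≤ MulAut.conj g • H) :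
    MulAut.conj g • H = H :=
  (Subgroup.eq_of_le_of_card_ge h (by rw [card_smul])).symm

theorem smul_eq_iff_mem_normalizer (g : G) (X : Subgroup G) :
    MulAut.conj g • X = X ↔ g ∈ Subgroup.normalizer (X : Set G) :=
  Cfsg.Agent.S0538.conj_smul_eq_self_iff g X

theorem smul_eq_of_mem {H : Subgroup G} {g : G} (hg : g ∈ H) : MulAut.conj g • H = H :=
  Subgroup.conj_smul_eq_self_of_mem hg

theorem smul_le_of_mem {C H : Subgroup G} {g : G} (hg : g ∈ H) (hCH : C ≤ H) :
    MulAut.conj g • C ≤ H := by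
  have h1 : MulAut.conj g • C ≤ MulAut.conj g • H :=
    Subgroup.pointwise_smul_le_pointwise_smul_iff.mpr hCH
  rwa [smul_eq_of_mem hg] at h1

theorem le_inv_smul_iff {C N : Subgroup G} (g : G) :
    C ≤ (MulAut.conj g)⁻¹ • N ↔ MulAut.conj g • C ≤ N := by
  rw [Subgroup.subset_pointwise_smul_iff, inv_inv]

theorem inv_smul_le_iff {N H : Subgroup G} (g : G) :
    (MulAut.conj g)⁻¹ • N ≤ H ↔ N ≤ MulAut.conj g • H := by
  rw [Subgroup.pointwise_smul_subset_iff, inv_inv]

theorem card_lt_of_lt [Finite G] {H K : Subgroup G} (hle : H ≤ K) (hne : H ≠ K) :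
    Nat.card ↥H < Nat.card ↥K := by
  by_contra h
  rw [not_lt] at h
  exact hne (Subgroup.eq_of_le_of_card_ge hle h)

theorem coatom_eq_of_le' {K M : Subgroup G} (hK : IsCoatom K) (hM : M ≠ ⊤) (h : K ≤ M) : K = M := by
  by_contra hne
  exact hM (hK.2 M (lt_of_le_of_ne h hne))

theorem isCoatom_smul (g : G) {L : Subgroup G} (hL : IsCoatom L) :
    IsCoatom (MulAut.conj g • L) := by
  refine ⟨smul_ne_top g hL.1, ?_⟩
  intro b hb
  have h1 : L < (MulAut.conj g)⁻¹ • b := by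
    refine lt_of_le_of_ne ?_ ?_
    · rw [le_inv_smul_iff]; exact hb.le
    · intro h
      apply hb.ne
      rw [h, smul_inv_smul]
  have h2 := hL.2 _ h1
  have h3 : MulAut.conj g • ((MulAut.conj g)⁻¹ • b) = MulAut.conj g • (⊤ : Subgroup G) := by
    rw [h2]
  rwa [smul_inv_smul, smul_top'] at h3

/-! ### relative subnormality -/

/-- `L` is a subnormal subgroup of `M`. -/
def Sn (L M : Subgroup G) : Prop := L ≤ M ∧ (L.subgroupOf M).IsSubnormal

theorem Sn.of_normal {F M : Subgroup G} (h : F ≤ M)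
    (hn : M ≤ Subgroup.normalizer (F : Set G)) : Sn F M :=
  ⟨h, ((Subgroup.normal_subgroupOf_iff_le_normalizer h).mpr hn).isSubnormal⟩

theorem Sn.refl (M : Subgroup G) : Sn M M := Sn.of_normal le_rfl Subgroup.le_normalizer

theorem Sn.restrict {L M D : Subgroup G} (h : Sn L M) (hLD : L ≤ D) (hDM : D ≤ M) : Sn L D :=
  ⟨hLD, Cfsg.Agent.S0540.subgroupOf_isSubnormal_of_le hDM h.2⟩

theorem Sn.trans {L F M : Subgroup G} (h1 : Sn L F) (h2 : Sn F M) : Sn L M := by
  refine ⟨h1.1.trans h2.1, ?_⟩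
  have hHK : L.subgroupOf M ≤ F.subgroupOf M := by
    intro x hx
    rw [Subgroup.mem_subgroupOf] at hx ⊢
    exact h1.1 hx
  refine Subgroup.IsSubnormal.trans hHK ?_ h2.2
  have h3 : (L.subgroupOf M).subgroupOf (F.subgroupOf M) =
      (L.subgroupOf F).comap (Subgroup.subgroupOfEquivOfLe h2.1).toMonoidHom := by
    ext x
    simp [Subgroup.mem_subgroupOf, Subgroup.subgroupOfEquivOfLe]
  rw [h3]
  exact h1.2.comap _

theorem Sn.conj {L M : Subgroup G} (g : G) (h : Sn L M) :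
    Sn (MulAut.conj g • L) (MulAut.conj g • M) :=
  ⟨Subgroup.pointwise_smul_le_pointwise_smul_iff.mpr h.1, Cfsg.Agent.S4333.isSubnormal_conj g h.2⟩

theorem Sn.sSup [Finite G] {K : Subgroup G} (S : Set (Subgroup G)) (hS : ∀ B ∈ S, Sn B K) :
    Sn (sSup S) K :=
  ⟨sSup_le fun B hB => (hS B hB).1,
    Cfsg.Agent.S0540.isSubnormal_sSup_subgroupOf K S (fun B hB => hS B hB)⟩

theorem Sn.sup [Finite G] {A B K : Subgroup G} (hA : Sn A K) (hB : Sn B K) : Sn (A ⊔ B) K := by
  have h1 := Sn.sSup (K := K) {A, B} (by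
    intro C hC
    rcases hC with rfl | rfl
    · exact hA
    · exact hB)
  rwa [sSup_pair] at h1

theorem le_normalizer_map_subtype {H : Subgroup G} (K : Subgroup ↥H) [hK : K.Normal] :
    H ≤ Subgroup.normalizer ((K.map H.subtype : Subgroup G) : Set G) := by
  intro h hh
  rw [Subgroup.mem_normalizer_iff]
  intro x
  constructor
  · rintro ⟨y, hy, rfl⟩
    exact ⟨⟨h, hh⟩ * y * ⟨h, hh⟩⁻¹, hK.conj_mem y hy ⟨h, hh⟩, rfl⟩
  · rintro ⟨y, hy, hyx⟩
    refine ⟨⟨h, hh⟩⁻¹ * y * ⟨h, hh⟩, ?_, ?_⟩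
    · have h1 := hK.conj_mem y hy (⟨h, hh⟩⁻¹)
      rwa [inv_inv] at h1
    · have h2 : (y : G) = h * x * h⁻¹ := hyx
      show ((⟨h, hh⟩⁻¹ * y * ⟨h, hh⟩ : ↥H) : G) = x
      simp only [Subgroup.coe_mul, Subgroup.coe_inv, h2]
      group

theorem eq_top_of_map_subtype_eq {H : Subgroup G} (K : Subgroup ↥H) (h : K.map H.subtype = H) :
    K = ⊤ := by
  rw [eq_top_iff]
  intro y _
  have h1 : (y : G) ∈ K.map H.subtype := by rw [h]; exact y.2
  obtain ⟨z, hz, hzy⟩ := h1
  have h2 : z = y := Subtype.ext hzy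
  rwa [← h2]

theorem Sn.exists_normal_of_ne {S H : Subgroup G} (h : Sn S H) (hne : S ≠ H) :
    ∃ N : Subgroup G, S ≤ N ∧ N ≤ H ∧ H ≤ Subgroup.normalizer (N : Set G) ∧ N ≠ H := by
  have h1 : S.subgroupOf H ≠ ⊤ := by
    intro h2
    rw [Subgroup.subgroupOf_eq_top] at h2
    exact hne (le_antisymm h.1 h2)
  obtain ⟨K, hKn, hSK, hK⟩ := h.2.exists_normal_and_le_and_lt_top_of_ne h1
  have := hKn
  refine ⟨K.map H.subtype, ?_, Subgroup.map_subtype_le K, le_normalizer_map_subtype K, ?_⟩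
  · intro s hs
    exact ⟨⟨s, h.1 hs⟩, hSK (Subgroup.mem_subgroupOf.mpr hs), rfl⟩
  · intro h3
    exact hK.ne (eq_top_of_map_subtype_eq K h3)

/-- A subnormal, non-normal subgroup has a conjugate different from it inside its normalizer. -/
theorem Sn.exists_conj [Finite G] (S : Subgroup G) :
    ∀ (k : ℕ) (H : Subgroup G), Nat.card ↥H = k → Sn S H →
      ¬ H ≤ Subgroup.normalizer (S : Set G) →
      ∃ h ∈ H, MulAut.conj h • S ≠ S ∧ MulAut.conj h • S ≤ Subgroup.normalizer (S : Set G) := by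
  intro k
  induction k using Nat.strong_induction_on with
  | _ k ih =>
    intro H hk hsn hnn
    have hne : S ≠ H := by
      intro e
      apply hnn
      rw [← e]
      exact Subgroup.le_normalizer
    obtain ⟨N, hSN, hNH, hn, hN⟩ := hsn.exists_normal_of_ne hne
    by_cases hNn : N ≤ Subgroup.normalizer (S : Set G)
    · obtain ⟨h, hh, hhn⟩ := SetLike.not_le_iff_exists.mp hnn
      refine ⟨h, hh, fun e => hhn ((smul_eq_iff_mem_normalizer h S).mp e), ?_⟩
      have h1 : MulAut.conj h • S ≤ MulAut.conj h • N :=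
        Subgroup.pointwise_smul_le_pointwise_smul_iff.mpr hSN
      have h2 : MulAut.conj h • N = N := (smul_eq_iff_mem_normalizer h N).mpr (hn hh)
      rw [h2] at h1
      exact h1.trans hNn
    · have hlt : Nat.card ↥N < k := by
        rw [← hk]
        exact card_lt_of_lt hNH hN
      obtain ⟨t, ht, h1, h2⟩ := ih _ hlt N rfl (hsn.restrict hSN hNH) hNn
      exact ⟨t, hNH ht, h1, h2⟩

/-! ### contranormality -/

/-- `C` is contranormal in `H`: the only normal subgroup of `H` containing `C` is `H`. -/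
def CN (C H : Subgroup G) : Prop :=
  C ≤ H ∧ ∀ N : Subgroup G, C ≤ N → N ≤ H → H ≤ Subgroup.normalizer (N : Set G) → N = H

theorem CN.refl (C : Subgroup G) : CN C C := ⟨le_rfl, fun _ h1 h2 _ => le_antisymm h2 h1⟩

theorem CN_iff {C H : Subgroup G} (hCH : C ≤ H) :
    Subgroup.normalClosure ((C.subgroupOf H : Subgroup ↥H) : Set ↥H) = ⊤ ↔ CN C H := by
  constructor
  · intro h
    refine ⟨hCH, fun N hCN hNH hn => ?_⟩
    have : (N.subgroupOf H).Normal := (Subgroup.normal_subgroupOf_iff_le_normalizer hNH).mpr hn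
    have h1 : Subgroup.normalClosure ((C.subgroupOf H : Subgroup ↥H) : Set ↥H) ≤ N.subgroupOf H := by
      apply Subgroup.normalClosure_le_normal
      intro x hx
      exact Subgroup.mem_subgroupOf.mpr (hCN (Subgroup.mem_subgroupOf.mp hx))
    rw [h, top_le_iff, Subgroup.subgroupOf_eq_top] at h1
    exact le_antisymm hNH h1
  · intro h
    have h0 : C ≤ (Subgroup.normalClosure ((C.subgroupOf H : Subgroup ↥H) : Set ↥H)).map
        H.subtype := by
      intro c hc
      exact ⟨⟨c, hCH hc⟩, Subgroup.subset_normalClosure (Subgroup.mem_subgroupOf.mpr hc), rfl⟩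
    have h1 := h.2 _ h0 (Subgroup.map_subtype_le _) (le_normalizer_map_subtype _)
    exact eq_top_of_map_subtype_eq _ h1

theorem CN.eq_of_Sn {C H J : Subgroup G} (h : CN C H) (hJ : Sn J H) (hCJ : C ≤ J) : J = H := by
  by_contra hne
  obtain ⟨N, hJN, hNH, hn, hN⟩ := hJ.exists_normal_of_ne hne
  exact hN (h.2 N (hCJ.trans hJN) hNH hn)

theorem CN.eq_of_le_normalizer {C H : Subgroup G} (h : CN C H)
    (hn : H ≤ Subgroup.normalizer (C : Set G)) : C = H :=
  h.2 C le_rfl h.1 hn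

theorem CN.conj {C H : Subgroup G} (g : G) (h : CN C H) :
    CN (MulAut.conj g • C) (MulAut.conj g • H) := by
  refine ⟨Subgroup.pointwise_smul_le_pointwise_smul_iff.mpr h.1, fun N hCN hNH hn => ?_⟩
  have h1 : C ≤ (MulAut.conj g)⁻¹ • N := (le_inv_smul_iff g).mpr hCN
  have h2 : (MulAut.conj g)⁻¹ • N ≤ H := (inv_smul_le_iff g).mpr hNH
  have h3 : H ≤ Subgroup.normalizer (((MulAut.conj g)⁻¹ • N : Subgroup G) : Set G) := by
    rw [← map_inv, Cfsg.Agent.Lib.Helper20.smul_normalizer_eq, map_inv, le_inv_smul_iff]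
    exact hn
  have h4 := h.2 _ h1 h2 h3
  rw [← h4, smul_inv_smul]

theorem exists_CN_Sn [Finite G] (C : Subgroup G) :
    ∀ (k : ℕ) (H : Subgroup G), Nat.card ↥H = k → C ≤ H →
      ∃ S : Subgroup G, CN C S ∧ Sn S H := by
  intro k
  induction k using Nat.strong_induction_on with
  | _ k ih =>
    intro H hk hCH
    by_cases hcn : CN C H
    · exact ⟨H, hcn, Sn.refl H⟩
    · have h1 : ∃ N : Subgroup G, C ≤ N ∧ N ≤ H ∧ H ≤ Subgroup.normalizer (N : Set G) ∧ N ≠ H := by
        by_contra hno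
        apply hcn
        refine ⟨hCH, fun N h1 h2 h3 => ?_⟩
        by_contra h4
        exact hno ⟨N, h1, h2, h3, h4⟩
      obtain ⟨N, hCN, hNH, hn, hne⟩ := h1
      have hlt : Nat.card ↥N < k := by
        rw [← hk]
        exact card_lt_of_lt hNH hne
      obtain ⟨S, hS1, hS2⟩ := ih _ hlt N rfl hCN
      exact ⟨S, hS1, hS2.trans (Sn.of_normal hNH hn)⟩

theorem decomp [Finite G] {C C' H : Subgroup G} (hcn : CN (C ⊔ C') H) :
    ∃ S S' : Subgroup G, CN C S ∧ Sn S H ∧ CN C' S' ∧ Sn S' H ∧ S ⊔ S' = H := by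
  have hC : C ≤ H := le_sup_left.trans hcn.1
  have hC' : C' ≤ H := le_sup_right.trans hcn.1
  obtain ⟨S, hS1, hS2⟩ := exists_CN_Sn C _ H rfl hC
  obtain ⟨S', hS1', hS2'⟩ := exists_CN_Sn C' _ H rfl hC'
  exact ⟨S, S', hS1, hS2, hS1', hS2', hcn.eq_of_Sn (hS2.sup hS2') (sup_le_sup hS1.1 hS1'.1)⟩

/-! ### the join `Y` of the proper contranormal overgroups -/

/-- The join of the proper subgroups containing `C` in which `C` is contranormal. -/
def Yc (C : Subgroup G) : Subgroup G := sSup {H : Subgroup G | C ≤ H ∧ H ≠ ⊤ ∧ CN C H}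

theorem le_Yc {C H : Subgroup G} (h2 : H ≠ ⊤) (h3 : CN C H) : H ≤ Yc C :=
  le_sSup ⟨h3.1, h2, h3⟩

theorem self_le_Yc {C : Subgroup G} (hC : C ≠ ⊤) : C ≤ Yc C := le_Yc hC (CN.refl C)

theorem Yc_conj_le {C L : Subgroup G} (g : G) (h : Yc C ≤ L) :
    Yc (MulAut.conj g • C) ≤ MulAut.conj g • L := by
  apply sSup_le
  rintro H ⟨-, hH, hcn⟩
  have h1 : CN C ((MulAut.conj g)⁻¹ • H) := by
    have h0 := hcn.conj g⁻¹
    rwa [map_inv, inv_smul_smul] at h0
  have h2 : (MulAut.conj g)⁻¹ • H ≠ ⊤ := by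
    rw [← map_inv]
    exact smul_ne_top g⁻¹ hH
  have h3 := (le_Yc h2 h1).trans h
  rwa [inv_smul_le_iff] at h3

/-- The induction hypothesis: the theorem for subgroups of order larger than `n`. -/
def IHyp (G : Type u) [Group G] (n : ℕ) : Prop :=
  ∀ V : Subgroup G, n < Nat.card ↥V → V ≠ ⊤ → Subgroup.normalClosure (V : Set G) = ⊤ →
    Yc V = ⊤ ∨ ∃! M : Subgroup G, IsCoatom M ∧ V ≤ M

/-- `L` is a maximal subgroup containing `C`, its normalizer and `Yc C`. -/
structure Adm (n : ℕ) (C L : Subgroup G) : Prop where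
  card : Nat.card ↥C = n
  ncl : Subgroup.normalClosure (C : Set G) = ⊤
  coatom : IsCoatom L
  le : C ≤ L
  yle : Yc C ≤ L
  nle : Subgroup.normalizer (C : Set G) ≤ L

theorem normalClosure_smul_eq_top {C : Subgroup G} (g : G)
    (h : Subgroup.normalClosure (C : Set G) = ⊤) :
    Subgroup.normalClosure ((MulAut.conj g • C : Subgroup G) : Set G) = ⊤ := by
  rw [eq_top_iff, ← h]
  apply Subgroup.normalClosure_le_normal
  intro c hc
  have h0 : MulAut.conj g • c ∈ MulAut.conj g • C := Subgroup.smul_mem_pointwise_smul c _ C hc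
  have h1 : g * c * g⁻¹ ∈ Subgroup.normalClosure ((MulAut.conj g • C : Subgroup G) : Set G) := by
    apply Subgroup.subset_normalClosure
    have h0' : g * c * g⁻¹ ∈ MulAut.conj g • C := by simpa [MulAut.smul_def] using h0
    exact SetLike.mem_coe.mpr h0'
  have h2 := (Subgroup.normalClosure_normal).conj_mem _ h1 g⁻¹
  have e : g⁻¹ * (g * c * g⁻¹) * g⁻¹⁻¹ = c := by group
  rwa [e] at h2

theorem Adm.conj {n : ℕ} {C L : Subgroup G} (g : G) (h : Adm n C L) :
    Adm n (MulAut.conj g • C) (MulAut.conj g • L) where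
  card := by rw [card_smul]; exact h.card
  ncl := normalClosure_smul_eq_top g h.ncl
  coatom := isCoatom_smul g h.coatom
  le := Subgroup.pointwise_smul_le_pointwise_smul_iff.mpr h.le
  yle := Yc_conj_le g h.yle
  nle := by
    rw [Cfsg.Agent.Lib.Helper20.smul_normalizer_eq]
    exact Subgroup.pointwise_smul_le_pointwise_smul_iff.mpr h.nle

/-- Two distinct subgroups of order `n` with full normal closure lying in two distinct maximal
subgroups: by the induction hypothesis `Yc` of their join is everything. -/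
theorem Yc_sup_eq_top [Finite G] {n : ℕ} (ih : IHyp G n) {C C' K₁ K₂ : Subgroup G}
    (hc : Nat.card ↥C = n) (hc' : Nat.card ↥C' = n)
    (hncl : Subgroup.normalClosure (C : Set G) = ⊤) (hne : C ≠ C')
    (hK₁ : IsCoatom K₁) (hK₂ : IsCoatom K₂) (h12 : K₁ ≠ K₂)
    (hV₁ : C ⊔ C' ≤ K₁) (hV₂ : C ⊔ C' ≤ K₂) : Yc (C ⊔ C') = ⊤ := by
  have hcard : n < Nat.card ↥(C ⊔ C') := by
    rw [← hc]
    apply card_lt_of_lt le_sup_left
    intro e
    apply hne
    have h1 : C' ≤ C := le_sup_right.trans e.ge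
    exact (Subgroup.eq_of_le_of_card_ge h1 (by rw [hc, hc'])).symm
  have hVtop : C ⊔ C' ≠ ⊤ := by
    intro e
    apply hK₁.1
    rw [eq_top_iff, ← e]
    exact hV₁
  have hVncl : Subgroup.normalClosure ((C ⊔ C' : Subgroup G) : Set G) = ⊤ := by
    rw [eq_top_iff, ← hncl]
    exact Subgroup.normalClosure_mono (SetLike.coe_subset_coe.mpr le_sup_left)
  rcases ih _ hcard hVtop hVncl with hY | ⟨M, -, hM⟩
  · exact hY
  · exact absurd ((hM K₁ ⟨hK₁, hV₁⟩).trans (hM K₂ ⟨hK₂, hV₂⟩).symm) h12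

theorem Adm.inf_le_normalizer [Finite G] {n : ℕ} (ih : IHyp G n) {C L K : Subgroup G}
    (h : Adm n C L) (hK : IsCoatom K) (hCK : C ≤ K) (hKL : K ≠ L) :
    K ⊓ L ≤ Subgroup.normalizer (C : Set G) := by
  intro x hx
  by_contra hxn
  have hne : C ≠ MulAut.conj x • C := fun e => hxn ((smul_eq_iff_mem_normalizer x C).mp e.symm)
  have hC'K : MulAut.conj x • C ≤ K := smul_le_of_mem hx.1 hCK
  have hC'L : MulAut.conj x • C ≤ L := smul_le_of_mem hx.2 h.le
  have hY := Yc_sup_eq_top ih h.card (by rw [card_smul]; exact h.card) h.ncl hne hK h.coatom hKL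
    (sup_le hCK hC'K) (sup_le h.le hC'L)
  have hadm' : Adm n (MulAut.conj x • C) L := by
    have h0 := h.conj x
    rwa [smul_eq_of_mem hx.2] at h0
  have hle : Yc (C ⊔ MulAut.conj x • C) ≤ L := by
    apply sSup_le
    rintro H ⟨-, hH, hcn⟩
    obtain ⟨S, S', hS1, hS2, hS1', hS2', hSS⟩ := decomp hcn
    rw [← hSS]
    have hSt : S ≠ ⊤ := by
      intro e
      apply hH
      rw [eq_top_iff, ← e]
      exact hS2.1
    have hSt' : S' ≠ ⊤ := by
      intro e
      apply hH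
      rw [eq_top_iff, ← e]
      exact hS2'.1
    exact sup_le ((le_Yc hSt hS1).trans h.yle) ((le_Yc hSt' hS1').trans hadm'.yle)
  rw [hY, top_le_iff] at hle
  exact h.coatom.1 hle

theorem Adm.sn [Finite G] {n : ℕ} (ih : IHyp G n) {C L K : Subgroup G} (h : Adm n C L)
    (hK : IsCoatom K) (hCK : C ≤ K) (hKL : K ≠ L) : Sn C K := by
  obtain ⟨S, hS1, hS2⟩ := exists_CN_Sn C _ K rfl hCK
  have hSt : S ≠ ⊤ := by
    intro e
    apply hK.1
    rw [eq_top_iff, ← e]
    exact hS2.1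
  have hSL : S ≤ L := (le_Yc hSt hS1).trans h.yle
  have hSn : S ≤ Subgroup.normalizer (C : Set G) :=
    (le_inf hS2.1 hSL).trans (h.inf_le_normalizer ih hK hCK hKL)
  have e : C = S := hS1.eq_of_le_normalizer hSn
  rw [e]
  exact hS2

theorem coatom_unique_of_all_sn [Finite G] {C : Subgroup G}
    (hncl : Subgroup.normalClosure (C : Set G) = ⊤) (hC : C ≠ ⊤)
    (hsn : ∀ K : Subgroup G, IsCoatom K → C ≤ K → Sn C K)
    {K K' : Subgroup G} (hK : IsCoatom K) (hK' : IsCoatom K') (hCK : C ≤ K) (hCK' : C ≤ K') :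
    K = K' := by
  have hnot : ¬ C.IsSubnormal := by
    intro hs
    obtain ⟨N, hN, hCN, hNt⟩ := hs.exists_normal_and_le_and_lt_top_of_ne hC
    have := hN
    have h1 : Subgroup.normalClosure (C : Set G) ≤ N :=
      Subgroup.normalClosure_le_normal (SetLike.coe_subset_coe.mpr hCN)
    rw [hncl, top_le_iff] at h1
    exact hNt.ne h1
  have hprop : ∀ H : Subgroup G, C ≤ H → H ≠ ⊤ → (C.subgroupOf H).IsSubnormal := by
    intro H hCH hH
    obtain ⟨K₀, hK₀, hHK₀⟩ := (eq_top_or_exists_le_coatom H).resolve_left hH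
    exact ((hsn K₀ hK₀ (hCH.trans hHK₀)).restrict hCH hHK₀).2
  obtain ⟨M, -, hMt, hM⟩ := Cfsg.Agent.S4333.zipper C hnot hprop
  have e1 : K = M := coatom_eq_of_le' hK hMt (hM K hCK hK.1)
  have e2 : K' = M := coatom_eq_of_le' hK' hMt (hM K' hCK' hK'.1)
  rw [e1, e2]

theorem Adm.unique [Finite G] {n : ℕ} (ih : IHyp G n) {C L L' : Subgroup G} (h : Adm n C L)
    (h' : Adm n C L') : L = L' := by
  by_contra hne
  have hC : C ≠ ⊤ := by
    intro e
    apply h.coatom.1
    rw [eq_top_iff, ← e]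
    exact h.le
  refine hne (coatom_unique_of_all_sn h.ncl hC ?_ h.coatom h'.coatom h.le h'.le)
  intro K hK hCK
  by_cases hKL : K = L
  · rw [hKL]
    exact h'.sn ih h.coatom h.le hne
  · exact h.sn ih hK hCK hKL

theorem Adm.pair_le [Finite G] {n : ℕ} (ih : IHyp G n) {C L C' L' K₁ K₂ : Subgroup G}
    (h : Adm n C L) (h' : Adm n C' L') (hne : C ≠ C')
    (hK₁ : IsCoatom K₁) (hK₂ : IsCoatom K₂) (h12 : K₁ ≠ K₂)
    (hV₁ : C ⊔ C' ≤ K₁) (hV₂ : C ⊔ C' ≤ K₂) : C ⊔ C' ≤ L := by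
  by_contra hVL
  have hY := Yc_sup_eq_top ih h.card h'.card h.ncl hne hK₁ hK₂ h12 hV₁ hV₂
  have key : ∀ H : Subgroup G, H ≠ ⊤ → CN (C ⊔ C') H →
      ∃ S' : Subgroup G, CN C' S' ∧ Sn S' H ∧ C ⊔ S' = H := by
    intro H hH hcn
    obtain ⟨S, S', hS1, hS2, hS1', hS2', hSS⟩ := decomp hcn
    obtain ⟨K, hK, hHK⟩ := (eq_top_or_exists_le_coatom H).resolve_left hH
    have hKL : K ≠ L := by
      intro e
      apply hVL
      rw [← e]
      exact hcn.1.trans hHK
    have hCK : C ≤ K := (le_sup_left.trans hcn.1).trans hHK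
    have hsn : Sn C K := h.sn ih hK hCK hKL
    have e : C = S := hS1.eq_of_Sn (hsn.restrict hS1.1 (hS2.1.trans hHK)) le_rfl
    refine ⟨S', hS1', hS2', ?_⟩
    rw [e]
    exact hSS
  by_cases hVL' : C ⊔ C' ≤ L'
  · have hle : Yc (C ⊔ C') ≤ L' := by
      apply sSup_le
      rintro H ⟨-, hH, hcn⟩
      obtain ⟨S', hS1', hS2', hSS⟩ := key H hH hcn
      rw [← hSS]
      have hSt' : S' ≠ ⊤ := by
        intro e
        apply hH
        rw [eq_top_iff, ← e]
        exact hS2'.1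
      exact sup_le (le_sup_left.trans hVL') ((le_Yc hSt' hS1').trans h'.yle)
    rw [hY, top_le_iff] at hle
    exact h'.coatom.1 hle
  · have hle : Yc (C ⊔ C') ≤ K₁ := by
      apply sSup_le
      rintro H ⟨-, hH, hcn⟩
      obtain ⟨S', hS1', hS2', hSS⟩ := key H hH hcn
      obtain ⟨K, hK, hHK⟩ := (eq_top_or_exists_le_coatom H).resolve_left hH
      have hKL' : K ≠ L' := by
        intro e
        apply hVL'
        rw [← e]
        exact hcn.1.trans hHK
      have hC'K : C' ≤ K := (le_sup_right.trans hcn.1).trans hHK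
      have hsn : Sn C' K := h'.sn ih hK hC'K hKL'
      have e : C' = S' := hS1'.eq_of_Sn (hsn.restrict hS1'.1 (hS2'.1.trans hHK)) le_rfl
      rw [← hSS, ← e]
      exact hV₁
    rw [hY, top_le_iff] at hle
    exact hK₁.1 hle

theorem Adm.pair [Finite G] {n : ℕ} (ih : IHyp G n) {C L C' L' K₁ K₂ : Subgroup G}
    (h : Adm n C L) (h' : Adm n C' L') (hne : C ≠ C')
    (hK₁ : IsCoatom K₁) (hK₂ : IsCoatom K₂) (h12 : K₁ ≠ K₂)
    (hV₁ : C ⊔ C' ≤ K₁) (hV₂ : C ⊔ C' ≤ K₂) : L ≠ L' ∧ C ⊔ C' ≤ L ⊓ L' := by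
  have h1 := h.pair_le ih h' hne hK₁ hK₂ h12 hV₁ hV₂
  have h2 : C ⊔ C' ≤ L' := by
    have h3 := h'.pair_le ih h (Ne.symm hne) hK₁ hK₂ h12 (by rwa [sup_comm]) (by rwa [sup_comm])
    rwa [sup_comm] at h3
  refine ⟨?_, le_inf h1 h2⟩
  intro e
  have hY := Yc_sup_eq_top ih h.card h'.card h.ncl hne hK₁ hK₂ h12 hV₁ hV₂
  have hle : Yc (C ⊔ C') ≤ L := by
    apply sSup_le
    rintro H ⟨-, hH, hcn⟩
    obtain ⟨S, S', hS1, hS2, hS1', hS2', hSS⟩ := decomp hcn
    rw [← hSS]
    have hSt : S ≠ ⊤ := by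
      intro e
      apply hH
      rw [eq_top_iff, ← e]
      exact hS2.1
    have hSt' : S' ≠ ⊤ := by
      intro e
      apply hH
      rw [eq_top_iff, ← e]
      exact hS2'.1
    refine sup_le ((le_Yc hSt hS1).trans h.yle) ?_
    rw [e]
    exact (le_Yc hSt' hS1').trans h'.yle
  rw [hY, top_le_iff] at hle
  exact h.coatom.1 hle

/-! ### the main theorem -/

theorem main [Finite G] : ∀ (k : ℕ) (A : Subgroup G), Nat.card G - Nat.card ↥A = k → A ≠ ⊤ →
    Subgroup.normalClosure (A : Set G) = ⊤ →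
    Yc A = ⊤ ∨ ∃! M : Subgroup G, IsCoatom M ∧ A ≤ M := by
  intro k
  induction k using Nat.strong_induction_on with
  | _ k ihk =>
    intro A hk hAt hncl
    by_contra hcon
    rw [not_or] at hcon
    obtain ⟨hY, hnu⟩ := hcon
    obtain ⟨n, hn⟩ : ∃ n : ℕ, Nat.card ↥A = n := ⟨_, rfl⟩
    have ih : IHyp G n := by
      intro V hV hVt hVncl
      have hVlt : Nat.card ↥V < Nat.card G := by
        have h1 := card_lt_of_lt (le_top : V ≤ ⊤) hVt
        rwa [Subgroup.card_top] at h1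
      exact ihk (Nat.card G - Nat.card ↥V) (by omega) V rfl hVt hVncl
    -- the maximal subgroup `M`
    have hAY : A ≤ Yc A := self_le_Yc hAt
    have hNY : Subgroup.normalizer (A : Set G) ≤
        Subgroup.normalizer ((Yc A : Subgroup G) : Set G) := by
      intro g hg
      have e : MulAut.conj g • A = A := (smul_eq_iff_mem_normalizer g A).mpr hg
      have h1 : Yc (MulAut.conj g • A) ≤ MulAut.conj g • Yc A := Yc_conj_le g le_rfl
      rw [e] at h1
      exact (smul_eq_iff_mem_normalizer g _).mp (smul_eq_of_ge h1)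
    have hP : Yc A ⊔ Subgroup.normalizer (A : Set G) ≠ ⊤ := by
      intro e
      have h1 : Subgroup.normalizer ((Yc A : Subgroup G) : Set G) = ⊤ := by
        rw [eq_top_iff, ← e]
        exact sup_le Subgroup.le_normalizer hNY
      have : (Yc A).Normal := Subgroup.normalizer_eq_top_iff.mp h1
      have h2 : Subgroup.normalClosure (A : Set G) ≤ Yc A :=
        Subgroup.normalClosure_le_normal (SetLike.coe_subset_coe.mpr hAY)
      rw [hncl, top_le_iff] at h2
      exact hY h2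
    obtain ⟨M, hM, hPM⟩ := (eq_top_or_exists_le_coatom _).resolve_left hP
    have hadm : Adm n A M :=
      ⟨hn, hncl, hM, hAY.trans (le_sup_left.trans hPM), le_sup_left.trans hPM,
        le_sup_right.trans hPM⟩
    have hAM : A ≤ M := hadm.le
    -- a second maximal subgroup `K`
    obtain ⟨K, hK, hAK, hKM⟩ : ∃ K : Subgroup G, IsCoatom K ∧ A ≤ K ∧ K ≠ M := by
      by_contra hno
      apply hnu
      refine ⟨M, ⟨hM, hAM⟩, ?_⟩
      rintro K ⟨hK, hAK⟩
      by_contra hKM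
      exact hno ⟨K, hK, hAK, hKM⟩
    have hsnK : Sn A K := hadm.sn ih hK hAK hKM
    have hnK : ¬ K ≤ Subgroup.normalizer (A : Set G) := by
      intro h
      exact hKM (coatom_eq_of_le' hK hM.1 (h.trans hadm.nle))
    obtain ⟨x, hxK, hxne, hxn⟩ := Sn.exists_conj A _ K rfl hsnK hnK
    obtain ⟨B, hB⟩ : ∃ B : Subgroup G, B = MulAut.conj x • A := ⟨_, rfl⟩
    obtain ⟨LB, hLB⟩ : ∃ LB : Subgroup G, LB = MulAut.conj x • M := ⟨_, rfl⟩
    have hadmB : Adm n B LB := by
      rw [hB, hLB]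
      exact hadm.conj x
    have hBK : B ≤ K := by
      rw [hB]
      exact smul_le_of_mem hxK hAK
    have hBM : B ≤ M := by
      rw [hB]
      exact hxn.trans hadm.nle
    have hAB : A ≠ B := by
      rw [hB]
      exact fun e => hxne e.symm
    obtain ⟨hMLB, hABle⟩ :=
      hadm.pair ih hadmB hAB hK hM hKM (sup_le hAK hBK) (sup_le hAM hBM)
    have hALB : A ≤ LB := (le_sup_left.trans hABle).trans inf_le_right
    have hBLB : B ≤ LB := hadmB.le
    have hLBc : IsCoatom LB := hadmB.coatom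
    -- the family `𝓛` and its intersection `D`
    obtain ⟨I₀, hI₀⟩ : ∃ I₀ : Subgroup G, I₀ = M ⊓ LB := ⟨_, rfl⟩
    have hI₀M : I₀ ≤ M := by rw [hI₀]; exact inf_le_left
    have hI₀LB : I₀ ≤ LB := by rw [hI₀]; exact inf_le_right
    have hleI₀ : ∀ C : Subgroup G, C ≤ M → C ≤ LB → C ≤ I₀ := by
      intro C h1 h2
      rw [hI₀]
      exact le_inf h1 h2
    have hAI : A ≤ I₀ := hleI₀ A hAM hALB
    have hBI : B ≤ I₀ := hleI₀ B hBM hBLB
    obtain ⟨𝓛, h𝓛⟩ : ∃ 𝓛 : Set (Subgroup G), 𝓛 = {L | ∃ C, Adm n C L ∧ C ≤ I₀} := ⟨_, rfl⟩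
    have mem𝓛 : ∀ L : Subgroup G, L ∈ 𝓛 ↔ ∃ C, Adm n C L ∧ C ≤ I₀ := by
      intro L
      rw [h𝓛]
      exact Iff.rfl
    have hM𝓛 : M ∈ 𝓛 := (mem𝓛 M).mpr ⟨A, hadm, hAI⟩
    have hLB𝓛 : LB ∈ 𝓛 := (mem𝓛 LB).mpr ⟨B, hadmB, hBI⟩
    obtain ⟨D, hD⟩ : ∃ D : Subgroup G, D = sInf 𝓛 := ⟨_, rfl⟩
    have hD𝓛 : ∀ L ∈ 𝓛, D ≤ L := by
      intro L hL
      rw [hD]
      exact sInf_le hL
    have hDI : D ≤ I₀ := hleI₀ D (hD𝓛 M hM𝓛) (hD𝓛 LB hLB𝓛)
    have hQ3 : ∀ C L : Subgroup G, Adm n C L → C ≤ I₀ → C ≤ D := by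
      intro C L hCL hCI
      rw [hD]
      apply le_sInf
      intro L₁ hL₁
      obtain ⟨C₁, hC₁, hC₁I⟩ := (mem𝓛 L₁).mp hL₁
      by_cases e : C = C₁
      · rw [e]
        exact hC₁.le
      · have h1 := (hCL.pair ih hC₁ e hM hLBc hMLB
          (sup_le (hCI.trans hI₀M) (hC₁I.trans hI₀M))
          (sup_le (hCI.trans hI₀LB) (hC₁I.trans hI₀LB))).2
        exact (le_sup_left.trans h1).trans inf_le_right
    have hAD : A ≤ D := hQ3 A M hadm hAI
    have hBD : B ≤ D := hQ3 B LB hadmB hBI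
    have hQ2 : ∀ L₁ ∈ 𝓛, ∀ L₂ ∈ 𝓛, L₁ ≠ L₂ → ∀ C L : Subgroup G, Adm n C L →
        C ≤ L₁ → C ≤ L₂ → C ≤ I₀ := by
      intro L₁ hL₁ L₂ hL₂ h12 C L hCL hC1 hC2
      have hL₁c : IsCoatom L₁ := by
        obtain ⟨C₁, hC₁, -⟩ := (mem𝓛 L₁).mp hL₁
        exact hC₁.coatom
      have hL₂c : IsCoatom L₂ := by
        obtain ⟨C₂, hC₂, -⟩ := (mem𝓛 L₂).mp hL₂
        exact hC₂.coatom
      apply hleI₀
      · by_cases e : C = A
        · rw [e]
          exact hAM
        · have h1 := (hCL.pair ih hadm e hL₁c hL₂c h12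
            (sup_le hC1 (hAD.trans (hD𝓛 L₁ hL₁))) (sup_le hC2 (hAD.trans (hD𝓛 L₂ hL₂)))).2
          exact (le_sup_left.trans h1).trans inf_le_right
      · by_cases e : C = B
        · rw [e]
          exact hBLB
        · have h1 := (hCL.pair ih hadmB e hL₁c hL₂c h12
            (sup_le hC1 (hBD.trans (hD𝓛 L₁ hL₁))) (sup_le hC2 (hBD.trans (hD𝓛 L₂ hL₂)))).2
          exact (le_sup_left.trans h1).trans inf_le_right
    have hN : ∀ g : G, (∀ L ∈ 𝓛, MulAut.conj g • L ∈ 𝓛) →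
        g ∈ Subgroup.normalizer ((D : Subgroup G) : Set G) := by
      intro g hg
      apply (smul_eq_iff_mem_normalizer g D).mp
      apply smul_eq_of_ge
      intro y hy
      rw [Subgroup.mem_pointwise_smul_iff_inv_smul_mem, hD, Subgroup.mem_sInf]
      intro L hL
      have h1 : y ∈ MulAut.conj g • L := hD𝓛 _ (hg L hL) hy
      rwa [Subgroup.mem_pointwise_smul_iff_inv_smul_mem] at h1
    -- an element `h` of the normalizer of `D` outside `M`
    have hsnLB : Sn A LB := hadm.sn ih hLBc hALB (Ne.symm hMLB)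
    have hnLB : ¬ LB ≤ Subgroup.normalizer (A : Set G) := by
      intro h
      exact hMLB (coatom_eq_of_le' hLBc hM.1 (h.trans hadm.nle)).symm
    obtain ⟨h, hhLB, hhne, hhn⟩ := Sn.exists_conj A _ LB rfl hsnLB hnLB
    have hhM : h ∉ M := by
      intro hhM
      have h1 := hadm.inf_le_normalizer ih hLBc hALB (Ne.symm hMLB) (⟨hhLB, hhM⟩ : h ∈ LB ⊓ M)
      exact hhne ((smul_eq_iff_mem_normalizer h A).mpr h1)
    have hadmh : Adm n (MulAut.conj h • A) (MulAut.conj h • M) := hadm.conj h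
    have hhAI : MulAut.conj h • A ≤ I₀ :=
      hleI₀ _ (hhn.trans hadm.nle) (smul_le_of_mem hhLB hALB)
    have hhM𝓛 : MulAut.conj h • M ∈ 𝓛 := (mem𝓛 _).mpr ⟨_, hadmh, hhAI⟩
    have hhLBeq : MulAut.conj h • LB = LB := smul_eq_of_mem hhLB
    have hhMLB : MulAut.conj h • M ≠ LB := by
      intro e
      apply hMLB
      rw [← hhLBeq] at e
      exact smul_left_cancel _ e
    have hhD : h ∈ Subgroup.normalizer ((D : Subgroup G) : Set G) := by
      apply hN
      intro L hL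
      obtain ⟨C, hCL, hCI⟩ := (mem𝓛 L).mp hL
      refine (mem𝓛 _).mpr ⟨MulAut.conj h • C, hCL.conj h, ?_⟩
      apply hQ2 _ hhM𝓛 _ hLB𝓛 hhMLB _ _ (hCL.conj h)
      · exact Subgroup.pointwise_smul_le_pointwise_smul_iff.mpr (hCI.trans hI₀M)
      · exact smul_le_of_mem hhLB (hCI.trans hI₀LB)
    -- a maximal subgroup `K2` containing the normalizer of `D`
    have hEt : Subgroup.normalizer ((D : Subgroup G) : Set G) ≠ ⊤ := by
      intro e
      have : D.Normal := Subgroup.normalizer_eq_top_iff.mp e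
      have h2 : Subgroup.normalClosure (A : Set G) ≤ D :=
        Subgroup.normalClosure_le_normal (SetLike.coe_subset_coe.mpr hAD)
      rw [hncl, top_le_iff] at h2
      apply hM.1
      rw [eq_top_iff, ← h2]
      exact hDI.trans hI₀M
    obtain ⟨K2, hK2, hEK2⟩ := (eq_top_or_exists_le_coatom _).resolve_left hEt
    have hK2M : K2 ≠ M := by
      intro e
      apply hhM
      rw [← e]
      exact hEK2 hhD
    have hDK2 : D ≤ K2 := Subgroup.le_normalizer.trans hEK2
    have hQ6 : ∀ C L : Subgroup G, Adm n C L → C ≤ K2 → C ≤ M → C ≤ I₀ := by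
      intro C L hCL hC1 hC2
      apply hleI₀ _ hC2
      by_cases e : C = B
      · rw [e]
        exact hBLB
      · have h1 := (hCL.pair ih hadmB e hK2 hM hK2M (sup_le hC1 (hBD.trans hDK2))
          (sup_le hC2 hBM)).2
        exact (le_sup_left.trans h1).trans inf_le_right
    -- the join `Wm` of the members of the clique other than `A`
    obtain ⟨𝒢, h𝒢⟩ : ∃ 𝒢 : Set (Subgroup G),
        𝒢 = {C | (∃ L, Adm n C L) ∧ C ≤ I₀ ∧ C ≠ A} := ⟨_, rfl⟩
    have mem𝒢 : ∀ C : Subgroup G, C ∈ 𝒢 ↔ (∃ L, Adm n C L) ∧ C ≤ I₀ ∧ C ≠ A := by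
      intro C
      rw [h𝒢]
      exact Iff.rfl
    obtain ⟨Wm, hWm⟩ : ∃ Wm : Subgroup G, Wm = sSup 𝒢 := ⟨_, rfl⟩
    have hLneM : ∀ C L : Subgroup G, Adm n C L → C ≤ I₀ → C ≠ A → L ≠ M := by
      intro C L hCL hCI hCA
      exact (hCL.pair ih hadm hCA hM hLBc hMLB (sup_le (hCI.trans hI₀M) hAM)
        (sup_le (hCI.trans hI₀LB) hALB)).1
    have hWsn : Sn Wm M := by
      rw [hWm]
      apply Sn.sSup
      intro C hC
      obtain ⟨⟨L, hCL⟩, hCI, hCA⟩ := (mem𝒢 C).mp hC
      exact hCL.sn ih hM (hCI.trans hI₀M) (Ne.symm (hLneM C L hCL hCI hCA))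
    have hleW : ∀ C : Subgroup G, C ∈ 𝒢 → C ≤ Wm := by
      intro C hC
      rw [hWm]
      exact le_sSup hC
    have hWD : Wm ≤ D := by
      rw [hWm]
      apply sSup_le
      intro C hC
      obtain ⟨⟨L, hCL⟩, hCI, -⟩ := (mem𝒢 C).mp hC
      exact hQ3 C L hCL hCI
    have hWM : Wm ≤ M := hWsn.1
    have hQ8 : ∀ u ∈ M, MulAut.conj u • Wm = Wm →
        u ∈ Subgroup.normalizer ((D : Subgroup G) : Set G) := by
      intro u huM huW
      apply hN
      intro L hL
      obtain ⟨C, hCL, hCI⟩ := (mem𝓛 L).mp hL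
      by_cases e : C = A
      · rw [e] at hCL
        have h1 : L = M := hCL.unique ih hadm
        rw [h1, smul_eq_of_mem huM]
        exact hM𝓛
      · have hCG : C ∈ 𝒢 := (mem𝒢 C).mpr ⟨⟨L, hCL⟩, hCI, e⟩
        refine (mem𝓛 _).mpr ⟨MulAut.conj u • C, hCL.conj u, ?_⟩
        have h1 : MulAut.conj u • C ≤ MulAut.conj u • Wm :=
          Subgroup.pointwise_smul_le_pointwise_smul_iff.mpr (hleW C hCG)
        rw [huW] at h1
        exact h1.trans (hWD.trans hDI)
    by_cases hWn : M ≤ Subgroup.normalizer ((Wm : Subgroup G) : Set G)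
    · -- `Wm` is normal in `M`: then so is `A`
      have hAn : M ≤ Subgroup.normalizer (A : Set G) := by
        intro m hm
        have hmW : MulAut.conj m • Wm = Wm := (smul_eq_iff_mem_normalizer m Wm).mpr (hWn hm)
        have hmD : MulAut.conj m • D = D :=
          (smul_eq_iff_mem_normalizer m D).mpr (hQ8 m hm hmW)
        have hmA : MulAut.conj m • A ≤ I₀ := by
          have h1 : MulAut.conj m • A ≤ MulAut.conj m • D :=
            Subgroup.pointwise_smul_le_pointwise_smul_iff.mpr hAD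
          rw [hmD] at h1
          exact h1.trans hDI
        have hadmm : Adm n (MulAut.conj m • A) M := by
          have h1 := hadm.conj m
          rwa [smul_eq_of_mem hm] at h1
        by_contra hmn
        have hne : MulAut.conj m • A ≠ A :=
          fun e => hmn ((smul_eq_iff_mem_normalizer m A).mp e)
        exact (hadmm.pair ih hadm hne hM hLBc hMLB (sup_le (hmA.trans hI₀M) hAM)
          (sup_le (hmA.trans hI₀LB) hALB)).1 rfl
      have hsnM : Sn A M := Sn.of_normal hAM hAn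
      have hKeq : K = M := by
        refine coatom_unique_of_all_sn hncl hAt ?_ hK hM hAK hAM
        intro K' hK' hAK'
        by_cases e : K' = M
        · rw [e]
          exact hsnM
        · exact hadm.sn ih hK' hAK' e
      exact hKM hKeq
    · -- `Wm` is subnormal but not normal in `M`
      obtain ⟨m, hmM, hmne, hmn⟩ := Sn.exists_conj Wm _ M rfl hWsn hWn
      apply hmne
      apply smul_eq_of_le
      rw [← le_inv_smul_iff]
      have hgen : ∀ C ∈ 𝒢, C ≤ (MulAut.conj m)⁻¹ • Wm := by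
        intro C hC
        rw [le_inv_smul_iff]
        obtain ⟨⟨L, hCL⟩, hCI, hCA⟩ := (mem𝒢 C).mp hC
        apply hleW
        have hmCW : MulAut.conj m • C ≤ MulAut.conj m • Wm :=
          Subgroup.pointwise_smul_le_pointwise_smul_iff.mpr (hleW C hC)
        have hmCK2 : MulAut.conj m • C ≤ K2 := by
          intro y hy
          have hy1 : y ∈ MulAut.conj m • Wm := hmCW hy
          have hyM : y ∈ M := smul_le_of_mem hmM hWM hy1
          have hyN : y ∈ Subgroup.normalizer ((Wm : Subgroup G) : Set G) := hmn hy1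
          exact hEK2 (hQ8 y hyM ((smul_eq_iff_mem_normalizer y Wm).mpr hyN))
        have hmCM : MulAut.conj m • C ≤ M := smul_le_of_mem hmM (hCI.trans hI₀M)
        have hmCI : MulAut.conj m • C ≤ I₀ := hQ6 _ _ (hCL.conj m) hmCK2 hmCM
        refine (mem𝒢 _).mpr ⟨⟨_, hCL.conj m⟩, hmCI, ?_⟩
        intro e
        have h1 : Adm n A (MulAut.conj m • L) := by
          have h0 := hCL.conj m
          rwa [e] at h0
        have h2 : MulAut.conj m • L = M := h1.unique ih hadm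
        have h3 : L = M := by
          have h4 : MulAut.conj m • L = MulAut.conj m • M := by
            rw [h2, smul_eq_of_mem hmM]
          exact smul_left_cancel _ h4
        exact hLneM C L hCL hCI hCA h3
      calc Wm = sSup 𝒢 := hWm
        _ ≤ (MulAut.conj m)⁻¹ • Wm := sSup_le hgen

end Cfsg.Agent.Lib.Helper16.Zip
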