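import Mathlib
import Cfsg.Agent.Lib.Helper16.Zip

/-!
If a finite group is the normal closure of an element `a`, then for every `k` it is generated by
`a` together with the `k`-fold iterated conjugates `g ↦ g a g⁻¹`.  (A consequence of Flavell's
generalisation of the zipper lemma.)
-/

set_option autoImplicit false

namespace Cfsg.Agent.Lib.Helper16.EngelGen

open Subgroup
open scoped Pointwise

universe u

/-- conjugate of `a` by `g` -/
def psi {Γ : Type u} [Group Γ] (a : Γ) (g : Γ) : Γ := g * a * g⁻¹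

theorem coe_iterate_psi {Γ : Type u} [Group Γ] (H : Subgroup Γ) (a : Γ) (ha : a ∈ H) (k : ℕ)
    (y : ↥H) : (((psi (⟨a, ha⟩ : ↥H))^[k] y : ↥H) : Γ) = (psi a)^[k] (y : Γ) := by
  induction k with
  | zero => rfl
  | succ k ih =>
    rw [Function.iterate_succ_apply', Function.iterate_succ_apply', ← ih]
    rfl

theorem gen_aux : ∀ (N : ℕ) (Γ : Type u) [Group Γ] [Finite Γ], Nat.card Γ = N → ∀ a : Γ,
    Subgroup.normalClosure ({a} : Set Γ) = ⊤ → ∀ k : ℕ,
      Subgroup.closure (({a} : Set Γ) ∪ Set.range ((psi a)^[k])) = ⊤ := by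
  intro N
  induction N using Nat.strong_induction_on with
  | _ N ih =>
    intro Γ _ _ hN a hncl k
    by_contra hk
    classical
    have hex : ∃ k, Subgroup.closure (({a} : Set Γ) ∪ Set.range ((psi a)^[k])) ≠ ⊤ := ⟨k, hk⟩
    obtain ⟨k₀, hk₀⟩ : ∃ k₀, k₀ = Nat.find hex := ⟨_, rfl⟩
    have hbad : Subgroup.closure (({a} : Set Γ) ∪ Set.range ((psi a)^[k₀])) ≠ ⊤ := by
      rw [hk₀]
      exact Nat.find_spec hex
    have hmin : ∀ j < k₀, Subgroup.closure (({a} : Set Γ) ∪ Set.range ((psi a)^[j])) = ⊤ := by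
      intro j hj
      rw [hk₀] at hj
      exact not_not.mp (Nat.find_min hex hj)
    have hk0 : k₀ ≠ 0 := by
      intro h0
      apply hbad
      rw [h0, Function.iterate_zero, Set.range_id, Set.union_univ, Subgroup.closure_univ]
    obtain ⟨j, hj⟩ := Nat.exists_eq_succ_of_ne_zero hk0
    obtain ⟨L, hL⟩ : ∃ L : Subgroup Γ,
        L = Subgroup.closure (({a} : Set Γ) ∪ Set.range ((psi a)^[k₀])) := ⟨_, rfl⟩
    rw [← hL] at hbad
    have haL : a ∈ L := by
      rw [hL]
      exact Subgroup.subset_closure (Or.inl rfl)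
    have hAL : Subgroup.zpowers a ≤ L := Subgroup.zpowers_le.mpr haL
    have hA_ncl : Subgroup.normalClosure ((Subgroup.zpowers a : Subgroup Γ) : Set Γ) = ⊤ := by
      rw [eq_top_iff, ← hncl]
      exact Subgroup.normalClosure_mono
        (Set.singleton_subset_iff.mpr (Subgroup.mem_zpowers a))
    have hA_top : Subgroup.zpowers a ≠ ⊤ := by
      intro e
      apply hbad
      rw [eq_top_iff, ← e]
      exact hAL
    rcases Zip.main _ (Subgroup.zpowers a) rfl hA_top hA_ncl with hY | hM_ex
    · -- `Yc A ≤ L`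
      apply hbad
      rw [eq_top_iff, ← hY]
      apply sSup_le
      rintro H ⟨hAH, hH, hcn⟩
      have haH : a ∈ H := hAH (Subgroup.mem_zpowers a)
      have hcard : Nat.card ↥H < N := by
        rw [← hN]
        have h1 := Zip.card_lt_of_lt (le_top : H ≤ ⊤) hH
        rwa [Subgroup.card_top] at h1
      have hnclH : Subgroup.normalClosure ({(⟨a, haH⟩ : ↥H)} : Set ↥H) = ⊤ := by
        have h1 := (Zip.CN_iff hAH).mpr hcn
        rw [eq_top_iff, ← h1]
        apply Subgroup.normalClosure_le_normal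
        intro x hx
        have hx1 : (x : Γ) ∈ Subgroup.zpowers a := Subgroup.mem_subgroupOf.mp hx
        obtain ⟨i, hi⟩ := Subgroup.mem_zpowers_iff.mp hx1
        have hx2 : x = (⟨a, haH⟩ : ↥H) ^ i := by
          apply Subtype.ext
          rw [Subgroup.coe_zpow]
          exact hi.symm
        rw [hx2]
        exact Subgroup.zpow_mem _ (Subgroup.subset_normalClosure (Set.mem_singleton _)) i
      have h2 := ih _ hcard ↥H rfl ⟨a, haH⟩ hnclH k₀
      have h3 : H = (Subgroup.closure (({(⟨a, haH⟩ : ↥H)} : Set ↥H) ∪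
          Set.range ((psi (⟨a, haH⟩ : ↥H))^[k₀]))).map H.subtype := by
        rw [h2, ← MonoidHom.range_eq_map, Subgroup.range_subtype]
      rw [h3, MonoidHom.map_closure, hL]
      apply Subgroup.closure_mono
      rintro _ ⟨x, hx, rfl⟩
      rcases hx with hx | ⟨y, rfl⟩
      · left
        rw [Set.mem_singleton_iff.mp hx]
        rfl
      · right
        exact ⟨(y : Γ), (coe_iterate_psi H a haH k₀ y).symm⟩
    · -- unique maximal subgroup
      obtain ⟨M, ⟨hM, hAM⟩, hMu⟩ := hM_ex
      have haM : a ∈ M := hAM (Subgroup.mem_zpowers a)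
      have hLM : L ≤ M := by
        obtain ⟨K, hK, hLK⟩ := (eq_top_or_exists_le_coatom L).resolve_left hbad
        have h1 : K = M := hMu K ⟨hK, hAL.trans hLK⟩
        rw [← h1]
        exact hLK
      have hj_top : Subgroup.closure (({a} : Set Γ) ∪ Set.range ((psi a)^[j])) = ⊤ :=
        hmin j (by omega)
      obtain ⟨c, hc⟩ : ∃ c, (psi a)^[j] c ∉ M := by
        by_contra hno
        apply hM.1
        rw [eq_top_iff, ← hj_top, Subgroup.closure_le]
        rintro x (hx | ⟨c, rfl⟩)
        · rw [Set.mem_singleton_iff.mp hx]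
          exact haM
        · by_contra hcM
          exact hno ⟨c, hcM⟩
      have h1 : psi a ((psi a)^[j] c) ∈ M := by
        apply hLM
        rw [hL]
        apply Subgroup.subset_closure
        right
        exact ⟨c, by rw [hj, Function.iterate_succ_apply']⟩
      have h2 : a ∈ MulAut.conj ((psi a)^[j] c)⁻¹ • M := by
        rw [Cfsg.Agent.S4333.mem_conj_iff, inv_inv]
        exact h1
      have h3 : MulAut.conj ((psi a)^[j] c)⁻¹ • M = M := by
        apply hMu
        exact ⟨Zip.isCoatom_smul _ hM, Subgroup.zpowers_le.mpr h2⟩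
      have h4 : ((psi a)^[j] c)⁻¹ ∈ Subgroup.normalizer (M : Set Γ) :=
        (Zip.smul_eq_iff_mem_normalizer _ _).mp h3
      have h5 : (psi a)^[j] c ∈ Subgroup.normalizer (M : Set Γ) := by
        have h6 := Subgroup.inv_mem _ h4
        rwa [inv_inv] at h6
      have h6 : Subgroup.normalizer (M : Set Γ) ≠ ⊤ := by
        intro e
        have : M.Normal := Subgroup.normalizer_eq_top_iff.mp e
        have h7 : Subgroup.normalClosure ({a} : Set Γ) ≤ M :=
          Subgroup.normalClosure_le_normal (Set.singleton_subset_iff.mpr haM)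
        rw [hncl, top_le_iff] at h7
        exact hM.1 h7
      have h8 : M = Subgroup.normalizer (M : Set Γ) :=
        Zip.coatom_eq_of_le' hM h6 Subgroup.le_normalizer
      rw [← h8] at h5
      exact hc h5

theorem gen {Γ : Type u} [Group Γ] [Finite Γ] (a : Γ)
    (hncl : Subgroup.normalClosure ({a} : Set Γ) = ⊤) (k : ℕ) :
    Subgroup.closure (({a} : Set Γ) ∪ Set.range ((psi a)^[k])) = ⊤ :=
  gen_aux _ Γ rfl a hncl k

end Cfsg.Agent.Lib.Helper16.EngelGen
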