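import Cfsg.Agent.Lib.Helper14.S2276.Transport
import Cfsg.Agent.Lib.Helper14.S2276.Window
import Cfsg.Agent.Lib.Helper14.S2276.CaseCDefs

/-!
# S2276 farm (helper14): auxiliary lemmas for the pieces [C22], [C21] (helper16)

A six-point window `ι : Fin 6 ↪ α` on which a permutation `f` of `α` acts like a model
`m : Perm (Fin 6)`; then `restr f (blk ι) = viaEmbeddingHom ι m`, and a model pair
`(σ, m_w)` in `Perm (Fin 6)` with a `decide`-checked certificate is transported to `(u, g w g⁻¹)`.
-/

set_option autoImplicit false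

namespace Cfsg.Agent.Lib.Helper14.S2276.Helper16

open Equiv Equiv.Perm
open scoped commutatorElement

variable {α : Type*} [Fintype α] [DecidableEq α]

/-- The block (image) of a window. -/
def blk (ι : Fin 6 ↪ α) : Finset α := Finset.univ.map ι

theorem mem_blk (ι : Fin 6 ↪ α) (x : α) : x ∈ blk ι ↔ ∃ i, ι i = x := by
  simp [blk]

theorem card_blk (ι : Fin 6 ↪ α) : (blk ι).card = 6 := by
  simp [blk]

theorem inv_blk (f : Perm α) (ι : Fin 6 ↪ α) (m : Perm (Fin 6))
    (h : ∀ i, f (ι i) = ι (m i)) : Inv f (blk ι) := by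
  intro x
  constructor
  · intro hx
    obtain ⟨i, hi⟩ := (mem_blk ι _).mp hx
    have h1 : f (ι (m⁻¹ i)) = ι i := by rw [h (m⁻¹ i)]; simp
    have h2 : x = ι (m⁻¹ i) := f.injective (by rw [h1, hi])
    rw [h2]
    exact (mem_blk ι _).mpr ⟨_, rfl⟩
  · intro hx
    obtain ⟨i, rfl⟩ := (mem_blk ι _).mp hx
    rw [h i]
    exact (mem_blk ι _).mpr ⟨_, rfl⟩

theorem via_apply_not_mem (ι : Fin 6 ↪ α) (m : Perm (Fin 6)) (x : α) (hx : x ∉ blk ι) :
    viaEmbeddingHom ι m x = x := by
  rw [viaEmbeddingHom_apply]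
  apply viaEmbedding_apply_of_notMem
  rintro ⟨i, hi⟩
  exact hx ((mem_blk ι _).mpr ⟨i, hi⟩)

theorem restr_eq_via (f : Perm α) (ι : Fin 6 ↪ α) (m : Perm (Fin 6))
    (h : ∀ i, f (ι i) = ι (m i)) : restr f (blk ι) = viaEmbeddingHom ι m := by
  ext x
  by_cases hx : x ∈ blk ι
  · obtain ⟨i, rfl⟩ := (mem_blk ι _).mp hx
    rw [restr_apply_mem f _ (inv_blk f ι m h) _ hx, h i, viaEmbeddingHom_apply,
      viaEmbedding_apply]
  · rw [restr_apply_not_mem f _ x hx, via_apply_not_mem ι m x hx]

theorem cycleType_via (ι : Fin 6 ↪ α) (m : Perm (Fin 6)) :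
    (viaEmbeddingHom ι m).cycleType = m.cycleType := by
  rw [viaEmbeddingHom_apply]
  unfold viaEmbedding
  exact @cycleType_extendDomain (Fin 6) _ _ α _ _ _ (fun a => Classical.propDecidable _)
    (ofInjective ι.1 ι.2) m

/-- The transport lemma for six-point windows: `u` acts on its window like `mu`, `w` on its window
like `mw`; `s` is a model conjugate to `mu` with `s * mw` of order 5 and a non-solvability
certificate for `⟨s, mw⟩`. -/
theorem good_of_models (u w : Perm α) (ιu ιw : Fin 6 ↪ α) (mu mw s : Perm (Fin 6))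
    (hu : ∀ i, u (ιu i) = ιu (mu i)) (hw : ∀ i, w (ιw i) = ιw (mw i))
    (c : Perm (Fin 6)) (hc : c * s * c⁻¹ = mu)
    (h5 : (s * mw) ^ 5 = 1) (h1 : s * mw ≠ 1)
    (hns : ¬ Group.IsSolvable (Subgroup.closure ({s, mw} : Set (Perm (Fin 6))))) :
    ∃ g : Perm α, Good 3 u (g * w * g⁻¹) := by
  have hSu : Inv u (blk ιu) := inv_blk u ιu mu hu
  have hSw : Inv w (blk ιw) := inv_blk w ιw mw hw
  set σ : Perm α := viaEmbeddingHom ιw s with hσdef
  have hσ : ∀ x, x ∉ blk ιw → σ x = x := fun x hx => via_apply_not_mem ιw s x hx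
  have hcard : (blk ιu).card = (blk ιw).card := by rw [card_blk, card_blk]
  have hct : σ.cycleType = (restr u (blk ιu)).cycleType := by
    rw [restr_eq_via u ιu mu hu, hσdef, cycleType_via, cycleType_via, ← hc, cycleType_conj]
  obtain ⟨g, hg1, hg2⟩ := transport_exists u σ (blk ιu) (blk ιw) hSu hσ hcard hct
  refine ⟨g, transport_good 3 Nat.prime_three u w σ g (blk ιu) (blk ιw) hSu hSw hσ hg1 hg2 ?_⟩
  rw [restr_eq_via w ιw mw hw]
  refine ⟨?_, ?_⟩
  · rintro ⟨k, hk⟩
    have hmul : σ * viaEmbeddingHom ιw mw = viaEmbeddingHom ιw (s * mw) := by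
      rw [hσdef, map_mul]
    rw [hmul, orderOf_injective (viaEmbeddingHom ιw) (viaEmbeddingHom_injective ιw)] at hk
    haveI : Fact (Nat.Prime 5) := ⟨by norm_num⟩
    have h5' : orderOf (s * mw) = 5 := orderOf_eq_prime h5 h1
    rw [h5'] at hk
    -- 5 is not a power of 3
    rcases k with _ | _ | k
    · norm_num at hk
    · norm_num at hk
    · have : 9 ≤ 3 ^ (k + 1 + 1) := by
        calc 9 = 3 ^ 2 := by norm_num
          _ ≤ 3 ^ (k + 1 + 1) := Nat.pow_le_pow_right (by norm_num) (by omega)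
      omega
  · apply not_solvable_of_window ιw ({s, mw} : Set (Perm (Fin 6))) hns
    intro x hx
    rcases hx with rfl | rfl
    · exact Subgroup.subset_closure (by simp [hσdef])
    · exact Subgroup.subset_closure (by simp)

/-! ### orbits of size three -/

theorem pow_inj3 (f : Perm α) (hf3 : f ^ 3 = 1) (z : α) (hz : f z ≠ z) (a b : ℕ) (ha : a < 3)
    (hb : b < 3) (h : (f ^ a) z = (f ^ b) z) : a = b := by
  have h3 : f (f (f z)) = z := by
    have := congrArg (fun p : Perm α => p z) hf3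
    simpa [pow_succ] using this
  have e1 : f (f z) ≠ z := by
    intro h2
    apply hz
    have := congrArg f h2
    rw [h3] at this
    exact this.symm
  have e2 : f (f z) ≠ f z := fun h2 => hz (f.injective h2)
  interval_cases a <;> interval_cases b <;> simp [pow_succ] at h <;>
    first
      | rfl
      | exact absurd h hz
      | exact absurd h.symm hz
      | exact absurd h e1
      | exact absurd h.symm e1
      | exact absurd h e2
      | exact absurd h.symm e2

/-- gluing two injective triples with disjoint images -/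
def glue (a b : Fin 3 → α) : Fin 6 → α := fun i =>
  if h : i.val < 3 then a ⟨i.val, h⟩ else b ⟨i.val - 3, by omega⟩

theorem glue_injective (a b : Fin 3 → α) (ha : Function.Injective a) (hb : Function.Injective b)
    (hab : ∀ i j, a i ≠ b j) : Function.Injective (glue a b) := by
  intro i j hij
  unfold glue at hij
  by_cases hi : i.val < 3 <;> by_cases hj : j.val < 3
  · rw [dif_pos hi, dif_pos hj] at hij
    have := ha hij
    apply Fin.ext
    simpa using congrArg Fin.val this
  · rw [dif_pos hi, dif_neg hj] at hij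
    exact absurd hij (hab _ _)
  · rw [dif_neg hi, dif_pos hj] at hij
    exact absurd hij.symm (hab _ _)
  · rw [dif_neg hi, dif_neg hj] at hij
    have := hb hij
    apply Fin.ext
    have h2 := congrArg Fin.val this
    simp at h2
    omega

/-- model of two 3-cycles -/
def m33 : Perm (Fin 6) := swap 0 1 * swap 1 2 * (swap 3 4 * swap 4 5)

/-- model of one 3-cycle -/
def m3 : Perm (Fin 6) := swap 0 1 * swap 1 2

theorem exists_window_two (f : Perm α) (hf3 : f ^ 3 = 1) (hf : Two f) :
    ∃ ι : Fin 6 ↪ α, ∀ i, f (ι i) = ι (m33 i) := by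
  obtain ⟨x, y, hx, hy, hxy⟩ := hf
  have h3 : ∀ z, f (f (f z)) = z := by
    intro z
    have := congrArg (fun p : Perm α => p z) hf3
    simpa [pow_succ] using this
  let a : Fin 3 → α := fun i => (f ^ i.val) x
  let b : Fin 3 → α := fun i => (f ^ i.val) y
  have ha : Function.Injective a := fun i j hij =>
    Fin.ext (pow_inj3 f hf3 x hx i.val j.val i.2 j.2 hij)
  have hb : Function.Injective b := fun i j hij =>
    Fin.ext (pow_inj3 f hf3 y hy i.val j.val i.2 j.2 hij)
  have hab : ∀ i j, a i ≠ b j := by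
    intro i j hij
    apply hxy
    have h1 : f.SameCycle ((f ^ i.val) x) ((f ^ j.val) y) := by
      show f.SameCycle (a i) (b j)
      rw [hij]
    exact (sameCycle_pow_left.mp (sameCycle_pow_right.mp h1))
  refine ⟨⟨glue a b, glue_injective a b ha hb hab⟩, ?_⟩
  intro i
  show f (glue a b i) = glue a b (m33 i)
  fin_cases i <;> simp [glue, m33, a, b, pow_succ, swap_apply_def, h3]

theorem exists_window_one (f : Perm α) (hf3 : f ^ 3 = 1) (hf1 : f ≠ 1) (hf : ¬ Two f)
    (h6 : 6 ≤ Fintype.card α) :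
    ∃ ι : Fin 6 ↪ α, ∀ i, f (ι i) = ι (m3 i) := by
  classical
  have h3 : ∀ z, f (f (f z)) = z := by
    intro z
    have := congrArg (fun p : Perm α => p z) hf3
    simpa [pow_succ] using this
  obtain ⟨y0, hy0⟩ : ∃ y0, f y0 ≠ y0 := by
    by_contra hcon
    push Not at hcon
    exact hf1 (Equiv.ext hcon)
  let a : Fin 3 → α := fun i => (f ^ i.val) y0
  have ha : Function.Injective a := fun i j hij =>
    Fin.ext (pow_inj3 f hf3 y0 hy0 i.val j.val i.2 j.2 hij)
  let O : Finset α := Finset.univ.image a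
  have hO : O.card ≤ 3 := by
    calc O.card ≤ (Finset.univ : Finset (Fin 3)).card := Finset.card_image_le
      _ = 3 := by simp
  have hC : 3 ≤ (Finset.univ \ O).card := by
    have h1 : (Finset.univ \ O).card = Fintype.card α - O.card := by
      rw [Finset.card_sdiff_of_subset (Finset.subset_univ O), Finset.card_univ]
    omega
  obtain ⟨t, htC, htc⟩ := Finset.exists_subset_card_eq hC
  let e : t ≃ Fin 3 := Finset.equivFinOfCardEq htc
  let b : Fin 3 → α := fun j => ((e.symm j : t) : α)
  have hb : Function.Injective b := fun i j hij =>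
    e.symm.injective (Subtype.ext hij)
  have hbO : ∀ j, b j ∉ O := by
    intro j
    have h1 : b j ∈ Finset.univ \ O := htC (e.symm j).2
    exact (Finset.mem_sdiff.mp h1).2
  -- points outside the orbit are fixed
  have hfix : ∀ q, q ∉ O → f q = q := by
    intro q hq
    by_contra hne
    apply hf
    refine ⟨y0, q, hy0, hne, ?_⟩
    intro hsc
    obtain ⟨i, hi⟩ := hsc.exists_nat_pow_eq
    apply hq
    have h4 : f ^ i = f ^ (i % 3) := by
      conv_lhs => rw [← Nat.mod_add_div i 3]
      rw [pow_add, pow_mul, hf3, one_pow, mul_one]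
    rw [h4] at hi
    exact Finset.mem_image.mpr ⟨⟨i % 3, Nat.mod_lt _ (by norm_num)⟩, Finset.mem_univ _, hi⟩
  have hbfix : ∀ j, f (b j) = b j := fun j => hfix _ (hbO j)
  have hab : ∀ i j, a i ≠ b j := by
    intro i j hij
    exact hbO j (hij ▸ Finset.mem_image.mpr ⟨i, Finset.mem_univ _, rfl⟩)
  refine ⟨⟨glue a b, glue_injective a b ha hb hab⟩, ?_⟩
  intro i
  show f (glue a b i) = glue a b (m3 i)
  fin_cases i <;> simp [glue, m3, a, pow_succ, swap_apply_def, h3, hbfix]

/-! ### the two models and their certificates -/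

/-- model for [C22]: `(0 1 3)(2 5 4)` -/
def s22 : Perm (Fin 6) := swap 0 1 * swap 1 3 * (swap 2 5 * swap 5 4)
/-- conjugator for [C22] -/
def c22 : Perm (Fin 6) := swap 2 3 * swap 4 5
/-- model for [C21]: `(0 2 3)(1 4 5)` -/
def s21 : Perm (Fin 6) := swap 0 2 * swap 2 3 * (swap 1 4 * swap 4 5)
/-- conjugator for [C21] -/
def c21 : Perm (Fin 6) := swap 1 3 * swap 3 2

theorem c22_conj : c22 * s22 * c22⁻¹ = m33 := by decide
set_option maxRecDepth 100000 in
theorem s22_pow : (s22 * m33) ^ 5 = 1 := by decide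
theorem s22_ne : s22 * m33 ≠ 1 := by decide
set_option maxRecDepth 100000 in
theorem key22 : s22 = m33 * ⁅s22, (m33 * s22⁻¹ * m33) * s22 * (m33 * s22⁻¹ * m33)⁻¹⁆ * m33⁻¹ := by
  decide
theorem c21_conj : c21 * s21 * c21⁻¹ = m33 := by decide
set_option maxRecDepth 100000 in
theorem s21_pow : (s21 * m3) ^ 5 = 1 := by decide
theorem s21_ne : s21 * m3 ≠ 1 := by decide
set_option maxRecDepth 100000 in
theorem key21 : s21 = (m3 * s21 * m3⁻¹) * ⁅s21, m3⁻¹ * s21 * (m3⁻¹)⁻¹⁆ * (m3 * s21 * m3⁻¹)⁻¹ := by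
  decide

theorem ns22 : ¬ Group.IsSolvable (Subgroup.closure ({s22, m33} : Set (Perm (Fin 6)))) := by
  have hs : s22 ∈ Subgroup.closure ({s22, m33} : Set (Perm (Fin 6))) :=
    Subgroup.subset_closure (by simp)
  have hm : m33 ∈ Subgroup.closure ({s22, m33} : Set (Perm (Fin 6))) :=
    Subgroup.subset_closure (by simp)
  exact not_solvable_of_key _ s22 (m33 * s22⁻¹ * m33) m33 hs
    (Subgroup.mul_mem _ (Subgroup.mul_mem _ hm (Subgroup.inv_mem _ hs)) hm) hm
    (by decide) key22

theorem ns21 : ¬ Group.IsSolvable (Subgroup.closure ({s21, m3} : Set (Perm (Fin 6)))) := by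
  have hs : s21 ∈ Subgroup.closure ({s21, m3} : Set (Perm (Fin 6))) :=
    Subgroup.subset_closure (by simp)
  have hm : m3 ∈ Subgroup.closure ({s21, m3} : Set (Perm (Fin 6))) :=
    Subgroup.subset_closure (by simp)
  exact not_solvable_of_key _ s21 m3⁻¹ (m3 * s21 * m3⁻¹) hs (Subgroup.inv_mem _ hm)
    (Subgroup.mul_mem _ (Subgroup.mul_mem _ hm hs) (Subgroup.inv_mem _ hm))
    (by decide) key21

theorem card_ge_six_of_two (f : Perm α) (hf3 : f ^ 3 = 1) (hf : Two f) : 6 ≤ Fintype.card α := by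
  obtain ⟨ι, -⟩ := exists_window_two f hf3 hf
  simpa using Fintype.card_le_of_embedding ι

end Cfsg.Agent.Lib.Helper14.S2276.Helper16
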