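import Mathlib
import Cfsg.Prelude.Def_GeometricClasses
import Cfsg.Agent.Lib.Helper7.AschDefs

/-!
# S5630 (Aschbacher's theorem), block I6 (symplectic-type case), HALF A: vocabulary  (helper16, sub-architect)

Input (the hypotheses of `AschTop.c6_case`): `N ≤ H` minimal `H`-normalised non-scalar with `x ^ r` and `⁅x, y⁆` scalar on `N`.
Output: the subgroup `R = {g ∈ N ⊔ scalars | g ^ (r * gcd 2 r) = 1}` with helper3's `SympCore H R r`.

* `SG H G r` : the hypotheses transported to `G = N ⊔ scalars` (so `scalars ≤ G`);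
* `kk r = r * gcd 2 r` (`r` for odd `r`, `4` for `r = 2`);
* `IsOmega G R r` : `R = {x ∈ G | x ^ kk r = 1}`.
-/

set_option autoImplicit false

namespace Cfsg.Agent.Lib.Helper16.AschC6A

open Matrix Cfsg.Geo Cfsg.Agent.Lib.Helper7.Asch
open scoped commutatorElement

variable {F : Type*} [Field F] {n : ℕ}

/-- the hypotheses of the symplectic-type case for a group `G` containing the scalars -/
structure SG (H G : Subgroup (GL (Fin n) F)) (r : ℕ) : Prop where
  prime : r.Prime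
  scal_le : scalars (Fin n) F ≤ G
  norm : NormBy H G
  absIrr : AbsIrr G
  pow : ∀ x ∈ G, x ^ r ∈ scalars (Fin n) F
  comm : ∀ x ∈ G, ∀ y ∈ G, ⁅x, y⁆ ∈ scalars (Fin n) F
  minimal : ∀ K : Subgroup (GL (Fin n) F), K ≤ G → NormBy H K →
    K ≤ scalars (Fin n) F ∨ G ≤ K ⊔ scalars (Fin n) F

/-- `r` for odd `r`, `4` for `r = 2` -/
def kk (r : ℕ) : ℕ := r * Nat.gcd 2 r

/-- `R = {x ∈ G | x ^ kk r = 1}` -/
def IsOmega (G R : Subgroup (GL (Fin n) F)) (r : ℕ) : Prop :=
  ∀ x : GL (Fin n) F, x ∈ R ↔ x ∈ G ∧ x ^ kk r = 1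

end Cfsg.Agent.Lib.Helper16.AschC6A
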