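import Cfsg.Agent.Lib.Helper16.StCCB.Asm
import Cfsg.Agent.Lib.Helper20.StCCBB0
import Cfsg.Agent.Lib.Helper9.StCCBBTSmall
import Cfsg.Agent.Lib.Helper13.StCCBBMG2

set_option autoImplicit false

/-! Steinberg's Theorem 10, PART B for type `G₂` only (light import closure, for S2100): the lifts
of a `RootLift` satisfy the commutator relations (R2). -/

namespace Cfsg.Agent.Lib.Helper14.StCC

open Cfsg.Lie Cfsg.Agent.Lib.Helper8.Chev

variable {K : Type*} [Field K] {Γ : Type*} [Group Γ] {E : Type*} [Group E]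

/-- PART B for `G₂`: the lifts satisfy the commutator relations (R2). -/
theorem RootLift.comm_G2 (S : StRep chevG2 K Γ) (hK5 : ∃ s : Finset K, 4 < s.card)
    (ψ : E →* Γ) (hψ : Function.Surjective ψ) (hc : ψ.ker ≤ Subgroup.center E)
    (L : RootLift S ψ) :
    ∀ r < chevG2.nroots, ∀ s < chevG2.nroots, s ≠ r → s ≠ chevG2.neg r → ∀ t u : K,
      L.φ s u * L.φ r t = L.φ r t * L.φ s u * wS L.φ (chevG2.commWord K r s t u) :=
  B.comm_main_of S hK5 ψ hψ hc L (fun _ _ hr hs h1 h2 => B.shapeP_G2 hr hs h1 h2)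
    (fun _ _ hr hs h1 h2 => B.Helper13.exists_perp_of_check validJ_G2.V B.Helper13.checkTab_G2
      B.Helper13.checkCert_G2 hr hs h1 h2)
    (fun m _ _ hr hs h1 h2 _ hc' => B.wt_commTerms S.hD m hr hs h1 h2 hc')

end Cfsg.Agent.Lib.Helper14.StCC
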