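import Mathlib
import Cfsg.Agent.Lib.Helper14.BNChar3

/-!
# S2314 FO-B (helper16): the Steinberg character of a split `(B, N)`-pair summed over the `p`-elements
-/

set_option autoImplicit false
set_option linter.unusedSectionVars false
set_option linter.unusedVariables false

namespace Cfsg.Agent.Lib.Helper16.S2314B

open Cfsg.Agent.Lib.Helper3 Cfsg.Agent.Lib.Helper8.Weyl Cfsg.Agent.Lib.Helper8.BNCox
open Cfsg.Agent.Lib.Helper14.BNSt Cfsg.Agent.Lib.Helper14.BNChar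

section

variable {Γ : Type*} [Group Γ] [Fintype Γ] (Q : Cfsg.BNPair Γ) [Fintype Q.S]

/-- the Steinberg character vanishes on `U \ V` -/
theorem stBN_eq_zero_of_not_mem [hN : (T Q).Normal] (U V : Subgroup Γ) (n0 : Q.N)
    (hUB : U ≤ Q.B)
    (hUn : ∀ b ∈ Q.B, ∀ u ∈ U, b⁻¹ * u * b ∈ U)
    (hVn : ∀ g : Γ, ∀ v ∈ V, g * v * g⁻¹ ∈ V)
    (hn0 : proj Q n0 = (exSys Q).w0)
    (hb : ∀ u ∈ U, (n0 : Γ)⁻¹ * u * (n0 : Γ) ∈ Q.B → u ∈ V)
    {u : Γ} (hu : u ∈ U) (huV : u ∉ V) :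
    stBN Q u = 0 := by
  have h := stBN_eq_fpc Q n0 hn0 ⟨u, hUB hu⟩
  rw [show ((⟨u, hUB hu⟩ : ↥Q.B) : Γ) = u from rfl] at h
  rw [h]
  apply fpc_eq_zero_of_forall
  intro x hx
  induction x using QuotientGroup.induction_on with
  | H b =>
    rw [smul_mk_eq_iff, mem_Cw] at hx
    have hv : (b : Γ)⁻¹ * u * (b : Γ) ∈ U := hUn _ b.2 _ hu
    have h1 : (b : Γ)⁻¹ * u * (b : Γ) ∈ V := hb _ hv (by simpa using hx)
    apply huV
    have h2 := hVn (b : Γ) _ h1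
    have : (b : Γ) * ((b : Γ)⁻¹ * u * (b : Γ)) * (b : Γ)⁻¹ = u := by group
    rwa [this] at h2

/-- the Steinberg character is constant on `V` -/
theorem stBN_eq_one_of_mem [hN : (T Q).Normal] (U V : Subgroup Γ) (n0 : Q.N)
    (hUB : U ≤ Q.B) (hVU : V ≤ U)
    (hVn : ∀ g : Γ, ∀ v ∈ V, g * v * g⁻¹ ∈ V)
    (hn0 : proj Q n0 = (exSys Q).w0)
    {v : Γ} (hv : v ∈ V) :
    stBN Q v = stBN Q 1 := by
  have hvB : v ∈ Q.B := hUB (hVU hv)
  have h := stBN_eq_fpc Q n0 hn0 ⟨v, hvB⟩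
  rw [show ((⟨v, hvB⟩ : ↥Q.B) : Γ) = v from rfl] at h
  have h1 := stBN_eq_fpc Q n0 hn0 1
  rw [Subgroup.coe_one] at h1
  rw [h, h1, fpc_one']
  apply fpc_eq_card_of_forall
  intro x
  induction x using QuotientGroup.induction_on with
  | H b =>
    rw [smul_mk_eq_iff, mem_Cw]
    have e : ((b⁻¹ * ⟨v, hvB⟩ * b : ↥Q.B) : Γ) = (b : Γ)⁻¹ * v * (b : Γ) := rfl
    rw [e]
    have h2 : (b : Γ)⁻¹ * v * (b : Γ) ∈ V := by
      have := hVn (b : Γ)⁻¹ v hv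
      rwa [inv_inv] at this
    have h3 : (n0 : Γ)⁻¹ * ((b : Γ)⁻¹ * v * (b : Γ)) * (n0 : Γ) ∈ V := by
      have := hVn (n0 : Γ)⁻¹ _ h2
      rwa [inv_inv] at this
    exact hUB (hVU h3)

/-- `St(1) * |V| = |U|` -/
theorem stBN_one_mul_card [hN : (T Q).Normal] (U V : Subgroup Γ) (n0 : Q.N)
    (hUB : U ≤ Q.B)
    (hUT : ∀ b ∈ Q.B, ∃ u ∈ U, ∃ t ∈ Q.B ⊓ Q.N, b = u * t)
    (hVU : V ≤ U) (hVn : ∀ g : Γ, ∀ v ∈ V, g * v * g⁻¹ ∈ V)
    (hn0 : proj Q n0 = (exSys Q).w0)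
    (hb : ∀ u ∈ U, (n0 : Γ)⁻¹ * u * (n0 : Γ) ∈ Q.B → u ∈ V) :
    stBN Q 1 * (Nat.card ↥V : ℂ) = (Nat.card ↥U : ℂ) := by
  have h := stBN_eq_fpc Q n0 hn0 1
  rw [Subgroup.coe_one] at h
  rw [h, fpc_one']
  -- the bijection `U / V ≃ B / Cw`
  have hrel : ∀ u v : ↥U, (u⁻¹ * v ∈ V.subgroupOf U) ↔
      ((⟨(u : Γ), hUB u.2⟩ : ↥Q.B)⁻¹ * ⟨(v : Γ), hUB v.2⟩ ∈ Cw Q n0) := by
    intro u v
    rw [mem_Cw, Subgroup.mem_subgroupOf]
    have e : (((⟨(u : Γ), hUB u.2⟩ : ↥Q.B)⁻¹ * ⟨(v : Γ), hUB v.2⟩ : ↥Q.B) : Γ) =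
        (u : Γ)⁻¹ * (v : Γ) := rfl
    rw [e]
    have e' : ((u⁻¹ * v : ↥U) : Γ) = (u : Γ)⁻¹ * (v : Γ) := rfl
    rw [e']
    constructor
    · intro hV
      have := hVn (n0 : Γ)⁻¹ _ hV
      rw [inv_inv] at this
      exact hUB (hVU this)
    · intro hB
      exact hb _ (U.mul_mem (U.inv_mem u.2) v.2) hB
  let f : ↥U ⧸ V.subgroupOf U → ↥Q.B ⧸ Cw Q n0 :=
    Quotient.map' (fun u : ↥U => (⟨(u : Γ), hUB u.2⟩ : ↥Q.B)) (by
      intro u v huv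
      rw [QuotientGroup.leftRel_apply] at huv ⊢
      exact (hrel u v).mp huv)
  have hf : Function.Bijective f := by
    constructor
    · intro x y hxy
      induction x using Quotient.inductionOn' with
      | h u =>
        induction y using Quotient.inductionOn' with
        | h v =>
          have h1 : ((⟨(u : Γ), hUB u.2⟩ : ↥Q.B) : ↥Q.B ⧸ Cw Q n0) =
              ((⟨(v : Γ), hUB v.2⟩ : ↥Q.B) : ↥Q.B ⧸ Cw Q n0) := hxy
          have h2 := QuotientGroup.eq.mp h1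
          exact Quotient.sound' (by
            rw [QuotientGroup.leftRel_apply]
            exact (hrel u v).mpr h2)
    · intro x
      induction x using QuotientGroup.induction_on with
      | H b =>
        obtain ⟨u, hu, t, ht, e⟩ := hUT _ b.2
        refine ⟨((⟨u, hu⟩ : ↥U) : ↥U ⧸ V.subgroupOf U), ?_⟩
        show ((⟨u, hUB hu⟩ : ↥Q.B) : ↥Q.B ⧸ Cw Q n0) = (b : ↥Q.B ⧸ Cw Q n0)
        rw [QuotientGroup.eq, mem_Cw]
        have e1 : ((⟨u, hUB hu⟩ : ↥Q.B)⁻¹ * b : ↥Q.B) = (⟨t, ht.1⟩ : ↥Q.B) := by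
          apply Subtype.ext
          show u⁻¹ * (b : Γ) = t
          rw [e]; group
        rw [e1]
        exact BN.conj_mem' Q n0.2 ht.1 ht.2
  have hcard1 : Nat.card (↥Q.B ⧸ Cw Q n0) = Nat.card (↥U ⧸ V.subgroupOf U) :=
    (Nat.card_congr (Equiv.ofBijective f hf)).symm
  have hcard2 : Nat.card ↥(V.subgroupOf U) = Nat.card ↥V :=
    Nat.card_congr (Subgroup.subgroupOfEquivOfLe hVU).toEquiv
  have hcard3 : Nat.card ↥U = Nat.card (↥U ⧸ V.subgroupOf U) * Nat.card ↥(V.subgroupOf U) :=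
    Subgroup.card_eq_card_quotient_mul_card_subgroup _
  rw [hcard1, hcard3, hcard2]
  push_cast
  ring

end

open Classical in
/-- **FO-B.** -/
theorem sum_stBN_pElements {Γ : Type*} [Group Γ] [Fintype Γ]
    (Q : Cfsg.BNPair Γ) [Fintype Q.S]
    (p : ℕ) [Fact p.Prime] (U V : Subgroup Γ) (n0 : Q.N)
    (hUB : U ≤ Q.B)
    (hUn : ∀ b ∈ Q.B, ∀ u ∈ U, b⁻¹ * u * b ∈ U)
    (hUT : ∀ b ∈ Q.B, ∃ u ∈ U, ∃ t ∈ Q.B ⊓ Q.N, b = u * t)
    (hUp : IsPGroup p U) (hidx : ¬ p ∣ U.index)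
    (hVU : V ≤ U) (hVn : ∀ g : Γ, ∀ v ∈ V, g * v * g⁻¹ ∈ V)
    (hcrit : ∀ s ∈ Q.S, ∃ a ∈ Q.B, s * (a * (n0 : Γ)) ∈ BN.C Q (n0 : Γ))
    (hb : ∀ u ∈ U, (n0 : Γ)⁻¹ * u * (n0 : Γ) ∈ Q.B → u ∈ V) :
    ∑ g ∈ (Finset.univ : Finset Γ).filter (fun g => ∃ k : ℕ, orderOf g = p ^ k), stBN Q g =
      (Nat.card ↥U : ℂ) := by
  classical
  have hN := tNormal Q
  have hn0 := proj_eq_w0_of' Q n0 hcrit
  have hirr := isIrr_stBN Q
  have hp : p.Prime := Fact.out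
  -- `U` is a Sylow `p`-subgroup
  let S0 : Sylow p Γ := hUp.toSylow hidx
  have hS0 : ∀ y, y ∈ S0 ↔ y ∈ U := fun y => IsPGroup.mem_toSylow hUp hidx
  -- values on `p`-elements
  have hval : ∀ g : Γ, (∃ k : ℕ, orderOf g = p ^ k) →
      stBN Q g = if g ∈ V then stBN Q 1 else 0 := by
    intro g ⟨k, hk⟩
    have hz : IsPGroup p (Subgroup.zpowers g) := by
      apply IsPGroup.of_card (n := k)
      rw [Nat.card_zpowers, hk]
    obtain ⟨P', hP'⟩ := hz.exists_le_sylow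
    obtain ⟨x, hx⟩ := MulAction.exists_smul_eq Γ S0 P'
    have hgP : g ∈ (P' : Subgroup Γ) := hP' (Subgroup.mem_zpowers g)
    rw [← hx, Sylow.coe_subgroup_smul, Subgroup.mem_pointwise_smul_iff_inv_smul_mem] at hgP
    have e : (MulAut.conj x)⁻¹ • g = x⁻¹ * g * x := by
      rw [MulAut.smul_def, ← map_inv, MulAut.conj_apply, inv_inv]
    rw [e] at hgP
    have hgU : x⁻¹ * g * x ∈ U := (hS0 _).mp hgP
    have h1 : stBN Q g = stBN Q (x⁻¹ * g * x) := by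
      have := isIrr_conj hirr g x⁻¹
      rw [inv_inv] at this
      exact this.symm
    have hiff : g ∈ V ↔ x⁻¹ * g * x ∈ V := by
      constructor
      · intro h
        have := hVn x⁻¹ g h
        rwa [inv_inv] at this
      · intro h
        have := hVn x _ h
        have e2 : x * (x⁻¹ * g * x) * x⁻¹ = g := by group
        rwa [e2] at this
    by_cases hgV : g ∈ V
    · rw [if_pos hgV, h1]
      exact stBN_eq_one_of_mem Q U V n0 hUB hVU hVn hn0 (hiff.mp hgV)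
    · rw [if_neg hgV, h1]
      exact stBN_eq_zero_of_not_mem Q U V n0 hUB hUn hVn hn0 hb hgU (fun h => hgV (hiff.mpr h))
  -- elements of `V` are `p`-elements
  have hVp : ∀ g : Γ, g ∈ V → ∃ k : ℕ, orderOf g = p ^ k := by
    intro g hg
    obtain ⟨k, hk⟩ := hUp ⟨g, hVU hg⟩
    have h1 : g ^ (p ^ k) = 1 := by
      have := congrArg Subtype.val hk
      simpa using this
    have h2 : orderOf g ∣ p ^ k := orderOf_dvd_of_pow_eq_one h1
    obtain ⟨j, -, hj⟩ := (Nat.dvd_prime_pow hp).mp h2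
    exact ⟨j, hj⟩
  rw [Finset.sum_congr rfl (fun g hg => hval g (Finset.mem_filter.mp hg).2)]
  rw [Finset.sum_ite, Finset.sum_const_zero, add_zero, Finset.sum_const, nsmul_eq_mul]
  have hfilter : ((Finset.univ : Finset Γ).filter (fun g => ∃ k : ℕ, orderOf g = p ^ k)).filter
      (fun g => g ∈ V) = (Finset.univ : Finset Γ).filter (fun g => g ∈ V) := by
    ext g
    simp only [Finset.mem_filter, Finset.mem_univ, true_and]
    exact ⟨fun h => h.2, fun h => ⟨hVp g h, h⟩⟩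
  rw [hfilter]
  have hcardV : (((Finset.univ : Finset Γ).filter (fun g => g ∈ V)).card : ℂ) = (Nat.card ↥V : ℂ) := by
    rw [Nat.card_eq_fintype_card, Fintype.card_subtype]
  rw [hcardV, mul_comm]
  exact stBN_one_mul_card Q U V n0 hUB hUT hVU hVn hn0 hb

end Cfsg.Agent.Lib.Helper16.S2314B
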