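import Mathlib
import Cfsg.Agent.Lib.Helper14.MatBN2

/-!
# S2316 SP-1 + SP-2 (helper16, for helper14's farm-out): the unipotent radical `V_J` in a matrix
`(B, N)`-pair `Setup`, and `B` normalises it.

The declarations `JStep`, `RJ`, `VJ` live in helper14's namespace
`Cfsg.Agent.Lib.Helper14.MatBN.Setup` (as in `notes/S2316Skel_helper14.lean.txt`) so that the dot
notation `D.VJ J` works for everybody.
-/

set_option autoImplicit false
set_option linter.unusedSectionVars false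

namespace Cfsg.Agent.Lib.Helper14.MatBN

open Matrix Cfsg.Agent.Lib.Helper14.TriMono

variable {G : Type*} [Group G] {ι : Type*} [Fintype ι] [DecidableEq ι] {F : Type*} [Field F]
  {K : Type*}

namespace Setup

variable (D : Setup G ι F K)

/-- position `i` carries a pair of adjacent indices inverted by a reflection of `J` -/
def JStep (J : Set K) (i : ℕ) : Prop :=
  ∃ c d, D.ρ c = i ∧ D.ρ d = i + 1 ∧ ∃ k ∈ J, InPi D.ρ (D.π k) c d

/-- the pairs inside a `J`-block -/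
def RJ (J : Set K) (a b : ι) : Prop :=
  D.ρ a < D.ρ b ∧ ∀ i, D.ρ a ≤ i → i < D.ρ b → D.JStep J i

theorem RJ_sub {J : Set K} {a b c d : ι} (h : D.RJ J a b) (h1 : D.ρ a ≤ D.ρ c)
    (h2 : D.ρ c < D.ρ d) (h3 : D.ρ d ≤ D.ρ b) : D.RJ J c d :=
  ⟨h2, fun i hi1 hi2 => h.2 i (h1.trans hi1) (hi2.trans_le h3)⟩

theorem RJ_ne {J : Set K} {a b : ι} (h : D.RJ J a b) : a ≠ b := by
  intro e
  rw [e] at h
  exact lt_irrefl _ h.1

/-- **SP-1.** the unipotent radical of the parabolic subgroup attached to `J`: unitriangular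
matrices vanishing inside the `J`-blocks. -/
def VJ (J : Set K) : Subgroup G where
  carrier := {g | g ∈ D.Uu ∧ ∀ a b, D.RJ J a b → D.mat g a b = 0}
  mul_mem' := by
    rintro g h ⟨hg, hg0⟩ ⟨hh, hh0⟩
    refine ⟨D.Uu.mul_mem hg hh, fun a b hab => ?_⟩
    rw [map_mul, Matrix.mul_apply]
    apply Finset.sum_eq_zero
    intro c _
    by_cases hca : c = a
    · subst hca; rw [hh0 c b hab, mul_zero]
    by_cases hcb : c = b
    · subst hcb; rw [hg0 a c hab, zero_mul]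
    rcases lt_or_ge (D.ρ c) (D.ρ a) with h1 | h1
    · rw [hg.1 h1, zero_mul]
    rcases lt_or_ge (D.ρ b) (D.ρ c) with h2 | h2
    · rw [hh.1 h2, mul_zero]
    have h1' : D.ρ a < D.ρ c := lt_of_le_of_ne h1 (fun e => hca (D.ρ_inj e).symm)
    have h2' : D.ρ c < D.ρ b := lt_of_le_of_ne h2 (fun e => hcb (D.ρ_inj e))
    rw [hg0 a c (D.RJ_sub hab le_rfl h1' h2'.le), zero_mul]
  one_mem' := by
    refine ⟨D.Uu.one_mem, fun a b hab => ?_⟩
    rw [map_one, Matrix.one_apply_ne (D.RJ_ne hab)]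
  inv_mem' := by
    rintro g ⟨hg, hg0⟩
    have hinv : g⁻¹ ∈ D.Uu := D.Uu.inv_mem hg
    refine ⟨hinv, fun a b hab => ?_⟩
    have h1 := congrFun (congrFun (D.mat_inv_mul g) a) b
    rw [Matrix.mul_apply, Matrix.one_apply_ne (D.RJ_ne hab)] at h1
    rw [Finset.sum_eq_single b] at h1
    · rwa [hg.2 b, mul_one] at h1
    · intro c _ hcb
      rcases lt_or_ge (D.ρ c) (D.ρ a) with h2 | h2
      · rw [hinv.1 h2, zero_mul]
      rcases lt_or_ge (D.ρ b) (D.ρ c) with h3 | h3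
      · rw [hg.1 h3, mul_zero]
      have h3' : D.ρ c < D.ρ b := lt_of_le_of_ne h3 (fun e => hcb (D.ρ_inj e))
      rw [hg0 c b (D.RJ_sub hab h2 h3' le_rfl), mul_zero]
    · intro h; exact absurd (Finset.mem_univ _) h

theorem mem_VJ (J : Set K) (g : G) :
    g ∈ D.VJ J ↔ g ∈ D.Uu ∧ ∀ a b, D.RJ J a b → D.mat g a b = 0 := Iff.rfl

theorem VJ_le_Uu (J : Set K) : D.VJ J ≤ D.Uu := fun _ h => h.1

/-- **SP-2.** `B` normalises `V_J`. -/
theorem VJ_conj_Bor (J : Set K) {b v : G} (hb : b ∈ D.Bor) (hv : v ∈ D.VJ J) :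
    b * v * b⁻¹ ∈ D.VJ J := by
  obtain ⟨hvU, hv0⟩ := hv
  have hbi : b⁻¹ ∈ D.Bor := D.Bor.inv_mem hb
  have hbT : (D.mat b).BlockTriangular D.ρ := hb
  have hbiT : (D.mat b⁻¹).BlockTriangular D.ρ := hbi
  refine ⟨?_, fun a c hac => ?_⟩
  · have := D.Uu_conj hbi hvU
    rwa [inv_inv] at this
  · have hN : ∀ x y, (D.mat v - 1) x y ≠ 0 → D.ρ x < D.ρ y ∧ ¬ D.RJ J x y := by
      intro x y hxy
      rw [Matrix.sub_apply] at hxy
      by_cases hxy' : x = y
      · subst hxy'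
        rw [hvU.2, Matrix.one_apply_eq, sub_self] at hxy
        exact absurd rfl hxy
      rw [Matrix.one_apply_ne hxy', sub_zero] at hxy
      refine ⟨?_, fun hr => hxy (hv0 x y hr)⟩
      by_contra hlt
      push Not at hlt
      have : D.ρ y < D.ρ x := lt_of_le_of_ne hlt (fun e => hxy' (D.ρ_inj e).symm)
      exact hxy (hvU.1 this)
    have e : D.mat (b * v * b⁻¹) = 1 + D.mat b * (D.mat v - 1) * D.mat b⁻¹ := by
      rw [map_mul, map_mul, Matrix.mul_sub, Matrix.sub_mul, mul_one, D.mat_mul_inv]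
      abel
    rw [e, Matrix.add_apply, Matrix.one_apply_ne (D.RJ_ne hac), zero_add, Matrix.mul_apply]
    apply Finset.sum_eq_zero
    intro y _
    rw [Matrix.mul_apply, Finset.sum_mul]
    apply Finset.sum_eq_zero
    intro x _
    by_cases hN0 : (D.mat v - 1) x y = 0
    · rw [hN0, mul_zero, zero_mul]
    obtain ⟨hxy, hnr⟩ := hN x y hN0
    rcases lt_or_ge (D.ρ x) (D.ρ a) with h1 | h1
    · rw [hbT h1, zero_mul, zero_mul]
    rcases lt_or_ge (D.ρ c) (D.ρ y) with h2 | h2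
    · rw [hbiT h2, mul_zero]
    exact absurd (D.RJ_sub hac h1 hxy h2) hnr

end Setup

end Cfsg.Agent.Lib.Helper14.MatBN
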