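import Mathlib
import Cfsg.Agent.Lib.Helper6.Unitary2
import Cfsg.Agent.Lib.Helper16.UnitaryCount3
import Cfsg.Agent.Lib.Helper16.SympEmbed2
import Cfsg.Agent.Lib.Helper16.HermIsom

set_option autoImplicit false
set_option linter.style.haveILetI false
set_option linter.unusedSimpArgs false
set_option linter.unusedSectionVars false

namespace Cfsg.Agent.Lib.Helper16

open Module Cfsg.Agent.Lib.Helper6 Matrix Cfsg

/-- data for a fixed-point-free element of order three acting on a symplectic space, with the
quadratic extension `K = F[ω]` acting on the space -/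
structure CubeData (F K V : Type*) [Field F] [Field K] [Algebra F K] [AddCommGroup V] [Module F V]
    [Module K V] (ω : K) (B : V →ₗ[F] V →ₗ[F] F) : Prop where
  hω : ω ^ 2 + ω + 1 = 0
  hspan : ∀ k : K, ∃ a b : F, k = algebraMap F K a + algebraMap F K b * ω
  hind : ∀ a b : F, algebraMap F K a + algebraMap F K b * ω = 0 → a = 0 ∧ b = 0
  halt : ∀ v, B v v = 0
  hnd : ∀ u, (∀ v, B u v = 0) → u = 0
  hBω : ∀ u v, B (ω • u) (ω • v) = B u v

section
variable {F K V : Type*} [Field F] [Field K] [Algebra F K] [AddCommGroup V] [Module F V]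
  [Module K V] [IsScalarTower F K V] {ω : K} {B : V →ₗ[F] V →ₗ[F] F}

namespace CubeData

theorem mul_self (h : CubeData F K V ω B) : ω * ω = -1 - ω := by
  linear_combination h.hω

theorem cube (h : CubeData F K V ω B) : ω ^ 3 = 1 := by
  linear_combination (ω - 1) * h.hω

theorem skew (h : CubeData F K V ω B) (u v : V) : B u v = - B v u := by
  have h1 := h.halt (u + v)
  simp only [map_add, LinearMap.add_apply, h.halt, zero_add, add_zero] at h1
  linear_combination h1

theorem smul_smul_eq (h : CubeData F K V ω B) (v : V) : ω • ω • v = -v - ω • v := by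
  rw [smul_smul, h.mul_self, sub_smul, neg_smul, one_smul]

theorem B2 (h : CubeData F K V ω B) (u v : V) : B u (ω • ω • v) = - B u v - B u (ω • v) := by
  rw [h.smul_smul_eq, map_sub, map_neg]

theorem B3 (h : CubeData F K V ω B) (u v : V) : B (ω • u) v = B u (ω • ω • v) := by
  have h1 : v = ω • ω • ω • v := by
    rw [smul_smul, smul_smul, ← pow_two, ← pow_succ, h.cube, one_smul]
  conv_lhs => rw [h1]
  rw [h.hBω]

/-- the hermitian form attached to the data -/
def herm (_h : CubeData F K V ω B) (u v : V) : K :=
  algebraMap F K (B u v) * ω ^ 2 - algebraMap F K (B u (ω • v))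

theorem herm_add_left (h : CubeData F K V ω B) (u u' v : V) :
    h.herm (u + u') v = h.herm u v + h.herm u' v := by
  simp only [herm, map_add, LinearMap.add_apply]
  ring

theorem herm_add_right (h : CubeData F K V ω B) (u v v' : V) :
    h.herm u (v + v') = h.herm u v + h.herm u v' := by
  simp only [herm, map_add, smul_add]
  ring

theorem herm_smulF_left (h : CubeData F K V ω B) (a : F) (u v : V) :
    h.herm (a • u) v = algebraMap F K a * h.herm u v := by
  simp only [herm, map_smul, LinearMap.smul_apply, smul_eq_mul, map_mul]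
  ring

theorem herm_smulF_right (h : CubeData F K V ω B) (a : F) (u v : V) :
    h.herm u (a • v) = algebraMap F K a * h.herm u v := by
  simp only [herm, map_smul, smul_eq_mul, map_mul, smul_comm ω a v]
  ring

theorem herm_omega_right (h : CubeData F K V ω B) (u v : V) :
    h.herm u (ω • v) = ω * h.herm u v := by
  simp only [herm, h.B2, map_sub, map_neg]
  linear_combination (algebraMap F K (B u (ω • v)) - algebraMap F K (B u v) * ω
    + algebraMap F K (B u v)) * h.hω

theorem herm_omega_left (h : CubeData F K V ω B) (u v : V) :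
    h.herm (ω • u) v = ω ^ 2 * h.herm u v := by
  simp only [herm, h.hBω, h.B3, h.B2, map_sub, map_neg]
  linear_combination (-(algebraMap F K (B u v)) * (ω ^ 2 - ω + 1)) * h.hω

theorem coeff_eq (h : CubeData F K V ω B) {a b a' b' : F}
    (he : algebraMap F K a * ω ^ 2 - algebraMap F K b =
      algebraMap F K a' * ω ^ 2 - algebraMap F K b') : a = a' ∧ b = b' := by
  have h1 : algebraMap F K (-(a - a') - (b - b')) + algebraMap F K (-(a - a')) * ω = 0 := by
    simp only [map_sub, map_neg]
    linear_combination he - (algebraMap F K a - algebraMap F K a') * h.hω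
  obtain ⟨h2, h3⟩ := h.hind _ _ h1
  have h4 : a = a' := by linear_combination -h3
  refine ⟨h4, ?_⟩
  subst h4
  linear_combination -h2

section finite
variable [Fintype F] [Fintype K] {q : ℕ}

theorem conj_alg (hF : Fintype.card F = q) (hK : Fintype.card K = q ^ 2) (a : F) :
    conjQ hK (algebraMap F K a) = algebraMap F K a := by
  rw [conjQ_apply, ← map_pow, ← hF, FiniteField.pow_card]

theorem conj_omega (h : CubeData F K V ω B) (hK : Fintype.card K = q ^ 2) (hq : q % 3 = 2) :
    conjQ hK ω = ω ^ 2 := by
  rw [conjQ_apply]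
  conv_lhs => rw [← Nat.div_add_mod q 3, hq, pow_add, pow_mul, h.cube, one_pow, one_mul]

theorem herm_smul_right (h : CubeData F K V ω B) (k : K) (u v : V) :
    h.herm u (k • v) = k * h.herm u v := by
  obtain ⟨a, b, rfl⟩ := h.hspan k
  rw [add_smul, mul_smul, algebraMap_smul, algebraMap_smul, h.herm_add_right, h.herm_smulF_right,
    h.herm_smulF_right, h.herm_omega_right]
  ring

theorem herm_smul_left (h : CubeData F K V ω B) (hF : Fintype.card F = q)
    (hK : Fintype.card K = q ^ 2) (hq : q % 3 = 2) (k : K) (u v : V) :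
    h.herm (k • u) v = conjQ hK k * h.herm u v := by
  obtain ⟨a, b, rfl⟩ := h.hspan k
  rw [add_smul, mul_smul, algebraMap_smul, algebraMap_smul, h.herm_add_left, h.herm_smulF_left,
    h.herm_smulF_left, h.herm_omega_left, map_add, map_mul, conj_alg hF hK, conj_alg hF hK,
    h.conj_omega hK hq]
  ring

/-- the hermitian form as a sesquilinear map -/
noncomputable def hermL (h : CubeData F K V ω B) (hF : Fintype.card F = q)
    (hK : Fintype.card K = q ^ 2) (hq : q % 3 = 2) : V →ₛₗ[conjQ hK] V →ₗ[K] K :=
  LinearMap.mk₂'ₛₗ (conjQ hK) (RingHom.id K) h.herm h.herm_add_left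
    (fun k u v => h.herm_smul_left hF hK hq k u v) h.herm_add_right
    (fun k u v => h.herm_smul_right k u v)

theorem hermL_apply (h : CubeData F K V ω B) (hF : Fintype.card F = q)
    (hK : Fintype.card K = q ^ 2) (hq : q % 3 = 2) (u v : V) :
    h.hermL hF hK hq u v = algebraMap F K (B u v) * ω ^ 2 - algebraMap F K (B u (ω • v)) := rfl

theorem hermL_isSymm (h : CubeData F K V ω B) (hF : Fintype.card F = q)
    (hK : Fintype.card K = q ^ 2) (hq : q % 3 = 2) : (h.hermL hF hK hq).IsSymm := by
  refine ⟨fun u v => ?_⟩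
  rw [hermL_apply, hermL_apply]
  change conjQ hK _ = _
  rw [map_sub, map_mul, map_pow, conj_alg hF hK, conj_alg hF hK, h.conj_omega hK hq,
    h.skew v u, h.skew v (ω • u), h.B3, h.B2]
  simp only [map_neg, map_sub]
  linear_combination (algebraMap F K (B u v) * (ω ^ 2 - ω + 1)) * h.hω

theorem hermL_nondeg (h : CubeData F K V ω B) (hF : Fintype.card F = q)
    (hK : Fintype.card K = q ^ 2) (hq : q % 3 = 2) : (h.hermL hF hK hq).Nondegenerate := by
  have h1 : (h.hermL hF hK hq).SeparatingLeft := by
    intro u hu
    apply h.hnd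
    intro v
    have h2 := hu v
    rw [hermL_apply] at h2
    have h3 : algebraMap F K (B u v) * ω ^ 2 - algebraMap F K (B u (ω • v)) =
        algebraMap F K 0 * ω ^ 2 - algebraMap F K 0 := by
      rw [h2, map_zero]; ring
    exact (h.coeff_eq h3).1
  exact ⟨h1, herm_sepRight (conjQ hK) (conjQ_conjQ hK) _ (h.hermL_isSymm hF hK hq) h1⟩

/-- `K`-linear isometries of the hermitian form correspond to `F`-linear isometries of `B`
commuting with `ω`. -/
theorem card_isometries (h : CubeData F K V ω B) (hF : Fintype.card F = q)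
    (hK : Fintype.card K = q ^ 2) (hq : q % 3 = 2) :
    Nat.card {g : V →ₗ[F] V // (∀ v, g (ω • v) = ω • g v) ∧ ∀ u v, B (g u) (g v) = B u v} =
      Nat.card {g : V →ₗ[K] V // ∀ u v, h.hermL hF hK hq (g u) (g v) = h.hermL hF hK hq u v} := by
  symm
  let f : {g : V →ₗ[K] V // ∀ u v, h.hermL hF hK hq (g u) (g v) = h.hermL hF hK hq u v} →
      {g : V →ₗ[F] V // (∀ v, g (ω • v) = ω • g v) ∧ ∀ u v, B (g u) (g v) = B u v} := fun g =>
    ⟨g.1.restrictScalars F, fun v => map_smul g.1 ω v, fun u v => by
      have h1 := g.2 u v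
      rw [hermL_apply, hermL_apply] at h1
      exact (h.coeff_eq h1).1⟩
  apply Nat.card_eq_of_bijective f
  constructor
  · intro g g' hgg
    apply Subtype.ext
    apply LinearMap.ext
    intro v
    exact LinearMap.congr_fun (congrArg Subtype.val hgg) v
  · intro g
    have hlin : ∀ (k : K) (v : V), g.1 (k • v) = k • g.1 v := by
      intro k v
      obtain ⟨a, b, rfl⟩ := h.hspan k
      rw [add_smul, mul_smul, algebraMap_smul, algebraMap_smul, map_add, map_smul, map_smul,
        g.2.1, add_smul, mul_smul, algebraMap_smul, algebraMap_smul]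
    refine ⟨⟨{ toFun := g.1, map_add' := g.1.map_add, map_smul' := hlin }, ?_⟩, ?_⟩
    · intro u v
      rw [hermL_apply, hermL_apply]
      change algebraMap F K (B (g.1 u) (g.1 v)) * ω ^ 2 - algebraMap F K (B (g.1 u) (ω • g.1 v)) = _
      rw [← g.2.1, g.2.2, g.2.2]
    · apply Subtype.ext
      apply LinearMap.ext
      intro v
      rfl

theorem card_K (h : CubeData F K V ω B) (hF : Fintype.card F = q) : Fintype.card K = q ^ 2 := by
  classical
  let e : F × F → K := fun p => algebraMap F K p.1 + algebraMap F K p.2 * ω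
  have he : Function.Bijective e := by
    constructor
    · rintro ⟨a, b⟩ ⟨a', b'⟩ hab
      have h1 : algebraMap F K (a - a') + algebraMap F K (b - b') * ω = 0 := by
        simp only [map_sub]
        simp only [e] at hab
        linear_combination hab
      obtain ⟨h2, h3⟩ := h.hind _ _ h1
      rw [sub_eq_zero] at h2 h3
      rw [h2, h3]
    · intro k
      obtain ⟨a, b, rfl⟩ := h.hspan k
      exact ⟨(a, b), rfl⟩
  rw [← Fintype.card_of_bijective he, Fintype.card_prod, hF, sq]

/-- the abstract count of the centraliser -/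
theorem card_centralizer (h : CubeData F K V ω B) (hF : Fintype.card F = q)
    (hK : Fintype.card K = q ^ 2) (hq : q % 3 = 2) [FiniteDimensional F V] (m : ℕ)
    (hV : finrank F V = 2 * m) :
    Nat.card {g : V →ₗ[F] V // (∀ v, g (ω • v) = ω • g v) ∧ ∀ u v, B (g u) (g v) = B u v} =
      Nat.card (Cfsg.GU m K q) := by
  rw [h.card_isometries hF hK hq]
  haveI : FiniteDimensional K V := Module.Finite.of_restrictScalars_finite F K V
  apply card_herm_isometries_eq_GU hK _ (h.hermL_isSymm hF hK hq) (h.hermL_nondeg hF hK hq) m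
  have h1 := Module.finrank_mul_finrank F K V
  rw [finrank_eq_two_of_card hF hK, hV] at h1
  omega

end finite

end CubeData

end

end Cfsg.Agent.Lib.Helper16
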