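import Mathlib

/-!
# Transport of subgroup statements along group isomorphisms (helper16)

Generic lemmas used to move the statements about the simple group of order 168 to a model.
-/

set_option autoImplicit false
set_option linter.unusedVariables false

namespace Cfsg.Agent.Lib.Helper16.G168

variable {G H : Type*} [Group G] [Group H]

/-- conjugation commutes with an isomorphism -/
theorem map_conj_map (e : G ≃* H) (U : Subgroup G) (g : G) :
    (U.map (MulAut.conj g).toMonoidHom).map e.toMonoidHom =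
      (U.map e.toMonoidHom).map (MulAut.conj (e g)).toMonoidHom := by
  rw [Subgroup.map_map, Subgroup.map_map]
  congr 1
  ext x
  simp [MulAut.conj_apply]

theorem isKleinFour_of_mulEquiv {A B : Type*} [Group A] [Group B] (f : A ≃* B)
    (h : IsKleinFour A) : IsKleinFour B :=
  ⟨by rw [← Nat.card_congr f.toEquiv]; exact h.card_four,
    by rw [← Monoid.exponent_eq_of_mulEquiv f]; exact h.exponent_two⟩

theorem isKleinFour_map (e : G ≃* H) (U : Subgroup G) (h : IsKleinFour ↥U) :
    IsKleinFour ↥(U.map e.toMonoidHom) :=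
  isKleinFour_of_mulEquiv (e.subgroupMap U) h

theorem isKleinFour_of_map (e : G ≃* H) (U : Subgroup G)
    (h : IsKleinFour ↥(U.map e.toMonoidHom)) : IsKleinFour ↥U :=
  isKleinFour_of_mulEquiv (e.subgroupMap U).symm h

theorem map_symm_map (e : G ≃* H) (U : Subgroup H) :
    (U.map e.symm.toMonoidHom).map e.toMonoidHom = U := by
  rw [Subgroup.map_map]
  have : e.toMonoidHom.comp e.symm.toMonoidHom = MonoidHom.id H := by
    ext x; simp
  rw [this, Subgroup.map_id]

theorem map_map_symm (e : G ≃* H) (U : Subgroup G) :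
    (U.map e.toMonoidHom).map e.symm.toMonoidHom = U := by
  rw [Subgroup.map_map]
  have : e.symm.toMonoidHom.comp e.toMonoidHom = MonoidHom.id G := by
    ext x; simp
  rw [this, Subgroup.map_id]

theorem isCoatom_map (e : G ≃* H) (M : Subgroup G) (h : IsCoatom M) :
    IsCoatom (M.map e.toMonoidHom) :=
  (e.mapSubgroup.isCoatom_iff M).mpr h

theorem isCoatom_of_map (e : G ≃* H) (M : Subgroup G) (h : IsCoatom (M.map e.toMonoidHom)) :
    IsCoatom M :=
  (e.mapSubgroup.isCoatom_iff M).mp h

theorem card_map_equiv (e : G ≃* H) (M : Subgroup G) :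
    Nat.card ↥(M.map e.toMonoidHom) = Nat.card ↥M :=
  (Nat.card_congr (e.subgroupMap M).toEquiv).symm

/-- a finite subgroup mapped into itself by a conjugation is normalized by it -/
theorem mem_normalizer_of_conj_mem (S : Subgroup G) [Finite S] (g : G)
    (h : ∀ n ∈ S, g * n * g⁻¹ ∈ S) : g ∈ Subgroup.normalizer (S : Set G) := by
  have hle : S.map (MulAut.conj g).toMonoidHom ≤ S := by
    rintro _ ⟨n, hn, rfl⟩
    exact h n hn
  have hcard : Nat.card ↥(S.map (MulAut.conj g).toMonoidHom) = Nat.card ↥S :=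
    card_map_equiv (MulAut.conj g) S
  have heq : S.map (MulAut.conj g).toMonoidHom = S :=
    Subgroup.eq_of_le_of_card_ge hle (by rw [hcard])
  rw [Subgroup.mem_set_normalizer_iff]
  intro n
  constructor
  · intro hn; exact h n hn
  · intro hn
    have hn' : g * n * g⁻¹ ∈ S.map (MulAut.conj g).toMonoidHom := by rw [heq]; exact hn
    obtain ⟨m, hm, hmn⟩ := hn'
    have h1 : g * m * g⁻¹ = g * n * g⁻¹ := hmn
    have h2 : m = n := by
      have := congrArg (fun z => g⁻¹ * z * g) h1
      simpa [mul_assoc] using this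
    rw [← h2]; exact hm

/-! ### The statements of S1007 -/

/-- exactly two Klein four-subgroups in `T` -/
def KF7a (G : Type*) [Group G] (T : Subgroup G) : Prop :=
  Nat.card {U : Subgroup G // U ≤ T ∧ IsKleinFour ↥U} = 2

/-- distinct Klein four-subgroups of `T` are not conjugate -/
def KF7b (G : Type*) [Group G] (T : Subgroup G) : Prop :=
  ∀ U W : Subgroup G, U ≤ T → W ≤ T → IsKleinFour ↥U → IsKleinFour ↥W → U ≠ W →
    ∀ g : G, U.map (MulAut.conj g).toMonoidHom ≠ W

/-- normalizers of Klein four-subgroups are symmetric groups of degree 4 -/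
def KF7c (G : Type*) [Group G] : Prop :=
  ∀ U : Subgroup G, IsKleinFour ↥U →
    Nonempty (↥(Subgroup.normalizer (U : Set G)) ≃* Equiv.Perm (Fin 4))

theorem KF7a_of_equiv (e : G ≃* H) (T : Subgroup G) (h : KF7a H (T.map e.toMonoidHom)) :
    KF7a G T := by
  unfold KF7a at h ⊢
  have eqv : {U : Subgroup G // U ≤ T ∧ IsKleinFour ↥U} ≃
      {U' : Subgroup H // U' ≤ T.map e.toMonoidHom ∧ IsKleinFour ↥U'} :=
    e.mapSubgroup.toEquiv.subtypeEquiv (fun U => by
      show U ≤ T ∧ IsKleinFour ↥U ↔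
        U.map e.toMonoidHom ≤ T.map e.toMonoidHom ∧ IsKleinFour ↥(U.map e.toMonoidHom)
      constructor
      · rintro ⟨h1, h2⟩
        exact ⟨Subgroup.map_mono h1, isKleinFour_map e U h2⟩
      · rintro ⟨h1, h2⟩
        refine ⟨?_, isKleinFour_of_map e U h2⟩
        have := Subgroup.map_mono (f := e.symm.toMonoidHom) h1
        rwa [map_map_symm, map_map_symm] at this)
  rw [Nat.card_congr eqv]
  exact h

theorem KF7b_of_equiv (e : G ≃* H) (T : Subgroup G) (h : KF7b H (T.map e.toMonoidHom)) :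
    KF7b G T := by
  intro U W hU hW hUk hWk hne g heq
  refine h (U.map e.toMonoidHom) (W.map e.toMonoidHom) (Subgroup.map_mono hU)
    (Subgroup.map_mono hW) (isKleinFour_map e U hUk) (isKleinFour_map e W hWk) ?_ (e g) ?_
  · intro h'
    exact hne (Subgroup.map_injective e.injective h')
  · rw [← map_conj_map, heq]

theorem KF7c_of_equiv (e : G ≃* H) (h : KF7c H) : KF7c G := by
  intro U hU
  obtain ⟨f⟩ := h (U.map e.toMonoidHom) (isKleinFour_map e U hU)
  have hn : (Subgroup.normalizer (U : Set G)).map e.toMonoidHom =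
      Subgroup.normalizer ((U.map e.toMonoidHom : Subgroup H) : Set H) :=
    Subgroup.map_equiv_normalizer_eq U e
  exact ⟨(e.subgroupMap (Subgroup.normalizer (U : Set G))).trans
    ((MulEquiv.subgroupCongr hn).trans f)⟩

/-! ### The statements of S1008 -/

/-- maximal subgroups are `S₄` or non-abelian of order 21 -/
def Mx8a (G : Type*) [Group G] : Prop :=
  ∀ M : Subgroup G, IsCoatom M →
    Nonempty (↥M ≃* Equiv.Perm (Fin 4)) ∨ (Nat.card ↥M = 21 ∧ ¬ IsMulCommutative ↥M)

/-- maximal subgroups of order 21 are conjugate -/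
def Mx8b (G : Type*) [Group G] : Prop :=
  ∀ M M' : Subgroup G, IsCoatom M → IsCoatom M' → Nat.card ↥M = 21 → Nat.card ↥M' = 21 →
    ∃ g : G, M' = M.map (MulAut.conj g).toMonoidHom

/-- two classes of maximal subgroups `S₄` -/
def Mx8c (G : Type*) [Group G] : Prop :=
  ∃ M₁ M₂ : Subgroup G, IsCoatom M₁ ∧ IsCoatom M₂ ∧ Nonempty (↥M₁ ≃* Equiv.Perm (Fin 4)) ∧
    Nonempty (↥M₂ ≃* Equiv.Perm (Fin 4)) ∧
    (∀ g : G, M₂ ≠ M₁.map (MulAut.conj g).toMonoidHom) ∧
    ∀ M : Subgroup G, IsCoatom M → Nonempty (↥M ≃* Equiv.Perm (Fin 4)) →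
      ∃ g : G, M = M₁.map (MulAut.conj g).toMonoidHom ∨ M = M₂.map (MulAut.conj g).toMonoidHom

theorem isMulCommutative_of_mulEquiv {A B : Type*} [Group A] [Group B] (f : A ≃* B)
    (h : IsMulCommutative A) : IsMulCommutative B := by
  refine ⟨⟨fun a b => ?_⟩⟩
  obtain ⟨a', rfl⟩ := f.surjective a
  obtain ⟨b', rfl⟩ := f.surjective b
  rw [← map_mul, ← map_mul, h.is_comm.comm a' b']

theorem Mx8a_of_equiv (e : G ≃* H) (h : Mx8a H) : Mx8a G := by
  intro M hM
  rcases h (M.map e.toMonoidHom) (isCoatom_map e M hM) with hf | ⟨h1, h2⟩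
  · obtain ⟨f⟩ := hf
    exact Or.inl ⟨(e.subgroupMap M).trans f⟩
  · right
    refine ⟨by rw [← card_map_equiv e M]; exact h1, fun hc => h2 ?_⟩
    exact isMulCommutative_of_mulEquiv (e.subgroupMap M) hc

theorem Mx8b_of_equiv (e : G ≃* H) (h : Mx8b H) : Mx8b G := by
  intro M M' hM hM' hc hc'
  obtain ⟨g', hg'⟩ := h (M.map e.toMonoidHom) (M'.map e.toMonoidHom) (isCoatom_map e M hM)
    (isCoatom_map e M' hM') (by rw [card_map_equiv]; exact hc) (by rw [card_map_equiv]; exact hc')
  refine ⟨e.symm g', ?_⟩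
  apply Subgroup.map_injective (f := e.toMonoidHom) e.injective
  rw [map_conj_map, MulEquiv.apply_symm_apply]
  exact hg'

theorem Mx8c_of_equiv (e : G ≃* H) (h : Mx8c H) : Mx8c G := by
  obtain ⟨M₁, M₂, h1, h2, ⟨f1⟩, ⟨f2⟩, hnc, hall⟩ := h
  refine ⟨M₁.map e.symm.toMonoidHom, M₂.map e.symm.toMonoidHom, isCoatom_map e.symm M₁ h1,
    isCoatom_map e.symm M₂ h2, ⟨(e.symm.subgroupMap M₁).symm.trans f1⟩,
    ⟨(e.symm.subgroupMap M₂).symm.trans f2⟩, ?_, ?_⟩
  · intro g heq
    apply hnc (e g)
    have := congrArg (Subgroup.map e.toMonoidHom) heq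
    rwa [map_symm_map, map_conj_map, map_symm_map] at this
  · intro M hM ⟨f⟩
    obtain ⟨g', hg'⟩ := hall (M.map e.toMonoidHom) (isCoatom_map e M hM)
      ⟨(e.subgroupMap M).symm.trans f⟩
    refine ⟨e.symm g', ?_⟩
    rcases hg' with hg' | hg'
    · left
      apply Subgroup.map_injective (f := e.toMonoidHom) e.injective
      rw [map_conj_map, MulEquiv.apply_symm_apply, map_symm_map]
      exact hg'
    · right
      apply Subgroup.map_injective (f := e.toMonoidHom) e.injective
      rw [map_conj_map, MulEquiv.apply_symm_apply, map_symm_map]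
      exact hg'

end Cfsg.Agent.Lib.Helper16.G168
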