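import Mathlib
import Cfsg.Agent.Lib.Helper16.G168Transfer
import Cfsg.Agent.S0493

/-!
# Recognising `A₅`, double cosets and 2-transitivity, transport of `A₅`-subgroup statements
(helper16)
-/

set_option autoImplicit false
set_option linter.unusedVariables false

namespace Cfsg.Agent.Lib.Helper16.A5Recog

open Cfsg.Agent.Lib.Helper16.G168
open scoped Pointwise

/-- a subgroup of order 60 with a subgroup of order 12 whose core is trivial is `A₅` -/
theorem a5_of_sub {G : Type*} [Group G] (H T : Subgroup G) [Finite H] (hH : Nat.card H = 60)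
    (hT : Nat.card T = 12) (hTH : T ≤ H)
    (hcore : ∀ x ∈ H, x ≠ 1 → ∃ g ∈ H, g * x * g⁻¹ ∉ T) :
    Nonempty (H ≃* alternatingGroup (Fin 5)) := by
  have hT' : Nat.card (T.subgroupOf H) = 12 := by
    rw [Nat.card_congr (Subgroup.subgroupOfEquivOfLe hTH).toEquiv, hT]
  have hidx : (T.subgroupOf H).index = 5 := by
    have h1 := (T.subgroupOf H).card_mul_index
    rw [hT', hH] at h1
    omega
  have hcore' : (T.subgroupOf H).normalCore = ⊥ := by
    rw [Subgroup.eq_bot_iff_forall]
    intro x hx
    by_contra hx1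
    have hx1' : (x : G) ≠ 1 := fun h => hx1 (Subtype.ext h)
    obtain ⟨g, hg, hgx⟩ := hcore x x.2 hx1'
    apply hgx
    have h2 : (⟨g, hg⟩ : H) * x * (⟨g, hg⟩ : H)⁻¹ ∈ T.subgroupOf H := hx ⟨g, hg⟩
    rw [Subgroup.mem_subgroupOf] at h2
    exact h2
  have hinj : Function.Injective (MulAction.toPermHom H (H ⧸ T.subgroupOf H)) := by
    rw [← MonoidHom.ker_eq_bot_iff, ← Subgroup.normalCore_eq_ker]
    exact hcore'
  have hcard5 : Nat.card (H ⧸ T.subgroupOf H) = 5 := by
    rw [← Subgroup.index_eq_card, hidx]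
  let ε : (H ⧸ T.subgroupOf H) ≃ Fin 5 := Finite.equivFinOfCardEq hcard5
  let f : H →* Equiv.Perm (Fin 5) :=
    (ε.permCongrHom.toMonoidHom).comp (MulAction.toPermHom H (H ⧸ T.subgroupOf H))
  have hf : Function.Injective f := fun a b hab => hinj (ε.permCongrHom.injective hab)
  have hrange : Nat.card f.range = 60 := by
    rw [← hH]
    exact (Nat.card_congr (MonoidHom.ofInjective hf).toEquiv).symm
  have hidx2 : f.range.index = 2 := by
    have h1 := f.range.card_mul_index
    rw [hrange, Nat.card_perm, Nat.card_fin] at h1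
    have h2 : Nat.factorial 5 = 120 := rfl
    omega
  have hr : f.range = alternatingGroup (Fin 5) :=
    Equiv.Perm.eq_alternatingGroup_of_index_eq_two hidx2
  exact ⟨(MonoidHom.ofInjective hf).trans (MulEquiv.subgroupCongr hr)⟩

/-- a single double coset outside `H` makes the action on `G ⧸ H` 2-transitive -/
theorem twoTrans_of_dc {G : Type*} [Group G] (H : Subgroup G)
    (hdc : ∀ x y : G, x ∉ H → y ∉ H → ∃ h ∈ H, ∃ k ∈ H, y = h * x * k) :
    MulAction.IsMultiplyPretransitive G (G ⧸ H) 2 := by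
  rw [MulAction.is_two_pretransitive_iff]
  intro a b c d hab hcd
  induction a using QuotientGroup.induction_on with | H a => ?_
  induction b using QuotientGroup.induction_on with | H b => ?_
  induction c using QuotientGroup.induction_on with | H c => ?_
  induction d using QuotientGroup.induction_on with | H d => ?_
  have hx : a⁻¹ * b ∉ H := fun h => hab (QuotientGroup.eq.mpr h)
  have hy : c⁻¹ * d ∉ H := fun h => hcd (QuotientGroup.eq.mpr h)
  obtain ⟨h, hh, k, hk, e⟩ := hdc _ _ hx hy
  refine ⟨c * h * a⁻¹, ?_, ?_⟩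
  · show ((c * h * a⁻¹ * a : G) : G ⧸ H) = c
    rw [QuotientGroup.eq]
    have : (c * h * a⁻¹ * a)⁻¹ * c = h⁻¹ := by group
    rw [this]
    exact H.inv_mem hh
  · show ((c * h * a⁻¹ * b : G) : G ⧸ H) = d
    rw [QuotientGroup.eq]
    have e' : d = c * (h * (a⁻¹ * b) * k) := by rw [← e]; group
    have : (c * h * a⁻¹ * b)⁻¹ * d = k := by rw [e']; group
    rw [this]
    exact hk

/-- the conjugation action on subgroups as a map -/
theorem smul_eq_map {G : Type*} [Group G] (g : G) (U : Subgroup G) :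
    MulAut.conj g • U = U.map (MulAut.conj g).toMonoidHom := by
  rw [Subgroup.pointwise_smul_def]; rfl

/-- being isomorphic to `A₅` -/
def A5Sub (G : Type*) [Group G] (H : Subgroup G) : Prop :=
  Nonempty (H ≃* alternatingGroup (Fin 5))

theorem A5Sub_map {G M : Type*} [Group G] [Group M] (e : G ≃* M) (U : Subgroup G) :
    A5Sub M (U.map e.toMonoidHom) ↔ A5Sub G U := by
  constructor
  · rintro ⟨f⟩; exact ⟨(e.subgroupMap U).trans f⟩
  · rintro ⟨f⟩; exact ⟨(e.subgroupMap U).symm.trans f⟩

/-- the statement on the `A₅`-subgroups of `PSL₂(11)` -/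
def Stmt43 (G : Type*) [Group G] : Prop :=
  Nat.card {H : Subgroup G // Nonempty (H ≃* alternatingGroup (Fin 5))} = 22 ∧
    ∃ H K : Subgroup G, Nonempty (H ≃* alternatingGroup (Fin 5)) ∧
      Nonempty (K ≃* alternatingGroup (Fin 5)) ∧ (∀ g : G, MulAut.conj g • H ≠ K) ∧
      ∀ L : Subgroup G, Nonempty (L ≃* alternatingGroup (Fin 5)) →
        ∃ g : G, MulAut.conj g • L = H ∨ MulAut.conj g • L = K

theorem Stmt43_of_equiv {G M : Type*} [Group G] [Group M] (e : G ≃* M) (h : Stmt43 M) :
    Stmt43 G := by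
  obtain ⟨h1, H, K, hH, hK, hne, hall⟩ := h
  refine ⟨?_, H.map e.symm.toMonoidHom, K.map e.symm.toMonoidHom, ?_, ?_, ?_, ?_⟩
  · have eqv : {U : Subgroup G // Nonempty (U ≃* alternatingGroup (Fin 5))} ≃
        {U' : Subgroup M // Nonempty (U' ≃* alternatingGroup (Fin 5))} :=
      e.mapSubgroup.toEquiv.subtypeEquiv (fun U => (A5Sub_map e U).symm)
    rw [Nat.card_congr eqv]
    exact h1
  · exact (A5Sub_map e.symm H).mpr hH
  · exact (A5Sub_map e.symm K).mpr hK
  · intro g hg
    apply hne (e g)
    have h2 := congrArg (Subgroup.map e.toMonoidHom) hg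
    rw [smul_eq_map, map_conj_map, map_symm_map, map_symm_map] at h2
    rw [smul_eq_map]
    exact h2
  · intro L hL
    obtain ⟨m, hm⟩ := hall (L.map e.toMonoidHom) ((A5Sub_map e L).mpr hL)
    refine ⟨e.symm m, ?_⟩
    have key : (MulAut.conj (e.symm m) • L).map e.toMonoidHom =
        MulAut.conj m • (L.map e.toMonoidHom) := by
      rw [smul_eq_map, smul_eq_map, map_conj_map, MulEquiv.apply_symm_apply]
    rcases hm with hm | hm
    · left
      apply Subgroup.map_injective (f := e.toMonoidHom) e.injective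
      rw [key, hm, map_symm_map]
    · right
      apply Subgroup.map_injective (f := e.toMonoidHom) e.injective
      rw [key, hm, map_symm_map]

end Cfsg.Agent.Lib.Helper16.A5Recog
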