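import Mathlib
import Cfsg.Prelude.Def_Perm

/-!
Cardinalities of the one-dimensional affine and semi-affine groups of a finite field
(for S4025, part D): `|AGL_1(F)| = (q-1) q`, `|AGammaL_1(F)| = (q-1) q |Aut F|`,
`|Aut (GaloisField p n)| = n`.
-/

namespace Cfsg.Agent.Lib.Helper16.AGL1Card

open Cfsg

theorem ringEquiv_commutes (p : ℕ) [Fact p.Prime] (F : Type*) [Field F] [Algebra (ZMod p) F]
    (φ : F ≃+* F) (r : ZMod p) : φ (algebraMap (ZMod p) F r) = algebraMap (ZMod p) F r := by
  have h : (φ : F →+* F).comp (algebraMap (ZMod p) F) = algebraMap (ZMod p) F :=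
    Subsingleton.elim _ _
  exact congrArg (fun f : ZMod p →+* F => f r) h

/-- Ring automorphisms of a field of char p = ZMod p-algebra automorphisms. -/
noncomputable def ringAutEquivAlgAut (p : ℕ) [Fact p.Prime] (F : Type*) [Field F]
    [Algebra (ZMod p) F] : (F ≃+* F) ≃ (F ≃ₐ[ZMod p] F) where
  toFun φ := AlgEquiv.ofRingEquiv (f := φ) (ringEquiv_commutes p F φ)
  invFun ψ := ψ.toRingEquiv
  left_inv φ := by ext; rfl
  right_inv ψ := by ext; rfl

theorem card_ringAut_galoisField (p n : ℕ) [Fact p.Prime] (hn : n ≠ 0) :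
    Nat.card (GaloisField p n ≃+* GaloisField p n) = n := by
  rw [Nat.card_congr (ringAutEquivAlgAut p (GaloisField p n))]
  have : IsGalois (ZMod p) (GaloisField p n) := inferInstance
  rw [IsGalois.card_aut_eq_finrank, GaloisField.finrank p hn]


variable {F : Type*} [Field F]

/-- The permutation `x ↦ a * φ x + b`. -/
def semiPerm (a : Fˣ) (b : F) (φ : F ≃+* F) : Equiv.Perm F where
  toFun x := (a : F) * φ x + b
  invFun x := φ.symm (((a⁻¹ : Fˣ) : F) * (x - b))
  left_inv x := by
    simp only [add_sub_cancel_right, ← mul_assoc, Units.inv_mul, one_mul,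
      RingEquiv.symm_apply_apply]
  right_inv x := by
    simp only [RingEquiv.apply_symm_apply, ← mul_assoc, Units.mul_inv, one_mul,
      sub_add_cancel]

theorem semiPerm_apply (a : Fˣ) (b : F) (φ : F ≃+* F) (x : F) :
    semiPerm a b φ x = (a : F) * φ x + b := rfl

theorem semiPerm_mem (a : Fˣ) (b : F) (φ : F ≃+* F) :
    semiPerm a b φ ∈ semiaffineGroup F := ⟨a, b, φ, fun _ => rfl⟩

theorem semiPerm_refl_mem (a : Fˣ) (b : F) :
    semiPerm a b (RingEquiv.refl F) ∈ affineGroup F := ⟨a, b, fun _ => rfl⟩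

theorem semiPerm_injective :
    Function.Injective (fun t : Fˣ × F × (F ≃+* F) => semiPerm t.1 t.2.1 t.2.2) := by
  rintro ⟨a, b, φ⟩ ⟨a', b', φ'⟩ h
  have h0 := congrArg (fun σ : Equiv.Perm F => σ 0) h
  have h1 := congrArg (fun σ : Equiv.Perm F => σ 1) h
  simp only [semiPerm_apply, map_zero, mul_zero, zero_add, map_one, mul_one] at h0 h1
  subst h0
  have ha : a = a' := Units.ext (add_right_cancel h1)
  subst ha
  have hφ : φ = φ' := by
    ext x
    have hx := congrArg (fun σ : Equiv.Perm F => σ x) h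
    simp only [semiPerm_apply] at hx
    exact a.isUnit.mul_left_cancel (add_right_cancel hx)
  subst hφ
  rfl

/-- `Fˣ × F × Aut F ≃ semiaffineGroup F`. -/
noncomputable def semiEquiv : (Fˣ × F × (F ≃+* F)) ≃ semiaffineGroup F :=
  Equiv.ofBijective (fun t => ⟨semiPerm t.1 t.2.1 t.2.2, semiPerm_mem _ _ _⟩) (by
    constructor
    · intro s t h
      exact semiPerm_injective (congrArg Subtype.val h)
    · rintro ⟨σ, a, b, φ, hσ⟩
      refine ⟨(a, b, φ), Subtype.ext (Equiv.ext fun x => ?_)⟩
      simp only [semiPerm_apply, hσ])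

/-- `Fˣ × F ≃ affineGroup F`. -/
noncomputable def affEquiv : (Fˣ × F) ≃ affineGroup F :=
  Equiv.ofBijective (fun t => ⟨semiPerm t.1 t.2 (RingEquiv.refl F), semiPerm_refl_mem _ _⟩) (by
    constructor
    · intro s t h
      have := semiPerm_injective (F := F) (a₁ := (s.1, s.2, RingEquiv.refl F))
        (a₂ := (t.1, t.2, RingEquiv.refl F)) (congrArg Subtype.val h)
      simp only [Prod.mk.injEq, and_true] at this
      exact Prod.ext this.1 this.2
    · rintro ⟨σ, a, b, hσ⟩
      refine ⟨(a, b), Subtype.ext (Equiv.ext fun x => ?_)⟩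
      simp only [semiPerm_apply, hσ, RingEquiv.refl_apply])

theorem card_affineGroup [Finite F] :
    Nat.card (affineGroup F) = (Nat.card F - 1) * Nat.card F := by
  rw [← Nat.card_congr (affEquiv (F := F)), Nat.card_prod, Nat.card_units]

theorem card_semiaffineGroup [Finite F] :
    Nat.card (semiaffineGroup F) = (Nat.card F - 1) * (Nat.card F * Nat.card (F ≃+* F)) := by
  rw [← Nat.card_congr (semiEquiv (F := F)), Nat.card_prod, Nat.card_prod, Nat.card_units]


theorem card_affineGroup_galoisField (p n : ℕ) [Fact p.Prime] (hn : n ≠ 0) :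
    Nat.card (affineGroup (GaloisField p n)) = (p ^ n - 1) * p ^ n := by
  rw [card_affineGroup, GaloisField.card p n hn]

theorem card_semiaffineGroup_galoisField (p n : ℕ) [Fact p.Prime] (hn : n ≠ 0) :
    Nat.card (semiaffineGroup (GaloisField p n)) = (p ^ n - 1) * (p ^ n * n) := by
  rw [card_semiaffineGroup, GaloisField.card p n hn, card_ringAut_galoisField p n hn]

theorem card_affineGroup_gf8 : Nat.card (affineGroup (GaloisField 2 3)) = 56 := by
  have : Fact (Nat.Prime 2) := ⟨Nat.prime_two⟩
  rw [card_affineGroup_galoisField 2 3 (by norm_num)]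
  norm_num

theorem card_semiaffineGroup_gf8 : Nat.card (semiaffineGroup (GaloisField 2 3)) = 168 := by
  have : Fact (Nat.Prime 2) := ⟨Nat.prime_two⟩
  rw [card_semiaffineGroup_galoisField 2 3 (by norm_num)]
  norm_num

theorem card_semiaffineGroup_gf32 : Nat.card (semiaffineGroup (GaloisField 2 5)) = 4960 := by
  have : Fact (Nat.Prime 2) := ⟨Nat.prime_two⟩
  rw [card_semiaffineGroup_galoisField 2 5 (by norm_num)]
  norm_num

/-- The affine group is contained in the semi-affine group. -/
theorem affineGroup_le_semiaffineGroup (R : Type*) [Ring R] :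
    affineGroup R ≤ semiaffineGroup R := by
  rintro σ ⟨a, b, hσ⟩
  exact ⟨a, b, RingEquiv.refl R, fun x => by simp [hσ]⟩

end Cfsg.Agent.Lib.Helper16.AGL1Card
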