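import Mathlib
import Cfsg.Prelude.Def_GeometricClasses
import Cfsg.Agent.Lib.Helper7.AschDefs
import Cfsg.Agent.Lib.Helper11.AschCliffDefs
import Cfsg.Agent.Lib.Helper16.SpADefs
import Cfsg.Agent.Lib.Helper12.S5662I8Q
import Cfsg.Agent.Lib.Helper2.S5662SpTP2
import Cfsg.Agent.Lib.Helper23.S5662SpT
import Cfsg.Agent.Lib.Helper23.S5662SpT2
import Cfsg.Agent.Lib.Helper26.S5662SpT4
import Cfsg.Agent.Lib.Helper26.S5662SpT7a
import Cfsg.Agent.H5.S5662SpT7c
import Cfsg.Agent.H5.S5662SpT7
import Cfsg.Agent.Lib.Helper21.S5673O4a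

/-!
# Even-dimensional orthogonal hub, block OE4 (`q` EVEN): the exits of Clifford theory with a form, with the quadratic
refinement (helper16, for helper19)

Everything is for a non-degenerate quadratic function `Q : (Fin n → F) → F` over a finite field of characteristic 2 and a group
`H ≤ isometryGroup F Q`.

* `isSymplecticForm_polar_even`   : the polar form of `Q` is a non-degenerate alternating form;
* `le_Iso_polar`                  : isometries of `Q` are isometries of the polar form;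
* `isOrthogonalMDecomposition_of_irr_gen` : (any `q`) an invariant non-degenerate decomposition of an irreducible group of
  isometries has pairwise isometric members;
* `tsQuad_of_tiPair`              : an invariant pair of totally isotropic halves (for the polar form) of an irreducible group of
  isometries, `n ≥ 3`, consists of totally singular subspaces for `Q`;
* `quad_pure_eq_zero`             : `Q` vanishes on the pure tensors of a tensor decomposition `polar Q = G₁ ⊗ G₂`
  (`G₂` alternating) when an irreducible group acting on the first factor consists of isometries of `Q`;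
* `tensor_even`                   : the tensor outcome of `clifford_form`: both factors alternating, the tensor form structure,
  and `Q = 0` on pure tensors.
-/

set_option autoImplicit false
set_option linter.unusedSectionVars false
set_option linter.unusedVariables false

namespace Cfsg.Agent.Lib.Helper16.OECliffEven

open Matrix Cfsg Cfsg.Geo Cfsg.Agent.Lib.Helper7.Asch Cfsg.Agent.Lib.Helper16.SpA Cfsg.Agent.Lib.Helper11.Cliff
open scoped Kronecker

variable {F : Type*} [Field F] [Fintype F] {n : ℕ} {Q : (Fin n → F) → F}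

/-! ## basics -/

theorem quad_apply_of_mem {g : GL (Fin n) F} (hg : g ∈ isometryGroup F Q) (v : Fin n → F) :
    Q ((g : Matrix (Fin n) (Fin n) F) *ᵥ v) = Q v := hg v v

theorem quad_zero (hQ : IsNondegenerateQuadraticForm Q) : Q 0 = 0 := by
  have h := hQ.smul 0 0
  rw [zero_smul] at h
  rw [h]
  ring

theorem quad_add (Q : (Fin n → F) → F) (u v : Fin n → F) : Q (u + v) = Q u + Q v + QuadraticMap.polar Q u v := by
  unfold QuadraticMap.polar
  ring

theorem quad_neg (hQ : IsNondegenerateQuadraticForm Q) (v : Fin n → F) : Q (-v) = Q v := by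
  have h := hQ.smul (-1) v
  rw [neg_one_smul] at h
  rw [h]
  ring

theorem polar_self_even (hQ : IsNondegenerateQuadraticForm Q) (h2 : (2 : F) = 0) (v : Fin n → F) :
    QuadraticMap.polar Q v v = 0 := by
  have h1 : v + v = (2 : F) • v := (two_smul F v).symm
  unfold QuadraticMap.polar
  rw [h1, hQ.smul, h2]
  have : Q v + Q v = 2 * Q v := by ring
  have h3 : (0 : F) ^ 2 * Q v - Q v - Q v = -(2 * Q v) := by ring
  rw [h3, h2, zero_mul, neg_zero]

/-- the polar form of a non-degenerate quadratic function in characteristic 2 is a non-degenerate alternating form -/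
theorem isSymplecticForm_polar_even (hQ : IsNondegenerateQuadraticForm Q) (h2 : (2 : F) = 0) :
    IsSymplecticForm (QuadraticMap.polar Q) where
  bilinear := hQ.polar_bilinear
  skew := fun v w => by
    rw [QuadraticMap.polar_comm Q w v]
    exact (Cfsg.Agent.Lib.Helper2.S5662SpTP2.neg_eq_self_of_two_eq_zero h2 _).symm
  alternating := polar_self_even hQ h2
  nondegenerate := hQ.nondegenerate

/-- isometries of `Q` are isometries of the polar form -/
theorem le_Iso_polar (H : Subgroup (GL (Fin n) F)) (hHI : H ≤ isometryGroup F Q) :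
    H ≤ Iso (QuadraticMap.polar Q) := by
  intro g hg u v
  have h := hHI hg
  unfold QuadraticMap.polar
  rw [← Matrix.mulVec_add, quad_apply_of_mem h, quad_apply_of_mem h, quad_apply_of_mem h]

/-! ## the decomposition exit (any `q`) -/

/-- an irreducible group of isometries permutes the members of an invariant non-degenerate decomposition transitively, so the
members are pairwise isometric (generic-`Q` copy of helper21's `S5673O4a.isOrthogonalMDecomposition_of_irr`) -/
theorem isOrthogonalMDecomposition_of_irr_gen (H : Subgroup (GL (Fin n) F))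
    (hHI : H ≤ isometryGroup F Q) (hirr : Irr H) {t : ℕ} (k : ℕ) (D : Fin t → Submodule F (Fin n → F))
    (hD : IsNondegenerateMDecomposition (QuadraticMap.polar Q) k D) (hH : H ≤ decompositionStabilizer D) :
    IsOrthogonalMDecomposition Q k D := by
  refine ⟨hD, ?_⟩
  intro i j
  obtain ⟨h, hh, hmap⟩ := Cfsg.Agent.Lib.Helper21.S5673O4a.exists_map_eq H hirr k D hD.decomp hH i j
  have hinj : Function.Injective (Matrix.toLin' (h : Matrix (Fin n) (Fin n) F)) := by
    intro x y hxy
    have h1 := congrArg (fun v => ((h⁻¹ : GL (Fin n) F) : Matrix (Fin n) (Fin n) F) *ᵥ v) hxy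
    simp only [Matrix.toLin'_apply, Matrix.mulVec_mulVec] at h1
    rw [← Units.val_mul, inv_mul_cancel, Units.val_one, Matrix.one_mulVec, Matrix.one_mulVec] at h1
    exact h1
  refine ⟨(Submodule.equivMapOfInjective _ hinj (D i)).trans (LinearEquiv.ofEq _ _ hmap), ?_⟩
  intro w
  have h1 : (((Submodule.equivMapOfInjective _ hinj (D i)).trans (LinearEquiv.ofEq _ _ hmap)) w : Fin n → F) =
      (h : Matrix (Fin n) (Fin n) F) *ᵥ (w : Fin n → F) := by
    rw [LinearEquiv.trans_apply, LinearEquiv.coe_ofEq_apply, Submodule.coe_equivMapOfInjective_apply,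
      Matrix.toLin'_apply]
  rw [h1]
  exact quad_apply_of_mem (hHI hh) _

/-! ## the pair of totally isotropic halves -/

/-- the singular vectors of a subspace that is totally isotropic for the polar form (characteristic 2) -/
def singSub (hQ : IsNondegenerateQuadraticForm Q) (W : Submodule F (Fin n → F))
    (hW : IsTotallySingularFor (QuadraticMap.polar Q) W) : Submodule F (Fin n → F) where
  carrier := {w | w ∈ W ∧ Q w = 0}
  add_mem' := by
    rintro a b ⟨ha, ha0⟩ ⟨hb, hb0⟩
    refine ⟨W.add_mem ha hb, ?_⟩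
    rw [quad_add Q, ha0, hb0, hW a ha b hb]
    ring
  zero_mem' := ⟨W.zero_mem, quad_zero hQ⟩
  smul_mem' := by
    rintro c a ⟨ha, ha0⟩
    refine ⟨W.smul_mem c ha, ?_⟩
    rw [hQ.smul, ha0, mul_zero]

theorem mem_singSub (hQ : IsNondegenerateQuadraticForm Q) (W : Submodule F (Fin n → F))
    (hW : IsTotallySingularFor (QuadraticMap.polar Q) W) (w : Fin n → F) :
    w ∈ singSub hQ W hW ↔ w ∈ W ∧ Q w = 0 := Iff.rfl

/-- `Q` is injective on a totally isotropic subspace without non-zero singular vectors (characteristic 2) -/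
theorem quad_injOn_of_singSub_eq_bot (hQ : IsNondegenerateQuadraticForm Q) (h2 : (2 : F) = 0)
    (W : Submodule F (Fin n → F)) (hW : IsTotallySingularFor (QuadraticMap.polar Q) W)
    (h0 : singSub hQ W hW = ⊥) : ∀ u ∈ W, ∀ v ∈ W, Q u = Q v → u = v := by
  intro u hu v hv huv
  have hmem : u + -v ∈ singSub hQ W hW := by
    refine ⟨W.add_mem hu (W.neg_mem hv), ?_⟩
    rw [quad_add Q, quad_neg hQ, hW u hu (-v) (W.neg_mem hv), huv, add_zero]
    have : Q v + Q v = 2 * Q v := by ring
    rw [this, h2, zero_mul]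
  rw [h0, Submodule.mem_bot] at hmem
  exact add_neg_eq_zero.mp hmem

/-- a totally isotropic subspace without non-zero singular vectors has dimension at most 1 (characteristic 2) -/
theorem finrank_le_one_of_singSub_eq_bot (hQ : IsNondegenerateQuadraticForm Q) (h2 : (2 : F) = 0)
    (W : Submodule F (Fin n → F)) (hW : IsTotallySingularFor (QuadraticMap.polar Q) W)
    (h0 : singSub hQ W hW = ⊥) : Module.finrank F W ≤ 1 := by
  classical
  have hinj : Function.Injective (fun w : W => Q (w : Fin n → F)) := by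
    intro a b hab
    exact Subtype.ext (quad_injOn_of_singSub_eq_bot hQ h2 W hW h0 a a.2 b b.2 hab)
  have hcard := Fintype.card_le_of_injective _ hinj
  rw [Module.card_eq_pow_finrank (K := F) (V := W)] at hcard
  by_contra hlt
  push Not at hlt
  have h1F : 1 < Fintype.card F := Fintype.one_lt_card
  have h3 : Fintype.card F ^ 2 ≤ Fintype.card F ^ Module.finrank F W := Nat.pow_le_pow_right (by omega) hlt
  have h5 : Fintype.card F ^ 2 = Fintype.card F * Fintype.card F := sq _
  nlinarith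

/-- **the pair of totally isotropic halves is a pair of totally singular halves** (`q` even, `H` irreducible, `n ≥ 3`) -/
theorem tsQuad_of_tiPair (hQ : IsNondegenerateQuadraticForm Q) (h2 : (2 : F) = 0) (hn : 3 ≤ n)
    (H : Subgroup (GL (Fin n) F)) (hHI : H ≤ isometryGroup F Q) (hirr : Irr H) (m : ℕ)
    (D : Fin 2 → Submodule F (Fin n → F)) (hD : IsMDecomposition m D)
    (hts : ∀ i, IsTotallySingularFor (QuadraticMap.polar Q) (D i)) (hH : H ≤ decompositionStabilizer D) :
    ∀ i, IsTotallySingularQuad Q (D i) := by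
  classical
  obtain ⟨Z, hZ⟩ : ∃ Z : Submodule F (Fin n → F), Z = ⨆ i, singSub hQ (D i) (hts i) := ⟨_, rfl⟩
  have hinv : ∀ s ∈ matrixSet H, Z.map (Matrix.toLin' s) ≤ Z := by
    rintro _ ⟨h, hh, rfl⟩
    obtain ⟨σ, hσ⟩ := hH hh
    rw [hZ, Submodule.map_iSup]
    refine iSup_le fun i => ?_
    refine le_trans ?_ (le_iSup _ (σ i))
    rintro _ ⟨w, ⟨hw, hw0⟩, rfl⟩
    refine ⟨?_, ?_⟩
    · rw [← hσ i]
      exact ⟨w, hw, rfl⟩
    · rw [Matrix.toLin'_apply, quad_apply_of_mem (hHI hh), hw0]
  have hdisj : Disjoint (D 0) (D 1) := hD.indep.pairwiseDisjoint (by decide)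
  rcases hirr Z hinv with hbot | htop
  · -- no singular vectors: the halves are lines, `n ≤ 2`
    exfalso
    have h0 : singSub hQ (D 0) (hts 0) = ⊥ := by
      rw [eq_bot_iff, ← hbot, hZ]
      exact le_iSup (fun i => singSub hQ (D i) (hts i)) 0
    have h1 := finrank_le_one_of_singSub_eq_bot hQ h2 (D 0) (hts 0) h0
    rw [hD.finrank_eq 0] at h1
    have h2m := Cfsg.Agent.Lib.Helper2.S5662SpTP2.two_mul_of_isMDecomposition m D hD
    omega
  · intro i w hw
    have hwZ : w ∈ Z := by rw [htop]; exact Submodule.mem_top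
    rw [hZ] at hwZ
    have hsup : (⨆ i, singSub hQ (D i) (hts i)) = singSub hQ (D 0) (hts 0) ⊔ singSub hQ (D 1) (hts 1) := by
      apply le_antisymm
      · refine iSup_le fun j => ?_
        fin_cases j
        · exact le_sup_left
        · exact le_sup_right
      · exact sup_le (le_iSup (fun i => singSub hQ (D i) (hts i)) 0) (le_iSup (fun i => singSub hQ (D i) (hts i)) 1)
    rw [hsup] at hwZ
    obtain ⟨a, ⟨ha, ha0⟩, b, ⟨hb, hb0⟩, hab⟩ := Submodule.mem_sup.mp hwZ
    fin_cases i
    · -- `w ∈ D 0`: `b = w - a ∈ D 0 ⊓ D 1`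
      have hb' : b ∈ D 0 := by
        have : b = w - a := by rw [← hab]; abel
        rw [this]
        exact (D 0).sub_mem hw ha
      have hb00 : b = 0 := by
        have := hdisj.le_bot (show b ∈ D 0 ⊓ D 1 from ⟨hb', hb⟩)
        simpa using this
      rw [← hab, hb00, add_zero]
      exact ha0
    · have ha' : a ∈ D 1 := by
        have : a = w - b := by rw [← hab]; abel
        rw [this]
        exact (D 1).sub_mem hw hb
      have ha00 : a = 0 := by
        have := hdisj.le_bot (show a ∈ D 0 ⊓ D 1 from ⟨ha, ha'⟩)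
        simpa using this
      rw [← hab, ha00, zero_add]
      exact hb0

/-! ## the tensor exit -/

theorem formOfGram_kron_pure {d s : ℕ} (G₁ : Matrix (Fin d) (Fin d) F) (G₂ : Matrix (Fin s) (Fin s) F)
    (u u' : Fin d → F) (w w' : Fin s → F) :
    formOfGram id (G₁ ⊗ₖ G₂) (fun a : Fin d × Fin s => u a.1 * w a.2) (fun a => u' a.1 * w' a.2) =
      (u ⬝ᵥ G₁ *ᵥ u') * (w ⬝ᵥ G₂ *ᵥ w') := by
  simp only [formOfGram, Fintype.sum_prod_type, Matrix.kroneckerMap_apply, id, dotProduct, Matrix.mulVec]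
  rw [Finset.sum_mul_sum]
  refine Finset.sum_congr rfl fun a _ => Finset.sum_congr rfl fun b _ => ?_
  rw [show (u a * ∑ a', G₁ a a' * u' a') * (w b * ∑ b', G₂ b b' * w' b') =
    u a * w b * ((∑ a', G₁ a a' * u' a') * ∑ b', G₂ b b' * w' b') by ring, Finset.sum_mul_sum, Finset.mul_sum]
  refine Finset.sum_congr rfl fun a' _ => ?_
  rw [Finset.mul_sum]
  refine Finset.sum_congr rfl fun b' _ => ?_
  ring

/-- `(y ⊗ 1)` on a pure tensor -/
theorem kron_one_mulVec_pure {d s : ℕ} (y : Matrix (Fin d) (Fin d) F) (v : Fin d → F) (w : Fin s → F) :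
    (y ⊗ₖ (1 : Matrix (Fin s) (Fin s) F)) *ᵥ (fun a : Fin d × Fin s => v a.1 * w a.2) =
      fun a : Fin d × Fin s => (y *ᵥ v) a.1 * w a.2 := by
  funext ⟨a, b⟩
  simp only [Matrix.mulVec, dotProduct, Fintype.sum_prod_type, Matrix.kroneckerMap_apply, Matrix.one_apply]
  rw [Finset.sum_mul]
  refine Finset.sum_congr rfl fun a' _ => ?_
  rw [Finset.sum_eq_single b]
  · rw [if_pos rfl]
    ring
  · intro b' _ hb'
    rw [if_neg (Ne.symm hb')]
    ring
  · intro h
    exact absurd (Finset.mem_univ b) h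

/-- the pure-tensor vector of `u`, `w` in the coordinates `e`, `P` -/
def pureVec {d s : ℕ} (e : Fin n ≃ Fin d × Fin s) (P : GL (Fin n) F) (u : Fin d → F) (w : Fin s → F) : Fin n → F :=
  (P : Matrix (Fin n) (Fin n) F) *ᵥ ((fun a : Fin d × Fin s => u a.1 * w a.2) ∘ e)

theorem pureVec_add {d s : ℕ} (e : Fin n ≃ Fin d × Fin s) (P : GL (Fin n) F) (u u' : Fin d → F) (w : Fin s → F) :
    pureVec e P (u + u') w = pureVec e P u w + pureVec e P u' w := by
  unfold pureVec
  rw [← Matrix.mulVec_add]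
  congr 1
  funext k
  simp only [Function.comp_apply, Pi.add_apply]
  ring

theorem pureVec_smul {d s : ℕ} (e : Fin n ≃ Fin d × Fin s) (P : GL (Fin n) F) (c : F) (u : Fin d → F) (w : Fin s → F) :
    pureVec e P (c • u) w = c • pureVec e P u w := by
  unfold pureVec
  rw [← Matrix.mulVec_smul]
  congr 1
  funext k
  simp only [Function.comp_apply, Pi.smul_apply, smul_eq_mul]
  ring

theorem kronL_mulVec_pureVec {d s : ℕ} (e : Fin n ≃ Fin d × Fin s) (P : GL (Fin n) F) (y : GL (Fin d) F)
    (u : Fin d → F) (w : Fin s → F) :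
    ((kronL e P y : GL (Fin n) F) : Matrix (Fin n) (Fin n) F) *ᵥ pureVec e P u w =
      pureVec e P ((y : Matrix (Fin d) (Fin d) F) *ᵥ u) w := by
  rw [kronL_val]
  unfold kronLM pureVec
  rw [Cfsg.Agent.Lib.Helper23.S5662SpT.conj_reindex_mulVec, kron_one_mulVec_pure]

/-- **`Q` vanishes on the pure tensors** (`q` even): `u ↦ Q (u ⊗ w)` is additive (the second Gram factor is alternating),
square-homogeneous and invariant under the irreducible group `Y` acting on the first factor -/
theorem quad_pure_eq_zero (hQ : IsNondegenerateQuadraticForm Q) (h2 : (2 : F) = 0) {d s : ℕ} (hd : 2 ≤ d)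
    (e : Fin n ≃ Fin d × Fin s) (P : GL (Fin n) F) (Y : Subgroup (GL (Fin d) F)) (hY : Irr Y)
    (G₁ : Matrix (Fin d) (Fin d) F) (G₂ : Matrix (Fin s) (Fin s) F) (h2s : G₂ᵀ = G₂) (hd2 : ∀ b, G₂ b b = 0)
    (hT : ∀ x y : Fin d × Fin s → F,
      QuadraticMap.polar Q ((P : Matrix (Fin n) (Fin n) F) *ᵥ (x ∘ e)) ((P : Matrix (Fin n) (Fin n) F) *ᵥ (y ∘ e)) =
        formOfGram id (G₁ ⊗ₖ G₂) x y)
    (hYI : ∀ y ∈ Y, kronL e P y ∈ isometryGroup F Q) (x₁ : Fin d → F) (x₂ : Fin s → F) :
    Q ((P : Matrix (Fin n) (Fin n) F) *ᵥ ((fun a : Fin d × Fin s => x₁ a.1 * x₂ a.2) ∘ e)) = 0 := by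
  have key := Cfsg.Agent.Lib.Helper12.S5662I8Q.eq_zero_of_additive_sq h2 hd (matrixSet Y) hY
    (fun u => Q (pureVec e P u x₂)) ?_ ?_ ?_ x₁
  · exact key
  · intro u v
    show Q (pureVec e P (u + v) x₂) = Q (pureVec e P u x₂) + Q (pureVec e P v x₂)
    rw [pureVec_add, quad_add Q]
    have h0 : QuadraticMap.polar Q (pureVec e P u x₂) (pureVec e P v x₂) = 0 := by
      unfold pureVec
      rw [hT, formOfGram_kron_pure, Cfsg.H5.S5662SpT7c.dot_mulVec_self_eq_zero h2 G₂ h2s hd2 x₂, mul_zero]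
    rw [h0, add_zero]
  · intro a v
    show Q (pureVec e P (a • v) x₂) = a ^ 2 * Q (pureVec e P v x₂)
    rw [pureVec_smul, hQ.smul]
  · rintro _ ⟨y, hy, rfl⟩ v hv
    show Q (pureVec e P ((y : Matrix (Fin d) (Fin d) F) *ᵥ v) x₂) = 0
    rw [← kronL_mulVec_pureVec, quad_apply_of_mem (hYI y hy)]
    exact hv

/-- a symmetric invertible Gram matrix with zero diagonal in characteristic 2 gives a non-degenerate alternating form -/
theorem fog_symplectic_even {d : ℕ} (G : Matrix (Fin d) (Fin d) F) (hG : IsUnit G.det) (hsym : Gᵀ = G)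
    (hdiag : ∀ a, G a a = 0) (h2 : (2 : F) = 0) : IsSymplecticForm (formOfGram id G) := by
  refine ⟨Cfsg.Agent.Lib.Helper26.S5662SpT4.fog_bilinear G, ?_, ?_, Cfsg.Agent.Lib.Helper26.S5662SpT4.fog_nondeg G hG⟩
  · intro v w
    rw [Cfsg.Agent.Lib.Helper26.S5662SpT4.fog_swap G v w, hsym]
    exact (Cfsg.Agent.Lib.Helper2.S5662SpTP2.neg_eq_self_of_two_eq_zero h2 _).symm
  · intro v
    rw [Cfsg.Agent.Lib.Helper26.S5662SpT4.fog_eq]
    exact Cfsg.H5.S5662SpT7c.dot_mulVec_self_eq_zero h2 G hsym hdiag v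

/-- **the tensor outcome of Clifford theory with a form, `q` even**: both factors carry non-degenerate alternating forms, the
polar form is their tensor product, and `Q` vanishes on the pure tensors -/
theorem tensor_even (hQ : IsNondegenerateQuadraticForm Q) (hq : ¬ Odd (Fintype.card F))
    (H N : Subgroup (GL (Fin n) F)) (hHI : H ≤ isometryGroup F Q) (hirr : Irr H) (hNH : N ≤ H)
    {d s : ℕ} (e : Fin n ≃ Fin d × Fin s) (P : GL (Fin n) F) (Y : Subgroup (GL (Fin d) F))
    (G₁ : Matrix (Fin d) (Fin d) F) (G₂ : Matrix (Fin s) (Fin s) F) (hd : 2 ≤ d) (hs : 2 ≤ s) (hY : AbsIrr Y)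
    (hN : N = Y.map (kronL e P)) (hG1 : IsUnit G₁.det) (hG2 : IsUnit G₂.det)
    (hinvY : ∀ y ∈ Y, (y : Matrix (Fin d) (Fin d) F)ᵀ * G₁ * (y : Matrix (Fin d) (Fin d) F) = G₁)
    (hle : H ≤ tensorProductSubgroup d s e P)
    (hT : ∀ x y : Fin d × Fin s → F,
      QuadraticMap.polar Q ((P : Matrix (Fin n) (Fin n) F) *ᵥ (x ∘ e)) ((P : Matrix (Fin n) (Fin n) F) *ᵥ (y ∘ e)) =
        formOfGram id (G₁ ⊗ₖ G₂) x y) :
    ∃ (f₁ : (Fin d → F) → (Fin d → F) → F) (f₂ : (Fin s → F) → (Fin s → F) → F),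
      IsSymplecticForm f₁ ∧ IsSymplecticForm f₂ ∧ IsTensorFormStructure id (QuadraticMap.polar Q) f₁ f₂ e P ∧
      ∀ (x₁ : Fin d → F) (x₂ : Fin s → F),
        Q ((P : Matrix (Fin n) (Fin n) F) *ᵥ ((fun a : Fin d × Fin s => x₁ a.1 * x₂ a.2) ∘ e)) = 0 := by
  have h20 : (2 : F) = 0 := Cfsg.Agent.Lib.Helper2.S5662SpTP2.two_eq_zero_of_not_odd hq
  have hf := isSymplecticForm_polar_even hQ h20
  have hG1ne : G₁ ≠ 0 := by
    rintro rfl
    have hd0 : Nonempty (Fin d) := ⟨⟨0, by omega⟩⟩
    rw [Matrix.det_zero] at hG1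
    exact not_isUnit_zero hG1
  have hG2ne : G₂ ≠ 0 := by
    rintro rfl
    have hs0 : Nonempty (Fin s) := ⟨⟨0, by omega⟩⟩
    rw [Matrix.det_zero] at hG2
    exact not_isUnit_zero hG2
  obtain ⟨ε, hε, h1, h2⟩ := Cfsg.Agent.Lib.Helper23.S5662SpT.exists_eps G₁ G₂ hG1ne hG2ne
    (Cfsg.Agent.Lib.Helper23.S5662SpT.kron_skew hf e P G₁ G₂ hT)
  have hneg : (-1 : F) = 1 := by
    have : (1 : F) + 1 = 0 := by rw [one_add_one_eq_two]; exact h20
    exact (eq_neg_of_add_eq_zero_left this).symm
  have h1' : G₁ᵀ = G₁ := by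
    rcases hε with rfl | rfl
    · rw [h1, one_smul]
    · rw [h1, hneg, one_smul]
  have h2' : G₂ᵀ = G₂ := by
    rcases hε with rfl | rfl
    · rw [h2, hneg, one_smul]
    · rw [h2, neg_neg, one_smul]
  have hd1 : ∀ a, G₁ a a = 0 := fun a =>
    Cfsg.Agent.Lib.Helper26.S5662SpT7a.diag_zero_of_irr hq hd Y hY.1 G₁ h1' hinvY a
  have hd2 : ∀ b, G₂ b b = 0 := fun b =>
    Cfsg.H5.S5662SpT7.diag_zero_right hf hq H (le_Iso_polar H hHI) hirr (by omega) hs e P G₁ G₂ hG1 hG2 h2' hT hle b
  refine ⟨formOfGram id G₁, formOfGram id G₂, fog_symplectic_even G₁ hG1 h1' hd1 h20,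
    fog_symplectic_even G₂ hG2 h2' hd2 h20, ⟨1, one_ne_zero, fun x y => ?_⟩, ?_⟩
  · rw [Cfsg.Agent.Lib.Helper26.S5662SpT4.gram_fog, Cfsg.Agent.Lib.Helper26.S5662SpT4.gram_fog, one_mul]
    exact hT x y
  · refine quad_pure_eq_zero hQ h20 hd e P Y hY.1 G₁ G₂ h2' hd2 hT ?_
    intro y hy
    refine hHI (hNH ?_)
    rw [hN]
    exact ⟨y, hy, rfl⟩

end Cfsg.Agent.Lib.Helper16.OECliffEven
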