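import Mathlib
import Cfsg.Prelude.Def_GeometricClasses
import Cfsg.Agent.Lib.Helper7.AschDefs
import Cfsg.Agent.Lib.Helper8.S5630I4TENS3
import Cfsg.Agent.Lib.Helper11.AschCliffDefs
import Cfsg.Agent.Lib.Helper11.FormCliffDefs
import Cfsg.Agent.Lib.Helper16.SpADefs
import Cfsg.Agent.Lib.Helper2.S5662SpTP2
import Cfsg.Agent.Lib.Helper2.S5662SpT6c
import Cfsg.Agent.Lib.Helper23.S5662SpT
import Cfsg.Agent.Lib.Helper23.S5662SpT2
import Cfsg.Agent.Lib.Helper26.S5662SpT4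
import Cfsg.Agent.Lib.Helper26.S5662SpT7a
import Cfsg.Agent.H5.S5662SpT7c
import Cfsg.Agent.H5.S5662SpT7

/-!
# S5662, block SpI4: the Sp wrappers of the outcomes of Clifford theory with a form — REAL (helper16)

Same assembly as `SpACliffSkel.lean`, from the landed pieces: P2o, P2e, T6c (helper2), T1, T2, T3, T5, T6a, T6b (helper23), T4, T7a (helper26),
T7c, T7b (helper5).
-/

set_option autoImplicit false
set_option linter.unusedSectionVars false
set_option linter.unusedVariables false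

namespace Cfsg.Agent.Lib.Helper16.SpACliffReal

open Matrix Cfsg.Geo Cfsg.Agent.Lib.Helper7.Asch Cfsg.Agent.Lib.Helper16.SpA Cfsg.Agent.Lib.Helper11.Cliff
  Cfsg.Agent.Lib.Helper11.FCliff
open scoped Kronecker

variable {F : Type*} [Field F] [Fintype F] {n : ℕ} {f : (Fin n → F) → (Fin n → F) → F}

/-- the form `f`, transported by `P` and `e`, has Gram matrix `G₁ ⊗ G₂` -/
def TF (f : (Fin n → F) → (Fin n → F) → F) {d s : ℕ} (e : Fin n ≃ Fin d × Fin s) (P : GL (Fin n) F)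
    (G₁ : Matrix (Fin d) (Fin d) F) (G₂ : Matrix (Fin s) (Fin s) F) : Prop :=
  ∀ x y : Fin d × Fin s → F,
    f ((P : Matrix (Fin n) (Fin n) F) *ᵥ (x ∘ e)) ((P : Matrix (Fin n) (Fin n) F) *ᵥ (y ∘ e)) =
      formOfGram id (G₁ ⊗ₖ G₂) x y

/-- outcome (b) -/
theorem sp_of_tsPair (hf : IsSymplecticForm f) (H : Subgroup (GL (Fin n) F)) (hHI : H ≤ Iso f) (k : ℕ)
    (D : Fin 2 → Submodule F (Fin n → F)) (hD : IsMDecomposition k D) (hts : ∀ i, IsTotallySingularFor f (D i))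
    (hH : H ≤ decompositionStabilizer D) : InSp f H := by
  by_cases hq : Odd (Fintype.card F)
  · exact .tsPair k D hq (Cfsg.Agent.Lib.Helper2.S5662SpTP2.two_mul_of_isMDecomposition k D hD) hD hts hH
  · exact Cfsg.Agent.Lib.Helper2.S5662SpTP2.quadratic_of_tsPair hf hq H hHI k D hD hts hH

/-- outcome (d) -/
theorem sp_tensor (hf : IsSymplecticForm f) (H : Subgroup (GL (Fin n) F)) (hHI : H ≤ Iso f) (hirr : Irr H)
    (hKT : ∀ (K : Subalgebra F (Matrix (Fin n) (Fin n) F)), IsFieldSubalgebra 2 K → IsAdjointClosedFor f K →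
      H ≤ subalgebraNormalizer K → InSp f H)
    {d s : ℕ} (e : Fin n ≃ Fin d × Fin s) (P : GL (Fin n) F) (Y : Subgroup (GL (Fin d) F))
    (G₁ : Matrix (Fin d) (Fin d) F) (G₂ : Matrix (Fin s) (Fin s) F) (hd : 2 ≤ d) (hs : 2 ≤ s) (hY : AbsIrr Y)
    (hG1 : IsUnit G₁.det) (hG2 : IsUnit G₂.det)
    (hinvY : ∀ y ∈ Y, (y : Matrix (Fin d) (Fin d) F)ᵀ * G₁ * (y : Matrix (Fin d) (Fin d) F) = G₁)
    (hle : H ≤ tensorProductSubgroup d s e P) (hT : TF f e P G₁ G₂) : InSp f H := by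
  have hG1ne : G₁ ≠ 0 := by
    rintro rfl
    have hd0 : Nonempty (Fin d) := ⟨⟨0, by omega⟩⟩
    rw [Matrix.det_zero] at hG1
    exact not_isUnit_zero hG1
  have hG2ne : G₂ ≠ 0 := by
    rintro rfl
    have hs0 : Nonempty (Fin s) := ⟨⟨0, by omega⟩⟩
    rw [Matrix.det_zero] at hG2
    exact not_isUnit_zero hG2
  obtain ⟨ε, hε, h1, h2⟩ := Cfsg.Agent.Lib.Helper23.S5662SpT.exists_eps G₁ G₂ hG1ne hG2ne
    (Cfsg.Agent.Lib.Helper23.S5662SpT.kron_skew hf e P G₁ G₂ hT)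
  by_cases hq : Odd (Fintype.card F)
  · -- `q` odd
    have hswap := Cfsg.Agent.Lib.Helper8.S5630I4TENS3.tensorProductSubgroup_swap (F := F) e P
    have hTs : TF f (e.trans (Equiv.prodComm (Fin d) (Fin s))) P G₂ G₁ :=
      Cfsg.Agent.Lib.Helper23.S5662SpT.tf_swap e P G₁ G₂ hT
    rcases hε with rfl | rfl
    · -- `G₁` symmetric, `G₂` skew: swap
      rw [one_smul] at h1
      rw [neg_smul, one_smul] at h2
      rcases (by omega : d = 2 ∨ 3 ≤ d) with rfl | hd3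
      · obtain ⟨Z, δ, hδ, hZ, hskew, hns, hnorm⟩ := Cfsg.Agent.Lib.Helper23.S5662SpT.exists_skew_elt hf hq H hHI
          (by omega : 1 ≤ s) (e.trans (Equiv.prodComm (Fin 2) (Fin s))) P G₂ G₁ hG2 hG1 h1 hTs (hswap ▸ hle)
        exact Cfsg.Agent.Lib.Helper2.S5662SpT6c.sp_of_skew_elt hf hq H hHI hirr hKT Z δ hδ hZ hskew hns hnorm
      · exact Cfsg.Agent.Lib.Helper26.S5662SpT4.sp_tensor_std hf hq H (e.trans (Equiv.prodComm (Fin d) (Fin s))) P G₂ G₁
          hG2 hG1 h2 h1 hd3 hTs (hswap ▸ hle)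
    · -- `G₁` skew, `G₂` symmetric
      rw [neg_smul, one_smul] at h1
      rw [neg_neg, one_smul] at h2
      rcases (by omega : s = 2 ∨ 3 ≤ s) with rfl | hs3
      · obtain ⟨Z, δ, hδ, hZ, hskew, hns, hnorm⟩ := Cfsg.Agent.Lib.Helper23.S5662SpT.exists_skew_elt hf hq H hHI
          (by omega : 1 ≤ d) e P G₁ G₂ hG1 hG2 h2 hT hle
        exact Cfsg.Agent.Lib.Helper2.S5662SpT6c.sp_of_skew_elt hf hq H hHI hirr hKT Z δ hδ hZ hskew hns hnorm
      · exact Cfsg.Agent.Lib.Helper26.S5662SpT4.sp_tensor_std hf hq H e P G₁ G₂ hG1 hG2 h1 h2 hs3 hT hle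
  · -- `q` even
    have h20 : (2 : F) = 0 := Cfsg.Agent.Lib.Helper2.S5662SpTP2.two_eq_zero_of_not_odd hq
    have hneg : (-1 : F) = 1 := by
      have : (1 : F) + 1 = 0 := by rw [one_add_one_eq_two]; exact h20
      exact (eq_neg_of_add_eq_zero_left this).symm
    have h1' : G₁ᵀ = G₁ := by
      rcases hε with rfl | rfl
      · rw [h1, one_smul]
      · rw [h1, hneg, one_smul]
    have h2' : G₂ᵀ = G₂ := by
      rcases hε with rfl | rfl
      · rw [h2, hneg, one_smul]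
      · rw [h2, neg_neg, one_smul]
    exact Cfsg.H5.S5662SpT7c.sp_tensor_even_of_factors hf hq H e P G₁ G₂ h1' h2'
      (fun a => Cfsg.Agent.Lib.Helper26.S5662SpT7a.diag_zero_of_irr hq hd Y hY.1 G₁ h1' hinvY a)
      (fun b => Cfsg.H5.S5662SpT7.diag_zero_right hf hq H hHI hirr (by omega) hs e P G₁ G₂ hG1 hG2 h2' hT hle b) hT
      (fun h hh => Cfsg.Agent.Lib.Helper23.S5662SpT.exists_factors e P G₁ G₂ hG1 hG2 hT h (hle hh) (hHI hh))

/-- an alternating form is a reflexive sesquilinear form for `σ = id` -/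
theorem rsForm_of_symplectic (hf : IsSymplecticForm f) : RSForm (RingEquiv.refl F) f where
  add_left := hf.bilinear.add_left
  smul_left := hf.bilinear.smul_left
  add_right := hf.bilinear.add_right
  smul_right := fun c v x => by
    rw [hf.bilinear.smul_right]
    rfl
  refl := fun u v h => by rw [hf.skew, h, neg_zero]
  nondeg := hf.nondegenerate

theorem fixesForm_of_le_Iso' (H : Subgroup (GL (Fin n) F)) (hHI : H ≤ Iso f) : FixesForm (matrixSet H) f := by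
  rintro _ ⟨g, hg, rfl⟩ u v
  exact hHI hg u v

/-- the four outcomes of Clifford theory with a form give a member of a class -/
theorem sp_of_outcome (hf : IsSymplecticForm f) (H N : Subgroup (GL (Fin n) F)) (hHI : H ≤ Iso f) (hirr : Irr H)
    (hKT : ∀ (r : ℕ) (K : Subalgebra F (Matrix (Fin n) (Fin n) F)), r.Prime → IsFieldSubalgebra r K →
      IsAdjointClosedFor f K → H ≤ subalgebraNormalizer K → InSp f H)
    (hout : (∃ (t m : ℕ) (D : Fin t → Submodule F (Fin n → F)), IsNondegenerateMDecomposition f m D ∧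
        H ≤ decompositionStabilizer D) ∨
      (∃ (m : ℕ) (D : Fin 2 → Submodule F (Fin n → F)), IsMDecomposition m D ∧
        (∀ i, IsTotallySingularFor f (D i)) ∧ H ≤ decompositionStabilizer D) ∨
      (∃ (r : ℕ) (K : Subalgebra F (Matrix (Fin n) (Fin n) F)), r.Prime ∧ IsFieldSubalgebra r K ∧
        IsAdjointClosedFor f K ∧ H ≤ subalgebraNormalizer K) ∨
      (∃ (d s : ℕ) (e : Fin n ≃ Fin d × Fin s) (P : GL (Fin n) F) (Y : Subgroup (GL (Fin d) F))
        (G₁ : Matrix (Fin d) (Fin d) F) (G₂ : Matrix (Fin s) (Fin s) F),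
        2 ≤ d ∧ 2 ≤ s ∧ AbsIrr Y ∧ N = Y.map (kronL e P) ∧ IsUnit G₁.det ∧ IsUnit G₂.det ∧
        (∀ y ∈ Y, (y : Matrix (Fin d) (Fin d) F)ᵀ * G₁ * (y : Matrix (Fin d) (Fin d) F).map (RingEquiv.refl F) = G₁) ∧
        H ≤ tensorProductSubgroup d s e P ∧
        ∀ x y : Fin d × Fin s → F,
          f ((P : Matrix (Fin n) (Fin n) F) *ᵥ (x ∘ e)) ((P : Matrix (Fin n) (Fin n) F) *ᵥ (y ∘ e)) =
            formOfGram (RingEquiv.refl F) (G₁ ⊗ₖ G₂) x y)) : InSp f H := by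
  rcases hout with ⟨t, m, D, hD, hle⟩ | ⟨m, D, hD, hts, hle⟩ | ⟨r, K, hr, hK, hac, hle⟩ |
    ⟨d, s, e, P, Y, G₁, G₂, hd, hs, hY, _, hG1, hG2, hinvY, hle, hform⟩
  · exact .decomp m D hD hle
  · exact sp_of_tsPair hf H hHI m D hD hts hle
  · exact hKT r K hr hK hac hle
  · refine sp_tensor hf H hHI hirr (fun K hK hac hle' => hKT 2 K Nat.prime_two hK hac hle') e P Y G₁ G₂ hd hs hY hG1 hG2
      ?_ hle ?_
    · intro y hy
      have h := hinvY y hy
      have hmap : (y : Matrix (Fin d) (Fin d) F).map (RingEquiv.refl F) = (y : Matrix (Fin d) (Fin d) F) := by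
        ext i j
        rfl
      rwa [hmap] at h
    · intro x y
      rw [hform x y]
      rfl

end Cfsg.Agent.Lib.Helper16.SpACliffReal
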