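import Mathlib
import Cfsg.Prelude.Def_GeometricClasses
import Cfsg.Agent.Lib.Helper7.AschDefs
import Cfsg.Agent.Lib.Helper11.FormCliffMain
import Cfsg.Agent.Lib.Helper16.SpACliffReal
import Cfsg.Agent.Lib.Helper16.OECliffEven
import Cfsg.Agent.Lib.Helper18.FormFieldQ
import Cfsg.Agent.Lib.Helper1.OEDefs

/-!
# Even-dimensional orthogonal hub, block OE4 (`q` EVEN): Clifford theory with the quadratic form, wired (helper16, for helper19)

Against helper1's vocabulary `Cfsg.Agent.Lib.Helper1.OE.InClassOE` (members `X ⊓ isometryGroup F Q`).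

* `oe_field`            : (any `q`) the field exit: `H ≤ I(Q)` irreducible normalising an adjoint-closed field subalgebra of prime
  degree: class (3a) or (3b)  [helper18's `FormFieldQ.field_exit`];
* `oe_of_outcome_even`  : the four structured outcomes of helper11's `clifford_form` for `f = polar Q`, `q` even, give a member;
* `cliffordOE_even`     : `N ⊴ H`, `H ≤ I(Q)` absolutely irreducible, `q` even, `n ≥ 3`: `H` lies in a member, or `N` is scalar or
  absolutely irreducible.
-/

set_option autoImplicit false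
set_option linter.unusedSectionVars false
set_option linter.unusedVariables false

namespace Cfsg.Agent.Lib.Helper16.OECliffEven

open Matrix Cfsg Cfsg.Geo Cfsg.Agent.Lib.Helper7.Asch Cfsg.Agent.Lib.Helper16.SpA Cfsg.Agent.Lib.Helper11.Cliff
  Cfsg.Agent.Lib.Helper1.OE
open scoped Kronecker

variable {F : Type*} [Field F] [Fintype F] {n : ℕ} {Q : (Fin n → F) → F}

/-- **the field exit** (any `q`): class (3a) or (3b) -/
theorem oe_field (hQ : IsNondegenerateQuadraticForm Q) (hn : 3 ≤ n) (H : Subgroup (GL (Fin n) F))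
    (hHI : H ≤ isometryGroup F Q) (hirr : Irr H) (r : ℕ) (K : Subalgebra F (Matrix (Fin n) (Fin n) F)) (hr : r.Prime)
    (hK : IsFieldSubalgebra r K) (hac : IsAdjointClosedFor (QuadraticMap.polar Q) K)
    (hle : H ≤ subalgebraNormalizer K) : InClassOE Q H := by
  rcases Cfsg.Agent.Lib.Helper18.FormFieldQ.field_exit (by rw [Fintype.card_fin]; exact hn) hQ H hHI hirr hr K hK hac hle with
    ⟨hsa, -⟩ | ⟨rfl, hnsa, hsim⟩
  · exact InClassOE.of_field H hHI r K hr hK hsa hle
  · exact InClassOE.of_unitaryField H hHI K hK hac hnsa hsim hle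

/-- a non-degenerate decomposition for an alternating polar form has no members of dimension 1 -/
theorem not_one_of_nondegDecomp_even (hQ : IsNondegenerateQuadraticForm Q) (h2 : (2 : F) = 0) {t : ℕ} (k : ℕ)
    (D : Fin t → Submodule F (Fin n → F)) (hD : IsNondegenerateMDecomposition (QuadraticMap.polar Q) k D) :
    k ≠ 1 := by
  rintro rfl
  have ht : 0 < t := by have := hD.decomp.two_le; omega
  have h1 := hD.decomp.finrank_eq ⟨0, ht⟩
  obtain ⟨v, hv⟩ := finrank_eq_one_iff'.mp h1
  obtain ⟨hv0, hv⟩ := hv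
  have hvne : (v : Fin n → F) ≠ 0 := fun h => hv0 (Subtype.ext h)
  obtain ⟨⟨x, hx, hxv⟩, -⟩ := hD.nondegenerate ⟨0, ht⟩ (v : Fin n → F) v.2 hvne
  obtain ⟨c, hc⟩ := hv ⟨x, hx⟩
  apply hxv
  have hxc : x = c • (v : Fin n → F) := by
    have := congrArg Subtype.val hc
    simpa using this.symm
  rw [hxc, hQ.polar_bilinear.smul_left, polar_self_even hQ h2, mul_zero]

/-- **the four structured outcomes of Clifford theory with a form give a member**, `q` even -/
theorem oe_of_outcome_even (hQ : IsNondegenerateQuadraticForm Q) (hq : ¬ Odd (Fintype.card F)) (hn : 3 ≤ n)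
    (H N : Subgroup (GL (Fin n) F)) (hHI : H ≤ isometryGroup F Q) (hirr : Irr H) (hNH : N ≤ H)
    (hout : Cfsg.Agent.Lib.Helper11.FCliffMain.FormOutcome (RingEquiv.refl F) (QuadraticMap.polar Q) H N) :
    InClassOE Q H := by
  have h20 : (2 : F) = 0 := Cfsg.Agent.Lib.Helper2.S5662SpTP2.two_eq_zero_of_not_odd hq
  rcases hout with ⟨t, m, D, hD, hle⟩ | ⟨m, D, hD, hts, hle⟩ | ⟨r, K, hr, hK, hac, hle⟩ |
    ⟨d, s, e, P, Y, G₁, G₂, hd, hs, hY, hN, hG1, hG2, hinvY, hle, hform⟩
  · exact InClassOE.of_decomposition H hHI m D (isOrthogonalMDecomposition_of_irr_gen H hHI hirr m D hD hle)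
      (fun h1 => absurd h1 (not_one_of_nondegDecomp_even hQ h20 m D hD)) hle
  · exact InClassOE.of_singularPair H hHI m D hD (tsQuad_of_tiPair hQ h20 hn H hHI hirr m D hD hts hle) hle
  · exact oe_field hQ hn H hHI hirr r K hr hK hac hle
  · have hinvY' : ∀ y ∈ Y, (y : Matrix (Fin d) (Fin d) F)ᵀ * G₁ * (y : Matrix (Fin d) (Fin d) F) = G₁ := by
      intro y hy
      have h := hinvY y hy
      have hmap : (y : Matrix (Fin d) (Fin d) F).map (RingEquiv.refl F) = (y : Matrix (Fin d) (Fin d) F) := by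
        ext i j
        rfl
      rwa [hmap] at h
    have hT : ∀ x y : Fin d × Fin s → F,
        QuadraticMap.polar Q ((P : Matrix (Fin n) (Fin n) F) *ᵥ (x ∘ e)) ((P : Matrix (Fin n) (Fin n) F) *ᵥ (y ∘ e)) =
          formOfGram id (G₁ ⊗ₖ G₂) x y := by
      intro x y
      rw [hform x y]
      rfl
    obtain ⟨f₁, f₂, hf₁, hf₂, hten, hpure⟩ :=
      tensor_even hQ hq H N hHI hirr hNH e P Y G₁ G₂ hd hs hY hN hG1 hG2 hinvY' hle hT
    exact InClassOE.of_tensorSymp H hHI d s e P f₁ f₂ hd hs hf₁ hf₂ hten hpure hle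

/-- **OE4, `q` even**: Clifford theory with the quadratic form -/
theorem cliffordOE_even (hQ : IsNondegenerateQuadraticForm Q) (hq : ¬ Odd (Fintype.card F)) (hn : 3 ≤ n)
    (H N : Subgroup (GL (Fin n) F)) (hH : AbsIrr H) (hHI : H ≤ isometryGroup F Q) (hNH : N ≤ H)
    (hnorm : NormBy H N) : InClassOE Q H ∨ N ≤ scalars (Fin n) F ∨ AbsIrr N := by
  have h20 : (2 : F) = 0 := Cfsg.Agent.Lib.Helper2.S5662SpTP2.two_eq_zero_of_not_odd hq
  have hf := isSymplecticForm_polar_even hQ h20
  rcases Cfsg.Agent.Lib.Helper11.FCliffMain.clifford_form hn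
    (Cfsg.Agent.Lib.Helper16.SpACliffReal.rsForm_of_symplectic hf) H N hH hNH hnorm
    (Cfsg.Agent.Lib.Helper16.SpACliffReal.fixesForm_of_le_Iso' H (le_Iso_polar H hHI)) with hout | hs | ha
  · exact Or.inl (oe_of_outcome_even hQ hq hn H N hHI hH.1 hNH hout)
  · exact Or.inr (Or.inl hs)
  · exact Or.inr (Or.inr ha)

end Cfsg.Agent.Lib.Helper16.OECliffEven
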