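import Cfsg.Agent.Lib.Helper19.AutOrb.W

/-!
# S4068 farm, piece [B2]: cyclic Sylow 2-subgroups, three prime divisors ⇒ solvable
(Burnside's transfer for the smallest prime + Burnside's `p^a q^b` via [W]).
-/

set_option autoImplicit false

namespace Cfsg.Agent.Lib.Helper19.AutOrb

namespace Helper16

/-- An odd divisor of an even number with three prime divisors has at most two prime divisors. -/
theorem card_primeFactors_le_two_of_odd_dvd {N d : ℕ} (hN : N ≠ 0) (h3 : N.primeFactors.card = 3)
    (heven : Even N) (hd : d ∣ N) (h2 : ¬ 2 ∣ d) : d.primeFactors.card ≤ 2 := by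
  have hsub : d.primeFactors ⊆ N.primeFactors.erase 2 := by
    intro p hp
    rw [Finset.mem_erase]
    refine ⟨?_, Nat.primeFactors_mono hd hN hp⟩
    rintro rfl
    exact h2 (Nat.dvd_of_mem_primeFactors hp)
  have hmem : 2 ∈ N.primeFactors :=
    Nat.mem_primeFactors.mpr ⟨Nat.prime_two, even_iff_two_dvd.mp heven, hN⟩
  have hcard : (N.primeFactors.erase 2).card = 2 := by
    rw [Finset.card_erase_of_mem hmem, h3]
  exact (Finset.card_le_card hsub).trans hcard.le

end Helper16

/-- [B2] cyclic Sylow 2-subgroups (of exponent 2, so of order 2): normal 2-complement by [T]. -/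
theorem isSolvable_of_sylow_two_cyclic {G : Type*} [Group G] [Finite G] (hpo : PrimeOrders G)
    (h3 : (Nat.card G).primeFactors.card = 3) (heven : Even (Nat.card G))
    (hc : ∀ P : Sylow 2 G, IsCyclic ↥P) : Group.IsSolvable G := by
  have hN : Nat.card G ≠ 0 := Nat.card_pos.ne'
  have : Fact (Nat.Prime 2) := ⟨Nat.prime_two⟩
  obtain ⟨P⟩ : Nonempty (Sylow 2 G) := inferInstance
  have hP : IsCyclic ↥P := hc P
  have hmin : (Nat.card G).minFac = 2 :=
    (Nat.minFac_eq_two_iff _).mpr (even_iff_two_dvd.mp heven)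
  have hNC : Subgroup.normalizer ((P : Subgroup G) : Set G) ≤
      Subgroup.centralizer ((P : Subgroup G) : Set G) := hP.normalizer_le_centralizer hmin
  have hnd : ¬ 2 ∣ Nat.card (MonoidHom.transferSylow P hNC).ker :=
    MonoidHom.not_dvd_card_ker_transferSylow P hNC
  have hK : Group.IsSolvable ↥(MonoidHom.transferSylow P hNC).ker :=
    isSolvable_of_primeFactors_card_le_two
      (Helper16.card_primeFactors_le_two_of_odd_dvd hN h3 heven
        (Subgroup.card_subgroup_dvd_card _) hnd)
  have hPs : Group.IsSolvable ↥(P : Subgroup G) := by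
    obtain ⟨g, hg⟩ := hP.exists_generator
    exact Group.isSolvable_of_comm (fun a b => by
      obtain ⟨m, rfl⟩ := Subgroup.mem_zpowers_iff.mp (hg a)
      obtain ⟨n, rfl⟩ := Subgroup.mem_zpowers_iff.mp (hg b)
      exact (Commute.zpow_zpow_self g m n).eq)
  refine Group.isSolvable_of_ker_le_range (MonoidHom.transferSylow P hNC).ker.subtype
    (MonoidHom.transferSylow P hNC) ?_
  rw [Subgroup.range_subtype]

end Cfsg.Agent.Lib.Helper19.AutOrb
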