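import Cfsg.Agent.Lib.Helper16.AutOrbB2

/-!
# S4068 farm, piece [B3]: normal Sylow 2-subgroup, three prime divisors ⇒ solvable
(the quotient has odd order with at most two prime divisors: [W]).
-/

set_option autoImplicit false

namespace Cfsg.Agent.Lib.Helper19.AutOrb

/-- [B3] normal Sylow 2-subgroup: the quotient has two prime divisors. -/
theorem isSolvable_of_sylow_two_normal {G : Type*} [Group G] [Finite G]
    (h3 : (Nat.card G).primeFactors.card = 3) (heven : Even (Nat.card G))
    (hn : ∀ P : Sylow 2 G, (P : Subgroup G).Normal) : Group.IsSolvable G := by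
  have hN : Nat.card G ≠ 0 := Nat.card_pos.ne'
  have : Fact (Nat.Prime 2) := ⟨Nat.prime_two⟩
  obtain ⟨P⟩ : Nonempty (Sylow 2 G) := inferInstance
  have hPn : (P : Subgroup G).Normal := hn P
  have hnd : ¬ 2 ∣ Nat.card (G ⧸ (P : Subgroup G)) := by
    rw [← Subgroup.index_eq_card]
    exact P.not_dvd_index
  have hdvd : Nat.card (G ⧸ (P : Subgroup G)) ∣ Nat.card G := by
    rw [← Subgroup.index_eq_card]
    exact Subgroup.index_dvd_card _
  have hQ : Group.IsSolvable (G ⧸ (P : Subgroup G)) :=
    isSolvable_of_primeFactors_card_le_two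
      (Helper16.card_primeFactors_le_two_of_odd_dvd hN h3 heven hdvd hnd)
  have hPs : Group.IsSolvable ↥(P : Subgroup G) := by
    have : Group.IsNilpotent ↥(P : Subgroup G) := P.isPGroup'.isNilpotent
    infer_instance
  refine Group.isSolvable_of_ker_le_range (P : Subgroup G).subtype
    (QuotientGroup.mk' (P : Subgroup G)) ?_
  rw [Subgroup.range_subtype, QuotientGroup.ker_mk']

end Cfsg.Agent.Lib.Helper19.AutOrb
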