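import Mathlib
import Cfsg.Agent.Lib.Helper15.BlkA

/-!
# BlkMax FO-STRICT: the block stabiliser is a proper subgroup of `SL`
-/

set_option autoImplicit false

namespace Cfsg.Agent.Lib.Helper16.BlkStrict

open Matrix Cfsg Cfsg.Geo Cfsg.Agent.Lib.Helper13.TNM Cfsg.Agent.Lib.Helper15.MonoMax
  Cfsg.Agent.Lib.Helper15.BlkMax

variable {t m : ℕ} {F : Type*} [Field F]

theorem SS_lt (ht : 2 ≤ t) (hm : 1 ≤ m) : SS t m F < specialLinear (Fin t × Fin m) F := by
  rw [SetLike.lt_iff_le_and_exists]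
  refine ⟨inf_le_right, ?_⟩
  set a0 : Fin t × Fin m := (⟨0, by omega⟩, ⟨0, by omega⟩) with ha0
  set a1 : Fin t × Fin m := (⟨1, by omega⟩, ⟨0, by omega⟩) with ha1
  have h01 : a0 ≠ a1 := by
    rw [ha0, ha1]
    intro h
    have := congrArg (fun p => (p.1 : ℕ)) h
    simp at this
  have hdot : (Pi.single a1 1 : Fin t × Fin m → F) ⬝ᵥ (Pi.single a0 1 : Fin t × Fin m → F) = 0 := by
    rw [single_dotProduct, one_mul, Pi.single_apply, if_neg h01.symm]
  refine ⟨tvGL (Pi.single a0 1) (Pi.single a1 1) hdot, tvGL_mem_SL _ _ hdot, ?_⟩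
  rintro ⟨hstab, -⟩
  obtain ⟨k, hk⟩ := exists_col_of_mem_decStab (Prod.fst : Fin t × Fin m → Fin t) _ hstab a1
  have e0 : ((tvGL (Pi.single a0 1) (Pi.single a1 1) hdot : GL (Fin t × Fin m) F) :
      Matrix (Fin t × Fin m) (Fin t × Fin m) F) a0 a1 = 1 := by
    rw [tvGL_val, tv, Matrix.add_apply, Matrix.one_apply_ne h01, vecMulVec_apply, Pi.single_eq_same,
      Pi.single_eq_same, zero_add, one_mul]
  have e1 : ((tvGL (Pi.single a0 1) (Pi.single a1 1) hdot : GL (Fin t × Fin m) F) :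
      Matrix (Fin t × Fin m) (Fin t × Fin m) F) a1 a1 = 1 := by
    rw [tvGL_val, tv, Matrix.add_apply, Matrix.one_apply_eq, vecMulVec_apply, Pi.single_apply,
      if_neg h01.symm, zero_mul, add_zero]
  by_cases hk0 : a0.1 = k
  · have hk1 : a1.1 ≠ k := by
      rw [← hk0, ha0, ha1]
      intro h
      have := congrArg (fun p : Fin t => (p : ℕ)) h
      simp at this
    have := hk a1 hk1
    rw [e1] at this
    exact one_ne_zero this
  · have := hk a0 hk0
    rw [e0] at this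
    exact one_ne_zero this

end Cfsg.Agent.Lib.Helper16.BlkStrict
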