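import Mathlib

/-!
# Orthonormal bases for non-alternating symmetric bilinear forms in characteristic two
-/

set_option autoImplicit false
set_option linter.unusedSectionVars false
set_option linter.unusedVariables false
set_option linter.style.haveILetI false

namespace Cfsg.Agent.Lib.Helper16.Char2Orth

open Module LinearMap LinearMap.BilinForm

section
variable {K V : Type*} [Field K] [Finite K] [CharP K 2] [AddCommGroup V] [Module K V]
  [FiniteDimensional K V]

theorem two_eq_zero' : (2 : K) = 0 := by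
  have := CharP.cast_eq_zero K 2
  exact_mod_cast this

theorem add_self' (a : K) : a + a = 0 := by
  have : a + a = 2 * a := by ring
  rw [this, two_eq_zero', zero_mul]

/-- a good first vector -/
theorem exists_good_vector {B : LinearMap.BilinForm K V} (hB₂ : B.IsSymm) (hnd : B.Nondegenerate)
    (hna : ∃ v, B v v ≠ 0) (d : ℕ) (hd : finrank K V = d + 1) :
    ∃ x, B x x = 1 ∧ (d = 0 ∨ ∃ w, B x w = 0 ∧ B w w ≠ 0) := by
  obtain ⟨x₀, hx₀⟩ := hna
  obtain ⟨s, hs⟩ := FiniteField.isSquare_of_char_two (ringChar.eq K 2) (B x₀ x₀)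
  have hs0 : s ≠ 0 := by
    rintro rfl
    rw [mul_zero] at hs
    exact hx₀ hs
  obtain ⟨x, hx⟩ : ∃ x : V, x = s⁻¹ • x₀ := ⟨_, rfl⟩
  have hxx : B x x = 1 := by
    simp only [hx, map_smul, LinearMap.smul_apply, smul_eq_mul]
    rw [hs]
    field_simp
  by_cases hd0 : d = 0
  · exact ⟨x, hxx, Or.inl hd0⟩
  by_cases hw : ∃ w, B x w = 0 ∧ B w w ≠ 0
  · exact ⟨x, hxx, Or.inr hw⟩
  push Not at hw
  -- the orthogonal complement of `x` is alternating and nonzero
  have hx1 : B x x ≠ 0 := by rw [hxx]; exact one_ne_zero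
  have hcompl := LinearMap.BilinForm.isCompl_span_singleton_orthogonal hx1
  have hfr : finrank K ↥(B.orthogonal (K ∙ x)) = d := by
    have h1 := Submodule.finrank_add_eq_of_isCompl hcompl
    rw [finrank_span_singleton (fun h0 => hx1 (by rw [h0]; simp)), hd] at h1
    omega
  have hpos : 0 < finrank K ↥(B.orthogonal (K ∙ x)) := by omega
  obtain ⟨⟨e, heW⟩, he0⟩ := (finrank_pos_iff_exists_ne_zero (R := K)).mp hpos
  have he0' : e ≠ 0 := fun h => he0 (Subtype.ext h)
  have hxe : B x e = 0 := by
    rw [mem_orthogonal_iff] at heW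
    exact heW x (Submodule.mem_span_singleton_self x)
  obtain ⟨f₀, hf₀⟩ : ∃ f₀, B e f₀ ≠ 0 := by
    by_contra hcon
    push Not at hcon
    exact he0' (hnd.1 e hcon)
  obtain ⟨f₁, hf₁⟩ : ∃ f₁ : V, f₁ = f₀ - B x f₀ • x := ⟨_, rfl⟩
  have hex : B e x = 0 := by rw [← hB₂.eq]; exact hxe
  have hef₁ : B e f₁ = B e f₀ := by
    rw [hf₁, map_sub, map_smul, hex, smul_zero, sub_zero]
  have hxf₁ : B x f₁ = 0 := by
    rw [hf₁, map_sub, map_smul, hxx, smul_eq_mul, mul_one, sub_self]
  obtain ⟨f, hf⟩ : ∃ f : V, f = (B e f₁)⁻¹ • f₁ := ⟨_, rfl⟩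
  have hef : B e f = 1 := by
    rw [hf, map_smul, smul_eq_mul, hef₁, inv_mul_cancel₀ hf₀]
  have hxf : B x f = 0 := by rw [hf, map_smul, hxf₁, smul_zero]
  have hee : B e e = 0 := hw e hxe
  have hff : B f f = 0 := hw f hxf
  have hfx : B f x = 0 := by rw [← hB₂.eq]; exact hxf
  refine ⟨x + e, ?_, Or.inr ⟨x + f, ?_, ?_⟩⟩
  · simp only [map_add, LinearMap.add_apply]
    rw [hxx, hxe, hex, hee]
    ring
  · simp only [map_add, LinearMap.add_apply]
    rw [hxx, hxf, hex, hef, add_zero, zero_add]
    exact add_self' 1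
  · simp only [map_add, LinearMap.add_apply]
    rw [hxx, hxf, hfx, hff]
    simp

/-- a non-alternating nondegenerate symmetric bilinear form over a finite field of
characteristic two has an orthonormal basis -/
theorem exists_orthonormal_basis {B : LinearMap.BilinForm K V} (hB₂ : B.IsSymm)
    (hnd : B.Nondegenerate) (hna : ∃ v, B v v ≠ 0) :
    ∃ v : Basis (Fin (finrank K V)) K V, ∀ i j, B (v i) (v j) = if i = j then 1 else 0 := by
  suffices ∀ d, finrank K V = d → ∃ v : Basis (Fin d) K V,
      ∀ i j, B (v i) (v j) = if i = j then 1 else 0 by exact this _ rfl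
  intro d hd
  induction d generalizing V with
  | zero =>
    exfalso
    obtain ⟨v, hv⟩ := hna
    have : v = 0 := by
      haveI := finrank_zero_iff.mp hd
      exact Subsingleton.elim _ _
    rw [this] at hv
    simp at hv
  | succ d ih =>
    obtain ⟨x, hxx, hgood⟩ := exists_good_vector hB₂ hnd hna d hd
    have hx : B x x ≠ 0 := by rw [hxx]; exact one_ne_zero
    have hcompl := LinearMap.BilinForm.isCompl_span_singleton_orthogonal hx
    have hfr : finrank K ↥(B.orthogonal (K ∙ x)) = d := by
      have h1 := Submodule.finrank_add_eq_of_isCompl hcompl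
      rw [finrank_span_singleton (fun h0 => hx (by rw [h0]; simp)), hd] at h1
      omega
    obtain ⟨B', hB'⟩ : ∃ B' : LinearMap.BilinForm K ↥(B.orthogonal (K ∙ x)),
        B' = B.restrict (B.orthogonal (K ∙ x)) := ⟨_, rfl⟩
    have hB'a : ∀ u w : ↥(B.orthogonal (K ∙ x)), B' u w = B u.1 w.1 := by
      intro u w; rw [hB']; rfl
    have hB'symm : B'.IsSymm := by
      rw [hB']
      exact hB₂.restrict _
    have hB'nd : B'.Nondegenerate := by
      rw [hB']
      exact restrict_nondegenerate_orthogonal_spanSingleton B hnd hB₂.isRefl hx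
    obtain ⟨v', hv'⟩ : ∃ v' : Basis (Fin d) K ↥(B.orthogonal (K ∙ x)),
        ∀ i j, B' (v' i) (v' j) = if i = j then 1 else 0 := by
      rcases hgood with hd0 | ⟨w, hxw, hww⟩
      · subst hd0
        exact ⟨basisOfFinrankZero hfr, fun i => Fin.elim0 i⟩
      · apply ih hB'symm hB'nd _ hfr
        have hwW : w ∈ B.orthogonal (K ∙ x) := by
          rw [mem_orthogonal_iff]
          intro n hn
          obtain ⟨c, rfl⟩ := Submodule.mem_span_singleton.1 hn
          change B (c • x) w = 0
          rw [map_smul, LinearMap.smul_apply, hxw, smul_zero]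
        exact ⟨⟨w, hwW⟩, by rw [hB'a]; exact hww⟩
    let b :=
      Basis.mkFinCons x v'
        (by
          rintro c y hy hc
          rw [add_eq_zero_iff_neg_eq] at hc
          rw [← hc, Submodule.neg_mem_iff] at hy
          have := hcompl.disjoint
          rw [Submodule.disjoint_def] at this
          have := this (c • x) (Submodule.smul_mem _ _ <| Submodule.mem_span_singleton_self _) hy
          exact (smul_eq_zero.1 this).resolve_right fun h => hx <| h.symm ▸ by simp)
        (by
          intro y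
          refine ⟨-B x y / B x x, fun z hz => ?_⟩
          obtain ⟨c, rfl⟩ := Submodule.mem_span_singleton.1 hz
          change B (c • x) (y + (-B x y / B x x) • x) = 0
          rw [map_smul, LinearMap.smul_apply, map_add, map_smul, smul_eq_mul, smul_eq_mul,
            div_mul_cancel₀ _ hx, add_neg_cancel, mul_zero])
    refine ⟨b, ?_⟩
    have hb : ⇑b = Fin.cons x (fun i => ((v' i : ↥(B.orthogonal (K ∙ x))) : V)) := by
      rw [Basis.coe_mkFinCons]
      rfl
    have hortho : ∀ i, B x (v' i).1 = 0 := by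
      intro i
      have := (v' i).2
      rw [mem_orthogonal_iff] at this
      exact this x (Submodule.mem_span_singleton_self x)
    intro i j
    rw [hb]
    refine Fin.cases ?_ (fun i => ?_) i <;> refine Fin.cases ?_ (fun j => ?_) j
    · rw [Fin.cons_zero, hxx, if_pos rfl]
    · rw [Fin.cons_zero, Fin.cons_succ, hortho, if_neg (Fin.succ_ne_zero j).symm]
    · rw [Fin.cons_zero, Fin.cons_succ, ← hB₂.eq]
      change B x (v' i).1 = _
      rw [hortho, if_neg (Fin.succ_ne_zero i)]
    · rw [Fin.cons_succ, Fin.cons_succ, ← hB'a, hv']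
      by_cases hij : i = j
      · rw [if_pos hij, if_pos (by rw [hij])]
      · rw [if_neg hij, if_neg (fun h => hij (Fin.succ_injective _ h))]

end

section matrix
variable {K : Type*} [Field K] [Finite K] [CharP K 2] {ι : Type*} [Fintype ι] [DecidableEq ι]

open Matrix

/-- a non-alternating invertible symmetric matrix over a finite field of characteristic two is
congruent to the identity -/
theorem symm_congr_one_char2 (M : Matrix ι ι K) (hM : M.IsSymm) (hdet : M.det ≠ 0)
    (hna : ∃ v : ι → K, v ⬝ᵥ (M *ᵥ v) ≠ 0) :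
    ∃ k : Matrix ι ι K, k.det ≠ 0 ∧ kᵀ * M * k = 1 := by
  classical
  have hBdef : ∀ x y : ι → K, Matrix.toBilin' M x y = x ⬝ᵥ (M *ᵥ y) :=
    fun x y => Matrix.toBilin'_apply' M x y
  have hS : (Matrix.toBilin' M).IsSymm := by
    refine ⟨fun x y => ?_⟩
    change Matrix.toBilin' M x y = Matrix.toBilin' M y x
    rw [hBdef, hBdef, Matrix.dotProduct_mulVec, ← Matrix.mulVec_transpose, hM.eq,
      dotProduct_comm]
  have hnd : (Matrix.toBilin' M).Nondegenerate :=
    LinearMap.BilinForm.nondegenerate_toBilin'_of_det_ne_zero' M hdet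
  have hna' : ∃ v : ι → K, Matrix.toBilin' M v v ≠ 0 := by
    obtain ⟨v, hv⟩ := hna
    exact ⟨v, by rw [hBdef]; exact hv⟩
  obtain ⟨v, hv⟩ := exists_orthonormal_basis hS hnd hna'
  have hcard : Fintype.card ι = finrank K (ι → K) := by
    rw [Module.finrank_fintype_fun_eq_card]
  obtain ⟨e, -⟩ : ∃ e : ι ≃ Fin (finrank K (ι → K)), e = e :=
    ⟨(Fintype.equivFinOfCardEq hcard), rfl⟩
  obtain ⟨k, hk⟩ : ∃ k : Matrix ι ι K, k = Matrix.of fun t i => v (e i) t := ⟨_, rfl⟩
  have hdB : ∀ x y, (kᵀ * M * k) x y = Matrix.toBilin' M (v (e x)) (v (e y)) := by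
    intro x y
    rw [hBdef, hk]
    simp only [Matrix.mul_apply, Matrix.transpose_apply, Matrix.of_apply, dotProduct, mulVec,
      Finset.sum_mul, Finset.mul_sum]
    rw [Finset.sum_comm]
    apply Finset.sum_congr rfl
    intro s _
    apply Finset.sum_congr rfl
    intro t _
    ring
  have hone : kᵀ * M * k = 1 := by
    ext x y
    rw [hdB, hv, Matrix.one_apply]
    by_cases h : x = y
    · rw [if_pos h, if_pos (by rw [h])]
    · rw [if_neg h, if_neg (fun h' => h (e.injective h'))]
  refine ⟨k, ?_, hone⟩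
  intro h0
  have := congrArg Matrix.det hone
  rw [Matrix.det_mul, Matrix.det_mul, Matrix.det_transpose, h0, zero_mul, zero_mul,
    Matrix.det_one] at this
  exact zero_ne_one this

end matrix

end Cfsg.Agent.Lib.Helper16.Char2Orth
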