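import Mathlib
import Cfsg.Prelude.Def_Transfer
import Cfsg.Prelude.Def_CaseTheorems
import Cfsg.Agent.Lib.Helper16.NilAction
import Cfsg.Agent.Lib.Helper16.PCore

set_option autoImplicit false

namespace Cfsg.Agent.Lib.Helper16

open Cfsg

variable {G : Type*} [Group G]

/-- Inheritance of `C(O_p) ≤ O_p` by a subgroup `H` having a normal subgroup `N` of `G` with `N ≤ H`
containing all `p'`-elements of `H`. -/
theorem charp_of_normal_pprime {p : ℕ} [Fact p.Prime] [Finite G]
    (hchar : Subgroup.centralizer (pCore p G : Set G) ≤ pCore p G)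
    (H N : Subgroup G) (hN : N.Normal) (hNH : N ≤ H)
    (hodd : ∀ x ∈ H, (orderOf x).Coprime p → x ∈ N) :
    Subgroup.centralizer (pCore p ↥H : Set ↥H) ≤ pCore p ↥H := by
  have hQn : (pCore p G).Normal := pCore_normal
  have hQp : IsPGroup p (pCore p G) := pCore_isPGroup
  haveI : (pCore p ↥H).Normal := pCore_normal
  -- `Q ⊓ N` lies in `O_p(H)`
  have hQN : ∀ r, r ∈ pCore p G ⊓ N → ∃ hr : r ∈ H, (⟨r, hr⟩ : H) ∈ pCore p ↥H := by
    intro r hr
    refine ⟨hNH hr.2, ?_⟩
    have hnorm : ((pCore p G ⊓ N).subgroupOf H).Normal := by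
      haveI : (pCore p G ⊓ N).Normal := Subgroup.normal_inf_normal _ _
      exact Subgroup.Normal.subgroupOf inferInstance H
    have hpg : IsPGroup p ((pCore p G ⊓ N).subgroupOf H) :=
      (hQp.to_le inf_le_left).comap_subtype
    exact le_pCore _ hnorm hpg (Subgroup.mem_subgroupOf.2 hr)
  -- the centralizer, viewed in `G`, is a `p`-group
  have hCp : IsPGroup p ((Subgroup.centralizer (pCore p ↥H : Set ↥H)).map H.subtype) := by
    apply isPGroup_of_pprime_centralize (pCore p G) hQp hchar
    rintro _ ⟨x, hx, rfl⟩ hcop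
    have hxN : (x : G) ∈ N := hodd x x.2 hcop
    apply centralizes_of_chain (pCore p G) hQp
      (fun i => if i = 0 then pCore p G else if i = 1 then pCore p G ⊓ N else ⊥) 2
      (by simp) (by simp) ?_ (x : G) hcop ?_
    · intro i
      by_cases h0 : i = 0
      · simp [h0]
      · by_cases h1 : i = 1
        · simp [h1]
        · simp [h0, h1]
    · intro i r hr
      by_cases h0 : i = 0
      · subst h0
        simp only [if_true] at hr
        simp only [zero_add, if_true, one_ne_zero, if_false]
        refine Subgroup.mem_inf.2 ⟨?_, ?_⟩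
        · have h1 : (x : G) * r * (x : G)⁻¹ ∈ pCore p G := hQn.conj_mem r hr x
          have h2 : r⁻¹ * ((x : G) * r * (x : G)⁻¹) ∈ pCore p G :=
            Subgroup.mul_mem _ (Subgroup.inv_mem _ hr) h1
          have h3 : r⁻¹ * ((x : G) * r * (x : G)⁻¹) = r⁻¹ * x * r * (x : G)⁻¹ := by group
          rw [← h3]; exact h2
        · have h1 : r⁻¹ * (x : G) * r⁻¹⁻¹ ∈ N := hN.conj_mem _ hxN r⁻¹
          rw [inv_inv] at h1
          exact Subgroup.mul_mem _ h1 (Subgroup.inv_mem _ hxN)
      · by_cases h1 : i = 1
        · subst h1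
          simp only [one_ne_zero, if_false, if_true] at hr
          obtain ⟨hrH, hrO⟩ := hQN r hr
          have hcomm := (Subgroup.mem_centralizer_iff.1 hx) ⟨r, hrH⟩ hrO
          have hcomm' : r * (x : G) = (x : G) * r := congrArg Subtype.val hcomm
          have : r⁻¹ * (x : G) * r * (x : G)⁻¹ = 1 := by
            rw [mul_assoc r⁻¹, ← hcomm']; group
          rw [this]; exact Subgroup.one_mem _
        · have hi2 : ¬ (i + 1 = 0) := by omega
          have hi3 : ¬ (i + 1 = 1) := by omega
          simp only [h0, h1, if_false] at hr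
          rw [Subgroup.mem_bot] at hr
          subst hr
          simp
  have hCp' : IsPGroup p (Subgroup.centralizer (pCore p ↥H : Set ↥H)) := by
    have := hCp.comap_of_injective H.subtype H.subtype_injective
    rwa [Subgroup.comap_map_eq_self_of_injective H.subtype_injective] at this
  exact le_pCore _ inferInstance hCp'

end Cfsg.Agent.Lib.Helper16
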