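import Cfsg.Agent.Lib.Helper5.Sp62Bridge
import Cfsg.Agent.Lib.Helper5.Sp62TC.Cod2
import Cfsg.Agent.Lib.Helper5.Sp62TC.Cod3
import Cfsg.Agent.Lib.Helper28.Co1MP3Gen
import Cfsg.Agent.Lib.Helper28.Co1MP3Data
import Cfsg.Agent.Lib.Helper16.Co1P3TC.HB
import Cfsg.Agent.Lib.Helper16.Co1P3TC.LB

/-!
# S2043, block [P3]: the two coset enumerations for `3⁶ : 2 M₁₂` (helper16)

`tc1_bound : TCBound 2 relsH [[0]] 17280` and `tc2_bound : TCBound 3 relsL [[0], [2]] 729` for helper28's
relators (`Lib/Helper28/Co1MP3Data`), and the combined bound `p3_bound` on the order of every group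
generated by three elements that satisfy `relsL`.  Certificates `Co1P3TC.H*`, `Co1P3TC.L*` produced
by helper24's tool for helper4's checker; glue = helper5's `card_le_of_bound`.
-/

set_option autoImplicit false
set_option linter.unusedVariables false
set_option linter.style.haveILetI false

namespace Cfsg.Agent.Lib.Helper22.Co1M.Helper16

open Cfsg.H5.TCk
open Cfsg.Agent.Helper4.TC (Letter relSet)
open Cfsg.Agent.Lib.Helper5.Sp62 (IsStd card_le_of_bound)
open Cfsg.Agent.Lib.Helper22.Co1M.Helper28 (TCBound relsH relsL)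

theorem p3_std_of_all {t : ℕ} (dec : ℕ → Letter (Fin t))
    (h : (List.range (2 * t)).all (fun c => decide (((dec c).1 : ℕ) = c / 2) &&
      decide ((dec c).2 = decide (c % 2 = 0))) = true) : IsStd t dec := by
  intro c hc
  rw [List.all_eq_true] at h
  have := h c (List.mem_range.mpr hc)
  rw [Bool.and_eq_true, decide_eq_true_eq, decide_eq_true_eq] at this
  exact this

theorem p3_std2 : IsStd 2 Cfsg.Agent.Lib.Helper5.Sp62TC.Cod2.dec := p3_std_of_all _ (by decide)
theorem p3_std3 : IsStd 3 Cfsg.Agent.Lib.Helper5.Sp62TC.Cod3.dec := p3_std_of_all _ (by decide)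

/-- the word or its inverse is one of the relators -/
def p3okWord (rels : List (List ℕ)) (b : List ℕ) : Bool :=
  decide (b ∈ rels) || decide (winv b ∈ rels)

theorem p3_ev_of_ok {Γ : Type*} [Group Γ] (γ : ℕ → Γ) (rels : List (List ℕ))
    (hrel : ∀ r ∈ rels, ev γ r = 1) (b : List ℕ) (h : p3okWord rels b = true) : ev γ b = 1 := by
  unfold p3okWord at h
  rw [Bool.or_eq_true, decide_eq_true_eq, decide_eq_true_eq] at h
  rcases h with h | h
  · exact hrel b h
  · have := hrel _ h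
    rw [ev_winv, inv_eq_one] at this
    exact this

def p3lettersLt (m : ℕ) (B : List (List ℕ)) : Bool := B.all fun b => b.all fun l => decide (l < m)

theorem p3_lt_of_lettersLt {m : ℕ} {B : List (List ℕ)} (h : p3lettersLt m B = true) :
    ∀ b ∈ B, ∀ l ∈ b, l < m := by
  intro b hb l hl
  unfold p3lettersLt at h
  rw [List.all_eq_true] at h
  have h1 := h b hb
  rw [List.all_eq_true] at h1
  exact of_decide_eq_true (h1 l hl)

theorem p3_basesH_ok : Cfsg.Agent.Lib.Helper16.Co1P3TC.H.bases.all (p3okWord relsH) = true := by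
  decide +kernel

theorem p3_basesL_ok : Cfsg.Agent.Lib.Helper16.Co1P3TC.L.bases.all (p3okWord relsL) = true := by
  decide +kernel

theorem p3_lettersH : p3lettersLt (2 * 2) Cfsg.Agent.Lib.Helper16.Co1P3TC.H.bases = true := by
  decide +kernel

theorem p3_lettersL : p3lettersLt (2 * 3) Cfsg.Agent.Lib.Helper16.Co1P3TC.L.bases = true := by
  decide +kernel

theorem p3_subsH : Cfsg.Agent.Lib.Helper16.Co1P3TC.H.subsL = [[0]] := rfl

theorem p3_subsL : Cfsg.Agent.Lib.Helper16.Co1P3TC.L.subsL = [[0], [2]] := rfl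

/-- the first enumeration: `⟨s₁⟩` has index at most `17280` in the group presented by `relsH` -/
theorem tc1_bound : TCBound 2 relsH [[0]] 17280 := by
  intro Δ _ δ K _ hrel hK hgen
  have hrel' : ∀ b ∈ Cfsg.Agent.Lib.Helper16.Co1P3TC.H.bases, ev δ b = 1 := by
    intro b hb
    exact p3_ev_of_ok δ relsH hrel b (List.all_eq_true.mp p3_basesH_ok b hb)
  have hls : ∀ b ∈ Cfsg.Agent.Lib.Helper16.Co1P3TC.H.subsL, ∀ l ∈ b, l < 2 * 2 := by
    rw [p3_subsH]; decide
  have hK' : ∀ s ∈ Cfsg.Agent.Lib.Helper16.Co1P3TC.H.subsL, ev δ s ∈ K := by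
    rw [p3_subsH]; exact hK
  exact card_le_of_bound Cfsg.Agent.Lib.Helper5.Sp62TC.Cod2.dec p3_std2
    Cfsg.Agent.Lib.Helper16.Co1P3TC.H.bases Cfsg.Agent.Lib.Helper16.Co1P3TC.H.subsL 17280
    Cfsg.Agent.Lib.Helper16.Co1P3TC.H.bound (p3_lt_of_lettersLt p3_lettersH) hls δ hrel' hgen K hK'

/-- the second enumeration: `⟨s₁, s₂⟩` has index at most `729` in the group presented by `relsL` -/
theorem tc2_bound : TCBound 3 relsL [[0], [2]] 729 := by
  intro Δ _ δ K _ hrel hK hgen
  have hrel' : ∀ b ∈ Cfsg.Agent.Lib.Helper16.Co1P3TC.L.bases, ev δ b = 1 := by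
    intro b hb
    exact p3_ev_of_ok δ relsL hrel b (List.all_eq_true.mp p3_basesL_ok b hb)
  have hls : ∀ b ∈ Cfsg.Agent.Lib.Helper16.Co1P3TC.L.subsL, ∀ l ∈ b, l < 2 * 3 := by
    rw [p3_subsL]; decide
  have hK' : ∀ s ∈ Cfsg.Agent.Lib.Helper16.Co1P3TC.L.subsL, ev δ s ∈ K := by
    rw [p3_subsL]; exact hK
  exact card_le_of_bound Cfsg.Agent.Lib.Helper5.Sp62TC.Cod3.dec p3_std3
    Cfsg.Agent.Lib.Helper16.Co1P3TC.L.bases Cfsg.Agent.Lib.Helper16.Co1P3TC.L.subsL 729
    Cfsg.Agent.Lib.Helper16.Co1P3TC.L.bound (p3_lt_of_lettersLt p3_lettersL) hls δ hrel' hgen K hK'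

end Cfsg.Agent.Lib.Helper22.Co1M.Helper16
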