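import Cfsg.Agent.Lib.Helper5.Sp62Bridge
import Cfsg.Agent.Lib.Helper5.Sp62TC.Cod2
import Cfsg.Agent.Lib.Helper5.Sp62TC.Cod3
import Cfsg.Agent.Lib.Helper12.McLTC.Cod4
import Cfsg.Agent.Lib.Helper12.McLTC.Cod5
import Cfsg.Agent.Lib.Helper12.McLWData
import Cfsg.Agent.Lib.Helper16.Co2OrdTC.M2B
import Cfsg.Agent.Lib.Helper16.Co2OrdTC.M3B
import Cfsg.Agent.Lib.Helper16.Co2OrdTC.M4B
import Cfsg.Agent.Lib.Helper16.Co2OrdTC.M5B

/-!
# S2044, piece [MOD-ORD-TC]: five elements which satisfy helper12's relators `relsG` of `McL` generate a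
group of order at most `898128000` (helper16)

The chain `⟨a⟩ < ⟨a,b⟩ < ⟨a,b,c⟩ < ⟨a,b,c,d⟩ < G` is not exact for `relsG` (the relators in `a, b, c, d` alone
present `2 · M₂₂`), so the enumerations run along `⟨b⟩ < ⟨b,c⟩ < ⟨b,c,d⟩ < ⟨b,c,d,e⟩ < G` (orders
`7, 168, 2520, 3265920 = |U₄(3)|, 898128000`; indices `24, 15, 1296, 275`) after the cyclic relabelling
`b, c, d, e, a` of the generators.  Certificates `Co2OrdTC.M2 … M5` by helper24's tool for helper4's checker;
glue = helper5's `card_le_of_bound`; the chain step is helper12's `McLW.C.card_cl_step` (copied, to keep the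
import closure small).
-/

set_option autoImplicit false
set_option linter.unusedVariables false
set_option linter.style.haveILetI false

namespace Cfsg.Agent.Lib.Helper1.Co2M

namespace Helper16

open Cfsg.H5.TCk
open Cfsg.Agent.Helper4.TC (Letter relSet)
open Cfsg.Agent.Lib.Helper5.Sp62 (IsStd card_le_of_bound)
open Cfsg.Agent.Lib.Helper12.McLW (relsG)

/-- the subgroup generated by the first `k` elements of a sequence -/
abbrev cl {Γ : Type*} [Group Γ] (γ : ℕ → Γ) (k : ℕ) : Subgroup Γ :=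
  Subgroup.closure (Set.range fun i : Fin k => γ i.val)

theorem cl_mono {Γ : Type*} [Group Γ] (γ : ℕ → Γ) {s t : ℕ} (h : t ≤ s) : cl γ t ≤ cl γ s := by
  apply Subgroup.closure_mono
  rintro _ ⟨i, rfl⟩
  exact ⟨⟨i.val, lt_of_lt_of_le i.isLt h⟩, rfl⟩

theorem std_of_all {t : ℕ} (dec : ℕ → Letter (Fin t))
    (h : (List.range (2 * t)).all (fun c => decide (((dec c).1 : ℕ) = c / 2) &&
      decide ((dec c).2 = decide (c % 2 = 0))) = true) : IsStd t dec := by
  intro c hc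
  rw [List.all_eq_true] at h
  have := h c (List.mem_range.mpr hc)
  rw [Bool.and_eq_true, decide_eq_true_eq, decide_eq_true_eq] at this
  exact this

theorem std2 : IsStd 2 Cfsg.Agent.Lib.Helper5.Sp62TC.Cod2.dec := std_of_all _ (by decide)
theorem std3 : IsStd 3 Cfsg.Agent.Lib.Helper5.Sp62TC.Cod3.dec := std_of_all _ (by decide)
theorem std4 : IsStd 4 Cfsg.Agent.Lib.Helper12.McLTC.Cod4.dec := std_of_all _ (by decide)
theorem std5 : IsStd 5 Cfsg.Agent.Lib.Helper12.McLTC.Cod5.dec := std_of_all _ (by decide)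

/-- the word or its inverse is one of the relators -/
def okWord (rels : List (List ℕ)) (b : List ℕ) : Bool := decide (b ∈ rels) || decide (winv b ∈ rels)

theorem ev_of_ok {Γ : Type*} [Group Γ] (γ : ℕ → Γ) (rels : List (List ℕ))
    (hrel : ∀ r ∈ rels, ev γ r = 1) (b : List ℕ) (h : okWord rels b = true) : ev γ b = 1 := by
  unfold okWord at h
  rw [Bool.or_eq_true, decide_eq_true_eq, decide_eq_true_eq] at h
  rcases h with h | h
  · exact hrel b h
  · have := hrel _ h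
    rw [ev_winv, inv_eq_one] at this
    exact this

def lettersLt (m : ℕ) (B : List (List ℕ)) : Bool := B.all fun b => b.all fun l => decide (l < m)

theorem lt_of_lettersLt {m : ℕ} {B : List (List ℕ)} (h : lettersLt m B = true) :
    ∀ b ∈ B, ∀ l ∈ b, l < m := by
  intro b hb l hl
  unfold lettersLt at h
  rw [List.all_eq_true] at h
  have h1 := h b hb
  rw [List.all_eq_true] at h1
  exact of_decide_eq_true (h1 l hl)

/-- the subgroup words are single generators below `t` -/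
def subsOK (t : ℕ) (S : List (List ℕ)) : Bool :=
  S.all fun s => (List.range t).any fun i => decide (s = [2 * i])

theorem of_subsOK {t : ℕ} {S : List (List ℕ)} (h : subsOK t S = true) :
    ∀ s ∈ S, ∃ i, i < t ∧ s = [2 * i] := by
  intro s hs
  unfold subsOK at h
  rw [List.all_eq_true] at h
  have h1 := h s hs
  rw [List.any_eq_true] at h1
  obtain ⟨i, hi, h2⟩ := h1
  exact ⟨i, List.mem_range.mp hi, of_decide_eq_true h2⟩

theorem gl_congr_lt {Γ : Type*} [Group Γ] (g g' : ℕ → Γ) (t : ℕ) (h : ∀ i < t, g i = g' i) (l : ℕ)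
    (hl : l < 2 * t) : gl g l = gl g' l := by
  unfold gl
  have h2 : l / 2 < t := by omega
  rw [h _ h2]

theorem ev_congr_lt {Γ : Type*} [Group Γ] (g g' : ℕ → Γ) (t : ℕ) (h : ∀ i < t, g i = g' i)
    (w : List ℕ) (hw : ∀ l ∈ w, l < 2 * t) : ev g w = ev g' w := by
  induction w with
  | nil => rfl
  | cons l w ih =>
    simp only [ev]
    rw [gl_congr_lt g g' t h l (hw l List.mem_cons_self),
      ih (fun x hx => hw x (List.mem_cons_of_mem _ hx))]

theorem ev_single {Γ : Type*} [Group Γ] (γ : ℕ → Γ) (i : ℕ) : ev γ [2 * i] = γ i := by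
  have h1 : (2 * i) % 2 = 0 := by omega
  have h2 : (2 * i) / 2 = i := by omega
  simp only [ev, gl, h1, if_true, h2, mul_one]

/-- one step of the chain: a certificate for `s` generators over the subgroup of the first `t` -/
theorem card_cl_step {Γ : Type*} [Group Γ] (γ : ℕ → Γ) (s t : ℕ) (hts : t ≤ s)
    (dec : ℕ → Letter (Fin s)) (hdec : IsStd s dec) (bases subsL : List (List ℕ)) (n : ℕ)
    (hb : Finite (PresentedGroup (relSet dec bases) ⧸
        (Subgroup.closure (relSet dec subsL)).map (PresentedGroup.mk (relSet dec bases))) ∧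
      Nat.card (PresentedGroup (relSet dec bases) ⧸
        (Subgroup.closure (relSet dec subsL)).map (PresentedGroup.mk (relSet dec bases))) ≤ n)
    (hlb : ∀ b ∈ bases, ∀ l ∈ b, l < 2 * s) (hsub : ∀ x ∈ subsL, ∃ i, i < t ∧ x = [2 * i])
    (hrel : ∀ b ∈ bases, ev γ b = 1) [hfin : Finite (cl γ t)] :
    Finite (cl γ s) ∧ Nat.card (cl γ s) ≤ n * Nat.card (cl γ t) := by
  classical
  set M : Subgroup Γ := cl γ s with hM
  have hmem : ∀ i, i < s → γ i ∈ M := fun i hi => Subgroup.subset_closure ⟨⟨i, hi⟩, rfl⟩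
  let γ' : ℕ → M := fun i => if h : γ i ∈ M then ⟨γ i, h⟩ else 1
  have hγ' : ∀ i, i < s → (γ' i : Γ) = γ i := by
    intro i hi
    show ((if h : γ i ∈ M then (⟨γ i, h⟩ : M) else 1 : M) : Γ) = γ i
    rw [dif_pos (hmem i hi)]
  have hcoe : ∀ w : List ℕ, (∀ l ∈ w, l < 2 * s) → ((ev γ' w : M) : Γ) = ev γ w := by
    intro w hw
    have h1 : ((ev γ' w : M) : Γ) = M.subtype (ev γ' w) := rfl
    rw [h1, Cfsg.H5.StemTC.map_ev]
    exact ev_congr_lt _ _ s (fun i hi => hγ' i hi) w hw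
  have hrelM : ∀ b ∈ bases, ev γ' b = 1 := by
    intro b hbm
    apply Subtype.ext
    rw [hcoe b (hlb b hbm)]
    exact hrel b hbm
  have hgenM : Subgroup.closure (Set.range fun i : Fin s => γ' i.val) = ⊤ := by
    rw [eq_top_iff, ← Subgroup.closure_closure_coe_preimage (k := Set.range fun i : Fin s => γ i.val)]
    apply Subgroup.closure_mono
    rintro x ⟨i, hi⟩
    exact ⟨i, Subtype.ext (by rw [hγ' i.val i.isLt]; exact hi)⟩
  have hle : cl γ t ≤ M := cl_mono γ hts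
  let K : Subgroup M := (cl γ t).subgroupOf M
  let e : K ≃* cl γ t := Subgroup.subgroupOfEquivOfLe hle
  haveI : Finite K := Finite.of_equiv _ e.symm.toEquiv
  have hKcard : Nat.card K = Nat.card (cl γ t) := Nat.card_congr e.toEquiv
  have hls : ∀ b ∈ subsL, ∀ l ∈ b, l < 2 * s := by
    intro b hbm l hl
    obtain ⟨i, hi, rfl⟩ := hsub b hbm
    rw [List.mem_singleton] at hl
    subst hl
    omega
  have hK : ∀ x ∈ subsL, ev γ' x ∈ K := by
    intro x hx
    obtain ⟨i, hi, rfl⟩ := hsub x hx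
    rw [ev_single]
    show ((γ' i : M) : Γ) ∈ cl γ t
    rw [hγ' i (lt_of_lt_of_le hi hts)]
    exact Subgroup.subset_closure ⟨⟨i, hi⟩, rfl⟩
  obtain ⟨h1, h2⟩ := card_le_of_bound dec hdec bases subsL n hb hlb hls γ' hrelM hgenM K hK
  exact ⟨h1, by rw [← hKcard]; exact h2⟩

theorem cl_one_card_le {Γ : Type*} [Group Γ] (γ : ℕ → Γ) (h7 : γ 0 ^ 7 = 1) :
    Finite (cl γ 1) ∧ Nat.card (cl γ 1) ≤ 7 := by
  have hcl : cl γ 1 = Subgroup.zpowers (γ 0) := by
    apply le_antisymm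
    · apply (Subgroup.closure_le _).mpr
      rintro _ ⟨i, rfl⟩
      have hi : i.val = 0 := by omega
      show γ i.val ∈ Subgroup.zpowers (γ 0)
      rw [hi]
      exact Subgroup.mem_zpowers _
    · rw [Subgroup.zpowers_le]
      exact Subgroup.subset_closure ⟨⟨0, by norm_num⟩, rfl⟩
  rw [hcl]
  have hfo : IsOfFinOrder (γ 0) := isOfFinOrder_iff_pow_eq_one.mpr ⟨7, by norm_num, h7⟩
  refine ⟨?_, ?_⟩
  · apply Nat.finite_of_card_ne_zero
    rw [Nat.card_zpowers]
    exact (orderOf_pos_iff.mpr hfo).ne'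
  · rw [Nat.card_zpowers]
    exact orderOf_le_of_pow_eq_one (by norm_num) h7

theorem ev_replicate {Γ : Type*} [Group Γ] (γ : ℕ → Γ) (k x : ℕ) :
    ev γ (List.replicate k x) = gl γ x ^ k := by
  induction k with
  | zero => simp [ev]
  | succ k ih => rw [List.replicate_succ, ev, ih, pow_succ']

/-- the relabelling of the letters: the generator `g` becomes the generator `(g + 4) % 5` -/
def rl (l : ℕ) : ℕ := 2 * ((l / 2 + 4) % 5) + l % 2

/-- the relabelled relators -/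
def relsP : List (List ℕ) := relsG.map fun r => r.map rl

/-- the relabelled generators `b, c, d, e, a` -/
def rot {Γ : Type*} (γ : ℕ → Γ) : ℕ → Γ := fun i => γ ((i + 1) % 5)

theorem gl_rot {Γ : Type*} [Group Γ] (γ : ℕ → Γ) (l : ℕ) (hl : l < 10) :
    gl (rot γ) (rl l) = gl γ l := by
  unfold gl rot rl
  have h1 : (2 * ((l / 2 + 4) % 5) + l % 2) % 2 = l % 2 := by omega
  have h2 : (2 * ((l / 2 + 4) % 5) + l % 2) / 2 = (l / 2 + 4) % 5 := by omega
  have h3 : ((l / 2 + 4) % 5 + 1) % 5 = l / 2 := by omega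
  rw [h1, h2, h3]

theorem ev_rot {Γ : Type*} [Group Γ] (γ : ℕ → Γ) (w : List ℕ) (hw : ∀ l ∈ w, l < 10) :
    ev (rot γ) (w.map rl) = ev γ w := by
  induction w with
  | nil => rfl
  | cons l w ih =>
    simp only [List.map_cons, ev]
    rw [gl_rot γ l (hw l List.mem_cons_self), ih (fun x hx => hw x (List.mem_cons_of_mem _ hx))]

set_option maxRecDepth 100000 in
theorem lettersG : lettersLt 10 relsG = true := by decide +kernel

theorem relsP_hold {Γ : Type*} [Group Γ] (γ : ℕ → Γ) (hrel : ∀ r ∈ relsG, ev γ r = 1) :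
    ∀ r ∈ relsP, ev (rot γ) r = 1 := by
  intro r hr
  unfold relsP at hr
  obtain ⟨r0, hr0, rfl⟩ := List.mem_map.mp hr
  rw [ev_rot γ r0 (lt_of_lettersLt lettersG r0 hr0)]
  exact hrel r0 hr0

set_option maxRecDepth 100000 in
theorem bases2_ok : Cfsg.Agent.Lib.Helper16.Co2OrdTC.M2.bases.all (okWord relsP) = true := by
  decide +kernel
set_option maxRecDepth 100000 in
theorem bases3_ok : Cfsg.Agent.Lib.Helper16.Co2OrdTC.M3.bases.all (okWord relsP) = true := by
  decide +kernel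
set_option maxRecDepth 100000 in
theorem bases4_ok : Cfsg.Agent.Lib.Helper16.Co2OrdTC.M4.bases.all (okWord relsP) = true := by
  decide +kernel
set_option maxRecDepth 100000 in
theorem bases5_ok : Cfsg.Agent.Lib.Helper16.Co2OrdTC.M5.bases.all (okWord relsP) = true := by
  decide +kernel

set_option maxRecDepth 100000 in
theorem letters2 : lettersLt (2 * 2) Cfsg.Agent.Lib.Helper16.Co2OrdTC.M2.bases = true := by
  decide +kernel
set_option maxRecDepth 100000 in
theorem letters3 : lettersLt (2 * 3) Cfsg.Agent.Lib.Helper16.Co2OrdTC.M3.bases = true := by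
  decide +kernel
set_option maxRecDepth 100000 in
theorem letters4 : lettersLt (2 * 4) Cfsg.Agent.Lib.Helper16.Co2OrdTC.M4.bases = true := by
  decide +kernel
set_option maxRecDepth 100000 in
theorem letters5 : lettersLt (2 * 5) Cfsg.Agent.Lib.Helper16.Co2OrdTC.M5.bases = true := by
  decide +kernel

theorem subs2 : subsOK 1 Cfsg.Agent.Lib.Helper16.Co2OrdTC.M2.subsL = true := by decide
theorem subs3 : subsOK 2 Cfsg.Agent.Lib.Helper16.Co2OrdTC.M3.subsL = true := by decide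
theorem subs4 : subsOK 3 Cfsg.Agent.Lib.Helper16.Co2OrdTC.M4.subsL = true := by decide
theorem subs5 : subsOK 4 Cfsg.Agent.Lib.Helper16.Co2OrdTC.M5.subsL = true := by decide

theorem n2 : Cfsg.Agent.Lib.Helper16.Co2OrdTC.M2.n = 24 := rfl
theorem n3 : Cfsg.Agent.Lib.Helper16.Co2OrdTC.M3.n = 15 := rfl
theorem n4 : Cfsg.Agent.Lib.Helper16.Co2OrdTC.M4.n = 1296 := rfl
theorem n5 : Cfsg.Agent.Lib.Helper16.Co2OrdTC.M5.n = 275 := rfl

set_option maxRecDepth 100000 in
theorem pow_mem_relsP : List.replicate 7 0 ∈ relsP := by decide +kernel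

theorem cl_rot {Γ : Type*} [Group Γ] (γ : ℕ → Γ) : cl (rot γ) 5 = cl γ 5 := by
  apply le_antisymm
  · apply (Subgroup.closure_le _).mpr
    rintro _ ⟨i, rfl⟩
    exact Subgroup.subset_closure ⟨⟨(i.val + 1) % 5, Nat.mod_lt _ (by norm_num)⟩, rfl⟩
  · apply (Subgroup.closure_le _).mpr
    rintro _ ⟨i, rfl⟩
    refine Subgroup.subset_closure ⟨⟨(i.val + 4) % 5, Nat.mod_lt _ (by norm_num)⟩, ?_⟩
    show γ (((i.val + 4) % 5 + 1) % 5) = γ i.val
    have h : ((i.val + 4) % 5 + 1) % 5 = i.val := by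
      have := i.isLt
      omega
    rw [h]

end Helper16

open Cfsg.Agent.Lib.Helper1.Co2M.Helper16 in
/-- [MOD-ORD-TC] five elements which satisfy `relsG` generate a group of order at most `|McL|` -/
theorem card_cl5_le_of_relsG {Γ : Type*} [Group Γ] (γ : ℕ → Γ)
    (hrel : ∀ r ∈ Cfsg.Agent.Lib.Helper12.McLW.relsG, Cfsg.H5.TCk.ev γ r = 1) :
    Finite ↥(Subgroup.closure (Set.range fun i : Fin 5 => γ i.val)) ∧
      Nat.card ↥(Subgroup.closure (Set.range fun i : Fin 5 => γ i.val)) ≤ 898128000 := by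
  have hP := relsP_hold γ hrel
  have h7 : rot γ 0 ^ 7 = 1 := by
    have := hP _ pow_mem_relsP
    rw [ev_replicate] at this
    have h0 : Cfsg.H5.TCk.gl (rot γ) 0 = rot γ 0 := by
      simp [Cfsg.H5.TCk.gl]
    rwa [h0] at this
  obtain ⟨hf1, hc1⟩ := cl_one_card_le (rot γ) h7
  haveI := hf1
  obtain ⟨hf2, hc2⟩ := card_cl_step (rot γ) 2 1 (by norm_num) _ std2
    Cfsg.Agent.Lib.Helper16.Co2OrdTC.M2.bases Cfsg.Agent.Lib.Helper16.Co2OrdTC.M2.subsL
    Cfsg.Agent.Lib.Helper16.Co2OrdTC.M2.n Cfsg.Agent.Lib.Helper16.Co2OrdTC.M2.bound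
    (lt_of_lettersLt letters2) (of_subsOK subs2)
    (fun b hb => ev_of_ok (rot γ) relsP hP b (List.all_eq_true.mp bases2_ok b hb))
  haveI := hf2
  obtain ⟨hf3, hc3⟩ := card_cl_step (rot γ) 3 2 (by norm_num) _ std3
    Cfsg.Agent.Lib.Helper16.Co2OrdTC.M3.bases Cfsg.Agent.Lib.Helper16.Co2OrdTC.M3.subsL
    Cfsg.Agent.Lib.Helper16.Co2OrdTC.M3.n Cfsg.Agent.Lib.Helper16.Co2OrdTC.M3.bound
    (lt_of_lettersLt letters3) (of_subsOK subs3)
    (fun b hb => ev_of_ok (rot γ) relsP hP b (List.all_eq_true.mp bases3_ok b hb))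
  haveI := hf3
  obtain ⟨hf4, hc4⟩ := card_cl_step (rot γ) 4 3 (by norm_num) _ std4
    Cfsg.Agent.Lib.Helper16.Co2OrdTC.M4.bases Cfsg.Agent.Lib.Helper16.Co2OrdTC.M4.subsL
    Cfsg.Agent.Lib.Helper16.Co2OrdTC.M4.n Cfsg.Agent.Lib.Helper16.Co2OrdTC.M4.bound
    (lt_of_lettersLt letters4) (of_subsOK subs4)
    (fun b hb => ev_of_ok (rot γ) relsP hP b (List.all_eq_true.mp bases4_ok b hb))
  haveI := hf4
  obtain ⟨hf5, hc5⟩ := card_cl_step (rot γ) 5 4 (by norm_num) _ std5
    Cfsg.Agent.Lib.Helper16.Co2OrdTC.M5.bases Cfsg.Agent.Lib.Helper16.Co2OrdTC.M5.subsL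
    Cfsg.Agent.Lib.Helper16.Co2OrdTC.M5.n Cfsg.Agent.Lib.Helper16.Co2OrdTC.M5.bound
    (lt_of_lettersLt letters5) (of_subsOK subs5)
    (fun b hb => ev_of_ok (rot γ) relsP hP b (List.all_eq_true.mp bases5_ok b hb))
  rw [n2] at hc2
  rw [n3] at hc3
  rw [n4] at hc4
  rw [n5] at hc5
  rw [cl_rot γ] at hf5 hc5
  refine ⟨hf5, ?_⟩
  have e2 : Nat.card (cl (rot γ) 2) ≤ 24 * 7 := le_trans hc2 (Nat.mul_le_mul_left _ hc1)
  have e3 : Nat.card (cl (rot γ) 3) ≤ 15 * (24 * 7) := le_trans hc3 (Nat.mul_le_mul_left _ e2)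
  have e4 : Nat.card (cl (rot γ) 4) ≤ 1296 * (15 * (24 * 7)) :=
    le_trans hc4 (Nat.mul_le_mul_left _ e3)
  calc Nat.card (cl γ 5) ≤ 275 * Nat.card (cl (rot γ) 4) := hc5
    _ ≤ 275 * (1296 * (15 * (24 * 7))) := Nat.mul_le_mul_left _ e4
    _ = 898128000 := by norm_num

end Cfsg.Agent.Lib.Helper1.Co2M
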