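import Mathlib
import Cfsg.Agent.Lib.Helper16.SPE2

set_option autoImplicit false

/-! Coprime action on abelian `p`-groups: `[V, x] = [V, x, x]` for a `p'`-element `x` normalizing the
abelian `p`-group `V`, and `[V, R] = [V, R, R]` for `R` generated by such elements. -/

namespace Cfsg.Agent.Lib.Helper16

/-- Abstract form: for an endomorphism `σ` of a finite abelian `p`-group with `σ^n = 1`, `n` prime to `p`,
the image of `θ = 1 - σ` equals the image of `θ²`. -/
theorem exists_theta_theta {A : Type*} [CommGroup A] [Finite A] {p : ℕ} [Fact p.Prime]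
    (hA : IsPGroup p A) (σ : A →* A) (n : ℕ) (hn : n.Coprime p) (hσ : ∀ a, σ^[n] a = a) (a : A) :
    ∃ b : A, a / σ a = (b / σ b) / σ (b / σ b) := by
  -- `ker θ ∩ range θ = 1`
  have key : ∀ u : A, σ (u / σ u) = u / σ u → u / σ u = 1 := by
    intro u hm
    set m := u / σ u with hm_def
    have hσu : σ u = u / m := by rw [hm_def]; simp
    have hiter : ∀ k : ℕ, σ^[k] u = u / m ^ k := by
      intro k
      induction k with
      | zero => simp
      | succ k ih =>
        rw [Function.iterate_succ_apply', ih, map_div, map_pow, hm, hσu, pow_succ]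
        rw [div_div, mul_comm]
    have h1 := hiter n
    rw [hσ] at h1
    have hmn : m ^ n = 1 := by
      have : u = u / m ^ n := h1
      have h2 : u * m ^ n = u := by
        nth_rewrite 1 [this]
        simp
      exact mul_eq_left.1 h2
    obtain ⟨k, hk⟩ := (IsPGroup.iff_orderOf.1 hA) m
    have hdvd : orderOf m ∣ n := orderOf_dvd_of_pow_eq_one hmn
    have hcop : (orderOf m).Coprime n := by
      rw [hk]; exact (Nat.Coprime.pow_left k hn.symm)
    exact orderOf_eq_one_iff.1 (Nat.Coprime.eq_one_of_dvd hcop hdvd)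
  -- the map `θ` on its range
  let θ : A →* A := MonoidHom.id A / σ
  have hθ : ∀ a, θ a = a / σ a := fun a => rfl
  let g : θ.range → θ.range := fun m => ⟨θ m, ⟨m, rfl⟩⟩
  have hg : Function.Injective g := by
    rintro ⟨m₁, u₁, rfl⟩ ⟨m₂, u₂, rfl⟩ h
    have h1 : θ (θ u₁) = θ (θ u₂) := congrArg Subtype.val h
    have h2 : θ (θ (u₁ / u₂)) = 1 := by
      rw [map_div, map_div, h1, div_self']
    have h3 : θ (u₁ / u₂) = 1 := by
      apply key
      have : θ (u₁ / u₂) / σ (θ (u₁ / u₂)) = 1 := h2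
      rw [div_eq_one] at this
      exact this.symm
    apply Subtype.ext
    show θ u₁ = θ u₂
    rw [map_div, div_eq_one] at h3
    exact h3
  have hs : Function.Surjective g := Finite.surjective_of_injective hg
  obtain ⟨⟨m, b, rfl⟩, hm⟩ := hs ⟨θ a, ⟨a, rfl⟩⟩
  refine ⟨b, ?_⟩
  have : θ (θ b) = θ a := congrArg Subtype.val hm
  exact this.symm


variable {G : Type*} [Group G]

theorem conj_mem_of_mem_normalizer (V : Subgroup G) (x : G) (hx : x ∈ Subgroup.normalizer (V : Set G))
    (v : G) (hv : v ∈ V) : x * v * x⁻¹ ∈ V := (Subgroup.mem_normalizer_iff.1 hx v).1 hv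

theorem map_conj_eq_of_mem_normalizer (V : Subgroup G) (x : G) (hx : x ∈ Subgroup.normalizer (V : Set G)) :
    V.map (MulAut.conj x).toMonoidHom = V := by
  apply le_antisymm
  · rintro _ ⟨v, hv, rfl⟩
    exact conj_mem_of_mem_normalizer V x hx v hv
  · intro v hv
    refine ⟨x⁻¹ * v * x, ?_, ?_⟩
    · have := conj_mem_of_mem_normalizer V x⁻¹ (Subgroup.inv_mem _ hx) v hv
      simpa using this
    · show x * (x⁻¹ * v * x) * x⁻¹ = v
      group

open scoped commutatorElement

/-- `[v, x] ∈ [[V, x], x]` for a `p'`-element `x` normalizing the finite abelian `p`-group `V`. -/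
theorem exists_commutator_commutator [Finite G] {p : ℕ} [Fact p.Prime] (V : Subgroup G)
    (hVp : IsPGroup p V) (hcomm : ∀ a ∈ V, ∀ b ∈ V, a * b = b * a) (x : G)
    (hx : x ∈ Subgroup.normalizer (V : Set G)) (hcop : (orderOf x).Coprime p) (v : G) (hv : v ∈ V) :
    ∃ w ∈ V, ⁅v, x⁆ = ⁅⁅w, x⁆, x⁆ := by
  letI : CommGroup ↥V :=
    { (inferInstance : Group ↥V) with
      mul_comm := fun a b => Subtype.ext (hcomm a a.2 b b.2) }
  let σ : ↥V →* ↥V :=
    { toFun := fun v => ⟨x * v * x⁻¹, conj_mem_of_mem_normalizer V x hx v v.2⟩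
      map_one' := by apply Subtype.ext; simp
      map_mul' := by
        intro a b
        apply Subtype.ext
        simp only [Subgroup.coe_mul]
        group }
  have hσiter : ∀ (k : ℕ) (a : ↥V), ((σ^[k] a : ↥V) : G) = x ^ k * a * (x ^ k)⁻¹ := by
    intro k
    induction k with
    | zero => intro a; simp
    | succ k ih =>
      intro a
      rw [Function.iterate_succ_apply', pow_succ']
      show x * ((σ^[k] a : ↥V) : G) * x⁻¹ = _
      rw [ih]; group
  have hσ : ∀ a : ↥V, σ^[orderOf x] a = a := by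
    intro a
    apply Subtype.ext
    rw [hσiter, pow_orderOf_eq_one]; simp
  obtain ⟨b, hb⟩ := exists_theta_theta (p := p) hVp σ (orderOf x) hcop hσ ⟨v, hv⟩
  refine ⟨b, b.2, ?_⟩
  have h1 : ∀ a : ↥V, ((a / σ a : ↥V) : G) = ⁅(a : G), x⁆ := by
    intro a
    have e : a / σ a = a * (σ a)⁻¹ := div_eq_mul_inv _ _
    rw [e, Subgroup.coe_mul, Subgroup.coe_inv]
    show (a : G) * (x * a * x⁻¹)⁻¹ = _
    rw [commutatorElement_def]; group
  have h2 := congrArg Subtype.val hb
  rw [h1, h1, h1] at h2
  exact h2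

/-- `[V, R] ≤ [[V, R], R]` when `R` is generated by `p'`-elements normalizing the finite abelian
`p`-group `V`. -/
theorem commutator_le_commutator_commutator [Finite G] {p : ℕ} [Fact p.Prime] (V : Subgroup G)
    (hVp : IsPGroup p V) (hcomm : ∀ a ∈ V, ∀ b ∈ V, a * b = b * a) (S : Set G)
    (hS : ∀ s ∈ S, s ∈ Subgroup.normalizer (V : Set G) ∧ (orderOf s).Coprime p) :
    ⁅V, Subgroup.closure S⁆ ≤ ⁅⁅V, Subgroup.closure S⁆, Subgroup.closure S⁆ := by
  have hRN : Subgroup.closure S ≤ Subgroup.normalizer (V : Set G) := by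
    rw [Subgroup.closure_le]
    intro s hs
    exact (hS s hs).1
  -- `R` normalizes `[[V,R],R]`
  have hinv : ∀ r ∈ Subgroup.closure S, ∀ y ∈ ⁅⁅V, Subgroup.closure S⁆, Subgroup.closure S⁆,
      r * y * r⁻¹ ∈ ⁅⁅V, Subgroup.closure S⁆, Subgroup.closure S⁆ := by
    intro r hr y hy
    have hR : (Subgroup.closure S).map (MulAut.conj r).toMonoidHom = Subgroup.closure S :=
      map_conj_eq_of_mem_normalizer _ r (Subgroup.le_normalizer hr)
    have hV : V.map (MulAut.conj r).toMonoidHom = V := map_conj_eq_of_mem_normalizer _ r (hRN hr)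
    have h1 : (⁅⁅V, Subgroup.closure S⁆, Subgroup.closure S⁆).map (MulAut.conj r).toMonoidHom =
        ⁅⁅V, Subgroup.closure S⁆, Subgroup.closure S⁆ := by
      rw [Subgroup.map_commutator, Subgroup.map_commutator, hR, hV]
    rw [← h1]
    exact ⟨y, hy, rfl⟩
  rw [Subgroup.commutator_le]
  intro v hv r hr
  induction hr using Subgroup.closure_induction generalizing v with
  | mem s hs =>
    obtain ⟨w, hw, hws⟩ := exists_commutator_commutator V hVp hcomm s (hS s hs).1 (hS s hs).2 v hv
    rw [hws]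
    have hsR : s ∈ Subgroup.closure S := Subgroup.subset_closure hs
    exact Subgroup.commutator_mem_commutator (Subgroup.commutator_mem_commutator hw hsR) hsR
  | one => rw [commutatorElement_one_right]; exact Subgroup.one_mem _
  | mul a b ha hb iha ihb =>
    have e : ⁅v, a * b⁆ = ⁅v, a⁆ * (a * ⁅v, b⁆ * a⁻¹) := by
      rw [commutatorElement_def, commutatorElement_def, commutatorElement_def]; group
    rw [e]
    exact Subgroup.mul_mem _ (iha v hv) (hinv a ha _ (ihb v hv))
  | inv a ha iha =>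
    have e : ⁅v, a⁻¹⁆ = a⁻¹ * (⁅v, a⁆)⁻¹ * a⁻¹⁻¹ := by
      rw [commutatorElement_def, commutatorElement_def]; group
    rw [e]
    exact hinv a⁻¹ (Subgroup.inv_mem _ ha) _ (Subgroup.inv_mem _ (iha v hv))

end Cfsg.Agent.Lib.Helper16
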