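import Mathlib
import Cfsg.Agent.Lib.Helper16.CubeData
import Cfsg.Agent.Lib.Helper15.SympOrder

set_option autoImplicit false
set_option linter.style.haveILetI false
set_option linter.unusedSimpArgs false
set_option linter.unusedSectionVars false

namespace Cfsg.Agent.Lib.Helper16

open Module Cfsg.Agent.Lib.Helper6 Matrix Cfsg Polynomial

universe u

section
variable {F : Type u} [Field F] [Fintype F] {q : ℕ}

/-- no primitive cube roots of unity when `q ≡ 2 (mod 3)` -/
theorem no_cube_root (hF : Fintype.card F = q) (hq : q % 3 = 2) (a : F) : a ^ 2 + a + 1 ≠ 0 := by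
  intro h
  have h3 : a ^ 3 = 1 := by linear_combination (a - 1) * h
  have ha0 : a ≠ 0 := by
    rintro rfl
    simp at h
  have h1 : a ^ (q - 1) = 1 := by
    rw [← hF]; exact FiniteField.pow_card_sub_one_eq_one a ha0
  have hq1 : q - 1 = 3 * (q / 3) + 1 := by omega
  rw [hq1, pow_add, pow_mul, h3, one_pow, one_mul, pow_one] at h1
  rw [h1] at h
  have hq0 : ((q : ℕ) : F) = 0 := by rw [← hF]; exact Nat.cast_card_eq_zero F
  have hq2 : q = 3 * (q / 3) + 2 := by omega
  rw [hq2] at hq0
  push_cast at hq0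
  have h30 : (3 : F) = 0 := by linear_combination h
  rw [h30, zero_mul, zero_add] at hq0
  have : (1 : F) = 0 := by linear_combination h30 - hq0
  exact one_ne_zero this

/-- the polynomial `X ^ 2 + X + 1` -/
noncomputable def cubePoly (F : Type*) [Field F] : F[X] := X ^ 2 + X + 1

theorem cubePoly_monic : (cubePoly F).Monic := by
  unfold cubePoly
  monicity!

theorem cubePoly_natDegree : (cubePoly F).natDegree = 2 := by
  unfold cubePoly
  compute_degree!

theorem cubePoly_irreducible (hF : Fintype.card F = q) (hq : q % 3 = 2) :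
    Irreducible (cubePoly F) := by
  apply irreducible_of_degree_le_three_of_not_isRoot
  · rw [cubePoly_natDegree]; simp
  · intro x hx
    apply no_cube_root hF hq x
    simpa [cubePoly, IsRoot] using hx


theorem adjoin_root_sq : (AdjoinRoot.root (cubePoly F)) ^ 2 + AdjoinRoot.root (cubePoly F) + 1 = 0 := by
  have h : eval₂ (AdjoinRoot.of (cubePoly F)) (AdjoinRoot.root (cubePoly F))
      (X ^ 2 + X + 1 : F[X]) = 0 := AdjoinRoot.eval₂_root (cubePoly F)
  simpa [eval₂_add, eval₂_pow] using h

theorem adjoin_span (k : AdjoinRoot (cubePoly F)) :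
    ∃ a b : F, k = algebraMap F (AdjoinRoot (cubePoly F)) a +
      algebraMap F (AdjoinRoot (cubePoly F)) b * AdjoinRoot.root (cubePoly F) := by
  induction k using AdjoinRoot.induction_on with
  | ih p =>
    have hmonic : (cubePoly F).Monic := cubePoly_monic
    have h1 : AdjoinRoot.mk (cubePoly F) p = AdjoinRoot.mk (cubePoly F) (p %ₘ cubePoly F) := by
      rw [AdjoinRoot.mk_eq_mk]
      refine ⟨p /ₘ cubePoly F, ?_⟩
      have := modByMonic_add_div p (cubePoly F)
      linear_combination -this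
    have hne1 : cubePoly F ≠ 1 := by
      intro h
      have := cubePoly_natDegree (F := F)
      rw [h, natDegree_one] at this
      omega
    have hdeg : (p %ₘ cubePoly F).natDegree ≤ 1 := by
      have := natDegree_modByMonic_lt p hmonic hne1
      rw [cubePoly_natDegree] at this
      omega
    obtain ⟨b, a, hab⟩ := exists_eq_X_add_C_of_natDegree_le_one hdeg
    refine ⟨a, b, ?_⟩
    rw [h1, hab]
    simp only [map_add, map_mul, AdjoinRoot.mk_C, AdjoinRoot.mk_X, AdjoinRoot.algebraMap_eq]
    ring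

theorem adjoin_ind (a b : F)
    (h : algebraMap F (AdjoinRoot (cubePoly F)) a +
      algebraMap F (AdjoinRoot (cubePoly F)) b * AdjoinRoot.root (cubePoly F) = 0) :
    a = 0 ∧ b = 0 := by
  have h1 : AdjoinRoot.mk (cubePoly F) (C a + C b * X) = 0 := by
    simp only [map_add, map_mul, AdjoinRoot.mk_C, AdjoinRoot.mk_X]
    rw [AdjoinRoot.algebraMap_eq] at h
    exact h
  rw [AdjoinRoot.mk_eq_zero] at h1
  have hlt : (C a + C b * X : F[X]).natDegree < (cubePoly F).natDegree := by
    rw [cubePoly_natDegree]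
    have : (C a + C b * X : F[X]).natDegree ≤ 1 := by compute_degree
    omega
  have h2 := eq_zero_of_dvd_of_natDegree_lt h1 hlt
  have h3 := congrArg (fun p : F[X] => p.coeff 0) h2
  have h4 := congrArg (fun p : F[X] => p.coeff 1) h2
  simp at h3 h4
  exact ⟨h3, h4⟩


theorem matrix_cube {n : Type*} [Fintype n] [DecidableEq n] (X : Matrix n n F) (h3 : X ^ 3 = 1)
    (hu : IsUnit (X - 1)) : X ^ 2 + X + 1 = 0 := by
  obtain ⟨u, hu'⟩ := hu
  have h1 : (X - 1) * (X ^ 2 + X + 1) = 0 := by
    have : (X - 1) * (X ^ 2 + X + 1) = X ^ 3 - 1 := by noncomm_ring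
    rw [this, h3, sub_self]
  have h2 : (↑u⁻¹ : Matrix n n F) * ((X - 1) * (X ^ 2 + X + 1)) = (↑u⁻¹ : Matrix n n F) * 0 := by
    rw [h1]
  rw [← mul_assoc, ← hu', Units.inv_mul, one_mul, mul_zero] at h2
  exact h2

theorem card_centralizer_symp {m : ℕ} (hF : Fintype.card F = q) (hq : q % 3 = 2)
    (x : Matrix.symplecticGroup (Fin m) F) (hx3 : x ^ 3 = 1)
    (hfpf : IsUnit ((x : Matrix (Fin m ⊕ Fin m) (Fin m ⊕ Fin m) F) - 1)) :
    ∃ (K : Type u) (_ : Field K) (_ : Fintype K) (_ : Fintype.card K = q ^ 2),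
      Nat.card ↥(Subgroup.centralizer ({x} : Set ↥(Matrix.symplecticGroup (Fin m) F))) =
        Nat.card (Cfsg.GU m K q) := by
  classical
  haveI : Fact (Irreducible (cubePoly F)) := ⟨cubePoly_irreducible hF hq⟩
  set X : Matrix (Fin m ⊕ Fin m) (Fin m ⊕ Fin m) F := x.1 with hXdef
  have hX3 : X ^ 3 = 1 := by
    have := congrArg (fun y : Matrix.symplecticGroup (Fin m) F => y.1) hx3
    simpa using this
  have hX : X ^ 2 + X + 1 = 0 := matrix_cube X hX3 hfpf
  have hroot : Polynomial.aeval (Matrix.toLinAlgEquiv' X) (cubePoly F) = 0 := by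
    have h1 : (Matrix.toLinAlgEquiv' X) ^ 2 + Matrix.toLinAlgEquiv' X + 1 = 0 := by
      rw [← map_pow, ← map_add, ← map_one (Matrix.toLinAlgEquiv' (R := F) (n := Fin m ⊕ Fin m)),
        ← map_add, hX, map_zero]
    simpa [cubePoly] using h1
  have hI : ∀ a : F[X], a ∈ Ideal.span {cubePoly F} →
      Polynomial.aeval (Matrix.toLinAlgEquiv' X) a = 0 := by
    intro a ha
    rw [Ideal.mem_span_singleton] at ha
    obtain ⟨c, rfl⟩ := ha
    rw [map_mul, hroot, zero_mul]
  let ρ : AdjoinRoot (cubePoly F) →ₐ[F] Module.End F (Fin m ⊕ Fin m → F) :=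
    Ideal.Quotient.liftₐ (Ideal.span {cubePoly F}) (Polynomial.aeval (Matrix.toLinAlgEquiv' X)) hI
  have hρroot : ρ (AdjoinRoot.root (cubePoly F)) = Matrix.toLinAlgEquiv' X := by
    have h1 : ρ (Ideal.Quotient.mk _ Polynomial.X) =
        Polynomial.aeval (Matrix.toLinAlgEquiv' X) Polynomial.X := rfl
    rw [Polynomial.aeval_X] at h1
    exact h1
  letI : Module (AdjoinRoot (cubePoly F)) (Fin m ⊕ Fin m → F) :=
    Module.compHom (Fin m ⊕ Fin m → F) ρ.toRingHom
  have hsmul : ∀ (k : AdjoinRoot (cubePoly F)) (v : Fin m ⊕ Fin m → F), k • v = ρ k v :=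
    fun _ _ => rfl
  haveI : IsScalarTower F (AdjoinRoot (cubePoly F)) (Fin m ⊕ Fin m → F) :=
    ⟨fun a k v => by rw [hsmul, hsmul, map_smul]; rfl⟩
  have hωv : ∀ v : Fin m ⊕ Fin m → F, (AdjoinRoot.root (cubePoly F)) • v = X *ᵥ v := by
    intro v
    rw [hsmul, hρroot]
    rfl
  have hXpres := (mem_symplecticGroup_iff_preserves X).1 x.2
  have hdata : CubeData F (AdjoinRoot (cubePoly F)) (Fin m ⊕ Fin m → F)
      (AdjoinRoot.root (cubePoly F)) (Cfsg.Agent.Lib.Helper15.stdSymp m F) :=
    { hω := adjoin_root_sq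
      hspan := adjoin_span
      hind := adjoin_ind
      halt := Cfsg.Agent.Lib.Helper15.stdSymp_alt
      hnd := Cfsg.Agent.Lib.Helper15.stdSymp_nondeg
      hBω := fun u v => by
        rw [hωv, hωv, Cfsg.Agent.Lib.Helper15.stdSymp_apply,
          Cfsg.Agent.Lib.Helper15.stdSymp_apply, hXpres] }
  haveI : Finite (AdjoinRoot (cubePoly F)) := by
    haveI := (cubePoly_monic (F := F)).finite_adjoinRoot
    exact Module.finite_of_finite F
  letI : Fintype (AdjoinRoot (cubePoly F)) := Fintype.ofFinite _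
  have hK := hdata.card_K hF
  refine ⟨AdjoinRoot (cubePoly F), inferInstance, inferInstance, hK, ?_⟩
  rw [← hdata.card_centralizer hF hK hq m (by
    rw [Module.finrank_fintype_fun_eq_card, Fintype.card_sum, Fintype.card_fin]; ring)]
  let f : ↥(Subgroup.centralizer ({x} : Set ↥(Matrix.symplecticGroup (Fin m) F))) →
      {g : (Fin m ⊕ Fin m → F) →ₗ[F] (Fin m ⊕ Fin m → F) //
        (∀ v, g ((AdjoinRoot.root (cubePoly F)) • v) = (AdjoinRoot.root (cubePoly F)) • g v) ∧
        ∀ u v, Cfsg.Agent.Lib.Helper15.stdSymp m F (g u) (g v) =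
          Cfsg.Agent.Lib.Helper15.stdSymp m F u v} := fun c =>
    ⟨Matrix.toLin' (c.1.1), by
      intro v
      rw [hωv, hωv, Matrix.toLin'_apply, Matrix.toLin'_apply, Matrix.mulVec_mulVec,
        Matrix.mulVec_mulVec]
      congr 1
      have h1 := (Subgroup.mem_centralizer_iff.1 c.2) x (Set.mem_singleton x)
      have h2 := congrArg (fun y : Matrix.symplecticGroup (Fin m) F => y.1) h1
      simpa using h2.symm, by
      intro u v
      rw [Cfsg.Agent.Lib.Helper15.stdSymp_apply, Cfsg.Agent.Lib.Helper15.stdSymp_apply,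
        Matrix.toLin'_apply, Matrix.toLin'_apply]
      exact (mem_symplecticGroup_iff_preserves _).1 c.1.2 u v⟩
  apply Nat.card_eq_of_bijective f
  constructor
  · intro c c' h
    apply Subtype.ext
    apply Subtype.ext
    have h1 := congrArg Subtype.val h
    exact Matrix.toLin'.injective h1
  · intro g
    have hA : LinearMap.toMatrix' g.1 ∈ Matrix.symplecticGroup (Fin m) F := by
      rw [mem_symplecticGroup_iff_preserves]
      intro u v
      have := g.2.2 u v
      rw [Cfsg.Agent.Lib.Helper15.stdSymp_apply, Cfsg.Agent.Lib.Helper15.stdSymp_apply] at this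
      rw [← Matrix.toLin'_apply, ← Matrix.toLin'_apply (LinearMap.toMatrix' g.1) v,
        Matrix.toLin'_toMatrix']
      exact this
    have hcomm : X * LinearMap.toMatrix' g.1 = LinearMap.toMatrix' g.1 * X := by
      apply Matrix.toLin'.injective
      apply LinearMap.ext
      intro v
      rw [Matrix.toLin'_mul, Matrix.toLin'_mul, LinearMap.comp_apply, LinearMap.comp_apply,
        Matrix.toLin'_toMatrix', Matrix.toLin'_apply, Matrix.toLin'_apply, ← hωv, ← hωv]
      exact (g.2.1 v).symm
    refine ⟨⟨⟨LinearMap.toMatrix' g.1, hA⟩, ?_⟩, ?_⟩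
    · rw [Subgroup.mem_centralizer_iff]
      intro y hy
      rw [Set.mem_singleton_iff] at hy
      subst hy
      apply Subtype.ext
      exact hcomm
    · apply Subtype.ext
      exact Matrix.toLin'_toMatrix' g.1

end

end Cfsg.Agent.Lib.Helper16
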