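import Mathlib
import Cfsg.Prelude.Def_LocalEven
import Cfsg.Agent.Lib.Helper27.Involves
import Cfsg.Agent.Lib.Helper10.DihedralRecog

set_option autoImplicit false
set_option linter.style.haveILetI false
set_option linter.unusedSimpArgs false
set_option linter.unusedSectionVars false
set_option linter.unnecessarySeqFocus false

namespace Cfsg.Agent.Lib.Helper16

open Cfsg Cfsg.Agent.Lib.Helper27

universe u v w

theorem involves_of_mulEquiv {H : Type u} {H' : Type w} [Group H] [Group H'] {G : Type v} [Group G]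
    (e : H ≃* H') (h : Involves H G) : Involves H' G := by
  rw [involves_iff] at h ⊢
  obtain ⟨K, f, hf⟩ := h
  exact ⟨K, e.toMonoidHom.comp f, e.surjective.comp hf⟩

section
variable {G : Type*} [Group G]

/-- a `2`-element normalizing but not centralizing a subgroup of odd prime power order has a power
inverting a nonidentity element of that subgroup -/
theorem exists_inverted_of_normalizer {p : ℕ} [Fact p.Prime] (x : G) (P : Subgroup G)
    (hx : ∃ k : ℕ, orderOf x = 2 ^ k) (hP : IsPGroup p P)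
    (hN : x ∈ Subgroup.normalizer (P : Set G)) (hC : x ∉ Subgroup.centralizer (P : Set G)) :
    ∃ x' y : G, (∃ k : ℕ, orderOf x' = 2 ^ k) ∧ (∃ k : ℕ, orderOf y = p ^ k) ∧ y ≠ 1 ∧
      x' * y * x'⁻¹ = y⁻¹ := by
  obtain ⟨k, hk⟩ := hx
  -- the largest `j` with `x ^ (2 ^ j)` not centralizing `P`
  have hex : ∃ j, j ≤ k ∧ x ^ (2 ^ j) ∉ Subgroup.centralizer (P : Set G) :=
    ⟨0, Nat.zero_le _, by simpa using hC⟩
  classical
  let j := Nat.findGreatest (fun j => x ^ (2 ^ j) ∉ Subgroup.centralizer (P : Set G)) k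
  have hj : x ^ (2 ^ j) ∉ Subgroup.centralizer (P : Set G) := by
    obtain ⟨j₀, hj₀, hj₀'⟩ := hex
    exact Nat.findGreatest_spec (P := fun j => x ^ (2 ^ j) ∉ Subgroup.centralizer (P : Set G))
      hj₀ hj₀'
  have hjk : j ≤ k := Nat.findGreatest_le k
  have hj1 : x ^ (2 ^ (j + 1)) ∈ Subgroup.centralizer (P : Set G) := by
    by_contra hcon
    by_cases hjk' : j + 1 ≤ k
    · have := Nat.le_findGreatest
        (P := fun j => x ^ (2 ^ j) ∉ Subgroup.centralizer (P : Set G)) hjk' hcon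
      change j + 1 ≤ j at this
      omega
    · have hjk'' : j = k := by omega
      apply hcon
      have : x ^ 2 ^ (j + 1) = 1 := by
        rw [hjk'', pow_succ, pow_mul, ← hk, pow_orderOf_eq_one, one_pow]
      rw [this]
      exact Subgroup.one_mem _
  set x' := x ^ (2 ^ j) with hx'
  have hx'N : x' ∈ Subgroup.normalizer (P : Set G) := Subgroup.pow_mem _ hN _
  have hx'2 : x' * x' ∈ Subgroup.centralizer (P : Set G) := by
    have : x' * x' = x ^ (2 ^ (j + 1)) := by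
      rw [hx', ← pow_add, pow_succ, mul_two]
    rw [this]
    exact hj1
  -- an element moved by `x'`
  rw [Subgroup.mem_centralizer_iff] at hj
  push Not at hj
  obtain ⟨u, huP, hu⟩ := hj
  have hconj : x' * u * x'⁻¹ ∈ P := (Subgroup.mem_normalizer_iff.1 hx'N u).1 huP
  refine ⟨x', u⁻¹ * (x' * u * x'⁻¹), ?_, ?_, ?_, ?_⟩
  · have hdvd : orderOf x' ∣ 2 ^ k := by
      rw [← hk]
      exact orderOf_pow_dvd _
    obtain ⟨i, -, hi⟩ := (Nat.dvd_prime_pow Nat.prime_two).1 hdvd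
    exact ⟨i, hi⟩
  · have hmem : u⁻¹ * (x' * u * x'⁻¹) ∈ P := P.mul_mem (P.inv_mem huP) hconj
    obtain ⟨i, hi⟩ := (IsPGroup.iff_orderOf.1 hP) ⟨_, hmem⟩
    refine ⟨i, ?_⟩
    rw [← hi]
    exact (Subgroup.orderOf_mk _ hmem).symm
  · intro h1
    apply hu
    have : x' * u * x'⁻¹ = u := by
      have := congrArg (fun z => u * z) h1
      simpa [mul_assoc] using this
    calc u * x' = (x' * u * x'⁻¹) * x' := by rw [this]
      _ = x' * u := by group
  · -- x' (u⁻¹ x' u x'⁻¹) x'⁻¹ = (x' u⁻¹ x'⁻¹) (x'² u x'⁻²) = (x' u x'⁻¹)⁻¹ u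
    rw [Subgroup.mem_centralizer_iff] at hx'2
    have h2 := hx'2 u huP
    have e1 : x' * (u⁻¹ * (x' * u * x'⁻¹)) * x'⁻¹ =
        (x' * u * x'⁻¹)⁻¹ * ((x' * x' * u) * (x' * x')⁻¹) := by group
    have e2 : (u⁻¹ * (x' * u * x'⁻¹))⁻¹ = (x' * u * x'⁻¹)⁻¹ * u := by group
    rw [e1, e2, ← h2]
    group

/-- an inverted element gives a normalized, not centralized `p`-subgroup -/
theorem exists_normalizer_of_inverted {p : ℕ} [hp : Fact p.Prime] (hp2 : p ≠ 2) (x y : G)
    (hy : ∃ k : ℕ, orderOf y = p ^ k) (hy1 : y ≠ 1) (hinv : x * y * x⁻¹ = y⁻¹) :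
    IsPGroup p ↥(Subgroup.zpowers y) ∧ x ∈ Subgroup.normalizer ((Subgroup.zpowers y : Subgroup G) : Set G) ∧
      x ∉ Subgroup.centralizer ((Subgroup.zpowers y : Subgroup G) : Set G) := by
  obtain ⟨k, hk⟩ := hy
  refine ⟨?_, ?_, ?_⟩
  · apply IsPGroup.of_card (n := k)
    rw [Nat.card_zpowers, hk]
  · have key : ∀ (a : G), a * y * a⁻¹ = y⁻¹ → ∀ h ∈ Subgroup.zpowers y, a * h * a⁻¹ ∈ Subgroup.zpowers y := by
      intro a ha h hh
      obtain ⟨m, rfl⟩ := Subgroup.mem_zpowers_iff.1 hh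
      have : a * y ^ m * a⁻¹ = (a * y * a⁻¹) ^ m := by
        rw [conj_zpow]
      rw [this, ha]
      exact Subgroup.zpow_mem _ (Subgroup.inv_mem _ (Subgroup.mem_zpowers y)) m
    rw [Subgroup.mem_normalizer_iff]
    intro h
    constructor
    · exact key x hinv h
    · intro hh
      have hinv' : x⁻¹ * y * x⁻¹⁻¹ = y⁻¹ := by
        have h1 : y⁻¹ = x⁻¹ * y * x := by
          have : y = x⁻¹ * y⁻¹ * x := by rw [← hinv]; group
          calc y⁻¹ = (x⁻¹ * y⁻¹ * x)⁻¹ := by rw [← this]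
            _ = x⁻¹ * y * x := by group
        rw [inv_inv, ← h1]
      have := key x⁻¹ hinv' _ hh
      have e : x⁻¹ * (x * h * x⁻¹) * x⁻¹⁻¹ = h := by group
      rwa [e] at this
  · intro hc
    rw [Subgroup.mem_centralizer_iff] at hc
    have h1 := hc y (Subgroup.mem_zpowers y)
    have h2 : y = y⁻¹ := by
      rw [← hinv, ← h1]
      group
    have h3 : y ^ 2 = 1 := by
      rw [pow_two]
      nth_rewrite 1 [h2]
      exact inv_mul_cancel y
    have h4 : orderOf y ∣ 2 := orderOf_dvd_of_pow_eq_one h3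
    rw [hk] at h4
    have hk0 : k ≠ 0 := by
      rintro rfl
      rw [pow_zero, orderOf_eq_one_iff] at hk
      exact hy1 hk
    have h5 : p ∣ 2 := dvd_trans (dvd_pow_self p hk0) h4
    exact hp2 ((Nat.prime_dvd_prime_iff_eq hp.out Nat.prime_two).1 h5)


theorem eq_one_of_eq_inv_of_pow {H : Type*} [Group H] {p : ℕ} [hp : Fact p.Prime] (hp2 : p ≠ 2)
    (g : H) (h1 : g = g⁻¹) (h2 : g ^ p = 1) : g = 1 := by
  have h3 : g ^ 2 = 1 := by
    rw [pow_two]
    nth_rewrite 1 [h1]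
    exact inv_mul_cancel g
  have h4 : orderOf g ∣ 2 := orderOf_dvd_of_pow_eq_one h3
  have h5 : orderOf g ∣ p := orderOf_dvd_of_pow_eq_one h2
  have h6 : Nat.Coprime 2 p := by
    rw [Nat.coprime_primes Nat.prime_two hp.out]
    exact fun h => hp2 h.symm
  have h7 : orderOf g ∣ 1 := by
    have := Nat.dvd_gcd h4 h5
    rwa [h6] at this
  exact orderOf_eq_one_iff.1 (Nat.dvd_one.1 h7)

/-- an element inverting a nonidentity element of odd prime power order gives a dihedral section -/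
theorem involves_dihedral_of_inverted {p : ℕ} [hp : Fact p.Prime] (hp2 : p ≠ 2) (x y : G)
    (hy : ∃ k : ℕ, orderOf y = p ^ k) (hy1 : y ≠ 1) (hinv : x * y * x⁻¹ = y⁻¹) :
    Involves (DihedralGroup p) G := by
  obtain ⟨k, hk⟩ := hy
  have hk0 : k ≠ 0 := by
    rintro rfl
    rw [pow_zero, orderOf_eq_one_iff] at hk
    exact hy1 hk
  -- an element of order `p`
  obtain ⟨y', hy'def⟩ : ∃ y', y' = y ^ (p ^ (k - 1)) := ⟨_, rfl⟩
  have hy'p : y' ^ p = 1 := by
    rw [hy'def, ← pow_mul, ← pow_succ, Nat.sub_add_cancel (Nat.one_le_iff_ne_zero.2 hk0), ← hk,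
      pow_orderOf_eq_one]
  have hy'1 : y' ≠ 1 := by
    intro h
    rw [hy'def] at h
    have h1 := orderOf_dvd_of_pow_eq_one h
    rw [hk] at h1
    have := (Nat.pow_dvd_pow_iff_le_right hp.out.one_lt).1 h1
    omega
  have hinv' : x * y' * x⁻¹ = y'⁻¹ := by
    rw [hy'def, ← conj_pow, hinv, inv_pow]
  have hinv2 : x * y'⁻¹ * x⁻¹ = y' := by
    have e : x * y'⁻¹ * x⁻¹ = (x * y' * x⁻¹)⁻¹ := by group
    rw [e, hinv', inv_inv]
  have hxK : x ∈ Subgroup.centralizer ({x * x} : Set G) := by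
    rw [Subgroup.mem_centralizer_iff]
    intro h hh
    rw [Set.mem_singleton_iff] at hh
    rw [hh, mul_assoc]
  have hyK : y' ∈ Subgroup.centralizer ({x * x} : Set G) := by
    rw [Subgroup.mem_centralizer_iff]
    intro h hh
    rw [Set.mem_singleton_iff] at hh
    rw [hh]
    calc x * x * y' = x * ((x * y' * x⁻¹) * x) := by group
      _ = (x * y'⁻¹ * x⁻¹) * (x * x) := by rw [hinv']; group
      _ = y' * (x * x) := by rw [hinv2]
  have hzK : x * x ∈ Subgroup.centralizer ({x * x} : Set G) := Subgroup.mul_mem _ hxK hxK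
  have hnorm : (Subgroup.zpowers (⟨x * x, hzK⟩ : Subgroup.centralizer ({x * x} : Set G))).Normal := by
    constructor
    intro n hn g
    obtain ⟨m, rfl⟩ := Subgroup.mem_zpowers_iff.1 hn
    have hcomm : Commute g (⟨x * x, hzK⟩ : Subgroup.centralizer ({x * x} : Set G)) := by
      have := g.2
      rw [Subgroup.mem_centralizer_iff] at this
      exact Subtype.ext (this (x * x) rfl).symm
    rw [(hcomm.zpow_right m).mul_inv_cancel]
    exact Subgroup.zpow_mem _ (Subgroup.mem_zpowers _) m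
  haveI := hnorm
  set a : Subgroup.centralizer ({x * x} : Set G) ⧸
      Subgroup.zpowers (⟨x * x, hzK⟩ : Subgroup.centralizer ({x * x} : Set G)) :=
    QuotientGroup.mk ⟨x, hxK⟩ with ha_def
  set b : Subgroup.centralizer ({x * x} : Set G) ⧸
      Subgroup.zpowers (⟨x * x, hzK⟩ : Subgroup.centralizer ({x * x} : Set G)) :=
    QuotientGroup.mk ⟨y', hyK⟩ with hb_def
  have ha2 : a * a = 1 := by
    rw [ha_def, ← QuotientGroup.mk_mul, QuotientGroup.eq_one_iff]
    exact Subgroup.mem_zpowers _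
  have hinvQ : a * b * a⁻¹ = b⁻¹ := by
    rw [ha_def, hb_def, ← QuotientGroup.mk_inv, ← QuotientGroup.mk_mul, ← QuotientGroup.mk_mul,
      ← QuotientGroup.mk_inv]
    exact congrArg _ (Subtype.ext hinv')
  have hbp : b ^ p = 1 := by
    rw [hb_def, ← QuotientGroup.mk_pow]
    have : (⟨y', hyK⟩ : Subgroup.centralizer ({x * x} : Set G)) ^ p = 1 := Subtype.ext hy'p
    rw [this, QuotientGroup.mk_one]
  have hb1 : b ≠ 1 := by
    intro hb
    rw [hb_def, QuotientGroup.eq_one_iff] at hb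
    obtain ⟨m, hm⟩ := Subgroup.mem_zpowers_iff.1 hb
    have hm' : (x * x) ^ m = y' := by
      have := congrArg (fun w : Subgroup.centralizer ({x * x} : Set G) => (w : G)) hm
      simpa using this
    have hcomm : Commute x y' := by
      rw [← hm']
      exact ((Commute.refl x).mul_right (Commute.refl x)).zpow_right m
    have h1 : y' = y'⁻¹ := by
      rw [← hinv', hcomm.mul_inv_cancel]
    exact hy'1 (eq_one_of_eq_inv_of_pow hp2 y' h1 hy'p)
  have hord : orderOf b = p := orderOf_eq_prime hbp hb1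
  have hnot : a ∉ Subgroup.zpowers b := by
    intro ha
    obtain ⟨m, hm⟩ := Subgroup.mem_zpowers_iff.1 ha
    have hcomm : Commute a b := by
      rw [← hm]
      exact (Commute.refl b).zpow_left m
    have h1 : b = b⁻¹ := by
      rw [← hinvQ, hcomm.mul_inv_cancel]
    exact hb1 (eq_one_of_eq_inv_of_pow hp2 b h1 hbp)
  haveI : NeZero p := ⟨hp.out.ne_zero⟩
  obtain ⟨e⟩ := Cfsg.Agent.Lib.Helper10.nonempty_mulEquiv_dihedralGroup p a b hord ha2 hinvQ hnot
  have h1 : Involves (Subgroup.centralizer ({x * x} : Set G) ⧸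
      Subgroup.zpowers (⟨x * x, hzK⟩ : Subgroup.centralizer ({x * x} : Set G)))
      (Subgroup.centralizer ({x * x} : Set G)) :=
    involves_of_surjective (QuotientGroup.mk' _) (QuotientGroup.mk'_surjective _)
  have h2 := involves_subgroup (Subgroup.zpowers a ⊔ Subgroup.zpowers b) h1
  have h3 := involves_of_injective (Subgroup.centralizer ({x * x} : Set G)).subtype
    (Subgroup.subtype_injective _) h2
  exact involves_of_mulEquiv e h3


/-- the sign homomorphism of a dihedral group -/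
def dihSign (n : ℕ) : DihedralGroup n →* ℤˣ where
  toFun g := match g with
    | .r _ => 1
    | .sr _ => -1
  map_one' := rfl
  map_mul' := by
    rintro (i | i) (j | j) <;> rfl

theorem dihSign_r (n : ℕ) (i : ZMod n) : dihSign n (DihedralGroup.r i) = 1 := rfl

theorem dihSign_sr (n : ℕ) (i : ZMod n) : dihSign n (DihedralGroup.sr i) = -1 := rfl

theorem exists_sr_of_dihSign {n : ℕ} (g : DihedralGroup n) (hg : dihSign n g = -1) :
    ∃ i, g = DihedralGroup.sr i := by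
  cases g with
  | r i =>
    rw [dihSign_r] at hg
    exact absurd hg (by decide)
  | sr i => exact ⟨i, rfl⟩

theorem sr_pow_odd {n : ℕ} (i : ZMod n) (m : ℕ) (hm : ¬ 2 ∣ m) :
    (DihedralGroup.sr i) ^ m = DihedralGroup.sr i := by
  obtain ⟨t, rfl⟩ : ∃ t, m = 2 * t + 1 := ⟨m / 2, by omega⟩
  rw [pow_succ, pow_mul, pow_two, DihedralGroup.sr_mul_self, one_pow, one_mul]

/-- the `q`-part of an element of a finite group -/
theorem exists_pow_prime_part {K : Type*} [Group K] [Finite K] (q : ℕ) [hq : Fact q.Prime] (g : K) :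
    ∃ m : ℕ, ¬ q ∣ m ∧ ∃ i, orderOf (g ^ m) = q ^ i := by
  have hord : orderOf g ≠ 0 := (orderOf_pos g).ne'
  obtain ⟨e, m, hm, hem⟩ := Nat.exists_eq_pow_mul_and_not_dvd hord q hq.out.ne_one
  refine ⟨m, hm, ?_⟩
  have h1 : (g ^ m) ^ (q ^ e) = 1 := by
    rw [← pow_mul, mul_comm, ← hem, pow_orderOf_eq_one]
  obtain ⟨i, -, hi⟩ := (Nat.dvd_prime_pow hq.out).1 (orderOf_dvd_of_pow_eq_one h1)
  exact ⟨i, hi⟩

theorem exists_inverted_of_surjective_dihedral {K : Type*} [Group K] [Finite K] {p : ℕ}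
    [hp : Fact p.Prime] (hp2 : p ≠ 2) (f : K →* DihedralGroup p) (hf : Function.Surjective f) :
    ∃ x y : K, (∃ k : ℕ, orderOf x = 2 ^ k) ∧ (∃ k : ℕ, orderOf y = p ^ k) ∧ y ≠ 1 ∧
      x * y * x⁻¹ = y⁻¹ := by
  haveI : NeZero p := ⟨hp.out.ne_zero⟩
  haveI : Fact (Nat.Prime 2) := ⟨Nat.prime_two⟩
  -- the preimage of the rotation subgroup
  obtain ⟨Q, hQ⟩ : ∃ Q : Subgroup K, Q = ((dihSign p).comp f).ker := ⟨_, rfl⟩
  haveI hQn : Q.Normal := by rw [hQ]; infer_instance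
  have hQmem : ∀ g : K, g ∈ Q ↔ dihSign p (f g) = 1 := by
    intro g
    rw [hQ, MonoidHom.mem_ker, MonoidHom.comp_apply]
  -- a `p`-element mapping to a nontrivial rotation
  obtain ⟨k₁, hk₁⟩ := hf (DihedralGroup.r 1)
  obtain ⟨m', hm', i₁, hi₁⟩ := exists_pow_prime_part p k₁
  have hfb : f (k₁ ^ m') = DihedralGroup.r (m' : ZMod p) := by
    rw [map_pow, hk₁, DihedralGroup.r_one_pow]
  have hm'0 : (m' : ZMod p) ≠ 0 := by
    rw [Ne, ZMod.natCast_eq_zero_iff]
    exact hm'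
  have hbQ : k₁ ^ m' ∈ Q := by
    rw [hQmem, hfb, dihSign_r]
  have hzp : IsPGroup p (Subgroup.zpowers (⟨k₁ ^ m', hbQ⟩ : Q)) := by
    apply IsPGroup.of_card (n := i₁)
    rw [Nat.card_zpowers, ← hi₁]
    exact Subgroup.orderOf_mk _ hbQ
  obtain ⟨P, hP⟩ := hzp.exists_le_sylow
  have hbP : k₁ ^ m' ∈ (P : Subgroup Q).map Q.subtype :=
    ⟨⟨k₁ ^ m', hbQ⟩, hP (Subgroup.mem_zpowers _), rfl⟩
  -- Frattini
  have hfrat := Sylow.normalizer_sup_eq_top P
  obtain ⟨a₀, ha₀⟩ := hf (DihedralGroup.sr 0)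
  have ha₀mem : a₀ ∈ (↑(Subgroup.normalizer (((P : Subgroup Q).map Q.subtype : Subgroup K) : Set K) ⊔ Q) :
      Set K) := by
    rw [hfrat]
    trivial
  rw [Subgroup.mul_normal] at ha₀mem
  obtain ⟨n, hn, q, hq, hnq⟩ := Set.mem_mul.1 ha₀mem
  have hfn : dihSign p (f n) = -1 := by
    have h1 : dihSign p (f a₀) = -1 := by rw [ha₀, dihSign_sr]
    rw [← hnq, map_mul, map_mul, (hQmem q).1 hq, mul_one] at h1
    exact h1
  obtain ⟨i, hi⟩ := exists_sr_of_dihSign _ hfn
  obtain ⟨m₂, hm₂, i₂, hi₂⟩ := exists_pow_prime_part 2 n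
  have hfx : f (n ^ m₂) = DihedralGroup.sr i := by
    rw [map_pow, hi, sr_pow_odd i m₂ hm₂]
  have hxN : n ^ m₂ ∈ Subgroup.normalizer (((P : Subgroup Q).map Q.subtype : Subgroup K) : Set K) :=
    Subgroup.pow_mem _ hn _
  have hxC : n ^ m₂ ∉ Subgroup.centralizer (((P : Subgroup Q).map Q.subtype : Subgroup K) : Set K) := by
    intro hc
    rw [Subgroup.mem_centralizer_iff] at hc
    have h1 := hc _ hbP
    have h2 := congrArg f h1
    rw [map_mul, map_mul, hfx, hfb, DihedralGroup.r_mul_sr, DihedralGroup.sr_mul_r] at h2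
    have h3 : i - (m' : ZMod p) = i + (m' : ZMod p) := by
      injection h2
    have h4 : (2 : ZMod p) * (m' : ZMod p) = 0 := by linear_combination -h3
    rcases mul_eq_zero.1 h4 with h5 | h5
    · have : ((2 : ℕ) : ZMod p) = 0 := by exact_mod_cast h5
      rw [ZMod.natCast_eq_zero_iff] at this
      exact hp2 ((Nat.prime_dvd_prime_iff_eq hp.out Nat.prime_two).1 this)
    · exact hm'0 h5
  exact exists_inverted_of_normalizer (n ^ m₂) _ ⟨i₂, hi₂⟩ (P.2.map Q.subtype) hxN hxC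

/-- the characterizations of groups involving the dihedral group of order `2p` -/
theorem involves_dihedral_iff [Finite G] {p : ℕ} [Fact p.Prime] (hp : p ≠ 2) :
    (Cfsg.Involves (DihedralGroup p) G ↔ ∃ (x : G) (P : Subgroup G), (∃ k : ℕ, orderOf x = 2 ^ k) ∧ IsPGroup p ↥P ∧ x ∈ Subgroup.normalizer (P : Set G) ∧ x ∉ Subgroup.centralizer (P : Set G)) ∧ (Cfsg.Involves (DihedralGroup p) G ↔ ∃ x y : G, (∃ k : ℕ, orderOf x = 2 ^ k) ∧ (∃ k : ℕ, orderOf y = p ^ k) ∧ y ≠ 1 ∧ x * y * x⁻¹ = y⁻¹) := by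
  have h13 : Cfsg.Involves (DihedralGroup p) G → ∃ x y : G, (∃ k : ℕ, orderOf x = 2 ^ k) ∧
      (∃ k : ℕ, orderOf y = p ^ k) ∧ y ≠ 1 ∧ x * y * x⁻¹ = y⁻¹ := by
    intro h
    obtain ⟨K, f, hf⟩ := involves_iff.1 h
    obtain ⟨x, y, ⟨k, hx⟩, ⟨k', hy⟩, hy1, hinv⟩ := exists_inverted_of_surjective_dihedral hp f hf
    refine ⟨x, y, ⟨k, ?_⟩, ⟨k', ?_⟩, ?_, ?_⟩
    · rw [Subgroup.orderOf_coe, hx]
    · rw [Subgroup.orderOf_coe, hy]
    · intro h1
      exact hy1 (Subtype.ext h1)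
    · have := congrArg (fun w : K => (w : G)) hinv
      simpa using this
  have h31 : (∃ x y : G, (∃ k : ℕ, orderOf x = 2 ^ k) ∧
      (∃ k : ℕ, orderOf y = p ^ k) ∧ y ≠ 1 ∧ x * y * x⁻¹ = y⁻¹) →
      Cfsg.Involves (DihedralGroup p) G := by
    rintro ⟨x, y, -, hy, hy1, hinv⟩
    exact involves_dihedral_of_inverted hp x y hy hy1 hinv
  refine ⟨⟨?_, ?_⟩, ⟨h13, h31⟩⟩
  · intro h
    obtain ⟨x, y, hx, hy, hy1, hinv⟩ := h13 h
    obtain ⟨h1, h2, h3⟩ := exists_normalizer_of_inverted hp x y hy hy1 hinv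
    exact ⟨x, Subgroup.zpowers y, hx, h1, h2, h3⟩
  · rintro ⟨x, P, hx, hP, hN, hC⟩
    exact h31 (exists_inverted_of_normalizer x P hx hP hN hC)

end

end Cfsg.Agent.Lib.Helper16
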