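import Mathlib
import Cfsg.Agent.Lib.Helper16.FHDefs

/-! # Basic lemmas on alternating products (S1142, Feit–Higman) -/

set_option autoImplicit false

namespace Cfsg.Agent.Lib.Helper16.FH

open Matrix

section monoid
variable {E F : Type*} [Monoid E] [Monoid F]

theorem map_alt (f : E →* F) (a b : E) (k : ℕ) : f (alt a b k) = alt (f a) (f b) k := by
  induction k generalizing a b with
  | zero => simp
  | succ k ih => simp [alt_succ, ih]

/-- appending a letter on the right -/
theorem alt_succ_right (a b : E) (k : ℕ) :
    alt a b (k + 1) = alt a b k * (if Even k then a else b) := by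
  induction k generalizing a b with
  | zero => simp
  | succ k ih =>
    rw [alt_succ a b (k + 1), ih b a, alt_succ a b k, mul_assoc]
    congr 2
    by_cases h : Even k
    · have : ¬ Even (k + 1) := by
        rw [Nat.even_add_one]; exact not_not.mpr h
      simp [h, this]
    · have : Even (k + 1) := by
        rw [Nat.even_add_one]; exact h
      simp [h, this]

end monoid

theorem fst_alt {E F : Type*} [Monoid E] [Monoid F] (a b : E × F) (k : ℕ) :
    (alt a b k).1 = alt a.1 b.1 k := map_alt (MonoidHom.fst E F) a b k

theorem snd_alt {E F : Type*} [Monoid E] [Monoid F] (a b : E × F) (k : ℕ) :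
    (alt a b k).2 = alt a.2 b.2 k := map_alt (MonoidHom.snd E F) a b k

theorem alt_comm_monoid {E : Type*} [CommMonoid E] (a b : E) (k : ℕ) :
    alt a b (2 * k) = (a * b) ^ k := by
  induction k with
  | zero => simp
  | succ k ih =>
    rw [show 2 * (k + 1) = (2 * k + 1) + 1 by ring, alt_succ, alt_succ]
    rw [show alt a b (2 * k) = (a * b) ^ k from ih, pow_succ, ← mul_assoc, mul_comm]

theorem alt_pos {p q : ℝ} (hp : 0 < p) (hq : 0 < q) (k : ℕ) : 0 < alt p q k := by
  induction k generalizing p q with
  | zero => simp
  | succ k ih => rw [alt_succ]; exact mul_pos hp (ih hq hp)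

section transpose
variable {C : Type*} [Fintype C]

theorem alt_transpose {A B : Matrix C C ℝ} [DecidableEq C] (hA : Aᵀ = A) (hB : Bᵀ = B) (k : ℕ) :
    (alt A B k)ᵀ = if Even k then alt B A k else alt A B k := by
  induction k generalizing A B with
  | zero => simp
  | succ k ih =>
    have e : (alt A B (k + 1))ᵀ = (alt B A k)ᵀ * A := by
      rw [alt_succ, Matrix.transpose_mul, hA]
    rw [e, ih hB hA]
    by_cases h : Even k
    · have h1 : ¬ Even (k + 1) := by rw [Nat.even_add_one]; exact not_not.mpr h
      rw [if_pos h, if_neg h1, alt_succ_right A B k, if_pos h]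
    · have h1 : Even (k + 1) := by rw [Nat.even_add_one]; exact h
      rw [if_neg h, if_pos h1, alt_succ_right B A k, if_neg h]

end transpose

end Cfsg.Agent.Lib.Helper16.FH
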