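import Mathlib
import Cfsg.Agent.Lib.Helper16.FHAlt

/-! # Integrality of the Schur element (S1142, Feit–Higman): set-up -/

set_option autoImplicit false

namespace Cfsg.Agent.Lib.Helper16.FH

open Matrix

/-- an idempotent real matrix has a natural number as trace (its rank) -/
theorem idem_trace_nat {C : Type*} [Fintype C] [DecidableEq C] (P : Matrix C C ℝ) (h : P * P = P) :
    ∃ m : ℕ, P.trace = m := by
  have hid : IsIdempotentElem (Matrix.toLin' P) := by
    change Matrix.toLin' P * Matrix.toLin' P = Matrix.toLin' P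
    rw [Module.End.mul_eq_comp, ← Matrix.toLin'_mul, h]
  have := (LinearMap.IsIdempotentElem.isProj_range _ hid).trace
  exact ⟨Module.finrank ℝ ↥(LinearMap.range (toLin' P)), by rw [← Matrix.trace_toLin'_eq, this]⟩

/-- the hypotheses of `schur_integrality`, bundled -/
structure SchurCtx {C : Type*} [Fintype C] [DecidableEq C] (n : ℕ) (p q : ℝ) (A B : Matrix C C ℝ)
    (r1 r2 : Matrix (Fin 2) (Fin 2) ℝ) : Prop where
  hn : 1 ≤ n
  hp : 0 < p
  hq : 0 < q
  hk : IsHeckeData n p q A B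
  hr1 : r1ᵀ = r1
  hr2 : r2ᵀ = r2
  hq1 : r1 * r1 = p • (1 : Matrix (Fin 2) (Fin 2) ℝ) + (p - 1) • r1
  hq2 : r2 * r2 = q • (1 : Matrix (Fin 2) (Fin 2) ℝ) + (q - 1) • r2
  hbr : alt r1 r2 n = alt r2 r1 n
  hcomm : ∀ M : Matrix (Fin 2) (Fin 2) ℝ, M * r1 = r1 * M → M * r2 = r2 * M →
      ∃ c : ℝ, M = c • (1 : Matrix (Fin 2) (Fin 2) ℝ)

section

variable {C : Type*} [Fintype C] [DecidableEq C]

/-- the product algebra in which we work -/
abbrev EE (C : Type*) [Fintype C] [DecidableEq C] := Matrix C C ℝ × Matrix (Fin 2) (Fin 2) ℝ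

/-- componentwise transpose -/
def tp (X : EE C) : EE C := (X.1ᵀ, X.2ᵀ)

/-- the `2n` alternating words: `alt a b k` for `k < n` and `alt b a k` for `1 ≤ k ≤ n` -/
def fam {E : Type*} [Monoid E] (a b : E) (n : ℕ) : Fin n ⊕ Fin n → E
  | .inl k => alt a b k
  | .inr k => alt b a (k + 1)

/-- the weights `q_w` of the `2n` alternating words -/
def wt (p q : ℝ) (n : ℕ) : Fin n ⊕ Fin n → ℝ := fam p q n

theorem wt_pos {p q : ℝ} (hp : 0 < p) (hq : 0 < q) (n : ℕ) (i : Fin n ⊕ Fin n) : 0 < wt p q n i := by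
  cases i with
  | inl k => exact alt_pos hp hq _
  | inr k => exact alt_pos hq hp _

theorem fst_fam {E F : Type*} [Monoid E] [Monoid F] (a b : E × F) (n : ℕ) (i : Fin n ⊕ Fin n) :
    (fam a b n i).1 = fam a.1 b.1 n i := by
  cases i <;> simp [fam, fst_alt]

theorem snd_fam {E F : Type*} [Monoid E] [Monoid F] (a b : E × F) (n : ℕ) (i : Fin n ⊕ Fin n) :
    (fam a b n i).2 = fam a.2 b.2 n i := by
  cases i <;> simp [fam, snd_alt]

/-- the Gram matrix of the family for the trace form is diagonal -/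
theorem gram {n : ℕ} {p q : ℝ} {A B : Matrix C C ℝ} (h : IsHeckeData n p q A B)
    (i j : Fin n ⊕ Fin n) :
    (fam A B n i * (fam A B n j)ᵀ).trace =
      if i = j then (Fintype.card C : ℝ) * wt p q n i else 0 := by
  rcases i with k | k <;> rcases j with l | l
  · have := h.orthAA k l (le_of_lt k.2) (le_of_lt l.2)
    simp only [fam, wt, this, Sum.inl.injEq, Fin.ext_iff]
  · have := h.orthAB k (l + 1) (le_of_lt k.2) l.2
    have hne : ¬ ((k : ℕ) = l + 1 ∧ ((k : ℕ) = 0 ∨ (k : ℕ) = n)) := by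
      rintro ⟨h1, h2 | h2⟩
      · omega
      · have := k.2; omega
    simp only [fam, this, if_neg hne]
    simp
  · have := h.orthAB l (k + 1) (le_of_lt l.2) k.2
    have hne : ¬ ((l : ℕ) = k + 1 ∧ ((l : ℕ) = 0 ∨ (l : ℕ) = n)) := by
      rintro ⟨h1, h2 | h2⟩
      · omega
      · have := l.2; omega
    rw [if_neg hne] at this
    have e : (fam A B n (Sum.inr k) * (fam A B n (Sum.inl l))ᵀ).trace
        = (alt A B l * (alt B A (k + 1))ᵀ).trace := by
      simp only [fam]
      rw [← Matrix.trace_transpose, Matrix.transpose_mul, Matrix.transpose_transpose]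
    rw [e, this]
    simp
  · have := h.orthBB (k + 1) (l + 1) k.2 l.2
    simp only [fam, wt, this, Sum.inr.injEq, Fin.ext_iff, add_left_inj]

end

end Cfsg.Agent.Lib.Helper16.FH
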