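import Mathlib
import Cfsg.Agent.Lib.Helper16.FHSchurA
import Cfsg.Agent.Lib.Helper26.FHAlg1

/-! # Integrality of the Schur element (S1142, Feit–Higman): the algebra and the element `Φ` -/

set_option autoImplicit false

namespace Cfsg.Agent.Lib.Helper16.FH

open Matrix

section

variable {C : Type*} [Fintype C] [DecidableEq C]

/-- trace of the first component -/
noncomputable def tau : EE C →ₗ[ℝ] ℝ := (Matrix.traceLinearMap C ℝ ℝ) ∘ₗ (LinearMap.fst ℝ _ _)

/-- trace of the second component -/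
noncomputable def chi : EE C →ₗ[ℝ] ℝ :=
  (Matrix.traceLinearMap (Fin 2) ℝ ℝ) ∘ₗ (LinearMap.snd ℝ _ _)

@[simp] theorem tau_apply (X : EE C) : tau X = X.1.trace := rfl
@[simp] theorem chi_apply (X : EE C) : chi X = X.2.trace := rfl

theorem tau_mul_comm (X Y : EE C) : tau (X * Y) = tau (Y * X) := by
  simp only [tau_apply, Prod.fst_mul]; exact Matrix.trace_mul_comm _ _

theorem chi_mul_comm (X Y : EE C) : chi (X * Y) = chi (Y * X) := by
  simp only [chi_apply, Prod.snd_mul]; exact Matrix.trace_mul_comm _ _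

theorem chi_tp (X : EE C) : chi (tp X) = chi X := by
  simp [tp, Matrix.trace_transpose]

theorem tp_tp (X : EE C) : tp (tp X) = X := by
  simp [tp]

theorem tp_mul (X Y : EE C) : tp (X * Y) = tp Y * tp X := by
  simp [tp, Matrix.transpose_mul]

theorem tp_add (X Y : EE C) : tp (X + Y) = tp X + tp Y := by
  simp [tp, Matrix.transpose_add]

theorem tp_smul (c : ℝ) (X : EE C) : tp (c • X) = c • tp X := by
  simp [tp, Matrix.transpose_smul]

theorem tp_sum {ι : Type*} (s : Finset ι) (f : ι → EE C) : tp (∑ i ∈ s, f i) = ∑ i ∈ s, tp (f i) := by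
  classical
  induction s using Finset.induction_on with
  | empty => simp [tp]
  | insert a s ha ih => rw [Finset.sum_insert ha, Finset.sum_insert ha, tp_add, ih]

variable {n : ℕ} {p q : ℝ} {A B : Matrix C C ℝ} {r1 r2 : Matrix (Fin 2) (Fin 2) ℝ}

/-- the subalgebra generated by `(A, r1)` and `(B, r2)` -/
def alg (A B : Matrix C C ℝ) (r1 r2 : Matrix (Fin 2) (Fin 2) ℝ) : Subalgebra ℝ (EE C) :=
  Algebra.adjoin ℝ ({((A, r1) : EE C), ((B, r2) : EE C)} : Set (EE C))

theorem a_mem_alg : ((A, r1) : EE C) ∈ alg A B r1 r2 :=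
  Algebra.subset_adjoin (by simp)

theorem b_mem_alg : ((B, r2) : EE C) ∈ alg A B r1 r2 :=
  Algebra.subset_adjoin (by simp)

theorem alt_mem_subalgebra {E : Type*} [Ring E] [Algebra ℝ E] (S : Subalgebra ℝ E) {a b : E}
    (ha : a ∈ S) (hb : b ∈ S) (k : ℕ) : alt a b k ∈ S := by
  induction k generalizing a b with
  | zero => simpa using S.one_mem
  | succ k ih => rw [alt_succ]; exact S.mul_mem ha (ih hb ha)

theorem fam_mem_alg (i : Fin n ⊕ Fin n) :
    fam ((A, r1) : EE C) (B, r2) n i ∈ alg A B r1 r2 := by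
  cases i with
  | inl k => exact alt_mem_subalgebra (alg A B r1 r2) (a_mem_alg (A := A) (B := B) (r1 := r1) (r2 := r2)) (b_mem_alg (A := A) (B := B) (r1 := r1) (r2 := r2)) k
  | inr k => exact alt_mem_subalgebra (alg A B r1 r2) (b_mem_alg (A := A) (B := B) (r1 := r1) (r2 := r2)) (a_mem_alg (A := A) (B := B) (r1 := r1) (r2 := r2)) (k+1)

theorem quad_a (H : SchurCtx n p q A B r1 r2) :
    ((A, r1) : EE C) * (A, r1) = p • (1 : EE C) + (p - 1) • ((A, r1) : EE C) := by
  ext : 1
  · simpa using H.hk.quadA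
  · simpa using H.hq1

theorem quad_b (H : SchurCtx n p q A B r1 r2) :
    ((B, r2) : EE C) * (B, r2) = q • (1 : EE C) + (q - 1) • ((B, r2) : EE C) := by
  ext : 1
  · simpa using H.hk.quadB
  · simpa using H.hq2

theorem braid_ab (H : SchurCtx n p q A B r1 r2) :
    alt ((A, r1) : EE C) (B, r2) n = alt ((B, r2) : EE C) (A, r1) n := by
  ext : 1
  · rw [fst_alt, fst_alt]; exact H.hk.braid
  · rw [snd_alt, snd_alt]; exact H.hbr

theorem tp_a (H : SchurCtx n p q A B r1 r2) : tp ((A, r1) : EE C) = (A, r1) := by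
  simp [tp, H.hk.symmA, H.hr1]

theorem tp_b (H : SchurCtx n p q A B r1 r2) : tp ((B, r2) : EE C) = (B, r2) := by
  simp [tp, H.hk.symmB, H.hr2]

theorem tp_mem_alg (H : SchurCtx n p q A B r1 r2) {X : EE C} (hX : X ∈ alg A B r1 r2) :
    tp X ∈ alg A B r1 r2 := by
  unfold alg at hX
  induction hX using Algebra.adjoin_induction with
  | mem x hx =>
    rcases hx with rfl | hx
    · rw [tp_a H]; exact a_mem_alg
    · rw [Set.mem_singleton_iff] at hx; subst hx; rw [tp_b H]; exact b_mem_alg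
  | algebraMap r =>
    have : tp (algebraMap ℝ (EE C) r) = algebraMap ℝ (EE C) r := by
      ext : 1 <;> simp [tp, Algebra.algebraMap_eq_smul_one, Matrix.transpose_smul]
    rw [this]; exact (alg A B r1 r2).algebraMap_mem r
  | add x y _ _ hx hy => rw [tp_add]; exact (alg A B r1 r2).add_mem hx hy
  | mul x y _ _ hx hy => rw [tp_mul]; exact (alg A B r1 r2).mul_mem hy hx

/-- every element of the algebra is a combination of the `2n` alternating words -/
theorem exists_coeff (H : SchurCtx n p q A B r1 r2) {X : EE C} (hX : X ∈ alg A B r1 r2) :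
    ∃ x : Fin n ⊕ Fin n → ℝ, X = ∑ i, x i • fam ((A, r1) : EE C) (B, r2) n i := by
  have h1 := Cfsg.Agent.Lib.Helper26.FH.adjoin_eq_span_alt ((A, r1) : EE C) (B, r2) p q n H.hn (quad_a H) (quad_b H) (braid_ab H)
  have h2 : X ∈ Subalgebra.toSubmodule (alg A B r1 r2) := hX
  unfold alg at h2
  rw [h1] at h2
  have h3 : Submodule.span ℝ ((fun k => alt ((A, r1) : EE C) (B, r2) k) '' Set.Iic n ∪
      (fun k => alt ((B, r2) : EE C) (A, r1) k) '' Set.Iic n) ≤
      Submodule.span ℝ (Set.range (fam ((A, r1) : EE C) (B, r2) n)) := by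
    apply Submodule.span_le.2
    rintro _ (⟨k, hk, rfl⟩ | ⟨k, hk, rfl⟩)
    · rw [Set.mem_Iic] at hk
      rcases Nat.lt_or_ge k n with hlt | hge
      · exact Submodule.subset_span ⟨Sum.inl ⟨k, hlt⟩, rfl⟩
      · have hkn : k = n := le_antisymm hk hge
        subst hkn
        have hn := H.hn
        refine Submodule.subset_span ⟨Sum.inr ⟨k - 1, by omega⟩, ?_⟩
        simp only [fam]
        rw [show k - 1 + 1 = k by omega]
        exact (braid_ab H).symm
    · rw [Set.mem_Iic] at hk
      rcases Nat.eq_zero_or_pos k with h0 | hpos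
      · subst h0
        refine Submodule.subset_span ⟨Sum.inl ⟨0, H.hn⟩, ?_⟩
        simp [fam]
      · refine Submodule.subset_span ⟨Sum.inr ⟨k - 1, by omega⟩, ?_⟩
        simp only [fam]
        rw [show k - 1 + 1 = k by omega]
  have h4 := h3 h2
  rw [Submodule.mem_span_range_iff_exists_fun] at h4
  obtain ⟨x, hx⟩ := h4
  exact ⟨x, hx.symm⟩

end

end Cfsg.Agent.Lib.Helper16.FH
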