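import Mathlib
import Cfsg.Agent.Lib.Helper16.FHSchurB

/-! # Integrality of the Schur element (S1142, Feit–Higman): the central element `Φ` -/

set_option autoImplicit false

namespace Cfsg.Agent.Lib.Helper16.FH

open Matrix

section

variable {C : Type*} [Fintype C] [DecidableEq C]
variable {n : ℕ} {p q : ℝ} {A B : Matrix C C ℝ} {r1 r2 : Matrix (Fin 2) (Fin 2) ℝ}

/-- the family of alternating words in the product algebra -/
abbrev fm (A B : Matrix C C ℝ) (r1 r2 : Matrix (Fin 2) (Fin 2) ℝ) (n : ℕ) : Fin n ⊕ Fin n → EE C :=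
  fam ((A, r1) : EE C) (B, r2) n

/-- the element `Φ = ∑_w (χ(T_w)/q_w) T_w` -/
noncomputable def Phi (A B : Matrix C C ℝ) (r1 r2 : Matrix (Fin 2) (Fin 2) ℝ) (p q : ℝ) (n : ℕ) :
    EE C :=
  ∑ i, (chi (fm A B r1 r2 n i) / wt p q n i) • fm A B r1 r2 n i

/-- the Schur element `S = ∑_w χ(T_w)²/q_w` -/
noncomputable def SS (A B : Matrix C C ℝ) (r1 r2 : Matrix (Fin 2) (Fin 2) ℝ) (p q : ℝ) (n : ℕ) : ℝ :=
  ∑ i, chi (fm A B r1 r2 n i) ^ 2 / wt p q n i

theorem tau_fm_tp (H : SchurCtx n p q A B r1 r2) (i j : Fin n ⊕ Fin n) :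
    tau (fm A B r1 r2 n i * tp (fm A B r1 r2 n j)) =
      if i = j then (Fintype.card C : ℝ) * wt p q n i else 0 := by
  have := gram H.hk i j
  simp only [tau_apply, Prod.fst_mul, tp, fm, fst_fam]
  exact this

theorem Phi_mem (A B : Matrix C C ℝ) (r1 r2 : Matrix (Fin 2) (Fin 2) ℝ) (p q : ℝ) (n : ℕ) :
    Phi A B r1 r2 p q n ∈ alg A B r1 r2 := by
  unfold Phi
  exact Subalgebra.sum_mem _ fun i _ => Subalgebra.smul_mem _ (fam_mem_alg i) _

/-- Claim 1: `τ(Φ X) = N χ(X)` on the algebra -/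
theorem tau_Phi_mul (H : SchurCtx n p q A B r1 r2) {X : EE C} (hX : X ∈ alg A B r1 r2) :
    tau (Phi A B r1 r2 p q n * X) = (Fintype.card C : ℝ) * chi X := by
  obtain ⟨x, hx⟩ := exists_coeff H (tp_mem_alg H hX)
  have hX' : X = ∑ j, x j • tp (fm A B r1 r2 n j) := by
    have := congrArg tp hx
    rw [tp_tp, tp_sum] at this
    rw [this]
    exact Finset.sum_congr rfl fun j _ => tp_smul _ _
  have hchi : chi X = ∑ j, x j * chi (fm A B r1 r2 n j) := by
    rw [← chi_tp X, hx, map_sum]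
    exact Finset.sum_congr rfl fun j _ => by rw [map_smul, smul_eq_mul]
  rw [hchi, hX', Phi, Finset.sum_mul, map_sum, Finset.mul_sum]
  apply Finset.sum_congr rfl
  intro i _
  rw [Finset.mul_sum, map_sum]
  have : ∀ j, tau ((chi (fm A B r1 r2 n i) / wt p q n i) • fm A B r1 r2 n i *
      (x j • tp (fm A B r1 r2 n j))) =
      if i = j then (chi (fm A B r1 r2 n i) / wt p q n i) * x j *
        ((Fintype.card C : ℝ) * wt p q n i) else 0 := by
    intro j
    rw [smul_mul_smul_comm, map_smul, tau_fm_tp H, smul_eq_mul]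
    split_ifs <;> simp
  rw [Finset.sum_congr rfl fun j _ => this j, Finset.sum_ite_eq]
  simp only [Finset.mem_univ, if_true]
  have hw := (wt_pos H.hp H.hq n i).ne'
  field_simp

end

end Cfsg.Agent.Lib.Helper16.FH
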