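import Mathlib
import Cfsg.Agent.Lib.Helper16.FHSchurC

/-! # Integrality of the Schur element (S1142, Feit–Higman): `Φ² = λΦ` and the conclusion -/

set_option autoImplicit false

namespace Cfsg.Agent.Lib.Helper16.FH

open Matrix

section

variable {C : Type*} [Fintype C] [DecidableEq C]
variable {n : ℕ} {p q : ℝ} {A B : Matrix C C ℝ} {r1 r2 : Matrix (Fin 2) (Fin 2) ℝ}

/-- Claim 2: the trace form is nondegenerate on the algebra -/
theorem eq_zero_of_tau [Nonempty C] (H : SchurCtx n p q A B r1 r2) {Y : EE C}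
    (hY : Y ∈ alg A B r1 r2) (h : ∀ Z ∈ alg A B r1 r2, tau (Y * Z) = 0) : Y = 0 := by
  obtain ⟨y, hy⟩ := exists_coeff H hY
  have hy0 : ∀ j, y j = 0 := by
    intro j
    have h1 := h (tp (fm A B r1 r2 n j)) (tp_mem_alg H (fam_mem_alg j))
    rw [hy, Finset.sum_mul, map_sum] at h1
    have : ∀ i, tau (y i • fam ((A, r1) : EE C) (B, r2) n i * tp (fm A B r1 r2 n j)) =
        if i = j then y i * ((Fintype.card C : ℝ) * wt p q n i) else 0 := by
      intro i
      rw [smul_mul_assoc, map_smul, smul_eq_mul]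
      have := tau_fm_tp H i j
      simp only [fm] at this ⊢
      rw [this]
      split_ifs <;> simp
    rw [Finset.sum_congr rfl fun i _ => this i, Finset.sum_ite_eq'] at h1
    simp only [Finset.mem_univ, if_true] at h1
    have hN : (Fintype.card C : ℝ) ≠ 0 := by
      have : 0 < Fintype.card C := Fintype.card_pos
      exact_mod_cast this.ne'
    have hw := (wt_pos H.hp H.hq n j).ne'
    rcases mul_eq_zero.1 h1 with h2 | h2
    · exact h2
    · exact absurd h2 (mul_ne_zero hN hw)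
  rw [hy]
  exact Finset.sum_eq_zero fun i _ => by rw [hy0 i, zero_smul]

/-- Claim 3: `Φ` is central in the algebra -/
theorem Phi_comm [Nonempty C] (H : SchurCtx n p q A B r1 r2) {X : EE C} (hX : X ∈ alg A B r1 r2) :
    Phi A B r1 r2 p q n * X = X * Phi A B r1 r2 p q n := by
  have hP := Phi_mem A B r1 r2 p q n
  have hY : Phi A B r1 r2 p q n * X - X * Phi A B r1 r2 p q n ∈ alg A B r1 r2 :=
    Subalgebra.sub_mem _ (Subalgebra.mul_mem _ hP hX) (Subalgebra.mul_mem _ hX hP)
  have := eq_zero_of_tau H hY (fun Z hZ => by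
    rw [sub_mul, map_sub, mul_assoc, tau_Phi_mul H (Subalgebra.mul_mem _ hX hZ), mul_assoc,
      tau_mul_comm, mul_assoc, tau_Phi_mul H (Subalgebra.mul_mem _ hZ hX), chi_mul_comm, sub_self])
  exact sub_eq_zero.1 this

/-- Claim 4: the second component of `Φ` is a scalar matrix -/
theorem exists_scalar [Nonempty C] (H : SchurCtx n p q A B r1 r2) :
    ∃ c : ℝ, (Phi A B r1 r2 p q n).2 = c • (1 : Matrix (Fin 2) (Fin 2) ℝ) := by
  apply H.hcomm
  · have := congrArg Prod.snd (Phi_comm H (a_mem_alg (A := A) (B := B) (r1 := r1) (r2 := r2)))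
    simpa using this
  · have := congrArg Prod.snd (Phi_comm H (b_mem_alg (A := A) (B := B) (r1 := r1) (r2 := r2)))
    simpa using this

theorem chi_Phi : chi (Phi A B r1 r2 p q n) = SS A B r1 r2 p q n := by
  unfold Phi SS
  rw [map_sum]
  apply Finset.sum_congr rfl
  intro i _
  rw [map_smul, smul_eq_mul]
  ring

/-- Claim 5: `Φ² = c Φ` -/
theorem Phi_sq [Nonempty C] (H : SchurCtx n p q A B r1 r2) {c : ℝ}
    (hc : (Phi A B r1 r2 p q n).2 = c • (1 : Matrix (Fin 2) (Fin 2) ℝ)) :
    Phi A B r1 r2 p q n * Phi A B r1 r2 p q n = c • Phi A B r1 r2 p q n := by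
  have hP := Phi_mem A B r1 r2 p q n
  have hY : Phi A B r1 r2 p q n * Phi A B r1 r2 p q n - c • Phi A B r1 r2 p q n ∈ alg A B r1 r2 :=
    Subalgebra.sub_mem _ (Subalgebra.mul_mem _ hP hP) (Subalgebra.smul_mem _ hP _)
  have := eq_zero_of_tau H hY (fun Z hZ => by
    have h1 : chi (Phi A B r1 r2 p q n * Z) = c * chi Z := by
      simp only [chi_apply, Prod.snd_mul, hc, Matrix.smul_mul, Matrix.one_mul, Matrix.trace_smul,
        smul_eq_mul]
    rw [sub_mul, map_sub, mul_assoc, tau_Phi_mul H (Subalgebra.mul_mem _ hP hZ), h1,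
      smul_mul_assoc, map_smul, tau_Phi_mul H hZ, smul_eq_mul]
    ring)
  exact sub_eq_zero.1 this

theorem SS_ge_four (H : SchurCtx n p q A B r1 r2) : 4 ≤ SS A B r1 r2 p q n := by
  unfold SS
  have h0 : chi (fm A B r1 r2 n (Sum.inl ⟨0, H.hn⟩)) ^ 2 / wt p q n (Sum.inl ⟨0, H.hn⟩) = 4 := by
    simp [fm, fam, wt, chi_apply]
    norm_num
  rw [← h0]
  apply Finset.single_le_sum (f := fun i => chi (fm A B r1 r2 n i) ^ 2 / wt p q n i)
    (fun i _ => div_nonneg (sq_nonneg _) (wt_pos H.hp H.hq n i).le) (Finset.mem_univ _)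

/-- the conclusion in terms of `SS` -/
theorem SS_integrality [Nonempty C] (H : SchurCtx n p q A B r1 r2) :
    ∃ m : ℕ, m ≠ 0 ∧ SS A B r1 r2 p q n * m = 4 * Fintype.card C := by
  obtain ⟨c, hc⟩ := exists_scalar H
  have hS : SS A B r1 r2 p q n = 2 * c := by
    rw [← chi_Phi, chi_apply, hc, Matrix.trace_smul, Matrix.trace_one]
    simp; ring
  have hS4 := SS_ge_four H
  have hc0 : c ≠ 0 := by
    intro h0; rw [h0] at hS; linarith
  have hsq := congrArg Prod.fst (Phi_sq H hc)
  simp only [Prod.fst_mul, Prod.smul_fst] at hsq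
  have hidem : (c⁻¹ • (Phi A B r1 r2 p q n).1) * (c⁻¹ • (Phi A B r1 r2 p q n).1) =
      c⁻¹ • (Phi A B r1 r2 p q n).1 := by
    rw [smul_mul_smul_comm, hsq, smul_smul]
    congr 1
    field_simp
  obtain ⟨m, hm⟩ := idem_trace_nat _ hidem
  have htr : (Phi A B r1 r2 p q n).1.trace = (Fintype.card C : ℝ) * 2 := by
    have := tau_Phi_mul H (Subalgebra.one_mem (alg A B r1 r2))
    rw [mul_one] at this
    rw [← tau_apply, this]
    simp [chi_apply]
  rw [Matrix.trace_smul, htr, smul_eq_mul] at hm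
  have hN : (0 : ℝ) < Fintype.card C := by
    have : 0 < Fintype.card C := Fintype.card_pos
    exact_mod_cast this
  refine ⟨m, ?_, ?_⟩
  · rintro rfl
    simp only [Nat.cast_zero] at hm
    rcases mul_eq_zero.1 hm with h1 | h1
    · exact hc0 (inv_eq_zero.1 h1)
    · linarith
  · rw [← hm, hS]
    field_simp
    ring

end

end Cfsg.Agent.Lib.Helper16.FH
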