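import Mathlib
import Cfsg.Agent.Lib.Helper16.FHSchurD

/-! # Integrality of the Schur element (S1142, Feit–Higman): final statement (ALG-2) -/

set_option autoImplicit false

namespace Cfsg.Agent.Lib.Helper16.FH

open Matrix

section

variable {C : Type*} [Fintype C] [DecidableEq C]
variable {n : ℕ} {p q : ℝ} {A B : Matrix C C ℝ} {r1 r2 : Matrix (Fin 2) (Fin 2) ℝ}

/-- the two alternating products of the parameters of length `n` coincide -/
theorem alt_pq_eq [Nonempty C] (h : IsHeckeData n p q A B) : alt p q n = alt q p n := by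
  have h1 := h.orthAA n n le_rfl le_rfl
  have h2 := h.orthBB n n le_rfl le_rfl
  rw [if_pos rfl] at h1 h2
  rw [h.braid, h2] at h1
  have hN : (Fintype.card C : ℝ) ≠ 0 := by
    have : 0 < Fintype.card C := Fintype.card_pos
    exact_mod_cast this.ne'
  exact (mul_left_cancel₀ hN h1).symm

theorem SS_eq_schurSum [Nonempty C] (H : SchurCtx n p q A B r1 r2) :
    SS A B r1 r2 p q n = schurSum n p q r1 r2 := by
  have hn := H.hn
  unfold SS schurSum
  rw [Fintype.sum_sum_type]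
  have e1 : ∀ k : Fin n, chi (fm A B r1 r2 n (Sum.inl k)) ^ 2 / wt p q n (Sum.inl k) =
      (fun k : ℕ => (alt r1 r2 k).trace ^ 2 / alt p q k) k := by
    intro k
    simp only [fm, fam, wt, chi_apply, snd_alt]
  have e2 : ∀ k : Fin n, chi (fm A B r1 r2 n (Sum.inr k)) ^ 2 / wt p q n (Sum.inr k) =
      (fun k : ℕ => (alt r2 r1 (k + 1)).trace ^ 2 / alt q p (k + 1)) k := by
    intro k
    simp only [fm, fam, wt, chi_apply, snd_alt]
  rw [Finset.sum_congr rfl fun k _ => e1 k, Finset.sum_congr rfl fun k _ => e2 k,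
    Fin.sum_univ_eq_sum_range (fun k : ℕ => (alt r1 r2 k).trace ^ 2 / alt p q k) n,
    Fin.sum_univ_eq_sum_range (fun k : ℕ => (alt r2 r1 (k + 1)).trace ^ 2 / alt q p (k + 1)) n]
  obtain ⟨m, rfl⟩ : ∃ m, n = m + 1 := ⟨n - 1, by omega⟩
  rw [Finset.sum_range_succ' (fun k : ℕ => (alt r1 r2 k).trace ^ 2 / alt p q k) m,
    Finset.sum_range_succ (fun k : ℕ => (alt r2 r1 (k + 1)).trace ^ 2 / alt q p (k + 1)) m,
    Finset.sum_add_distrib, Finset.sum_Ico_eq_sum_range, Finset.sum_Ico_eq_sum_range]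
  simp only [Nat.add_sub_cancel, alt_zero, Matrix.trace_one, Fintype.card_fin, div_one]
  rw [← H.hbr, ← alt_pq_eq H.hk]
  have e3 : ∀ k, (alt r1 r2 (1 + k)).trace ^ 2 / alt p q (1 + k) =
      (alt r1 r2 (k + 1)).trace ^ 2 / alt p q (k + 1) := fun k => by rw [add_comm]
  have e4 : ∀ k, (alt r2 r1 (1 + k)).trace ^ 2 / alt q p (1 + k) =
      (alt r2 r1 (k + 1)).trace ^ 2 / alt q p (k + 1) := fun k => by rw [add_comm]
  rw [Finset.sum_congr rfl fun k _ => e3 k, Finset.sum_congr rfl fun k _ => e4 k]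
  push_cast
  ring

end

/-- **ALG-2**: the Schur element of a two-dimensional representation of Hecke data is `4 card C / m`
for a positive natural number `m`. -/
theorem schur_integrality {C : Type*} [Fintype C] [DecidableEq C] [Nonempty C] (n : ℕ) (hn : 1 ≤ n)
    (p q : ℝ) (hp : 0 < p) (hq : 0 < q) (A B : Matrix C C ℝ) (h : IsHeckeData n p q A B)
    (r1 r2 : Matrix (Fin 2) (Fin 2) ℝ) (hr1 : r1ᵀ = r1) (hr2 : r2ᵀ = r2)
    (hq1 : r1 * r1 = p • (1 : Matrix (Fin 2) (Fin 2) ℝ) + (p - 1) • r1)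
    (hq2 : r2 * r2 = q • (1 : Matrix (Fin 2) (Fin 2) ℝ) + (q - 1) • r2)
    (hbr : alt r1 r2 n = alt r2 r1 n)
    (hcomm : ∀ M : Matrix (Fin 2) (Fin 2) ℝ, M * r1 = r1 * M → M * r2 = r2 * M →
      ∃ c : ℝ, M = c • (1 : Matrix (Fin 2) (Fin 2) ℝ)) :
    ∃ m : ℕ, m ≠ 0 ∧ schurSum n p q r1 r2 * m = 4 * Fintype.card C := by
  have H : SchurCtx n p q A B r1 r2 := ⟨hn, hp, hq, h, hr1, hr2, hq1, hq2, hbr, hcomm⟩
  rw [← SS_eq_schurSum H]
  exact SS_integrality H

end Cfsg.Agent.Lib.Helper16.FH
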