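import Mathlib
import Cfsg.Agent.Lib.Helper16.FHSchurE
import Cfsg.Agent.Lib.Helper12.S1142NT

/-! # Feit–Higman (S1142): algebraic assembly

`fh_alg_of`: Hecke data of dihedral type `I₂(n)` with natural parameters `p, q ≥ 2` force
`n ∈ {2, 3, 4, 6, 8}`, given the two facts on the explicit representations (ALG-3, ALG-4) as
hypotheses. -/

set_option autoImplicit false

namespace Cfsg.Agent.Lib.Helper16.FH

open Matrix

/-- for odd length the two alternating products of positive reals differ unless the reals agree -/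
theorem eq_of_alt_eq_of_odd {p q : ℝ} (hp : 0 < p) (hq : 0 < q) {n : ℕ} (hn : Odd n)
    (h : alt p q n = alt q p n) : p = q := by
  obtain ⟨m, rfl⟩ := hn
  rw [alt_succ, alt_succ, alt_comm_monoid, alt_comm_monoid, mul_comm q p] at h
  have h0 : (p * q) ^ m ≠ 0 := (pow_pos (mul_pos hp hq) m).ne'
  exact mul_right_cancel₀ h0 h

/-- the statement of ALG-3 -/
def RhoRelations : Prop :=
  ∀ (n j : ℕ) (p q : ℝ), 1 < p → 1 < q → 0 < j → 2 * j < n → (Odd n → p = q) →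
    (rho1 p)ᵀ = rho1 p ∧ (rho2 p q (ypar n j p q))ᵀ = rho2 p q (ypar n j p q) ∧
    rho1 p * rho1 p = p • (1 : Matrix (Fin 2) (Fin 2) ℝ) + (p - 1) • rho1 p ∧
    rho2 p q (ypar n j p q) * rho2 p q (ypar n j p q) =
      q • (1 : Matrix (Fin 2) (Fin 2) ℝ) + (q - 1) • rho2 p q (ypar n j p q) ∧
    alt (rho1 p) (rho2 p q (ypar n j p q)) n = alt (rho2 p q (ypar n j p q)) (rho1 p) n ∧
    (∀ M : Matrix (Fin 2) (Fin 2) ℝ, M * rho1 p = rho1 p * M →
      M * rho2 p q (ypar n j p q) = rho2 p q (ypar n j p q) * M →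
      ∃ c : ℝ, M = c • (1 : Matrix (Fin 2) (Fin 2) ℝ))

/-- the statement of ALG-4 -/
def SchurSumRho : Prop :=
  ∀ (n j : ℕ) (p q : ℝ), 1 < p → 1 < q → 0 < j → 2 * j < n → (Odd n → p = q) →
    schurSum n p q (rho1 p) (rho2 p q (ypar n j p q)) = 2 * n * rpar p q (ypar n j p q)

theorem fh_alg_of (h3 : RhoRelations) (h4 : SchurSumRho)
    {C : Type*} [Fintype C] [DecidableEq C] [Nonempty C] (n p q : ℕ) (hn : 2 ≤ n)
    (hp : 2 ≤ p) (hq : 2 ≤ q) (A B : Matrix C C ℝ) (h : IsHeckeData n (p : ℝ) (q : ℝ) A B) :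
    n ∈ ({2, 3, 4, 6, 8} : Set ℕ) := by
  have hp1 : (1 : ℝ) < p := by exact_mod_cast hp
  have hq1 : (1 : ℝ) < q := by exact_mod_cast hq
  have hp0 : (0 : ℝ) < p := by linarith
  have hq0 : (0 : ℝ) < q := by linarith
  have hoddR : Odd n → (p : ℝ) = q := fun ho => eq_of_alt_eq_of_odd hp0 hq0 ho (alt_pq_eq h)
  have hodd : Odd n → p = q := fun ho => by exact_mod_cast hoddR ho
  refine Cfsg.Agent.Lib.Helper12.S1142NT.nt_main n p q hn hp hq hodd ?_
  intro j hj hjn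
  obtain ⟨e1, e2, e3, e4, e5, e6⟩ := h3 n j p q hp1 hq1 hj hjn hoddR
  obtain ⟨m, hm, hS⟩ := schur_integrality n (by omega) p q hp0 hq0 A B h
    (rho1 p) (rho2 p q (ypar n j p q)) e1 e2 e3 e4 e5 e6
  rw [h4 n j p q hp1 hq1 hj hjn hoddR] at hS
  refine ⟨4 * (Fintype.card C : ℚ) / (2 * n * m), ?_⟩
  have hm' : (m : ℝ) ≠ 0 := by exact_mod_cast hm
  have hn' : (n : ℝ) ≠ 0 := by
    have : 0 < n := by omega
    exact_mod_cast this.ne'
  push_cast
  rw [eq_div_iff (by positivity)]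
  linarith

end Cfsg.Agent.Lib.Helper16.FH
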