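import Mathlib

/-!
# Speiser's form of Hilbert 90 (semilinear descent for a cyclic group of field automorphisms)
-/

set_option autoImplicit false

namespace Cfsg.Agent.Lib.Helper16.Speiser

variable {F : Type*} [Field F]

/-- Dedekind independence for the powers of an automorphism of order `r`. -/
theorem dedekind_pow (σ : RingAut F) (r : ℕ) (hr : orderOf σ = r) (c : ℕ → F)
    (h : ∀ t : F, ∑ i ∈ Finset.range r, c i * (σ ^ i) t = 0) : ∀ i < r, c i = 0 := by
  classical
  have hinj : Function.Injective
      (fun i : Fin r => (RingEquiv.toRingHom (σ ^ (i : ℕ))).toMonoidHom) := by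
    intro i j hij
    have h1 : (σ ^ (i : ℕ) : RingAut F) = σ ^ (j : ℕ) := by
      apply RingEquiv.ext
      intro t
      have := DFunLike.congr_fun hij t
      simpa using this
    have h2 := pow_injOn_Iio_orderOf (x := σ) (Set.mem_Iio.mpr (by rw [hr]; exact i.2))
      (Set.mem_Iio.mpr (by rw [hr]; exact j.2)) h1
    exact Fin.ext h2
  have hli := (linearIndependent_monoidHom F F).comp _ hinj
  rw [Fintype.linearIndependent_iff] at hli
  intro i hi
  have key := hli (fun k => c k) ?_ ⟨i, hi⟩
  · exact key
  · funext t
    have := h t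
    rw [Finset.sum_range] at this
    simpa [Finset.sum_apply] using this

/-- Speiser's lemma: a `σ`-semilinear map `T` with `T^r = 1`, `σ` of order `r`, has its fixed
vectors spanning the whole space. -/
theorem span_fixed_eq_top {V : Type*} [AddCommGroup V] [Module F V] (σ : RingAut F) (r : ℕ)
    (hr : orderOf σ = r) (hr0 : 0 < r) (T : V → V) (hadd : ∀ v w, T (v + w) = T v + T w)
    (hsmul : ∀ (c : F) (v : V), T (c • v) = σ c • T v) (hTr : ∀ v, T^[r] v = v) :
    Submodule.span F {v : V | T v = v} = ⊤ := by
  classical
  by_contra hne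
  obtain ⟨f, hf0, hle⟩ := Submodule.exists_le_ker_of_lt_top _ (lt_top_iff_ne_top.mpr hne)
  apply hf0
  refine LinearMap.ext fun v => ?_
  rw [LinearMap.zero_apply]
  have hT0 : T 0 = 0 := by
    have := hsmul 0 0
    rwa [zero_smul, map_zero, zero_smul] at this
  have hiter : ∀ (i : ℕ) (t : F) (w : V), T^[i] (t • w) = (σ ^ i) t • T^[i] w := by
    intro i
    induction i with
    | zero => intro t w; simp
    | succ i ih =>
      intro t w
      rw [Function.iterate_succ_apply', Function.iterate_succ_apply', ih, hsmul, pow_succ']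
      rfl
  have hsumT : ∀ (s : Finset ℕ) (u : ℕ → V), T (∑ i ∈ s, u i) = ∑ i ∈ s, T (u i) := by
    intro s u
    induction s using Finset.induction_on with
    | empty => simpa using hT0
    | insert a s ha ih => rw [Finset.sum_insert ha, Finset.sum_insert ha, hadd, ih]
  have hfix : ∀ t : F, (∑ i ∈ Finset.range r, T^[i] (t • v)) ∈ {w : V | T w = w} := by
    intro t
    change T (∑ i ∈ Finset.range r, T^[i] (t • v)) = ∑ i ∈ Finset.range r, T^[i] (t • v)
    rw [hsumT]
    have h1 : ∀ i, T (T^[i] (t • v)) = T^[i + 1] (t • v) :=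
      fun i => (Function.iterate_succ_apply' T i _).symm
    simp_rw [h1]
    have h2 := Finset.sum_range_succ' (fun i => T^[i] (t • v)) r
    have h3 := Finset.sum_range_succ (fun i => T^[i] (t • v)) r
    rw [h3] at h2
    simp only [Function.iterate_zero, id_eq] at h2
    rw [hTr] at h2
    exact (add_right_cancel h2).symm
  have hzero : ∀ t : F, ∑ i ∈ Finset.range r, f (T^[i] v) * (σ ^ i) t = 0 := by
    intro t
    have hmem := hle (Submodule.subset_span (hfix t))
    rw [LinearMap.mem_ker, map_sum] at hmem
    rw [← hmem]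
    apply Finset.sum_congr rfl
    intro i _
    rw [hiter, map_smul, smul_eq_mul, mul_comm]
  have := dedekind_pow σ r hr (fun i => f (T^[i] v)) hzero 0 hr0
  simpa using this

end Cfsg.Agent.Lib.Helper16.Speiser
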