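import Mathlib
import Cfsg.Agent.Lib.Helper6.AutPSL10
import Cfsg.Agent.Lib.Helper16.Speiser

/-!
# Hilbert 90 for `GL_n` and norms, for a cyclic group of field automorphisms
-/

set_option autoImplicit false
set_option linter.unusedSectionVars false
set_option linter.unusedVariables false

namespace Cfsg.Agent.Lib.Helper16.H90GL

open Matrix Module Cfsg.Agent.Lib.Helper6.AutPSL

variable {ι : Type*} [Fintype ι] [DecidableEq ι] {F : Type*} [Field F]

/-- twisted norm in `F` -/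
def nrmF (σ : RingAut F) (μ : F) : ℕ → F
  | 0 => 1
  | k + 1 => μ * σ (nrmF σ μ k)

theorem nrmF_zero (σ : RingAut F) (μ : F) : nrmF σ μ 0 = 1 := rfl

theorem nrmF_succ (σ : RingAut F) (μ : F) (k : ℕ) :
    nrmF σ μ (k + 1) = μ * σ (nrmF σ μ k) := rfl

theorem nrmF_ne_zero (σ : RingAut F) {μ : F} (hμ : μ ≠ 0) (k : ℕ) : nrmF σ μ k ≠ 0 := by
  induction k with
  | zero => exact one_ne_zero
  | succ k ih =>
    rw [nrmF_succ]
    exact mul_ne_zero hμ ((map_ne_zero σ).mpr ih)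

theorem nrmF_mul (σ : RingAut F) (μ ν : F) (k : ℕ) :
    nrmF σ (μ * ν) k = nrmF σ μ k * nrmF σ ν k := by
  induction k with
  | zero => simp [nrmF_zero]
  | succ k ih =>
    rw [nrmF_succ, nrmF_succ, nrmF_succ, ih, map_mul]
    ring

theorem nrmF_map (σ : RingAut F) (μ : F) (k : ℕ) : nrmF σ (σ μ) k = σ (nrmF σ μ k) := by
  induction k with
  | zero => simp [nrmF_zero]
  | succ k ih => rw [nrmF_succ, nrmF_succ, ih, map_mul]

theorem nrmF_succ' (σ : RingAut F) (μ : F) (k : ℕ) :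
    nrmF σ μ (k + 1) = nrmF σ μ k * (σ ^ k) μ := by
  induction k with
  | zero => simp [nrmF_succ, nrmF_zero]
  | succ k ih =>
    calc nrmF σ μ (k + 1 + 1) = μ * σ (nrmF σ μ (k + 1)) := rfl
      _ = μ * σ (nrmF σ μ k * (σ ^ k) μ) := by rw [ih]
      _ = (μ * σ (nrmF σ μ k)) * σ ((σ ^ k) μ) := by rw [map_mul, mul_assoc]
      _ = nrmF σ μ (k + 1) * (σ ^ (k + 1)) μ := by rw [pow_succ']; rfl

theorem nrmF_fixed (σ : RingAut F) (r : ℕ) (hr : σ ^ r = 1) {μ : F} (hμ : μ ≠ 0) :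
    σ (nrmF σ μ r) = nrmF σ μ r := by
  have h2 := nrmF_succ' σ μ r
  rw [hr, nrmF_succ] at h2
  have h3 : μ * σ (nrmF σ μ r) = μ * nrmF σ μ r := by
    rw [h2, mul_comm]; rfl
  exact mul_left_cancel₀ hμ h3

/-! ### the twisted norm in `GL` -/

theorem sG_mul (σ : RingAut F) (a b : GL ι F) : sG σ (a * b) = sG σ a * sG σ b := by
  unfold sG; exact map_mul _ a b

theorem sG_one (σ : RingAut F) : sG σ (1 : GL ι F) = 1 := by
  unfold sG; exact map_one _

theorem sG_one' (g : GL ι F) : sG (1 : RingAut F) g = g := by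
  apply Units.ext; rw [sG_val]; ext i j; rfl

theorem sG_sG (σ τ : RingAut F) (g : GL ι F) : sG σ (sG τ g) = sG (σ * τ) g := by
  apply Units.ext; rw [sG_val, sG_val, sG_val]; ext i j; rfl

/-- twisted norm in `GL` -/
def Nrm (σ : RingAut F) (g : GL ι F) : ℕ → GL ι F
  | 0 => 1
  | k + 1 => g * sG σ (Nrm σ g k)

theorem Nrm_zero (σ : RingAut F) (g : GL ι F) : Nrm σ g 0 = 1 := rfl

theorem Nrm_succ (σ : RingAut F) (g : GL ι F) (k : ℕ) :
    Nrm σ g (k + 1) = g * sG σ (Nrm σ g k) := rfl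

theorem Nrm_succ' (σ : RingAut F) (g : GL ι F) (k : ℕ) :
    Nrm σ g (k + 1) = Nrm σ g k * sG (σ ^ k) g := by
  induction k with
  | zero => rw [Nrm_succ, Nrm_zero, sG_one, mul_one, one_mul, pow_zero, sG_one']
  | succ k ih =>
    calc Nrm σ g (k + 1 + 1) = g * sG σ (Nrm σ g (k + 1)) := rfl
      _ = g * sG σ (Nrm σ g k * sG (σ ^ k) g) := by rw [ih]
      _ = g * sG σ (Nrm σ g k) * sG σ (sG (σ ^ k) g) := by rw [sG_mul, mul_assoc]
      _ = Nrm σ g (k + 1) * sG (σ ^ (k + 1)) g := by rw [sG_sG, ← pow_succ']; rfl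

theorem Nrm_fixed (σ : RingAut F) (r : ℕ) (hr : σ ^ r = 1) (g : GL ι F)
    (hc : Nrm σ g r ∈ Subgroup.center (GL ι F)) : sG σ (Nrm σ g r) = Nrm σ g r := by
  have h2 := Nrm_succ' σ g r
  rw [hr, sG_one', Nrm_succ] at h2
  have h3 : Nrm σ g r * g = g * Nrm σ g r := (Subgroup.mem_center_iff.mp hc g).symm
  rw [h3] at h2
  exact mul_left_cancel h2

theorem pow_cP_fP (σ : RingAut F) (g : GL ι F) (k : ℕ) :
    (cP g * fP σ : MulAut (Matrix.ProjectiveSpecialLinearGroup ι F)) ^ k =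
      cP (Nrm σ g k) * fP (σ ^ k) := by
  induction k with
  | zero => rw [pow_zero, pow_zero, fP_one, mul_one, Nrm_zero, map_one]
  | succ k ih =>
    rw [pow_succ', ih]
    calc cP g * fP σ * (cP (Nrm σ g k) * fP (σ ^ k))
        = cP g * (fP σ * cP (Nrm σ g k)) * fP (σ ^ k) := by simp only [mul_assoc]
      _ = cP g * (cP (sG σ (Nrm σ g k)) * fP σ) * fP (σ ^ k) := by rw [rel_fP_cP]
      _ = cP (g * sG σ (Nrm σ g k)) * (fP σ * fP (σ ^ k)) := by
          rw [map_mul]; simp only [mul_assoc]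
      _ = cP (Nrm σ g (k + 1)) * fP (σ ^ (k + 1)) := by rw [← fP_mul, ← pow_succ']; rfl

/-- Descent: if the twisted norm of `g` is the scalar `N(μ)`, then `g σ(h) = μ h` for some
invertible `h`. -/
theorem descent (σ : RingAut F) (r : ℕ) (hr : orderOf σ = r) (hr0 : 0 < r) (g : GL ι F) (μ : F)
    (hμ : μ ≠ 0) (hN : (Nrm σ g r).1 = nrmF σ μ r • (1 : Matrix ι ι F)) :
    ∃ h : GL ι F, g.1 * h.1.map σ = μ • h.1 := by
  classical
  have hσr : σ ^ r = 1 := by rw [← hr]; exact pow_orderOf_eq_one σ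
  let T : (ι → F) → (ι → F) := fun v => μ⁻¹ • (g.1 *ᵥ (σ ∘ v))
  have hcomp_add : ∀ v w : ι → F, (σ ∘ (v + w) : ι → F) = σ ∘ v + σ ∘ w := by
    intro v w; funext i; simp
  have hcomp_smul : ∀ (c : F) (v : ι → F), (σ ∘ (c • v) : ι → F) = σ c • (σ ∘ v) := by
    intro c v; funext i; simp
  have hadd : ∀ v w, T (v + w) = T v + T w := by
    intro v w
    simp only [T]
    rw [hcomp_add, Matrix.mulVec_add, smul_add]
  have hsmul : ∀ (c : F) (v : ι → F), T (c • v) = σ c • T v := by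
    intro c v
    simp only [T]
    rw [hcomp_smul, Matrix.mulVec_smul, smul_comm]
  have hmapvec : ∀ (M : Matrix ι ι F) (w : ι → F),
      (σ ∘ (M *ᵥ w) : ι → F) = (M.map σ) *ᵥ (σ ∘ w) := by
    intro M w
    funext i
    exact RingHom.map_mulVec (σ : F →+* F) M w i
  have hiter : ∀ (i : ℕ) (v : ι → F),
      T^[i] v = (nrmF σ μ i)⁻¹ • ((Nrm σ g i).1 *ᵥ (⇑(σ ^ i) ∘ v)) := by
    intro i
    induction i with
    | zero =>
      intro v
      rw [Function.iterate_zero, id_eq, nrmF_zero, Nrm_zero, pow_zero, inv_one, one_smul,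
        Units.val_one, Matrix.one_mulVec]
      rfl
    | succ i ih =>
      intro v
      rw [Function.iterate_succ_apply', ih]
      simp only [T]
      rw [hcomp_smul, hmapvec, Matrix.mulVec_smul, Matrix.mulVec_mulVec, smul_smul]
      have e1 : μ⁻¹ * σ (nrmF σ μ i)⁻¹ = (nrmF σ μ (i + 1))⁻¹ := by
        rw [nrmF_succ, mul_inv, map_inv₀]
      have e2 : g.1 * ((Nrm σ g i).1.map σ) = (Nrm σ g (i + 1)).1 := by
        rw [Nrm_succ, Units.val_mul, sG_val]
      have e3 : (σ ∘ (⇑(σ ^ i) ∘ v) : ι → F) = ⇑(σ ^ (i + 1)) ∘ v := by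
        funext j
        rw [pow_succ']
        rfl
      rw [e1, e2, e3]
  have hTr : ∀ v, T^[r] v = v := by
    intro v
    rw [hiter, hN, hσr]
    have h0 := nrmF_ne_zero σ hμ r
    rw [Matrix.smul_mulVec, Matrix.one_mulVec, smul_smul, inv_mul_cancel₀ h0, one_smul]
    rfl
  have hspan := Speiser.span_fixed_eq_top σ r hr hr0 T hadd hsmul hTr
  have hfixeq : ∀ v : ι → F, T v = v → g.1 *ᵥ (σ ∘ v) = μ • v := by
    intro v hv
    have h1 : μ • T v = μ • v := by rw [hv]
    simp only [T] at h1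
    rwa [smul_smul, mul_inv_cancel₀ hμ, one_smul] at h1
  obtain ⟨b, hbt, hbspan, hli⟩ := exists_linearIndependent F {v : ι → F | T v = v}
  have hb_top : ⊤ ≤ Submodule.span F (Set.range (Subtype.val : b → (ι → F))) := by
    rw [Subtype.range_coe, hbspan, hspan]
  let B0 : Basis b F (ι → F) := Basis.mk hli hb_top
  let e : ι ≃ b := (Pi.basisFun F ι).indexEquiv B0
  let B1 : Basis ι F (ι → F) := B0.reindex e.symm
  have hB1 : ∀ j, T (B1 j) = B1 j := by
    intro j
    have h1 : B1 j = (e j).1 := by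
      simp [B1, B0]
    rw [h1]
    exact hbt (e j).2
  let M : Matrix ι ι F := (Pi.basisFun F ι).toMatrix B1
  let M' : Matrix ι ι F := B1.toMatrix (Pi.basisFun F ι)
  have hMM' : M * M' = 1 := Basis.toMatrix_mul_toMatrix_flip _ _
  have hM'M : M' * M = 1 := Basis.toMatrix_mul_toMatrix_flip _ _
  refine ⟨⟨M, M', hMM', hM'M⟩, ?_⟩
  ext i j
  have h1 := congrFun (hfixeq (B1 j) (hB1 j)) i
  have hM : ∀ k, M k j = B1 j k := fun k => by simp [M, Basis.toMatrix_apply]
  rw [Matrix.mul_apply, Matrix.smul_apply]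
  simp only [Matrix.map_apply, hM]
  simpa [Matrix.mulVec, dotProduct] using h1

/-- Hilbert 90 for scalars. -/
theorem scalar_h90 (σ : RingAut F) (r : ℕ) (hr : orderOf σ = r) (hr0 : 0 < r) (c : F)
    (hc : nrmF σ c r = 1) : ∃ b : F, b ≠ 0 ∧ c * σ b = b := by
  have hσr : σ ^ r = 1 := by rw [← hr]; exact pow_orderOf_eq_one σ
  let T : F → F := fun x => c * σ x
  have hadd : ∀ v w, T (v + w) = T v + T w := by
    intro v w; simp only [T]; rw [map_add, mul_add]
  have hsmul : ∀ (t : F) (v : F), T (t • v) = σ t • T v := by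
    intro t v; simp only [T, smul_eq_mul]; rw [map_mul]; ring
  have hiter : ∀ (i : ℕ) (x : F), T^[i] x = nrmF σ c i * (σ ^ i) x := by
    intro i
    induction i with
    | zero => intro x; simp [nrmF_zero]
    | succ i ih =>
      intro x
      rw [Function.iterate_succ_apply', ih]
      simp only [T]
      rw [map_mul, ← mul_assoc, ← nrmF_succ, pow_succ']
      rfl
  have hTr : ∀ x, T^[r] x = x := by
    intro x; rw [hiter, hc, hσr, one_mul]; rfl
  have hspan := Speiser.span_fixed_eq_top σ r hr hr0 T hadd hsmul hTr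
  by_contra hno
  push Not at hno
  have hbot : Submodule.span F {v : F | T v = v} = ⊥ := by
    rw [Submodule.span_eq_bot]
    intro v hv
    by_contra hv0
    exact hno v hv0 hv
  rw [hbot] at hspan
  exact bot_ne_top hspan

/-- The twisted norm is onto the non-zero elements of the fixed field (finite fields). -/
theorem nrmF_surj [Finite F] (σ : RingAut F) (r : ℕ) (hr : orderOf σ = r) (hr0 : 0 < r) (a : F)
    (ha0 : a ≠ 0) (ha : σ a = a) : ∃ μ : F, μ ≠ 0 ∧ nrmF σ μ r = a := by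
  classical
  have hσr : σ ^ r = 1 := by rw [← hr]; exact pow_orderOf_eq_one σ
  let σu : Fˣ →* Fˣ := Units.map (RingEquiv.toRingHom σ).toMonoidHom
  have hσu : ∀ c : Fˣ, ((σu c : Fˣ) : F) = σ c := fun c => rfl
  let Nm : Fˣ →* Fˣ := MonoidHom.mk'
    (fun u => Units.mk0 (nrmF σ (u : F) r) (nrmF_ne_zero σ u.ne_zero r)) (by
      intro u v
      apply Units.ext
      simp only [Units.val_mk0, Units.val_mul]
      exact nrmF_mul σ u v r)
  have hNm : ∀ c : Fˣ, ((Nm c : Fˣ) : F) = nrmF σ (c : F) r := fun c => rfl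
  let M : Fˣ →* Fˣ := MonoidHom.id Fˣ / σu
  have hM : ∀ c, M c = c / σu c := fun c => rfl
  have hNmσ : ∀ c : Fˣ, Nm (σu c) = Nm c := by
    intro c
    apply Units.ext
    rw [hNm, hNm, hσu, nrmF_map, nrmF_fixed σ r hσr c.ne_zero]
  have hσNm : ∀ c : Fˣ, σu (Nm c) = Nm c := by
    intro c
    apply Units.ext
    rw [hσu, hNm, nrmF_fixed σ r hσr c.ne_zero]
  have h1 : M.range = Nm.ker := by
    apply le_antisymm
    · rintro _ ⟨c, rfl⟩
      rw [MonoidHom.mem_ker, hM, map_div, hNmσ, div_self']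
    · intro c hc
      rw [MonoidHom.mem_ker] at hc
      have hc' : nrmF σ (c : F) r = 1 := by
        have := congrArg (fun x : Fˣ => (x : F)) hc
        simpa [hNm] using this
      obtain ⟨b, hb0, hb⟩ := scalar_h90 σ r hr hr0 c hc'
      refine ⟨Units.mk0 b hb0, ?_⟩
      rw [hM, div_eq_iff_eq_mul]
      apply Units.ext
      simp only [Units.val_mk0, Units.val_mul, hσu]
      exact hb.symm
  have h3 : Nm.range ≤ M.ker := by
    rintro _ ⟨c, rfl⟩
    rw [MonoidHom.mem_ker, hM, hσNm, div_self']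
  have hcard1 : Nat.card M.ker * Nat.card M.range = Nat.card Fˣ := by
    rw [← Subgroup.index_ker, Subgroup.card_mul_index]
  have hcard2 : Nat.card Nm.ker * Nat.card Nm.range = Nat.card Fˣ := by
    rw [← Subgroup.index_ker, Subgroup.card_mul_index]
  have hcard3 : Nat.card M.ker = Nat.card Nm.range := by
    rw [h1, ← hcard2, mul_comm] at hcard1
    exact Nat.eq_of_mul_eq_mul_left Nat.card_pos hcard1
  have h4 : Nm.range = M.ker := Subgroup.eq_of_le_of_card_ge h3 (le_of_eq hcard3)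
  have ha' : Units.mk0 a ha0 ∈ M.ker := by
    rw [MonoidHom.mem_ker, hM, div_eq_one]
    apply Units.ext
    simp only [Units.val_mk0, hσu, ha]
  rw [← h4] at ha'
  obtain ⟨c, hc⟩ := ha'
  refine ⟨c, c.ne_zero, ?_⟩
  have := congrArg (fun x : Fˣ => (x : F)) hc
  simpa [hNm] using this

end Cfsg.Agent.Lib.Helper16.H90GL
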