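import Mathlib
import Cfsg.Agent.Lib.Helper6.AutPSL11
import Cfsg.Agent.Lib.Helper6.HermBasis
import Cfsg.Agent.Lib.Helper16.H90GL

/-!
# Elements of prime order in the coset `Inndiag · x`, `x` a field or graph-field automorphism of `PSL_n`
-/

set_option autoImplicit false
set_option linter.unusedSectionVars false
set_option linter.unusedVariables false

namespace Cfsg.Agent.Lib.Helper16.FieldCoset

open Matrix Module Cfsg.Agent.Lib.Helper6.AutPSL Cfsg.Agent.Lib.Helper16.H90GL

theorem orderOf_conj' {G : Type*} [Group G] (g x : G) : orderOf (g * x * g⁻¹) = orderOf x := by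
  have := orderOf_injective (MulAut.conj g).toMonoidHom (MulAut.conj g).injective x
  simpa [MulAut.conj_apply] using this

section general
variable {ι : Type*} [Fintype ι] [DecidableEq ι] {F : Type*} [Field F]

theorem scalar_eq_smul_one (μ : F) : Matrix.scalar ι μ = μ • (1 : Matrix ι ι F) := by
  rw [Matrix.scalar_apply, Matrix.smul_one_eq_diagonal]

/-- matrices differing by a scalar induce the same automorphism -/
theorem cP_eq_of_smul (a b : GL ι F) (μ : F) (h : a.1 = μ • b.1) :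
    (cP a : MulAut (Matrix.ProjectiveSpecialLinearGroup ι F)) = cP b := by
  have hc : b⁻¹ * a ∈ Subgroup.center (GL ι F) := by
    rw [Matrix.GeneralLinearGroup.mem_center_iff_val_mem_range_scalar]
    refine ⟨μ, ?_⟩
    rw [scalar_eq_smul_one, Units.val_mul, h, Matrix.mul_smul, gl_inv_mul]
  have h1 := cP_eq_one_of_mem_center (b⁻¹ * a) hc
  rw [map_mul, map_inv, inv_mul_eq_one] at h1
  exact h1.symm

end general

section psl
variable {F : Type*} [Field F] {n : ℕ}

local notation "PSLn" => Matrix.ProjectiveSpecialLinearGroup (Fin n) F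

theorem inndiag_eq_range :
    Cfsg.inndiagPSL n F = (cP : GL (Fin n) F →* MulAut PSLn).range := by
  unfold Cfsg.inndiagPSL Cfsg.autSubgroupOf
  have hset : {β : MulAut PSLn | Cfsg.IsInnerDiagonalAutPSL β} =
      ((cP : GL (Fin n) F →* MulAut PSLn).range : Set (MulAut PSLn)) := by
    ext β
    constructor
    · rintro ⟨g, hg⟩
      refine ⟨g, ?_⟩
      ext x
      obtain ⟨s, rfl⟩ := pm_surjective x
      rw [cP_mk]
      exact (hg s (cG g s) (cG_val g s)).symm
    · rintro ⟨g, rfl⟩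
      exact isInnerDiag_cP g
  rw [hset, Subgroup.closure_eq]

theorem eq_fP_of_isStd (σ : F ≃+* F) (φ : MulAut PSLn) (h : Cfsg.IsStdFieldAutPSL σ φ) :
    φ = fP σ := by
  ext x
  obtain ⟨s, rfl⟩ := pm_surjective x
  rw [fP_mk]
  exact h s (fA σ s) (fA_val σ s)

theorem eq_tP_of_isInvT (γ : MulAut PSLn) (h : Cfsg.IsInverseTransposeAutPSL γ) : γ = tP := by
  ext x
  obtain ⟨s, rfl⟩ := pm_surjective x
  rw [tP_mk]
  exact h s (tA s) (tA_val s)

theorem card_fin_ge {k : ℕ} (hn : k ≤ n) : k ≤ Fintype.card (Fin n) := by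
  rw [Fintype.card_fin]; exact hn

theorem fPhom_injective (hn : 2 ≤ n) :
    Function.Injective (fPhom : RingAut F →* MulAut PSLn) := by
  intro τ τ' e
  have e' : (cP (1 : GL (Fin n) F) * fP τ : MulAut PSLn) = fP τ' := by
    rw [map_one, one_mul]; exact e
  exact (cP_fP_eq (card_fin_ge hn) 1 τ τ' e').1

section dec
variable [Fintype F] {p f : ℕ} [Fact p.Prime] (hF : Fintype.card F = p ^ f) (hf : 1 ≤ f)

include hF hf in
theorem exists_dec (hn : 2 ≤ n) (β : MulAut PSLn) :
    ∃ (a : GL (Fin n) F) (τ : RingAut F) (k : ZMod 2), β = cP a * fP τ * tpow k := by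
  rcases Nat.lt_or_ge n 3 with h | h
  · obtain rfl : n = 2 := by omega
    obtain ⟨g, τ, e⟩ := aut_psl_two hF hf β
    exact ⟨g, τ, 0, by rw [tpow_zero, mul_one, e]⟩
  · obtain ⟨m, rfl⟩ : ∃ m, n = m + 3 := ⟨n - 3, by omega⟩
    obtain ⟨τ, k, g, e⟩ := exists_hasDec hF hf m β
    exact ⟨g, τ, k, e⟩

include hF hf in
/-- the inner-diagonal group is normal -/
theorem conj_cP (hn : 2 ≤ n) (β : MulAut PSLn) (g : GL (Fin n) F) :
    ∃ g' : GL (Fin n) F, β * cP g * β⁻¹ = cP g' := by
  obtain ⟨a, τ, k, rfl⟩ := exists_dec hF hf hn β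
  rcases zmod2_cases k with rfl | rfl
  · refine ⟨a * sG τ g * a⁻¹, ?_⟩
    rw [tpow_zero, mul_one, mul_inv_eq_iff_eq_mul]
    calc cP a * fP τ * cP g = cP a * (fP τ * cP g) := by rw [mul_assoc]
      _ = cP a * (cP (sG τ g) * fP τ) := by rw [rel_fP_cP]
      _ = cP (a * sG τ g * a⁻¹) * (cP a * fP τ) := by
          simp only [map_mul, map_inv, mul_assoc, inv_mul_cancel_left]
  · refine ⟨a * sG τ (gT g) * a⁻¹, ?_⟩
    rw [tpow_one, mul_inv_eq_iff_eq_mul]
    calc cP a * fP τ * tP * cP g = cP a * fP τ * (tP * cP g) := by simp only [mul_assoc]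
      _ = cP a * fP τ * (cP (gT g) * tP) := by rw [rel_tP_cP]
      _ = cP a * (fP τ * cP (gT g)) * tP := by simp only [mul_assoc]
      _ = cP a * (cP (sG τ (gT g)) * fP τ) * tP := by rw [rel_fP_cP]
      _ = cP (a * sG τ (gT g) * a⁻¹) * (cP a * fP τ * tP) := by
          simp only [map_mul, map_inv, mul_assoc, inv_mul_cancel_left]

end dec

/-- the field case -/
theorem core_field [Finite F] (hn : 2 ≤ n) (σ : RingAut F) (r : ℕ) (hr0 : 0 < r)
    (hord : orderOf (fP σ : MulAut PSLn) = r) (g : GL (Fin n) F)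
    (hg : orderOf (cP g * fP σ : MulAut PSLn) = r) :
    ∃ h : GL (Fin n) F, (cP g * fP σ : MulAut PSLn) = cP h * fP σ * (cP h)⁻¹ := by
  have h2 : 2 ≤ Fintype.card (Fin n) := card_fin_ge hn
  have hσord : orderOf σ = r := by
    rw [← hord, ← fPhom_apply, orderOf_injective fPhom (fPhom_injective hn) σ]
  have hσr : σ ^ r = 1 := by rw [← hσord]; exact pow_orderOf_eq_one σ
  have hpow : (cP g * fP σ : MulAut PSLn) ^ r = 1 := by rw [← hg]; exact pow_orderOf_eq_one _
  rw [pow_cP_fP, hσr, fP_one, mul_one] at hpow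
  have hc : Nrm σ g r ∈ Subgroup.center (GL (Fin n) F) := by
    rw [← cP_ker h2]; exact hpow
  obtain ⟨lam, hlam⟩ := Matrix.GeneralLinearGroup.mem_center_iff_val_mem_range_scalar.mp hc
  rw [scalar_eq_smul_one] at hlam
  let i0 : Fin n := ⟨0, by omega⟩
  have hlam0 : lam ≠ 0 := by
    intro h0
    have h1 := gl_mul_inv (Nrm σ g r)
    rw [← hlam, h0, zero_smul, zero_mul] at h1
    have := congrFun (congrFun h1 i0) i0
    simp at this
  have hfix : σ lam = lam := by
    have h1 := congrArg Units.val (Nrm_fixed σ r hσr g hc)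
    rw [sG_val, ← hlam] at h1
    have := congrFun (congrFun h1 i0) i0
    simpa using this
  obtain ⟨μ, hμ0, hμ⟩ := nrmF_surj σ r hσord hr0 lam hlam0 hfix
  obtain ⟨h, hh⟩ := descent σ r hσord hr0 g μ hμ0 (by rw [hμ, hlam])
  refine ⟨h, ?_⟩
  have e1 : (cP (g * sG σ h) : MulAut PSLn) = cP h := by
    apply cP_eq_of_smul _ _ μ
    rw [Units.val_mul, sG_val, hh]
  symm
  rw [mul_inv_eq_iff_eq_mul]
  calc cP h * fP σ = cP (g * sG σ h) * fP σ := by rw [e1]
    _ = cP g * (cP (sG σ h) * fP σ) := by rw [map_mul, mul_assoc]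
    _ = cP g * (fP σ * cP h) := by rw [rel_fP_cP]
    _ = cP g * fP σ * cP h := by rw [mul_assoc]

end psl

end Cfsg.Agent.Lib.Helper16.FieldCoset
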