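import Mathlib
import Cfsg.Agent.Lib.Helper16.FieldCoset

/-!
# The graph-field case: Hermitian matrices over finite fields are `k k*`
-/

set_option autoImplicit false
set_option linter.unusedSectionVars false
set_option linter.unusedVariables false

namespace Cfsg.Agent.Lib.Helper16.GraphFieldCoset

open Matrix Module Cfsg.Agent.Lib.Helper6.AutPSL Cfsg.Agent.Lib.Helper16.H90GL
  Cfsg.Agent.Lib.Helper16.FieldCoset

variable {F : Type*} [Field F] {n : ℕ}

/-- conjugate transpose with respect to `σ` -/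
def hs (σ : RingAut F) (M : Matrix (Fin n) (Fin n) F) : Matrix (Fin n) (Fin n) F := (M.map σ)ᵀ

theorem hs_apply (σ : RingAut F) (M : Matrix (Fin n) (Fin n) F) (i j : Fin n) :
    hs σ M i j = σ (M j i) := rfl

theorem hs_mul (σ : RingAut F) (A B : Matrix (Fin n) (Fin n) F) :
    hs σ (A * B) = hs σ B * hs σ A := by
  unfold hs
  rw [Matrix.map_mul, Matrix.transpose_mul]

theorem hs_smul (σ : RingAut F) (c : F) (A : Matrix (Fin n) (Fin n) F) :
    hs σ (c • A) = σ c • hs σ A := by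
  ext i j
  simp [hs_apply]

theorem hs_hs (σ : RingAut F) (hσ2 : σ * σ = 1) (A : Matrix (Fin n) (Fin n) F) :
    hs σ (hs σ A) = A := by
  ext i j
  rw [hs_apply, hs_apply]
  exact DFunLike.congr_fun hσ2 (A i j)

theorem hs_one (σ : RingAut F) : hs σ (1 : Matrix (Fin n) (Fin n) F) = 1 := by
  ext i j
  rw [hs_apply, Matrix.one_apply, Matrix.one_apply]
  by_cases h : i = j
  · rw [if_pos h, if_pos h.symm, map_one]
  · rw [if_neg h, if_neg (fun e => h e.symm), map_zero]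

/-- the sesquilinear form with Gram matrix `H` -/
noncomputable def hform (σ : RingAut F) (H : Matrix (Fin n) (Fin n) F) :
    (Fin n → F) →ₛₗ[(σ : F →+* F)] (Fin n → F) →ₗ[F] F :=
  LinearMap.mk₂'ₛₗ (σ : F →+* F) (RingHom.id F) (fun x y => (σ ∘ x) ⬝ᵥ (H *ᵥ y))
    (fun x y z => by
      have : (σ ∘ (x + y) : Fin n → F) = σ ∘ x + σ ∘ y := by funext i; simp
      rw [this, add_dotProduct])
    (fun c x y => by
      have : (σ ∘ (c • x) : Fin n → F) = σ c • (σ ∘ x) := by funext i; simp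
      rw [this, smul_dotProduct]; rfl)
    (fun x y z => by rw [Matrix.mulVec_add, dotProduct_add])
    (fun c x y => by rw [Matrix.mulVec_smul, dotProduct_smul]; rfl)

theorem hform_apply (σ : RingAut F) (H : Matrix (Fin n) (Fin n) F) (x y : Fin n → F) :
    hform σ H x y = (σ ∘ x) ⬝ᵥ (H *ᵥ y) := rfl

theorem hform_isSymm (σ : RingAut F) (hσ2 : σ * σ = 1) (H : Matrix (Fin n) (Fin n) F)
    (hH : hs σ H = H) : (hform σ H).IsSymm := by
  have hH' : ∀ i j, σ (H i j) = H j i := fun i j => by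
    have := congrFun (congrFun hH j) i
    rwa [hs_apply] at this
  have hσσ : ∀ a : F, σ (σ a) = a := fun a => DFunLike.congr_fun hσ2 a
  refine ⟨fun x y => ?_⟩
  rw [hform_apply, hform_apply]
  simp only [dotProduct, Matrix.mulVec, Function.comp, RingEquiv.coe_toRingHom, map_sum, map_mul,
    hσσ, hH', Finset.mul_sum]
  rw [Finset.sum_comm]
  apply Finset.sum_congr rfl
  intro j _
  apply Finset.sum_congr rfl
  intro i _
  ring

theorem hform_sepLeft (σ : RingAut F) (H : GL (Fin n) F) : (hform σ H.1).SeparatingLeft := by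
  intro x hx
  funext i
  have h1 := hx ((H⁻¹).1 *ᵥ Pi.single i 1)
  rw [hform_apply, Matrix.mulVec_mulVec, gl_mul_inv, Matrix.one_mulVec, dotProduct_single,
    mul_one] at h1
  exact (map_eq_zero σ).mp h1

/-- an invertible Hermitian matrix over a finite field is `k k*` -/
theorem herm_decomp [Finite F] (σ : RingAut F) (hσ : σ ≠ 1) (hσ2 : σ * σ = 1) (H : GL (Fin n) F)
    (hH : hs σ H.1 = H.1) : ∃ k : GL (Fin n) F, H.1 = k.1 * hs σ k.1 := by
  have hσ' : (σ : F →+* F) ≠ RingHom.id F := by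
    intro h
    apply hσ
    apply RingEquiv.ext
    intro a
    exact DFunLike.congr_fun h a
  have hσσ : ∀ a : F, (σ : F →+* F) ((σ : F →+* F) a) = a := fun a => DFunLike.congr_fun hσ2 a
  have hS := hform_isSymm σ hσ2 H.1 hH
  have hL := hform_sepLeft σ H
  have hB : (hform σ H.1).Nondegenerate :=
    ⟨hL, Cfsg.Agent.Lib.Helper6.herm_sepRight (σ : F →+* F) hσσ _ hS hL⟩
  obtain ⟨b, hb⟩ := Cfsg.Agent.S0755.families (σ : F →+* F) hσ' hσσ n (Fin n → F) (hform σ H.1)
    hS hB (Module.finrank_fin_fun F)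
  let K : Matrix (Fin n) (Fin n) F := Matrix.of fun i j => b j i
  have hK : hs σ K * (H.1 * K) = 1 := by
    ext i j
    rw [Matrix.one_apply]
    exact hb i j
  have h1 : (hs σ K * H.1) * K = 1 := by rw [Matrix.mul_assoc]; exact hK
  have h2 : K * (hs σ K * H.1) = 1 := mul_eq_one_comm.mp h1
  let Kgl : GL (Fin n) F := ⟨K, hs σ K * H.1, h2, h1⟩
  refine ⟨H * Kgl, ?_⟩
  rw [Units.val_mul, hs_mul, hH]
  change H.1 = H.1 * K * (hs σ K * H.1)
  rw [Matrix.mul_assoc, h2, Matrix.mul_one]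

section psl

local notation "PSLn" => Matrix.ProjectiveSpecialLinearGroup (Fin n) F

theorem tpow_comm_fP (σ : RingAut F) (k : ZMod 2) :
    (tpow k * fP σ : MulAut PSLn) = fP σ * tpow k := by
  rcases zmod2_cases k with rfl | rfl
  · rw [tpow_zero, one_mul, mul_one]
  · rw [tpow_one, rel_tP_fP]

theorem tpow_mul_tP (k : ZMod 2) : (tpow k * tP : MulAut PSLn) = tpow (k + 1) := by
  rcases zmod2_cases k with rfl | rfl
  · rw [tpow_zero, one_mul, zero_add, tpow_one]
  · rw [tpow_one, tP_mul_tP, show (1 : ZMod 2) + 1 = 0 by decide, tpow_zero]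

theorem pow_fP_tP (σ : RingAut F) (k : ℕ) :
    (fP σ * tP : MulAut PSLn) ^ k = fP (σ ^ k) * tpow (k : ZMod 2) := by
  induction k with
  | zero => rw [pow_zero, pow_zero, fP_one, Nat.cast_zero, tpow_zero, mul_one]
  | succ k ih =>
    rw [pow_succ, ih, Nat.cast_succ]
    calc fP (σ ^ k) * tpow (k : ZMod 2) * (fP σ * tP)
        = fP (σ ^ k) * (tpow (k : ZMod 2) * fP σ) * tP := by simp only [mul_assoc]
      _ = fP (σ ^ k) * (fP σ * tpow (k : ZMod 2)) * tP := by rw [tpow_comm_fP]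
      _ = (fP (σ ^ k) * fP σ) * (tpow (k : ZMod 2) * tP) := by simp only [mul_assoc]
      _ = fP (σ ^ (k + 1)) * tpow ((k : ZMod 2) + 1) := by
          rw [← fP_mul, ← pow_succ, tpow_mul_tP]

/-- the graph-field case -/
theorem core_gf [Finite F] (hn : 3 ≤ n) (σ : RingAut F) (hσ : σ ≠ 1) (r : ℕ) (hr : r.Prime)
    (hord : orderOf (fP σ * tP : MulAut PSLn) = r) (g : GL (Fin n) F)
    (hg : orderOf (cP g * (fP σ * tP) : MulAut PSLn) = r) :
    ∃ h : GL (Fin n) F, (cP g * (fP σ * tP) : MulAut PSLn) = cP h * (fP σ * tP) * (cP h)⁻¹ := by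
  have h3 : 3 ≤ Fintype.card (Fin n) := card_fin_ge hn
  have h2 : 2 ≤ Fintype.card (Fin n) := by omega
  have hx0 : (fP σ * tP : MulAut PSLn) ^ r = 1 := by rw [← hord]; exact pow_orderOf_eq_one _
  rw [pow_fP_tP] at hx0
  have hd1 : HasDec (1 : MulAut PSLn) (σ ^ r) (r : ZMod 2) :=
    ⟨1, by rw [map_one, one_mul, hx0]⟩
  have hd2 : HasDec (1 : MulAut PSLn) 1 0 :=
    ⟨1, by rw [map_one, fP_one, tpow_zero, mul_one, mul_one]⟩
  obtain ⟨hσr, hr2⟩ := HasDec.unique h3 hd1 hd2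
  have hr2' : r = 2 := by
    have hdvd : 2 ∣ r := (ZMod.natCast_eq_zero_iff r 2).mp hr2
    exact ((Nat.prime_dvd_prime_iff_eq Nat.prime_two hr).mp hdvd).symm
  subst hr2'
  have hσ2 : σ * σ = 1 := by rw [← pow_two]; exact hσr
  have hy : (cP g * (fP σ * tP) : MulAut PSLn) ^ 2 = 1 := by
    rw [← hg]; exact pow_orderOf_eq_one _
  have hyy : (cP g * (fP σ * tP) : MulAut PSLn) ^ 2 = cP (g * sG σ (gT g)) := by
    rw [pow_two]
    calc cP g * (fP σ * tP) * (cP g * (fP σ * tP))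
        = cP g * fP σ * (tP * cP g) * fP σ * tP := by simp only [mul_assoc]
      _ = cP g * fP σ * (cP (gT g) * tP) * fP σ * tP := by rw [rel_tP_cP]
      _ = cP g * (fP σ * cP (gT g)) * (tP * fP σ) * tP := by simp only [mul_assoc]
      _ = cP g * (cP (sG σ (gT g)) * fP σ) * (fP σ * tP) * tP := by rw [rel_fP_cP, rel_tP_fP]
      _ = cP g * cP (sG σ (gT g)) * (fP σ * fP σ) * (tP * tP) := by simp only [mul_assoc]
      _ = cP (g * sG σ (gT g)) := by
          rw [← fP_mul, hσ2, fP_one, tP_mul_tP, mul_one, mul_one, map_mul]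
  rw [hyy] at hy
  have hc : g * sG σ (gT g) ∈ Subgroup.center (GL (Fin n) F) := by
    rw [← cP_ker h2]; exact hy
  obtain ⟨lam, hlam⟩ := Matrix.GeneralLinearGroup.mem_center_iff_val_mem_range_scalar.mp hc
  rw [scalar_eq_smul_one, Units.val_mul, sG_val, gT_val, Matrix.transpose_map] at hlam
  have hlam' : g.1 * hs σ (g⁻¹).1 = lam • (1 : Matrix (Fin n) (Fin n) F) := hlam.symm
  have hA : g.1 = lam • hs σ g.1 := by
    have h1 : hs σ (g⁻¹).1 * hs σ g.1 = 1 := by rw [← hs_mul, gl_mul_inv, hs_one]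
    calc g.1 = g.1 * (hs σ (g⁻¹).1 * hs σ g.1) := by rw [h1, Matrix.mul_one]
      _ = (g.1 * hs σ (g⁻¹).1) * hs σ g.1 := by rw [Matrix.mul_assoc]
      _ = lam • hs σ g.1 := by rw [hlam', Matrix.smul_mul, Matrix.one_mul]
  have hA2 : hs σ g.1 = σ lam • g.1 := by
    conv_lhs => rw [hA]
    rw [hs_smul, hs_hs σ hσ2]
  let i0 : Fin n := ⟨0, by omega⟩
  have hlam1 : lam * σ lam = 1 := by
    have h1 : g.1 = (lam * σ lam) • g.1 := by
      conv_lhs => rw [hA, hA2]
      rw [smul_smul]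
    have h2' : (1 : Matrix (Fin n) (Fin n) F) = (lam * σ lam) • (1 : Matrix (Fin n) (Fin n) F) := by
      calc (1 : Matrix (Fin n) (Fin n) F) = g.1 * (g⁻¹).1 := (gl_mul_inv g).symm
        _ = ((lam * σ lam) • g.1) * (g⁻¹).1 := by rw [← h1]
        _ = (lam * σ lam) • (1 : Matrix (Fin n) (Fin n) F) := by rw [Matrix.smul_mul, gl_mul_inv]
    have := congrFun (congrFun h2' i0) i0
    simpa using this.symm
  have hσ' : (σ : F →+* F) ≠ RingHom.id F := by
    intro h
    apply hσ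
    apply RingEquiv.ext
    intro a
    exact DFunLike.congr_fun h a
  have hσσ : ∀ a : F, (σ : F →+* F) ((σ : F →+* F) a) = a := fun a => DFunLike.congr_fun hσ2 a
  obtain ⟨b, hb0, hb⟩ := Cfsg.Agent.Lib.Helper6.hilbert90 (σ : F →+* F) hσ' hσσ lam hlam1
  have hμ0 : σ b ≠ 0 := (map_ne_zero σ).mpr hb0
  have hσμ : σ (σ b) = lam * σ b := by
    have := hσσ b
    rw [show σ (σ b) = b from this]
    exact hb
  let H : GL (Fin n) F := ⟨σ b • g.1, (σ b)⁻¹ • (g⁻¹).1,
    by rw [Matrix.smul_mul, Matrix.mul_smul, smul_smul, gl_mul_inv, mul_inv_cancel₀ hμ0, one_smul],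
    by rw [Matrix.smul_mul, Matrix.mul_smul, smul_smul, gl_inv_mul, inv_mul_cancel₀ hμ0, one_smul]⟩
  have hH : hs σ H.1 = H.1 := by
    change hs σ (σ b • g.1) = σ b • g.1
    rw [hs_smul, hσμ]
    conv_rhs => rw [hA]
    rw [smul_smul, mul_comm]
  obtain ⟨k, hk⟩ := herm_decomp σ hσ hσ2 H hH
  refine ⟨k, ?_⟩
  have e1 : (cP k * (fP σ * tP) * (cP k)⁻¹ : MulAut PSLn) =
      cP (k * sG σ (gT k⁻¹)) * (fP σ * tP) := by
    rw [← map_inv]
    calc cP k * (fP σ * tP) * cP k⁻¹ = cP k * fP σ * (tP * cP k⁻¹) := by simp only [mul_assoc]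
      _ = cP k * fP σ * (cP (gT k⁻¹) * tP) := by rw [rel_tP_cP]
      _ = cP k * (fP σ * cP (gT k⁻¹)) * tP := by simp only [mul_assoc]
      _ = cP k * (cP (sG σ (gT k⁻¹)) * fP σ) * tP := by rw [rel_fP_cP]
      _ = cP (k * sG σ (gT k⁻¹)) * (fP σ * tP) := by rw [map_mul]; simp only [mul_assoc]
  have e2 : (cP (k * sG σ (gT k⁻¹)) : MulAut PSLn) = cP g := by
    apply cP_eq_of_smul _ _ (σ b)
    rw [Units.val_mul, sG_val, gT_val, inv_inv, Matrix.transpose_map]
    exact hk.symm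
  rw [e1, e2]

end psl

end Cfsg.Agent.Lib.Helper16.GraphFieldCoset
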