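import Mathlib
import Cfsg.Agent.Lib.Helper16.GraphFieldCoset
import Cfsg.Agent.Lib.Helper6.Hermitian

/-!
# Descent for unitary groups along a field automorphism of odd order
-/

set_option autoImplicit false
set_option linter.unusedSectionVars false
set_option linter.unusedVariables false
set_option linter.style.haveILetI false

namespace Cfsg.Agent.Lib.Helper16.UnitaryDescent

open Matrix Cfsg.Agent.Lib.Helper16.H90GL Cfsg.Agent.Lib.Helper16.GraphFieldCoset
  Cfsg.Agent.Lib.Helper6.AutPSL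

variable {F : Type*} [Field F] {n : ℕ}

theorem exists_fixed_not_fixed (σ τ : RingAut F) (hodd : Odd (orderOf σ)) (hτ2 : τ * τ = 1)
    (hτ : τ ≠ 1) : ∃ a : F, σ a = a ∧ τ a ≠ a := by
  by_contra hcon
  push Not at hcon
  have hfin : IsOfFinOrder σ := by
    rw [← orderOf_pos_iff]; exact hodd.pos
  haveI : Finite (Subgroup.zpowers σ) := by
    exact hfin.finite_zpowers
  have hbij := FixedPoints.toAlgAut_bijective (Subgroup.zpowers σ) F
  have hfix : ∀ x : FixedPoints.subfield (Subgroup.zpowers σ) F,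
      τ (algebraMap _ F x) = algebraMap _ F x := by
    intro x
    apply hcon
    exact x.2 ⟨σ, Subgroup.mem_zpowers σ⟩
  let τ' : F ≃ₐ[FixedPoints.subfield (Subgroup.zpowers σ) F] F := AlgEquiv.ofRingEquiv (f := τ) hfix
  obtain ⟨g, hg⟩ := hbij.2 τ'
  obtain ⟨k, hk⟩ := Subgroup.mem_zpowers_iff.mp g.2
  have hτσ : τ = σ ^ k := by
    apply RingEquiv.ext
    intro a
    have h1 := DFunLike.congr_fun hg a
    rw [hk]
    exact h1.symm
  have h1 : τ ^ (orderOf σ) = 1 := by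
    rw [hτσ, ← zpow_natCast, ← _root_.zpow_mul, mul_comm, _root_.zpow_mul, zpow_natCast, pow_orderOf_eq_one,
      _root_.one_zpow]
  obtain ⟨m, hm⟩ := hodd
  apply hτ
  have h2 : τ ^ (2 * m) = 1 := by rw [pow_mul, pow_two, hτ2, one_pow]
  rw [hm, pow_succ, h2, one_mul] at h1
  exact h1

theorem nrmF_comm (σ τ : RingAut F) (hcomm : ∀ a, τ (σ a) = σ (τ a)) (μ : F) (k : ℕ) :
    nrmF σ (τ μ) k = τ (nrmF σ μ k) := by
  induction k with
  | zero => simp [nrmF_zero]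
  | succ k ih => rw [nrmF_succ, nrmF_succ, ih, map_mul, hcomm]

theorem nrmF_inv (σ : RingAut F) (μ : F) (k : ℕ) : nrmF σ μ⁻¹ k = (nrmF σ μ k)⁻¹ := by
  induction k with
  | zero => simp [nrmF_zero]
  | succ k ih => rw [nrmF_succ, nrmF_succ, ih, map_inv₀, mul_inv]

theorem unitary_norm [Finite F] (σ τ : RingAut F) (r : ℕ) (hr : orderOf σ = r) (hr0 : 0 < r)
    (hcomm : ∀ a, τ (σ a) = σ (τ a)) (hτ2 : ∀ a, τ (τ a) = a) (hτ : τ ≠ 1)
    (hK : ∃ a : F, σ a = a ∧ τ a ≠ a)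
    (lam : F) (hlam : lam * τ lam = 1) (hfix : σ lam = lam) :
    ∃ μ : F, μ * τ μ = 1 ∧ nrmF σ μ r = lam := by
  have hσr : σ ^ r = 1 := by rw [← hr]; exact pow_orderOf_eq_one σ
  have hlam0 : lam ≠ 0 := left_ne_zero_of_mul_eq_one hlam
  obtain ⟨μ₀, hμ₀0, hμ₀⟩ := nrmF_surj σ r hr hr0 lam hlam0 hfix
  obtain ⟨e, he⟩ : ∃ e, e = μ₀ * τ μ₀ := ⟨_, rfl⟩
  have he0 : e ≠ 0 := by rw [he]; exact mul_ne_zero hμ₀0 ((map_ne_zero τ).mpr hμ₀0)
  have hτe : τ e = e := by rw [he, map_mul, hτ2, mul_comm]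
  have hNe : nrmF σ e r = 1 := by rw [he, nrmF_mul, nrmF_comm σ τ hcomm, hμ₀, hlam]
  obtain ⟨b, hb0, hb⟩ := scalar_h90 σ r hr hr0 e hNe
  obtain ⟨w, hw⟩ : ∃ w, w = τ b / b := ⟨_, rfl⟩
  have hτb0 : τ b ≠ 0 := (map_ne_zero τ).mpr hb0
  have hσb : σ b = b / e := by rw [eq_div_iff he0, mul_comm]; exact hb
  have hσw : σ w = w := by
    rw [hw, map_div₀, ← hcomm, hσb, map_div₀, hτe]
    field_simp
  have hwτw : w * τ w = 1 := by
    rw [hw, map_div₀, hτ2]; field_simp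
  have hτb : τ b = w * b := by rw [hw]; field_simp
  obtain ⟨s, hs0, hσs, hws⟩ : ∃ s : F, s ≠ 0 ∧ σ s = s ∧ w * τ s = s := by
    by_cases hw1 : w = -1
    · obtain ⟨a, ha, hτa⟩ := hK
      refine ⟨a - τ a, sub_ne_zero.mpr (Ne.symm hτa), ?_, ?_⟩
      · rw [map_sub, ← hcomm, ha]
      · rw [hw1, map_sub, hτ2]; ring
    · refine ⟨1 + w, ?_, ?_, ?_⟩
      · intro h; apply hw1; linear_combination h
      · rw [map_add, map_one, hσw]
      · rw [map_add, map_one, mul_add, mul_one, hwτw, add_comm]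
  obtain ⟨c, hc⟩ : ∃ c, c = b * s := ⟨_, rfl⟩
  have hc0 : c ≠ 0 := by rw [hc]; exact mul_ne_zero hb0 hs0
  have hτc : τ c = c := by
    rw [hc, map_mul, hτb]
    calc w * b * τ s = b * (w * τ s) := by ring
      _ = b * s := by rw [hws]
  have hσc : σ c = c / e := by rw [hc, map_mul, hσb, hσs]; ring
  have hτ' : (τ : F →+* F) ≠ RingHom.id F := by
    intro h
    apply hτ
    apply RingEquiv.ext
    intro a
    exact DFunLike.congr_fun h a
  obtain ⟨t, ht⟩ := Cfsg.Agent.Lib.Helper6.exists_norm (τ : F →+* F) hτ' hτ2 c hc0 hτc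
  have ht' : t * τ t = c := ht
  have ht0 : t ≠ 0 := by
    intro h; apply hc0; rw [← ht', h, zero_mul]
  have hσt0 : σ t ≠ 0 := (map_ne_zero σ).mpr ht0
  refine ⟨μ₀ * σ t / t, ?_, ?_⟩
  · rw [map_div₀, map_mul, hcomm]
    have h1 : σ t * σ (τ t) = c / e := by rw [← map_mul, ht', hσc]
    have hτt0 : τ t ≠ 0 := (map_ne_zero τ).mpr ht0
    calc μ₀ * σ t / t * (τ μ₀ * σ (τ t) / τ t)
        = (μ₀ * τ μ₀) * (σ t * σ (τ t)) / (t * τ t) := by field_simp
      _ = 1 := by rw [← he, h1, ht']; field_simp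
  · rw [div_eq_mul_inv, nrmF_mul, nrmF_mul, nrmF_inv, nrmF_map, hμ₀,
      nrmF_fixed σ r hσr ht0]
    have := nrmF_ne_zero σ ht0 r
    field_simp

/-- the fixed field of `σ` -/
def fixK (σ : RingAut F) : Subfield F where
  carrier := {a | σ a = a}
  mul_mem' := by
    intro a b ha hb
    change σ (a * b) = a * b
    rw [map_mul, ha, hb]
  one_mem' := map_one σ
  add_mem' := by
    intro a b ha hb
    change σ (a + b) = a + b
    rw [map_add, ha, hb]
  zero_mem' := map_zero σ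
  neg_mem' := by
    intro a ha
    change σ (-a) = -a
    rw [map_neg, ha]
  inv_mem' := by
    intro a ha
    change σ a⁻¹ = a⁻¹
    rw [map_inv₀, ha]

theorem mem_fixK (σ : RingAut F) (a : F) : a ∈ fixK σ ↔ σ a = a := Iff.rfl

/-- restriction of a commuting involution to the fixed field -/
def resK (σ τ : RingAut F) (hcomm : ∀ a, τ (σ a) = σ (τ a)) (hτ2 : ∀ a, τ (τ a) = a) :
    RingAut ↥(fixK σ) where
  toFun a := ⟨τ a.1, by rw [mem_fixK, ← hcomm, (mem_fixK σ a.1).mp a.2]⟩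
  invFun a := ⟨τ a.1, by rw [mem_fixK, ← hcomm, (mem_fixK σ a.1).mp a.2]⟩
  left_inv a := Subtype.ext (hτ2 a.1)
  right_inv a := Subtype.ext (hτ2 a.1)
  map_mul' a b := Subtype.ext (map_mul τ a.1 b.1)
  map_add' a b := Subtype.ext (map_add τ a.1 b.1)

theorem resK_val (σ τ : RingAut F) (hcomm : ∀ a, τ (σ a) = σ (τ a)) (hτ2 : ∀ a, τ (τ a) = a)
    (a : ↥(fixK σ)) : ((resK σ τ hcomm hτ2 a : ↥(fixK σ)) : F) = τ a.1 := rfl

/-- a matrix with entries in a subfield, as a matrix over the subfield -/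
def toK (K : Subfield F) (M : Matrix (Fin n) (Fin n) F) (h : ∀ i j, M i j ∈ K) :
    Matrix (Fin n) (Fin n) ↥K :=
  Matrix.of fun i j => ⟨M i j, h i j⟩

theorem toK_map (K : Subfield F) (M : Matrix (Fin n) (Fin n) F) (h : ∀ i j, M i j ∈ K) :
    (toK K M h).map K.subtype = M := by
  ext i j; rfl

theorem hs_map_comm (σ τ : RingAut F) (hcomm : ∀ a, τ (σ a) = σ (τ a))
    (M : Matrix (Fin n) (Fin n) F) : (hs τ M).map σ = hs τ (M.map σ) := by
  ext i j
  rw [Matrix.map_apply, hs_apply, hs_apply, Matrix.map_apply]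
  exact (hcomm _).symm

theorem fixed_herm_decomp [Finite F] (σ τ : RingAut F) (hcomm : ∀ a, τ (σ a) = σ (τ a))
    (hτ2 : ∀ a, τ (τ a) = a) (hK : ∃ a : F, σ a = a ∧ τ a ≠ a)
    (A A' : Matrix (Fin n) (Fin n) F) (hAA' : A * A' = 1) (hσA : A.map σ = A) (hH : hs τ A = A) :
    ∃ k k' : Matrix (Fin n) (Fin n) F, k * k' = 1 ∧ k.map σ = k ∧ k'.map σ = k' ∧
      A = k * hs τ k := by
  have hA'A : A' * A = 1 := mul_eq_one_comm.mp hAA'
  have hσA' : A'.map σ = A' := by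
    have h1 : A * A'.map σ = 1 := by
      have : (A * A').map σ = (1 : Matrix (Fin n) (Fin n) F).map σ := by rw [hAA']
      rw [Matrix.map_mul, hσA, Matrix.map_one _ (map_zero σ) (map_one σ)] at this
      exact this
    calc A'.map σ = (A' * A) * A'.map σ := by rw [hA'A, Matrix.one_mul]
      _ = A' * (A * A'.map σ) := by rw [Matrix.mul_assoc]
      _ = A' := by rw [h1, Matrix.mul_one]
  have hι : Function.Injective
      (fun M : Matrix (Fin n) (Fin n) ↥(fixK σ) => M.map (fixK σ).subtype) :=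
    Matrix.map_injective Subtype.val_injective
  have hAK : ∀ i j, A i j ∈ fixK σ := fun i j => congrFun (congrFun hσA i) j
  have hA'K : ∀ i j, A' i j ∈ fixK σ := fun i j => congrFun (congrFun hσA' i) j
  have hτK1 : resK σ τ hcomm hτ2 ≠ 1 := by
    obtain ⟨a, ha, hτa⟩ := hK
    intro h
    apply hτa
    have := DFunLike.congr_fun h (⟨a, ha⟩ : ↥(fixK σ))
    exact congrArg Subtype.val this
  have hτK2 : resK σ τ hcomm hτ2 * resK σ τ hcomm hτ2 = 1 := by
    apply RingEquiv.ext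
    intro a
    apply Subtype.ext
    exact hτ2 a.1
  have hhs : ∀ M : Matrix (Fin n) (Fin n) ↥(fixK σ),
      (hs (resK σ τ hcomm hτ2) M).map (fixK σ).subtype = hs τ (M.map (fixK σ).subtype) := by
    intro M; ext i j; rfl
  have hone : (1 : Matrix (Fin n) (Fin n) ↥(fixK σ)).map (fixK σ).subtype = 1 :=
    Matrix.map_one _ (map_zero _) (map_one _)
  have h1 : toK (fixK σ) A hAK * toK (fixK σ) A' hA'K = 1 := by
    apply hι
    simp only
    rw [Matrix.map_mul, toK_map, toK_map, hAA', hone]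
  have h2 : toK (fixK σ) A' hA'K * toK (fixK σ) A hAK = 1 := mul_eq_one_comm.mp h1
  let H : GL (Fin n) ↥(fixK σ) := ⟨toK (fixK σ) A hAK, toK (fixK σ) A' hA'K, h1, h2⟩
  have hHH : hs (resK σ τ hcomm hτ2) H.1 = H.1 := by
    apply hι
    simp only
    rw [hhs]
    change hs τ ((toK (fixK σ) A hAK).map (fixK σ).subtype) = (toK (fixK σ) A hAK).map (fixK σ).subtype
    rw [toK_map, hH]
  obtain ⟨kK, hkK⟩ := herm_decomp (resK σ τ hcomm hτ2) hτK1 hτK2 H hHH
  refine ⟨kK.1.map (fixK σ).subtype, (kK⁻¹).1.map (fixK σ).subtype, ?_, ?_, ?_, ?_⟩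
  · rw [← Matrix.map_mul, gl_mul_inv, hone]
  · ext i j; exact (kK.1 i j).2
  · ext i j; exact ((kK⁻¹).1 i j).2
  · rw [← hhs, ← Matrix.map_mul, ← hkK]
    exact (toK_map (fixK σ) A hAK).symm

theorem gu_descent [Finite F] (σ τ : RingAut F) (hcomm : ∀ a, τ (σ a) = σ (τ a))
    (hτ2 : ∀ a, τ (τ a) = a) (hK : ∃ a : F, σ a = a ∧ τ a ≠ a)
    (g b b' : Matrix (Fin n) (Fin n) F) (hg : hs τ g * g = 1) (hbb' : b * b' = 1) (μ : F)
    (hμ : μ * τ μ = 1) (hb : g * b.map σ = μ • b) :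
    ∃ h h' : Matrix (Fin n) (Fin n) F, h * h' = 1 ∧ hs τ h * h = 1 ∧ g * h.map σ = μ • h := by
  have hτ2' : τ * τ = 1 := RingEquiv.ext hτ2
  have hb'b : b' * b = 1 := mul_eq_one_comm.mp hbb'
  obtain ⟨A, hA⟩ : ∃ A, A = hs τ b * b := ⟨_, rfl⟩
  have hAA' : A * (b' * hs τ b') = 1 := by
    rw [hA]
    calc hs τ b * b * (b' * hs τ b') = hs τ b * (b * b') * hs τ b' := by
          simp only [Matrix.mul_assoc]
      _ = hs τ (b' * b) := by rw [hbb', Matrix.mul_one, ← hs_mul]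
      _ = 1 := by rw [hb'b, hs_one]
  have hσA : A.map σ = A := by
    have h1 : hs τ (g * b.map σ) * (g * b.map σ) = hs τ (b.map σ) * b.map σ := by
      rw [hs_mul]
      calc hs τ (b.map σ) * hs τ g * (g * b.map σ)
          = hs τ (b.map σ) * (hs τ g * g) * b.map σ := by simp only [Matrix.mul_assoc]
        _ = _ := by rw [hg, Matrix.mul_one]
    have h2 : hs τ (μ • b) * (μ • b) = A := by
      rw [hs_smul, Matrix.smul_mul, Matrix.mul_smul, smul_smul, mul_comm, hμ, one_smul, hA]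
    rw [hb, h2] at h1
    rw [hA, Matrix.map_mul, hs_map_comm σ τ hcomm, ← h1, ← hA]
  have hH : hs τ A = A := by rw [hA, hs_mul, hs_hs τ hτ2']
  obtain ⟨k, k', hkk', hσk, hσk', hAk⟩ := fixed_herm_decomp σ τ hcomm hτ2 hK A _ hAA' hσA hH
  have hk'k : k' * k = 1 := mul_eq_one_comm.mp hkk'
  have hdd' : hs τ k * hs τ k' = 1 := by rw [← hs_mul, hk'k, hs_one]
  have hd'd : hs τ k' * hs τ k = 1 := by rw [← hs_mul, hkk', hs_one]
  refine ⟨b * hs τ k', hs τ k * b', ?_, ?_, ?_⟩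
  · calc b * hs τ k' * (hs τ k * b') = b * (hs τ k' * hs τ k) * b' := by
          simp only [Matrix.mul_assoc]
      _ = 1 := by rw [hd'd, Matrix.mul_one, hbb']
  · rw [hs_mul, hs_hs τ hτ2']
    calc k' * hs τ b * (b * hs τ k') = k' * (hs τ b * b) * hs τ k' := by
          simp only [Matrix.mul_assoc]
      _ = k' * (k * hs τ k) * hs τ k' := by rw [← hA, hAk]
      _ = (k' * k) * (hs τ k * hs τ k') := by simp only [Matrix.mul_assoc]
      _ = 1 := by rw [hk'k, hdd', Matrix.mul_one]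
  · rw [Matrix.map_mul, hs_map_comm σ τ hcomm, hσk', ← Matrix.mul_assoc, hb, Matrix.smul_mul]

end Cfsg.Agent.Lib.Helper16.UnitaryDescent
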