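import Mathlib
import Cfsg.Prelude.Def_LieTypeDatum
import Cfsg.Agent.Lib.Helper16.UnitaryDescent

/-!
# Counting the classes into which a class splits; fixed fields of field automorphisms
-/

set_option autoImplicit false
set_option linter.unusedSectionVars false
set_option linter.unusedVariables false
set_option linter.style.haveILetI false
set_option linter.unusedTactic false

namespace Cfsg.Agent.Lib.Helper16.SplitCount

open Cfsg Cfsg.Agent.Lib.Helper16.UnitaryDescent

/-- the number of `K`-classes in the `H`-class of `x`, computed through a parametrisation `c` of `H`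
and a homomorphism `δ` whose kernel parametrises `K` -/
theorem splitClassCount_eq {X Γ A : Type*} [Group X] [Group Γ] [Group A] (H K : Subgroup X) (x : X)
    (c : Γ →* X) (hc : c.range = H) (hKH : K ≤ H) (δ : Γ →* A) (hδ : Function.Surjective δ)
    (hK : ∀ g, c g ∈ K ↔ δ g = 1) :
    Cfsg.splitClassCount H K x = (((Subgroup.centralizer {x}).comap c).map δ).index := by
  obtain ⟨D, hD⟩ : ∃ D, D = ((Subgroup.centralizer {x}).comap c).map δ := ⟨_, rfl⟩
  rw [← hD]
  have hcent : ∀ g : Γ, g ∈ (Subgroup.centralizer {x}).comap c ↔ x * c g = c g * x := by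
    intro g
    rw [Subgroup.mem_comap, Subgroup.mem_centralizer_iff]
    constructor
    · intro h; exact h x rfl
    · intro h y hy
      rw [Set.mem_singleton_iff] at hy
      rw [hy]; exact h
  -- well-definedness
  have wd : ∀ g g' : Γ, c g * x * (c g)⁻¹ = c g' * x * (c g')⁻¹ →
      (QuotientGroup.mk (δ g) : A ⧸ D) = QuotientGroup.mk (δ g') := by
    intro g g' h
    rw [QuotientGroup.eq, hD, ← map_inv, ← map_mul]
    refine Subgroup.mem_map_of_mem δ ?_
    rw [hcent, map_mul, map_inv]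
    calc x * ((c g)⁻¹ * c g') = (c g)⁻¹ * (c g * x * (c g)⁻¹) * c g' := by group
      _ = (c g)⁻¹ * (c g' * x * (c g')⁻¹) * c g' := by rw [h]
      _ = (c g)⁻¹ * c g' * x := by group
  have hrep : ∀ y : {y : X // IsConjUnder H x y}, ∃ g : Γ, y.1 = c g * x * (c g)⁻¹ := by
    rintro ⟨y, h, hh, rfl⟩
    rw [← hc] at hh
    obtain ⟨g, rfl⟩ := hh
    exact ⟨g, rfl⟩
  choose rep hrep' using hrep
  let f₀ : {y : X // IsConjUnder H x y} → A ⧸ D := fun y => QuotientGroup.mk (δ (rep y))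
  have hf₀ : ∀ (y : {y : X // IsConjUnder H x y}) (g : Γ), y.1 = c g * x * (c g)⁻¹ →
      f₀ y = QuotientGroup.mk (δ g) := by
    intro y g hg
    apply wd
    rw [← hrep' y, hg]
  have hresp : ∀ y z : {y : X // IsConjUnder H x y}, IsConjUnder K y.1 z.1 → f₀ y = f₀ z := by
    rintro y z ⟨k, hk, hz⟩
    have hkH : k ∈ c.range := by rw [hc]; exact hKH hk
    obtain ⟨gk, rfl⟩ := hkH
    have hδk : δ gk = 1 := (hK gk).mp hk
    rw [hf₀ z (gk * rep y) (by rw [hz, hrep' y, map_mul]; group), map_mul, hδk, one_mul]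
  unfold Cfsg.splitClassCount
  rw [Subgroup.index_eq_card]
  apply Nat.card_eq_of_bijective (Quot.lift f₀ hresp)
  constructor
  · intro a b
    induction a using Quot.ind with | _ y => ?_
    induction b using Quot.ind with | _ z => ?_
    intro h
    change f₀ y = f₀ z at h
    apply Quot.sound
    change IsConjUnder K y.1 z.1
    have h' : (QuotientGroup.mk (δ (rep y)) : A ⧸ D) = QuotientGroup.mk (δ (rep z)) := h
    rw [QuotientGroup.eq, hD] at h'
    obtain ⟨d, hd, hdδ⟩ := h'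
    have hd := (hcent d).mp hd
    -- k₀ = (rep y)⁻¹ * rep z * d⁻¹
    have hk₀ : δ (rep y * ((rep y)⁻¹ * rep z * d⁻¹) * (rep y)⁻¹) = 1 := by
      rw [map_mul, map_mul, map_mul, map_mul, map_inv, map_inv, hdδ]
      group
    refine ⟨c (rep y * ((rep y)⁻¹ * rep z * d⁻¹) * (rep y)⁻¹), (hK _).mpr hk₀, ?_⟩
    rw [hrep' y, hrep' z]
    have hd' : c d * x * (c d)⁻¹ = x := by rw [← hd]; group
    simp only [map_mul, map_inv]
    calc c (rep z) * x * (c (rep z))⁻¹ = c (rep z) * (c d)⁻¹ * (c d * x * (c d)⁻¹) * c d * (c (rep z))⁻¹ := by group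
      _ = c (rep z) * (c d)⁻¹ * x * c d * (c (rep z))⁻¹ := by rw [hd']
      _ = _ := by group
  · intro a
    induction a using QuotientGroup.induction_on with | _ a => ?_
    obtain ⟨g, rfl⟩ := hδ a
    have hy : IsConjUnder H x (c g * x * (c g)⁻¹) := ⟨c g, by rw [← hc]; exact ⟨g, rfl⟩, rfl⟩
    refine ⟨Quot.mk _ ⟨_, hy⟩, ?_⟩
    change f₀ ⟨_, hy⟩ = _
    exact hf₀ ⟨_, hy⟩ g rfl

theorem index_sup_pow {Z : Type*} [CommGroup Z] [Finite Z] [IsCyclic Z] (Z₀ : Subgroup Z) (n : ℕ) :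
    (Z₀ ⊔ (powMonoidHom n : Z →* Z).range).index = Nat.gcd n (Nat.card Z / Nat.card Z₀) := by
  obtain ⟨ζ, hζ⟩ := IsCyclic.exists_generator (α := Z)
  have hN : orderOf ζ = Nat.card Z := orderOf_eq_card_of_forall_mem_zpowers hζ
  have hNpos : 0 < Nat.card Z := Nat.card_pos
  haveI : IsCyclic ↥Z₀ := Subgroup.isCyclic Z₀
  obtain ⟨z₀, hz₀⟩ := IsCyclic.exists_generator (α := ↥Z₀)
  have hZ₀ : Z₀ = Subgroup.zpowers (z₀ : Z) := by
    apply le_antisymm
    · intro a ha
      obtain ⟨k, hk⟩ := Subgroup.mem_zpowers_iff.mp (hz₀ ⟨a, ha⟩)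
      refine Subgroup.mem_zpowers_iff.mpr ⟨k, ?_⟩
      have := congrArg Subtype.val hk
      simpa using this
    · rw [Subgroup.zpowers_le]; exact z₀.2
  obtain ⟨s, hs⟩ : ∃ s : ℕ, ζ ^ s = (z₀ : Z) := by
    have h1 := hζ (z₀ : Z)
    rw [← mem_powers_iff_mem_zpowers] at h1
    exact h1
  have hR : (powMonoidHom n : Z →* Z).range = Subgroup.zpowers (ζ ^ n) := by
    ext a
    rw [MonoidHom.mem_range, Subgroup.mem_zpowers_iff]
    constructor
    · rintro ⟨b, rfl⟩
      obtain ⟨k, rfl⟩ := Subgroup.mem_zpowers_iff.mp (hζ b)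
      refine ⟨k, ?_⟩
      rw [powMonoidHom_apply, ← zpow_natCast, ← zpow_natCast, ← zpow_mul, ← zpow_mul, mul_comm]
    · rintro ⟨k, rfl⟩
      refine ⟨ζ ^ k, ?_⟩
      rw [powMonoidHom_apply, ← zpow_natCast, ← zpow_natCast, ← zpow_mul, ← zpow_mul, mul_comm]
  have hsup : Z₀ ⊔ (powMonoidHom n : Z →* Z).range = Subgroup.zpowers (ζ ^ (Nat.gcd s n)) := by
    rw [hZ₀, hR, ← hs]
    apply le_antisymm
    · apply sup_le
      · rw [Subgroup.zpowers_le]
        obtain ⟨t, ht⟩ := Nat.gcd_dvd_left s n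
        refine Subgroup.mem_zpowers_iff.mpr ⟨t, ?_⟩
        rw [zpow_natCast, ← pow_mul, ← ht]
      · rw [Subgroup.zpowers_le]
        obtain ⟨t, ht⟩ := Nat.gcd_dvd_right s n
        refine Subgroup.mem_zpowers_iff.mpr ⟨t, ?_⟩
        rw [zpow_natCast, ← pow_mul, ← ht]
    · rw [Subgroup.zpowers_le]
      have hb := Nat.gcd_eq_gcd_ab s n
      have : ζ ^ (Nat.gcd s n) = (ζ ^ s) ^ (Nat.gcdA s n) * (ζ ^ n) ^ (Nat.gcdB s n) := by
        rw [← zpow_natCast ζ (Nat.gcd s n), hb, zpow_add, zpow_mul, zpow_mul, zpow_natCast,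
          zpow_natCast]
      rw [this]
      exact Subgroup.mul_mem_sup (Subgroup.zpow_mem_zpowers _ _) (Subgroup.zpow_mem_zpowers _ _)
  have hidx : ∀ g : ℕ, (Subgroup.zpowers (ζ ^ g)).index = Nat.gcd (Nat.card Z) g := by
    intro g
    have h1 := Subgroup.index_mul_card (Subgroup.zpowers (ζ ^ g))
    rw [Nat.card_zpowers, orderOf_pow, hN] at h1
    have hgpos : 0 < Nat.gcd (Nat.card Z) g := Nat.gcd_pos_of_pos_left _ hNpos
    have h2 : Nat.card Z / Nat.gcd (Nat.card Z) g * Nat.gcd (Nat.card Z) g = Nat.card Z :=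
      Nat.div_mul_cancel (Nat.gcd_dvd_left _ _)
    have h3 : 0 < Nat.card Z / Nat.gcd (Nat.card Z) g :=
      Nat.div_pos (Nat.le_of_dvd hNpos (Nat.gcd_dvd_left _ _)) hgpos
    rw [mul_comm] at h1
    have h4 : Nat.card Z / Nat.gcd (Nat.card Z) g * (Subgroup.zpowers (ζ ^ g)).index =
        Nat.card Z / Nat.gcd (Nat.card Z) g * Nat.gcd (Nat.card Z) g := by rw [h1, h2]
    exact Nat.eq_of_mul_eq_mul_left h3 h4
  have hcard₀ : Nat.card Z₀ = Nat.card Z / Nat.gcd (Nat.card Z) s := by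
    rw [hZ₀, ← hs, Nat.card_zpowers, orderOf_pow, hN]
  rw [hsup, hidx, hcard₀, Nat.div_div_self (Nat.gcd_dvd_left _ _) hNpos.ne']
  rw [← Nat.gcd_assoc, Nat.gcd_comm]

theorem fixed_field_card {F : Type*} [Field F] [Fintype F] {p f : ℕ} [hp : Fact p.Prime]
    (hF : Fintype.card F = p ^ f) (σ : RingAut F) (r : ℕ) (hr : orderOf σ = r) (hr0 : 0 < r) :
    r ∣ f ∧ Nat.card ↥(fixK σ) = p ^ (f / r) := by
  classical
  have hfin : IsOfFinOrder σ := by
    rw [← orderOf_pos_iff, hr]; exact hr0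
  haveI : Finite (Subgroup.zpowers σ) := hfin.finite_zpowers
  haveI : Fintype (Subgroup.zpowers σ) := Fintype.ofFinite _
  have hSeq : FixedPoints.subfield (Subgroup.zpowers σ) F = fixK σ := by
    ext a
    constructor
    · intro ha
      exact ha ⟨σ, Subgroup.mem_zpowers σ⟩
    · intro ha g
      obtain ⟨k, hk⟩ := Subgroup.mem_zpowers_iff.mp g.2
      have hσa : σ a = a := ha
      have hinv : σ⁻¹ a = a := by
        conv_lhs => rw [← hσa]
        exact σ.symm_apply_apply a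
      have : ∀ k : ℤ, (σ ^ k) a = a := by
        intro k
        induction k using Int.induction_on with
        | zero => rfl
        | succ i ih =>
          rw [zpow_add, zpow_one]
          change (σ ^ (i : ℤ)) (σ a) = a
          rw [hσa, ih]
        | pred i ih =>
          rw [zpow_sub, zpow_one]
          change (σ ^ (-(i : ℤ))) (σ⁻¹ a) = a
          rw [hinv, ih]
      change (g : RingAut F) a = a
      rw [← hk]
      exact this k
  have h1 := FixedPoints.finrank_eq_card (Subgroup.zpowers σ) F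
  have h2 : Fintype.card (Subgroup.zpowers σ) = r := by
    rw [← Nat.card_eq_fintype_card, Nat.card_zpowers, hr]
  have h3 := Module.card_eq_pow_finrank (K := ↥(FixedPoints.subfield (Subgroup.zpowers σ) F)) (V := F)
  rw [h1, h2, hF] at h3
  obtain ⟨c, hc⟩ : ∃ c, c = Fintype.card ↥(FixedPoints.subfield (Subgroup.zpowers σ) F) := ⟨_, rfl⟩
  rw [← hc] at h3
  have hcdvd : c ∣ p ^ f := by rw [h3]; exact dvd_pow_self c hr0.ne'
  obtain ⟨k, -, hk⟩ := (Nat.dvd_prime_pow hp.out).mp hcdvd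
  rw [hk, ← pow_mul] at h3
  have hfk : f = k * r := Nat.pow_right_injective hp.out.two_le h3
  refine ⟨⟨k, by rw [hfk, mul_comm]⟩, ?_⟩
  rw [← hSeq, Nat.card_eq_fintype_card, ← hc, hk, hfk, Nat.mul_div_cancel _ hr0]


theorem exists_embedding {F : Type*} [Field F] [Fintype F] {p f : ℕ} [hp : Fact p.Prime]
    (hF : Fintype.card F = p ^ f) (σ : RingAut F) (r : ℕ) (hr : orderOf σ = r) (hr0 : 0 < r)
    (F₀ : Type*) [Field F₀] [Fintype F₀] (hF₀ : Fintype.card F₀ = p ^ (f / r)) :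
    ∃ j : F₀ →+* F, ∀ a : F, σ a = a ↔ a ∈ Set.range j := by
  classical
  obtain ⟨-, hcard⟩ := fixed_field_card hF σ r hr hr0
  haveI : Fintype ↥(fixK σ) := Fintype.ofFinite _
  have h1 : Fintype.card F₀ = Fintype.card ↥(fixK σ) := by
    rw [hF₀, ← hcard, Nat.card_eq_fintype_card]
  let e : F₀ ≃+* ↥(fixK σ) := FiniteField.ringEquivOfCardEq h1
  refine ⟨(fixK σ).subtype.comp (e : F₀ →+* ↥(fixK σ)), ?_⟩
  intro a
  constructor
  · intro ha
    refine ⟨e.symm ⟨a, ha⟩, ?_⟩
    change ((e (e.symm ⟨a, ha⟩) : ↥(fixK σ)) : F) = a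
    rw [e.apply_symm_apply]
  · rintro ⟨b, rfl⟩
    exact (e b).2

/-- the index of the image of a subgroup in the quotient by the `n`-th powers -/
theorem index_map_mk_pow {Z : Type*} [CommGroup Z] [Finite Z] [IsCyclic Z] (Z₀ : Subgroup Z)
    (n : ℕ) :
    (Z₀.map (QuotientGroup.mk' (powMonoidHom n : Z →* Z).range)).index =
      Nat.gcd n (Nat.card Z / Nat.card Z₀) := by
  rw [Subgroup.index_map, QuotientGroup.ker_mk',
    MonoidHom.range_eq_top.mpr (QuotientGroup.mk'_surjective _), Subgroup.index_top, mul_one,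
    index_sup_pow]

end Cfsg.Agent.Lib.Helper16.SplitCount
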