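import Mathlib
import Cfsg.Agent.Lib.Helper16.SplitCount
import Cfsg.Agent.Lib.Helper16.FieldCoset

set_option autoImplicit false
set_option linter.unusedSectionVars false
set_option linter.unusedVariables false

namespace Cfsg.Agent.Lib.Helper16.FieldCentPSL

open Matrix Cfsg Cfsg.Agent.Lib.Helper6.AutPSL Cfsg.Agent.Lib.Helper16.H90GL
  Cfsg.Agent.Lib.Helper16.FieldCoset Cfsg.Agent.Lib.Helper16.SplitCount
  Cfsg.Agent.Lib.Helper16.UnitaryDescent


section
variable {F : Type*} [Field F] {n : ℕ}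

local notation "PSLn" => Matrix.ProjectiveSpecialLinearGroup (Fin n) F

/-- `cP a = cP b` iff `a` is a scalar multiple of `b` -/
theorem cP_eq_iff (hn : 2 ≤ n) (a b : GL (Fin n) F) :
    (cP a : MulAut PSLn) = cP b ↔ ∃ μ : F, a.1 = μ • b.1 := by
  constructor
  · intro h
    have h1 : b⁻¹ * a ∈ (cP : GL (Fin n) F →* MulAut PSLn).ker := by
      rw [MonoidHom.mem_ker, map_mul, map_inv, h, inv_mul_cancel]
    rw [cP_ker (card_fin_ge hn)] at h1
    obtain ⟨μ, hμ⟩ := Matrix.GeneralLinearGroup.mem_center_iff_val_mem_range_scalar.mp h1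
    refine ⟨μ, ?_⟩
    rw [scalar_eq_smul_one, Units.val_mul] at hμ
    calc a.1 = b.1 * ((b⁻¹).1 * a.1) := by rw [← Matrix.mul_assoc, gl_mul_inv, Matrix.one_mul]
      _ = μ • b.1 := by rw [← hμ, Matrix.mul_smul, Matrix.mul_one]
  · rintro ⟨μ, h⟩
    exact cP_eq_of_smul a b μ h

theorem comm_iff (hn : 2 ≤ n) (σ : RingAut F) (g : GL (Fin n) F) :
    (fP σ * cP g : MulAut PSLn) = cP g * fP σ ↔ ∃ μ : F, g.1.map σ = μ • g.1 := by
  rw [rel_fP_cP, mul_left_inj, cP_eq_iff hn, sG_val]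

theorem gl_ne_zero (hn : 1 ≤ n) (g : GL (Fin n) F) : ∃ i j, g.1 i j ≠ 0 := by
  by_contra hcon
  push Not at hcon
  have h0 : g.1 = 0 := Matrix.ext hcon
  have h1 := gl_mul_inv g
  rw [h0, Matrix.zero_mul] at h1
  have := congrFun (congrFun h1 ⟨0, by omega⟩) ⟨0, by omega⟩
  simp at this

theorem exists_fixed_mul (hn : 1 ≤ n) (σ : RingAut F) (g : GL (Fin n) F) (μ : F)
    (h : g.1.map σ = μ • g.1) : ∃ a : F, a ≠ 0 ∧ (a • g.1).map σ = a • g.1 := by
  obtain ⟨i, j, hij⟩ := gl_ne_zero hn g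
  have hent : ∀ s t, σ (g.1 s t) = μ * g.1 s t := fun s t => by
    have := congrFun (congrFun h s) t
    simpa using this
  have hμ0 : μ ≠ 0 := by
    intro h0
    have := hent i j
    rw [h0, zero_mul] at this
    exact hij ((map_eq_zero σ).mp this)
  refine ⟨(g.1 i j)⁻¹, inv_ne_zero hij, ?_⟩
  ext s t
  simp only [Matrix.map_apply, Matrix.smul_apply, smul_eq_mul, map_mul, map_inv₀]
  rw [hent i j, hent s t]
  field_simp

/-- the units fixed by `σ` -/
def fixU (σ : RingAut F) : Subgroup Fˣ where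
  carrier := {u | σ (u : F) = u}
  mul_mem' := by
    intro a b ha hb
    change σ ((a * b : Fˣ) : F) = _
    rw [Units.val_mul, map_mul, ha, hb]
  one_mem' := by
    change σ ((1 : Fˣ) : F) = _
    rw [Units.val_one, map_one]
  inv_mem' := by
    intro a ha
    change σ ((a⁻¹ : Fˣ) : F) = _
    rw [Units.val_inv_eq_inv_val, map_inv₀, ha]

theorem mem_fixU (σ : RingAut F) (u : Fˣ) : u ∈ fixU σ ↔ σ (u : F) = u := Iff.rfl

theorem card_fixU [Finite F] (σ : RingAut F) : Nat.card (fixU σ) = Nat.card ↥(fixK σ) - 1 := by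
  have hinj : Function.Injective (Units.map ((fixK σ).subtype : ↥(fixK σ) →* F)) :=
    Units.map_injective Subtype.val_injective
  have hrange : (Units.map ((fixK σ).subtype : ↥(fixK σ) →* F)).range = fixU σ := by
    ext u
    constructor
    · rintro ⟨v, rfl⟩
      exact (v : ↥(fixK σ)).2
    · intro hu
      have hu' : σ ((u⁻¹ : Fˣ) : F) = ((u⁻¹ : Fˣ) : F) := (fixU σ).inv_mem hu
      refine ⟨⟨⟨u, hu⟩, ⟨(u⁻¹ : Fˣ), hu'⟩, ?_, ?_⟩, ?_⟩
      · apply Subtype.ext; simp
      · apply Subtype.ext; simp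
      · apply Units.ext; rfl
  rw [← hrange, ← Nat.card_congr (MonoidHom.ofInjective hinj).toEquiv, Nat.card_units]

theorem val_det (g : GL (Fin n) F) : ((Matrix.GeneralLinearGroup.det g : Fˣ) : F) = g.1.det := rfl

theorem det_image (hn : 1 ≤ n) (σ : RingAut F) (C : Subgroup (GL (Fin n) F))
    (hC : ∀ g, g ∈ C ↔ ∃ μ : F, g.1.map σ = μ • g.1) :
    C.map Matrix.GeneralLinearGroup.det ⊔ (powMonoidHom n : Fˣ →* Fˣ).range =
      fixU σ ⊔ (powMonoidHom n : Fˣ →* Fˣ).range := by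
  apply le_antisymm
  · apply sup_le _ le_sup_right
    rintro u ⟨g, hg, rfl⟩
    obtain ⟨μ, hμ⟩ := (hC g).mp hg
    obtain ⟨a, ha0, ha⟩ := exists_fixed_mul hn σ g μ hμ
    have hw : (Units.mk0 a ha0) ^ n * Matrix.GeneralLinearGroup.det g ∈ fixU σ := by
      rw [mem_fixU, Units.val_mul, Units.val_pow_eq_pow_val, Units.val_mk0, val_det]
      have h1 : a ^ n * g.1.det = (a • g.1).det := by
        rw [Matrix.det_smul, Fintype.card_fin]
      rw [h1]
      have h2 := RingHom.map_det (σ : F →+* F) (a • g.1)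
      have h3 : (σ : F →+* F).mapMatrix (a • g.1) = (a • g.1).map σ := rfl
      rw [h3, ha] at h2
      exact h2
    have hv : ((Units.mk0 a ha0)⁻¹) ^ n ∈ (powMonoidHom n : Fˣ →* Fˣ).range := ⟨_, rfl⟩
    have := Subgroup.mul_mem_sup hw hv
    have e : (Units.mk0 a ha0) ^ n * Matrix.GeneralLinearGroup.det g * ((Units.mk0 a ha0)⁻¹) ^ n =
        Matrix.GeneralLinearGroup.det g := by
      rw [inv_pow, mul_comm, ← mul_assoc, inv_mul_cancel, one_mul]
    rw [e] at this
    exact this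
  · apply sup_le _ le_sup_right
    intro u hu
    apply le_sup_left (a := C.map Matrix.GeneralLinearGroup.det)
    let i0 : Fin n := ⟨0, by omega⟩
    obtain ⟨d, hd⟩ : ∃ d : Fin n → F, d = Function.update (fun _ => (1 : F)) i0 (u : F) := ⟨_, rfl⟩
    have hdet : (Matrix.diagonal d).det = u := by
      rw [Matrix.det_diagonal, hd, Finset.prod_update_of_mem (Finset.mem_univ i0)]
      simp
    have hdσ : ∀ i, σ (d i) = d i := by
      intro i
      rw [hd]
      by_cases h : i = i0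
      · rw [h, Function.update_self]; exact hu
      · rw [Function.update_of_ne h, map_one]
    refine ⟨Matrix.GeneralLinearGroup.mkOfDetNeZero (Matrix.diagonal d)
      (by rw [hdet]; exact u.ne_zero), ?_, ?_⟩
    · rw [SetLike.mem_coe, hC]
      refine ⟨1, ?_⟩
      rw [one_smul]
      change (Matrix.diagonal d).map σ = Matrix.diagonal d
      rw [Matrix.diagonal_map (map_zero σ)]
      congr 1
      funext i
      exact hdσ i
    · apply Units.ext
      rw [val_det]
      exact hdet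

/-- conjugate of the inner-diagonal parametrisation -/
noncomputable def cA (α : MulAut PSLn) : GL (Fin n) F →* MulAut PSLn :=
  (MulAut.conj α⁻¹).toMonoidHom.comp cP

theorem cA_apply (α : MulAut PSLn) (g : GL (Fin n) F) : cA α g = α⁻¹ * cP g * α := by
  change MulAut.conj α⁻¹ (cP g) = _
  rw [MulAut.conj_apply, inv_inv]

theorem cA_comm_iff (hn : 2 ≤ n) (α : MulAut PSLn) (σ : RingAut F) (g : GL (Fin n) F) :
    (α⁻¹ * fP σ * α) * cA α g = cA α g * (α⁻¹ * fP σ * α) ↔
      ∃ μ : F, g.1.map σ = μ • g.1 := by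
  rw [← comm_iff hn σ g, cA_apply]
  constructor
  · intro h
    have : α * (α⁻¹ * fP σ * α * (α⁻¹ * cP g * α)) * α⁻¹ =
        α * (α⁻¹ * cP g * α * (α⁻¹ * fP σ * α)) * α⁻¹ := by rw [h]
    calc fP σ * cP g = α * (α⁻¹ * fP σ * α * (α⁻¹ * cP g * α)) * α⁻¹ := by group
      _ = α * (α⁻¹ * cP g * α * (α⁻¹ * fP σ * α)) * α⁻¹ := this
      _ = cP g * fP σ := by group
  · intro h
    calc α⁻¹ * fP σ * α * (α⁻¹ * cP g * α) = α⁻¹ * (fP σ * cP g) * α := by group
      _ = α⁻¹ * (cP g * fP σ) * α := by rw [h]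
      _ = α⁻¹ * cP g * α * (α⁻¹ * fP σ * α) := by group

theorem mem_cent_comap {X Γ : Type*} [Group X] [Group Γ] (c : Γ →* X) (x : X) (g : Γ) :
    g ∈ (Subgroup.centralizer {x}).comap c ↔ x * c g = c g * x := by
  rw [Subgroup.mem_comap, Subgroup.mem_centralizer_iff]
  constructor
  · intro h; exact h x rfl
  · intro h y hy
    rw [Set.mem_singleton_iff] at hy
    rw [hy]; exact h

section fin
variable [Fintype F] {p f : ℕ} [Fact p.Prime] (hF : Fintype.card F = p ^ f) (hf : 1 ≤ f)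

include hF hf in
theorem cA_range (hn : 2 ≤ n) (α : MulAut PSLn) : (cA α).range = Cfsg.inndiagPSL n F := by
  rw [inndiag_eq_range]
  ext β
  constructor
  · rintro ⟨g, rfl⟩
    obtain ⟨g', hg'⟩ := conj_cP hF hf hn α⁻¹ g
    rw [cA_apply]
    rw [inv_inv] at hg'
    exact ⟨g', hg'.symm⟩
  · rintro ⟨g, rfl⟩
    obtain ⟨g', hg'⟩ := conj_cP hF hf hn α g
    refine ⟨g', ?_⟩
    rw [cA_apply, ← hg']
    group

theorem inn_le_inndiag : Cfsg.Inn PSLn ≤ Cfsg.inndiagPSL n F := by
  rw [inndiag_eq_range]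
  rintro _ ⟨y, rfl⟩
  obtain ⟨s, rfl⟩ := pm_surjective y
  exact ⟨_, (conj_eq_cP s).symm⟩

theorem cA_mem_inn_iff (hn : 2 ≤ n) (α : MulAut PSLn) (g : GL (Fin n) F) :
    cA α g ∈ Cfsg.Inn PSLn ↔ delta n g = 1 := by
  have h1 : cA α g ∈ Cfsg.Inn PSLn ↔ cP g ∈ Cfsg.Inn PSLn := by
    rw [cA_apply]
    constructor
    · intro h
      have := (Cfsg.innNormal PSLn).conj_mem _ h α
      have e : α * (α⁻¹ * cP g * α) * α⁻¹ = cP g := by group
      rwa [e] at this
    · intro h
      have := (Cfsg.innNormal PSLn).conj_mem _ h α⁻¹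
      rwa [inv_inv] at this
  rw [h1, ← MonoidHom.mem_ker (f := delta n), ← rho_ker n hn, MonoidHom.mem_ker]
  unfold rho
  rw [MonoidHom.comp_apply, QuotientGroup.mk'_apply, QuotientGroup.eq_one_iff]

include hF hf in
theorem split_count (hn : 2 ≤ n) (α : MulAut PSLn) (σ : RingAut F) (r : ℕ) (hr0 : 0 < r)
    (hσ : orderOf σ = r) :
    Cfsg.splitClassCount (Cfsg.inndiagPSL n F) (Cfsg.Inn PSLn) (α⁻¹ * fP σ * α) =
      Nat.gcd n ((p ^ f - 1) / (p ^ (f / r) - 1)) := by
  rw [splitClassCount_eq (Cfsg.inndiagPSL n F) (Cfsg.Inn PSLn) (α⁻¹ * fP σ * α) (cA α)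
    (cA_range hF hf hn α) inn_le_inndiag (delta n) (delta_surjective n (by omega))
    (cA_mem_inn_iff hn α)]
  have hC : ∀ g, g ∈ (Subgroup.centralizer {α⁻¹ * fP σ * α}).comap (cA α) ↔
      ∃ μ : F, g.1.map σ = μ • g.1 := by
    intro g
    rw [mem_cent_comap, cA_comm_iff hn]
  have hdelta : (delta n : GL (Fin n) F →* _) =
      (QuotientGroup.mk' (powMonoidHom n : Fˣ →* Fˣ).range).comp Matrix.GeneralLinearGroup.det :=
    rfl
  rw [hdelta, ← Subgroup.map_map, Subgroup.index_map, QuotientGroup.ker_mk',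
    MonoidHom.range_eq_top.mpr (QuotientGroup.mk'_surjective _), Subgroup.index_top, mul_one,
    det_image (by omega) σ _ hC, index_sup_pow]
  obtain ⟨-, hcard⟩ := fixed_field_card hF σ r hσ hr0
  rw [card_fixU, hcard, Nat.card_units, Nat.card_eq_fintype_card, hF]

include hF hf in
/-- the centralizer of a field automorphism in the inner-diagonal group is `PGL_n` of the fixed
field -/
theorem cent_iso (hn : 2 ≤ n) (α : MulAut PSLn) (σ : RingAut F) (F₀ : Type*) [Field F₀]
    (j : F₀ →+* F) (hj : ∀ a : F, σ a = a ↔ a ∈ Set.range j) :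
    Nonempty (↥(Cfsg.inndiagPSL n F ⊓ Subgroup.centralizer {α⁻¹ * fP σ * α}) ≃*
      Matrix.ProjGenLinGroup (Fin n) F₀) := by
  have hjinj : Function.Injective j := RingHom.injective j
  have hn1 : 1 ≤ n := by omega
  obtain ⟨Ψ, hΨ⟩ : ∃ Ψ : GL (Fin n) F₀ →* MulAut PSLn,
      Ψ = (cA α).comp (Matrix.GeneralLinearGroup.map j) := ⟨_, rfl⟩
  have hΨa : ∀ g₀, Ψ g₀ = cA α (Matrix.GeneralLinearGroup.map j g₀) := fun g₀ => by rw [hΨ]; rfl
  have hval : ∀ g₀ : GL (Fin n) F₀, (Matrix.GeneralLinearGroup.map j g₀).1 = g₀.1.map j :=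
    fun g₀ => rfl
  have hmem : ∀ g, cA α g ∈ Subgroup.centralizer {α⁻¹ * fP σ * α} ↔
      ∃ μ : F, g.1.map σ = μ • g.1 := by
    intro g
    rw [← Subgroup.mem_comap, mem_cent_comap, cA_comm_iff hn]
  have hrange : Ψ.range = Cfsg.inndiagPSL n F ⊓ Subgroup.centralizer {α⁻¹ * fP σ * α} := by
    apply le_antisymm
    · rintro _ ⟨g₀, rfl⟩
      rw [hΨa]
      refine ⟨?_, ?_⟩
      · rw [← cA_range hF hf hn α]; exact ⟨_, rfl⟩
      · refine (hmem _).mpr ⟨1, ?_⟩
        rw [one_smul, hval]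
        ext s t
        rw [Matrix.map_apply, Matrix.map_apply]
        exact (hj _).mpr ⟨_, rfl⟩
    · rintro β ⟨hβ1, hβ2⟩
      rw [SetLike.mem_coe, ← cA_range hF hf hn α] at hβ1
      obtain ⟨g, rfl⟩ := hβ1
      obtain ⟨μ, hμ⟩ := (hmem g).mp hβ2
      obtain ⟨a, ha0, ha⟩ := exists_fixed_mul hn1 σ g μ hμ
      have hent : ∀ s t, ∃ b : F₀, j b = (a • g.1) s t := by
        intro s t
        have h1 : σ ((a • g.1) s t) = (a • g.1) s t := by
          have := congrFun (congrFun ha s) t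
          rwa [Matrix.map_apply] at this
        obtain ⟨b, hb⟩ := (hj _).mp h1
        exact ⟨b, hb⟩
      choose M₀ hM₀ using hent
      have hM₀' : (Matrix.of M₀).map j = a • g.1 := by
        ext s t
        rw [Matrix.map_apply, Matrix.of_apply, hM₀]
      have hdet : (Matrix.of M₀).det ≠ 0 := by
        intro h0
        have h1 := RingHom.map_det j (Matrix.of M₀)
        have h2 : j.mapMatrix (Matrix.of M₀) = (Matrix.of M₀).map j := rfl
        rw [h2, hM₀', h0, map_zero, Matrix.det_smul] at h1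
        have h3 : g.1.det ≠ 0 := by
          have := (Matrix.GeneralLinearGroup.det g).ne_zero
          rwa [val_det] at this
        exact mul_ne_zero (pow_ne_zero _ ha0) h3 h1.symm
      refine ⟨Matrix.GeneralLinearGroup.mkOfDetNeZero (Matrix.of M₀) hdet, ?_⟩
      rw [hΨa, cA_apply, cA_apply]
      congr 2
      apply cP_eq_of_smul _ _ a
      rw [hval]
      exact hM₀'
  have hker : Ψ.ker = Subgroup.center (GL (Fin n) F₀) := by
    ext g₀
    rw [MonoidHom.mem_ker, hΨa, cA_apply]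
    have h1 : α⁻¹ * cP (Matrix.GeneralLinearGroup.map j g₀) * α = 1 ↔
        (cP (Matrix.GeneralLinearGroup.map j g₀) : MulAut PSLn) = 1 := by
      constructor
      · intro h
        calc (cP (Matrix.GeneralLinearGroup.map j g₀) : MulAut PSLn)
            = α * (α⁻¹ * cP (Matrix.GeneralLinearGroup.map j g₀) * α) * α⁻¹ := by group
          _ = 1 := by rw [h]; group
      · intro h
        rw [h]; group
    rw [h1, ← MonoidHom.mem_ker, cP_ker (card_fin_ge hn),
      Matrix.GeneralLinearGroup.mem_center_iff_val_mem_range_scalar,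
      Matrix.GeneralLinearGroup.mem_center_iff_val_mem_range_scalar, hval]
    constructor
    · rintro ⟨μ, hμ⟩
      let i0 : Fin n := ⟨0, by omega⟩
      refine ⟨g₀.1 i0 i0, ?_⟩
      have hμ0 : j (g₀.1 i0 i0) = μ := by
        have := congrFun (congrFun hμ i0) i0
        simp [Matrix.scalar_apply] at this
        exact this.symm
      ext s t
      apply hjinj
      have := congrFun (congrFun hμ s) t
      rw [Matrix.map_apply] at this
      rw [← this]
      simp only [Matrix.scalar_apply, Matrix.diagonal_apply]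
      by_cases hst : s = t
      · rw [if_pos hst, if_pos hst, hμ0]
      · rw [if_neg hst, if_neg hst, map_zero]
    · rintro ⟨μ₀, hμ₀⟩
      refine ⟨j μ₀, ?_⟩
      rw [← hμ₀]
      ext s t
      simp only [Matrix.scalar_apply, Matrix.diagonal_apply, Matrix.map_apply]
      by_cases hst : s = t
      · rw [if_pos hst, if_pos hst]
      · rw [if_neg hst, if_neg hst, map_zero]
  have e1 : GL (Fin n) F₀ ⧸ Ψ.ker ≃* ↥Ψ.range := QuotientGroup.quotientKerEquivRange Ψ
  have e2 : ↥Ψ.range ≃* ↥(Cfsg.inndiagPSL n F ⊓ Subgroup.centralizer {α⁻¹ * fP σ * α}) :=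
    MulEquiv.subgroupCongr hrange
  have e3 : GL (Fin n) F₀ ⧸ Subgroup.center (GL (Fin n) F₀) ≃* GL (Fin n) F₀ ⧸ Ψ.ker :=
    QuotientGroup.quotientMulEquivOfEq hker.symm
  have e4 : Matrix.ProjGenLinGroup (Fin n) F₀ ≃*
      GL (Fin n) F₀ ⧸ Subgroup.center (GL (Fin n) F₀) := MulEquiv.refl _
  exact ⟨(e4.trans (e3.trans (e1.trans e2))).symm⟩

end fin

end

end Cfsg.Agent.Lib.Helper16.FieldCentPSL
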