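import Mathlib
import Cfsg.Agent.Lib.Helper17.OrthSqD

set_option autoImplicit false
set_option linter.unusedSectionVars false
set_option linter.unusedVariables false

namespace Cfsg.Agent.Lib.Helper16.OrthClassify

open Matrix

variable {K : Type*} [Field K] {ι : Type} [Fintype ι] [DecidableEq ι]

theorem qf_single (B : Matrix ι ι K) (i : ι) :
    (Pi.single i (1 : K) : ι → K) ⬝ᵥ B *ᵥ (Pi.single i 1) = B i i := by
  rw [Matrix.mulVec_single_one, single_one_dotProduct]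
  rfl

theorem qf_single_add (B : Matrix ι ι K) (i j : ι) :
    ((Pi.single i (1 : K) : ι → K) + Pi.single j 1) ⬝ᵥ B *ᵥ (Pi.single i 1 + Pi.single j 1) =
      B i i + B i j + (B j i + B j j) := by
  rw [Matrix.mulVec_add, dotProduct_add, add_dotProduct, add_dotProduct,
    Matrix.mulVec_single_one, Matrix.mulVec_single_one, single_one_dotProduct,
    single_one_dotProduct, single_one_dotProduct, single_one_dotProduct]
  simp only [Matrix.col_apply]
  ring

/-- symmetric matrices with the same quadratic form are equal -/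
theorem symm_ext (h2 : (2 : K) ≠ 0) (B C : Matrix ι ι K) (hB : B.IsSymm) (hC : C.IsSymm)
    (h : ∀ x : ι → K, x ⬝ᵥ B *ᵥ x = x ⬝ᵥ C *ᵥ x) : B = C := by
  have hii : ∀ i, B i i = C i i := by
    intro i
    have := h (Pi.single i 1)
    rwa [qf_single, qf_single] at this
  ext i j
  have hij := h (Pi.single i 1 + Pi.single j 1)
  rw [qf_single_add, qf_single_add, hii i, hii j] at hij
  have hBji : B j i = B i j := hB.apply i j
  have hCji : C j i = C i j := hC.apply i j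
  rw [hBji, hCji] at hij
  have : 2 * (B i j - C i j) = 0 := by linear_combination hij
  rcases mul_eq_zero.mp this with h | h
  · exact absurd h h2
  · exact sub_eq_zero.mp h

theorem toQF_apply (B : Matrix ι ι K) (x : ι → K) : B.toQuadraticForm' x = x ⬝ᵥ B *ᵥ x := by
  unfold Matrix.toQuadraticForm'
  rw [LinearMap.BilinMap.toQuadraticMap_apply, Matrix.toLinearMap₂'_apply']

theorem symm_swap (B : Matrix ι ι K) (hB : B.IsSymm) (x y : ι → K) :
    y ⬝ᵥ B *ᵥ x = x ⬝ᵥ B *ᵥ y := by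
  rw [Matrix.dotProduct_mulVec, ← Matrix.mulVec_transpose, hB.eq, dotProduct_comm]

theorem polar_toQF (B : Matrix ι ι K) (hB : B.IsSymm) (x y : ι → K) :
    QuadraticMap.polar ⇑B.toQuadraticForm' x y = 2 * (x ⬝ᵥ B *ᵥ y) := by
  unfold QuadraticMap.polar
  rw [toQF_apply, toQF_apply, toQF_apply, Matrix.mulVec_add, dotProduct_add, add_dotProduct,
    add_dotProduct, symm_swap B hB x y]
  ring

theorem nondeg_toQF (h2 : (2 : K) ≠ 0) (B : Matrix ι ι K) (hB : B.IsSymm) (hdet : B.det ≠ 0) :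
    (QuadraticMap.polarBilin B.toQuadraticForm').Nondegenerate := by
  have hnd := Matrix.nondegenerate_of_det_ne_zero hdet
  constructor
  · intro x hx
    apply hnd.eq_zero_of_ortho
    intro y
    have := hx y
    rw [QuadraticMap.polarBilin_apply_apply, polar_toQF B hB] at this
    exact (mul_eq_zero.mp this).resolve_left h2
  · intro y hy
    apply hnd.eq_zero_of_ortho'
    intro x
    have := hy x
    rw [QuadraticMap.polarBilin_apply_apply, polar_toQF B hB] at this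
    exact (mul_eq_zero.mp this).resolve_left h2

theorem qf_congr (M D : Matrix ι ι K) (w : ι → K) :
    w ⬝ᵥ (Mᵀ * D * M) *ᵥ w = (M *ᵥ w) ⬝ᵥ D *ᵥ (M *ᵥ w) := by
  rw [Matrix.mul_assoc, ← Matrix.mulVec_mulVec, ← Matrix.mulVec_mulVec, Matrix.dotProduct_mulVec,
    Matrix.vecMul_transpose]

open Cfsg.Agent.Lib.Helper17.OrthSq in
theorem symm_congr_one [Finite K] (h2 : (2 : K) ≠ 0) (n : ℕ) (hn : Fintype.card ι = n + 1)
    (B : Matrix ι ι K) (hB : B.IsSymm) (hdet : B.det ≠ 0) (hsq : IsSquare B.det) :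
    ∃ k : Matrix ι ι K, k.det ≠ 0 ∧ kᵀ * B * k = 1 := by
  classical
  have hchar : ringChar K ≠ 2 := by
    intro h
    apply h2
    have := CharP.cast_eq_zero K (ringChar K)
    rw [h] at this
    exact_mod_cast this
  obtain ⟨α, hα⟩ := FiniteField.exists_nonsquare hchar
  obtain ⟨L, d, hd, hL⟩ := exists_diag h2 B.toQuadraticForm' (nondeg_toQF h2 B hB hdet) n hn α hα
  let e : ι ≃ Fin (n + 1) := Fintype.equivFinOfCardEq hn
  obtain ⟨L', hL'⟩ : ∃ L' : (ι → K) →ₗ[K] (ι → K),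
      L' = (LinearMap.funLeft K K e) ∘ₗ L.toLinearMap := ⟨_, rfl⟩
  have hL'a : ∀ w i, L' w i = L w (e i) := by
    intro w i
    rw [hL']
    rfl
  obtain ⟨M, hM⟩ : ∃ M : Matrix ι ι K, M = LinearMap.toMatrix' L' := ⟨_, rfl⟩
  have hMv : ∀ w i, (M *ᵥ w) i = L w (e i) := by
    intro w i
    rw [hM, LinearMap.toMatrix'_mulVec, hL'a]
  obtain ⟨c, hc⟩ : ∃ c : ι → K, c = fun i => cd n d (e i) := ⟨_, rfl⟩
  have hBM : B = Mᵀ * Matrix.diagonal c * M := by
    apply symm_ext h2 _ _ hB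
    · rw [Matrix.IsSymm, Matrix.transpose_mul, Matrix.transpose_mul, Matrix.transpose_transpose,
        Matrix.diagonal_transpose, Matrix.mul_assoc]
    · intro w
      rw [← toQF_apply, ← hL w, wsq_apply, qf_congr]
      simp only [dotProduct, Matrix.mulVec_diagonal]
      rw [← Equiv.sum_comp e]
      apply Finset.sum_congr rfl
      intro i _
      rw [hMv, hc]
      ring
  have hprod : ∏ i, c i = d := by
    rw [hc, Equiv.prod_comp e (fun i' => cd n d i')]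
    unfold cd
    rw [Finset.prod_ite_eq' Finset.univ (Fin.last n) (fun _ => d)]
    simp
  have hdetB : B.det = M.det * M.det * d := by
    conv_lhs => rw [hBM]
    rw [Matrix.det_mul, Matrix.det_mul, Matrix.det_transpose, Matrix.det_diagonal, hprod]
    ring
  have hM0 : M.det ≠ 0 := by
    intro h0
    rw [hdetB, h0, zero_mul, zero_mul] at hdet
    exact hdet rfl
  rcases hd with hd1 | hdα
  · have hc1 : c = fun _ => 1 := by
      rw [hc, hd1]
      funext i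
      unfold cd
      split_ifs <;> rfl
    have hD1 : Matrix.diagonal c = 1 := by
      rw [hc1]
      exact Matrix.diagonal_one
    rw [hD1, Matrix.mul_one] at hBM
    have hu : IsUnit M.det := isUnit_iff_ne_zero.mpr hM0
    refine ⟨M⁻¹, ?_, ?_⟩
    · intro h0
      have h1 : M * M⁻¹ = 1 := Matrix.mul_nonsing_inv _ hu
      have h2' := congrArg Matrix.det h1
      rw [Matrix.det_mul, h0, mul_zero, Matrix.det_one] at h2'
      exact zero_ne_one h2'
    · rw [hBM, Matrix.transpose_nonsing_inv]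
      calc (Mᵀ)⁻¹ * (Mᵀ * M) * M⁻¹ = ((Mᵀ)⁻¹ * Mᵀ) * (M * M⁻¹) := by
            simp only [Matrix.mul_assoc]
        _ = 1 := by
            rw [Matrix.nonsing_inv_mul _ (by rw [Matrix.det_transpose]; exact hu),
              Matrix.mul_nonsing_inv _ hu, Matrix.mul_one]
  · exfalso
    apply hα
    obtain ⟨s, hs⟩ := hsq
    refine ⟨s / M.det, ?_⟩
    rw [hdα] at hdetB
    field_simp
    rw [hdetB] at hs
    linear_combination hs

theorem symm_similar_odd [Finite K] (h2 : (2 : K) ≠ 0) (hodd : Odd (Fintype.card ι))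
    (B₁ B₂ : Matrix ι ι K) (h₁ : B₁.IsSymm) (h₂ : B₂.IsSymm) (hd₁ : B₁.det ≠ 0)
    (hd₂ : B₂.det ≠ 0) :
    ∃ (k : Matrix ι ι K) (e : K), k.det ≠ 0 ∧ e ≠ 0 ∧ kᵀ * B₁ * k = e • B₂ := by
  obtain ⟨n', hn'⟩ := hodd
  have key : ∀ B : Matrix ι ι K, B.IsSymm → B.det ≠ 0 →
      ∃ k : Matrix ι ι K, k.det ≠ 0 ∧ kᵀ * B * k = B.det⁻¹ • (1 : Matrix ι ι K) := by
    intro B hB hdet
    have hdd : (B.det • B).det = B.det ^ (2 * n' + 1) * B.det := by
      rw [Matrix.det_smul, hn']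
    obtain ⟨k, hk, e⟩ := symm_congr_one h2 (2 * n') hn' (B.det • B)
      (by rw [Matrix.IsSymm, Matrix.transpose_smul, hB.eq])
      (by rw [hdd]; exact mul_ne_zero (pow_ne_zero _ hdet) hdet)
      ⟨B.det ^ (n' + 1), by rw [hdd]; ring⟩
    refine ⟨k, hk, ?_⟩
    rw [Matrix.mul_smul, Matrix.smul_mul] at e
    rw [← e, smul_smul, inv_mul_cancel₀ hdet, one_smul]
  obtain ⟨k₁, hk₁, e₁⟩ := key B₁ h₁ hd₁
  obtain ⟨k₂, hk₂, e₂⟩ := key B₂ h₂ hd₂
  have hu₂ : IsUnit k₂.det := isUnit_iff_ne_zero.mpr hk₂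
  have hu₂' : IsUnit k₂ᵀ.det := by rw [Matrix.det_transpose]; exact hu₂
  have hB₂ : B₂ = B₂.det⁻¹ • ((k₂ᵀ)⁻¹ * k₂⁻¹) := by
    calc B₂ = ((k₂ᵀ)⁻¹ * k₂ᵀ) * B₂ * (k₂ * k₂⁻¹) := by
          rw [Matrix.nonsing_inv_mul _ hu₂', Matrix.mul_nonsing_inv _ hu₂, Matrix.one_mul,
            Matrix.mul_one]
      _ = (k₂ᵀ)⁻¹ * (k₂ᵀ * B₂ * k₂) * k₂⁻¹ := by simp only [Matrix.mul_assoc]
      _ = B₂.det⁻¹ • ((k₂ᵀ)⁻¹ * k₂⁻¹) := by
          rw [e₂, Matrix.mul_smul, Matrix.mul_one, Matrix.smul_mul]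
  refine ⟨k₁ * k₂⁻¹, B₂.det / B₁.det, ?_, div_ne_zero hd₂ hd₁, ?_⟩
  · rw [Matrix.det_mul]
    apply mul_ne_zero hk₁
    intro h0
    have h1 : k₂ * k₂⁻¹ = 1 := Matrix.mul_nonsing_inv _ hu₂
    have h2' := congrArg Matrix.det h1
    rw [Matrix.det_mul, h0, mul_zero, Matrix.det_one] at h2'
    exact zero_ne_one h2'
  · rw [Matrix.transpose_mul, Matrix.transpose_nonsing_inv]
    calc (k₂ᵀ)⁻¹ * k₁ᵀ * B₁ * (k₁ * k₂⁻¹) = (k₂ᵀ)⁻¹ * (k₁ᵀ * B₁ * k₁) * k₂⁻¹ := by
          simp only [Matrix.mul_assoc]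
      _ = B₁.det⁻¹ • ((k₂ᵀ)⁻¹ * k₂⁻¹) := by
          rw [e₁, Matrix.mul_smul, Matrix.mul_one, Matrix.smul_mul]
      _ = (B₂.det / B₁.det) • (B₂.det⁻¹ • ((k₂ᵀ)⁻¹ * k₂⁻¹)) := by
          rw [smul_smul]
          congr 1
          field_simp
      _ = (B₂.det / B₁.det) • B₂ := by rw [← hB₂]

end Cfsg.Agent.Lib.Helper16.OrthClassify
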