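import Mathlib
import Cfsg.Agent.Lib.Helper16.OrthClassify
import Cfsg.Agent.Lib.Helper16.UnitaryDescent

set_option autoImplicit false
set_option linter.unusedSectionVars false
set_option linter.unusedVariables false
set_option linter.style.haveILetI false

namespace Cfsg.Agent.Lib.Helper16.OrthDescent

open Matrix Cfsg.Agent.Lib.Helper16.UnitaryDescent Cfsg.Agent.Lib.Helper16.OrthClassify

variable {F : Type*} [Field F] {ι : Type} [Fintype ι] [DecidableEq ι]

/-- a matrix with entries in a subfield, as a matrix over the subfield -/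
def toKm (K : Subfield F) (M : Matrix ι ι F) (h : ∀ i j, M i j ∈ K) : Matrix ι ι ↥K :=
  Matrix.of fun i j => ⟨M i j, h i j⟩

theorem toKm_map (K : Subfield F) (M : Matrix ι ι F) (h : ∀ i j, M i j ∈ K) :
    (toKm K M h).map K.subtype = M := by
  ext i j; rfl

theorem exists_fixed_smul (σ : RingAut F) (M : Matrix ι ι F) (hM : M ≠ 0) (κ : F)
    (h : M.map σ = κ • M) : ∃ c : F, c ≠ 0 ∧ (c • M).map σ = c • M := by
  obtain ⟨i, j, hij⟩ : ∃ i j, M i j ≠ 0 := by
    by_contra hcon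
    push Not at hcon
    exact hM (Matrix.ext hcon)
  have hent : ∀ s t, σ (M s t) = κ * M s t := fun s t => by
    have := congrFun (congrFun h s) t
    simpa using this
  have hκ : κ ≠ 0 := by
    intro h0
    have := hent i j
    rw [h0, zero_mul] at this
    exact hij ((map_eq_zero σ).mp this)
  refine ⟨(M i j)⁻¹, inv_ne_zero hij, ?_⟩
  ext s t
  simp only [Matrix.map_apply, Matrix.smul_apply, smul_eq_mul, map_mul, map_inv₀]
  rw [hent i j, hent s t]
  field_simp

theorem det_ne_zero_of_mul_eq_one (b b' : Matrix ι ι F) (h : b * b' = 1) : b.det ≠ 0 := by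
  intro h0
  have := congrArg Matrix.det h
  rw [Matrix.det_mul, h0, zero_mul, Matrix.det_one] at this
  exact zero_ne_one this

theorem go_descent [Finite F] (h2 : (2 : F) ≠ 0) (hodd : Odd (Fintype.card ι)) (σ : RingAut F)
    (A : Matrix ι ι F) (hAs : A.IsSymm) (hAσ : A.map σ = A) (hAdet : A.det ≠ 0)
    (g b b' : Matrix ι ι F) (ν : F) (hν : ν ≠ 0) (hg : gᵀ * A * g = ν • A) (hbb' : b * b' = 1)
    (μ : F) (hb : g * b.map σ = μ • b) :
    ∃ (h h' : Matrix ι ι F) (e : F), e ≠ 0 ∧ h * h' = 1 ∧ hᵀ * A * h = e • A ∧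
      g * h.map σ = μ • h := by
  obtain ⟨B, hB⟩ : ∃ B, B = bᵀ * A * b := ⟨_, rfl⟩
  have hBs : B.IsSymm := by
    rw [hB, Matrix.IsSymm, Matrix.transpose_mul, Matrix.transpose_mul, Matrix.transpose_transpose,
      hAs.eq, Matrix.mul_assoc]
  have hbdet : b.det ≠ 0 := det_ne_zero_of_mul_eq_one b b' hbb'
  have hBdet : B.det ≠ 0 := by
    rw [hB, Matrix.det_mul, Matrix.det_mul, Matrix.det_transpose]
    exact mul_ne_zero (mul_ne_zero hbdet hAdet) hbdet
  have hBσ : B.map σ = (b.map σ)ᵀ * A * b.map σ := by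
    rw [hB, Matrix.map_mul, Matrix.map_mul, hAσ, Matrix.transpose_map]
  have hσB : B.map σ = (μ * μ / ν) • B := by
    have h1 : (g * b.map σ)ᵀ * A * (g * b.map σ) = ν • B.map σ := by
      rw [hBσ, Matrix.transpose_mul]
      calc (b.map σ)ᵀ * gᵀ * A * (g * b.map σ) = (b.map σ)ᵀ * (gᵀ * A * g) * b.map σ := by
            simp only [Matrix.mul_assoc]
        _ = ν • ((b.map σ)ᵀ * A * b.map σ) := by
            rw [hg, Matrix.mul_smul, Matrix.smul_mul]
    have h2' : (g * b.map σ)ᵀ * A * (g * b.map σ) = (μ * μ) • B := by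
      rw [hb, Matrix.transpose_smul, Matrix.smul_mul, Matrix.smul_mul, Matrix.mul_smul, smul_smul, hB]
    rw [h1] at h2'
    calc B.map σ = ν⁻¹ • (ν • B.map σ) := by rw [smul_smul, inv_mul_cancel₀ hν, one_smul]
      _ = (μ * μ / ν) • B := by rw [h2', smul_smul]; congr 1; field_simp
  have hB0 : B ≠ 0 := by
    intro h0
    rw [h0] at hBdet
    haveI : Nonempty ι := by
      rw [← Fintype.card_pos_iff]
      exact hodd.pos
    rw [Matrix.det_zero] at hBdet
    exact hBdet rfl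
  obtain ⟨c, hc0, hcB⟩ := exists_fixed_smul σ B hB0 _ hσB
  have hB₀K : ∀ i j, (c • B) i j ∈ fixK σ := fun i j => congrFun (congrFun hcB i) j
  have hAK : ∀ i j, A i j ∈ fixK σ := fun i j => congrFun (congrFun hAσ i) j
  have hι : Function.Injective (fun M : Matrix ι ι ↥(fixK σ) => M.map (fixK σ).subtype) :=
    Matrix.map_injective Subtype.val_injective
  have h2K : (2 : ↥(fixK σ)) ≠ 0 := by
    intro h
    apply h2
    have := congrArg (fixK σ).subtype h
    rw [map_ofNat, map_zero] at this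
    exact this
  have hsymK : ∀ (M : Matrix ι ι F) (hM : ∀ i j, M i j ∈ fixK σ), M.IsSymm →
      (toKm (fixK σ) M hM).IsSymm := by
    intro M hM hs
    apply hι
    simp only
    rw [Matrix.transpose_map, toKm_map, hs.eq]
  have hdetK : ∀ (M : Matrix ι ι F) (hM : ∀ i j, M i j ∈ fixK σ), M.det ≠ 0 →
      (toKm (fixK σ) M hM).det ≠ 0 := by
    intro M hM hd h0
    apply hd
    have h1 := RingHom.map_det (fixK σ).subtype (toKm (fixK σ) M hM)
    have h3 : (fixK σ).subtype.mapMatrix (toKm (fixK σ) M hM) =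
        (toKm (fixK σ) M hM).map (fixK σ).subtype := rfl
    rw [h3, toKm_map, h0, map_zero] at h1
    exact h1.symm
  have hcBs : (c • B).IsSymm := by rw [Matrix.IsSymm, Matrix.transpose_smul, hBs.eq]
  have hcBdet : (c • B).det ≠ 0 := by
    rw [Matrix.det_smul]
    exact mul_ne_zero (pow_ne_zero _ hc0) hBdet
  obtain ⟨k', e', hk', he', hkk⟩ := symm_similar_odd h2K hodd
    (toKm (fixK σ) (c • B) hB₀K) (toKm (fixK σ) A hAK)
    (hsymK _ _ hcBs) (hsymK _ _ hAs) (hdetK _ _ hcBdet) (hdetK _ _ hAdet)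
  have hone : (1 : Matrix ι ι ↥(fixK σ)).map (fixK σ).subtype = 1 :=
    Matrix.map_one _ (map_zero _) (map_one _)
  obtain ⟨k, hk⟩ : ∃ k, k = k'.map (fixK σ).subtype := ⟨_, rfl⟩
  obtain ⟨kinv, hkinv⟩ : ∃ kinv, kinv = (k'⁻¹).map (fixK σ).subtype := ⟨_, rfl⟩
  have hkk1 : k * kinv = 1 := by
    rw [hk, hkinv, ← Matrix.map_mul, Matrix.mul_nonsing_inv _ (isUnit_iff_ne_zero.mpr hk'), hone]
  have hkσ : k.map σ = k := by
    rw [hk]
    ext i j
    exact (k' i j).2
  have hkk' : kᵀ * (c • B) * k = (e' : F) • A := by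
    have h1 : (k'ᵀ * toKm (fixK σ) (c • B) hB₀K * k').map (fixK σ).subtype =
        (e' • toKm (fixK σ) A hAK).map (fixK σ).subtype := by rw [hkk]
    rw [Matrix.map_mul, Matrix.map_mul, Matrix.transpose_map, toKm_map, ← hk] at h1
    rw [h1]
    ext i j
    rfl
  have he0 : (e' : F) ≠ 0 := fun h => he' (Subtype.ext h)
  refine ⟨b * k, kinv * b', c⁻¹ * (e' : F), mul_ne_zero (inv_ne_zero hc0) he0, ?_, ?_, ?_⟩
  · calc b * k * (kinv * b') = b * (k * kinv) * b' := by simp only [Matrix.mul_assoc]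
      _ = 1 := by rw [hkk1, Matrix.mul_one, hbb']
  · rw [Matrix.transpose_mul]
    calc kᵀ * bᵀ * A * (b * k) = kᵀ * (bᵀ * A * b) * k := by simp only [Matrix.mul_assoc]
      _ = c⁻¹ • (kᵀ * (c • B) * k) := by
          rw [Matrix.mul_smul, Matrix.smul_mul, smul_smul, inv_mul_cancel₀ hc0, one_smul, hB]
      _ = (c⁻¹ * (e' : F)) • A := by rw [hkk', smul_smul]
  · rw [Matrix.map_mul, hkσ, ← Matrix.mul_assoc, hb, Matrix.smul_mul]

end Cfsg.Agent.Lib.Helper16.OrthDescent
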