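import Mathlib
import Cfsg.Agent.Lib.Helper16.OrthDescent
import Cfsg.Agent.Lib.Helper16.H90GL
import Cfsg.Agent.Lib.Helper6.AutOrt25

set_option autoImplicit false
set_option linter.unusedSectionVars false
set_option linter.unusedVariables false
set_option linter.style.haveILetI false

namespace Cfsg.Agent.Lib.Helper16.FieldCosetOrth

open Matrix Cfsg QuadraticMap Cfsg.Agent.Lib.Helper6 Cfsg.Agent.Lib.Helper6.AutOrt
  Cfsg.Agent.Lib.Helper16.H90GL Cfsg.Agent.Lib.Helper16.OrthClassify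
  Cfsg.Agent.Lib.Helper16.OrthDescent
open Cfsg.Agent.Lib.Helper6.AutPSL (sG sG_val gl_mul_inv gl_inv_mul)

/-- the coset criterion from the core statement, in an abstract group -/
theorem coset_iff {X : Type*} [Group X] (N : Subgroup X) [hN : N.Normal] (x φ α δ : X) (r : ℕ)
    (hxr : orderOf x = r) (e : α * x * α⁻¹ = φ) (hδ : δ ∈ N)
    (core : ∀ d ∈ N, orderOf (d * φ) = r → ∃ h ∈ N, d * φ = h * φ * h⁻¹) :
    orderOf (δ * x) = r ↔ Cfsg.IsConjUnder N x (δ * x) := by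
  constructor
  · intro hord
    have hd : α * δ * α⁻¹ ∈ N := hN.conj_mem δ hδ α
    have e2 : α * δ * α⁻¹ * φ = α * (δ * x) * α⁻¹ := by rw [← e]; group
    have hord' : orderOf (α * δ * α⁻¹ * φ) = r := by
      rw [e2]
      have : α * (δ * x) * α⁻¹ = MulAut.conj α (δ * x) := rfl
      rw [this, MulEquiv.orderOf_eq, hord]
    obtain ⟨h, hh, hh'⟩ := core _ hd hord'
    refine ⟨α⁻¹ * h * α, ?_, ?_⟩
    · have := hN.conj_mem h hh α⁻¹
      rwa [inv_inv] at this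
    · have e3 : δ * x = α⁻¹ * (α * δ * α⁻¹ * φ) * α := by rw [e2]; group
      rw [e3, hh', ← e]
      group
  · rintro ⟨h, -, e'⟩
    rw [e']
    have : h * x * h⁻¹ = MulAut.conj h x := rfl
    rw [this, MulEquiv.orderOf_eq, hxr]

variable {F : Type*} [Field F] {ι : Type} [Fintype ι] [DecidableEq ι]

section gram
variable {Q : QuadraticForm F (ι → F)} (h2 : (2 : F) ≠ 0) (A : Matrix ι ι F) (hAs : A.IsSymm)
  (hA : ∀ x, Q x = x ⬝ᵥ A *ᵥ x)

include hAs hA in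
theorem polar_gram (x y : ι → F) : polar (⇑Q) x y = 2 * (x ⬝ᵥ A *ᵥ y) := by
  unfold polar
  rw [hA, hA, hA, Matrix.mulVec_add, dotProduct_add, add_dotProduct, add_dotProduct,
    symm_swap A hAs x y]
  ring

include h2 hAs hA in
theorem gram_det_ne_zero (hnd : (polarBilin Q).Nondegenerate) : A.det ≠ 0 := by
  intro h0
  obtain ⟨y, hy0, hy⟩ := Matrix.exists_mulVec_eq_zero_iff.mpr h0
  apply hy0
  apply hnd.2 y
  intro x
  rw [polarBilin_apply_apply, polar_gram A hAs hA, hy, dotProduct_zero, mul_zero]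

include h2 hAs hA in
theorem gram_map (σ : RingAut F) (hσQ : ∀ x : ι → F, Q (fun i => σ (x i)) = σ (Q x)) :
    A.map σ = A := by
  apply symm_ext h2 _ _ _ hAs
  · intro y
    obtain ⟨x, rfl⟩ : ∃ x : ι → F, y = fun i => σ (x i) :=
      ⟨fun i => σ.symm (y i), by funext i; simp⟩
    have h1 : (fun i => σ (x i)) ⬝ᵥ A.map σ *ᵥ (fun i => σ (x i)) = σ (x ⬝ᵥ A *ᵥ x) := by
      have e1 := RingHom.map_dotProduct (σ : F →+* F) x (A *ᵥ x)
      have e2 : (⇑(σ : F →+* F) ∘ (A *ᵥ x)) = A.map σ *ᵥ (fun i => σ (x i)) := by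
        funext i
        exact RingHom.map_mulVec (σ : F →+* F) A x i
      rw [e2] at e1
      exact e1.symm
    rw [h1, ← hA, ← hσQ, hA]
  · rw [Matrix.IsSymm, ← Matrix.transpose_map, hAs.eq]

include h2 hAs hA in
theorem sim_iff_gram (M : Matrix ι ι F) (ν : F) :
    (∀ x, Q (M *ᵥ x) = ν * Q x) ↔ Mᵀ * A * M = ν • A := by
  constructor
  · intro h
    apply symm_ext h2
    · rw [Matrix.IsSymm, Matrix.transpose_mul, Matrix.transpose_mul, Matrix.transpose_transpose,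
        hAs.eq, Matrix.mul_assoc]
    · rw [Matrix.IsSymm, Matrix.transpose_smul, hAs.eq]
    · intro x
      rw [qf_congr, ← hA, h, hA, Matrix.smul_mulVec, dotProduct_smul, smul_eq_mul]
  · intro h x
    rw [hA, ← qf_congr, h, Matrix.smul_mulVec, dotProduct_smul, smul_eq_mul, ← hA]

end gram

section semi
variable [Fintype F] {Q : QuadraticForm F (ι → F)} [hS : Std Q]

/-- powers of a semilinear similarity -/
noncomputable def powS (Ψ : SemiSimO Q) : ℕ → SemiSimO Q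
  | 0 => SemiSimO.one Q
  | k + 1 => Ψ.comp (powS Ψ k)

theorem gam_powS (Ψ : SemiSimO Q) (k : ℕ) : (powS Ψ k).gam = Ψ.gam ^ k := by
  induction k with
  | zero => rw [pow_zero]; exact SemiSimO.gam_one
  | succ k ih => rw [pow_succ', ← ih]; exact SemiSimO.gam_comp Ψ (powS Ψ k)

theorem powS_S (Δ Fσ : SemiSimO Q) (σ : RingAut F) (hΔ : Δ.σ = RingEquiv.refl F)
    (hFS : ∀ x, Fσ.S x = fun i => σ (x i)) (G : GL ι F) (hG : G.1 = Δ.mat) (k : ℕ)
    (x : ι → F) :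
    (powS (Δ.comp Fσ) k).S x = (Nrm σ G k).1 *ᵥ (fun i => (σ ^ k) (x i)) := by
  induction k generalizing x with
  | zero =>
    change x = (1 : Matrix ι ι F) *ᵥ _
    rw [Matrix.one_mulVec]
    rfl
  | succ k ih =>
    change Δ.S (Fσ.S ((powS (Δ.comp Fσ) k).S x)) = _
    rw [ih, hFS, ← SemiSimO.mat_mulVec_of_refl Δ hΔ, ← hG, Nrm_succ, Units.val_mul, sG_val,
      ← Matrix.mulVec_mulVec]
    congr 1
    have h1 := map_mulVec_apply' σ (Nrm σ G k).1 (fun i => (σ ^ k) (x i))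
    rw [← h1]
    congr 1
    funext i
    rw [pow_succ']
    rfl

/-- semilinear similarities differing by a scalar induce the same automorphism -/
theorem gam_eq_of_S_smul (Φ Ψ : SemiSimO Q) (μ : F) (hμ : μ ≠ 0)
    (h : ∀ x, Φ.S x = μ • Ψ.S x) : Φ.gam = Ψ.gam := by
  have h1 : Φ.gam = ((SemiSimO.scal (Q := Q) μ hμ).comp Ψ).gam := by
    apply SemiSimO.gam_eq_of_S_eq
    intro x
    rw [h x]
    rfl
  rw [h1, SemiSimO.gam_comp, SemiSimO.gam_scal, one_mul]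

/-- the linear similarity of a matrix -/
def linSim (h : Matrix ι ι F) (e : F) (he : e ≠ 0) (hh : ∀ x, Q (h *ᵥ x) = e * Q x) :
    SemiSimO Q where
  S x := h *ᵥ x
  σ := RingEquiv.refl F
  ν := e
  hν := he
  add x y := Matrix.mulVec_add h x y
  smul a x := Matrix.mulVec_smul h a x
  form x := hh x

theorem core_orth (p : ℕ) [hp : Fact p.Prime] [hcp : CharP F p] (h2 : (2 : F) ≠ 0)
    (hodd : Odd (Fintype.card ι)) (A : Matrix ι ι F) (hAs : A.IsSymm)
    (hA : ∀ x, Q x = x ⬝ᵥ A *ᵥ x) (σ : RingAut F) (r : ℕ) (hr : orderOf σ = r) (hr0 : 0 < r)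
    (Fσ : SemiSimO Q) (hFS : ∀ x, Fσ.S x = fun i => σ (x i)) (hFν : Fσ.ν = 1) (hFσ : Fσ.σ = σ)
    (Δ : SemiSimO Q) (hΔ : Δ.σ = RingEquiv.refl F) (hpow : (Δ.gam * Fσ.gam) ^ r = 1) :
    ∃ H : SemiSimO Q, H.σ = RingEquiv.refl F ∧
      Δ.gam * Fσ.gam = H.gam * Fσ.gam * H.gam⁻¹ := by
  haveI : Nonempty ι := by
    rw [← Fintype.card_pos_iff]
    exact hodd.pos
  have hσr : σ ^ r = 1 := by rw [← hr]; exact pow_orderOf_eq_one σ
  have hσQ : ∀ x : ι → F, Q (fun i => σ (x i)) = σ (Q x) := by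
    intro x
    have := Fσ.form x
    rw [hFS, hFν, one_mul, hFσ] at this
    exact this
  have hAσ := gram_map h2 A hAs hA σ hσQ
  have hAdet := gram_det_ne_zero h2 A hAs hA hS.nondeg
  obtain ⟨G, hG⟩ : ∃ G : GL ι F, G.1 = Δ.mat := ⟨Δ.gl, Δ.gl_val⟩
  have hgam : (powS (Δ.comp Fσ) r).gam = 1 := by rw [gam_powS, SemiSimO.gam_comp, hpow]
  obtain ⟨-, c, hc⟩ := scalar_of_gam_eq_one p _ hgam
  have hN : (Nrm σ G r).1 = c • (1 : Matrix ι ι F) := by
    apply matrix_ext_mulVec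
    intro x
    have := powS_S Δ Fσ σ hΔ hFS G hG r x
    rw [hσr] at this
    rw [Matrix.smul_mulVec, Matrix.one_mulVec, ← hc x, this]
    rfl
  have hc0 : c ≠ 0 := by
    intro h0
    have h1 := gl_mul_inv (Nrm σ G r)
    rw [hN, h0, zero_smul, Matrix.zero_mul] at h1
    have i0 : ι := Classical.arbitrary ι
    have := congrFun (congrFun h1 i0) i0
    simp at this
  have hcen : Nrm σ G r ∈ Subgroup.center (GL ι F) := by
    rw [Matrix.GeneralLinearGroup.mem_center_iff_val_mem_range_scalar]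
    exact ⟨c, by rw [Cfsg.Agent.Lib.Helper16.FieldCoset.scalar_eq_smul_one, hN]⟩
  have hσc : σ c = c := by
    have h1 := congrArg Units.val (Nrm_fixed σ r hσr G hcen)
    rw [sG_val, hN] at h1
    have i0 : ι := Classical.arbitrary ι
    have := congrFun (congrFun h1 i0) i0
    simpa using this
  obtain ⟨μ, hμ0, hμN⟩ := nrmF_surj σ r hr hr0 c hc0 hσc
  obtain ⟨b, hb⟩ := descent σ r hr hr0 G μ hμ0 (by rw [hμN, hN])
  have hg : (Δ.mat)ᵀ * A * Δ.mat = Δ.ν • A := by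
    rw [← sim_iff_gram h2 A hAs hA]
    intro x
    rw [SemiSimO.mat_mulVec_of_refl Δ hΔ, Δ.form, hΔ]
    rfl
  rw [hG] at hb
  obtain ⟨h, h', e, he0, hhh', hhA, hgh⟩ := go_descent h2 hodd σ A hAs hAσ hAdet Δ.mat b.1 (b⁻¹).1
    Δ.ν Δ.hν hg (gl_mul_inv b) μ hb
  have hhQ : ∀ x, Q (h *ᵥ x) = e * Q x := (sim_iff_gram h2 A hAs hA h e).mpr hhA
  refine ⟨linSim h e he0 hhQ, rfl, ?_⟩
  rw [eq_mul_inv_iff_mul_eq, ← SemiSimO.gam_comp, ← SemiSimO.gam_comp, ← SemiSimO.gam_comp]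
  apply gam_eq_of_S_smul _ _ μ hμ0
  intro x
  change Δ.S (Fσ.S (h *ᵥ x)) = μ • (h *ᵥ (Fσ.S x))
  rw [hFS, hFS, ← SemiSimO.mat_mulVec_of_refl Δ hΔ, ← map_mulVec_apply' σ h x, Matrix.mulVec_mulVec,
    hgh, Matrix.smul_mulVec]

end semi

end Cfsg.Agent.Lib.Helper16.FieldCosetOrth
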