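import Mathlib
import Cfsg.Agent.Lib.Helper16.FieldCosetOrth
import Cfsg.Agent.Lib.Helper6.AutOrt19

set_option autoImplicit false
set_option linter.unusedSectionVars false
set_option linter.unusedVariables false
set_option linter.style.haveILetI false

namespace Cfsg.Agent.Lib.Helper16.FieldCosetOmegaOdd

open Matrix Cfsg QuadraticMap Cfsg.Agent.Lib.Helper6 Cfsg.Agent.Lib.Helper6.AutOrt
  Cfsg.Agent.Lib.Helper16.H90GL Cfsg.Agent.Lib.Helper16.OrthClassify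
  Cfsg.Agent.Lib.Helper16.OrthDescent Cfsg.Agent.Lib.Helper16.FieldCosetOrth

variable {F : Type*} [Field F] {ι : Type} [Fintype ι] [DecidableEq ι]

theorem exists_gram (h2 : (2 : F) ≠ 0) (Q : QuadraticForm F (ι → F)) :
    ∃ A : Matrix ι ι F, A.IsSymm ∧ ∀ x, Q x = x ⬝ᵥ A *ᵥ x := by
  letI : Invertible (2 : F) := invertibleOfNonzero h2
  refine ⟨Q.toMatrix', Q.isSymm_toMatrix', fun x => ?_⟩
  rw [← Matrix.toLinearMap₂'_apply', QuadraticForm.toMatrix', Matrix.toLinearMap₂'_toMatrix',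
    QuadraticMap.associated_eq_self_apply]

section
variable [Fintype F] {Q : QuadraticForm F (ι → F)} [hS : Std Q]

/-- a standard field automorphism is induced by the field semisimilarity -/
theorem eq_gam_of_isFieldAut (σ : F ≃+* F) (Fσ : SemiSimO Q)
    (hFS : ∀ x, Fσ.S x = fun i => σ (x i)) (hFσ : Fσ.σ = σ)
    (φ : MulAut (Cfsg.POmega F ⇑Q)) (hφ : Cfsg.IsFieldAutPOmegaOf (⇑Q) σ φ) : φ = Fσ.gam := by
  have hpair : Cfsg.IsSemisimilarityPair (⇑Q) (1 : GL ι F) σ := by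
    refine ⟨Units.mk0 Fσ.ν Fσ.hν, fun v => ?_⟩
    rw [Units.val_one, Matrix.one_mulVec, Units.val_mk0, ← hFσ]
    have := Fσ.form v
    rw [hFS, hFσ] at this
    rw [hFσ]
    exact this
  have hind : Cfsg.IsInducedBySemilinearPOmega (⇑Q) (1 : GL ι F) σ φ := by
    intro s s' h
    apply hφ s s'
    rw [h, inv_one, Units.val_one, Matrix.one_mul, Matrix.mul_one]
  rw [SemiSimO.eq_gam_of_induced 1 σ hpair φ hind]
  apply SemiSimO.gam_eq_of_S_eq
  intro x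
  rw [SemiSimO.ofPair_S, hFS, Units.val_one, Matrix.one_mulVec]

end

section coset
variable [Fintype F] {Q : QuadraticForm F (ι → F)} [hS : Std Q]

theorem coset_orth (p : ℕ) [hp : Fact p.Prime] [hcp : CharP F p] (hP : HP Q) (h2 : (2 : F) ≠ 0)
    (hodd : Odd (Fintype.card ι)) (fld : (σ : F ≃+* F) → SemiSimO Q)
    (hfS : ∀ σ x, (fld σ).S x = fun i => σ (x i)) (hfσ : ∀ σ, (fld σ).σ = σ)
    (hfν : ∀ σ, (fld σ).ν = 1)
    (x δ : MulAut (Cfsg.POmega F ⇑Q)) (hx : Cfsg.IsFieldAutClassPOmega (⇑Q) x) {r : ℕ}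
    (hr : r.Prime) (hxr : orderOf x = r) (hδ : δ ∈ Cfsg.pgoAut F ⇑Q) :
    orderOf (δ * x) = r ↔ Cfsg.IsConjUnder (Cfsg.pgoAut F ⇑Q) x (δ * x) := by
  obtain ⟨α, φ, σ, hσ1, hφ, e⟩ := hx
  have eφ := eq_gam_of_isFieldAut σ (fld σ) (hfS σ) (hfσ σ) φ hφ
  haveI hN : (Cfsg.pgoAut F ⇑Q).Normal := by
    rw [← psiO_ker p hP]
    infer_instance
  have hordφ : orderOf φ = r := by
    rw [← e]
    have : α * x * α⁻¹ = MulAut.conj α x := rfl
    rw [this, MulEquiv.orderOf_eq, hxr]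
  have hψφ : psiO p hP φ = σ := by rw [eφ, psiO_gam, hfσ]
  have hσr : orderOf σ = r := by
    have h1 : σ ^ r = 1 := by
      rw [← hψφ, ← map_pow, ← hordφ, pow_orderOf_eq_one, map_one]
    have h2' := orderOf_dvd_of_pow_eq_one h1
    rcases (Nat.dvd_prime hr).mp h2' with h3 | h3
    · exfalso
      apply hσ1
      exact orderOf_eq_one_iff.mp h3
    · exact h3
  apply coset_iff (Cfsg.pgoAut F ⇑Q) x φ α δ r hxr e hδ
  intro d hd hord
  rw [← psiO_ker p hP, MonoidHom.mem_ker] at hd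
  obtain ⟨Δ, rfl⟩ := exists_semi p hP d
  rw [psiO_gam] at hd
  have hpow : (Δ.gam * (fld σ).gam) ^ r = 1 := by
    rw [← eφ, ← hord]
    exact pow_orderOf_eq_one _
  obtain ⟨A, hAs, hA⟩ := exists_gram h2 Q
  obtain ⟨H, hHσ, hH⟩ := core_orth p h2 hodd A hAs hA σ r hσr hr.pos (fld σ) (hfS σ) (hfν σ)
    (hfσ σ) Δ hd hpow
  refine ⟨H.gam, ?_, ?_⟩
  · rw [← psiO_ker p hP, MonoidHom.mem_ker, psiO_gam, hHσ]
    rfl
  · rw [eφ]
    exact hH

end coset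

theorem coset_odd [Fintype F] (hodd : Odd (Fintype.card F)) {m : ℕ} (hm : 3 ≤ m)
    (Qf : (Unit ⊕ (Fin m ⊕ Fin m) → F) → F) (hQf : Qf = ⇑(QOdd F m))
    (x δ : MulAut (Cfsg.POmega F Qf)) (hx : Cfsg.IsFieldAutClassPOmega Qf x) {r : ℕ}
    (hr : r.Prime) (hxr : orderOf x = r) (hδ : δ ∈ Cfsg.pgoAut F Qf) :
    orderOf (δ * x) = r ↔ Cfsg.IsConjUnder (Cfsg.pgoAut F Qf) x (δ * x) := by
  subst hQf
  have h2 := two_ne_zero_of_odd hodd
  haveI := std_QOdd (F := F) h2 hm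
  have hP := HP_QOdd (F := F) h2 hm
  obtain ⟨p, hp, hcp⟩ := exists_char F
  haveI : Fact p.Prime := ⟨hp⟩
  exact coset_orth p hP h2 (by rw [card_II]; exact ⟨m, rfl⟩) (fun σ => fieldOdd F m σ)
    (fun σ x => rfl) (fun σ => rfl) (fun σ => rfl) x δ hx hr hxr hδ

end Cfsg.Agent.Lib.Helper16.FieldCosetOmegaOdd
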