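import Mathlib
import Cfsg.Agent.Lib.Helper16.FieldCosetOmegaOdd
import Cfsg.Agent.Lib.Helper16.SplitCount
import Cfsg.Agent.Lib.Helper16.FieldCentPSL

set_option autoImplicit false
set_option linter.unusedSectionVars false
set_option linter.unusedVariables false
set_option linter.style.haveILetI false

namespace Cfsg.Agent.Lib.Helper16.FieldCentOrth

open Matrix Cfsg QuadraticMap Cfsg.Agent.Lib.Helper6 Cfsg.Agent.Lib.Helper6.AutOrt
  Cfsg.Agent.Lib.Helper6.SimAut Cfsg.Agent.Lib.Helper6.AutInduced Cfsg.Agent.Lib.Helper6.OmegaAut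
  Cfsg.Agent.Lib.Helper16.H90GL Cfsg.Agent.Lib.Helper16.OrthClassify
  Cfsg.Agent.Lib.Helper16.OrthDescent Cfsg.Agent.Lib.Helper16.FieldCosetOrth
  Cfsg.Agent.Lib.Helper16.FieldCosetOmegaOdd Cfsg.Agent.Lib.Helper16.SplitCount
open Cfsg.Agent.Lib.Helper6.AutPSL (sG sG_val gl_mul_inv gl_inv_mul)
open Cfsg.Agent.Lib.Helper16.FieldCentPSL (mem_cent_comap)

variable {F : Type*} [Field F] [Fintype F] {ι : Type} [Fintype ι] [DecidableEq ι]

section
variable {Q : QuadraticForm F (ι → F)} [hS : Std Q]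

/-- the linear similarity of an element of the similarity group -/
noncomputable def simGO (g : ↥(GO Q)) : SemiSimO Q :=
  linSim (g.1 : Matrix ι ι F) (mulr Q g : F) (Units.ne_zero _) (mulr_spec Q g)

theorem simGO_S (g : ↥(GO Q)) (x : ι → F) : (simGO g).S x = (g.1 : Matrix ι ι F) *ᵥ x := rfl

theorem simGO_σ (g : ↥(GO Q)) : (simGO g).σ = RingEquiv.refl F := rfl

theorem fGO_eq_gam (g : ↥(GO Q)) : fGO Q g = (simGO g).gam := by
  have hpair : Cfsg.IsSemisimilarityPair (⇑Q) g.1 (RingEquiv.refl F) :=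
    ⟨mulr Q g, fun v => mulr_spec Q g v⟩
  have hind : Cfsg.IsInducedBySemilinearPOmega (⇑Q) g.1 (RingEquiv.refl F) (fGO Q g) :=
    (isInduced_iff (⇑Q) g.1 _).mpr
      ((isInd_iff _ ⟨g.1, GO_le_normalizer Q g.2⟩ _).mpr (fGO_apply Q g))
  rw [SemiSimO.eq_gam_of_induced g.1 _ hpair _ hind]
  apply SemiSimO.gam_eq_of_S_eq
  intro x
  rfl

theorem gl_ne_zero' [Nonempty ι] (g : GL ι F) : g.1 ≠ 0 := by
  intro h0
  have h1 := gl_mul_inv g
  rw [h0, Matrix.zero_mul] at h1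
  have i0 : ι := Classical.arbitrary ι
  have := congrFun (congrFun h1 i0) i0
  simp at this

theorem nonempty_idx (Q : QuadraticForm F (ι → F)) [hS : Std Q] : Nonempty ι := by
  rw [← Fintype.card_pos_iff]
  have := hS.seven
  omega

section charp
variable (p : ℕ) [hp : Fact p.Prime] [hcp : CharP F p]

include hp hcp in
theorem S_smul_of_gam_eq (Φ Ψ : SemiSimO Q) (h : Φ.gam = Ψ.gam) :
    ∃ μ : F, μ ≠ 0 ∧ ∀ x, Φ.S x = μ • Ψ.S x := by
  have h1 : (Ψ.symm.comp Φ).gam = 1 := by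
    rw [SemiSimO.gam_comp, SemiSimO.gam_symm, h, inv_mul_cancel]
  obtain ⟨-, c, hc⟩ := scalar_of_gam_eq_one p _ h1
  have hc' : ∀ x, Φ.S x = Ψ.σ c • Ψ.S x := by
    intro x
    have := hc x
    change Ψ.Sinv (Φ.S x) = c • x at this
    rw [← Ψ.smul, ← this, Ψ.S_Sinv]
  refine ⟨Ψ.σ c, ?_, hc'⟩
  intro h0
  obtain ⟨x, hx⟩ := SemiSimO.exists_Q_ne_zero (Q := Q)
  apply hx
  have h2 := hc' x
  rw [h0, zero_smul, ← Φ.S_zero] at h2
  rw [Φ.S_injective h2, map_zero]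

include hp hcp in
theorem comm_iff (σ : F ≃+* F) (Fσ : SemiSimO Q) (hFS : ∀ x, Fσ.S x = fun i => σ (x i))
    (g : ↥(GO Q)) :
    Fσ.gam * fGO Q g = fGO Q g * Fσ.gam ↔
      ∃ μ : F, (g.1 : Matrix ι ι F).map σ = μ • (g.1 : Matrix ι ι F) := by
  haveI := nonempty_idx Q
  rw [fGO_eq_gam, ← SemiSimO.gam_comp, ← SemiSimO.gam_comp]
  constructor
  · intro h
    obtain ⟨μ, hμ0, hμ⟩ := S_smul_of_gam_eq p _ _ h
    refine ⟨μ, ?_⟩
    apply matrix_ext_mulVec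
    intro y
    obtain ⟨x, rfl⟩ : ∃ x : ι → F, y = fun i => σ (x i) :=
      ⟨fun i => σ.symm (y i), by funext i; simp⟩
    have := hμ x
    change Fσ.S ((g.1 : Matrix ι ι F) *ᵥ x) = μ • ((g.1 : Matrix ι ι F) *ᵥ Fσ.S x) at this
    rw [hFS, hFS, ← map_mulVec_apply'] at this
    rw [this, Matrix.smul_mulVec]
  · rintro ⟨μ, hμ⟩
    have hμ0 : μ ≠ 0 := by
      intro h0
      rw [h0, zero_smul] at hμ
      apply gl_ne_zero' g.1
      ext i j
      have := congrFun (congrFun hμ i) j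
      rw [Matrix.map_apply, Matrix.zero_apply] at this
      rw [Matrix.zero_apply]
      exact (map_eq_zero σ).mp this
    apply gam_eq_of_S_smul _ _ μ hμ0
    intro x
    change Fσ.S ((g.1 : Matrix ι ι F) *ᵥ x) = μ • ((g.1 : Matrix ι ι F) *ᵥ Fσ.S x)
    rw [hFS, hFS, ← map_mulVec_apply', hμ, Matrix.smul_mulVec]

end charp

/-- conjugate of the inner-diagonal parametrisation -/
noncomputable def cA (α : MulAut (Cfsg.POmega F ⇑Q)) : ↥(GO Q) →* MulAut (Cfsg.POmega F ⇑Q) :=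
  (MulAut.conj α⁻¹).toMonoidHom.comp (fGO Q)

theorem cA_apply (α : MulAut (Cfsg.POmega F ⇑Q)) (g : ↥(GO Q)) :
    cA α g = α⁻¹ * fGO Q g * α := by
  change MulAut.conj α⁻¹ (fGO Q g) = _
  rw [MulAut.conj_apply, inv_inv]

section charp2
variable (p : ℕ) [hp : Fact p.Prime] [hcp : CharP F p]

include hp hcp in
theorem cA_comm_iff (α : MulAut (Cfsg.POmega F ⇑Q)) (σ : F ≃+* F) (Fσ : SemiSimO Q)
    (hFS : ∀ x, Fσ.S x = fun i => σ (x i)) (g : ↥(GO Q)) :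
    (α⁻¹ * Fσ.gam * α) * cA α g = cA α g * (α⁻¹ * Fσ.gam * α) ↔
      ∃ μ : F, (g.1 : Matrix ι ι F).map σ = μ • (g.1 : Matrix ι ι F) := by
  rw [← comm_iff p σ Fσ hFS g, cA_apply]
  constructor
  · intro h
    have : α * (α⁻¹ * Fσ.gam * α * (α⁻¹ * fGO Q g * α)) * α⁻¹ =
        α * (α⁻¹ * fGO Q g * α * (α⁻¹ * Fσ.gam * α)) * α⁻¹ := by rw [h]
    calc Fσ.gam * fGO Q g = α * (α⁻¹ * Fσ.gam * α * (α⁻¹ * fGO Q g * α)) * α⁻¹ := by group
      _ = α * (α⁻¹ * fGO Q g * α * (α⁻¹ * Fσ.gam * α)) * α⁻¹ := this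
      _ = fGO Q g * Fσ.gam := by group
  · intro h
    calc α⁻¹ * Fσ.gam * α * (α⁻¹ * fGO Q g * α) = α⁻¹ * (Fσ.gam * fGO Q g) * α := by group
      _ = α⁻¹ * (fGO Q g * Fσ.gam) * α := by rw [h]
      _ = α⁻¹ * fGO Q g * α * (α⁻¹ * Fσ.gam * α) := by group

include hp hcp in
theorem pgo_normal (hP : HP Q) : (Cfsg.pgoAut F ⇑Q).Normal := by
  rw [← psiO_ker p hP]
  infer_instance

include hp hcp in
theorem cA_range (hP : HP Q) (α : MulAut (Cfsg.POmega F ⇑Q)) :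
    (cA α).range = Cfsg.pgoAut F ⇑Q := by
  have hN := pgo_normal p hP
  ext β
  constructor
  · rintro ⟨g, rfl⟩
    rw [cA_apply]
    have hm : fGO Q g ∈ Cfsg.pgoAut F ⇑Q := by
      rw [pgoAut_eq_range]
      exact ⟨g, rfl⟩
    have := hN.conj_mem _ hm α⁻¹
    rwa [inv_inv] at this
  · intro hβ
    have h1 := hN.conj_mem _ hβ α
    rw [pgoAut_eq_range] at h1
    obtain ⟨g, hg⟩ := h1
    refine ⟨g, ?_⟩
    rw [cA_apply, hg]
    group

include hp hcp in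
theorem fGO_eq_one_iff' (g : ↥(GO Q)) :
    fGO Q g = 1 ↔ ∃ c : F, (g.1 : Matrix ι ι F) = c • (1 : Matrix ι ι F) := by
  rw [fGO_eq_gam]
  constructor
  · intro h
    obtain ⟨-, c, hc⟩ := scalar_of_gam_eq_one p _ h
    refine ⟨c, ?_⟩
    apply matrix_ext_mulVec
    intro x
    rw [Matrix.smul_mulVec, Matrix.one_mulVec, ← hc x]
    rfl
  · rintro ⟨c, hc⟩
    apply SemiSimO.gam_eq_one_of_smul _ c
    intro x
    rw [simGO_S, hc, Matrix.smul_mulVec, Matrix.one_mulVec]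

end charp2

theorem fGO_eq_of_smul (g g' : ↥(GO Q)) (a : F) (ha : a ≠ 0)
    (h : (g'.1 : Matrix ι ι F) = a • (g.1 : Matrix ι ι F)) : fGO Q g' = fGO Q g := by
  rw [fGO_eq_gam, fGO_eq_gam]
  apply gam_eq_of_S_smul _ _ a ha
  intro x
  rw [simGO_S, simGO_S, h, Matrix.smul_mulVec]

end

/-! ### The Gram matrix and base change -/

section gramP
variable {R : Type*} [Field R]

/-- the Gram matrix -/
noncomputable def gramP (Q : QuadraticForm R (ι → R)) : Matrix ι ι R :=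
  Matrix.of fun i j => 2⁻¹ * polar (⇑Q) (Pi.single i 1) (Pi.single j 1)

theorem gramP_symm (Q : QuadraticForm R (ι → R)) : (gramP Q).IsSymm := by
  ext i j
  unfold gramP
  rw [Matrix.transpose_apply, Matrix.of_apply, Matrix.of_apply, polar_comm]

theorem gramP_spec (h2 : (2 : R) ≠ 0) (Q : QuadraticForm R (ι → R)) (x : ι → R) :
    Q x = x ⬝ᵥ gramP Q *ᵥ x := by
  obtain ⟨A, hAs, hA⟩ := exists_gram h2 Q
  have : A = gramP Q := by
    ext i j
    have := polar_gram A hAs hA (Pi.single i 1) (Pi.single j 1)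
    rw [Matrix.mulVec_single_one, single_one_dotProduct] at this
    unfold gramP
    rw [Matrix.of_apply, this]
    change A i j = 2⁻¹ * (2 * A i j)
    field_simp
  rw [← this]
  exact hA x

end gramP

section basechange
variable {F₀ : Type*} [Field F₀] (j : F₀ →+* F) (Q₀ : QuadraticForm F₀ (ι → F₀))
  (Q : QuadraticForm F (ι → F)) (hjQ : ∀ v : ι → F₀, Q (fun i => j (v i)) = j (Q₀ v))

theorem single_map (i : ι) :
    (fun k => j ((Pi.single i (1 : F₀) : ι → F₀) k)) = (Pi.single i (1 : F) : ι → F) := by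
  funext k
  by_cases h : k = i
  · subst h; simp
  · simp [Pi.single_eq_of_ne h]

include hjQ in
theorem polar_map (u v : ι → F₀) :
    polar (⇑Q) (fun i => j (u i)) (fun i => j (v i)) = j (polar (⇑Q₀) u v) := by
  unfold polar
  rw [map_sub, map_sub, ← hjQ, ← hjQ, ← hjQ]
  congr 3
  funext i
  simp

include hjQ in
theorem gramP_map : (gramP Q₀).map j = gramP Q := by
  ext a b
  unfold gramP
  rw [Matrix.map_apply, Matrix.of_apply, Matrix.of_apply, map_mul, map_inv₀, map_ofNat,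
    ← polar_map j Q₀ Q hjQ, single_map, single_map]

include hjQ in
theorem map_mem_GO (h2 : (2 : F) ≠ 0) (g₀ : ↥(GO Q₀)) :
    Matrix.GeneralLinearGroup.map j g₀.1 ∈ GO Q := by
  have h2₀ : (2 : F₀) ≠ 0 := by
    intro h
    apply h2
    have := congrArg j h
    rwa [map_ofNat, map_zero] at this
  refine ⟨Units.map (j : F₀ →* F) (mulr Q₀ g₀), fun v => ?_⟩
  have h0 := (sim_iff_gram h2₀ (gramP Q₀) (gramP_symm Q₀) (gramP_spec h2₀ Q₀)
    (g₀.1 : Matrix ι ι F₀) (mulr Q₀ g₀ : F₀)).mp (mulr_spec Q₀ g₀)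
  have h1 : ((g₀.1 : Matrix ι ι F₀).map j)ᵀ * gramP Q * (g₀.1 : Matrix ι ι F₀).map j =
      j (mulr Q₀ g₀ : F₀) • gramP Q := by
    rw [← gramP_map j Q₀ Q hjQ, ← Matrix.transpose_map, ← Matrix.map_mul, ← Matrix.map_mul, h0]
    ext a b
    simp
  exact (sim_iff_gram h2 (gramP Q) (gramP_symm Q) (gramP_spec h2 Q) _ _).mpr h1 v

/-- base change of similarities -/
noncomputable def mapGO (h2 : (2 : F) ≠ 0) : ↥(GO Q₀) →* ↥(GO Q) :=
  MonoidHom.codRestrict ((Matrix.GeneralLinearGroup.map j).comp (GO Q₀).subtype) (GO Q)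
    (fun g₀ => map_mem_GO j Q₀ Q hjQ h2 g₀)

theorem mapGO_val (h2 : (2 : F) ≠ 0) (g₀ : ↥(GO Q₀)) :
    ((mapGO j Q₀ Q hjQ h2 g₀).1 : Matrix ι ι F) = (g₀.1 : Matrix ι ι F₀).map j := rfl

end basechange

section centiso
variable {F₀ : Type*} [Field F₀] [Fintype F₀] (j : F₀ →+* F) (Q₀ : QuadraticForm F₀ (ι → F₀))
  (Q : QuadraticForm F (ι → F)) [hS : Std Q] [hS₀ : Std Q₀]
  (hjQ : ∀ v : ι → F₀, Q (fun i => j (v i)) = j (Q₀ v))
  (p : ℕ) [hp : Fact p.Prime] [hcp : CharP F p] [hcp₀ : CharP F₀ p]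

include hjQ in
/-- a similarity which is fixed up to a scalar by `σ` descends, up to a scalar, to the fixed
field -/
theorem exists_descent (h2 : (2 : F) ≠ 0) (σ : F ≃+* F)
    (hj : ∀ a : F, σ a = a ↔ a ∈ Set.range j) (g : ↥(GO Q)) (μ : F)
    (hμ : (g.1 : Matrix ι ι F).map σ = μ • (g.1 : Matrix ι ι F)) :
    ∃ (g₀ : ↥(GO Q₀)) (a : F), a ≠ 0 ∧
      ((mapGO j Q₀ Q hjQ h2 g₀).1 : Matrix ι ι F) = a • (g.1 : Matrix ι ι F) := by
  haveI := nonempty_idx Q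
  have hjinj : Function.Injective j := RingHom.injective j
  obtain ⟨a, ha0, ha⟩ := exists_fixed_smul σ (g.1 : Matrix ι ι F) (gl_ne_zero' g.1) μ hμ
  have hent : ∀ s t, ∃ b : F₀, j b = (a • (g.1 : Matrix ι ι F)) s t := by
    intro s t
    have h1 : σ ((a • (g.1 : Matrix ι ι F)) s t) = (a • (g.1 : Matrix ι ι F)) s t := by
      have := congrFun (congrFun ha s) t
      rwa [Matrix.map_apply] at this
    obtain ⟨b, hb⟩ := (hj _).mp h1
    exact ⟨b, hb⟩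
  choose M₀ hM₀ using hent
  have hM₀' : (Matrix.of M₀).map j = a • (g.1 : Matrix ι ι F) := by
    ext s t
    rw [Matrix.map_apply, Matrix.of_apply, hM₀]
  have hdet : (Matrix.of M₀).det ≠ 0 := by
    intro h0
    have h1 := RingHom.map_det j (Matrix.of M₀)
    have h2' : j.mapMatrix (Matrix.of M₀) = (Matrix.of M₀).map j := rfl
    rw [h2', hM₀', h0, map_zero, Matrix.det_smul] at h1
    have h3 : (g.1 : Matrix ι ι F).det ≠ 0 := by
      have := (Matrix.GeneralLinearGroup.det g.1).ne_zero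
      exact this
    exact mul_ne_zero (pow_ne_zero _ ha0) h3 h1.symm
  -- the multiplier
  have hQM : ∀ v : ι → F₀, j (Q₀ (Matrix.of M₀ *ᵥ v)) =
      (a * a * (mulr Q g : F)) * j (Q₀ v) := by
    intro v
    rw [← hjQ, ← hjQ]
    have h1 : (fun i => j ((Matrix.of M₀ *ᵥ v) i)) =
        (Matrix.of M₀).map j *ᵥ (fun i => j (v i)) := by
      funext i
      exact RingHom.map_mulVec j (Matrix.of M₀) v i
    rw [h1, hM₀', Matrix.smul_mulVec, Q_smul, mulr_spec]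
    ring
  obtain ⟨v₀, hv₀⟩ := SemiSimO.exists_Q_ne_zero (Q := Q₀)
  obtain ⟨c₀, hc₀⟩ : ∃ c₀ : F₀, c₀ = Q₀ (Matrix.of M₀ *ᵥ v₀) / Q₀ v₀ := ⟨_, rfl⟩
  have hjc₀ : j c₀ = a * a * (mulr Q g : F) := by
    rw [hc₀, map_div₀, hQM v₀]
    have : j (Q₀ v₀) ≠ 0 := (map_ne_zero j).mpr hv₀
    field_simp
  have hc₀0 : c₀ ≠ 0 := by
    intro h0
    rw [h0, map_zero] at hjc₀
    exact mul_ne_zero (mul_ne_zero ha0 ha0) (Units.ne_zero _) hjc₀.symm
  have hsim : ∀ v : ι → F₀, Q₀ (Matrix.of M₀ *ᵥ v) = c₀ * Q₀ v := by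
    intro v
    apply hjinj
    rw [hQM, map_mul, hjc₀]
  obtain ⟨g₀, hg₀⟩ : ∃ g₀ : ↥(GO Q₀), (g₀.1 : Matrix ι ι F₀) = Matrix.of M₀ :=
    ⟨⟨Matrix.GeneralLinearGroup.mkOfDetNeZero (Matrix.of M₀) hdet,
      ⟨Units.mk0 c₀ hc₀0, fun v => hsim v⟩⟩, rfl⟩
  refine ⟨g₀, a, ha0, ?_⟩
  rw [mapGO_val, hg₀]
  exact hM₀'

include hp hcp hjQ in
/-- base-changed similarities commute with the field automorphism -/
theorem map_comm (h2 : (2 : F) ≠ 0) (σ : F ≃+* F)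
    (hj : ∀ a : F, σ a = a ↔ a ∈ Set.range j) (Fσ : SemiSimO Q)
    (hFS : ∀ x, Fσ.S x = fun i => σ (x i)) (α : MulAut (Cfsg.POmega F ⇑Q)) (g₀ : ↥(GO Q₀)) :
    (α⁻¹ * Fσ.gam * α) * cA α (mapGO j Q₀ Q hjQ h2 g₀) =
      cA α (mapGO j Q₀ Q hjQ h2 g₀) * (α⁻¹ * Fσ.gam * α) := by
  rw [cA_comm_iff p α σ Fσ hFS]
  refine ⟨1, ?_⟩
  rw [one_smul, mapGO_val]
  ext s t
  rw [Matrix.map_apply, Matrix.map_apply]
  exact (hj _).mpr ⟨_, rfl⟩

include hp hcp hcp₀ hjQ in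
/-- the centralizer of a field automorphism in the image of the similarity group is the image of
the similarity group over the fixed field -/
theorem cent_iso (hP : HP Q) (h2 : (2 : F) ≠ 0) (σ : F ≃+* F)
    (hj : ∀ a : F, σ a = a ↔ a ∈ Set.range j) (Fσ : SemiSimO Q)
    (hFS : ∀ x, Fσ.S x = fun i => σ (x i)) (α : MulAut (Cfsg.POmega F ⇑Q)) :
    Nonempty (↥(Cfsg.pgoAut F ⇑Q ⊓ Subgroup.centralizer {α⁻¹ * Fσ.gam * α}) ≃*
      ↥(Cfsg.pgoAut F₀ ⇑Q₀)) := by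
  haveI := nonempty_idx Q
  have hjinj : Function.Injective j := RingHom.injective j
  obtain ⟨Ψ, hΨ⟩ : ∃ Ψ : ↥(GO Q₀) →* MulAut (Cfsg.POmega F ⇑Q),
      Ψ = (cA α).comp (mapGO j Q₀ Q hjQ h2) := ⟨_, rfl⟩
  have hΨa : ∀ g₀, Ψ g₀ = cA α (mapGO j Q₀ Q hjQ h2 g₀) := fun g₀ => by rw [hΨ]; rfl
  have hmem : ∀ g, cA α g ∈ Subgroup.centralizer {α⁻¹ * Fσ.gam * α} ↔
      ∃ μ : F, (g.1 : Matrix ι ι F).map σ = μ • (g.1 : Matrix ι ι F) := by
    intro g
    rw [← Subgroup.mem_comap, mem_cent_comap, cA_comm_iff p α σ Fσ hFS]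
  have hιinj : Function.Injective (fun M : Matrix ι ι F₀ => M.map j) :=
    Matrix.map_injective hjinj
  have hrange : Ψ.range = Cfsg.pgoAut F ⇑Q ⊓ Subgroup.centralizer {α⁻¹ * Fσ.gam * α} := by
    apply le_antisymm
    · rintro _ ⟨g₀, rfl⟩
      rw [hΨa]
      refine ⟨?_, ?_⟩
      · rw [← cA_range p hP α]; exact ⟨_, rfl⟩
      · change cA α (mapGO j Q₀ Q hjQ h2 g₀) ∈ Subgroup.centralizer {α⁻¹ * Fσ.gam * α}
        rw [← Subgroup.mem_comap, mem_cent_comap]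
        exact map_comm j Q₀ Q hjQ p h2 σ hj Fσ hFS α g₀
    · rintro β ⟨hβ1, hβ2⟩
      rw [SetLike.mem_coe, ← cA_range p hP α] at hβ1
      obtain ⟨g, rfl⟩ := hβ1
      obtain ⟨μ, hμ⟩ := (hmem g).mp hβ2
      obtain ⟨g₀, a, ha0, hg₀⟩ := exists_descent j Q₀ Q hjQ h2 σ hj g μ hμ
      refine ⟨g₀, ?_⟩
      rw [hΨa, cA_apply, cA_apply]
      congr 2
      exact fGO_eq_of_smul g _ a ha0 hg₀
  have hker : Ψ.ker = (fGO Q₀).ker := by
    ext g₀
    rw [MonoidHom.mem_ker, MonoidHom.mem_ker, hΨa, cA_apply]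
    have h1 : α⁻¹ * fGO Q (mapGO j Q₀ Q hjQ h2 g₀) * α = 1 ↔
        fGO Q (mapGO j Q₀ Q hjQ h2 g₀) = 1 := by
      constructor
      · intro h
        calc fGO Q (mapGO j Q₀ Q hjQ h2 g₀)
            = α * (α⁻¹ * fGO Q (mapGO j Q₀ Q hjQ h2 g₀) * α) * α⁻¹ := by group
          _ = 1 := by rw [h]; group
      · intro h
        rw [h]; group
    rw [h1, fGO_eq_one_iff' p, fGO_eq_one_iff' p, mapGO_val]
    constructor
    · rintro ⟨μ, hμ⟩
      have i0 : ι := Classical.arbitrary ι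
      have hμ0 : j ((g₀.1 : Matrix ι ι F₀) i0 i0) = μ := by
        have := congrFun (congrFun hμ i0) i0
        simpa using this
      refine ⟨(g₀.1 : Matrix ι ι F₀) i0 i0, ?_⟩
      apply hιinj
      simp only
      rw [hμ]
      ext s t
      rw [Matrix.map_apply, Matrix.smul_apply, Matrix.smul_apply, Matrix.one_apply,
        Matrix.one_apply]
      by_cases hst : s = t
      · rw [if_pos hst, if_pos hst, smul_eq_mul, smul_eq_mul, mul_one, mul_one, hμ0]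
      · rw [if_neg hst, if_neg hst, smul_zero, smul_zero, map_zero]
    · rintro ⟨c, hc⟩
      refine ⟨j c, ?_⟩
      rw [hc]
      ext s t
      rw [Matrix.map_apply, Matrix.smul_apply, Matrix.smul_apply, Matrix.one_apply,
        Matrix.one_apply]
      by_cases hst : s = t
      · rw [if_pos hst, if_pos hst, smul_eq_mul, smul_eq_mul, mul_one, mul_one]
      · rw [if_neg hst, if_neg hst, smul_zero, smul_zero, map_zero]
  have e1 : ↥(GO Q₀) ⧸ Ψ.ker ≃* ↥Ψ.range := QuotientGroup.quotientKerEquivRange Ψ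
  have e2 : ↥Ψ.range ≃* ↥(Cfsg.pgoAut F ⇑Q ⊓ Subgroup.centralizer {α⁻¹ * Fσ.gam * α}) :=
    MulEquiv.subgroupCongr hrange
  have e3 : ↥(GO Q₀) ⧸ (fGO Q₀).ker ≃* ↥(GO Q₀) ⧸ Ψ.ker :=
    QuotientGroup.quotientMulEquivOfEq hker.symm
  have e4 : ↥(GO Q₀) ⧸ (fGO Q₀).ker ≃* ↥(fGO Q₀).range :=
    QuotientGroup.quotientKerEquivRange (fGO Q₀)
  have e5 : ↥(fGO Q₀).range ≃* ↥(Cfsg.pgoAut F₀ ⇑Q₀) :=
    MulEquiv.subgroupCongr (pgoAut_eq_range Q₀).symm
  exact ⟨(e2.symm.trans (e1.symm.trans (e3.symm.trans (e4.trans e5))))⟩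

end centiso

end Cfsg.Agent.Lib.Helper16.FieldCentOrth
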