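import Mathlib
import Cfsg.Agent.Lib.Helper16.QuadExt
import Cfsg.Agent.Lib.Helper16.FieldCosetOrth

/-!
# Frames of semilinear similarities of finite order (characteristic free)

A semilinear similarity `Φ` of `Q` whose companion automorphism `τ` has order `r` and with
`Φ.gam ^ r = 1` has a frame: an invertible matrix `b` with `Φ.mat * τ(b) = μ b`.  The form `Q ∘ b`
is then, up to a scalar, defined over the fixed field of `τ`; two such semilinear similarities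
whose descended forms are similar over the fixed field are conjugate under the similarity group.
-/

set_option autoImplicit false
set_option linter.unusedSectionVars false
set_option linter.unusedVariables false
set_option linter.style.haveILetI false

namespace Cfsg.Agent.Lib.Helper16.SemiFrame

open Matrix Cfsg QuadraticMap Cfsg.Agent.Lib.Helper6 Cfsg.Agent.Lib.Helper6.AutOrt
  Cfsg.Agent.Lib.Helper16.H90GL Cfsg.Agent.Lib.Helper16.FieldCosetOrth
  Cfsg.Agent.Lib.Helper16.QuadExt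
open Cfsg.Agent.Lib.Helper6.AutPSL (sG sG_val gl_mul_inv gl_inv_mul)

variable {F : Type*} [Field F] [Fintype F] {ι : Type} [Fintype ι] [DecidableEq ι]
  {Q : QuadraticForm F (ι → F)} [hS : Std Q]

theorem powS_S' (Φ : SemiSimO Q) (G : GL ι F) (hG : G.1 = Φ.mat) (k : ℕ) (x : ι → F) :
    (powS Φ k).S x = (Nrm Φ.σ G k).1 *ᵥ (fun i => ((Φ.σ : RingAut F) ^ k) (x i)) := by
  induction k generalizing x with
  | zero =>
    change x = (1 : Matrix ι ι F) *ᵥ _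
    rw [Matrix.one_mulVec]
    rfl
  | succ k ih =>
    change Φ.S ((powS Φ k).S x) = _
    rw [ih, ← Φ.mat_mulVec', ← hG, Nrm_succ, Units.val_mul, sG_val, ← Matrix.mulVec_mulVec]
    congr 1
    have h1 := map_mulVec_apply' Φ.σ (Nrm Φ.σ G k).1 (fun i => ((Φ.σ : RingAut F) ^ k) (x i))
    rw [← h1]
    congr 1
    funext i
    rw [pow_succ']
    rfl

section frame
variable (p : ℕ) [hp : Fact p.Prime] [hcp : CharP F p]

include hp hcp in
/-- existence of a frame -/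
theorem exists_frame (Φ : SemiSimO Q) (r : ℕ) (hr : orderOf (Φ.σ : RingAut F) = r) (hr0 : 0 < r)
    (hpow : Φ.gam ^ r = 1) :
    ∃ (b : GL ι F) (μ : F), μ ≠ 0 ∧ Φ.mat * b.1.map Φ.σ = μ • b.1 := by
  haveI : Nonempty ι := by
    rw [← Fintype.card_pos_iff]
    have := hS.seven
    omega
  have hσr : (Φ.σ : RingAut F) ^ r = 1 := by rw [← hr]; exact pow_orderOf_eq_one _
  obtain ⟨G, hG⟩ : ∃ G : GL ι F, G.1 = Φ.mat := ⟨Φ.gl, Φ.gl_val⟩
  have hgam : (powS Φ r).gam = 1 := by rw [gam_powS, hpow]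
  obtain ⟨-, c, hc⟩ := scalar_of_gam_eq_one p _ hgam
  have hN : (Nrm Φ.σ G r).1 = c • (1 : Matrix ι ι F) := by
    apply matrix_ext_mulVec
    intro x
    have := powS_S' Φ G hG r x
    rw [hσr] at this
    rw [Matrix.smul_mulVec, Matrix.one_mulVec, ← hc x, this]
    rfl
  have hc0 : c ≠ 0 := by
    intro h0
    have h1 := gl_mul_inv (Nrm Φ.σ G r)
    rw [hN, h0, zero_smul, Matrix.zero_mul] at h1
    have i0 : ι := Classical.arbitrary ι
    have := congrFun (congrFun h1 i0) i0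
    simp at this
  have hcen : Nrm Φ.σ G r ∈ Subgroup.center (GL ι F) := by
    rw [Matrix.GeneralLinearGroup.mem_center_iff_val_mem_range_scalar]
    exact ⟨c, by rw [Cfsg.Agent.Lib.Helper16.FieldCoset.scalar_eq_smul_one, hN]⟩
  have hσc : Φ.σ c = c := by
    have h1 := congrArg Units.val (Nrm_fixed Φ.σ r hσr G hcen)
    rw [sG_val, hN] at h1
    have i0 : ι := Classical.arbitrary ι
    have := congrFun (congrFun h1 i0) i0
    simpa using this
  obtain ⟨μ, hμ0, hμN⟩ := nrmF_surj Φ.σ r hr hr0 c hc0 hσc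
  obtain ⟨b, hb⟩ := descent Φ.σ r hr hr0 G μ hμ0 (by rw [hμN, hN])
  rw [hG] at hb
  exact ⟨b, μ, hμ0, hb⟩

end frame

/-- the twisted equivariance of the form in a frame -/
theorem frame_form (Φ : SemiSimO Q) (b : Matrix ι ι F) (μ : F)
    (hb : Φ.mat * b.map Φ.σ = μ • b) (x : ι → F) :
    μ * μ * Q (b *ᵥ (fun i => Φ.σ (x i))) = Φ.ν * Φ.σ (Q (b *ᵥ x)) := by
  rw [← Φ.form, ← Φ.mat_mulVec', ← map_mulVec_apply' Φ.σ b x, Matrix.mulVec_mulVec, hb,
    Matrix.smul_mulVec, Q_smul]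

/-- a frame vector is an eigenvector -/
theorem frame_S (Φ : SemiSimO Q) (b : Matrix ι ι F) (μ : F)
    (hb : Φ.mat * b.map Φ.σ = μ • b) (x : ι → F) (hx : (fun i => Φ.σ (x i)) = x) :
    Φ.S (b *ᵥ x) = μ • (b *ᵥ x) := by
  rw [← Φ.mat_mulVec', ← map_mulVec_apply' Φ.σ b x, Matrix.mulVec_mulVec, hb,
    Matrix.smul_mulVec, hx]

section descend
variable {F₀ : Type*} [Field F₀] (j : F₀ →+* F)

theorem comp_toLin_apply (b : Matrix ι ι F) (x : ι → F) :
    (Q.comp (Matrix.toLin' b)) x = Q (b *ᵥ x) := by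
  rw [QuadraticMap.comp_apply, Matrix.toLin'_apply]

/-- the descended form of a frame -/
theorem exists_descended (Φ : SemiSimO Q) (hj : ∀ a : F, Φ.σ a = a ↔ a ∈ Set.range j)
    (b : GL ι F) (μ : F) (hμ : μ ≠ 0) (hb : Φ.mat * b.1.map Φ.σ = μ • b.1) :
    ∃ (Q₀ : QuadraticForm F₀ (ι → F₀)) (c : F), c ≠ 0 ∧ (polarBilin Q₀).Nondegenerate ∧
      ∀ v, j (Q₀ v) = c * Q (b.1 *ᵥ (fun i => j (v i))) := by
  have hfix : ∀ v : ι → F₀, (fun i => Φ.σ (j (v i))) = (fun i => j (v i)) := by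
    intro v
    funext i
    exact (hj _).mpr ⟨_, rfl⟩
  -- a point where the form does not vanish
  obtain ⟨v₀, hv₀⟩ : ∃ v₀ : ι → F₀, Q (b.1 *ᵥ (fun i => j (v₀ i))) ≠ 0 := by
    by_contra hcon
    push Not at hcon
    have h1 := qf_zero_of_points j (Q.comp (Matrix.toLin' b.1)) (fun v => by
      rw [comp_toLin_apply]; exact hcon v)
    obtain ⟨x, hx⟩ := SemiSimO.exists_Q_ne_zero (Q := Q)
    apply hx
    have := h1 ((b⁻¹).1 *ᵥ x)
    rwa [comp_toLin_apply, Matrix.mulVec_mulVec, gl_mul_inv, Matrix.one_mulVec] at this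
  obtain ⟨t, ht⟩ : ∃ t, t = Q (b.1 *ᵥ (fun i => j (v₀ i))) := ⟨_, rfl⟩
  have ht0 : t ≠ 0 := by rw [ht]; exact hv₀
  have hν := Φ.hν
  have key : ∀ v : ι → F₀, μ * μ * Q (b.1 *ᵥ (fun i => j (v i))) =
      Φ.ν * Φ.σ (Q (b.1 *ᵥ (fun i => j (v i)))) := by
    intro v
    have := frame_form Φ b.1 μ hb (fun i => j (v i))
    rwa [hfix] at this
  have hσt : Φ.σ t = μ * μ * t / Φ.ν := by
    have := key v₀
    rw [← ht] at this
    field_simp
    linear_combination -this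
  have hval : ∀ v : ι → F₀, ∃ c₀ : F₀,
      (t⁻¹ • Q.comp (Matrix.toLin' b.1)) (fun i => j (v i)) = j c₀ := by
    intro v
    have h1 : Φ.σ (t⁻¹ * Q (b.1 *ᵥ (fun i => j (v i)))) =
        t⁻¹ * Q (b.1 *ᵥ (fun i => j (v i))) := by
      have h2 : Φ.σ (Q (b.1 *ᵥ (fun i => j (v i)))) =
          μ * μ * Q (b.1 *ᵥ (fun i => j (v i))) / Φ.ν := by
        have := key v
        field_simp
        linear_combination -this
      rw [map_mul, map_inv₀, hσt, h2]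
      field_simp
    obtain ⟨c₀, hc₀⟩ := (hj _).mp h1
    refine ⟨c₀, ?_⟩
    rw [_root_.smul_apply, comp_toLin_apply, smul_eq_mul, hc₀]
  obtain ⟨Q₀, hQ₀⟩ := exists_restrict j _ hval
  have hnd : (polarBilin (t⁻¹ • Q.comp (Matrix.toLin' b.1))).Nondegenerate := by
    have hpol : ∀ x y, polar (⇑(t⁻¹ • Q.comp (Matrix.toLin' b.1))) x y =
        t⁻¹ * polar (⇑Q) (b.1 *ᵥ x) (b.1 *ᵥ y) := by
      intro x y
      unfold polar
      rw [_root_.smul_apply, _root_.smul_apply, _root_.smul_apply,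
        comp_toLin_apply, comp_toLin_apply, comp_toLin_apply, Matrix.mulVec_add]
      simp only [smul_eq_mul]
      ring
    have key2 : ∀ x, (∀ y, polar (⇑(t⁻¹ • Q.comp (Matrix.toLin' b.1))) x y = 0) → x = 0 := by
      intro x hx
      have h1 : b.1 *ᵥ x = 0 := by
        apply hS.nondeg.1
        intro z
        have := hx ((b⁻¹).1 *ᵥ z)
        rw [hpol, Matrix.mulVec_mulVec, gl_mul_inv, Matrix.one_mulVec] at this
        rcases mul_eq_zero.mp this with h | h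
        · exact absurd h (inv_ne_zero ht0)
        · exact h
      have := congrArg (fun y => (b⁻¹).1 *ᵥ y) h1
      rwa [Matrix.mulVec_mulVec, gl_inv_mul, Matrix.one_mulVec, Matrix.mulVec_zero] at this
    constructor
    · intro x hx
      exact key2 x (fun y => hx y)
    · intro x hx
      apply key2 x
      intro y
      rw [polar_comm]
      exact hx y
  refine ⟨Q₀, t⁻¹, inv_ne_zero ht0, nondeg_restrict j _ Q₀ hQ₀ hnd, fun v => ?_⟩
  rw [hQ₀, _root_.smul_apply, comp_toLin_apply, smul_eq_mul]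

/-- conjugacy of two semilinear similarities with similar descended forms -/
theorem conj_of_frames (Φ₁ Φ₂ : SemiSimO Q) (hσ : Φ₁.σ = Φ₂.σ)
    (hjfix : ∀ a : F₀, Φ₁.σ (j a) = j a)
    (b₁ b₂ : GL ι F) (μ₁ μ₂ : F) (hμ₁ : μ₁ ≠ 0) (hμ₂ : μ₂ ≠ 0)
    (hb₁ : Φ₁.mat * b₁.1.map Φ₁.σ = μ₁ • b₁.1) (hb₂ : Φ₂.mat * b₂.1.map Φ₂.σ = μ₂ • b₂.1)
    (Q₁ Q₂ : QuadraticForm F₀ (ι → F₀)) (c₁ c₂ : F) (hc₁ : c₁ ≠ 0) (hc₂ : c₂ ≠ 0)
    (h₁ : ∀ v, j (Q₁ v) = c₁ * Q (b₁.1 *ᵥ (fun i => j (v i))))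
    (h₂ : ∀ v, j (Q₂ v) = c₂ * Q (b₂.1 *ᵥ (fun i => j (v i))))
    (k : Matrix ι ι F₀) (e : F₀) (he : e ≠ 0) (hk : ∀ v, Q₁ (k *ᵥ v) = e * Q₂ v) :
    ∃ H : SemiSimO Q, H.σ = RingEquiv.refl F ∧ H.gam * Φ₂.gam * H.gam⁻¹ = Φ₁.gam ∧
      (∀ x, H.S x = (b₁.1 * k.map j * (b₂⁻¹).1) *ᵥ x) := by
  obtain ⟨h, hh⟩ : ∃ h : Matrix ι ι F, h = b₁.1 * k.map j * (b₂⁻¹).1 := ⟨_, rfl⟩
  obtain ⟨E, hE⟩ : ∃ E : F, E = c₁⁻¹ * j e * c₂ := ⟨_, rfl⟩
  have hE0 : E ≠ 0 := by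
    rw [hE]
    exact mul_ne_zero (mul_ne_zero (inv_ne_zero hc₁) ((map_ne_zero j).mpr he)) hc₂
  have hkmap : ∀ v : ι → F₀, k.map j *ᵥ (fun i => j (v i)) = fun i => j ((k *ᵥ v) i) := by
    intro v
    funext i
    exact (RingHom.map_mulVec j k v i).symm
  have hpts : ∀ x : ι → F, Q ((b₁.1 * k.map j) *ᵥ x) = E * Q (b₂.1 *ᵥ x) := by
    intro x
    have := qf_ext j (Q.comp (Matrix.toLin' (b₁.1 * k.map j))) (E • Q.comp (Matrix.toLin' b₂.1))
      (fun v => by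
        rw [comp_toLin_apply, _root_.smul_apply, comp_toLin_apply, smul_eq_mul,
          ← Matrix.mulVec_mulVec, hkmap]
        have e1 := h₁ (k *ᵥ v)
        have e2 := h₂ v
        rw [hk, map_mul, e2] at e1
        rw [hE]
        field_simp
        linear_combination -e1) x
    rwa [comp_toLin_apply, _root_.smul_apply, comp_toLin_apply, smul_eq_mul] at this
  have hsim : ∀ w, Q (h *ᵥ w) = E * Q w := by
    intro w
    have := hpts ((b₂⁻¹).1 *ᵥ w)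
    rw [Matrix.mulVec_mulVec, Matrix.mulVec_mulVec, gl_mul_inv, Matrix.one_mulVec, ← hh] at this
    exact this
  refine ⟨linSim h E hE0 hsim, rfl, ?_, fun x => by rw [← hh]; rfl⟩
  rw [mul_inv_eq_iff_eq_mul, ← SemiSimO.gam_comp, ← SemiSimO.gam_comp]
  have hkσ : (k.map j).map Φ₁.σ = k.map j := by
    ext s t
    rw [Matrix.map_apply, Matrix.map_apply, hjfix]
  have hmat : h * Φ₂.mat = (μ₂ / μ₁) • (Φ₁.mat * h.map Φ₁.σ) := by
    have hB : ∀ M₁ M₂ : Matrix ι ι F, M₁ * b₂.1.map Φ₁.σ = M₂ * b₂.1.map Φ₁.σ → M₁ = M₂ := by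
      intro M₁ M₂ hM
      have h3 : b₂.1.map Φ₁.σ * (b₂⁻¹).1.map Φ₁.σ = 1 := by
        rw [← Matrix.map_mul, gl_mul_inv]
        exact Matrix.map_one _ (map_zero _) (map_one _)
      calc M₁ = M₁ * (b₂.1.map Φ₁.σ * (b₂⁻¹).1.map Φ₁.σ) := by rw [h3, Matrix.mul_one]
        _ = M₂ * (b₂.1.map Φ₁.σ * (b₂⁻¹).1.map Φ₁.σ) := by
            rw [← Matrix.mul_assoc, hM, Matrix.mul_assoc]
        _ = M₂ := by rw [h3, Matrix.mul_one]
    apply hB
    have hhb : h * b₂.1 = b₁.1 * k.map j := by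
      rw [hh, Matrix.mul_assoc, gl_inv_mul, Matrix.mul_one]
    rw [Matrix.mul_assoc, hσ, hb₂, Matrix.mul_smul, hhb, Matrix.smul_mul, Matrix.mul_assoc,
      ← hσ, ← Matrix.map_mul, hhb, Matrix.map_mul, hkσ, ← Matrix.mul_assoc, hb₁, Matrix.smul_mul,
      smul_smul]
    congr 1
    field_simp
  apply gam_eq_of_S_smul _ _ (μ₂ / μ₁) (div_ne_zero hμ₂ hμ₁)
  intro x
  change h *ᵥ (Φ₂.S x) = (μ₂ / μ₁) • Φ₁.S (h *ᵥ x)
  rw [← Φ₂.mat_mulVec', ← Φ₁.mat_mulVec', ← map_mulVec_apply' Φ₁.σ h x, Matrix.mulVec_mulVec,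
    Matrix.mulVec_mulVec, ← hσ, hmat, Matrix.smul_mulVec]

end descend

/-- a reflection in an eigenvector commutes with the semilinear similarity -/
theorem refl_comm (Φ : SemiSimO Q) (v : ι → F) (μ : F) (hμ : μ ≠ 0) (hv : Φ.S v = μ • v)
    (hQv : Q v ≠ 0) (y : ι → F) :
    Φ.S (Cfsg.reflectionMatrix ⇑Q v *ᵥ y) = Cfsg.reflectionMatrix ⇑Q v *ᵥ (Φ.S y) := by
  have hν := Φ.hν
  have h1 : μ * polar (⇑Q) v (Φ.S y) = Φ.ν * Φ.σ (polar (⇑Q) v y) := by
    have := Φ.polar_S v y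
    rwa [hv, polar_smul_left, smul_eq_mul] at this
  have h2 : μ * μ * Q v = Φ.ν * Φ.σ (Q v) := by
    have := Φ.form v
    rwa [hv, Q_smul] at this
  have hσQ : Φ.σ (Q v) ≠ 0 := (map_ne_zero _).mpr hQv
  rw [reflectionMatrix_mulVec, reflectionMatrix_mulVec, Φ.S_sub, Φ.smul, hv, map_mul, map_inv₀,
    smul_smul]
  congr 2
  have e1 : Φ.σ (polar (⇑Q) v y) = μ * polar (⇑Q) v (Φ.S y) / Φ.ν := by
    field_simp
    linear_combination -h1
  have e2 : Φ.σ (Q v) = μ * μ * Q v / Φ.ν := by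
    field_simp
    linear_combination -h2
  rw [e1, e2]
  field_simp

end Cfsg.Agent.Lib.Helper16.SemiFrame
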