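import Mathlib
import Cfsg.Agent.Lib.Helper16.SemiFrame
import Cfsg.Agent.Lib.Helper16.FieldCentOrth

/-!
# Centralizers of semilinear similarities with a frame (characteristic free)

Let `Φ` be a semilinear similarity of `Q` with a frame `B` (`Φ.mat * τ(B) = μ B`) such that
`c Q ∘ B` is defined over the fixed field `F₀` of the companion automorphism, equal there to `Q₀`.
Then the centralizer of `Φ.gam` in the image of the similarity group of `Q` is the image of the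
similarity group of `Q₀`, compatibly with subgroups.
-/

set_option autoImplicit false
set_option linter.unusedSectionVars false
set_option linter.unusedVariables false
set_option linter.style.haveILetI false

namespace Cfsg.Agent.Lib.Helper16.FieldCentMinus

open Matrix Cfsg QuadraticMap Cfsg.Agent.Lib.Helper6 Cfsg.Agent.Lib.Helper6.AutOrt
  Cfsg.Agent.Lib.Helper6.OmegaAut Cfsg.Agent.Lib.Helper6.SimAut
  Cfsg.Agent.Lib.Helper16.FieldCosetOrth Cfsg.Agent.Lib.Helper16.OrthDescent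
  Cfsg.Agent.Lib.Helper16.FieldCentOrth Cfsg.Agent.Lib.Helper16.QuadExt
open Cfsg.Agent.Lib.Helper6.AutPSL (sG sG_val gl_mul_inv gl_inv_mul)

variable {F : Type*} [Field F] [Fintype F] {ι : Type} [Fintype ι] [DecidableEq ι]

theorem comp_toLin_apply' {R : Type*} [Field R] (Q : QuadraticForm R (ι → R)) (b : Matrix ι ι R)
    (x : ι → R) : (Q.comp (Matrix.toLin' b)) x = Q (b *ᵥ x) := by
  rw [QuadraticMap.comp_apply, Matrix.toLin'_apply]

section basechange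
variable {F₀ : Type*} [Field F₀] (j : F₀ →+* F) (Q₀ : QuadraticForm F₀ (ι → F₀))
  (Q : QuadraticForm F (ι → F)) (B : GL ι F) (c : F) (hc : c ≠ 0)
  (hB : ∀ v : ι → F₀, j (Q₀ v) = c * Q (B.1 *ᵥ fun i => j (v i)))

include hc hB in
/-- a similarity over the small field, conjugated by the frame, is a similarity over `F` -/
theorem sim_conj (M₀ : Matrix ι ι F₀) (ν₀ : F₀) (h : ∀ v, Q₀ (M₀ *ᵥ v) = ν₀ * Q₀ v) (w : ι → F) :
    Q ((B.1 * M₀.map j * (B⁻¹).1) *ᵥ w) = j ν₀ * Q w := by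
  have hpts : ∀ y : ι → F, Q ((B.1 * M₀.map j) *ᵥ y) = j ν₀ * Q (B.1 *ᵥ y) := by
    intro y
    have := qf_ext j (Q.comp (Matrix.toLin' (B.1 * M₀.map j)))
      (j ν₀ • Q.comp (Matrix.toLin' B.1)) (fun v => ?_) y
    · rwa [comp_toLin_apply', _root_.smul_apply, comp_toLin_apply', smul_eq_mul] at this
    · rw [comp_toLin_apply', _root_.smul_apply, comp_toLin_apply', smul_eq_mul,
        ← Matrix.mulVec_mulVec]
      have hk : M₀.map j *ᵥ (fun i => j (v i)) = fun i => j ((M₀ *ᵥ v) i) := by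
        funext i
        exact (RingHom.map_mulVec j M₀ v i).symm
      rw [hk]
      have e1 := hB (M₀ *ᵥ v)
      have e2 := hB v
      rw [h, map_mul, e2] at e1
      apply mul_left_cancel₀ hc
      linear_combination -e1
  have := hpts ((B⁻¹).1 *ᵥ w)
  rw [Matrix.mulVec_mulVec, Matrix.mulVec_mulVec, gl_mul_inv, Matrix.one_mulVec] at this
  exact this

/-- conjugated base change of similarities -/
noncomputable def mapGO' : ↥(GO Q₀) →* ↥(GO Q) :=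
  MonoidHom.codRestrict
    (((MulAut.conj B).toMonoidHom.comp (Matrix.GeneralLinearGroup.map j)).comp (GO Q₀).subtype)
    (GO Q)
    (fun g₀ => ⟨Units.map (j : F₀ →* F) (mulr Q₀ g₀), fun v =>
      sim_conj j Q₀ Q B c hc hB (g₀.1 : Matrix ι ι F₀) (mulr Q₀ g₀) (mulr_spec Q₀ g₀) v⟩)

theorem mapGO'_val (g₀ : ↥(GO Q₀)) :
    ((mapGO' j Q₀ Q B c hc hB g₀).1 : Matrix ι ι F) =
      B.1 * (g₀.1 : Matrix ι ι F₀).map j * (B⁻¹).1 := rfl

end basechange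

section cent
variable {F₀ : Type*} [Field F₀] [Fintype F₀] (j : F₀ →+* F) (Q₀ : QuadraticForm F₀ (ι → F₀))
  (Q : QuadraticForm F (ι → F)) [hS : Std Q] [hS₀ : Std Q₀] (B : GL ι F) (c : F) (hc : c ≠ 0)
  (hB : ∀ v : ι → F₀, j (Q₀ v) = c * Q (B.1 *ᵥ fun i => j (v i)))
  (Φ : SemiSimO Q) (μ : F) (hμ : μ ≠ 0) (hΦB : Φ.mat * B.1.map Φ.σ = μ • B.1)

theorem map_inv_mul (σ : F ≃+* F) (B : GL ι F) : (B⁻¹).1.map σ * B.1.map σ = 1 := by
  rw [← Matrix.map_mul, gl_inv_mul]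
  exact Matrix.map_one _ (map_zero _) (map_one _)

theorem map_mul_inv (σ : F ≃+* F) (B : GL ι F) : B.1.map σ * (B⁻¹).1.map σ = 1 := by
  rw [← Matrix.map_mul, gl_mul_inv]
  exact Matrix.map_one _ (map_zero _) (map_one _)

include hΦB in
theorem inv_mul_mat : (B⁻¹).1 * Φ.mat = μ • (B⁻¹).1.map Φ.σ := by
  calc (B⁻¹).1 * Φ.mat = (B⁻¹).1 * Φ.mat * (B.1.map Φ.σ * (B⁻¹).1.map Φ.σ) := by
        rw [map_mul_inv, Matrix.mul_one]
    _ = (B⁻¹).1 * (Φ.mat * B.1.map Φ.σ) * (B⁻¹).1.map Φ.σ := by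
        simp only [Matrix.mul_assoc]
    _ = μ • (B⁻¹).1.map Φ.σ := by
        rw [hΦB, Matrix.mul_smul, gl_inv_mul, Matrix.smul_mul, Matrix.one_mul]

include hΦB in
/-- conjugated base changes commute with the semilinear similarity -/
theorem mapGO'_comm (hjfix : ∀ a : F₀, Φ.σ (j a) = j a) (g₀ : ↥(GO Q₀)) :
    Φ.gam * fGO Q (mapGO' j Q₀ Q B c hc hB g₀) = fGO Q (mapGO' j Q₀ Q B c hc hB g₀) * Φ.gam := by
  rw [fGO_eq_gam, ← SemiSimO.gam_comp, ← SemiSimO.gam_comp]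
  apply SemiSimO.gam_eq_of_S_eq
  intro x
  change Φ.S (((mapGO' j Q₀ Q B c hc hB g₀).1 : Matrix ι ι F) *ᵥ x) =
    ((mapGO' j Q₀ Q B c hc hB g₀).1 : Matrix ι ι F) *ᵥ Φ.S x
  rw [mapGO'_val, ← Φ.mat_mulVec', ← Φ.mat_mulVec', ← map_mulVec_apply' Φ.σ _ x,
    Matrix.mulVec_mulVec, Matrix.mulVec_mulVec]
  congr 1
  have hG : ((g₀.1 : Matrix ι ι F₀).map j).map Φ.σ = (g₀.1 : Matrix ι ι F₀).map j := by
    ext s t
    rw [Matrix.map_apply, Matrix.map_apply, hjfix]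
  rw [Matrix.map_mul, Matrix.map_mul, hG]
  calc Φ.mat * (B.1.map Φ.σ * (g₀.1 : Matrix ι ι F₀).map j * (B⁻¹).1.map Φ.σ)
      = (Φ.mat * B.1.map Φ.σ) * (g₀.1 : Matrix ι ι F₀).map j * (B⁻¹).1.map Φ.σ := by
        simp only [Matrix.mul_assoc]
    _ = B.1 * (g₀.1 : Matrix ι ι F₀).map j * (μ • (B⁻¹).1.map Φ.σ) := by
        rw [hΦB, Matrix.smul_mul, Matrix.smul_mul, Matrix.mul_smul]
    _ = B.1 * (g₀.1 : Matrix ι ι F₀).map j * (B⁻¹).1 * Φ.mat := by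
        rw [← inv_mul_mat Q B Φ μ hΦB]
        simp only [Matrix.mul_assoc]

variable (p : ℕ) [hp : Fact p.Prime] [hcp : CharP F p] [hcp₀ : CharP F₀ p]

include hp hcp hc hB hμ hΦB in
/-- a similarity commuting projectively with the semilinear similarity descends -/
theorem exists_descent' (hj : ∀ a : F, Φ.σ a = a ↔ a ∈ Set.range j) (g : ↥(GO Q))
    (hcomm : Φ.gam * fGO Q g = fGO Q g * Φ.gam) :
    ∃ (g₀ : ↥(GO Q₀)) (a : F), a ≠ 0 ∧
      ((mapGO' j Q₀ Q B c hc hB g₀).1 : Matrix ι ι F) = a • (g.1 : Matrix ι ι F) := by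
  haveI := nonempty_idx Q
  have hjinj : Function.Injective j := RingHom.injective j
  rw [fGO_eq_gam, ← SemiSimO.gam_comp, ← SemiSimO.gam_comp] at hcomm
  obtain ⟨lam, hlam0, hlam⟩ := S_smul_of_gam_eq p _ _ hcomm
  have hmat : Φ.mat * (g.1 : Matrix ι ι F).map Φ.σ = lam • ((g.1 : Matrix ι ι F) * Φ.mat) := by
    apply matrix_ext_mulVec
    intro y
    obtain ⟨x, rfl⟩ : ∃ x : ι → F, y = fun i => Φ.σ (x i) :=
      ⟨fun i => Φ.σ.symm (y i), by funext i; simp⟩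
    have h1 := hlam x
    change Φ.S ((g.1 : Matrix ι ι F) *ᵥ x) = lam • ((g.1 : Matrix ι ι F) *ᵥ Φ.S x) at h1
    rw [← Φ.mat_mulVec', ← Φ.mat_mulVec', ← map_mulVec_apply' Φ.σ _ x, Matrix.mulVec_mulVec,
      Matrix.mulVec_mulVec] at h1
    rw [h1, Matrix.smul_mulVec]
  obtain ⟨g', hg'⟩ : ∃ g' : Matrix ι ι F, g' = (B⁻¹).1 * (g.1 : Matrix ι ι F) * B.1 := ⟨_, rfl⟩
  have hg'σ : g'.map Φ.σ = lam • g' := by
    have e1 : (B⁻¹).1 * (Φ.mat * (g.1 : Matrix ι ι F).map Φ.σ) * B.1.map Φ.σ =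
        μ • g'.map Φ.σ := by
      rw [← Matrix.mul_assoc, inv_mul_mat Q B Φ μ hΦB, hg', Matrix.map_mul, Matrix.map_mul]
      simp only [Matrix.smul_mul, Matrix.mul_assoc]
    have e2 : (B⁻¹).1 * (lam • ((g.1 : Matrix ι ι F) * Φ.mat)) * B.1.map Φ.σ =
        μ • (lam • g') := by
      rw [Matrix.mul_smul, Matrix.smul_mul, Matrix.mul_assoc, Matrix.mul_assoc, hΦB, hg']
      simp only [Matrix.mul_smul, Matrix.mul_assoc, smul_comm μ lam]
    rw [hmat, e2] at e1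
    have := congrArg (fun M => μ⁻¹ • M) e1
    simp only [smul_smul, inv_mul_cancel₀ hμ, one_smul, inv_mul_cancel_left₀ hμ] at this
    exact this.symm
  have hg'0 : g' ≠ 0 := by
    intro h0
    have h1 : (g.1 : Matrix ι ι F) = B.1 * g' * (B⁻¹).1 := by
      rw [hg']
      simp only [Matrix.mul_assoc]
      rw [gl_mul_inv, Matrix.mul_one, ← Matrix.mul_assoc, gl_mul_inv, Matrix.one_mul]
    rw [h0, Matrix.mul_zero, Matrix.zero_mul] at h1
    exact gl_ne_zero' g.1 h1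
  obtain ⟨a, ha0, ha⟩ := exists_fixed_smul Φ.σ g' hg'0 lam hg'σ
  have hent : ∀ s t, ∃ b : F₀, j b = (a • g') s t := by
    intro s t
    have h1 : Φ.σ ((a • g') s t) = (a • g') s t := by
      have := congrFun (congrFun ha s) t
      rwa [Matrix.map_apply] at this
    obtain ⟨b, hb⟩ := (hj _).mp h1
    exact ⟨b, hb⟩
  choose M₀ hM₀ using hent
  have hM₀' : (Matrix.of M₀).map j = a • g' := by
    ext s t
    rw [Matrix.map_apply, Matrix.of_apply, hM₀]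
  have hBM : B.1 * (Matrix.of M₀).map j = a • ((g.1 : Matrix ι ι F) * B.1) := by
    rw [hM₀', hg', Matrix.mul_smul]
    congr 1
    rw [← Matrix.mul_assoc, ← Matrix.mul_assoc, gl_mul_inv, Matrix.one_mul]
  have hdet : (Matrix.of M₀).det ≠ 0 := by
    intro h0
    have h1 := RingHom.map_det j (Matrix.of M₀)
    have h2' : j.mapMatrix (Matrix.of M₀) = (Matrix.of M₀).map j := rfl
    have h3 : (B.1 * (Matrix.of M₀).map j).det = 0 := by
      rw [Matrix.det_mul, ← h2', ← h1, h0, map_zero, mul_zero]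
    rw [hBM, Matrix.det_smul, Matrix.det_mul] at h3
    have h4 : (g.1 : Matrix ι ι F).det ≠ 0 := (Matrix.GeneralLinearGroup.det g.1).ne_zero
    have h5 : (B.1 : Matrix ι ι F).det ≠ 0 := (Matrix.GeneralLinearGroup.det B).ne_zero
    exact mul_ne_zero (pow_ne_zero _ ha0) (mul_ne_zero h4 h5) h3
  have hQM : ∀ v : ι → F₀, j (Q₀ (Matrix.of M₀ *ᵥ v)) =
      (a * a * (mulr Q g : F)) * j (Q₀ v) := by
    intro v
    rw [hB, hB]
    have h1 : (fun i => j ((Matrix.of M₀ *ᵥ v) i)) =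
        (Matrix.of M₀).map j *ᵥ (fun i => j (v i)) := by
      funext i
      exact RingHom.map_mulVec j (Matrix.of M₀) v i
    rw [h1, Matrix.mulVec_mulVec, hBM, Matrix.smul_mulVec, Q_smul, ← Matrix.mulVec_mulVec,
      mulr_spec]
    ring
  obtain ⟨v₀, hv₀⟩ := SemiSimO.exists_Q_ne_zero (Q := Q₀)
  obtain ⟨c₀, hc₀⟩ : ∃ c₀ : F₀, c₀ = Q₀ (Matrix.of M₀ *ᵥ v₀) / Q₀ v₀ := ⟨_, rfl⟩
  have hjc₀ : j c₀ = a * a * (mulr Q g : F) := by
    rw [hc₀, map_div₀, hQM v₀]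
    have : j (Q₀ v₀) ≠ 0 := (map_ne_zero j).mpr hv₀
    field_simp
  have hc₀0 : c₀ ≠ 0 := by
    intro h0
    rw [h0, map_zero] at hjc₀
    exact mul_ne_zero (mul_ne_zero ha0 ha0) (Units.ne_zero _) hjc₀.symm
  have hsim : ∀ v : ι → F₀, Q₀ (Matrix.of M₀ *ᵥ v) = c₀ * Q₀ v := by
    intro v
    apply hjinj
    rw [hQM, map_mul, hjc₀]
  obtain ⟨g₀, hg₀⟩ : ∃ g₀ : ↥(GO Q₀), (g₀.1 : Matrix ι ι F₀) = Matrix.of M₀ :=
    ⟨⟨Matrix.GeneralLinearGroup.mkOfDetNeZero (Matrix.of M₀) hdet,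
      ⟨Units.mk0 c₀ hc₀0, fun v => hsim v⟩⟩, rfl⟩
  refine ⟨g₀, a, ha0, ?_⟩
  rw [mapGO'_val, hg₀, hBM, Matrix.smul_mul, Matrix.mul_assoc, gl_mul_inv, Matrix.mul_one]

include hp hcp hcp₀ in
/-- the kernel -/
theorem mapGO'_ker (g₀ : ↥(GO Q₀)) :
    fGO Q (mapGO' j Q₀ Q B c hc hB g₀) = 1 ↔ fGO Q₀ g₀ = 1 := by
  haveI := nonempty_idx Q
  have hjinj : Function.Injective j := RingHom.injective j
  have hιinj : Function.Injective (fun M : Matrix ι ι F₀ => M.map j) :=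
    Matrix.map_injective hjinj
  rw [fGO_eq_one_iff' p, fGO_eq_one_iff' p, mapGO'_val]
  constructor
  · rintro ⟨ν, hν⟩
    have h1 : (g₀.1 : Matrix ι ι F₀).map j = ν • (1 : Matrix ι ι F) := by
      calc (g₀.1 : Matrix ι ι F₀).map j
          = (B⁻¹).1 * (B.1 * (g₀.1 : Matrix ι ι F₀).map j * (B⁻¹).1) * B.1 := by
            simp only [Matrix.mul_assoc]
            rw [gl_inv_mul, Matrix.mul_one, ← Matrix.mul_assoc, gl_inv_mul, Matrix.one_mul]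
        _ = ν • (1 : Matrix ι ι F) := by
            rw [hν, Matrix.mul_smul, Matrix.mul_one, Matrix.smul_mul, gl_inv_mul]
    have i0 : ι := Classical.arbitrary ι
    have hν0 : j ((g₀.1 : Matrix ι ι F₀) i0 i0) = ν := by
      have := congrFun (congrFun h1 i0) i0
      simpa using this
    refine ⟨(g₀.1 : Matrix ι ι F₀) i0 i0, ?_⟩
    apply hιinj
    simp only
    rw [h1]
    ext s t
    rw [Matrix.map_apply, Matrix.smul_apply, Matrix.smul_apply, Matrix.one_apply,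
      Matrix.one_apply]
    by_cases hst : s = t
    · rw [if_pos hst, if_pos hst, smul_eq_mul, smul_eq_mul, mul_one, mul_one, hν0]
    · rw [if_neg hst, if_neg hst, smul_zero, smul_zero, map_zero]
  · rintro ⟨c₀, hc₀⟩
    refine ⟨j c₀, ?_⟩
    have h1 : (g₀.1 : Matrix ι ι F₀).map j = j c₀ • (1 : Matrix ι ι F) := by
      rw [hc₀]
      ext s t
      rw [Matrix.map_apply, Matrix.smul_apply, Matrix.smul_apply, Matrix.one_apply,
        Matrix.one_apply]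
      by_cases hst : s = t
      · rw [if_pos hst, if_pos hst, smul_eq_mul, smul_eq_mul, mul_one, mul_one]
      · rw [if_neg hst, if_neg hst, smul_zero, smul_zero, map_zero]
    rw [h1, Matrix.mul_smul, Matrix.mul_one, Matrix.smul_mul, gl_mul_inv]

include hp hcp hcp₀ hμ hΦB in
/-- the centralizer of the semilinear similarity in the image of a subgroup of the similarity
group, when the subgroup corresponds to a subgroup over the fixed field -/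
theorem cent_iso_sub (hj : ∀ a : F, Φ.σ a = a ↔ a ∈ Set.range j)
    (K : Subgroup ↥(GO Q)) (K₀ : Subgroup ↥(GO Q₀))
    (hKs : ∀ g g' : ↥(GO Q), g ∈ K → ∀ a : F, a ≠ 0 →
      (g'.1 : Matrix ι ι F) = a • (g.1 : Matrix ι ι F) → g' ∈ K)
    (hcompat : ∀ g₀ : ↥(GO Q₀), mapGO' j Q₀ Q B c hc hB g₀ ∈ K ↔ g₀ ∈ K₀) :
    Nonempty (↥(K.map (fGO Q) ⊓ Subgroup.centralizer {Φ.gam}) ≃* ↥(K₀.map (fGO Q₀))) := by
  obtain ⟨Ψ, hΨ⟩ : ∃ Ψ : ↥K₀ →* MulAut (Cfsg.POmega F ⇑Q),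
      Ψ = ((fGO Q).comp (mapGO' j Q₀ Q B c hc hB)).comp K₀.subtype := ⟨_, rfl⟩
  obtain ⟨f₀, hf₀⟩ : ∃ f₀ : ↥K₀ →* MulAut (Cfsg.POmega F₀ ⇑Q₀),
      f₀ = (fGO Q₀).comp K₀.subtype := ⟨_, rfl⟩
  have hΨa : ∀ g₀ : ↥K₀, Ψ g₀ = fGO Q (mapGO' j Q₀ Q B c hc hB g₀.1) := fun g₀ => by
    rw [hΨ]; rfl
  have hf₀a : ∀ g₀ : ↥K₀, f₀ g₀ = fGO Q₀ g₀.1 := fun g₀ => by rw [hf₀]; rfl
  have hjfix : ∀ a : F₀, Φ.σ (j a) = j a := fun a => (hj _).mpr ⟨a, rfl⟩
  have hrange : Ψ.range = K.map (fGO Q) ⊓ Subgroup.centralizer {Φ.gam} := by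
    apply le_antisymm
    · rintro _ ⟨g₀, rfl⟩
      rw [hΨa]
      refine Subgroup.mem_inf.mpr ⟨⟨_, (hcompat g₀.1).mpr g₀.2, rfl⟩, ?_⟩
      rw [Subgroup.mem_centralizer_iff]
      intro y hy
      rw [Set.mem_singleton_iff] at hy
      rw [hy]
      exact mapGO'_comm j Q₀ Q B c hc hB Φ μ hΦB hjfix g₀.1
    · intro β hβ
      obtain ⟨⟨g, hgK, rfl⟩, hβ2⟩ := Subgroup.mem_inf.mp hβ
      rw [Subgroup.mem_centralizer_iff] at hβ2
      have hcomm := hβ2 Φ.gam (Set.mem_singleton _)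
      obtain ⟨g₀, a, ha0, hg₀⟩ := exists_descent' j Q₀ Q B c hc hB Φ μ hμ hΦB p hj g hcomm
      have hmem : g₀ ∈ K₀ := (hcompat g₀).mp (hKs g _ hgK a ha0 hg₀)
      refine ⟨⟨g₀, hmem⟩, ?_⟩
      rw [hΨa]
      exact fGO_eq_of_smul g _ a ha0 hg₀
  have hker : Ψ.ker = f₀.ker := by
    ext g₀
    rw [MonoidHom.mem_ker, MonoidHom.mem_ker, hΨa, hf₀a]
    exact mapGO'_ker j Q₀ Q B c hc hB p g₀.1
  have hf₀range : f₀.range = K₀.map (fGO Q₀) := by
    rw [hf₀, MonoidHom.range_comp, Subgroup.range_subtype]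
  have e1 : ↥K₀ ⧸ Ψ.ker ≃* ↥Ψ.range := QuotientGroup.quotientKerEquivRange Ψ
  have e2 : ↥Ψ.range ≃* ↥(K.map (fGO Q) ⊓ Subgroup.centralizer {Φ.gam}) :=
    MulEquiv.subgroupCongr hrange
  have e3 : ↥K₀ ⧸ f₀.ker ≃* ↥K₀ ⧸ Ψ.ker := QuotientGroup.quotientMulEquivOfEq hker.symm
  have e4 : ↥K₀ ⧸ f₀.ker ≃* ↥f₀.range := QuotientGroup.quotientKerEquivRange f₀
  have e5 : ↥f₀.range ≃* ↥(K₀.map (fGO Q₀)) := MulEquiv.subgroupCongr hf₀range
  exact ⟨(e2.symm.trans (e1.symm.trans (e3.symm.trans (e4.trans e5))))⟩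

end cent

end Cfsg.Agent.Lib.Helper16.FieldCentMinus
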