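import Mathlib
import Cfsg.Agent.Lib.Helper16.FieldCentOrth

set_option autoImplicit false
set_option linter.unusedSectionVars false
set_option linter.unusedVariables false
set_option linter.style.haveILetI false

namespace Cfsg.Agent.Lib.Helper16.FieldCentOmegaOdd

open Matrix Cfsg QuadraticMap Cfsg.Agent.Lib.Helper6 Cfsg.Agent.Lib.Helper6.AutOrt
  Cfsg.Agent.Lib.Helper6.SimAut Cfsg.Agent.Lib.Helper6.AutInduced Cfsg.Agent.Lib.Helper6.OmegaAut
  Cfsg.Agent.Lib.Helper16.H90GL Cfsg.Agent.Lib.Helper16.OrthClassify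
  Cfsg.Agent.Lib.Helper16.OrthDescent Cfsg.Agent.Lib.Helper16.FieldCosetOrth
  Cfsg.Agent.Lib.Helper16.FieldCosetOmegaOdd Cfsg.Agent.Lib.Helper16.SplitCount
  Cfsg.Agent.Lib.Helper16.FieldCentOrth
open Cfsg.Agent.Lib.Helper6.AutPSL (sG sG_val gl_mul_inv gl_inv_mul)
open Cfsg.Agent.Lib.Helper16.FieldCentPSL (mem_cent_comap)

theorem split_two {X Γ : Type*} [Group X] [Group Γ] (H K : Subgroup X) [hKn : K.Normal] (x : X)
    (c : Γ →* X) (hc : c.range = H) (hKH : K ≤ H) (h2 : K.relIndex H = 2) :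
    ((∀ g, x * c g = c g * x → c g ∈ K) → Cfsg.splitClassCount H K x = 2) ∧
    ((∃ g, x * c g = c g * x ∧ c g ∉ K) → Cfsg.splitClassCount H K x = 1) := by
  have hcH : ∀ g, c g ∈ H := fun g => by rw [← hc]; exact ⟨g, rfl⟩
  obtain ⟨c', hc'⟩ : ∃ c' : Γ →* ↥H, ∀ g, (c' g : X) = c g := ⟨c.codRestrict H hcH, fun g => rfl⟩
  obtain ⟨δ, hδ⟩ : ∃ δ : Γ →* ↥H ⧸ K.subgroupOf H, δ = (QuotientGroup.mk' _).comp c' := ⟨_, rfl⟩
  have hδs : Function.Surjective δ := by
    intro a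
    obtain ⟨h, rfl⟩ := QuotientGroup.mk'_surjective _ a
    have : h.1 ∈ c.range := by rw [hc]; exact h.2
    obtain ⟨g, hg⟩ := this
    refine ⟨g, ?_⟩
    rw [hδ]
    change QuotientGroup.mk' _ (c' g) = _
    congr 1
    apply Subtype.ext
    rw [hc', hg]
  have hK : ∀ g, c g ∈ K ↔ δ g = 1 := by
    intro g
    rw [hδ]
    change _ ↔ QuotientGroup.mk' _ (c' g) = 1
    rw [QuotientGroup.mk'_apply, QuotientGroup.eq_one_iff, Subgroup.mem_subgroupOf, hc']
  have hcount := splitClassCount_eq H K x c hc hKH δ hδs hK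
  have hcardA : Nat.card (↥H ⧸ K.subgroupOf H) = 2 := by
    rw [← Subgroup.index_eq_card]; exact h2
  constructor
  · intro hall
    have hD : ((Subgroup.centralizer {x}).comap c).map δ = ⊥ := by
      rw [eq_bot_iff]
      rintro _ ⟨g, hg, rfl⟩
      rw [Subgroup.mem_bot, ← hK]
      exact hall g ((mem_cent_comap c x g).mp hg)
    rw [hcount, hD, Subgroup.index_bot, hcardA]
  · rintro ⟨g, hg, hgK⟩
    haveI : Fact (Nat.Prime (Nat.card (↥H ⧸ K.subgroupOf H))) := ⟨by rw [hcardA]; exact Nat.prime_two⟩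
    have hD : ((Subgroup.centralizer {x}).comap c).map δ = ⊤ := by
      rcases Subgroup.eq_bot_or_eq_top_of_prime_card
        (((Subgroup.centralizer {x}).comap c).map δ) with h | h
      · exfalso
        apply hgK
        rw [hK, ← Subgroup.mem_bot, ← h]
        exact Subgroup.mem_map_of_mem δ ((mem_cent_comap c x g).mpr hg)
      · exact h
    rw [hcount, hD, Subgroup.index_top]

variable {F : Type*} [Field F] [Fintype F] {ι : Type} [Fintype ι] [DecidableEq ι]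

section
variable {Q : QuadraticForm F (ι → F)} [hS : Std Q]
  (p : ℕ) [hp : Fact p.Prime] [hcp : CharP F p]

include hp hcp in
theorem fGO_mem_Inn_iff (g : ↥(GO Q)) :
    fGO Q g ∈ Cfsg.Inn (Cfsg.POmega F ⇑Q) ↔
      ∃ (c : F) (ω : ↥(Cfsg.isometryGroup F ⇑Q)), ω ∈ Cfsg.Omega F ⇑Q ∧
        (g.1 : Matrix ι ι F) = c • ((ω.1 : GL ι F) : Matrix ι ι F) := by
  haveI := nonempty_idx Q
  rw [Inn_eq, img_eq_map Q _ ((OmX_le _).trans (isometryGroup_le_GO Q))]
  constructor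
  · rintro ⟨g', hg', e⟩
    rw [SetLike.mem_coe, Subgroup.mem_subgroupOf, mem_OmX] at hg'
    obtain ⟨s, hs⟩ := hg'
    have h1 : fGO Q (g'⁻¹ * g) = 1 := by rw [map_mul, map_inv, e, inv_mul_cancel]
    obtain ⟨c, hc⟩ := (fGO_eq_one_iff' p _).mp h1
    refine ⟨c, s.1, s.2, ?_⟩
    have h2 : (g.1 : Matrix ι ι F) = (g'.1 : Matrix ι ι F) * ((g'⁻¹ * g : ↥(GO Q)).1 : Matrix ι ι F) := by
      rw [← Units.val_mul, ← Subgroup.coe_mul, mul_inv_cancel_left]
    rw [h2, hc, hs]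
    simp
  · rintro ⟨c, ω, hω, e⟩
    have hc0 : c ≠ 0 := by
      intro h0
      rw [h0, zero_smul] at e
      exact gl_ne_zero' g.1 e
    refine ⟨⟨ω.1, isometryGroup_le_GO Q ω.2⟩, ?_, ?_⟩
    · rw [SetLike.mem_coe, Subgroup.mem_subgroupOf, mem_OmX]
      exact ⟨⟨ω, hω⟩, rfl⟩
    · exact (fGO_eq_of_smul _ g c hc0 e).symm

end

section basechange
variable {F₀ : Type*} [Field F₀] (j : F₀ →+* F) (Q₀ : QuadraticForm F₀ (ι → F₀))
  (Q : QuadraticForm F (ι → F)) (hjQ : ∀ v : ι → F₀, Q (fun i => j (v i)) = j (Q₀ v))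

include hjQ in
theorem refl_map (v : ι → F₀) :
    (Cfsg.reflectionMatrix ⇑Q₀ v).map j = Cfsg.reflectionMatrix ⇑Q (fun i => j (v i)) := by
  ext a b
  unfold Cfsg.reflectionMatrix Cfsg.polarVec
  rw [Matrix.map_apply, Matrix.sub_apply, Matrix.sub_apply, Matrix.smul_apply, Matrix.smul_apply,
    Matrix.vecMulVec_apply, Matrix.vecMulVec_apply, map_sub, smul_eq_mul, smul_eq_mul, map_mul,
    map_mul, map_inv₀, ← hjQ, ← polar_map j Q₀ Q hjQ, single_map]
  congr 1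
  rw [Matrix.one_apply, Matrix.one_apply]
  split_ifs <;> simp

include hjQ in
theorem refl_list_map (vs : List (ι → F₀)) :
    ((vs.map (fun v => Cfsg.reflectionMatrix ⇑Q₀ v)).prod).map j =
      ((vs.map (fun v : ι → F₀ => (fun i => j (v i)))).map
        (fun v => Cfsg.reflectionMatrix ⇑Q v)).prod := by
  induction vs with
  | nil =>
    simp only [List.map_nil, List.prod_nil]
    ext a b
    rw [Matrix.map_apply, Matrix.one_apply, Matrix.one_apply]
    split_ifs <;> simp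
  | cons v vs ih =>
    rw [List.map_cons, List.prod_cons, Matrix.map_mul, ih, refl_map j Q₀ Q hjQ, List.map_cons,
      List.map_cons, List.prod_cons]

end basechange

section squares
variable {F : Type*} [Field F] [Fintype F] {F₀ : Type*} [Field F₀] [Fintype F₀]

/-- every element of the subfield of index two is a square -/
theorem isSquare_of_quadratic (j : F₀ →+* F) (hodd : Odd (Fintype.card F₀))
    (hcard : Fintype.card F = Fintype.card F₀ ^ 2) (b : F₀) : IsSquare (j b) := by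
  by_cases hb : b = 0
  · rw [hb, map_zero]
    exact ⟨0, by ring⟩
  have hjb : j b ≠ 0 := (map_ne_zero j).mpr hb
  have hoddF : Odd (Fintype.card F) := by rw [hcard]; exact hodd.pow
  have hch : ringChar F ≠ 2 := by
    intro h
    have := FiniteField.even_card_of_char_two h
    rw [← Nat.even_iff] at this
    exact (Nat.not_even_iff_odd.mpr hoddF) this
  rw [FiniteField.isSquare_iff hch hjb]
  obtain ⟨k, hk⟩ := hodd
  have h1 : Fintype.card F / 2 = (Fintype.card F₀ - 1) * (k + 1) := by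
    rw [hcard, hk]
    have : (2 * k + 1) ^ 2 = 2 * ((2 * k + 1 - 1) * (k + 1)) + 1 := by
      rw [Nat.add_sub_cancel]; ring
    rw [this]
    omega
  rw [h1, pow_mul, ← map_pow, FiniteField.pow_card_sub_one_eq_one b hb, map_one, one_pow]

/-- a nonsquare of the fixed field of an automorphism of odd order stays a nonsquare -/
theorem not_isSquare_of_odd (j : F₀ →+* F) (h2 : (2 : F) ≠ 0) (σ : F ≃+* F) {r : ℕ}
    (hσr : σ ^ r = 1) (hr : Odd r) (hj : ∀ a : F, σ a = a ↔ a ∈ Set.range j) (a : F₀)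
    (ha : ¬ IsSquare a) : ¬ IsSquare (j a) := by
  rintro ⟨b, hb⟩
  have hσb : σ b * σ b = b * b := by
    rw [← map_mul, ← hb]
    exact (hj _).mpr ⟨a, rfl⟩
  have h3 : (σ b - b) * (σ b + b) = 0 := by linear_combination hσb
  rcases mul_eq_zero.mp h3 with h | h
  · have h4 : σ b = b := by linear_combination h
    obtain ⟨b₀, hb₀⟩ := (hj b).mp h4
    apply ha
    refine ⟨b₀, ?_⟩
    apply RingHom.injective j
    rw [hb, map_mul, hb₀]
  · have h4 : σ b = -b := by linear_combination h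
    have h5 : ∀ k : ℕ, (σ ^ k) b = (-1) ^ k * b := by
      intro k
      induction k with
      | zero => simp
      | succ k ih =>
        rw [pow_succ, RingAut.mul_apply, h4, map_neg, ih]
        ring
    have h6 := h5 r
    rw [hσr, hr.neg_one_pow] at h6
    have h7 : b = 0 := by
      have h8 : (2 : F) * b = 0 := by
        have : (1 : RingAut F) b = b := rfl
        rw [this] at h6
        linear_combination h6
      exact (mul_eq_zero.mp h8).resolve_left h2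
    apply ha
    refine ⟨0, ?_⟩
    apply RingHom.injective j
    rw [hb, h7]
    simp

end squares

theorem exists_Q_eq (Q : QuadraticForm F (ι → F)) [hS : Std Q] (c : F) : ∃ v : ι → F, Q v = c := by
  obtain ⟨T⟩ := hS.triple
  refine ⟨T.u 0 + c • T.w 0, ?_⟩
  rw [Q_add, Q_smul, T.hQu, T.hQw, QuadraticMap.polar_smul_right, T.huw, if_pos rfl]
  simp

theorem det_refl_list (Q : QuadraticForm F (ι → F)) (h2 : (2 : F) ≠ 0) (vs : List (ι → F))
    (hvs : ∀ v ∈ vs, Q v ≠ 0) :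
    ((vs.map (fun v => Cfsg.reflectionMatrix ⇑Q v)).prod).det = (-1) ^ vs.length := by
  induction vs with
  | nil => simp
  | cons v vs ih =>
    rw [List.map_cons, List.prod_cons, Matrix.det_mul,
      det_reflectionMatrix Q h2 v (hvs v List.mem_cons_self),
      ih (fun w hw => hvs w (List.mem_cons_of_mem _ hw)), List.length_cons, pow_succ]
    ring

theorem isSquare_list_prod {R : Type*} [CommMonoid R] (l : List R) (h : ∀ a ∈ l, IsSquare a) :
    IsSquare l.prod := by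
  induction l with
  | nil => exact ⟨1, by simp⟩
  | cons a l ih =>
    rw [List.prod_cons]
    exact (h a List.mem_cons_self).mul (ih fun b hb => h b (List.mem_cons_of_mem _ hb))


section split
variable {F₀ : Type*} [Field F₀] [Fintype F₀] (j : F₀ →+* F) (Q₀ : QuadraticForm F₀ (ι → F₀))
  (Q : QuadraticForm F (ι → F)) [hS : Std Q] [hS₀ : Std Q₀]
  (hjQ : ∀ v : ι → F₀, Q (fun i => j (v i)) = j (Q₀ v))
  (p : ℕ) [hp : Fact p.Prime] [hcp : CharP F p] [hcp₀ : CharP F₀ p]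

include hp hcp hcp₀ hjQ in
theorem split_odd (hP : HP Q) (h2 : (2 : F) ≠ 0) (hoddι : Odd (Fintype.card ι)) (σ : F ≃+* F)
    (hj : ∀ a : F, σ a = a ↔ a ∈ Set.range j) (Fσ : SemiSimO Q)
    (hFS : ∀ x, Fσ.S x = fun i => σ (x i)) (α : MulAut (Cfsg.POmega F ⇑Q)) (r : ℕ)
    (hσr : σ ^ r = 1) (hodd₀ : Odd (Fintype.card F₀))
    (hcard : r = 2 → Fintype.card F = Fintype.card F₀ ^ 2) :
    (Odd r → Cfsg.splitClassCount (Cfsg.pgoAut F ⇑Q) (Cfsg.Inn (Cfsg.POmega F ⇑Q))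
      (α⁻¹ * Fσ.gam * α) = 1) ∧
    (r = 2 → Cfsg.splitClassCount (Cfsg.pgoAut F ⇑Q) (Cfsg.Inn (Cfsg.POmega F ⇑Q))
      (α⁻¹ * Fσ.gam * α) = 2) := by
  classical
  haveI := nonempty_idx Q
  have hQ := hS.nondeg
  have hQ₀ := hS₀.nondeg
  have h7 := hS.seven
  have h5 : 5 ≤ Fintype.card ι := by omega
  obtain ⟨T⟩ := hS.triple
  have h2₀ : (2 : F₀) ≠ 0 := by
    intro h
    apply h2
    have := congrArg j h
    rwa [map_ofNat, map_zero] at this
  have hKH := Inn_le_pgoAut Q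
  have hrel : (Cfsg.Inn (Cfsg.POmega F ⇑Q)).relIndex (Cfsg.pgoAut F ⇑Q) = 2 := by
    rw [pgoAut_eq_psoAut Q hQ h5 hoddι]
    exact relIndex_Inn_psoAut_of_odd Q h2 hQ h5 hoddι T
  have hst := split_two (Cfsg.pgoAut F ⇑Q) (Cfsg.Inn (Cfsg.POmega F ⇑Q)) (α⁻¹ * Fσ.gam * α)
    (cA α) (cA_range p hP α) hKH hrel
  have hcK : ∀ g : ↥(GO Q), cA α g ∈ Cfsg.Inn (Cfsg.POmega F ⇑Q) ↔
      fGO Q g ∈ Cfsg.Inn (Cfsg.POmega F ⇑Q) := by
    intro g
    rw [cA_apply]
    have hN := Cfsg.innNormal (Cfsg.POmega F ⇑Q)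
    constructor
    · intro h
      have := hN.conj_mem _ h α
      have e : α * (α⁻¹ * fGO Q g * α) * α⁻¹ = fGO Q g := by group
      rwa [e] at this
    · intro h
      have := hN.conj_mem _ h α⁻¹
      rwa [inv_inv] at this
  constructor
  · intro hrodd
    apply hst.2
    have hch₀ : ringChar F₀ ≠ 2 := by
      intro h
      have := FiniteField.even_card_of_char_two h
      rw [← Nat.even_iff] at this
      exact (Nat.not_even_iff_odd.mpr hodd₀) this
    obtain ⟨a, ha⟩ := FiniteField.exists_nonsquare hch₀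
    have ha0 : a ≠ 0 := by
      intro h
      apply ha
      rw [h]
      exact ⟨0, by ring⟩
    obtain ⟨u₀, hu₀⟩ := exists_Q_eq Q₀ 1
    obtain ⟨v₀, hv₀⟩ := exists_Q_eq Q₀ a
    have hl₀ : ∀ v ∈ [u₀, v₀], Q₀ v ≠ 0 := by
      intro v hv
      simp only [List.mem_cons, List.not_mem_nil, or_false] at hv
      rcases hv with rfl | rfl
      · rw [hu₀]; exact one_ne_zero
      · rw [hv₀]; exact ha0
    obtain ⟨gI₀, hgI₀⟩ := exists_of_list' Q₀ [u₀, v₀] hl₀
    obtain ⟨g₀, hg₀⟩ : ∃ g₀ : ↥(GO Q₀), g₀.1 = gI₀.1 :=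
      ⟨⟨gI₀.1, isometryGroup_le_GO Q₀ gI₀.2⟩, rfl⟩
    refine ⟨mapGO j Q₀ Q hjQ h2 g₀, map_comm j Q₀ Q hjQ p h2 σ hj Fσ hFS α g₀, ?_⟩
    rw [hcK, fGO_mem_Inn_iff p]
    rintro ⟨c, ω, hω, e⟩
    obtain ⟨ws, hws⟩ : ∃ ws : List (ι → F), ws = [u₀, v₀].map (fun v : ι → F₀ => (fun i => j (v i))) :=
      ⟨_, rfl⟩
    have hl : ∀ w ∈ ws, Q w ≠ 0 := by
      intro w hw
      rw [hws] at hw
      obtain ⟨v, hv, rfl⟩ := List.mem_map.mp hw
      rw [hjQ]
      exact (map_ne_zero j).mpr (hl₀ v hv)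
    have hmat : ((mapGO j Q₀ Q hjQ h2 g₀).1 : Matrix ι ι F) =
        (ws.map (fun v => Cfsg.reflectionMatrix ⇑Q v)).prod := by
      rw [mapGO_val, hg₀, hgI₀, refl_list_map j Q₀ Q hjQ, hws]
    obtain ⟨gI, hgI⟩ := exists_of_list' Q ws hl
    have e' : ((gI.1 : GL ι F) : Matrix ι ι F) = c • ((ω.1 : GL ι F) : Matrix ι ι F) := by
      rw [hgI, ← hmat, e]
    have hcc : c * c = 1 := by
      obtain ⟨x, hx⟩ := SemiSimO.exists_Q_ne_zero (Q := Q)
      have h1 := (mem_isometryGroup_iff Q gI.1).mp gI.2 x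
      rw [e', Matrix.smul_mulVec, Q_smul, (mem_isometryGroup_iff Q ω.1).mp ω.2 x] at h1
      have : (c * c - 1) * Q x = 0 := by linear_combination h1
      rcases mul_eq_zero.mp this with h | h
      · linear_combination h
      · exact absurd h hx
    have hdetg : ((gI.1 : GL ι F) : Matrix ι ι F).det = 1 := by
      rw [hgI, det_refl_list Q h2 ws hl, hws]
      simp
    have hdetω : ((ω.1 : GL ι F) : Matrix ι ι F).det = 1 :=
      ((mem_SOGL Q ω.1).mp (OmX_le_SO Q ((mem_OmX _ _).mpr ⟨⟨ω, hω⟩, rfl⟩))).2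
    have hcn : c ^ Fintype.card ι = 1 := by
      have := congrArg Matrix.det e'
      rw [Matrix.det_smul, hdetg, hdetω, mul_one] at this
      exact this.symm
    have hc1 : c = 1 := by
      obtain ⟨k, hk⟩ := hoddι
      rw [hk, pow_succ, pow_mul, pow_two, hcc, one_pow, one_mul] at hcn
      exact hcn
    have hgω : gI = ω := by
      apply Subtype.ext
      apply Units.ext
      rw [e', hc1, one_smul]
    rw [← hgω, mem_Omega_iff_list' Q h2 hQ (by omega) gI ws hl hgI] at hω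
    obtain ⟨-, hsq⟩ := hω
    apply not_isSquare_of_odd j h2 σ hσr hrodd hj a ha
    rw [hws] at hsq
    simpa [hjQ, hu₀, hv₀] using hsq
  · intro hr2
    apply hst.1
    intro g hcomm
    rw [hcK, fGO_mem_Inn_iff p]
    rw [cA_comm_iff p α σ Fσ hFS] at hcomm
    obtain ⟨μ, hμ⟩ := hcomm
    obtain ⟨g₀, a, ha0, hg₀⟩ := exists_descent j Q₀ Q hjQ h2 σ hj g μ hμ
    obtain ⟨c₀, s₀, hs₀, hgs⟩ := exists_SO_of_GO Q₀ hQ₀ hoddι g₀
    obtain ⟨hs₀O, hs₀det⟩ := (mem_SOGL Q₀ s₀).mp hs₀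
    obtain ⟨vs, hvs, hprod⟩ := exists_list' Q₀ hQ₀ (Or.inr (by omega)) ⟨s₀, hs₀O⟩
    change (s₀ : Matrix ι ι F₀) = _ at hprod
    have hlen : Even vs.length := by
      have h1 := det_refl_list Q₀ h2₀ vs hvs
      rw [← hprod, hs₀det] at h1
      by_contra hne
      rw [Nat.not_even_iff_odd] at hne
      rw [hne.neg_one_pow] at h1
      apply h2₀
      linear_combination h1
    obtain ⟨ws, hws⟩ : ∃ ws : List (ι → F), ws = vs.map (fun v : ι → F₀ => (fun i => j (v i))) :=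
      ⟨_, rfl⟩
    have hl : ∀ w ∈ ws, Q w ≠ 0 := by
      intro w hw
      rw [hws] at hw
      obtain ⟨v, hv, rfl⟩ := List.mem_map.mp hw
      rw [hjQ]
      exact (map_ne_zero j).mpr (hvs v hv)
    obtain ⟨gI, hgI⟩ := exists_of_list' Q ws hl
    have hΩ : gI ∈ Cfsg.Omega F ⇑Q := by
      rw [mem_Omega_iff_list' Q h2 hQ (by omega) gI ws hl hgI]
      refine ⟨by rw [hws, List.length_map]; exact hlen, ?_⟩
      apply isSquare_list_prod
      intro b hb
      obtain ⟨w, hw, rfl⟩ := List.mem_map.mp hb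
      rw [hws] at hw
      obtain ⟨v, hv, rfl⟩ := List.mem_map.mp hw
      rw [hjQ]
      exact isSquare_of_quadratic j hodd₀ (hcard hr2) _
    refine ⟨a⁻¹ * j c₀, gI, hΩ, ?_⟩
    have h3 : (g.1 : Matrix ι ι F) = a⁻¹ • ((mapGO j Q₀ Q hjQ h2 g₀).1 : Matrix ι ι F) := by
      rw [hg₀, smul_smul, inv_mul_cancel₀ ha0, one_smul]
    rw [h3, mapGO_val, hgs, Units.val_mul, scalGL_val, Matrix.smul_mul, Matrix.one_mul, hprod,
      hgI, hws, ← refl_list_map j Q₀ Q hjQ, Matrix.map_smul' _ _ _ (map_mul j), smul_smul]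

end split


theorem cent_odd {F : Type*} [Field F] [Fintype F] {p f : ℕ} [Fact p.Prime]
    (hF : Fintype.card F = p ^ f) (hf : 1 ≤ f) (hodd : Odd (Fintype.card F)) {m : ℕ} (hm : 3 ≤ m)
    (Qf : (Unit ⊕ (Fin m ⊕ Fin m) → F) → F) (hQf : Qf = ⇑(QOdd F m))
    (x : MulAut (Cfsg.POmega F Qf)) (hx : Cfsg.IsFieldAutClassPOmega Qf x) {r : ℕ}
    (hr : r.Prime) (hxr : orderOf x = r) (F₀ : Type*) [Field F₀] [Fintype F₀]
    (hF₀ : Fintype.card F₀ = p ^ (f / r))
    (Qf₀ : (Unit ⊕ (Fin m ⊕ Fin m) → F₀) → F₀) (hQf₀ : Qf₀ = ⇑(QOdd F₀ m)) :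
    r ∣ f ∧ Nonempty (↥(Cfsg.pgoAut F Qf ⊓ Subgroup.centralizer {x}) ≃* ↥(Cfsg.pgoAut F₀ Qf₀)) ∧
    (Odd r → Cfsg.splitClassCount (Cfsg.pgoAut F Qf) (Cfsg.Inn (Cfsg.POmega F Qf)) x = 1) ∧
    (r = 2 → Cfsg.splitClassCount (Cfsg.pgoAut F Qf) (Cfsg.Inn (Cfsg.POmega F Qf)) x = 2) := by
  subst hQf hQf₀
  have h2 := two_ne_zero_of_odd hodd
  haveI := std_QOdd (F := F) h2 hm
  have hP := HP_QOdd (F := F) h2 hm
  haveI : CharP F p := charP_of_card_pow' hF
  haveI : CharP F₀ p := charP_of_card_pow' hF₀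
  obtain ⟨α, φ, σ, hσ1, hφ, e⟩ := hx
  have eφ := eq_gam_of_isFieldAut σ (fieldOdd F m σ) (fun _ => rfl) rfl φ hφ
  have hx' : x = α⁻¹ * (fieldOdd F m σ).gam * α := by rw [← eφ, ← e]; group
  have hordφ : orderOf φ = r := by
    rw [← e]
    have : α * x * α⁻¹ = MulAut.conj α x := rfl
    rw [this, MulEquiv.orderOf_eq, hxr]
  have hψφ : psiO p hP φ = σ := by rw [eφ, psiO_gam]; rfl
  have hσpow : σ ^ r = 1 := by
    rw [← hψφ, ← map_pow, ← hordφ, pow_orderOf_eq_one, map_one]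
  have hσr : orderOf σ = r := by
    have h2' := orderOf_dvd_of_pow_eq_one hσpow
    rcases (Nat.dvd_prime hr).mp h2' with h3 | h3
    · exfalso
      apply hσ1
      exact orderOf_eq_one_iff.mp h3
    · exact h3
  obtain ⟨hdvd, -⟩ := fixed_field_card hF σ r hσr hr.pos
  obtain ⟨j, hj⟩ := exists_embedding hF σ r hσr hr.pos F₀ hF₀
  have hoddp : Odd p := by
    rw [hF] at hodd
    exact Nat.Odd.of_mul_right (by
      have : p ^ f = p ^ (f - 1) * p := by rw [← pow_succ]; congr 1; omega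
      rwa [this] at hodd)
  have hodd₀ : Odd (Fintype.card F₀) := by rw [hF₀]; exact hoddp.pow
  have h2₀ := two_ne_zero_of_odd hodd₀
  haveI := std_QOdd (F := F₀) h2₀ hm
  have hjQ : ∀ v : Unit ⊕ (Fin m ⊕ Fin m) → F₀,
      QOdd F m (fun i => j (v i)) = j (QOdd F₀ m v) := by
    intro v
    rw [QOdd_apply, QOdd_apply]
    unfold Cfsg.quadFormOdd
    rw [map_add, map_pow, map_sum]
    congr 1
    apply Finset.sum_congr rfl
    intro i _
    rw [map_mul]
  have hsp := split_odd j (QOdd F₀ m) (QOdd F m) hjQ p hP h2 (by rw [card_II]; exact ⟨m, rfl⟩) σ hj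
    (fieldOdd F m σ) (fun _ => rfl) α r hσpow hodd₀ (by
      intro hr2
      rw [hF, hF₀, ← pow_mul, hr2]
      congr 1
      rw [hr2] at hdvd
      exact (Nat.div_mul_cancel hdvd).symm)
  refine ⟨hdvd, ?_, ?_, ?_⟩
  · rw [hx']
    exact cent_iso j (QOdd F₀ m) (QOdd F m) hjQ p hP h2 σ hj (fieldOdd F m σ) (fun _ => rfl) α
  · rw [hx']; exact hsp.1
  · rw [hx']; exact hsp.2


end Cfsg.Agent.Lib.Helper16.FieldCentOmegaOdd
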