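import Mathlib
import Cfsg.Agent.Lib.Helper6.ExtQuad
import Cfsg.Agent.Lib.Helper6.SiegelOmega
import Cfsg.Agent.Lib.Helper16.FieldCentOmegaOdd

/-!
# The two classes of maximal totally singular subspaces for the minus type form
(characteristic free)

Multiplying a similarity by a reflection changes whether it preserves the two classes over a
quadratic extension.
-/

set_option autoImplicit false
set_option linter.unusedSectionVars false
set_option linter.unusedVariables false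
set_option linter.style.haveILetI false

namespace Cfsg.Agent.Lib.Helper16.MinusPSC

open Module QuadraticMap Matrix Cfsg.Agent.Lib.Helper6 Cfsg.Agent.Lib.Helper6.SingClass
  Cfsg.Agent.Lib.Helper6.ExtQuad Cfsg.Agent.Lib.Helper15
  Cfsg.Agent.Lib.Helper16.FieldCentOmegaOdd

section disc
variable {F : Type*} [Field F] [Fintype F] (a b : F)
  (hab : ∀ z₁ z₂ : F, z₁ ^ 2 + a * z₁ * z₂ + b * z₂ ^ 2 = 0 → z₁ = 0 ∧ z₂ = 0)

include hab in
/-- the discriminant of an anisotropic binary form over a finite field does not vanish -/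
theorem disc_ne_zero' : a ^ 2 - 4 * b ≠ 0 := by
  by_cases h2 : (2 : F) = 0
  · have ha := a_ne_zero_of_two_eq_zero a b hab h2
    intro h
    apply ha
    have h4 : (4 : F) = 0 := by linear_combination 2 * h2
    rw [h4, zero_mul, sub_zero] at h
    exact (pow_eq_zero_iff two_ne_zero).mp h
  · exact disc_ne_zero a b h2 hab

end disc

section existence
universe u
variable {F : Type u} [Field F] (a b : F)

open Polynomial in
/-- a quadratic extension with a root of the binary form -/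
theorem exists_quadExt_root
    (hab : ∀ z₁ z₂ : F, z₁ ^ 2 + a * z₁ * z₂ + b * z₂ ^ 2 = 0 → z₁ = 0 ∧ z₂ = 0) :
    ∃ (K : Type u) (_ : Field K) (_ : Algebra F K) (ρ : K), finrank F K = 2 ∧
      ρ ^ 2 + algebraMap F K a * ρ + algebraMap F K b = 0 := by
  set p : F[X] := X ^ 2 + C a * X + C b with hp
  have hdeg : p.natDegree = 2 := by
    rw [hp]
    compute_degree!
  have hmonic : p.Monic := by
    rw [hp]
    monicity!
  have hirr : Irreducible p := by
    rw [hmonic.irreducible_iff_roots_eq_zero_of_degree_le_three (by omega) (by omega)]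
    rw [Multiset.eq_zero_iff_forall_notMem]
    intro x hx
    rw [mem_roots hmonic.ne_zero, IsRoot.def, hp] at hx
    simp only [eval_add, eval_pow, eval_X, eval_mul, eval_C] at hx
    have := hab x 1 (by linear_combination hx)
    exact one_ne_zero this.2
  haveI : Fact (Irreducible p) := ⟨hirr⟩
  refine ⟨AdjoinRoot p, inferInstance, inferInstance, AdjoinRoot.root p, ?_, ?_⟩
  · rw [(AdjoinRoot.powerBasis hmonic.ne_zero).finrank, AdjoinRoot.powerBasis_dim, hdeg]
  · have h := AdjoinRoot.eval₂_root p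
    rw [hp] at h
    simp only [eval₂_add, eval₂_mul, eval₂_pow, eval₂_X, eval₂_C] at h
    rw [AdjoinRoot.algebraMap_eq]
    exact h

end existence

section psc
universe u
variable {F : Type u} [Field F] [Fintype F] (m : ℕ) (a b : F)
  (hab : ∀ z₁ z₂ : F, z₁ ^ 2 + a * z₁ * z₂ + b * z₂ ^ 2 = 0 → z₁ = 0 ∧ z₂ = 0)

include hab in
/-- one of `g` and `g` times a reflection preserves the two classes -/
theorem psc_or (g : GL ((Fin m ⊕ Fin m) ⊕ Fin 2) F) (μ : F)
    (hg : ∀ v, Qgen m (binForm a b) (g.1 *ᵥ v) = μ * Qgen m (binForm a b) v)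
    (v : (Fin m ⊕ Fin m) ⊕ Fin 2 → F) (hv : Qgen m (binForm a b) v ≠ 0) :
    Cfsg.PreservesSingularClassesMinus m a b g.1 ∨
      Cfsg.PreservesSingularClassesMinus m a b
        (g.1 * Cfsg.reflectionMatrix ⇑(Qgen m (binForm a b)) v) := by
  classical
  obtain ⟨K, iK, aK, ρ, hK, hρ⟩ := exists_quadExt_root a b hab
  haveI : Module.Finite F K := Module.finite_of_finrank_pos (by rw [hK]; norm_num)
  haveI : Finite K := Module.finite_of_finite F
  haveI : Fintype K := Fintype.ofFinite K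
  set φ : F →+* K := algebraMap F K with hφ
  have hinj : Function.Injective φ := (algebraMap F K).injective
  have hfunK : Cfsg.quadFormMinus m K (φ a) (φ b) = ⇑(Qgen m (binForm (φ a) (φ b))) := by
    funext w
    rw [Qgen_apply, binForm_apply]
    rfl
  have hdiscK : φ a ^ 2 - 4 * φ b ≠ 0 := by
    intro h
    apply disc_ne_zero' a b hab
    apply hinj
    rw [map_zero, ← h, map_sub, map_pow, map_mul, map_ofNat]
  set QK := Qgen m (binForm (φ a) (φ b)) with hQK
  have hQKnd := nondegenerate_Qgen m (binForm (φ a) (φ b))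
    (nondegenerate_binForm_of_disc (φ a) (φ b) hdiscK)
  have hV : Fintype.card ((Fin m ⊕ Fin m) ⊕ Fin 2) = 2 * (m + 1) := by
    rw [Fintype.card_sum, Fintype.card_sum, Fintype.card_fin, Fintype.card_fin]; ring
  have hjQ : ∀ w : (Fin m ⊕ Fin m) ⊕ Fin 2 → F,
      QK (fun i => φ (w i)) = φ (Qgen m (binForm a b) w) := fun w => Q_map φ m a b w
  set gK : GL ((Fin m ⊕ Fin m) ⊕ Fin 2) K := Matrix.GeneralLinearGroup.map φ g with hgK
  have hgKval : (gK : Matrix ((Fin m ⊕ Fin m) ⊕ Fin 2) ((Fin m ⊕ Fin m) ⊕ Fin 2) K) =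
      (g : Matrix ((Fin m ⊕ Fin m) ⊕ Fin 2) ((Fin m ⊕ Fin m) ⊕ Fin 2) F).map φ := rfl
  have hsimK : ∀ w, QK ((gK : Matrix ((Fin m ⊕ Fin m) ⊕ Fin 2) ((Fin m ⊕ Fin m) ⊕ Fin 2) K) *ᵥ w) =
      φ μ * QK w := by
    intro w
    rw [hgKval]
    exact sim_map φ m a b _ μ hg w
  have hvK : QK (fun i => φ (v i)) ≠ 0 := by
    rw [hjQ]
    exact (map_ne_zero φ).mpr hv
  set rK : GL ((Fin m ⊕ Fin m) ⊕ Fin 2) K := (reflIso QK (fun i => φ (v i)) hvK).1 with hrK
  have hrKval : (rK : Matrix ((Fin m ⊕ Fin m) ⊕ Fin 2) ((Fin m ⊕ Fin m) ⊕ Fin 2) K) =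
      Cfsg.reflectionMatrix ⇑QK (fun i => φ (v i)) := rfl
  have hstep := dd_step QK hQKnd (m + 1) hV (U0K m ρ) (U0K_TS m (φ a) (φ b) ρ hρ)
    (U0K_finrank m ρ) gK (φ μ) hsimK rK (fun i => φ (v i)) hvK hrKval
  have hgrval : ((gK * rK : GL ((Fin m ⊕ Fin m) ⊕ Fin 2) K) :
      Matrix ((Fin m ⊕ Fin m) ⊕ Fin 2) ((Fin m ⊕ Fin m) ⊕ Fin 2) K) =
      (g.1 * Cfsg.reflectionMatrix ⇑(Qgen m (binForm a b)) v).map φ := by
    rw [Units.val_mul, hgKval, hrKval, Matrix.map_mul,
      refl_map φ (Qgen m (binForm a b)) QK hjQ v]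
  have hsimKr : ∀ w, QK (((gK * rK : GL ((Fin m ⊕ Fin m) ⊕ Fin 2) K) :
      Matrix ((Fin m ⊕ Fin m) ⊕ Fin 2) ((Fin m ⊕ Fin m) ⊕ Fin 2) K) *ᵥ w) = φ μ * QK w := by
    intro w
    rw [Units.val_mul, ← Matrix.mulVec_mulVec, hsimK, hrKval, refl_form QK _ hvK]
  by_cases he : Even (dd (m + 1) (U0K m ρ) (Cfsg.imageSubmodule
      (gK : Matrix ((Fin m ⊕ Fin m) ⊕ Fin 2) ((Fin m ⊕ Fin m) ⊕ Fin 2) K) (U0K m ρ)))
  · left
    refine ⟨K, iK, aK, hK, ?_⟩
    rw [hfunK, ← hgKval]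
    exact (psc_iff QK hQKnd (m + 1) hV (U0K m ρ) (U0K_TS m (φ a) (φ b) ρ hρ)
      (U0K_finrank m ρ) gK (φ μ) hsimK).mpr he
  · right
    refine ⟨K, iK, aK, hK, ?_⟩
    rw [hfunK, ← hgrval]
    exact (psc_iff QK hQKnd (m + 1) hV (U0K m ρ) (U0K_TS m (φ a) (φ b) ρ hρ)
      (U0K_finrank m ρ) (gK * rK) (φ μ) hsimKr).mpr (hstep.mpr he)

end psc

end Cfsg.Agent.Lib.Helper16.MinusPSC
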