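import Mathlib
import Cfsg.Agent.Lib.Helper16.MinusPSC

/-!
# Anisotropic binary forms and subfields of finite fields
-/

set_option autoImplicit false
set_option linter.unusedSectionVars false
set_option linter.unusedVariables false
set_option linter.style.haveILetI false

namespace Cfsg.Agent.Lib.Helper16.MinusField

open Module Cfsg.Agent.Lib.Helper16.MinusPSC

/-- the elements fixed by `σ` are fixed by the powers of `σ` -/
theorem mem_fixedPoints {F : Type*} [Field F] (σ : RingAut F) (c : F) (hc : σ c = c) :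
    c ∈ FixedPoints.subfield (Subgroup.zpowers σ) F := by
  intro g
  obtain ⟨k, hk⟩ := Subgroup.mem_zpowers_iff.mp g.2
  have hinv : σ⁻¹ c = c := by
    conv_lhs => rw [← hc]
    exact σ.symm_apply_apply c
  have : ∀ k : ℤ, (σ ^ k) c = c := by
    intro k
    induction k using Int.induction_on with
    | zero => rfl
    | succ i ih =>
      rw [zpow_add, zpow_one]
      change (σ ^ (i : ℤ)) (σ c) = c
      rw [hc, ih]
    | pred i ih =>
      rw [zpow_sub, zpow_one]
      change (σ ^ (-(i : ℤ))) (σ⁻¹ c) = c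
      rw [hinv, ih]
  change (g : RingAut F) c = c
  rw [← hk]
  exact this k

/-- an anisotropic binary form whose coefficients are fixed by an automorphism `σ` of a finite
field: the order of `σ` is odd -/
theorem not_two_dvd_of_aniso_fixed {F : Type*} [Field F] [Fintype F] (σ : RingAut F) (r : ℕ)
    (hr : orderOf σ = r) (hr0 : 0 < r) (a b : F) (ha : σ a = a) (hb : σ b = b)
    (hab : ∀ z₁ z₂ : F, z₁ ^ 2 + a * z₁ * z₂ + b * z₂ ^ 2 = 0 → z₁ = 0 ∧ z₂ = 0) : ¬ 2 ∣ r := by
  classical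
  intro h2
  have hfin : IsOfFinOrder σ := by rw [← orderOf_pos_iff, hr]; exact hr0
  haveI : Finite (Subgroup.zpowers σ) := hfin.finite_zpowers
  haveI : Fintype (Subgroup.zpowers σ) := Fintype.ofFinite _
  have h1 : finrank (FixedPoints.subfield (Subgroup.zpowers σ) F) F = r := by
    rw [FixedPoints.finrank_eq_card (Subgroup.zpowers σ) F, ← Nat.card_eq_fintype_card,
      Nat.card_zpowers, hr]
  obtain ⟨a₀, ha₀⟩ : ∃ a₀ : ↥(FixedPoints.subfield (Subgroup.zpowers σ) F), (a₀ : F) = a :=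
    ⟨⟨a, mem_fixedPoints σ a ha⟩, rfl⟩
  obtain ⟨b₀, hb₀⟩ : ∃ b₀ : ↥(FixedPoints.subfield (Subgroup.zpowers σ) F), (b₀ : F) = b :=
    ⟨⟨b, mem_fixedPoints σ b hb⟩, rfl⟩
  have hab₀ : ∀ z₁ z₂ : ↥(FixedPoints.subfield (Subgroup.zpowers σ) F),
      z₁ ^ 2 + a₀ * z₁ * z₂ + b₀ * z₂ ^ 2 = 0 → z₁ = 0 ∧ z₂ = 0 := by
    intro z₁ z₂ h
    have h' := congrArg Subtype.val h
    push_cast at h'
    rw [ha₀, hb₀] at h'
    have := hab z₁.1 z₂.1 h'
    exact ⟨Subtype.ext this.1, Subtype.ext this.2⟩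
  obtain ⟨K, iK, aK, ρ, hK, hρ⟩ := exists_quadExt_root a₀ b₀ hab₀
  obtain ⟨f⟩ := FiniteField.nonempty_algHom_of_finrank_dvd
    (F := ↥(FixedPoints.subfield (Subgroup.zpowers σ) F)) (K := K) (L := F)
    (by rw [hK, h1]; exact h2)
  have h3 := congrArg f hρ
  simp only [map_add, map_mul, map_pow, map_zero, AlgHom.commutes] at h3
  have e1 : algebraMap ↥(FixedPoints.subfield (Subgroup.zpowers σ) F) F a₀ = a := ha₀
  have e2 : algebraMap ↥(FixedPoints.subfield (Subgroup.zpowers σ) F) F b₀ = b := hb₀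
  rw [e1, e2] at h3
  have h4 := hab (f ρ) 1 (by linear_combination h3)
  exact one_ne_zero h4.2

/-- an irreducible binary form over a finite field has a root in every quadratic extension -/
theorem exists_root_of_finrank_two {F : Type*} [Field F] {K : Type*} [Field K] [Algebra F K]
    [Finite K] (hK : finrank F K = 2) (a b : F)
    (hab : ∀ z₁ z₂ : F, z₁ ^ 2 + a * z₁ * z₂ + b * z₂ ^ 2 = 0 → z₁ = 0 ∧ z₂ = 0) :
    ∃ ρ : K, ρ ^ 2 + algebraMap F K a * ρ + algebraMap F K b = 0 := by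
  obtain ⟨K', iK', aK', ρ', hK', hρ'⟩ := exists_quadExt_root a b hab
  obtain ⟨f⟩ := FiniteField.nonempty_algHom_of_finrank_dvd (F := F) (K := K') (L := K)
    (by rw [hK', hK])
  refine ⟨f ρ', ?_⟩
  have h3 := congrArg f hρ'
  simp only [map_add, map_mul, map_pow, map_zero, AlgHom.commutes] at h3
  exact h3

end Cfsg.Agent.Lib.Helper16.MinusField
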