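import Mathlib
import Cfsg.Agent.Lib.Helper16.SemiFrame
import Cfsg.Agent.Lib.Helper16.MinusType
import Cfsg.Agent.Lib.Helper16.MinusPSC
import Cfsg.Agent.Lib.Helper16.MinusField
import Cfsg.Agent.Lib.Helper16.FieldCosetOmegaOdd
import Cfsg.Agent.Lib.Helper16.UnitaryDescent
import Cfsg.Agent.Lib.Helper6.AutOrt21

/-!
# Field automorphisms of the minus type orthogonal groups: the coset criterion
-/

set_option autoImplicit false
set_option linter.unusedSectionVars false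
set_option linter.unusedVariables false
set_option linter.style.haveILetI false

namespace Cfsg.Agent.Lib.Helper16.FieldCosetMinus

open Matrix Cfsg QuadraticMap Cfsg.Agent.Lib.Helper6 Cfsg.Agent.Lib.Helper6.AutOrt
  Cfsg.Agent.Lib.Helper15
  Cfsg.Agent.Lib.Helper16.H90GL Cfsg.Agent.Lib.Helper16.FieldCosetOrth
  Cfsg.Agent.Lib.Helper16.FieldCosetOmegaOdd
  Cfsg.Agent.Lib.Helper16.QuadExt Cfsg.Agent.Lib.Helper16.SemiFrame
  Cfsg.Agent.Lib.Helper16.MinusType Cfsg.Agent.Lib.Helper16.MinusPSC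
  Cfsg.Agent.Lib.Helper16.MinusField Cfsg.Agent.Lib.Helper16.UnitaryDescent
open Cfsg.Agent.Lib.Helper6.AutPSL (sG sG_val gl_mul_inv gl_inv_mul)

/-- an element of order prime to the index lies in the normal subgroup -/
theorem mem_of_coprime_pow {X : Type*} [Group X] (H G : Subgroup X) [hH : H.Normal] (hHG : H ≤ G)
    (c r : ℕ) (hcard : Nat.card G = c * Nat.card H) (hH0 : 0 < Nat.card H)
    (hcr : Nat.Coprime c r) (x : X) (hx : x ∈ G) (hxr : x ^ r = 1) : x ∈ H := by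
  have h1 := Subgroup.card_mul_index (H.subgroupOf G)
  rw [Nat.card_congr (Subgroup.subgroupOfEquivOfLe hHG).toEquiv, hcard] at h1
  have hidx : (H.subgroupOf G).index = c := by
    apply Nat.eq_of_mul_eq_mul_left hH0
    rw [h1, mul_comm]
  have h2 := Subgroup.pow_index_mem (H.subgroupOf G) (⟨x, hx⟩ : ↥G)
  rw [hidx, Subgroup.mem_subgroupOf] at h2
  have h3 : x ^ c ∈ H := h2
  have hb := Nat.gcd_eq_gcd_ab c r
  have e : x ^ ((Nat.gcd c r : ℕ) : ℤ) =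
      (x ^ c) ^ (Nat.gcdA c r) * (x ^ r) ^ (Nat.gcdB c r) := by
    rw [hb, _root_.zpow_add, _root_.zpow_mul, _root_.zpow_mul, zpow_natCast, zpow_natCast]
  have h4 : x ^ (Nat.gcd c r) ∈ H := by
    rw [← zpow_natCast, e, hxr, _root_.one_zpow, mul_one]
    exact H.zpow_mem h3 _
  rw [hcr.gcd_eq_one, pow_one] at h4
  exact h4

section
variable {F : Type*} [Field F] [Fintype F] {m : ℕ} (a b : F)
  (hab : ∀ z₁ z₂ : F, z₁ ^ 2 + a * z₁ * z₂ + b * z₂ ^ 2 = 0 → z₁ = 0 ∧ z₂ = 0)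

include hab in
/-- an automorphism of odd order induced by a similarity is inner -/
theorem odd_order_mem_Inn (hm : 3 ≤ m)
    (x : MulAut (Cfsg.POmega F ⇑(Qgen m (binForm a b))))
    (hx : x ∈ Cfsg.pgoAut F ⇑(Qgen m (binForm a b))) (r : ℕ) (hr : ¬ 2 ∣ r) (hxr : x ^ r = 1) :
    x ∈ Cfsg.Inn (Cfsg.POmega F ⇑(Qgen m (binForm a b))) := by
  classical
  have hnd := nondegenerate_Qgen m (binForm a b) (nondegenerate_binForm a b hab)
  have h5 : 5 ≤ Fintype.card ((Fin m ⊕ Fin m) ⊕ Fin 2) := by rw [card_JJ]; omega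
  have hI := card_Inn_of_perfect_quot (Omega_perfect (Qgen m (binForm a b)) hnd h5)
  have hcop : Nat.Coprime 2 r := (Nat.Prime.coprime_iff_not_dvd Nat.prime_two).mpr hr
  have hpos : 0 < Nat.card (Cfsg.Inn (Cfsg.POmega F ⇑(Qgen m (binForm a b)))) := by
    rw [hI]
    exact Nat.card_pos
  by_cases h2 : (2 : F) = 0
  · obtain ⟨T⟩ := (std_minus a b hab hm).triple
    have hc := card_pgoAut_two (Qgen m (binForm a b)) h2 hnd h5 T
    rw [← hI] at hc
    exact mem_of_coprime_pow _ _ (Inn_le_pgoAut _) 2 r hc hpos hcop x hx hxr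
  · have hodd : Odd (Fintype.card F) := by
      rw [Nat.odd_iff]
      apply FiniteField.odd_card_of_char_ne_two
      intro hch
      apply h2
      haveI : CharP F 2 := by rw [← hch]; exact ringChar.charP F
      exact CharTwo.two_eq_zero
    have hc := card_pgoAut_minus_odd a b hab hodd hm
    rw [← hI] at hc
    split_ifs at hc with hcase
    · refine mem_of_coprime_pow _ _ (Inn_le_pgoAut _) 8 r hc hpos ?_ x hx hxr
      have := Nat.Coprime.pow_left 3 hcop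
      norm_num at this
      exact this
    · refine mem_of_coprime_pow _ _ (Inn_le_pgoAut _) 4 r hc hpos ?_ x hx hxr
      have := Nat.Coprime.pow_left 2 hcop
      norm_num at this
      exact this

/-- the coordinatewise field semisimilarity when `σ` fixes the coefficients -/
def fieldFix (m : ℕ) (a b : F) (σ : F ≃+* F) (ha : σ a = a) (hb : σ b = b) :
    SemiSimO (Qgen m (binForm a b)) where
  S x := fun i => σ (x i)
  σ := σ
  ν := 1
  hν := one_ne_zero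
  add x y := by funext i; simp
  smul c x := by funext i; simp
  form x := by
    rw [one_mul, Qgen_apply, Qgen_apply, binForm_apply, binForm_apply]
    simp only [map_add, map_sum, map_mul, map_pow, ha, hb]

end

section order
variable {F : Type*} [Field F] [Fintype F] {m : ℕ} (p : ℕ) [hp : Fact p.Prime] [hcp : CharP F p]

include hp hcp in
/-- the companion automorphism of a field automorphism has the same prime order -/
theorem psiO_order (hm : 3 ≤ m) (a b a' b' : F)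
    (hab : ∀ z₁ z₂ : F, z₁ ^ 2 + a * z₁ * z₂ + b * z₂ ^ 2 = 0 → z₁ = 0 ∧ z₂ = 0)
    (hab' : ∀ z₁ z₂ : F, z₁ ^ 2 + a' * z₁ * z₂ + b' * z₂ ^ 2 = 0 → z₁ = 0 ∧ z₂ = 0)
    [hS : Std (Qgen m (binForm a b))] (hP : HP (Qgen m (binForm a b)))
    [hS' : Std (Qgen m (binForm a' b'))] (hP' : HP (Qgen m (binForm a' b')))
    (ψ : Cfsg.POmega F ⇑(Qgen m (binForm a b)) ≃* Cfsg.POmega F ⇑(Qgen m (binForm a' b')))
    (σ : F ≃+* F) (hσ : σ ≠ RingEquiv.refl F) (ha' : σ a' = a') (hb' : σ b' = b')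
    (x : MulAut (Cfsg.POmega F ⇑(Qgen m (binForm a b))))
    (hφ : Cfsg.IsFieldAutPOmegaOf (⇑(Qgen m (binForm a' b'))) σ ((ψ.symm.trans x).trans ψ))
    {r : ℕ} (hr : r.Prime) (hxr : orderOf x = r) :
    orderOf (psiO p hP x) = r := by
  classical
  have eφ := eq_gam_of_isFieldAut σ (fieldFix m a' b' σ ha' hb') (fun x => rfl) rfl _ hφ
  have hcong : (ψ.symm.trans x).trans ψ = MulAut.congr ψ x := by
    ext y
    rfl
  have hordφ : orderOf ((ψ.symm.trans x).trans ψ) = r := by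
    rw [hcong, MulEquiv.orderOf_eq, hxr]
  have hψφ : psiO p hP' ((ψ.symm.trans x).trans ψ) = σ := by
    rw [eφ, psiO_gam]
    rfl
  have hσr : orderOf (σ : RingAut F) = r := by
    have h1 : (σ : RingAut F) ^ r = 1 := by
      rw [← hψφ, ← map_pow, ← hordφ, pow_orderOf_eq_one, map_one]
    have h2' := orderOf_dvd_of_pow_eq_one h1
    rcases (Nat.dvd_prime hr).mp h2' with h3 | h3
    · exfalso
      apply hσ
      exact orderOf_eq_one_iff.mp h3
    · exact h3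
  have hodd := not_two_dvd_of_aniso_fixed σ r hσr hr.pos a' b' ha' hb' hab'
  have h1 : (psiO p hP x) ^ r = 1 := by
    rw [← map_pow, ← hxr, pow_orderOf_eq_one, map_one]
  rcases (Nat.dvd_prime hr).mp (orderOf_dvd_of_pow_eq_one h1) with h3 | h3
  · exfalso
    have hτ1 : psiO p hP x = 1 := orderOf_eq_one_iff.mp h3
    have hxp : x ∈ Cfsg.pgoAut F ⇑(Qgen m (binForm a b)) := by
      rw [← psiO_ker p hP, MonoidHom.mem_ker]
      exact hτ1
    have hxI := odd_order_mem_Inn a b hab hm x hxp r hodd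
      (by rw [← hxr]; exact pow_orderOf_eq_one x)
    obtain ⟨t, rfl⟩ := hxI
    have hφI : (ψ.symm.trans (MulAut.conj t)).trans ψ = MulAut.conj (ψ t) := by
      ext y
      change ψ (t * ψ.symm y * t⁻¹) = ψ t * y * (ψ t)⁻¹
      rw [map_mul, map_mul, map_inv, MulEquiv.apply_symm_apply]
    have hmem : (ψ.symm.trans (MulAut.conj t)).trans ψ ∈
        Cfsg.pgoAut F ⇑(Qgen m (binForm a' b')) := Inn_le_pgoAut _ ⟨ψ t, hφI.symm⟩
    rw [← psiO_ker p hP', MonoidHom.mem_ker, hψφ] at hmem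
    exact hσ hmem
  · exact h3

end order

section main
universe u
variable {F : Type u} [Field F] [Fintype F] {m : ℕ} (a b : F)
  (hab : ∀ z₁ z₂ : F, z₁ ^ 2 + a * z₁ * z₂ + b * z₂ ^ 2 = 0 → z₁ = 0 ∧ z₂ = 0)

/-- the generating set of the inner-diagonal group -/
def genSet (m : ℕ) (a b : F) (q : ((Fin m ⊕ Fin m) ⊕ Fin 2 → F) → F) :
    Set (MulAut (Cfsg.POmega F q)) :=
  {β | ∃ g : GL ((Fin m ⊕ Fin m) ⊕ Fin 2) F, g ∈ Cfsg.Geo.quadSimilarityGroup (F := F) q ∧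
    Cfsg.PreservesSingularClassesMinus m a b
      (g : Matrix ((Fin m ⊕ Fin m) ⊕ Fin 2) ((Fin m ⊕ Fin m) ⊕ Fin 2) F) ∧
    Cfsg.IsInducedBySemilinearPOmega q g (RingEquiv.refl F) β}

theorem closure_genSet_le :
    Subgroup.closure (genSet m a b ⇑(Qgen m (binForm a b))) ≤
      Cfsg.pgoAut F ⇑(Qgen m (binForm a b)) := by
  unfold Cfsg.pgoAut Cfsg.autSubgroupOf
  apply Subgroup.closure_mono
  rintro β ⟨g, hg, -, hi⟩
  exact ⟨g, hg, hi⟩

/-- a similarity preserving the two classes induces an inner-diagonal automorphism -/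
theorem linSim_gam_mem [hS : Std (Qgen m (binForm a b))]
    (M : Matrix ((Fin m ⊕ Fin m) ⊕ Fin 2) ((Fin m ⊕ Fin m) ⊕ Fin 2) F) (e : F) (he : e ≠ 0)
    (hM : ∀ x, Qgen m (binForm a b) (M *ᵥ x) = e * Qgen m (binForm a b) x)
    (hpsc : Cfsg.PreservesSingularClassesMinus m a b M) :
    (linSim M e he hM).gam ∈ Subgroup.closure (genSet m a b ⇑(Qgen m (binForm a b))) := by
  have hval : ((linSim M e he hM).gl : Matrix ((Fin m ⊕ Fin m) ⊕ Fin 2)
      ((Fin m ⊕ Fin m) ⊕ Fin 2) F) = M := by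
    rw [(linSim M e he hM).gl_val]
    apply matrix_ext_mulVec
    intro x
    rw [SemiSimO.mat_mulVec_of_refl (linSim M e he hM) rfl]
    rfl
  refine Subgroup.subset_closure ⟨(linSim M e he hM).gl, ⟨Units.mk0 e he, fun v => ?_⟩, ?_,
    (linSim M e he hM).gam_induced⟩
  · rw [hval]
    exact hM v
  · rw [hval]
    exact hpsc

include hab in
/-- the coset criterion for field automorphisms of the minus type groups -/
theorem coset_minus (hm : 3 ≤ m) (q : ((Fin m ⊕ Fin m) ⊕ Fin 2 → F) → F)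
    (hq : q = ⇑(Qgen m (binForm a b))) (x δ : MulAut (Cfsg.POmega F q))
    (hx : ∃ (a' b' : F) (ψ : Cfsg.POmega F q ≃* Cfsg.POmega F (Cfsg.quadFormMinus m F a' b'))
      (σ : F ≃+* F),
      (∀ z₁ z₂ : F, z₁ ^ 2 + a' * z₁ * z₂ + b' * z₂ ^ 2 = 0 → z₁ = 0 ∧ z₂ = 0) ∧
      σ ≠ RingEquiv.refl F ∧ σ a' = a' ∧ σ b' = b' ∧
      Cfsg.IsFieldAutPOmegaOf (Cfsg.quadFormMinus m F a' b') σ ((ψ.symm.trans x).trans ψ))
    {r : ℕ} (hr : r.Prime) (hxr : orderOf x = r)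
    (hδ : δ ∈ Subgroup.closure (genSet m a b q)) :
    orderOf (δ * x) = r ↔ Cfsg.IsConjUnder (Subgroup.closure (genSet m a b q)) x (δ * x) := by
  classical
  subst hq
  constructor
  swap
  · rintro ⟨h, -, e'⟩
    rw [e']
    have : h * x * h⁻¹ = MulAut.conj h x := rfl
    rw [this, MulEquiv.orderOf_eq, hxr]
  intro hord
  obtain ⟨a', b', ψ, σ, hab', hσ, ha', hb', hφ⟩ := hx
  have hfun' : Cfsg.quadFormMinus m F a' b' = ⇑(Qgen m (binForm a' b')) := by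
    funext v
    rw [Qgen_apply, binForm_apply]
    rfl
  revert ψ hφ
  rw [hfun']
  intro ψ hφ
  haveI hS := std_minus a b hab hm
  have hP := HP_minus a b hab hm
  haveI hS' := std_minus a' b' hab' hm
  have hP' := HP_minus a' b' hab' hm
  obtain ⟨p, hp, hcp⟩ := exists_char F
  haveI : Fact p.Prime := ⟨hp⟩
  have hτx := psiO_order p hm a b a' b' hab hab' hP hP' ψ σ hσ ha' hb' x hφ hr hxr
  obtain ⟨Φ₂, rfl⟩ := exists_semi p hP x
  obtain ⟨Φ₁, hΦ₁⟩ := exists_semi p hP (δ * Φ₂.gam)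
  rw [psiO_gam] at hτx
  have hδker : psiO p hP δ = 1 := by
    have : δ ∈ Cfsg.pgoAut F ⇑(Qgen m (binForm a b)) := closure_genSet_le a b hδ
    rwa [← psiO_ker p hP, MonoidHom.mem_ker] at this
  have hτ : Φ₁.σ = Φ₂.σ := by
    have h1 : psiO p hP (δ * Φ₂.gam) = psiO p hP Φ₂.gam := by rw [map_mul, hδker, one_mul]
    rw [← hΦ₁, psiO_gam, psiO_gam] at h1
    exact h1
  have hpow₂ : Φ₂.gam ^ r = 1 := by rw [← hxr]; exact pow_orderOf_eq_one _
  have hpow₁ : Φ₁.gam ^ r = 1 := by rw [hΦ₁, ← hord]; exact pow_orderOf_eq_one _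
  obtain ⟨b₂, μ₂, hμ₂, hb₂⟩ := exists_frame p Φ₂ r hτx hr.pos hpow₂
  obtain ⟨b₁, μ₁, hμ₁, hb₁⟩ := exists_frame p Φ₁ r (by rw [hτ]; exact hτx) hr.pos hpow₁
  -- the fixed field
  haveI : Fintype ↥(fixK (Φ₂.σ : RingAut F)) := Fintype.ofFinite _
  obtain ⟨j, hj⟩ : ∃ j : ↥(fixK (Φ₂.σ : RingAut F)) →+* F, j = (fixK (Φ₂.σ : RingAut F)).subtype :=
    ⟨_, rfl⟩
  have hj₂ : ∀ c : F, Φ₂.σ c = c ↔ c ∈ Set.range j := by
    intro c
    rw [hj]
    constructor
    · intro h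
      exact ⟨⟨c, h⟩, rfl⟩
    · rintro ⟨d, rfl⟩
      exact d.2
  have hj₁ : ∀ c : F, Φ₁.σ c = c ↔ c ∈ Set.range j := by
    intro c
    rw [hτ]
    exact hj₂ c
  obtain ⟨Q₁, c₁, hc₁, hQ₁, h₁⟩ := exists_descended j Φ₁ hj₁ b₁ μ₁ hμ₁ hb₁
  obtain ⟨Q₂, c₂, hc₂, hQ₂, h₂⟩ := exists_descended j Φ₂ hj₂ b₂ μ₂ hμ₂ hb₂
  obtain ⟨k, hk⟩ := exists_similar j a b hab Q₁ Q₂ hQ₁ hQ₂ b₁ b₂ c₁ c₂ hc₁ hc₂ h₁ h₂
  obtain ⟨H, hHσ, hH, hHS⟩ := conj_of_frames j Φ₁ Φ₂ hτ
    (fun c => (hj₁ _).mpr ⟨c, rfl⟩) b₁ b₂ μ₁ μ₂ hμ₁ hμ₂ hb₁ hb₂ Q₁ Q₂ c₁ c₂ hc₁ hc₂ h₁ h₂ k 1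
    one_ne_zero (fun v => by rw [hk, one_mul])
  obtain ⟨M, hM⟩ : ∃ M : Matrix ((Fin m ⊕ Fin m) ⊕ Fin 2) ((Fin m ⊕ Fin m) ⊕ Fin 2) F,
      M = b₁.1 * k.map j * (b₂⁻¹).1 := ⟨_, rfl⟩
  rw [← hM] at hHS
  have hMsim : ∀ w, Qgen m (binForm a b) (M *ᵥ w) = H.ν * Qgen m (binForm a b) w := by
    intro w
    have := H.form w
    rw [hHσ, hHS] at this
    exact this
  have hHgam : H.gam = (linSim M H.ν H.hν hMsim).gam := by
    apply SemiSimO.gam_eq_of_S_eq
    intro w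
    rw [hHS]
    rfl
  -- a nonsingular eigenvector
  obtain ⟨v₀, hv₀⟩ : ∃ v₀, Q₂ v₀ ≠ 0 := by
    by_contra hcon
    push Not at hcon
    have h0 : (Pi.single (Sum.inr 0) (1 : ↥(fixK (Φ₂.σ : RingAut F))) :
        (Fin m ⊕ Fin m) ⊕ Fin 2 → ↥(fixK (Φ₂.σ : RingAut F))) = 0 := by
      apply hQ₂.1
      intro y
      rw [polarBilin_apply_apply]
      unfold polar
      rw [hcon, hcon, hcon]
      ring
    have := congrFun h0 (Sum.inr 0)
    simp at this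
  obtain ⟨v, hv⟩ : ∃ v : (Fin m ⊕ Fin m) ⊕ Fin 2 → F, v = b₂.1 *ᵥ (fun i => j (v₀ i)) := ⟨_, rfl⟩
  have hQv : Qgen m (binForm a b) v ≠ 0 := by
    intro h0
    have := h₂ v₀
    rw [← hv, h0, mul_zero] at this
    exact hv₀ ((map_eq_zero j).mp this)
  have hvS : Φ₂.S v = μ₂ • v := by
    rw [hv]
    exact frame_S Φ₂ b₂.1 μ₂ hb₂ _ (funext fun i => (hj₂ _).mpr ⟨v₀ i, rfl⟩)
  obtain ⟨g, hg⟩ : ∃ g : GL ((Fin m ⊕ Fin m) ⊕ Fin 2) F, g.1 = M := by
    refine ⟨(linSim M H.ν H.hν hMsim).gl, ?_⟩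
    rw [(linSim M H.ν H.hν hMsim).gl_val]
    apply matrix_ext_mulVec
    intro w
    rw [SemiSimO.mat_mulVec_of_refl (linSim M H.ν H.hν hMsim) rfl]
    rfl
  rcases psc_or m a b hab g H.ν (by rw [hg]; exact hMsim) v hQv with hpsc | hpsc
  · rw [hg] at hpsc
    refine ⟨H.gam, ?_, ?_⟩
    · rw [hHgam]
      exact linSim_gam_mem a b M H.ν H.hν hMsim hpsc
    · rw [← hΦ₁]
      exact hH.symm
  · rw [hg] at hpsc
    have hRsim : ∀ w, Qgen m (binForm a b) (Cfsg.reflectionMatrix ⇑(Qgen m (binForm a b)) v *ᵥ w) =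
        1 * Qgen m (binForm a b) w := by
      intro w
      rw [refl_form (Qgen m (binForm a b)) v hQv, one_mul]
    obtain ⟨R, hR⟩ : ∃ R : SemiSimO (Qgen m (binForm a b)),
        R = linSim (Cfsg.reflectionMatrix ⇑(Qgen m (binForm a b)) v) 1 one_ne_zero hRsim :=
      ⟨_, rfl⟩
    have hM'sim : ∀ w, Qgen m (binForm a b)
        ((M * Cfsg.reflectionMatrix ⇑(Qgen m (binForm a b)) v) *ᵥ w) =
        H.ν * Qgen m (binForm a b) w := by
      intro w
      rw [← Matrix.mulVec_mulVec, hMsim, refl_form (Qgen m (binForm a b)) v hQv]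
    have hH'gam : (linSim (M * Cfsg.reflectionMatrix ⇑(Qgen m (binForm a b)) v) H.ν H.hν
        hM'sim).gam = H.gam * R.gam := by
      rw [← SemiSimO.gam_comp]
      apply SemiSimO.gam_eq_of_S_eq
      intro w
      rw [SemiSimO.comp_S, hHS, hR]
      change (M * Cfsg.reflectionMatrix ⇑(Qgen m (binForm a b)) v) *ᵥ w =
        M *ᵥ (Cfsg.reflectionMatrix ⇑(Qgen m (binForm a b)) v *ᵥ w)
      rw [Matrix.mulVec_mulVec]
    have hcomm : R.gam * Φ₂.gam = Φ₂.gam * R.gam := by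
      rw [← SemiSimO.gam_comp, ← SemiSimO.gam_comp]
      apply SemiSimO.gam_eq_of_S_eq
      intro w
      rw [SemiSimO.comp_S, SemiSimO.comp_S, hR]
      change Cfsg.reflectionMatrix ⇑(Qgen m (binForm a b)) v *ᵥ (Φ₂.S w) =
        Φ₂.S (Cfsg.reflectionMatrix ⇑(Qgen m (binForm a b)) v *ᵥ w)
      rw [refl_comm Φ₂ v μ₂ hμ₂ hvS hQv w]
    refine ⟨H.gam * R.gam, ?_, ?_⟩
    · rw [← hH'gam]
      exact linSim_gam_mem a b _ H.ν H.hν hM'sim hpsc
    · rw [← hΦ₁, ← hH, _root_.mul_inv_rev]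
      calc H.gam * Φ₂.gam * H.gam⁻¹
          = H.gam * (Φ₂.gam * R.gam * R.gam⁻¹) * H.gam⁻¹ := by
            rw [mul_inv_cancel_right]
        _ = H.gam * R.gam * Φ₂.gam * (R.gam⁻¹ * H.gam⁻¹) := by
            rw [← hcomm]
            group

end main

end Cfsg.Agent.Lib.Helper16.FieldCosetMinus
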