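import Mathlib
import Cfsg.Agent.Lib.Helper16.MinusPSC
import Cfsg.Agent.Lib.Helper16.MinusField
import Cfsg.Agent.Lib.Helper16.FieldCosetMinus
import Cfsg.Agent.Lib.Helper6.Inndiag2
import Cfsg.Agent.Lib.Helper6.Dickson

/-!
# The similarities of the minus type form preserving the two classes form a subgroup
(all characteristics)
-/

set_option autoImplicit false
set_option linter.unusedSectionVars false
set_option linter.unusedVariables false
set_option linter.style.haveILetI false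

namespace Cfsg.Agent.Lib.Helper16.MinusPSC2

open Module QuadraticMap Matrix Cfsg.Agent.Lib.Helper6 Cfsg.Agent.Lib.Helper6.SingClass
  Cfsg.Agent.Lib.Helper6.ExtQuad Cfsg.Agent.Lib.Helper15 Cfsg.Agent.Lib.Helper6.AutOrt
  Cfsg.Agent.Lib.Helper6.OmegaAut Cfsg.Agent.Lib.Helper6.SimAut Cfsg.Agent.Lib.Helper6.Inndiag
  Cfsg.Agent.Lib.Helper16.FieldCentOmegaOdd Cfsg.Agent.Lib.Helper16.MinusPSC
  Cfsg.Agent.Lib.Helper16.MinusField Cfsg.Agent.Lib.Helper16.FieldCosetMinus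

section list
variable {F : Type*} [Field F] {ι : Type} [Fintype ι] [DecidableEq ι]
  (Q : QuadraticForm F (ι → F))

/-- products of reflections, by induction on the list (all characteristics) -/
theorem dd_list' (hQ : (polarBilin Q).Nondegenerate) (m : ℕ)
    (hV : Fintype.card ι = 2 * m)
    (U₀ : Submodule F (ι → F)) (hU₀ : TS Q U₀) (hU₀m : finrank F U₀ = m) (μ : F)
    (vs : List (ι → F)) (hvs : ∀ v ∈ vs, Q v ≠ 0) :
    ∀ g₀ : GL ι F, (∀ v, Q ((g₀ : Matrix ι ι F) *ᵥ v) = μ * Q v) →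
      ∃ g : GL ι F, (g : Matrix ι ι F) =
          (g₀ : Matrix ι ι F) * (vs.map (fun v => Cfsg.reflectionMatrix ⇑Q v)).prod ∧
        (∀ v, Q ((g : Matrix ι ι F) *ᵥ v) = μ * Q v) ∧
        (Even (dd m U₀ (Cfsg.imageSubmodule (g : Matrix ι ι F) U₀)) ↔
          (Even (dd m U₀ (Cfsg.imageSubmodule (g₀ : Matrix ι ι F) U₀)) ↔ Even vs.length)) := by
  classical
  induction vs with
  | nil =>
    intro g₀ hg₀
    refine ⟨g₀, by simp, hg₀, by simp⟩
  | cons v vs ih =>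
    intro g₀ hg₀
    have hv : Q v ≠ 0 := hvs v List.mem_cons_self
    obtain ⟨r, hr⟩ : ∃ r : GL ι F, (r : Matrix ι ι F) = Cfsg.reflectionMatrix ⇑Q v :=
      ⟨(reflIso Q v hv).1, rfl⟩
    have hg₀' : ∀ x, Q (((g₀ * r : GL ι F) : Matrix ι ι F) *ᵥ x) = μ * Q x := by
      intro x
      rw [Units.val_mul, ← Matrix.mulVec_mulVec, hg₀, hr, refl_form Q v hv]
    obtain ⟨g, hg1, hg2, hg3⟩ := ih (fun w hw => hvs w (List.mem_cons_of_mem _ hw)) (g₀ * r) hg₀'
    refine ⟨g, ?_, hg2, ?_⟩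
    · rw [hg1, Units.val_mul, hr, List.map_cons, List.prod_cons, Matrix.mul_assoc]
    · rw [hg3, dd_step Q hQ m hV U₀ hU₀ hU₀m g₀ μ hg₀ r v hv hr, List.length_cons,
        Nat.even_add_one]
      tauto

end list

section psc
universe u
variable {F : Type u} [Field F] [Fintype F] (m : ℕ) (a b : F)
  (hab : ∀ z₁ z₂ : F, z₁ ^ 2 + a * z₁ * z₂ + b * z₂ ^ 2 = 0 → z₁ = 0 ∧ z₂ = 0)

include hab in
/-- a scalar times a product of reflections preserves the two classes over any quadratic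
extension iff the number of reflections is even -/
theorem pscK_list {K : Type*} [Field K] [Algebra F K] (hK : finrank F K = 2)
    (c : F) (hc : c ≠ 0) (vs : List ((Fin m ⊕ Fin m) ⊕ Fin 2 → F))
    (hvs : ∀ v ∈ vs, Qgen m (binForm a b) v ≠ 0) :
    Cfsg.PreservesSingularClasses
      (Cfsg.quadFormMinus m K (algebraMap F K a) (algebraMap F K b))
      ((c • (vs.map (fun v => Cfsg.reflectionMatrix ⇑(Qgen m (binForm a b)) v)).prod).map
        (algebraMap F K)) ↔ Even vs.length := by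
  classical
  haveI : Module.Finite F K := Module.finite_of_finrank_pos (by rw [hK]; norm_num)
  haveI : Finite K := Module.finite_of_finite F
  haveI : Fintype K := Fintype.ofFinite K
  obtain ⟨ρ, hρ⟩ := exists_root_of_finrank_two hK a b hab
  set φ : F →+* K := algebraMap F K with hφ
  have hinj : Function.Injective φ := (algebraMap F K).injective
  have hfunK : Cfsg.quadFormMinus m K (φ a) (φ b) = ⇑(Qgen m (binForm (φ a) (φ b))) := by
    funext w
    rw [Qgen_apply, binForm_apply]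
    rfl
  have hdiscK : φ a ^ 2 - 4 * φ b ≠ 0 := by
    intro h
    apply disc_ne_zero' a b hab
    apply hinj
    rw [map_zero, ← h, map_sub, map_pow, map_mul, map_ofNat]
  set QK := Qgen m (binForm (φ a) (φ b)) with hQK
  have hQKnd := nondegenerate_Qgen m (binForm (φ a) (φ b))
    (nondegenerate_binForm_of_disc (φ a) (φ b) hdiscK)
  have hV : Fintype.card ((Fin m ⊕ Fin m) ⊕ Fin 2) = 2 * (m + 1) := by
    rw [Fintype.card_sum, Fintype.card_sum, Fintype.card_fin, Fintype.card_fin]; ring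
  have hjQ : ∀ w : (Fin m ⊕ Fin m) ⊕ Fin 2 → F,
      QK (fun i => φ (w i)) = φ (Qgen m (binForm a b) w) := fun w => Q_map φ m a b w
  have hφc : φ c ≠ 0 := (map_ne_zero φ).mpr hc
  set g₀ : GL ((Fin m ⊕ Fin m) ⊕ Fin 2) K := scalGL (Units.mk0 (φ c) hφc) with hg₀def
  have hg₀ : ∀ w, QK ((g₀ : Matrix ((Fin m ⊕ Fin m) ⊕ Fin 2) ((Fin m ⊕ Fin m) ⊕ Fin 2) K) *ᵥ w) =
      (φ c * φ c) * QK w := by
    intro w
    rw [scalGL_val, Matrix.smul_mulVec, Matrix.one_mulVec, Q_smul]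
    rfl
  have hTS := U0K_TS m (φ a) (φ b) ρ hρ
  have hfr := U0K_finrank (K := K) m ρ
  have hdd₀ : Even (dd (m + 1) (U0K m ρ) (Cfsg.imageSubmodule
      (g₀ : Matrix ((Fin m ⊕ Fin m) ⊕ Fin 2) ((Fin m ⊕ Fin m) ⊕ Fin 2) K) (U0K m ρ))) := by
    rw [dd_of_le (m + 1) (U0K m ρ) hfr g₀ (image_scal_le _ _), dd_self (m + 1) _ hfr]
    exact Even.zero
  have hvsK : ∀ w ∈ vs.map (fun v : (Fin m ⊕ Fin m) ⊕ Fin 2 → F => (fun i => φ (v i))),
      QK w ≠ 0 := by
    intro w hw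
    obtain ⟨v, hv, rfl⟩ := List.mem_map.mp hw
    rw [hjQ]
    exact (map_ne_zero φ).mpr (hvs v hv)
  obtain ⟨g, hg1, hg2, hg3⟩ := dd_list' QK hQKnd (m + 1) hV (U0K m ρ) hTS hfr (φ c * φ c) _ hvsK
    g₀ hg₀
  have hmap : (c • (vs.map (fun v => Cfsg.reflectionMatrix ⇑(Qgen m (binForm a b)) v)).prod).map φ =
      (g : Matrix ((Fin m ⊕ Fin m) ⊕ Fin 2) ((Fin m ⊕ Fin m) ⊕ Fin 2) K) := by
    rw [hg1, scalGL_val, Matrix.smul_mul, Matrix.one_mul, Matrix.map_smul' φ c _ (map_mul φ),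
      refl_list_map φ (Qgen m (binForm a b)) QK hjQ vs]
    rfl
  rw [hfunK, hmap, psc_iff QK hQKnd (m + 1) hV (U0K m ρ) hTS hfr g (φ c * φ c) hg2, hg3,
    List.length_map]
  exact iff_true_left hdd₀

include hab in
/-- the intrinsic form of the previous statement -/
theorem pscMinus_list (c : F) (hc : c ≠ 0) (vs : List ((Fin m ⊕ Fin m) ⊕ Fin 2 → F))
    (hvs : ∀ v ∈ vs, Qgen m (binForm a b) v ≠ 0) :
    Cfsg.PreservesSingularClassesMinus m a b
      (c • (vs.map (fun v => Cfsg.reflectionMatrix ⇑(Qgen m (binForm a b)) v)).prod) ↔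
      Even vs.length := by
  constructor
  · rintro ⟨K, iK, aK, hK, h⟩
    exact (pscK_list m a b hab hK c hc vs hvs).mp h
  · intro h
    obtain ⟨K, iK, aK, ρ, hK, hρ⟩ := exists_quadExt_root a b hab
    exact ⟨K, iK, aK, hK, (pscK_list m a b hab hK c hc vs hvs).mpr h⟩

/-- scalar multiples -/
theorem pscMinus_smul (M : Matrix ((Fin m ⊕ Fin m) ⊕ Fin 2) ((Fin m ⊕ Fin m) ⊕ Fin 2) F) (c : F)
    (hc : c ≠ 0) (h : Cfsg.PreservesSingularClassesMinus m a b M) :
    Cfsg.PreservesSingularClassesMinus m a b (c • M) := by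
  obtain ⟨K, iK, aK, hK, h⟩ := h
  refine ⟨K, iK, aK, hK, ?_⟩
  intro U hU
  have h1 := h U hU
  have h2 : Cfsg.imageSubmodule ((c • M).map (algebraMap F K)) U =
      Cfsg.imageSubmodule (M.map (algebraMap F K)) U := by
    unfold Cfsg.imageSubmodule
    rw [Matrix.map_smul' (algebraMap F K) c M (map_mul (algebraMap F K)), map_smul,
      Submodule.map_smul _ _ _ ((map_ne_zero (algebraMap F K)).mpr hc)]
  rw [h2]
  exact h1

end psc

section sub
universe u
variable {F : Type u} [Field F] [Fintype F] {m : ℕ} (a b : F)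
  (hab : ∀ z₁ z₂ : F, z₁ ^ 2 + a * z₁ * z₂ + b * z₂ ^ 2 = 0 → z₁ = 0 ∧ z₂ = 0)

include hab in
/-- in characteristic two a similarity is a scalar times a product of reflections -/
theorem exists_list_two (h2 : (2 : F) = 0) (hm : 3 ≤ m) (g : ↥(GO (Qgen m (binForm a b)))) :
    ∃ (d : F) (g₁ : ↥(Cfsg.isometryGroup F ⇑(Qgen m (binForm a b))))
      (vs : List ((Fin m ⊕ Fin m) ⊕ Fin 2 → F)), d ≠ 0 ∧
      (∀ v ∈ vs, Qgen m (binForm a b) v ≠ 0) ∧
      ((g₁.1 : GL ((Fin m ⊕ Fin m) ⊕ Fin 2) F) :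
        Matrix ((Fin m ⊕ Fin m) ⊕ Fin 2) ((Fin m ⊕ Fin m) ⊕ Fin 2) F) =
        (vs.map (fun v => Cfsg.reflectionMatrix ⇑(Qgen m (binForm a b)) v)).prod ∧
      ((g.1 : GL ((Fin m ⊕ Fin m) ⊕ Fin 2) F) :
        Matrix ((Fin m ⊕ Fin m) ⊕ Fin 2) ((Fin m ⊕ Fin m) ⊕ Fin 2) F) =
        d • ((g₁.1 : GL ((Fin m ⊕ Fin m) ⊕ Fin 2) F) :
          Matrix ((Fin m ⊕ Fin m) ⊕ Fin 2) ((Fin m ⊕ Fin m) ⊕ Fin 2) F) := by
  classical
  have hnd := nondegenerate_Qgen m (binForm a b) (nondegenerate_binForm a b hab)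
  obtain ⟨d, hd⟩ := exists_sq_two h2 ((mulr (Qgen m (binForm a b)) g : Fˣ) : F)
  have hd0 : d ≠ 0 := by
    intro h
    rw [h, mul_zero] at hd
    exact (mulr (Qgen m (binForm a b)) g).ne_zero hd.symm
  set du : Fˣ := Units.mk0 d hd0 with hdu
  have hmem : (scalGL du⁻¹ : GL ((Fin m ⊕ Fin m) ⊕ Fin 2) F) * g.1 ∈
      Cfsg.isometryGroup F ⇑(Qgen m (binForm a b)) := by
    rw [OmegaAut.mem_isometryGroup_iff]
    intro u
    rw [Units.val_mul, ← Matrix.mulVec_mulVec, scalGL_val, Matrix.smul_mulVec,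
      Matrix.one_mulVec, Q_smul, mulr_spec, ← hd]
    have : ((du⁻¹ : Fˣ) : F) = d⁻¹ := by rw [Units.val_inv_eq_inv_val]; rfl
    rw [this]
    field_simp
  have h4 : Fintype.card ((Fin m ⊕ Fin m) ⊕ Fin 2) ≠ 4 := by rw [card_JJ]; omega
  obtain ⟨vs, hvs, hprod⟩ := exists_list' (Qgen m (binForm a b)) hnd (Or.inr h4) ⟨_, hmem⟩
  refine ⟨d, ⟨_, hmem⟩, vs, hd0, hvs, hprod, ?_⟩
  change _ = d • ((scalGL du⁻¹ * g.1 : GL ((Fin m ⊕ Fin m) ⊕ Fin 2) F) :
    Matrix ((Fin m ⊕ Fin m) ⊕ Fin 2) ((Fin m ⊕ Fin m) ⊕ Fin 2) F)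
  rw [Units.val_mul, scalGL_val, Matrix.smul_mul, Matrix.one_mul, smul_smul]
  have : ((du⁻¹ : Fˣ) : F) = d⁻¹ := by rw [Units.val_inv_eq_inv_val]; rfl
  rw [this, mul_inv_cancel₀ hd0, one_smul]

variable (p : ℕ) [hp : Fact p.Prime] [hcp : CharP F p]

include hab hp hcp in
/-- in characteristic two the similarities preserving the two classes are those inducing inner
automorphisms -/
theorem pscMinus_iff_two (h2 : (2 : F) = 0) (hm : 3 ≤ m) [hS : Std (Qgen m (binForm a b))]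
    (g : ↥(GO (Qgen m (binForm a b)))) :
    Cfsg.PreservesSingularClassesMinus m a b
      ((g.1 : GL ((Fin m ⊕ Fin m) ⊕ Fin 2) F) :
        Matrix ((Fin m ⊕ Fin m) ⊕ Fin 2) ((Fin m ⊕ Fin m) ⊕ Fin 2) F) ↔
      fGO (Qgen m (binForm a b)) g ∈ Cfsg.Inn (Cfsg.POmega F ⇑(Qgen m (binForm a b))) := by
  classical
  have hnd := nondegenerate_Qgen m (binForm a b) (nondegenerate_binForm a b hab)
  have h4 : Fintype.card ((Fin m ⊕ Fin m) ⊕ Fin 2) ≠ 4 := by rw [card_JJ]; omega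
  have hc2 : 2 ≤ Fintype.card ((Fin m ⊕ Fin m) ⊕ Fin 2) := by rw [card_JJ]; omega
  rw [fGO_mem_Inn_iff p g]
  constructor
  · intro hpsc
    obtain ⟨d, g₁, vs, hd0, hvs, hprod, hg⟩ := exists_list_two a b hab h2 hm g
    rw [hg, hprod, pscMinus_list m a b hab d hd0 vs hvs] at hpsc
    refine ⟨d, g₁, ?_, hg⟩
    exact (mem_Omega_iff_list_two' (Qgen m (binForm a b)) h2 hnd hc2 (Or.inr h4) g₁ vs hvs
      hprod).mpr hpsc
  · rintro ⟨c, ω, hω, hgω⟩
    obtain ⟨vs, hvs, hprod⟩ := exists_list' (Qgen m (binForm a b)) hnd (Or.inr h4) ω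
    have hev := (mem_Omega_iff_list_two' (Qgen m (binForm a b)) h2 hnd hc2 (Or.inr h4) ω vs hvs
      hprod).mp hω
    have hc0 : c ≠ 0 := by
      intro h0
      rw [h0, zero_smul] at hgω
      haveI : Nonempty ((Fin m ⊕ Fin m) ⊕ Fin 2) := ⟨Sum.inr 0⟩
      exact Cfsg.Agent.Lib.Helper16.FieldCentOrth.gl_ne_zero' g.1 hgω
    rw [hgω, hprod, pscMinus_list m a b hab c hc0 vs hvs]
    exact hev

include hab hp hcp in
/-- the similarities preserving the two classes form a subgroup -/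
theorem exists_pscSub (hm : 3 ≤ m) [hS : Std (Qgen m (binForm a b))] :
    ∃ K : Subgroup ↥(GO (Qgen m (binForm a b))), ∀ g : ↥(GO (Qgen m (binForm a b))),
      Cfsg.PreservesSingularClassesMinus m a b
        ((g.1 : GL ((Fin m ⊕ Fin m) ⊕ Fin 2) F) :
          Matrix ((Fin m ⊕ Fin m) ⊕ Fin 2) ((Fin m ⊕ Fin m) ⊕ Fin 2) F) ↔ g ∈ K := by
  classical
  by_cases h2 : (2 : F) = 0
  · refine ⟨(Cfsg.Inn (Cfsg.POmega F ⇑(Qgen m (binForm a b)))).comap
      (fGO (Qgen m (binForm a b))), fun g => ?_⟩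
    rw [Subgroup.mem_comap]
    exact pscMinus_iff_two a b hab p h2 hm g
  · have hodd : Odd (Fintype.card F) := by
      rw [Nat.odd_iff]
      apply FiniteField.odd_card_of_char_ne_two
      intro hch
      apply h2
      haveI : CharP F 2 := by rw [← hch]; exact ringChar.charP F
      exact CharTwo.two_eq_zero
    obtain ⟨v₀, hv₀⟩ := SemiSimO.exists_Q_ne_zero (Q := Qgen m (binForm a b))
    refine ⟨KK (Qgen m (binForm a b)) v₀ hv₀ (m + 1), fun g => ?_⟩
    rw [mem_KK_iff]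
    exact pscMinus_iff m a b hodd hab g.1 (mulr _ g) (Units.ne_zero _) (mulr_spec _ g)

include hab hp hcp in
/-- the inner-diagonal group as the image of a subgroup of the similarity group -/
theorem inndiag_eq_map (hm : 3 ≤ m) [hS : Std (Qgen m (binForm a b))] :
    ∃ K : Subgroup ↥(GO (Qgen m (binForm a b))), (∀ g : ↥(GO (Qgen m (binForm a b))),
      Cfsg.PreservesSingularClassesMinus m a b
        ((g.1 : GL ((Fin m ⊕ Fin m) ⊕ Fin 2) F) :
          Matrix ((Fin m ⊕ Fin m) ⊕ Fin 2) ((Fin m ⊕ Fin m) ⊕ Fin 2) F) ↔ g ∈ K) ∧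
      Subgroup.closure (genSet m a b ⇑(Qgen m (binForm a b))) =
        K.map (fGO (Qgen m (binForm a b))) := by
  obtain ⟨K, hK⟩ := exists_pscSub a b hab p hm
  exact ⟨K, hK, inndiag_eq' (Qgen m (binForm a b)) (Cfsg.PreservesSingularClassesMinus m a b) K hK⟩

include hab hp hcp in
/-- in characteristic two the inner-diagonal group is the group of inner automorphisms -/
theorem inndiag_eq_Inn_two (h2 : (2 : F) = 0) (hm : 3 ≤ m) [hS : Std (Qgen m (binForm a b))] :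
    Subgroup.closure (genSet m a b ⇑(Qgen m (binForm a b))) =
      Cfsg.Inn (Cfsg.POmega F ⇑(Qgen m (binForm a b))) := by
  classical
  have hK : ∀ g : ↥(GO (Qgen m (binForm a b))),
      Cfsg.PreservesSingularClassesMinus m a b
        ((g.1 : GL ((Fin m ⊕ Fin m) ⊕ Fin 2) F) :
          Matrix ((Fin m ⊕ Fin m) ⊕ Fin 2) ((Fin m ⊕ Fin m) ⊕ Fin 2) F) ↔
      g ∈ (Cfsg.Inn (Cfsg.POmega F ⇑(Qgen m (binForm a b)))).comap
        (fGO (Qgen m (binForm a b))) := by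
    intro g
    rw [Subgroup.mem_comap]
    exact pscMinus_iff_two a b hab p h2 hm g
  have h1 := inndiag_eq' (Qgen m (binForm a b)) (Cfsg.PreservesSingularClassesMinus m a b) _ hK
  change Subgroup.closure (genSet m a b ⇑(Qgen m (binForm a b))) = _ at h1
  rw [h1, Subgroup.map_comap_eq, inf_eq_right, ← pgoAut_eq_range]
  exact Inn_le_pgoAut _

end sub

end Cfsg.Agent.Lib.Helper16.MinusPSC2
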