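import Mathlib
import Cfsg.Agent.Lib.Helper16.FieldCentMinus
import Cfsg.Agent.Lib.Helper16.MinusPSC2
import Cfsg.Agent.Lib.Helper16.SplitCount
import Cfsg.Agent.Lib.Helper6.MinusSim
import Cfsg.Agent.S2729

/-!
# Field automorphisms of the minus type orthogonal groups: centralizer and class splitting
-/

set_option autoImplicit false
set_option linter.unusedSectionVars false
set_option linter.unusedVariables false
set_option linter.style.haveILetI false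

namespace Cfsg.Agent.Lib.Helper16.FieldCentMinus2

open Matrix Cfsg QuadraticMap Cfsg.Agent.Lib.Helper6 Cfsg.Agent.Lib.Helper6.AutOrt
  Cfsg.Agent.Lib.Helper6.OmegaAut Cfsg.Agent.Lib.Helper6.SimAut
  Cfsg.Agent.Lib.Helper6.ExtQuad Cfsg.Agent.Lib.Helper15
  Cfsg.Agent.Lib.Helper16.FieldCosetOrth Cfsg.Agent.Lib.Helper16.OrthDescent
  Cfsg.Agent.Lib.Helper16.FieldCentOrth Cfsg.Agent.Lib.Helper16.QuadExt
  Cfsg.Agent.Lib.Helper16.FieldCentOmegaOdd Cfsg.Agent.Lib.Helper16.FieldCentMinus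
  Cfsg.Agent.Lib.Helper16.MinusPSC2 Cfsg.Agent.Lib.Helper16.FieldCosetMinus
open Cfsg.Agent.Lib.Helper6.AutPSL (sG sG_val gl_mul_inv gl_inv_mul)

section refl
variable {F : Type*} [Field F] [Fintype F] {ι : Type} [Fintype ι] [DecidableEq ι]
  {F₀ : Type*} [Field F₀] (j : F₀ →+* F) (Q₀ : QuadraticForm F₀ (ι → F₀))
  (Q : QuadraticForm F (ι → F)) (B : GL ι F) (c : F) (hc : c ≠ 0)
  (hB : ∀ v : ι → F₀, j (Q₀ v) = c * Q (B.1 *ᵥ fun i => j (v i)))

include hc hB in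
/-- the conjugated base change of a reflection is a reflection -/
theorem conj_refl (v : ι → F₀) :
    B.1 * (Cfsg.reflectionMatrix ⇑Q₀ v).map j * (B⁻¹).1 =
      Cfsg.reflectionMatrix ⇑Q (B.1 *ᵥ fun i => j (v i)) := by
  obtain ⟨Q', hQ'⟩ : ∃ Q' : QuadraticForm F (ι → F), Q' = c • Q.comp (Matrix.toLin' B.1) :=
    ⟨_, rfl⟩
  have hQ'app : ∀ y, Q' y = c * Q (B.1 *ᵥ y) := by
    intro y
    rw [hQ', _root_.smul_apply, comp_toLin_apply', smul_eq_mul]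
  have hjQ' : ∀ w : ι → F₀, Q' (fun i => j (w i)) = j (Q₀ w) := by
    intro w
    rw [hQ'app, hB]
  rw [refl_map j Q₀ Q' hjQ' v]
  apply matrix_ext_mulVec
  intro x
  rw [← Matrix.mulVec_mulVec, ← Matrix.mulVec_mulVec, reflectionMatrix_mulVec,
    reflectionMatrix_mulVec, Matrix.mulVec_sub, Matrix.mulVec_mulVec, gl_mul_inv,
    Matrix.one_mulVec, Matrix.mulVec_smul]
  congr 2
  have hpol : polar (⇑Q') (fun i => j (v i)) ((B⁻¹).1 *ᵥ x) =
      c * polar (⇑Q) (B.1 *ᵥ fun i => j (v i)) x := by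
    unfold polar
    rw [hQ'app, hQ'app, hQ'app, Matrix.mulVec_add, Matrix.mulVec_mulVec, gl_mul_inv,
      Matrix.one_mulVec]
    ring
  rw [hpol, hQ'app, mul_inv]
  field_simp

include hc hB in
theorem conj_refl_list (vs : List (ι → F₀)) :
    B.1 * ((vs.map (fun v => Cfsg.reflectionMatrix ⇑Q₀ v)).prod).map j * (B⁻¹).1 =
      ((vs.map (fun v : ι → F₀ => B.1 *ᵥ fun i => j (v i))).map
        (fun w => Cfsg.reflectionMatrix ⇑Q w)).prod := by
  induction vs with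
  | nil =>
    simp only [List.map_nil, List.prod_nil]
    rw [Matrix.map_one _ (map_zero j) (map_one j), Matrix.mul_one, gl_mul_inv]
  | cons v vs ih =>
    rw [List.map_cons, List.prod_cons, List.map_cons, List.map_cons, List.prod_cons, ← ih,
      ← conj_refl j Q₀ Q B c hc hB v, Matrix.map_mul]
    simp only [Matrix.mul_assoc]
    rw [← Matrix.mul_assoc (B⁻¹).1 B.1, gl_inv_mul, Matrix.one_mul]

end refl

section compat
universe u v
variable {F : Type u} [Field F] [Fintype F] {F₀ : Type v} [Field F₀] [Fintype F₀] (j : F₀ →+* F)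
  {m : ℕ} (a b : F)
  (hab : ∀ z₁ z₂ : F, z₁ ^ 2 + a * z₁ * z₂ + b * z₂ ^ 2 = 0 → z₁ = 0 ∧ z₂ = 0)
  (a₀ b₀ : F₀)
  (hab₀ : ∀ z₁ z₂ : F₀, z₁ ^ 2 + a₀ * z₁ * z₂ + b₀ * z₂ ^ 2 = 0 → z₁ = 0 ∧ z₂ = 0)
  (B : GL ((Fin m ⊕ Fin m) ⊕ Fin 2) F) (c : F) (hc : c ≠ 0)
  (hB : ∀ v : (Fin m ⊕ Fin m) ⊕ Fin 2 → F₀, j (Qgen m (binForm a₀ b₀) v) =
    c * Qgen m (binForm a b) (B.1 *ᵥ fun i => j (v i)))

theorem odd_card_of_two_ne_zero {R : Type*} [Field R] [Fintype R] (h2 : (2 : R) ≠ 0) :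
    Odd (Fintype.card R) := by
  rw [Nat.odd_iff]
  apply FiniteField.odd_card_of_char_ne_two
  intro hch
  apply h2
  haveI : CharP R 2 := by rw [← hch]; exact ringChar.charP R
  exact CharTwo.two_eq_zero

include hab hab₀ in
/-- preserving the two classes is compatible with the conjugated base change -/
theorem compat (hm : 3 ≤ m) (g₀ : ↥(GO (Qgen m (binForm a₀ b₀)))) :
    Cfsg.PreservesSingularClassesMinus m a b
      ((mapGO' j (Qgen m (binForm a₀ b₀)) (Qgen m (binForm a b)) B c hc hB g₀).1 :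
        Matrix ((Fin m ⊕ Fin m) ⊕ Fin 2) ((Fin m ⊕ Fin m) ⊕ Fin 2) F) ↔
    Cfsg.PreservesSingularClassesMinus m a₀ b₀
      ((g₀.1 : GL ((Fin m ⊕ Fin m) ⊕ Fin 2) F₀) :
        Matrix ((Fin m ⊕ Fin m) ⊕ Fin 2) ((Fin m ⊕ Fin m) ⊕ Fin 2) F₀) := by
  classical
  have hjinj : Function.Injective j := RingHom.injective j
  by_cases h2 : (2 : F) = 0
  · have h2₀ : (2 : F₀) = 0 := by
      apply hjinj
      rw [map_ofNat, h2, map_zero]
    obtain ⟨d, g₁, vs, hd0, hvs, hprod, hg⟩ := exists_list_two a₀ b₀ hab₀ h2₀ hm g₀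
    have hjd : j d ≠ 0 := (map_ne_zero j).mpr hd0
    have hws : ∀ w ∈ vs.map (fun v : (Fin m ⊕ Fin m) ⊕ Fin 2 → F₀ => B.1 *ᵥ fun i => j (v i)),
        Qgen m (binForm a b) w ≠ 0 := by
      intro w hw
      obtain ⟨v, hv, rfl⟩ := List.mem_map.mp hw
      intro h0
      have := hB v
      rw [h0, mul_zero] at this
      exact hvs v hv ((map_eq_zero j).mp this)
    rw [mapGO'_val, hg, hprod, Matrix.map_smul' j d _ (map_mul j), Matrix.mul_smul,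
      Matrix.smul_mul, conj_refl_list j _ _ B c hc hB vs,
      pscMinus_list m a b hab (j d) hjd _ hws, pscMinus_list m a₀ b₀ hab₀ d hd0 vs hvs,
      List.length_map]
  · have h2₀ : (2 : F₀) ≠ 0 := by
      intro h
      apply h2
      have := congrArg j h
      rwa [map_ofNat, map_zero] at this
    have hodd := odd_card_of_two_ne_zero h2
    have hodd₀ := odd_card_of_two_ne_zero h2₀
    have hsim : ∀ w, Qgen m (binForm a b)
        (((mapGO' j (Qgen m (binForm a₀ b₀)) (Qgen m (binForm a b)) B c hc hB g₀).1 :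
          Matrix ((Fin m ⊕ Fin m) ⊕ Fin 2) ((Fin m ⊕ Fin m) ⊕ Fin 2) F) *ᵥ w) =
        j (mulr (Qgen m (binForm a₀ b₀)) g₀ : F₀) * Qgen m (binForm a b) w := by
      intro w
      rw [mapGO'_val]
      exact sim_conj j _ _ B c hc hB _ _ (mulr_spec _ g₀) w
    have h1 := pscMinus_iff m a b hodd hab
        (mapGO' j (Qgen m (binForm a₀ b₀)) (Qgen m (binForm a b)) B c hc hB g₀).1
        (j (mulr (Qgen m (binForm a₀ b₀)) g₀ : F₀))
        ((map_ne_zero j).mpr (Units.ne_zero _)) hsim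
    have h3 := pscMinus_iff m a₀ b₀ hodd₀ hab₀ g₀.1 (mulr _ g₀) (Units.ne_zero _)
      (mulr_spec _ g₀)
    rw [h1, h3, mapGO'_val, Matrix.det_units_conj, ← RingHom.mapMatrix_apply, ← RingHom.map_det,
      ← map_pow]
    exact hjinj.eq_iff

end compat

section splitabs

/-- the class does not split when every element factors through the centralizer -/
theorem split_one_of_factor {X : Type*} [Group X] (H Kn : Subgroup X) (x : X)
    (h : ∀ g ∈ H, ∃ t ∈ Kn, ∃ c ∈ H, c * x = x * c ∧ g = t * c) :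
    Cfsg.splitClassCount H Kn x = 1 := by
  unfold Cfsg.splitClassCount
  rw [Nat.card_eq_one_iff_unique]
  obtain ⟨x₀, hx₀⟩ : ∃ x₀ : {y : X // Cfsg.IsConjUnder H x y}, x₀.1 = x :=
    ⟨⟨x, 1, H.one_mem, by simp⟩, rfl⟩
  have key : ∀ q : Quot fun y z : {y : X // Cfsg.IsConjUnder H x y} =>
      Cfsg.IsConjUnder Kn y.1 z.1, q = Quot.mk _ x₀ := by
    intro q
    induction q using Quot.ind with
    | _ y =>
      obtain ⟨g, hg, hy⟩ := y.2
      obtain ⟨t, ht, c, hc, hcx, hgtc⟩ := h g hg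
      symm
      apply Quot.sound
      refine ⟨t, ht, ?_⟩
      rw [hy, hgtc, hx₀]
      have hcx' : c * x * c⁻¹ = x := by rw [hcx, mul_inv_cancel_right]
      calc t * c * x * (t * c)⁻¹ = t * (c * x * c⁻¹) * t⁻¹ := by group
        _ = t * x * t⁻¹ := by rw [hcx']
  exact ⟨⟨fun q₁ q₂ => by rw [key q₁, key q₂]⟩, ⟨Quot.mk _ x₀⟩⟩

/-- the class does not split when the quotient is generated by an element of the centralizer -/
theorem split_of_gen {X : Type*} [Group X] (H Kn : Subgroup X) (x : X) {C : Type*} [Group C]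
    (φ : ↥H →* C) (hker : φ.ker = Kn.subgroupOf H) (y : X) (hyH : y ∈ H) (hyx : y * x = x * y)
    (hgen : ∀ z : C, ∃ k : ℕ, z = φ ⟨y, hyH⟩ ^ k) : Cfsg.splitClassCount H Kn x = 1 := by
  apply split_one_of_factor
  intro g hg
  obtain ⟨k, hk⟩ := hgen (φ ⟨g, hg⟩)
  have hmem : (⟨g, hg⟩ : ↥H) * (⟨y, hyH⟩ ^ k)⁻¹ ∈ φ.ker := by
    rw [MonoidHom.mem_ker, map_mul, map_inv, map_pow, hk, mul_inv_cancel]
  rw [hker, Subgroup.mem_subgroupOf] at hmem
  refine ⟨g * (y ^ k)⁻¹, hmem, y ^ k, H.pow_mem hyH k, ?_, by group⟩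
  exact (Commute.pow_left (show Commute y x from hyx) k).eq

theorem gen4 : ∀ z : Multiplicative (ZMod 4), (∀ w : Multiplicative (ZMod 4), z ≠ w * w) →
    ∀ y : Multiplicative (ZMod 4), ∃ k, k < 4 ∧ y = z ^ k := by decide

theorem gen2 : ∀ z : Multiplicative (ZMod 2), (∀ w : Multiplicative (ZMod 2), z ≠ w * w) →
    ∀ y : Multiplicative (ZMod 2), ∃ k, k < 2 ∧ y = z ^ k := by decide

end splitabs

section splitodd
universe u
variable {F : Type u} [Field F] [Fintype F] {m : ℕ} (a b : F)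
  (hab : ∀ z₁ z₂ : F, z₁ ^ 2 + a * z₁ * z₂ + b * z₂ ^ 2 = 0 → z₁ = 0 ∧ z₂ = 0)
  [hS : Std (Qgen m (binForm a b))] (p : ℕ) [hp : Fact p.Prime] [hcp : CharP F p]

/-- the automorphism induced by a similarity preserving the two classes is inner-diagonal -/
theorem fGO_mem_closure (g : ↥(GO (Qgen m (binForm a b))))
    (hpsc : Cfsg.PreservesSingularClassesMinus m a b
      ((g.1 : GL ((Fin m ⊕ Fin m) ⊕ Fin 2) F) :
        Matrix ((Fin m ⊕ Fin m) ⊕ Fin 2) ((Fin m ⊕ Fin m) ⊕ Fin 2) F)) :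
    fGO (Qgen m (binForm a b)) g ∈ Subgroup.closure (genSet m a b ⇑(Qgen m (binForm a b))) := by
  refine Subgroup.subset_closure ⟨g.1, g.2, hpsc, ?_⟩
  exact (isInduced_iff (⇑(Qgen m (binForm a b))) g.1 _).mpr
    ((AutInduced.isInd_iff _ ⟨g.1, GO_le_normalizer _ g.2⟩ _).mpr (fGO_apply _ g))

include hp hcp in
/-- the image of a similarity with non-square multiplier is not a square modulo the inner
automorphisms -/
theorem not_sq_of_mulr {C : Type*} [Group C]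
    (φ : ↥(Subgroup.closure (genSet m a b ⇑(Qgen m (binForm a b)))) →* C)
    (hφs : Function.Surjective φ)
    (hφk : φ.ker = (Cfsg.Inn (Cfsg.POmega F ⇑(Qgen m (binForm a b)))).subgroupOf
      (Subgroup.closure (genSet m a b ⇑(Qgen m (binForm a b)))))
    (h : ↥(GO (Qgen m (binForm a b))))
    (hyH : fGO (Qgen m (binForm a b)) h ∈
      Subgroup.closure (genSet m a b ⇑(Qgen m (binForm a b))))
    (hmul : ¬ IsSquare ((mulr (Qgen m (binForm a b)) h : Fˣ) : F)) :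
    ∀ w : C, φ ⟨fGO (Qgen m (binForm a b)) h, hyH⟩ ≠ w * w := by
  intro w hw
  obtain ⟨gw, rfl⟩ := hφs w
  have hmem : (⟨fGO (Qgen m (binForm a b)) h, hyH⟩ :
      ↥(Subgroup.closure (genSet m a b ⇑(Qgen m (binForm a b))))) * (gw * gw)⁻¹ ∈ φ.ker := by
    rw [MonoidHom.mem_ker, map_mul, map_inv, map_mul, hw, mul_inv_cancel]
  rw [hφk, Subgroup.mem_subgroupOf] at hmem
  have hgw : gw.1 ∈ (fGO (Qgen m (binForm a b))).range := by
    rw [← pgoAut_eq_range]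
    exact closure_genSet_le a b gw.2
  obtain ⟨γ, hγ⟩ := hgw
  have hmem' : fGO (Qgen m (binForm a b)) (h * (γ * γ)⁻¹) ∈
      Cfsg.Inn (Cfsg.POmega F ⇑(Qgen m (binForm a b))) := by
    rw [map_mul, map_inv, map_mul, hγ]
    exact hmem
  obtain ⟨c', ω, hω, hmat⟩ := (fGO_mem_Inn_iff p _).mp hmem'
  have hmat' : ((h.1 : GL ((Fin m ⊕ Fin m) ⊕ Fin 2) F) :
      Matrix ((Fin m ⊕ Fin m) ⊕ Fin 2) ((Fin m ⊕ Fin m) ⊕ Fin 2) F) =
      c' • (((ω.1 : GL ((Fin m ⊕ Fin m) ⊕ Fin 2) F) :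
        Matrix ((Fin m ⊕ Fin m) ⊕ Fin 2) ((Fin m ⊕ Fin m) ⊕ Fin 2) F) *
        (((γ.1 : GL ((Fin m ⊕ Fin m) ⊕ Fin 2) F) :
          Matrix ((Fin m ⊕ Fin m) ⊕ Fin 2) ((Fin m ⊕ Fin m) ⊕ Fin 2) F) *
        ((γ.1 : GL ((Fin m ⊕ Fin m) ⊕ Fin 2) F) :
          Matrix ((Fin m ⊕ Fin m) ⊕ Fin 2) ((Fin m ⊕ Fin m) ⊕ Fin 2) F))) := by
    have e1 : ((h * (γ * γ)⁻¹ : ↥(GO (Qgen m (binForm a b)))).1 :
        GL ((Fin m ⊕ Fin m) ⊕ Fin 2) F) = h.1 * (γ.1 * γ.1)⁻¹ := rfl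
    rw [e1, Units.val_mul] at hmat
    calc ((h.1 : GL ((Fin m ⊕ Fin m) ⊕ Fin 2) F) :
        Matrix ((Fin m ⊕ Fin m) ⊕ Fin 2) ((Fin m ⊕ Fin m) ⊕ Fin 2) F)
        = (h.1 : Matrix ((Fin m ⊕ Fin m) ⊕ Fin 2) ((Fin m ⊕ Fin m) ⊕ Fin 2) F) *
          (((γ.1 * γ.1)⁻¹ : GL ((Fin m ⊕ Fin m) ⊕ Fin 2) F) :
            Matrix ((Fin m ⊕ Fin m) ⊕ Fin 2) ((Fin m ⊕ Fin m) ⊕ Fin 2) F) *
          ((γ.1 * γ.1 : GL ((Fin m ⊕ Fin m) ⊕ Fin 2) F) :
            Matrix ((Fin m ⊕ Fin m) ⊕ Fin 2) ((Fin m ⊕ Fin m) ⊕ Fin 2) F) := by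
          rw [Matrix.mul_assoc, gl_inv_mul, Matrix.mul_one]
      _ = _ := by
          rw [hmat, Units.val_mul, Matrix.smul_mul]
  obtain ⟨v₀, hv₀⟩ := SemiSimO.exists_Q_ne_zero (Q := Qgen m (binForm a b))
  have e1 := mulr_spec (Qgen m (binForm a b)) h v₀
  rw [hmat', Matrix.smul_mulVec, Q_smul, ← Matrix.mulVec_mulVec, ← Matrix.mulVec_mulVec] at e1
  have hωiso := (OmegaAut.mem_isometryGroup_iff (Qgen m (binForm a b)) ω.1).mp ω.2
  rw [hωiso, mulr_spec, mulr_spec] at e1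
  apply hmul
  refine ⟨c' * (mulr (Qgen m (binForm a b)) γ : F), ?_⟩
  have := mul_right_cancel₀ hv₀ (show ((mulr (Qgen m (binForm a b)) h : Fˣ) : F) *
      Qgen m (binForm a b) v₀ = (c' * (mulr (Qgen m (binForm a b)) γ : F) *
        (c' * (mulr (Qgen m (binForm a b)) γ : F))) * Qgen m (binForm a b) v₀ by
    rw [← e1]; ring)
  exact this

include hab hp hcp in
/-- the class of an automorphism does not split when a similarity with non-square multiplier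
preserving the two classes centralizes it -/
theorem split_minus_odd (hodd : Odd (Fintype.card F)) (hm : 3 ≤ m)
    (hstruct : ((Even m ∧ Fintype.card F % 4 = 3) →
      (∃ φ : ↥(Subgroup.closure (genSet m a b ⇑(Qgen m (binForm a b)))) →*
          Multiplicative (ZMod 4), Function.Surjective φ ∧
        φ.ker = (Cfsg.Inn (Cfsg.POmega F ⇑(Qgen m (binForm a b)))).subgroupOf _)) ∧
      (¬ (Even m ∧ Fintype.card F % 4 = 3) →
      (∃ φ : ↥(Subgroup.closure (genSet m a b ⇑(Qgen m (binForm a b)))) →*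
          Multiplicative (ZMod 2), Function.Surjective φ ∧
        φ.ker = (Cfsg.Inn (Cfsg.POmega F ⇑(Qgen m (binForm a b)))).subgroupOf _)))
    (x : MulAut (Cfsg.POmega F ⇑(Qgen m (binForm a b))))
    (h : ↥(GO (Qgen m (binForm a b))))
    (hpsc : Cfsg.PreservesSingularClassesMinus m a b
      ((h.1 : GL ((Fin m ⊕ Fin m) ⊕ Fin 2) F) :
        Matrix ((Fin m ⊕ Fin m) ⊕ Fin 2) ((Fin m ⊕ Fin m) ⊕ Fin 2) F))
    (hhx : fGO (Qgen m (binForm a b)) h * x = x * fGO (Qgen m (binForm a b)) h)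
    (hmul : ¬ IsSquare ((mulr (Qgen m (binForm a b)) h : Fˣ) : F)) :
    Cfsg.splitClassCount (Subgroup.closure (genSet m a b ⇑(Qgen m (binForm a b))))
      (Cfsg.Inn (Cfsg.POmega F ⇑(Qgen m (binForm a b)))) x = 1 := by
  have hyH := fGO_mem_closure a b h hpsc
  by_cases hcase : Even m ∧ Fintype.card F % 4 = 3
  · obtain ⟨φ, hφs, hφk⟩ := hstruct.1 hcase
    have hns := not_sq_of_mulr a b p φ hφs hφk h hyH hmul
    apply split_of_gen _ _ x φ hφk _ hyH hhx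
    intro z
    obtain ⟨k, -, hk⟩ := gen4 _ hns z
    exact ⟨k, hk⟩
  · obtain ⟨φ, hφs, hφk⟩ := hstruct.2 hcase
    have hns := not_sq_of_mulr a b p φ hφs hφk h hyH hmul
    apply split_of_gen _ _ x φ hφk _ hyH hhx
    intro z
    obtain ⟨k, -, hk⟩ := gen2 _ hns z
    exact ⟨k, hk⟩

end splitodd

section order
variable {F : Type*} [Field F] [Fintype F] {m : ℕ} (p : ℕ) [hp : Fact p.Prime] [hcp : CharP F p]

include hp hcp in
/-- the order of a field automorphism of a minus type group is odd -/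
theorem odd_of_fieldAut (hm : 3 ≤ m) (a b a' b' : F)
    (hab' : ∀ z₁ z₂ : F, z₁ ^ 2 + a' * z₁ * z₂ + b' * z₂ ^ 2 = 0 → z₁ = 0 ∧ z₂ = 0)
    [hS' : Std (Qgen m (binForm a' b'))] (hP' : HP (Qgen m (binForm a' b')))
    (ψ : Cfsg.POmega F ⇑(Qgen m (binForm a b)) ≃* Cfsg.POmega F ⇑(Qgen m (binForm a' b')))
    (σ : F ≃+* F) (hσ : σ ≠ RingEquiv.refl F) (ha' : σ a' = a') (hb' : σ b' = b')
    (x : MulAut (Cfsg.POmega F ⇑(Qgen m (binForm a b))))
    (hφ : Cfsg.IsFieldAutPOmegaOf (⇑(Qgen m (binForm a' b'))) σ ((ψ.symm.trans x).trans ψ))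
    {r : ℕ} (hr : r.Prime) (hxr : orderOf x = r) : ¬ 2 ∣ r := by
  classical
  have eφ := Cfsg.Agent.Lib.Helper16.FieldCosetOmegaOdd.eq_gam_of_isFieldAut σ
    (fieldFix m a' b' σ ha' hb') (fun x => rfl) rfl _ hφ
  have hcong : (ψ.symm.trans x).trans ψ = MulAut.congr ψ x := by
    ext y
    rfl
  have hordφ : orderOf ((ψ.symm.trans x).trans ψ) = r := by
    rw [hcong, MulEquiv.orderOf_eq, hxr]
  have hψφ : psiO p hP' ((ψ.symm.trans x).trans ψ) = σ := by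
    rw [eφ, psiO_gam]
    rfl
  have hσr : orderOf (σ : RingAut F) = r := by
    have h1 : (σ : RingAut F) ^ r = 1 := by
      rw [← hψφ, ← map_pow, ← hordφ, pow_orderOf_eq_one, map_one]
    have h2' := orderOf_dvd_of_pow_eq_one h1
    rcases (Nat.dvd_prime hr).mp h2' with h3 | h3
    · exfalso
      apply hσ
      exact orderOf_eq_one_iff.mp h3
    · exact h3
  exact Cfsg.Agent.Lib.Helper16.MinusField.not_two_dvd_of_aniso_fixed σ r hσr hr.pos a' b' ha' hb'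
    hab'

end order

section main
universe u v
variable {F : Type u} [Field F] [Fintype F]

set_option maxHeartbeats 1600000 in
/-- field automorphisms of the minus type groups: centralizer and class splitting -/
theorem cent_minus {p f : ℕ} [hpp : Fact p.Prime] (hF : Fintype.card F = p ^ f) (hf : 1 ≤ f)
    {m : ℕ} (hm : 3 ≤ m) (a b : F)
    (hab : ∀ z₁ z₂ : F, z₁ ^ 2 + a * z₁ * z₂ + b * z₂ ^ 2 = 0 → z₁ = 0 ∧ z₂ = 0)
    (q : ((Fin m ⊕ Fin m) ⊕ Fin 2 → F) → F) (hq : q = ⇑(Qgen m (binForm a b)))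
    (hstruct : Odd (Fintype.card F) → (((Even m ∧ Fintype.card F % 4 = 3) →
      (∃ φ : ↥(Subgroup.closure (genSet m a b q)) →*
          Multiplicative (ZMod 4), Function.Surjective φ ∧
        φ.ker = (Cfsg.Inn (Cfsg.POmega F q)).subgroupOf _)) ∧
      (¬ (Even m ∧ Fintype.card F % 4 = 3) →
      (∃ φ : ↥(Subgroup.closure (genSet m a b q)) →*
          Multiplicative (ZMod 2), Function.Surjective φ ∧
        φ.ker = (Cfsg.Inn (Cfsg.POmega F q)).subgroupOf _))))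
    (x : MulAut (Cfsg.POmega F q))
    (hx : ∃ (a' b' : F) (ψ : Cfsg.POmega F q ≃* Cfsg.POmega F (Cfsg.quadFormMinus m F a' b'))
      (σ : F ≃+* F),
      (∀ z₁ z₂ : F, z₁ ^ 2 + a' * z₁ * z₂ + b' * z₂ ^ 2 = 0 → z₁ = 0 ∧ z₂ = 0) ∧
      σ ≠ RingEquiv.refl F ∧ σ a' = a' ∧ σ b' = b' ∧
      Cfsg.IsFieldAutPOmegaOf (Cfsg.quadFormMinus m F a' b') σ ((ψ.symm.trans x).trans ψ))
    {r : ℕ} (hr : r.Prime) (hxr : orderOf x = r)
    (F₀ : Type v) [Field F₀] [Fintype F₀] (hF₀ : Fintype.card F₀ = p ^ (f / r)) :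
    Odd r ∧ r ∣ f ∧
    (∃ a₀ b₀ : F₀, (∀ z₁ z₂ : F₀, z₁ ^ 2 + a₀ * z₁ * z₂ + b₀ * z₂ ^ 2 = 0 → z₁ = 0 ∧ z₂ = 0) ∧
      Nonempty (↥(Subgroup.closure (genSet m a b q) ⊓ Subgroup.centralizer {x}) ≃*
        ↥(Subgroup.closure (genSet m a₀ b₀ (Cfsg.quadFormMinus m F₀ a₀ b₀))))) ∧
    Cfsg.splitClassCount (Subgroup.closure (genSet m a b q)) (Cfsg.Inn (Cfsg.POmega F q)) x = 1 := by
  classical
  subst hq
  obtain ⟨a', b', ψ, σ, hab', hσ, ha', hb', hφ⟩ := hx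
  have hfun' : Cfsg.quadFormMinus m F a' b' = ⇑(Qgen m (binForm a' b')) := by
    funext v
    rw [Qgen_apply, binForm_apply]
    rfl
  revert ψ hφ
  rw [hfun']
  intro ψ hφ
  haveI hS := std_minus a b hab hm
  have hP := HP_minus a b hab hm
  haveI hS' := std_minus a' b' hab' hm
  have hP' := HP_minus a' b' hab' hm
  haveI : CharP F p := charP_of_card_pow' hF
  haveI : CharP F₀ p := charP_of_card_pow' hF₀
  have hτx := psiO_order p hm a b a' b' hab hab' hP hP' ψ σ hσ ha' hb' x hφ hr hxr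
  have hodd2 := odd_of_fieldAut p hm a b a' b' hab' hP' ψ σ hσ ha' hb' x hφ hr hxr
  have hoddr : Odd r := by
    rcases Nat.even_or_odd r with he | ho
    · exact absurd (even_iff_two_dvd.mp he) hodd2
    · exact ho
  obtain ⟨Φ, rfl⟩ := exists_semi p hP x
  rw [psiO_gam] at hτx
  obtain ⟨hdvd, -⟩ := Cfsg.Agent.Lib.Helper16.SplitCount.fixed_field_card hF (Φ.σ : RingAut F) r
    hτx hr.pos
  obtain ⟨j, hj⟩ := Cfsg.Agent.Lib.Helper16.SplitCount.exists_embedding hF (Φ.σ : RingAut F) r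
    hτx hr.pos F₀ hF₀
  have hjfix : ∀ c : F₀, Φ.σ (j c) = j c := fun c => (hj _).mpr ⟨c, rfl⟩
  have hpow : Φ.gam ^ r = 1 := by rw [← hxr]; exact pow_orderOf_eq_one _
  obtain ⟨b₁, μ, hμ, hb₁⟩ := Cfsg.Agent.Lib.Helper16.SemiFrame.exists_frame p Φ r hτx hr.pos hpow
  obtain ⟨Q₁, c₁, hc₁, hQ₁, h₁⟩ :=
    Cfsg.Agent.Lib.Helper16.SemiFrame.exists_descended j Φ hj b₁ μ hμ hb₁
  obtain ⟨a₀, b₀, k, hab₀, hk⟩ :=
    Cfsg.Agent.Lib.Helper16.MinusType.exists_std j a b hab Q₁ hQ₁ b₁ c₁ hc₁ h₁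
  obtain ⟨B, hBdef⟩ : ∃ B : GL ((Fin m ⊕ Fin m) ⊕ Fin 2) F,
      B = b₁ * Matrix.GeneralLinearGroup.map j k := ⟨_, rfl⟩
  have hBval : (B : Matrix ((Fin m ⊕ Fin m) ⊕ Fin 2) ((Fin m ⊕ Fin m) ⊕ Fin 2) F) =
      b₁.1 * (k : Matrix ((Fin m ⊕ Fin m) ⊕ Fin 2) ((Fin m ⊕ Fin m) ⊕ Fin 2) F₀).map j := by
    rw [hBdef]; rfl
  have hB : ∀ v : (Fin m ⊕ Fin m) ⊕ Fin 2 → F₀, j (Qgen m (binForm a₀ b₀) v) =
      c₁ * Qgen m (binForm a b) (B.1 *ᵥ fun i => j (v i)) := by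
    intro v
    rw [← hk v, h₁, hBval, ← Matrix.mulVec_mulVec]
    congr 3
    funext i
    exact RingHom.map_mulVec j _ v i
  have hΦB : Φ.mat * B.1.map Φ.σ = μ • B.1 := by
    have hkσ : ((k : Matrix ((Fin m ⊕ Fin m) ⊕ Fin 2) ((Fin m ⊕ Fin m) ⊕ Fin 2) F₀).map j).map
        Φ.σ = (k : Matrix ((Fin m ⊕ Fin m) ⊕ Fin 2) ((Fin m ⊕ Fin m) ⊕ Fin 2) F₀).map j := by
      ext s t
      rw [Matrix.map_apply, Matrix.map_apply, hjfix]
    rw [hBval, Matrix.map_mul, hkσ, ← Matrix.mul_assoc, hb₁, Matrix.smul_mul]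
  haveI hS₀ := std_minus a₀ b₀ hab₀ hm
  obtain ⟨K, hK, hKeq⟩ := inndiag_eq_map a b hab p hm
  obtain ⟨K₀, hK₀, hK₀eq⟩ := inndiag_eq_map a₀ b₀ hab₀ p hm
  have hKs : ∀ g g' : ↥(GO (Qgen m (binForm a b))), g ∈ K → ∀ s : F, s ≠ 0 →
      ((g'.1 : GL ((Fin m ⊕ Fin m) ⊕ Fin 2) F) :
        Matrix ((Fin m ⊕ Fin m) ⊕ Fin 2) ((Fin m ⊕ Fin m) ⊕ Fin 2) F) =
      s • ((g.1 : GL ((Fin m ⊕ Fin m) ⊕ Fin 2) F) :
        Matrix ((Fin m ⊕ Fin m) ⊕ Fin 2) ((Fin m ⊕ Fin m) ⊕ Fin 2) F) → g' ∈ K := by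
    intro g g' hg s hs hgg'
    rw [← hK] at hg ⊢
    rw [hgg']
    exact pscMinus_smul m a b _ s hs hg
  have hcompat : ∀ g₀ : ↥(GO (Qgen m (binForm a₀ b₀))),
      mapGO' j (Qgen m (binForm a₀ b₀)) (Qgen m (binForm a b)) B c₁ hc₁ hB g₀ ∈ K ↔ g₀ ∈ K₀ := by
    intro g₀
    rw [← hK, ← hK₀]
    exact compat j a b hab a₀ b₀ hab₀ B c₁ hc₁ hB hm g₀
  obtain ⟨e⟩ := cent_iso_sub j (Qgen m (binForm a₀ b₀)) (Qgen m (binForm a b)) B c₁ hc₁ hB Φ μ hμ
    hΦB p hj K K₀ hKs hcompat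
  have hfun₀ : Cfsg.quadFormMinus m F₀ a₀ b₀ = ⇑(Qgen m (binForm a₀ b₀)) := by
    funext v
    rw [Qgen_apply, binForm_apply]
    rfl
  refine ⟨hoddr, hdvd, ⟨a₀, b₀, hab₀, ?_⟩, ?_⟩
  · rw [hfun₀, hKeq, hK₀eq]
    exact ⟨e⟩
  · by_cases h2 : (2 : F) = 0
    · rw [inndiag_eq_Inn_two a b hab p h2 hm]
      apply split_one_of_factor
      intro g hg
      exact ⟨g, hg, 1, Subgroup.one_mem _, by simp, by simp⟩
    · have hodd := odd_card_of_two_ne_zero h2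
      have h2₀ : (2 : F₀) ≠ 0 := by
        intro h
        apply h2
        have := congrArg j h
        rwa [map_ofNat, map_zero] at this
      have hodd₀ := odd_card_of_two_ne_zero h2₀
      have hchar₀ : ringChar F₀ ≠ 2 := by
        intro h
        apply h2₀
        have := ringChar.spec F₀ 2
        have h3 : ((2 : ℕ) : F₀) = 0 := by rw [this, h]
        exact_mod_cast h3
      obtain ⟨lam, hlam⟩ := FiniteField.exists_nonsquare hchar₀
      have hlam0 : lam ≠ 0 := by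
        rintro rfl
        exact hlam ⟨0, (mul_zero 0).symm⟩
      obtain ⟨u, hu⟩ := exists_binForm_eq a₀ b₀ hab₀ lam
      have hnd₀ := nondegenerate_Qgen m (binForm a₀ b₀) (nondegenerate_binForm a₀ b₀ hab₀)
      have hspec : ∀ v, Qgen m (binForm a₀ b₀) (minusSimMat m a₀ b₀ lam u *ᵥ v) =
          ((Units.mk0 lam hlam0 : F₀ˣ) : F₀) * Qgen m (binForm a₀ b₀) v :=
        minusSimMat_spec m a₀ b₀ lam u hu
      obtain ⟨h₀, hh₀⟩ : ∃ h₀ : ↥(GO (Qgen m (binForm a₀ b₀))),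
          h₀ = simOfMatrix _ hnd₀ (minusSimMat m a₀ b₀ lam u) (Units.mk0 lam hlam0) hspec :=
        ⟨_, rfl⟩
      obtain ⟨w₀, hw₀⟩ := SemiSimO.exists_Q_ne_zero (Q := Qgen m (binForm a₀ b₀))
      have hmulr₀ : mulr (Qgen m (binForm a₀ b₀)) h₀ = Units.mk0 lam hlam0 := by
        rw [hh₀]
        exact mulr_simOfMatrix _ hnd₀ _ _ hspec w₀ hw₀
      have hpsc₀ : Cfsg.PreservesSingularClassesMinus m a₀ b₀
          ((h₀.1 : GL ((Fin m ⊕ Fin m) ⊕ Fin 2) F₀) :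
            Matrix ((Fin m ⊕ Fin m) ⊕ Fin 2) ((Fin m ⊕ Fin m) ⊕ Fin 2) F₀) := by
        rw [pscMinus_iff m a₀ b₀ hodd₀ hab₀ h₀.1 (mulr _ h₀) (Units.ne_zero _) (mulr_spec _ h₀),
          hmulr₀, hh₀, simOfMatrix_val]
        exact Cfsg.Agent.S2729.minusSimMat_det m a₀ b₀ lam u hu
      obtain ⟨hh, hhdef⟩ : ∃ hh : ↥(GO (Qgen m (binForm a b))),
          hh = mapGO' j (Qgen m (binForm a₀ b₀)) (Qgen m (binForm a b)) B c₁ hc₁ hB h₀ := ⟨_, rfl⟩
      have hpsc : Cfsg.PreservesSingularClassesMinus m a b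
          ((hh.1 : GL ((Fin m ⊕ Fin m) ⊕ Fin 2) F) :
            Matrix ((Fin m ⊕ Fin m) ⊕ Fin 2) ((Fin m ⊕ Fin m) ⊕ Fin 2) F) := by
        rw [hhdef]
        exact (compat j a b hab a₀ b₀ hab₀ B c₁ hc₁ hB hm h₀).mpr hpsc₀
      have hcomm : fGO (Qgen m (binForm a b)) hh * Φ.gam = Φ.gam * fGO (Qgen m (binForm a b)) hh := by
        rw [hhdef]
        exact (mapGO'_comm j _ _ B c₁ hc₁ hB Φ μ hΦB hjfix h₀).symm
      have hmulh : ¬ IsSquare ((mulr (Qgen m (binForm a b)) hh : Fˣ) : F) := by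
        obtain ⟨v₀, hv₀⟩ := SemiSimO.exists_Q_ne_zero (Q := Qgen m (binForm a b))
        have e1 := mulr_spec (Qgen m (binForm a b)) hh v₀
        have e2 := sim_conj j (Qgen m (binForm a₀ b₀)) (Qgen m (binForm a b)) B c₁ hc₁ hB
          (h₀.1 : Matrix ((Fin m ⊕ Fin m) ⊕ Fin 2) ((Fin m ⊕ Fin m) ⊕ Fin 2) F₀) _
          (mulr_spec _ h₀) v₀
        rw [← mapGO'_val j (Qgen m (binForm a₀ b₀)) (Qgen m (binForm a b)) B c₁ hc₁ hB h₀, ← hhdef, e1,
          hmulr₀] at e2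
        have e3 : ((mulr (Qgen m (binForm a b)) hh : Fˣ) : F) = j lam :=
          mul_right_cancel₀ hv₀ e2
        rw [e3]
        have hσr : (Φ.σ : RingAut F) ^ r = 1 := by rw [← hτx]; exact pow_orderOf_eq_one _
        exact not_isSquare_of_odd j h2 Φ.σ hσr hoddr hj lam hlam
      exact split_minus_odd a b hab p hodd hm (hstruct hodd) Φ.gam hh hpsc hcomm hmulh

end main

end Cfsg.Agent.Lib.Helper16.FieldCentMinus2
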