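import Mathlib
import Cfsg.Agent.Lib.Helper6.AutPSU18
import Cfsg.Agent.Lib.Helper16.UnitaryDescent

set_option autoImplicit false
set_option linter.unusedSectionVars false
set_option linter.unusedVariables false

namespace Cfsg.Agent.Lib.Helper16.FieldCosetPSU

open Matrix Cfsg Cfsg.Agent.Lib.Helper6 Cfsg.Agent.Lib.Helper6.AutPSU
  Cfsg.Agent.Lib.Helper16.H90GL Cfsg.Agent.Lib.Helper16.FieldCoset
  Cfsg.Agent.Lib.Helper16.GraphFieldCoset Cfsg.Agent.Lib.Helper16.UnitaryDescent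
open Cfsg.Agent.Lib.Helper6.AutPSL (sG sG_val gl_mul_inv gl_inv_mul)

variable {F : Type*} [Field F] [Fintype F] {q n : ℕ}

/-- `x ↦ x ^ q` as a ring automorphism -/
noncomputable def tauA (hF : Fintype.card F = q ^ 2) : RingAut F :=
  RingEquiv.ofRingHom (conjQ hF) (conjQ hF) (RingHom.ext (conjQ_conjQ hF))
    (RingHom.ext (conjQ_conjQ hF))

theorem tauA_apply (hF : Fintype.card F = q ^ 2) (a : F) : tauA hF a = a ^ q := rfl

theorem tauA_tauA (hF : Fintype.card F = q ^ 2) (a : F) : tauA hF (tauA hF a) = a :=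
  conjQ_conjQ hF a

theorem tauA_ne_one (hF : Fintype.card F = q ^ 2) : tauA hF ≠ 1 := by
  intro h
  apply conjQ_ne_id hF
  ext a
  exact DFunLike.congr_fun h a

theorem tauA_comm (hF : Fintype.card F = q ^ 2) (σ : RingAut F) (a : F) :
    tauA hF (σ a) = σ (tauA hF a) := by
  rw [tauA_apply, tauA_apply, map_pow]

theorem hermForm_eq (hF : Fintype.card F = q ^ 2) (x y : Fin n → F) :
    hermForm n F q x y = x ⬝ᵥ (tauA hF ∘ y) := rfl

/-- matrices with `M* M = 1` preserve the Hermitian form -/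
theorem pres_of_hs (hF : Fintype.card F = q ^ 2) (M : Matrix (Fin n) (Fin n) F)
    (hM : hs (tauA hF) M * M = 1) (x y : Fin n → F) :
    hermForm n F q (M *ᵥ x) (M *ᵥ y) = hermForm n F q x y := by
  have h1 : Mᵀ * M.map (tauA hF) = 1 := by
    have h0 : (hs (tauA hF) M * M).map (tauA hF) = (1 : Matrix (Fin n) (Fin n) F).map (tauA hF) := by
      rw [hM]
    rw [Matrix.map_mul, Matrix.map_one _ (map_zero _) (map_one _)] at h0
    have h2 : (hs (tauA hF) M).map (tauA hF) = Mᵀ := by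
      ext i j
      rw [Matrix.map_apply, hs_apply, tauA_tauA, Matrix.transpose_apply]
    rw [h2] at h0
    exact h0
  rw [hermForm_eq hF, hermForm_eq hF]
  have h2 : (tauA hF ∘ (M *ᵥ y) : Fin n → F) = M.map (tauA hF) *ᵥ (tauA hF ∘ y) := by
    funext i
    exact RingHom.map_mulVec (tauA hF : F →+* F) M y i
  rw [h2, Matrix.dotProduct_mulVec, ← Matrix.vecMul_transpose, Matrix.vecMul_vecMul, h1,
    Matrix.vecMul_one]

theorem hs_of_pres (hF : Fintype.card F = q ^ 2) (M : Matrix (Fin n) (Fin n) F)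
    (hM : ∀ x y, hermForm n F q (M *ᵥ x) (M *ᵥ y) = hermForm n F q x y) :
    hs (tauA hF) M * M = 1 := by
  ext i j
  have h := hM (Pi.single j 1) (Pi.single i 1)
  rw [herm_single_right hF] at h
  rw [Matrix.mul_apply, Matrix.one_apply]
  simp only [hs_apply, tauA_apply]
  simp only [hermForm, Matrix.mulVec_single_one, Matrix.col_apply] at h
  rw [Pi.single_apply] at h
  rw [← h]
  apply Finset.sum_congr rfl
  intro k _
  exact mul_comm _ _


theorem mem_GU_hs (hF : Fintype.card F = q ^ 2) (g : ↥(Cfsg.GU n F q)) :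
    hs (tauA hF) g.1.1 * g.1.1 = 1 := hs_of_pres hF _ (GU_pres g)

theorem inndiag_eq_range :
    Cfsg.inndiagPSU n F q =
      (cU : ↥(Cfsg.GU n F q) →* MulAut (Cfsg.PSU n F q)).range := by
  unfold Cfsg.inndiagPSU Cfsg.autSubgroupOf
  have hset : {β : MulAut (Cfsg.PSU n F q) | Cfsg.IsInnerDiagonalAutPSU β} =
      ((cU : ↥(Cfsg.GU n F q) →* MulAut (Cfsg.PSU n F q)).range :
        Set (MulAut (Cfsg.PSU n F q))) := by
    ext β
    constructor
    · rintro ⟨g, hgU, hg⟩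
      refine ⟨⟨g, hgU⟩, ?_⟩
      ext x
      obtain ⟨s, rfl⟩ := pu_surjective x
      rw [cU_mk]
      exact (hg s (cSU ⟨g, hgU⟩ s) (cSU_val ⟨g, hgU⟩ s)).symm
    · rintro ⟨g, rfl⟩
      exact isInnerDiag_cU g
  rw [hset, Subgroup.closure_eq]

theorem eq_fU_of_isFieldAut (σ : F ≃+* F) (φ : MulAut (Cfsg.PSU n F q))
    (h : Cfsg.IsFieldAutPSUOf σ φ) : φ = fU σ := by
  ext x
  obtain ⟨s, rfl⟩ := pu_surjective x
  rw [fU_mk]
  exact h s (fSU σ s) (fSU_val σ s)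

/-- twisted norm in `GU` -/
noncomputable def NrmU (σ : RingAut F) (g : ↥(Cfsg.GU n F q)) : ℕ → ↥(Cfsg.GU n F q)
  | 0 => 1
  | k + 1 => g * sGU σ (NrmU σ g k)

theorem NrmU_val (σ : RingAut F) (g : ↥(Cfsg.GU n F q)) (k : ℕ) :
    (NrmU σ g k).1 = Nrm σ g.1 k := by
  induction k with
  | zero => rfl
  | succ k ih =>
    change g.1 * sG σ (NrmU σ g k).1 = g.1 * sG σ (Nrm σ g.1 k)
    rw [ih]

theorem pow_cU_fU (σ : RingAut F) (g : ↥(Cfsg.GU n F q)) (k : ℕ) :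
    (cU g * fU σ : MulAut (Cfsg.PSU n F q)) ^ k = cU (NrmU σ g k) * fU (σ ^ k) := by
  induction k with
  | zero =>
    rw [pow_zero, pow_zero, fU_one, mul_one]
    exact (map_one cU).symm
  | succ k ih =>
    rw [pow_succ', ih]
    calc cU g * fU σ * (cU (NrmU σ g k) * fU (σ ^ k))
        = cU g * (fU σ * cU (NrmU σ g k)) * fU (σ ^ k) := by simp only [mul_assoc]
      _ = cU g * (cU (sGU σ (NrmU σ g k)) * fU σ) * fU (σ ^ k) := by rw [rel_fU_cU]
      _ = cU (g * sGU σ (NrmU σ g k)) * (fU σ * fU (σ ^ k)) := by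
          rw [map_mul]; simp only [mul_assoc]
      _ = cU (NrmU σ g (k + 1)) * fU (σ ^ (k + 1)) := by rw [← fU_mul, ← pow_succ']; rfl

section main
variable (p : ℕ) [hp : Fact p.Prime] [CharP F p] (hF : Fintype.card F = q ^ 2) (hn : 3 ≤ n)

include hp hF hn in
theorem fUhom_injective :
    Function.Injective (fUhom : RingAut F →* MulAut (Cfsg.PSU n F q)) := by
  intro τ τ' e
  have e' : (cU (1 : ↥(Cfsg.GU n F q)) * fU τ : MulAut (Cfsg.PSU n F q)) = cU 1 * fU τ' := by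
    rw [map_one, one_mul, one_mul]; exact e
  exact (decomp_unique p hF hn 1 1 τ τ' e').1

include hp hF hn in
/-- the inner-diagonal group is normal -/
theorem conj_cU (h32 : ¬ (n = 3 ∧ q = 2)) (β : MulAut (Cfsg.PSU n F q)) (g : ↥(Cfsg.GU n F q)) :
    ∃ g' : ↥(Cfsg.GU n F q), β * cU g * β⁻¹ = cU g' := by
  obtain ⟨τ, a, rfl⟩ := exists_hasDecU p hF hn h32 β
  refine ⟨a * sGU τ g * a⁻¹, ?_⟩
  rw [mul_inv_eq_iff_eq_mul]
  calc cU a * fU τ * cU g = cU a * (fU τ * cU g) := by rw [mul_assoc]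
    _ = cU a * (cU (sGU τ g) * fU τ) := by rw [rel_fU_cU]
    _ = cU (a * sGU τ g * a⁻¹) * (cU a * fU τ) := by
        simp only [map_mul, map_inv, mul_assoc, inv_mul_cancel_left]

include hp hF hn in
theorem core_fieldU (σ : RingAut F) (r : ℕ) (hr0 : 0 < r) (hodd : Odd (orderOf σ))
    (hord : orderOf (fU σ : MulAut (Cfsg.PSU n F q)) = r) (g : ↥(Cfsg.GU n F q))
    (hg : orderOf (cU g * fU σ : MulAut (Cfsg.PSU n F q)) = r) :
    ∃ h : ↥(Cfsg.GU n F q),
      (cU g * fU σ : MulAut (Cfsg.PSU n F q)) = cU h * fU σ * (cU h)⁻¹ := by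
  have hσord : orderOf σ = r := by
    rw [← hord, ← fUhom_apply, orderOf_injective fUhom (fUhom_injective p hF hn) σ]
  have hσr : σ ^ r = 1 := by rw [← hσord]; exact pow_orderOf_eq_one σ
  have hpow : (cU g * fU σ : MulAut (Cfsg.PSU n F q)) ^ r = 1 := by
    rw [← hg]; exact pow_orderOf_eq_one _
  rw [pow_cU_fU, hσr, fU_one, mul_one] at hpow
  obtain ⟨-, lam, hlam⟩ := cU_eq_fU p hF hn (NrmU σ g r) 1 (by rw [hpow, fU_one])
  have hlamN : lam ^ (q + 1) = 1 := scalar_norm hF hn (NrmU σ g r) lam hlam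
  rw [NrmU_val] at hlam
  have hc : Nrm σ g.1 r ∈ Subgroup.center (GL (Fin n) F) := by
    rw [Matrix.GeneralLinearGroup.mem_center_iff_val_mem_range_scalar]
    exact ⟨lam, by rw [scalar_eq_smul_one, hlam]⟩
  let i0 : Fin n := ⟨0, by omega⟩
  have hfix : σ lam = lam := by
    have h1 := congrArg Units.val (Nrm_fixed σ r hσr g.1 hc)
    rw [sG_val, hlam] at h1
    have := congrFun (congrFun h1 i0) i0
    simpa using this
  have hK := exists_fixed_not_fixed σ (tauA hF) hodd (RingEquiv.ext (tauA_tauA hF))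
    (tauA_ne_one hF)
  obtain ⟨μ, hμ1, hμN⟩ := unitary_norm σ (tauA hF) r hσord hr0 (tauA_comm hF σ) (tauA_tauA hF)
    (tauA_ne_one hF) hK lam (by rw [tauA_apply, ← pow_succ']; exact hlamN) hfix
  have hμ0 : μ ≠ 0 := left_ne_zero_of_mul_eq_one hμ1
  obtain ⟨b, hb⟩ := descent σ r hσord hr0 g.1 μ hμ0 (by rw [hμN, hlam])
  obtain ⟨h, h', hhh', hhU, hgh⟩ := gu_descent σ (tauA hF) (tauA_comm hF σ) (tauA_tauA hF) hK
    g.1.1 b.1 (b⁻¹).1 (mem_GU_hs hF g) (gl_mul_inv b) μ hμ1 hb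
  obtain ⟨hG, hhG⟩ := exists_GU_of_pres hF h (pres_of_hs hF h hhU)
  refine ⟨hG, ?_⟩
  have e1 : (cU (g * sGU σ hG) : MulAut (Cfsg.PSU n F q)) = cU hG := by
    have h0 : (cU (hG⁻¹ * (g * sGU σ hG)) : MulAut (Cfsg.PSU n F q)) = 1 := by
      apply cU_scalar _ μ
      change (hG.1⁻¹).1 * (g.1.1 * (sG σ hG.1).1) = μ • 1
      rw [sG_val, hhG, hgh, Matrix.mul_smul, ← hhG, gl_inv_mul]
    rw [map_mul, map_inv, inv_mul_eq_one] at h0
    exact h0.symm
  symm
  rw [mul_inv_eq_iff_eq_mul]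
  calc cU hG * fU σ = cU (g * sGU σ hG) * fU σ := by rw [e1]
    _ = cU g * (cU (sGU σ hG) * fU σ) := by rw [map_mul, mul_assoc]
    _ = cU g * (fU σ * cU hG) := by rw [rel_fU_cU]
    _ = cU g * fU σ * cU hG := by rw [mul_assoc]

end main

end Cfsg.Agent.Lib.Helper16.FieldCosetPSU
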