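import Mathlib
import Cfsg.Agent.Lib.Helper16.SplitCount
import Cfsg.Agent.Lib.Helper16.FieldCosetPSU
import Cfsg.Agent.Lib.Helper16.FieldCentPSL

set_option autoImplicit false
set_option linter.unusedSectionVars false
set_option linter.unusedVariables false

namespace Cfsg.Agent.Lib.Helper16.FieldCentPSU

open Matrix Cfsg Cfsg.Agent.Lib.Helper6 Cfsg.Agent.Lib.Helper6.AutPSU
  Cfsg.Agent.Lib.Helper16.H90GL
  Cfsg.Agent.Lib.Helper16.GraphFieldCoset Cfsg.Agent.Lib.Helper16.UnitaryDescent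
  Cfsg.Agent.Lib.Helper16.FieldCosetPSU Cfsg.Agent.Lib.Helper16.SplitCount
open Cfsg.Agent.Lib.Helper6.AutPSL (sG sG_val gl_mul_inv gl_inv_mul)
open Cfsg.Agent.Lib.Helper16.FieldCentPSL (mem_cent_comap gl_ne_zero fixU mem_fixU)
open Cfsg.Agent.Lib.Helper16.FieldCoset (card_fin_ge scalar_eq_smul_one orderOf_conj')

theorem pow_q_eq {F₀ : Type*} [Field F₀] [Fintype F₀] {q₀ : ℕ} (hF₀ : Fintype.card F₀ = q₀ ^ 2)
    (r : ℕ) (hr : Odd r) (a : F₀) : a ^ (q₀ ^ r) = a ^ q₀ := by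
  obtain ⟨k, rfl⟩ := hr
  rw [pow_succ, Nat.pow_mul, pow_mul, ← hF₀, FiniteField.pow_card_pow]

variable {F : Type*} [Field F] [Fintype F] {q n : ℕ}

section main
variable (p : ℕ) [hp : Fact p.Prime] [CharP F p] (hF : Fintype.card F = q ^ 2) (hn : 3 ≤ n)

include hp hF hn in
theorem cU_eq_one_iff (g : ↥(Cfsg.GU n F q)) :
    (cU g : MulAut (Cfsg.PSU n F q)) = 1 ↔
      ∃ μ : F, g.1.1 = μ • (1 : Matrix (Fin n) (Fin n) F) := by
  constructor
  · intro h
    exact (cU_eq_fU p hF hn g 1 (by rw [h, fU_one])).2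
  · rintro ⟨μ, hμ⟩
    exact cU_scalar g μ hμ

include hp hF hn in
theorem cU_eq_iff (a b : ↥(Cfsg.GU n F q)) :
    (cU a : MulAut (Cfsg.PSU n F q)) = cU b ↔ ∃ μ : F, a.1.1 = μ • b.1.1 := by
  have h1 : (cU a : MulAut (Cfsg.PSU n F q)) = cU b ↔
      (cU (b⁻¹ * a) : MulAut (Cfsg.PSU n F q)) = 1 := by
    rw [map_mul, map_inv, inv_mul_eq_one]; exact eq_comm
  rw [h1, cU_eq_one_iff p hF hn]
  have hval : (b⁻¹ * a).1.1 = (b.1⁻¹).1 * a.1.1 := rfl
  constructor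
  · rintro ⟨μ, hμ⟩
    refine ⟨μ, ?_⟩
    rw [hval] at hμ
    calc a.1.1 = b.1.1 * ((b.1⁻¹).1 * a.1.1) := by
          rw [← Matrix.mul_assoc, gl_mul_inv, Matrix.one_mul]
      _ = μ • b.1.1 := by rw [hμ, Matrix.mul_smul, Matrix.mul_one]
  · rintro ⟨μ, hμ⟩
    refine ⟨μ, ?_⟩
    rw [hval, hμ, Matrix.mul_smul, gl_inv_mul]

include hp hF hn in
theorem comm_iff (σ : RingAut F) (g : ↥(Cfsg.GU n F q)) :
    (fU σ * cU g : MulAut (Cfsg.PSU n F q)) = cU g * fU σ ↔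
      ∃ μ : F, g.1.1.map σ = μ • g.1.1 := by
  rw [rel_fU_cU, mul_left_inj, cU_eq_iff p hF hn]
  have : (sGU σ g).1.1 = g.1.1.map σ := sG_val σ g.1
  rw [this]

include hF hn in
theorem exists_unitary_fixed_mul (σ : RingAut F) (hodd : Odd (orderOf σ))
    (g : ↥(Cfsg.GU n F q)) (μ : F) (h : g.1.1.map σ = μ • g.1.1) :
    ∃ a : F, a * tauA hF a = 1 ∧ (a • g.1.1).map σ = a • g.1.1 := by
  have hn1 : 1 ≤ n := by omega
  obtain ⟨a₀, ha₀0, ha₀⟩ := FieldCentPSL.exists_fixed_mul hn1 σ g.1 μ h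
  have hcomm := tauA_comm hF σ
  have hτ2 := tauA_tauA hF
  have hτ2' : tauA hF * tauA hF = 1 := RingEquiv.ext hτ2
  have hK := exists_fixed_not_fixed σ (tauA hF) hodd hτ2' (tauA_ne_one hF)
  obtain ⟨c, hc⟩ : ∃ c, c = tauA hF a₀ * a₀ := ⟨_, rfl⟩
  have hc0 : c ≠ 0 := by rw [hc]; exact mul_ne_zero ((map_ne_zero _).mpr ha₀0) ha₀0
  have hτc : tauA hF c = c := by rw [hc, map_mul, hτ2, mul_comm]
  have hmat : hs (tauA hF) (a₀ • g.1.1) * (a₀ • g.1.1) =
      c • (1 : Matrix (Fin n) (Fin n) F) := by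
    rw [hs_smul, Matrix.smul_mul, Matrix.mul_smul, smul_smul, mem_GU_hs hF g, hc, mul_comm]
  have hσc : σ c = c := by
    have h1 : (hs (tauA hF) (a₀ • g.1.1) * (a₀ • g.1.1)).map σ =
        hs (tauA hF) (a₀ • g.1.1) * (a₀ • g.1.1) := by
      rw [Matrix.map_mul, hs_map_comm σ (tauA hF) hcomm, ha₀]
    rw [hmat] at h1
    have := congrFun (congrFun h1 ⟨0, by omega⟩) ⟨0, by omega⟩
    simpa using this
  have hτK1 : ((resK σ (tauA hF) hcomm hτ2 : RingAut ↥(fixK σ)) : ↥(fixK σ) →+* ↥(fixK σ)) ≠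
      RingHom.id _ := by
    obtain ⟨a, ha, hτa⟩ := hK
    intro h
    apply hτa
    have := DFunLike.congr_fun h (⟨a, ha⟩ : ↥(fixK σ))
    exact congrArg Subtype.val this
  obtain ⟨t, ht⟩ := Cfsg.Agent.Lib.Helper6.exists_norm _ hτK1
    (fun a => Subtype.ext (hτ2 a.1)) (⟨c, hσc⟩ : ↥(fixK σ))
    (fun h => hc0 (congrArg Subtype.val h)) (Subtype.ext hτc)
  have ht' : t.1 * tauA hF t.1 = c := congrArg Subtype.val ht
  have ht0 : t.1 ≠ 0 := by intro h; apply hc0; rw [← ht', h, zero_mul]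
  have hσt : σ t.1 = t.1 := t.2
  refine ⟨a₀ / t.1, ?_, ?_⟩
  · rw [map_div₀]
    have hτt0 : tauA hF t.1 ≠ 0 := (map_ne_zero _).mpr ht0
    calc a₀ / t.1 * (tauA hF a₀ / tauA hF t.1)
        = (tauA hF a₀ * a₀) / (t.1 * tauA hF t.1) := by field_simp
      _ = 1 := by rw [← hc, ht', div_self hc0]
  · ext s t'
    have h1 := congrFun (congrFun ha₀ s) t'
    simp only [Matrix.map_apply, Matrix.smul_apply, smul_eq_mul] at h1 ⊢
    rw [div_mul_eq_mul_div, map_div₀, h1, hσt]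

/-- the `σ`-fixed elements of norm one -/
def fixN1 (q : ℕ) (σ : RingAut F) : Subgroup ↥(N1 F q) := (fixU σ).subgroupOf (N1 F q)

theorem mem_fixN1 (σ : RingAut F) (u : ↥(N1 F q)) :
    u ∈ fixN1 q σ ↔ σ ((u : Fˣ) : F) = ((u : Fˣ) : F) := Iff.rfl

include hF hn in
theorem det_image_U (σ : RingAut F) (hodd : Odd (orderOf σ)) (C : Subgroup ↥(Cfsg.GU n F q))
    (hC : ∀ g, g ∈ C ↔ ∃ μ : F, g.1.1.map σ = μ • g.1.1) :
    C.map (guDet1 hF) ⊔ (powMonoidHom n : ↥(N1 F q) →* ↥(N1 F q)).range =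
      fixN1 q σ ⊔ (powMonoidHom n : ↥(N1 F q) →* ↥(N1 F q)).range := by
  have hn1 : 1 ≤ n := by omega
  apply le_antisymm
  · apply sup_le _ le_sup_right
    rintro u ⟨g, hg, rfl⟩
    obtain ⟨μ, hμ⟩ := (hC g).mp hg
    obtain ⟨a, ha1, ha⟩ := exists_unitary_fixed_mul hF hn σ hodd g μ hμ
    have ha0 : a ≠ 0 := left_ne_zero_of_mul_eq_one ha1
    have hau : Units.mk0 a ha0 ∈ N1 F q := by
      rw [mem_N1]
      apply Units.ext
      rw [Units.val_pow_eq_pow_val, Units.val_mk0, Units.val_one, pow_succ', ← tauA_apply hF, ha1]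
    obtain ⟨au, hau'⟩ : ∃ au : ↥(N1 F q), au = ⟨Units.mk0 a ha0, hau⟩ := ⟨_, rfl⟩
    have hauv : ((au : Fˣ) : F) = a := by rw [hau']; rfl
    have hw : au ^ n * guDet1 hF g ∈ fixN1 q σ := by
      rw [mem_fixN1]
      have e : (((au ^ n * guDet1 hF g : ↥(N1 F q)) : Fˣ) : F) = (a • g.1.1).det := by
        rw [Matrix.det_smul, Fintype.card_fin]
        change ((au : Fˣ) : F) ^ n * g.1.1.det = _
        rw [hauv]
      rw [e]
      have h2 := RingHom.map_det (σ : F →+* F) (a • g.1.1)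
      have h3 : (σ : F →+* F).mapMatrix (a • g.1.1) = (a • g.1.1).map σ := rfl
      rw [h3, ha] at h2
      exact h2
    have hv : (au⁻¹) ^ n ∈ (powMonoidHom n : ↥(N1 F q) →* ↥(N1 F q)).range := ⟨_, rfl⟩
    have := Subgroup.mul_mem_sup hw hv
    have e : au ^ n * guDet1 hF g * (au⁻¹) ^ n = guDet1 hF g := by
      rw [inv_pow, mul_comm, ← mul_assoc, inv_mul_cancel, one_mul]
    rw [e] at this
    exact this
  · apply sup_le _ le_sup_right
    intro u hu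
    apply le_sup_left (a := C.map (guDet1 hF))
    rw [mem_fixN1] at hu
    let i0 : Fin n := ⟨0, by omega⟩
    obtain ⟨d, hd⟩ : ∃ d : Fin n → F, d = Function.update (fun _ => (1 : F)) i0 ((u : Fˣ) : F) :=
      ⟨_, rfl⟩
    have hu1 : ((u : Fˣ) : F) ^ (q + 1) = 1 := by
      have := (mem_N1 u.1).mp u.2
      rw [← Units.val_pow_eq_pow_val, this, Units.val_one]
    have hd1 : ∀ i, d i ^ (q + 1) = 1 := by
      intro i
      rw [hd]
      by_cases h : i = i0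
      · rw [h, Function.update_self]; exact hu1
      · rw [Function.update_of_ne h, one_pow]
    have hdet : (Matrix.diagonal d).det = ((u : Fˣ) : F) := by
      rw [Matrix.det_diagonal, hd, Finset.prod_update_of_mem (Finset.mem_univ i0)]
      simp
    have hdσ : ∀ i, σ (d i) = d i := by
      intro i
      rw [hd]
      by_cases h : i = i0
      · rw [h, Function.update_self]; exact hu
      · rw [Function.update_of_ne h, map_one]
    obtain ⟨g, hg⟩ := exists_GU_of_pres hF (Matrix.diagonal d) (diag_pres d hd1)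
    refine ⟨g, ?_, ?_⟩
    · rw [SetLike.mem_coe, hC]
      refine ⟨1, ?_⟩
      rw [one_smul, hg, Matrix.diagonal_map (map_zero σ)]
      congr 1
      funext i
      exact hdσ i
    · apply Subtype.ext
      apply Units.ext
      rw [guDet1_val, hg]
      exact hdet

include hF in
theorem card_fixN1 {F₀ : Type*} [Field F₀] [Fintype F₀] {q₀ : ℕ}
    (hF₀ : Fintype.card F₀ = q₀ ^ 2) (σ : RingAut F) (j : F₀ →+* F)
    (hj : ∀ a : F, σ a = a ↔ a ∈ Set.range j) (hjq : ∀ a : F₀, j a ^ q = j (a ^ q₀)) :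
    Nat.card (fixN1 q σ) = q₀ + 1 := by
  have hjinj : Function.Injective j := RingHom.injective j
  rw [← card_N1 hF₀]
  symm
  have hmem : ∀ u : ↥(N1 F₀ q₀), Units.map (j : F₀ →* F) u.1 ∈ N1 F q := by
    intro u
    rw [mem_N1]
    apply Units.ext
    have hu1 : ((u : F₀ˣ) : F₀) ^ (q₀ + 1) = 1 := by
      have := (mem_N1 u.1).mp u.2
      rw [← Units.val_pow_eq_pow_val, this, Units.val_one]
    rw [Units.val_pow_eq_pow_val, Units.val_one]
    change j ((u : F₀ˣ) : F₀) ^ (q + 1) = 1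
    rw [pow_succ', hjq, ← map_mul, ← pow_succ', hu1, map_one]
  have hfix : ∀ u : ↥(N1 F₀ q₀), (⟨Units.map (j : F₀ →* F) u.1, hmem u⟩ : ↥(N1 F q)) ∈ fixN1 q σ := by
    intro u
    rw [mem_fixN1]
    exact (hj _).mpr ⟨_, rfl⟩
  apply Nat.card_eq_of_bijective
    (fun u : ↥(N1 F₀ q₀) => (⟨⟨Units.map (j : F₀ →* F) u.1, hmem u⟩, hfix u⟩ : ↥(fixN1 q σ)))
  constructor
  · intro u u' h
    apply Subtype.ext
    apply Units.ext
    apply hjinj
    have := congrArg (fun w : ↥(fixN1 q σ) => (((w : ↥(N1 F q)) : Fˣ) : F)) h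
    exact this
  · intro v
    have hv : σ (((v : ↥(N1 F q)) : Fˣ) : F) = (((v : ↥(N1 F q)) : Fˣ) : F) := v.2
    obtain ⟨a, ha⟩ := (hj _).mp hv
    have hv1 : ((((v : ↥(N1 F q)) : Fˣ) : F)) ^ (q + 1) = 1 := by
      have := (mem_N1 v.1.1).mp v.1.2
      rw [← Units.val_pow_eq_pow_val, this, Units.val_one]
    have ha0 : a ≠ 0 := by
      intro h0
      rw [h0, map_zero] at ha
      rw [← ha, zero_pow (by omega)] at hv1
      exact zero_ne_one hv1
    have ha1 : a ^ (q₀ + 1) = 1 := by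
      apply hjinj
      rw [map_one, pow_succ', map_mul, ← hjq, ← pow_succ', ha, hv1]
    have hau : Units.mk0 a ha0 ∈ N1 F₀ q₀ := by
      rw [mem_N1]
      apply Units.ext
      rw [Units.val_pow_eq_pow_val, Units.val_mk0, Units.val_one, ha1]
    refine ⟨⟨Units.mk0 a ha0, hau⟩, ?_⟩
    apply Subtype.ext
    apply Subtype.ext
    apply Units.ext
    exact ha

/-- conjugate of the inner-diagonal parametrisation -/
noncomputable def cA (α : MulAut (Cfsg.PSU n F q)) :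
    ↥(Cfsg.GU n F q) →* MulAut (Cfsg.PSU n F q) :=
  (MulAut.conj α⁻¹).toMonoidHom.comp cU

theorem cA_apply (α : MulAut (Cfsg.PSU n F q)) (g : ↥(Cfsg.GU n F q)) :
    cA α g = α⁻¹ * cU g * α := by
  change MulAut.conj α⁻¹ (cU g) = _
  rw [MulAut.conj_apply, inv_inv]

include hp hF hn in
theorem cA_comm_iff (α : MulAut (Cfsg.PSU n F q)) (σ : RingAut F) (g : ↥(Cfsg.GU n F q)) :
    (α⁻¹ * fU σ * α) * cA α g = cA α g * (α⁻¹ * fU σ * α) ↔
      ∃ μ : F, g.1.1.map σ = μ • g.1.1 := by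
  rw [← comm_iff p hF hn σ g, cA_apply]
  constructor
  · intro h
    have : α * (α⁻¹ * fU σ * α * (α⁻¹ * cU g * α)) * α⁻¹ =
        α * (α⁻¹ * cU g * α * (α⁻¹ * fU σ * α)) * α⁻¹ := by rw [h]
    calc fU σ * cU g = α * (α⁻¹ * fU σ * α * (α⁻¹ * cU g * α)) * α⁻¹ := by group
      _ = α * (α⁻¹ * cU g * α * (α⁻¹ * fU σ * α)) * α⁻¹ := this
      _ = cU g * fU σ := by group
  · intro h
    calc α⁻¹ * fU σ * α * (α⁻¹ * cU g * α) = α⁻¹ * (fU σ * cU g) * α := by group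
      _ = α⁻¹ * (cU g * fU σ) * α := by rw [h]
      _ = α⁻¹ * cU g * α * (α⁻¹ * fU σ * α) := by group

include hp hF hn in
theorem cA_range (h32 : ¬ (n = 3 ∧ q = 2)) (α : MulAut (Cfsg.PSU n F q)) :
    (cA α).range = Cfsg.inndiagPSU n F q := by
  rw [FieldCosetPSU.inndiag_eq_range]
  ext β
  constructor
  · rintro ⟨g, rfl⟩
    obtain ⟨g', hg'⟩ := conj_cU p hF hn h32 α⁻¹ g
    rw [cA_apply]
    rw [inv_inv] at hg'
    exact ⟨g', hg'.symm⟩
  · rintro ⟨g, rfl⟩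
    obtain ⟨g', hg'⟩ := conj_cU p hF hn h32 α g
    refine ⟨g', ?_⟩
    rw [cA_apply, ← hg']
    group

theorem inn_le_inndiag : Cfsg.Inn (Cfsg.PSU n F q) ≤ Cfsg.inndiagPSU n F q := by
  rw [FieldCosetPSU.inndiag_eq_range]
  rintro _ ⟨y, rfl⟩
  obtain ⟨s, rfl⟩ := pu_surjective y
  exact ⟨suGU s, cU_suGU s⟩

include hp hF hn in
theorem cA_mem_inn_iff (α : MulAut (Cfsg.PSU n F q)) (g : ↥(Cfsg.GU n F q)) :
    cA α g ∈ Cfsg.Inn (Cfsg.PSU n F q) ↔ deltaU hF n g = 1 := by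
  have h1 : cA α g ∈ Cfsg.Inn (Cfsg.PSU n F q) ↔ cU g ∈ Cfsg.Inn (Cfsg.PSU n F q) := by
    rw [cA_apply]
    constructor
    · intro h
      have := (Cfsg.innNormal (Cfsg.PSU n F q)).conj_mem _ h α
      have e : α * (α⁻¹ * cU g * α) * α⁻¹ = cU g := by group
      rwa [e] at this
    · intro h
      have := (Cfsg.innNormal (Cfsg.PSU n F q)).conj_mem _ h α⁻¹
      rwa [inv_inv] at this
  rw [h1, ← MonoidHom.mem_ker (f := deltaU hF n), ← rhoU_ker hF p hn, MonoidHom.mem_ker]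
  unfold rhoU
  rw [MonoidHom.comp_apply, QuotientGroup.mk'_apply, QuotientGroup.eq_one_iff]

include hp hF hn in
theorem split_count (h32 : ¬ (n = 3 ∧ q = 2)) (α : MulAut (Cfsg.PSU n F q)) (σ : RingAut F)
    (hodd : Odd (orderOf σ)) {F₀ : Type*} [Field F₀] [Fintype F₀] {q₀ : ℕ}
    (hF₀ : Fintype.card F₀ = q₀ ^ 2) (j : F₀ →+* F)
    (hj : ∀ a : F, σ a = a ↔ a ∈ Set.range j) (hjq : ∀ a : F₀, j a ^ q = j (a ^ q₀)) :
    Cfsg.splitClassCount (Cfsg.inndiagPSU n F q) (Cfsg.Inn (Cfsg.PSU n F q)) (α⁻¹ * fU σ * α) =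
      Nat.gcd n ((q + 1) / (q₀ + 1)) := by
  rw [splitClassCount_eq (Cfsg.inndiagPSU n F q) (Cfsg.Inn (Cfsg.PSU n F q)) (α⁻¹ * fU σ * α)
    (cA α) (cA_range p hF hn h32 α) inn_le_inndiag (deltaU hF n)
    (deltaU_surjective hF (by omega)) (cA_mem_inn_iff p hF hn α)]
  have hC : ∀ g, g ∈ (Subgroup.centralizer {α⁻¹ * fU σ * α}).comap (cA α) ↔
      ∃ μ : F, g.1.1.map σ = μ • g.1.1 := by
    intro g
    rw [mem_cent_comap, cA_comm_iff p hF hn]
  have hdelta : (deltaU hF n : ↥(Cfsg.GU n F q) →* _) =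
      (QuotientGroup.mk' (powMonoidHom n : ↥(N1 F q) →* ↥(N1 F q)).range).comp (guDet1 hF) := rfl
  rw [hdelta, ← Subgroup.map_map, Subgroup.index_map, QuotientGroup.ker_mk',
    MonoidHom.range_eq_top.mpr (QuotientGroup.mk'_surjective _), Subgroup.index_top, mul_one,
    det_image_U hF hn σ hodd _ hC, index_sup_pow, card_fixN1 hF hF₀ σ j hj hjq, card_N1 hF]

include hF in
theorem map_mem_GU {F₀ : Type*} [Field F₀] [Fintype F₀] {q₀ : ℕ}
    (hF₀ : Fintype.card F₀ = q₀ ^ 2) (j : F₀ →+* F) (hjq : ∀ a : F₀, j a ^ q = j (a ^ q₀))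
    (g₀ : ↥(Cfsg.GU n F₀ q₀)) :
    Matrix.GeneralLinearGroup.map j g₀.1 ∈ Cfsg.GU n F q := by
  have h0 := mem_GU_hs hF₀ g₀
  have h1 : (hs (tauA hF₀) g₀.1.1).map j = hs (tauA hF) (g₀.1.1.map j) := by
    ext s t
    rw [Matrix.map_apply, hs_apply, hs_apply, Matrix.map_apply, tauA_apply, tauA_apply, hjq]
  have h2 : hs (tauA hF) (g₀.1.1.map j) * g₀.1.1.map j = 1 := by
    rw [← h1, ← Matrix.map_mul, h0, Matrix.map_one _ (map_zero j) (map_one j)]
  exact fun u v => pres_of_hs hF _ h2 u v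

/-- base change of unitary matrices -/
noncomputable def mapGU {F₀ : Type*} [Field F₀] [Fintype F₀] {q₀ : ℕ}
    (hF₀ : Fintype.card F₀ = q₀ ^ 2) (j : F₀ →+* F) (hjq : ∀ a : F₀, j a ^ q = j (a ^ q₀)) :
    ↥(Cfsg.GU n F₀ q₀) →* ↥(Cfsg.GU n F q) :=
  MonoidHom.codRestrict ((Matrix.GeneralLinearGroup.map j).comp (Cfsg.GU n F₀ q₀).subtype)
    (Cfsg.GU n F q) (fun g₀ => map_mem_GU hF hF₀ j hjq g₀)

theorem mapGU_val {F₀ : Type*} [Field F₀] [Fintype F₀] {q₀ : ℕ}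
    (hF₀ : Fintype.card F₀ = q₀ ^ 2) (j : F₀ →+* F) (hjq : ∀ a : F₀, j a ^ q = j (a ^ q₀))
    (g₀ : ↥(Cfsg.GU n F₀ q₀)) : (mapGU hF hF₀ j hjq g₀).1.1 = g₀.1.1.map j := rfl

include hp hF hn in
/-- the centralizer of a field automorphism of odd order in the inner-diagonal group is `PGU_n`
of the fixed field -/
theorem cent_iso (h32 : ¬ (n = 3 ∧ q = 2)) (α : MulAut (Cfsg.PSU n F q)) (σ : RingAut F)
    (hodd : Odd (orderOf σ)) {F₀ : Type*} [Field F₀] [Fintype F₀] {q₀ : ℕ}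
    (hF₀ : Fintype.card F₀ = q₀ ^ 2) (j : F₀ →+* F)
    (hj : ∀ a : F, σ a = a ↔ a ∈ Set.range j) (hjq : ∀ a : F₀, j a ^ q = j (a ^ q₀)) :
    Nonempty (↥(Cfsg.inndiagPSU n F q ⊓ Subgroup.centralizer {α⁻¹ * fU σ * α}) ≃*
      Cfsg.PGU n F₀ q₀) := by
  have hjinj : Function.Injective j := RingHom.injective j
  have hn1 : 1 ≤ n := by omega
  obtain ⟨Ψ, hΨ⟩ : ∃ Ψ : ↥(Cfsg.GU n F₀ q₀) →* MulAut (Cfsg.PSU n F q),
      Ψ = (cA α).comp (mapGU hF hF₀ j hjq) := ⟨_, rfl⟩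
  have hΨa : ∀ g₀, Ψ g₀ = cA α (mapGU hF hF₀ j hjq g₀) := fun g₀ => by rw [hΨ]; rfl
  have hmem : ∀ g, cA α g ∈ Subgroup.centralizer {α⁻¹ * fU σ * α} ↔
      ∃ μ : F, g.1.1.map σ = μ • g.1.1 := by
    intro g
    rw [← Subgroup.mem_comap, mem_cent_comap, cA_comm_iff p hF hn]
  have hιinj : Function.Injective
      (fun M : Matrix (Fin n) (Fin n) F₀ => M.map j) :=
    Matrix.map_injective hjinj
  have hrange : Ψ.range = Cfsg.inndiagPSU n F q ⊓ Subgroup.centralizer {α⁻¹ * fU σ * α} := by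
    apply le_antisymm
    · rintro _ ⟨g₀, rfl⟩
      rw [hΨa]
      refine ⟨?_, ?_⟩
      · rw [← cA_range p hF hn h32 α]; exact ⟨_, rfl⟩
      · refine (hmem _).mpr ⟨1, ?_⟩
        rw [one_smul, mapGU_val]
        ext s t
        rw [Matrix.map_apply, Matrix.map_apply]
        exact (hj _).mpr ⟨_, rfl⟩
    · rintro β ⟨hβ1, hβ2⟩
      rw [SetLike.mem_coe, ← cA_range p hF hn h32 α] at hβ1
      obtain ⟨g, rfl⟩ := hβ1
      obtain ⟨μ, hμ⟩ := (hmem g).mp hβ2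
      obtain ⟨a, ha1, ha⟩ := exists_unitary_fixed_mul hF hn σ hodd g μ hμ
      have hent : ∀ s t, ∃ b : F₀, j b = (a • g.1.1) s t := by
        intro s t
        have h1 : σ ((a • g.1.1) s t) = (a • g.1.1) s t := by
          have := congrFun (congrFun ha s) t
          rwa [Matrix.map_apply] at this
        obtain ⟨b, hb⟩ := (hj _).mp h1
        exact ⟨b, hb⟩
      choose M₀ hM₀ using hent
      have hM₀' : (Matrix.of M₀).map j = a • g.1.1 := by
        ext s t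
        rw [Matrix.map_apply, Matrix.of_apply, hM₀]
      have hU₀ : hs (tauA hF₀) (Matrix.of M₀) * Matrix.of M₀ = 1 := by
        apply hιinj
        simp only
        have h1 : (hs (tauA hF₀) (Matrix.of M₀)).map j = hs (tauA hF) ((Matrix.of M₀).map j) := by
          ext s t
          rw [Matrix.map_apply, hs_apply, hs_apply, Matrix.map_apply, tauA_apply, tauA_apply, hjq]
        rw [Matrix.map_mul, h1, hM₀', hs_smul, Matrix.smul_mul, Matrix.mul_smul, smul_smul,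
          mem_GU_hs hF g, mul_comm, ha1, one_smul, Matrix.map_one _ (map_zero j) (map_one j)]
      obtain ⟨g₀, hg₀⟩ := exists_GU_of_pres hF₀ (Matrix.of M₀) (pres_of_hs hF₀ _ hU₀)
      refine ⟨g₀, ?_⟩
      rw [hΨa, cA_apply, cA_apply]
      congr 2
      rw [cU_eq_iff p hF hn]
      refine ⟨a, ?_⟩
      rw [mapGU_val, hg₀]
      exact hM₀'
  have hker : Ψ.ker = (Cfsg.Geo.scalars (Fin n) F₀).subgroupOf (Cfsg.GU n F₀ q₀) := by
    ext g₀
    rw [MonoidHom.mem_ker, hΨa, cA_apply, Subgroup.mem_subgroupOf, Cfsg.Geo.mem_scalars_iff]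
    have h1 : α⁻¹ * cU (mapGU hF hF₀ j hjq g₀) * α = 1 ↔
        (cU (mapGU hF hF₀ j hjq g₀) : MulAut (Cfsg.PSU n F q)) = 1 := by
      constructor
      · intro h
        calc (cU (mapGU hF hF₀ j hjq g₀) : MulAut (Cfsg.PSU n F q))
            = α * (α⁻¹ * cU (mapGU hF hF₀ j hjq g₀) * α) * α⁻¹ := by group
          _ = 1 := by rw [h]; group
      · intro h
        rw [h]; group
    rw [h1, cU_eq_one_iff p hF hn, mapGU_val]
    constructor
    · rintro ⟨μ, hμ⟩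
      let i0 : Fin n := ⟨0, by omega⟩
      have hμ0 : j (g₀.1.1 i0 i0) = μ := by
        have := congrFun (congrFun hμ i0) i0
        simpa using this
      have hg : g₀.1.1 = (g₀.1.1 i0 i0) • (1 : Matrix (Fin n) (Fin n) F₀) := by
        apply hιinj
        simp only
        rw [hμ]
        ext s t
        rw [Matrix.map_apply, Matrix.smul_apply, Matrix.smul_apply, Matrix.one_apply,
          Matrix.one_apply]
        by_cases hst : s = t
        · rw [if_pos hst, if_pos hst, smul_eq_mul, smul_eq_mul, mul_one, mul_one, hμ0]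
        · rw [if_neg hst, if_neg hst, smul_zero, smul_zero, map_zero]
      have h0 : g₀.1.1 i0 i0 ≠ 0 := by
        intro h0
        rw [h0, zero_smul] at hg
        have h1 := gl_mul_inv g₀.1
        rw [hg, Matrix.zero_mul] at h1
        have := congrFun (congrFun h1 i0) i0
        simp at this
      exact ⟨Units.mk0 _ h0, hg⟩
    · rintro ⟨c, hc⟩
      refine ⟨j c, ?_⟩
      rw [hc]
      ext s t
      rw [Matrix.map_apply, Matrix.smul_apply, Matrix.smul_apply, Matrix.one_apply,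
        Matrix.one_apply]
      by_cases hst : s = t
      · rw [if_pos hst, if_pos hst, smul_eq_mul, smul_eq_mul, mul_one, mul_one]
      · rw [if_neg hst, if_neg hst, smul_zero, smul_zero, map_zero]
  have e1 : ↥(Cfsg.GU n F₀ q₀) ⧸ Ψ.ker ≃* ↥Ψ.range := QuotientGroup.quotientKerEquivRange Ψ
  have e2 : ↥Ψ.range ≃* ↥(Cfsg.inndiagPSU n F q ⊓ Subgroup.centralizer {α⁻¹ * fU σ * α}) :=
    MulEquiv.subgroupCongr hrange
  have e3 : Cfsg.PGU n F₀ q₀ ≃* ↥(Cfsg.GU n F₀ q₀) ⧸ Ψ.ker :=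
    QuotientGroup.quotientMulEquivOfEq hker.symm
  exact ⟨(e3.trans (e1.trans e2)).symm⟩

end main

end Cfsg.Agent.Lib.Helper16.FieldCentPSU
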