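import Mathlib
import Cfsg.Agent.S0752
import Cfsg.Agent.Lib.Helper16.UnitaryDescent
import Cfsg.Agent.Lib.Helper6.Symp

set_option autoImplicit false
set_option linter.unusedSectionVars false
set_option linter.unusedVariables false

namespace Cfsg.Agent.Lib.Helper16.SympDescent

open Matrix Module Cfsg.Agent.Lib.Helper16.UnitaryDescent Cfsg.Agent.Lib.Helper6

section gen
variable {F : Type*} [Field F] {ι : Type*} [Fintype ι] [DecidableEq ι]

/-- a matrix with entries in a subfield, as a matrix over the subfield -/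
def toK' (K : Subfield F) (M : Matrix ι ι F) (h : ∀ i j, M i j ∈ K) : Matrix ι ι ↥K :=
  Matrix.of fun i j => ⟨M i j, h i j⟩

theorem toK'_map (K : Subfield F) (M : Matrix ι ι F) (h : ∀ i j, M i j ∈ K) :
    (toK' K M h).map K.subtype = M := by
  ext i j; rfl

theorem inv_fixed (σ : RingAut F) (A A' : Matrix ι ι F) (hAA' : A * A' = 1)
    (hσA : A.map σ = A) : A'.map σ = A' := by
  have hA'A : A' * A = 1 := mul_eq_one_comm.mp hAA'
  have h1 : A * A'.map σ = 1 := by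
    have : (A * A').map σ = (1 : Matrix ι ι F).map σ := by rw [hAA']
    rw [Matrix.map_mul, hσA, Matrix.map_one _ (map_zero σ) (map_one σ)] at this
    exact this
  calc A'.map σ = (A' * A) * A'.map σ := by rw [hA'A, Matrix.one_mul]
    _ = A' * (A * A'.map σ) := by rw [Matrix.mul_assoc]
    _ = A' := by rw [h1, Matrix.mul_one]

theorem mat_ext_form (M N : Matrix ι ι F)
    (h : ∀ u v : ι → F, u ⬝ᵥ (M *ᵥ v) = u ⬝ᵥ (N *ᵥ v)) : M = N := by
  ext i j
  have := h (Pi.single i 1) (Pi.single j 1)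
  simpa [Matrix.mulVec_single_one] using this

end gen

section symp
variable {F : Type*} [Field F] {m : ℕ}

local notation "Mat" => Matrix (Fin m ⊕ Fin m) (Fin m ⊕ Fin m) F
local notation "Jm" => Matrix.J (Fin m) F


/-- a non-degenerate alternating matrix is congruent to `J` -/
theorem alt_congr {K : Type*} [Field K] (A A' : Matrix (Fin m ⊕ Fin m) (Fin m ⊕ Fin m) K) (hAA' : A * A' = 1)
    (hA : ∀ x : Fin m ⊕ Fin m → K, x ⬝ᵥ (A *ᵥ x) = 0) :
    ∃ d d' : Matrix (Fin m ⊕ Fin m) (Fin m ⊕ Fin m) K, d * d' = 1 ∧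
      dᵀ * A * d = Matrix.J (Fin m) K := by
  have hBdef : ∀ x y : Fin m ⊕ Fin m → K, Matrix.toBilin' A x y = x ⬝ᵥ (A *ᵥ y) :=
    fun x y => Matrix.toBilin'_apply' A x y
  have hAlt : (Matrix.toBilin' A).IsAlt := fun x => by rw [hBdef]; exact hA x
  obtain ⟨m', k', b, hef, hee, hff, hrad⟩ := Cfsg.Agent.S0752.result (Matrix.toBilin' A) hAlt
  have hk : k' = 0 := by
    by_contra hk
    have j : Fin k' := ⟨0, Nat.pos_of_ne_zero hk⟩
    have h1 : ∀ y, (b (Sum.inr j)) ⬝ᵥ (A *ᵥ y) = 0 := fun y => by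
      rw [← hBdef]; exact hrad j y
    have h2 : (b (Sum.inr j)) ᵥ* A = 0 := by
      funext t
      have := h1 (Pi.single t 1)
      rw [Matrix.dotProduct_mulVec, dotProduct_single, mul_one] at this
      exact this
    have h3 : b (Sum.inr j) = 0 := by
      have : (b (Sum.inr j)) ᵥ* A ᵥ* A' = b (Sum.inr j) := by
        rw [Matrix.vecMul_vecMul, hAA', Matrix.vecMul_one]
      rw [← this, h2, Matrix.zero_vecMul]
    exact b.ne_zero _ h3
  subst hk
  have hm : m' = m := by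
    have h1 := Module.finrank_eq_card_basis b
    rw [Module.finrank_fintype_fun_eq_card] at h1
    simp only [Fintype.card_sum, Fintype.card_fin] at h1
    omega
  subst hm
  have hskew : ∀ x y, Matrix.toBilin' A x y = - Matrix.toBilin' A y x := fun x y => by
    rw [hAlt.neg_eq]
  obtain ⟨c, hc⟩ : ∃ c : Fin m' ⊕ Fin m' → (Fin m' ⊕ Fin m' → K),
      c = fun x => Sum.elim (fun j => b (Sum.inl (Sum.inr j))) (fun i => b (Sum.inl (Sum.inl i))) x :=
    ⟨_, rfl⟩
  have hcl : ∀ j, c (Sum.inl j) = b (Sum.inl (Sum.inr j)) := fun j => by rw [hc]; rfl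
  have hcr : ∀ i, c (Sum.inr i) = b (Sum.inl (Sum.inl i)) := fun i => by rw [hc]; rfl
  obtain ⟨d, hd⟩ : ∃ d : Matrix (Fin m' ⊕ Fin m') (Fin m' ⊕ Fin m') K,
      d = Matrix.of fun t x => c x t := ⟨_, rfl⟩
  have hdB : ∀ x y, (dᵀ * A * d) x y = Matrix.toBilin' A (c x) (c y) := by
    intro x y
    rw [hBdef, hd]
    simp only [Matrix.mul_apply, Matrix.transpose_apply, Matrix.of_apply, dotProduct, mulVec,
      Finset.sum_mul, Finset.mul_sum]
    rw [Finset.sum_comm]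
    apply Finset.sum_congr rfl
    intro s _
    apply Finset.sum_congr rfl
    intro t _
    ring
  have hJ : dᵀ * A * d = Matrix.J (Fin m') K := by
    ext x y
    rw [hdB]
    rcases x with i | i <;> rcases y with j | j
    · rw [hcl, hcl, hff, Matrix.J, Matrix.fromBlocks_apply₁₁, Matrix.zero_apply]
    · rw [hcl, hcr, hskew, hef, Matrix.J, Matrix.fromBlocks_apply₁₂, Matrix.neg_apply,
        Matrix.one_apply]
      by_cases h : i = j
      · rw [if_pos h, if_pos h.symm]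
      · rw [if_neg h, if_neg (fun e => h e.symm)]
    · rw [hcr, hcl, hef, Matrix.J, Matrix.fromBlocks_apply₂₁, Matrix.one_apply]
    · rw [hcr, hcr, hee, Matrix.J, Matrix.fromBlocks_apply₂₂, Matrix.zero_apply]
  have h1 : ((-Matrix.J (Fin m') K) * dᵀ * A) * d = 1 := by
    have : ((-Matrix.J (Fin m') K) * dᵀ * A) * d = (-Matrix.J (Fin m') K) * (dᵀ * A * d) := by
      simp only [Matrix.mul_assoc]
    rw [this, hJ, Matrix.neg_mul, Matrix.J_squared, neg_neg]
  exact ⟨d, (-Matrix.J (Fin m') K) * dᵀ * A, mul_eq_one_comm.mp h1, hJ⟩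


theorem J_map_hom {K : Type*} [Field K] (f : K →+* F) :
    (Matrix.J (Fin m) K).map f = Matrix.J (Fin m) F := by
  ext x y
  rcases x with i | i <;> rcases y with j | j <;>
    simp [Matrix.J, Matrix.one_apply, apply_ite]

theorem J_map (σ : RingAut F) : (Jm).map σ = Jm := by
  ext x y
  rcases x with i | i <;> rcases y with j | j <;>
    simp [Matrix.J, Matrix.one_apply, apply_ite]

theorem symp_mul (M : Mat) (u v : Fin m ⊕ Fin m → F) :
    Cfsg.sympForm m F (M *ᵥ u) (M *ᵥ v) = u ⬝ᵥ ((Mᵀ * Jm * M) *ᵥ v) := by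
  rw [sympForm_def, ← Matrix.mulVec_mulVec, ← Matrix.mulVec_mulVec, Matrix.dotProduct_mulVec u,
    Matrix.vecMul_transpose]

theorem gsp_mat (g : GL (Fin m ⊕ Fin m) F) (hg : g ∈ Cfsg.GSp m F) :
    ∃ c : F, c ≠ 0 ∧ g.1ᵀ * Jm * g.1 = c • Jm := by
  obtain ⟨c, hc⟩ := hg
  refine ⟨c, c.ne_zero, ?_⟩
  apply mat_ext_form
  intro u v
  rw [← symp_mul, hc, Matrix.smul_mulVec, dotProduct_smul, smul_eq_mul, sympForm_def]

theorem mem_gsp_of_mat (M M' : Mat) (hMM' : M * M' = 1) (e : F) (he : e ≠ 0)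
    (hM : Mᵀ * Jm * M = e • Jm) :
    ∃ g : GL (Fin m ⊕ Fin m) F, g ∈ Cfsg.GSp m F ∧ g.1 = M := by
  refine ⟨⟨M, M', hMM', mul_eq_one_comm.mp hMM'⟩, ⟨Units.mk0 e he, ?_⟩, rfl⟩
  intro u v
  change Cfsg.sympForm m F (M *ᵥ u) (M *ᵥ v) = e * Cfsg.sympForm m F u v
  rw [symp_mul, hM, Matrix.smul_mulVec, dotProduct_smul, smul_eq_mul, sympForm_def]

theorem gsp_descent [Finite F] (hm : 1 ≤ m) (σ : RingAut F) (g b b' : Mat) (c μ : F)
    (hc : c ≠ 0) (hμ : μ ≠ 0) (hg : gᵀ * Jm * g = c • Jm) (hbb' : b * b' = 1)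
    (hb : g * b.map σ = μ • b) :
    ∃ (h h' : Mat) (e : F), e ≠ 0 ∧ h * h' = 1 ∧ hᵀ * Jm * h = e • Jm ∧
      g * h.map σ = μ • h := by
  have hb'b : b' * b = 1 := mul_eq_one_comm.mp hbb'
  obtain ⟨J', hJ'⟩ : ∃ J' : Mat, J' = bᵀ * Jm * b := ⟨_, rfl⟩
  have hJ'σ : J'.map σ = (b.map σ)ᵀ * Jm * b.map σ := by
    rw [hJ', Matrix.map_mul, Matrix.map_mul, J_map, Matrix.transpose_map]
  have h1 : c • J'.map σ = (μ * μ) • J' := by
    have e1 : (g * b.map σ)ᵀ * Jm * (g * b.map σ) = c • J'.map σ := by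
      rw [Matrix.transpose_mul, hJ'σ]
      calc (b.map σ)ᵀ * gᵀ * Jm * (g * b.map σ)
          = (b.map σ)ᵀ * (gᵀ * Jm * g) * b.map σ := by simp only [Matrix.mul_assoc]
        _ = c • ((b.map σ)ᵀ * Jm * b.map σ) := by
            rw [hg, Matrix.mul_smul, Matrix.smul_mul]
    have e2 : (μ • b)ᵀ * Jm * (μ • b) = (μ * μ) • J' := by
      rw [Matrix.transpose_smul, Matrix.smul_mul, Matrix.smul_mul, Matrix.mul_smul, smul_smul, hJ']
    rw [← e1, hb, e2]
  have hJJ : Jm * (-Jm) = 1 := by rw [Matrix.mul_neg, Matrix.J_squared, neg_neg]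
  have hJ'inv : J' * (b' * (-Jm) * b'ᵀ) = 1 := by
    rw [hJ']
    calc bᵀ * Jm * b * (b' * (-Jm) * b'ᵀ) = bᵀ * (Jm * ((b * b') * (-Jm))) * b'ᵀ := by
          simp only [Matrix.mul_assoc]
      _ = 1 := by rw [hbb', Matrix.one_mul, hJJ, Matrix.mul_one, ← Matrix.transpose_mul, hb'b,
            Matrix.transpose_one]
  have hne : J' ≠ 0 := by
    intro h0
    rw [h0, Matrix.zero_mul] at hJ'inv
    have := congrFun (congrFun hJ'inv (Sum.inl ⟨0, by omega⟩)) (Sum.inl ⟨0, by omega⟩)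
    simp at this
  obtain ⟨i, j, hij⟩ : ∃ i j, J' i j ≠ 0 := by
    by_contra hcon
    push Not at hcon
    exact hne (Matrix.ext hcon)
  obtain ⟨a, ha⟩ : ∃ a, a = J' i j := ⟨_, rfl⟩
  have ha0 : a ≠ 0 := by rw [ha]; exact hij
  have hσa : c * σ a = μ * μ * a := by
    have := congrFun (congrFun h1 i) j
    rw [Matrix.smul_apply, Matrix.smul_apply, Matrix.map_apply, ← ha, smul_eq_mul, smul_eq_mul]
      at this
    exact this
  obtain ⟨J'', hJ''⟩ : ∃ J'' : Mat, J'' = a⁻¹ • J' := ⟨_, rfl⟩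
  have hJ'eq : J' = a • J'' := by rw [hJ'', smul_smul, mul_inv_cancel₀ ha0, one_smul]
  have hσJ'' : J''.map σ = J'' := by
    have hσa0 : σ a ≠ 0 := (map_ne_zero σ).mpr ha0
    have e1 : J''.map σ = (σ a)⁻¹ • J'.map σ := by
      rw [hJ'']; ext x y; simp
    have e2 : J'.map σ = (c⁻¹ * (μ * μ)) • J' := by
      rw [mul_smul, ← h1, smul_smul, inv_mul_cancel₀ hc, one_smul]
    rw [e1, e2, smul_smul, hJ'']
    congr 1
    have : σ a = c⁻¹ * (μ * μ * a) := by rw [← hσa]; field_simp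
    rw [this]
    field_simp
  have hJ''alt : ∀ x : Fin m ⊕ Fin m → F, x ⬝ᵥ (J'' *ᵥ x) = 0 := by
    intro x
    rw [hJ'', Matrix.smul_mulVec, dotProduct_smul, hJ', ← symp_mul, sympForm_self, smul_zero]
  have hJ''inv : J'' * (a • (b' * (-Jm) * b'ᵀ)) = 1 := by
    rw [hJ'', Matrix.smul_mul, Matrix.mul_smul, smul_smul, inv_mul_cancel₀ ha0, one_smul, hJ'inv]
  have hσinv := inv_fixed σ _ _ hJ''inv hσJ''
  have hι : Function.Injective
      (fun M : Matrix (Fin m ⊕ Fin m) (Fin m ⊕ Fin m) ↥(fixK σ) => M.map (fixK σ).subtype) :=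
    Matrix.map_injective Subtype.val_injective
  have hJK : ∀ x y, J'' x y ∈ fixK σ := fun x y => congrFun (congrFun hσJ'' x) y
  have hJK' : ∀ x y, (a • (b' * (-Jm) * b'ᵀ)) x y ∈ fixK σ :=
    fun x y => congrFun (congrFun hσinv x) y
  have hone : (1 : Matrix (Fin m ⊕ Fin m) (Fin m ⊕ Fin m) ↥(fixK σ)).map (fixK σ).subtype = 1 :=
    Matrix.map_one _ (map_zero _) (map_one _)
  have hK1 : toK' (fixK σ) J'' hJK * toK' (fixK σ) _ hJK' = 1 := by
    apply hι
    simp only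
    rw [Matrix.map_mul, toK'_map, toK'_map, hJ''inv, hone]
  have hKalt : ∀ x : Fin m ⊕ Fin m → ↥(fixK σ), x ⬝ᵥ (toK' (fixK σ) J'' hJK *ᵥ x) = 0 := by
    intro x
    apply Subtype.val_injective
    have e1 := RingHom.map_dotProduct (fixK σ).subtype x (toK' (fixK σ) J'' hJK *ᵥ x)
    have e2 : ((fixK σ).subtype ∘ (toK' (fixK σ) J'' hJK *ᵥ x)) =
        J'' *ᵥ ((fixK σ).subtype ∘ x) := by
      funext t
      have := RingHom.map_mulVec (fixK σ).subtype (toK' (fixK σ) J'' hJK) x t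
      rw [toK'_map] at this
      exact this
    rw [e2, hJ''alt] at e1
    exact e1
  obtain ⟨d, d', hdd', hdJ⟩ := alt_congr _ _ hK1 hKalt
  obtain ⟨D, hD⟩ : ∃ D : Mat, D = d.map (fixK σ).subtype := ⟨_, rfl⟩
  obtain ⟨D', hD'⟩ : ∃ D' : Mat, D' = d'.map (fixK σ).subtype := ⟨_, rfl⟩
  have hDD' : D * D' = 1 := by rw [hD, hD', ← Matrix.map_mul, hdd', hone]
  have hDJ : Dᵀ * J'' * D = Jm := by
    have : (dᵀ * toK' (fixK σ) J'' hJK * d).map (fixK σ).subtype =
        (Matrix.J (Fin m) ↥(fixK σ)).map (fixK σ).subtype := by rw [hdJ]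
    rw [Matrix.map_mul, Matrix.map_mul, toK'_map, J_map_hom, Matrix.transpose_map, ← hD] at this
    exact this
  have hσD : D.map σ = D := by
    rw [hD]; ext x y; exact (d x y).2
  refine ⟨b * D, D' * b', a, ha0, ?_, ?_, ?_⟩
  · calc b * D * (D' * b') = b * (D * D') * b' := by simp only [Matrix.mul_assoc]
      _ = 1 := by rw [hDD', Matrix.mul_one, hbb']
  · rw [Matrix.transpose_mul]
    calc Dᵀ * bᵀ * Jm * (b * D) = Dᵀ * (bᵀ * Jm * b) * D := by simp only [Matrix.mul_assoc]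
      _ = a • (Dᵀ * J'' * D) := by rw [← hJ', hJ'eq, Matrix.mul_smul, Matrix.smul_mul]
      _ = a • Jm := by rw [hDJ]
  · rw [Matrix.map_mul, hσD, ← Matrix.mul_assoc, hb, Matrix.smul_mul]

end symp

end Cfsg.Agent.Lib.Helper16.SympDescent
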