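import Mathlib
import Cfsg.Agent.Lib.Helper6.AutPSp10
import Cfsg.Agent.Lib.Helper16.SympDescent
import Cfsg.Agent.Lib.Helper16.FieldCoset

set_option autoImplicit false
set_option linter.unusedSectionVars false
set_option linter.unusedVariables false

namespace Cfsg.Agent.Lib.Helper16.FieldCosetPSp

open Matrix Cfsg Cfsg.Agent.Lib.Helper6 Cfsg.Agent.Lib.Helper6.AutPSp
  Cfsg.Agent.Lib.Helper6.SympRoot
  Cfsg.Agent.Lib.Helper16.H90GL Cfsg.Agent.Lib.Helper16.FieldCoset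
  Cfsg.Agent.Lib.Helper16.UnitaryDescent Cfsg.Agent.Lib.Helper16.SympDescent
open Cfsg.Agent.Lib.Helper6.AutPSL (sG sG_val sG_inv_val gl_mul_inv gl_inv_mul)

section
variable {m : ℕ} {F : Type*} [Field F]

set_option quotPrecheck false in
local notation "SpG" => ↥(Matrix.symplecticGroup (Fin m) F)
local notation "Vec" => (Fin m ⊕ Fin m → F)
local notation "Mat" => Matrix (Fin m ⊕ Fin m) (Fin m ⊕ Fin m) F
local notation "Jm" => Matrix.J (Fin m) F

/-- inner-diagonal automorphisms as a homomorphism -/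
noncomputable def cPh : ↥(Cfsg.GSp m F) →* MulAut (Cfsg.PSp m F) where
  toFun g := cP g.1 g.2
  map_one' := by
    ext x
    obtain ⟨s, rfl⟩ := pu_surjective x
    rw [cP_mk]
    change pu _ = pu s
    congr 1
    apply Subtype.ext
    rw [cSp_val]
    simp
  map_mul' g h := by
    ext x
    obtain ⟨s, rfl⟩ := pu_surjective x
    change cP _ _ (pu s) = cP _ _ (cP _ _ (pu s))
    rw [cP_mk, cP_mk, cP_mk]
    congr 1
    apply Subtype.ext
    rw [cSp_val, cSp_val, cSp_val]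
    change (g.1 * h.1).1 * s.1 * ((g.1 * h.1)⁻¹).1 = _
    rw [_root_.mul_inv_rev, Units.val_mul, Units.val_mul]
    simp only [Matrix.mul_assoc]

theorem cPh_apply (g : ↥(Cfsg.GSp m F)) : (cPh g : MulAut (Cfsg.PSp m F)) = cP g.1 g.2 := rfl

theorem cPh_mk (g : ↥(Cfsg.GSp m F)) (s : SpG) : cPh g (pu s) = pu (cSp g.1 g.2 s) :=
  cP_mk g.1 g.2 s

theorem fP_mul (σ τ : RingAut F) :
    (fP (σ * τ) : MulAut (Cfsg.PSp m F)) = fP σ * fP τ := by
  ext x
  obtain ⟨s, rfl⟩ := pu_surjective x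
  change fP (σ * τ) (pu s) = fP σ (fP τ (pu s))
  rw [fP_mk, fP_mk, fP_mk]
  congr 1

theorem fP_one : (fP (1 : RingAut F) : MulAut (Cfsg.PSp m F)) = 1 := by
  ext x
  obtain ⟨s, rfl⟩ := pu_surjective x
  rw [fP_mk]
  change pu _ = pu s
  congr 1

/-- the field automorphisms as a homomorphism -/
noncomputable def fPhom : RingAut F →* MulAut (Cfsg.PSp m F) where
  toFun := fP
  map_one' := fP_one
  map_mul' := fP_mul

theorem fPhom_apply (σ : RingAut F) : (fPhom σ : MulAut (Cfsg.PSp m F)) = fP σ := rfl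

theorem sG_mem (σ : RingAut F) (g : GL (Fin m ⊕ Fin m) F) (hg : g ∈ Cfsg.GSp m F) :
    sG σ g ∈ Cfsg.GSp m F := by
  obtain ⟨c, hc0, hc⟩ := gsp_mat g hg
  have h1 : (g.1.map σ)ᵀ * Jm * g.1.map σ = σ c • Jm := by
    have : (g.1ᵀ * Jm * g.1).map σ = (c • Jm).map σ := by rw [hc]
    rw [Matrix.map_mul, Matrix.map_mul, J_map, Matrix.transpose_map] at this
    rw [this]
    ext i j
    simp
    left
    exact congrFun (congrFun (J_map (m := m) σ) i) j
  obtain ⟨g', hg', e⟩ := mem_gsp_of_mat (g.1.map σ) ((g⁻¹).1.map σ)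
    (by rw [← Matrix.map_mul, gl_mul_inv, Matrix.map_one _ (map_zero σ) (map_one σ)])
    (σ c) ((map_ne_zero σ).mpr hc0) h1
  have : g' = sG σ g := Units.ext (by rw [e, sG_val])
  rw [← this]
  exact hg'

/-- a field automorphism applied to a conformal symplectic matrix -/
def sGSp (σ : RingAut F) (g : ↥(Cfsg.GSp m F)) : ↥(Cfsg.GSp m F) := ⟨sG σ g.1, sG_mem σ g.1 g.2⟩

theorem sGSp_val (σ : RingAut F) (g : ↥(Cfsg.GSp m F)) : (sGSp σ g).1 = sG σ g.1 := rfl

theorem rel_fP_cPh (σ : RingAut F) (g : ↥(Cfsg.GSp m F)) :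
    (fP σ * cPh g : MulAut (Cfsg.PSp m F)) = cPh (sGSp σ g) * fP σ := by
  ext x
  obtain ⟨s, rfl⟩ := pu_surjective x
  change fP σ (cPh g (pu s)) = cPh (sGSp σ g) (fP σ (pu s))
  rw [cPh_mk, fP_mk, fP_mk, cPh_mk]
  congr 1
  apply Subtype.ext
  rw [fSp_val, cSp_val, cSp_val, fSp_val, sGSp_val, sG_val, sG_inv_val, Matrix.map_mul,
    Matrix.map_mul]

theorem cPh_scalar (g : ↥(Cfsg.GSp m F)) (a : F) (ha : g.1.1 = a • (1 : Mat)) :
    (cPh g : MulAut (Cfsg.PSp m F)) = 1 := by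
  ext x
  obtain ⟨s, rfl⟩ := pu_surjective x
  rw [cPh_mk]
  change pu _ = pu s
  congr 1
  apply Subtype.ext
  rw [cSp_val]
  have h1 : g.1.1 * s.1 = s.1 * g.1.1 := by
    rw [ha, Matrix.smul_mul, Matrix.mul_smul, Matrix.one_mul, Matrix.mul_one]
  rw [h1, Matrix.mul_assoc, gl_mul_inv, Matrix.mul_one]

theorem cP_congr (g g' : GL (Fin m ⊕ Fin m) F) (hg : g ∈ Cfsg.GSp m F) (hg' : g' ∈ Cfsg.GSp m F)
    (h : g = g') : (cP g hg : MulAut (Cfsg.PSp m F)) = cP g' hg' := by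
  subst h; rfl

theorem comp_single (ρ : RingAut F) (i : Fin m ⊕ Fin m) :
    (fun t => ρ ((Pi.single i (1 : F) : Vec) t)) = (Pi.single i (1 : F) : Vec) := by
  funext t
  by_cases h : t = i
  · subst h; simp
  · simp [Pi.single_apply, h]

/-- uniqueness: a product of an inner-diagonal and a field automorphism is trivial only if both
are -/
theorem cPh_fP_eq_one [Fintype F] (p : ℕ) [hp : Fact p.Prime] [CharP F p] (hm : 1 ≤ m)
    (g : ↥(Cfsg.GSp m F)) (ρ : RingAut F)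
    (e : (cPh g * fP ρ : MulAut (Cfsg.PSp m F)) = 1) :
    ρ = 1 ∧ ∃ a : F, g.1.1 = a • (1 : Mat) := by
  obtain ⟨ν, hν0, hν⟩ := gsp_mat g.1 g.2
  let Φ : SemiSim m F :=
    { S := fun x => g.1.1 *ᵥ (fun i => ρ (x i))
      σ := ρ
      ν := ν
      hν := hν0
      add := fun x y => by
        have : (fun i => ρ ((x + y) i)) = (fun i => ρ (x i)) + (fun i => ρ (y i)) := by
          funext i; simp
        rw [this, Matrix.mulVec_add]
      smul := fun a x => by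
        have : (fun i => ρ ((a • x) i)) = ρ a • (fun i => ρ (x i)) := by
          funext i; simp
        rw [this, Matrix.mulVec_smul]
      form := fun x y => by
        rw [symp_mul, hν, Matrix.smul_mulVec, dotProduct_smul, smul_eq_mul, ← sympForm_def,
          sympForm_map] }
  have hS : ∀ x, Φ.S x = g.1.1 *ᵥ (fun i => ρ (x i)) := fun x => rfl
  have hgl : Φ.gl = g.1 := by
    apply Units.ext
    rw [Φ.gl_val]
    apply matrix_ext_mulVec
    intro x
    rw [Φ.mat_mulVec, hS]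
    congr 1
    funext i
    exact ρ.apply_symm_apply (x i)
  have hgam : Φ.gam = cPh g * fP ρ := by
    unfold SemiSim.gam
    rw [cPh_apply, cP_congr _ _ Φ.gl_mem g.2 hgl]
  rw [← hgam] at e
  have hkey : ∀ u : Vec, u ≠ 0 → ∃ a : F, a ≠ 0 ∧ g.1.1 *ᵥ (fun i => ρ (u i)) = a • u := by
    intro u hu
    have h1 := Φ.gam_tv u 1
    rw [e, MulAut.one_apply] at h1
    have h2 := eq_of_pu_eq (p := p) hm _ _ 1 (tv_pow_char' p u 1) (tv_pow_char' p _ _) h1
    obtain ⟨a, ha0, ha⟩ := tv_eq_imp u (Φ.S u) hu 1 _ one_ne_zero h2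
    refine ⟨a⁻¹, inv_ne_zero ha0, ?_⟩
    rw [← hS]
    conv_rhs => rw [ha]
    rw [smul_smul, inv_mul_cancel₀ ha0, one_smul]
  have hsne : ∀ i : Fin m ⊕ Fin m, (Pi.single i (1 : F) : Vec) ≠ 0 := by
    intro i h
    have := congrFun h i
    simp at this
  -- the columns
  have hcol : ∀ i : Fin m ⊕ Fin m, ∃ l : F, g.1.1 *ᵥ (Pi.single i 1) = l • (Pi.single i 1 : Vec) := by
    intro i
    obtain ⟨a, -, ha⟩ := hkey _ (hsne i)
    rw [comp_single] at ha
    exact ⟨a, ha⟩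
  choose l hl using hcol
  have hleq : ∀ i j : Fin m ⊕ Fin m, i ≠ j → l i = l j := by
    intro i j hij
    have hne : (Pi.single i (1 : F) + Pi.single j 1 : Vec) ≠ 0 := by
      intro h
      have := congrFun h i
      simp [Pi.single_apply, hij] at this
    obtain ⟨a, -, ha⟩ := hkey _ hne
    have hc : (fun t => ρ ((Pi.single i (1 : F) + Pi.single j 1 : Vec) t)) =
        (Pi.single i (1 : F) + Pi.single j 1 : Vec) := by
      have h1 := comp_single ρ i
      have h2 := comp_single ρ j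
      funext t
      have h1' := congrFun h1 t
      have h2' := congrFun h2 t
      simp only [Pi.add_apply, map_add]
      rw [h1', h2']
    rw [hc, Matrix.mulVec_add, hl, hl] at ha
    have hi := congrFun ha i
    have hj := congrFun ha j
    simp [Pi.single_apply, hij, hij.symm] at hi hj
    rw [hi, hj]
  let i0 : Fin m ⊕ Fin m := Sum.inl ⟨0, by omega⟩
  let j0 : Fin m ⊕ Fin m := Sum.inr ⟨0, by omega⟩
  have hij0 : i0 ≠ j0 := by simp [i0, j0]
  have hlall : ∀ i, l i = l i0 := by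
    intro i
    by_cases h : i = i0
    · rw [h]
    · exact hleq i i0 h
  have hg : g.1.1 = l i0 • (1 : Mat) := by
    ext s t
    have := congrFun (hl t) s
    rw [Matrix.mulVec_single_one, hlall] at this
    simpa [Matrix.one_apply, Pi.single_apply] using this
  have hl0 : l i0 ≠ 0 := by
    intro h0
    have h1 := gl_mul_inv g.1
    rw [hg, h0, zero_smul, Matrix.zero_mul] at h1
    have := congrFun (congrFun h1 i0) i0
    simp at this
  refine ⟨?_, l i0, hg⟩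
  apply RingEquiv.ext
  intro c
  have hne : (Pi.single i0 (1 : F) + c • Pi.single j0 1 : Vec) ≠ 0 := by
    intro h
    have := congrFun h i0
    simp [Pi.single_apply, hij0] at this
  obtain ⟨a, -, ha⟩ := hkey _ hne
  rw [hg, Matrix.smul_mulVec, Matrix.one_mulVec] at ha
  have hi := congrFun ha i0
  have hj := congrFun ha j0
  simp [Pi.single_apply, hij0, hij0.symm] at hi hj
  rw [← hi] at hj
  exact mul_left_cancel₀ hl0 hj

theorem inndiag_eq_range :
    Cfsg.inndiagPSp m F = (cPh : ↥(Cfsg.GSp m F) →* MulAut (Cfsg.PSp m F)).range := by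
  unfold Cfsg.inndiagPSp Cfsg.autSubgroupOf
  have hset : {β : MulAut (Cfsg.PSp m F) | Cfsg.IsInnerDiagonalAutPSp β} =
      ((cPh : ↥(Cfsg.GSp m F) →* MulAut (Cfsg.PSp m F)).range : Set (MulAut (Cfsg.PSp m F))) := by
    ext β
    constructor
    · rintro ⟨g, hgU, hg⟩
      refine ⟨⟨g, hgU⟩, ?_⟩
      ext x
      obtain ⟨s, rfl⟩ := pu_surjective x
      rw [cPh_mk]
      refine (hg s (cSp g hgU s) ?_).symm
      rw [cSp_val]
      have : s.1.map (RingEquiv.refl F) = s.1 := by ext i j; rfl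
      rw [this]
    · rintro ⟨g, rfl⟩
      refine ⟨g.1, g.2, ?_⟩
      have := isSemi_cP_fP g.1 g.2 (RingEquiv.refl F)
      rwa [show (fP (RingEquiv.refl F) : MulAut (Cfsg.PSp m F)) = 1 from fP_one, mul_one] at this
  rw [hset, Subgroup.closure_eq]

theorem eq_fP_of_isStd (σ : F ≃+* F) (φ : MulAut (Cfsg.PSp m F))
    (h : Cfsg.IsStdFieldAutPSp σ φ) : φ = fP σ := by
  ext x
  obtain ⟨s, rfl⟩ := pu_surjective x
  rw [fP_mk]
  exact h s (fSp σ s) (fSp_val σ s)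

/-- twisted norm in `GSp` -/
noncomputable def NrmSp (σ : RingAut F) (g : ↥(Cfsg.GSp m F)) : ℕ → ↥(Cfsg.GSp m F)
  | 0 => 1
  | k + 1 => g * sGSp σ (NrmSp σ g k)

theorem NrmSp_val (σ : RingAut F) (g : ↥(Cfsg.GSp m F)) (k : ℕ) :
    (NrmSp σ g k).1 = Nrm σ g.1 k := by
  induction k with
  | zero => rfl
  | succ k ih =>
    change g.1 * sG σ (NrmSp σ g k).1 = g.1 * sG σ (Nrm σ g.1 k)
    rw [ih]

theorem pow_cPh_fP (σ : RingAut F) (g : ↥(Cfsg.GSp m F)) (k : ℕ) :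
    (cPh g * fP σ : MulAut (Cfsg.PSp m F)) ^ k = cPh (NrmSp σ g k) * fP (σ ^ k) := by
  induction k with
  | zero =>
    rw [pow_zero, pow_zero, fP_one, mul_one]
    exact (map_one cPh).symm
  | succ k ih =>
    rw [pow_succ', ih]
    calc cPh g * fP σ * (cPh (NrmSp σ g k) * fP (σ ^ k))
        = cPh g * (fP σ * cPh (NrmSp σ g k)) * fP (σ ^ k) := by simp only [mul_assoc]
      _ = cPh g * (cPh (sGSp σ (NrmSp σ g k)) * fP σ) * fP (σ ^ k) := by rw [rel_fP_cPh]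
      _ = cPh (g * sGSp σ (NrmSp σ g k)) * (fP σ * fP (σ ^ k)) := by
          rw [map_mul]; simp only [mul_assoc]
      _ = cPh (NrmSp σ g (k + 1)) * fP (σ ^ (k + 1)) := by rw [← fP_mul, ← pow_succ']; rfl

section fin
variable [Fintype F]

/-- symplectic matrices as conformal symplectic matrices -/
def spGSp (s : SpG) : ↥(Cfsg.GSp m F) := ⟨spToGL s, spToGL_mem s⟩

theorem cPh_spGSp (s : SpG) :
    (cPh (spGSp s) : MulAut (Cfsg.PSp m F)) = MulAut.conj (pu s) := by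
  ext x
  obtain ⟨y, rfl⟩ := pu_surjective x
  rw [cPh_mk, MulAut.conj_apply, ← map_inv, ← map_mul, ← map_mul]
  congr 1

/-- in characteristic 2 the inner-diagonal automorphisms are inner -/
theorem cPh_inner [CharP F 2] (g : ↥(Cfsg.GSp m F)) :
    ∃ s : SpG, (cPh g : MulAut (Cfsg.PSp m F)) = MulAut.conj (pu s) := by
  obtain ⟨c, hc0, hc⟩ := gsp_mat g.1 g.2
  obtain ⟨t, ht⟩ := FiniteField.isSquare_of_char_two (ringChar.eq F 2) c
  have ht0 : t ≠ 0 := by
    intro h0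
    apply hc0
    rw [ht, h0, zero_mul]
  have hs : t⁻¹ • g.1.1 ∈ Matrix.symplecticGroup (Fin m) F := by
    rw [mem_symplecticGroup_iff_preserves]
    intro u v
    rw [symp_mul, Matrix.transpose_smul, Matrix.smul_mul, Matrix.smul_mul, Matrix.mul_smul,
      smul_smul, hc, smul_smul, ht]
    have : t⁻¹ * t⁻¹ * (t * t) = 1 := by field_simp
    rw [this, one_smul, sympForm_def]
  refine ⟨⟨t⁻¹ • g.1.1, hs⟩, ?_⟩
  ext x
  obtain ⟨y, rfl⟩ := pu_surjective x
  rw [cPh_mk, MulAut.conj_apply, ← map_inv, ← map_mul, ← map_mul]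
  congr 1
  rw [eq_mul_inv_iff_mul_eq]
  apply Subtype.ext
  change (cSp g.1 g.2 y).1 * (t⁻¹ • g.1.1) = (t⁻¹ • g.1.1) * y.1
  rw [cSp_val, Matrix.mul_smul, Matrix.smul_mul, Matrix.mul_assoc, Matrix.mul_assoc, gl_inv_mul,
    Matrix.mul_one]

/-- every automorphism is a product of an inner-diagonal and a field automorphism -/
theorem exists_dec (p : ℕ) [hp : Fact p.Prime] [CharP F p] (hm : 2 ≤ m) (h4 : m = 2 → p ≠ 2)
    (β : MulAut (Cfsg.PSp m F)) :
    ∃ (a : ↥(Cfsg.GSp m F)) (τ : RingAut F), β = cPh a * fP τ := by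
  have htop := gamma_eq_top (F := F) p hm h4
  have hβ : β ∈ Cfsg.gammaPSp m F := by rw [htop]; trivial
  unfold Cfsg.gammaPSp Cfsg.autSubgroupOf at hβ
  induction hβ using Subgroup.closure_induction with
  | mem β hβ =>
    obtain ⟨g, σ, hg, hind⟩ := hβ
    refine ⟨⟨g, hg⟩, σ, ?_⟩
    ext x
    obtain ⟨s, rfl⟩ := pu_surjective x
    change β (pu s) = cPh _ (fP σ (pu s))
    rw [fP_mk, cPh_mk]
    exact hind s _ (by rw [cSp_val, fSp_val])
  | one => exact ⟨1, 1, by rw [map_one, fP_one, one_mul]⟩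
  | mul β β' _ _ h h' =>
    obtain ⟨a, τ, rfl⟩ := h
    obtain ⟨a', τ', rfl⟩ := h'
    refine ⟨a * sGSp τ a', τ * τ', ?_⟩
    calc cPh a * fP τ * (cPh a' * fP τ') = cPh a * (fP τ * cPh a') * fP τ' := by
          simp only [mul_assoc]
      _ = cPh a * (cPh (sGSp τ a') * fP τ) * fP τ' := by rw [rel_fP_cPh]
      _ = cPh (a * sGSp τ a') * fP (τ * τ') := by
          rw [map_mul, fP_mul]; simp only [mul_assoc]
  | inv β _ h =>
    obtain ⟨a, τ, rfl⟩ := h
    refine ⟨sGSp τ⁻¹ a⁻¹, τ⁻¹, ?_⟩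
    rw [_root_.mul_inv_rev, ← rel_fP_cPh, map_inv, ← fPhom_apply, ← fPhom_apply, map_inv]

/-- the inner-diagonal group is normal -/
theorem conj_cPh (p : ℕ) [hp : Fact p.Prime] [CharP F p] (hm : 2 ≤ m)
    (β : MulAut (Cfsg.PSp m F)) (g : ↥(Cfsg.GSp m F)) :
    ∃ g' : ↥(Cfsg.GSp m F), β * cPh g * β⁻¹ = cPh g' := by
  by_cases h2 : p = 2
  · subst h2
    obtain ⟨s, hs⟩ := cPh_inner g
    obtain ⟨s', hs'⟩ := pu_surjective (β (pu s))
    refine ⟨spGSp s', ?_⟩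
    rw [hs, cPh_spGSp, hs']
    ext x
    simp [MulAut.conj_apply]
  · obtain ⟨a, τ, rfl⟩ := exists_dec p hm (fun _ => h2) β
    refine ⟨a * sGSp τ g * a⁻¹, ?_⟩
    rw [mul_inv_eq_iff_eq_mul]
    calc cPh a * fP τ * cPh g = cPh a * (fP τ * cPh g) := by rw [mul_assoc]
      _ = cPh a * (cPh (sGSp τ g) * fP τ) := by rw [rel_fP_cPh]
      _ = cPh (a * sGSp τ g * a⁻¹) * (cPh a * fP τ) := by
          simp only [map_mul, map_inv, mul_assoc, inv_mul_cancel_left]

theorem core_fieldSp (p : ℕ) [hp : Fact p.Prime] [CharP F p] (hm : 2 ≤ m) (σ : RingAut F)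
    (r : ℕ) (hr0 : 0 < r)
    (hord : orderOf (fP σ : MulAut (Cfsg.PSp m F)) = r) (g : ↥(Cfsg.GSp m F))
    (hg : orderOf (cPh g * fP σ : MulAut (Cfsg.PSp m F)) = r) :
    ∃ h : ↥(Cfsg.GSp m F),
      (cPh g * fP σ : MulAut (Cfsg.PSp m F)) = cPh h * fP σ * (cPh h)⁻¹ := by
  have hm1 : 1 ≤ m := by omega
  have hinj : Function.Injective (fPhom : RingAut F →* MulAut (Cfsg.PSp m F)) := by
    rw [injective_iff_map_eq_one]
    intro τ hτ
    have e : (cPh (1 : ↥(Cfsg.GSp m F)) * fP τ : MulAut (Cfsg.PSp m F)) = 1 := by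
      rw [map_one, one_mul]; exact hτ
    exact (cPh_fP_eq_one p hm1 1 τ e).1
  have hσord : orderOf σ = r := by
    rw [← hord, ← fPhom_apply, orderOf_injective fPhom hinj σ]
  have hσr : σ ^ r = 1 := by rw [← hσord]; exact pow_orderOf_eq_one σ
  have hpow : (cPh g * fP σ : MulAut (Cfsg.PSp m F)) ^ r = 1 := by
    rw [← hg]; exact pow_orderOf_eq_one _
  rw [pow_cPh_fP, hσr, fP_one, mul_one] at hpow
  obtain ⟨-, lam, hlam⟩ := cPh_fP_eq_one p hm1 (NrmSp σ g r) 1 (by rw [fP_one, mul_one]; exact hpow)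
  rw [NrmSp_val] at hlam
  have hc : Nrm σ g.1 r ∈ Subgroup.center (GL (Fin m ⊕ Fin m) F) := by
    rw [Matrix.GeneralLinearGroup.mem_center_iff_val_mem_range_scalar]
    exact ⟨lam, by rw [scalar_eq_smul_one, hlam]⟩
  let i0 : Fin m ⊕ Fin m := Sum.inl ⟨0, by omega⟩
  have hlam0 : lam ≠ 0 := by
    intro h0
    have h1 := gl_mul_inv (Nrm σ g.1 r)
    rw [hlam, h0, zero_smul, Matrix.zero_mul] at h1
    have := congrFun (congrFun h1 i0) i0
    simp at this
  have hfix : σ lam = lam := by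
    have h1 := congrArg Units.val (Nrm_fixed σ r hσr g.1 hc)
    rw [sG_val, hlam] at h1
    have := congrFun (congrFun h1 i0) i0
    simpa using this
  obtain ⟨μ, hμ0, hμ⟩ := nrmF_surj σ r hσord hr0 lam hlam0 hfix
  obtain ⟨b, hb⟩ := descent σ r hσord hr0 g.1 μ hμ0 (by rw [hμ, hlam])
  obtain ⟨c, hc0, hcJ⟩ := gsp_mat g.1 g.2
  obtain ⟨h, h', e, he0, hhh', hhJ, hgh⟩ := gsp_descent hm1 σ g.1.1 b.1 (b⁻¹).1 c μ hc0 hμ0 hcJ
    (gl_mul_inv b) hb
  obtain ⟨hG, hGmem, hGval⟩ := mem_gsp_of_mat h h' hhh' e he0 hhJ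
  refine ⟨⟨hG, hGmem⟩, ?_⟩
  have e1 : (cPh (g * sGSp σ ⟨hG, hGmem⟩) : MulAut (Cfsg.PSp m F)) = cPh ⟨hG, hGmem⟩ := by
    have h0 : (cPh ((⟨hG, hGmem⟩ : ↥(Cfsg.GSp m F))⁻¹ * (g * sGSp σ ⟨hG, hGmem⟩)) :
        MulAut (Cfsg.PSp m F)) = 1 := by
      apply cPh_scalar _ μ
      change (hG⁻¹).1 * (g.1.1 * (sG σ hG).1) = μ • 1
      rw [sG_val, hGval, hgh, Matrix.mul_smul, ← hGval, gl_inv_mul]
    rw [map_mul, map_inv, inv_mul_eq_one] at h0
    exact h0.symm
  symm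
  rw [mul_inv_eq_iff_eq_mul]
  calc cPh ⟨hG, hGmem⟩ * fP σ = cPh (g * sGSp σ ⟨hG, hGmem⟩) * fP σ := by rw [e1]
    _ = cPh g * (cPh (sGSp σ ⟨hG, hGmem⟩) * fP σ) := by rw [map_mul, mul_assoc]
    _ = cPh g * (fP σ * cPh ⟨hG, hGmem⟩) := by rw [rel_fP_cPh]
    _ = cPh g * fP σ * cPh ⟨hG, hGmem⟩ := by rw [mul_assoc]

end fin

end

end Cfsg.Agent.Lib.Helper16.FieldCosetPSp
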