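import Mathlib
import Cfsg.Agent.Lib.Helper16.SplitCount
import Cfsg.Agent.Lib.Helper16.FieldCosetPSp
import Cfsg.Agent.Lib.Helper16.FieldCentPSL

set_option autoImplicit false
set_option linter.unusedSectionVars false
set_option linter.unusedVariables false

namespace Cfsg.Agent.Lib.Helper16.FieldCentPSp

open Matrix Cfsg Cfsg.Agent.Lib.Helper6 Cfsg.Agent.Lib.Helper6.AutPSp
  Cfsg.Agent.Lib.Helper6.SympRoot
  Cfsg.Agent.Lib.Helper16.H90GL Cfsg.Agent.Lib.Helper16.FieldCoset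
  Cfsg.Agent.Lib.Helper16.UnitaryDescent Cfsg.Agent.Lib.Helper16.SympDescent
  Cfsg.Agent.Lib.Helper16.FieldCosetPSp Cfsg.Agent.Lib.Helper16.SplitCount
open Cfsg.Agent.Lib.Helper6.AutPSL (sG sG_val sG_inv_val gl_mul_inv gl_inv_mul)
open Cfsg.Agent.Lib.Helper16.FieldCentPSL (fixU mem_fixU card_fixU mem_cent_comap)

section
variable {m : ℕ} {F : Type*} [Field F]

set_option quotPrecheck false in
local notation "SpG" => ↥(Matrix.symplecticGroup (Fin m) F)
local notation "Vec" => (Fin m ⊕ Fin m → F)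
local notation "Mat" => Matrix (Fin m ⊕ Fin m) (Fin m ⊕ Fin m) F
local notation "Jm" => Matrix.J (Fin m) F

theorem J_entry (hm : 1 ≤ m) : (Jm) (Sum.inr ⟨0, by omega⟩) (Sum.inl ⟨0, by omega⟩) = 1 := by
  simp [Matrix.J]

theorem smulJ_inj (hm : 1 ≤ m) (c c' : F) (h : c • Jm = c' • Jm) : c = c' := by
  have := congrFun (congrFun h (Sum.inr ⟨0, by omega⟩)) (Sum.inl ⟨0, by omega⟩)
  rw [Matrix.smul_apply, Matrix.smul_apply, J_entry hm, smul_eq_mul, smul_eq_mul, mul_one,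
    mul_one] at this
  exact this

/-- the multiplier of a conformal symplectic matrix -/
noncomputable def multF (g : ↥(Cfsg.GSp m F)) : F := Classical.choose (gsp_mat g.1 g.2)

theorem multF_ne (g : ↥(Cfsg.GSp m F)) : multF g ≠ 0 := (Classical.choose_spec (gsp_mat g.1 g.2)).1

theorem multF_spec (g : ↥(Cfsg.GSp m F)) : g.1.1ᵀ * Jm * g.1.1 = multF g • Jm :=
  (Classical.choose_spec (gsp_mat g.1 g.2)).2

theorem multF_eq (hm : 1 ≤ m) (g : ↥(Cfsg.GSp m F)) (c : F) (hc : g.1.1ᵀ * Jm * g.1.1 = c • Jm) :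
    multF g = c := by
  apply smulJ_inj hm
  rw [← multF_spec, hc]

/-- the multiplier as a homomorphism -/
noncomputable def mult (hm : 1 ≤ m) : ↥(Cfsg.GSp m F) →* Fˣ :=
  MonoidHom.mk' (fun g => Units.mk0 (multF g) (multF_ne g)) (by
    intro g h
    apply Units.ext
    rw [Units.val_mul, Units.val_mk0, Units.val_mk0, Units.val_mk0]
    apply multF_eq hm
    change (g.1.1 * h.1.1)ᵀ * Jm * (g.1.1 * h.1.1) = _
    rw [Matrix.transpose_mul]
    calc h.1.1ᵀ * g.1.1ᵀ * Jm * (g.1.1 * h.1.1)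
        = h.1.1ᵀ * (g.1.1ᵀ * Jm * g.1.1) * h.1.1 := by simp only [Matrix.mul_assoc]
      _ = (multF g * multF h) • Jm := by
          rw [multF_spec, Matrix.mul_smul, Matrix.smul_mul, multF_spec, smul_smul])

theorem mult_val (hm : 1 ≤ m) (g : ↥(Cfsg.GSp m F)) : ((mult hm g : Fˣ) : F) = multF g := rfl

theorem exists_diag (hm : 1 ≤ m) (u : F) (hu : u ≠ 0) :
    ∃ g : ↥(Cfsg.GSp m F), g.1.1 = Matrix.fromBlocks (u • (1 : Matrix (Fin m) (Fin m) F)) 0 0 1 ∧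
      multF g = u := by
  have h1 : (Matrix.fromBlocks (u • (1 : Matrix (Fin m) (Fin m) F)) 0 0 1 : Mat) *
      Matrix.fromBlocks (u⁻¹ • (1 : Matrix (Fin m) (Fin m) F)) 0 0 1 = 1 := by
    rw [Matrix.fromBlocks_multiply]
    simp [hu, smul_smul, Matrix.fromBlocks_one]
  have h2 : (Matrix.fromBlocks (u • (1 : Matrix (Fin m) (Fin m) F)) 0 0 1 : Mat)ᵀ * Jm *
      Matrix.fromBlocks (u • (1 : Matrix (Fin m) (Fin m) F)) 0 0 1 = u • Jm := by
    rw [Matrix.fromBlocks_transpose, Matrix.J, Matrix.fromBlocks_multiply,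
      Matrix.fromBlocks_multiply, Matrix.fromBlocks_smul]
    simp
  obtain ⟨g, hg, hgv⟩ := mem_gsp_of_mat _ _ h1 u hu h2
  exact ⟨⟨g, hg⟩, hgv, multF_eq hm ⟨g, hg⟩ u (by rw [hgv]; exact h2)⟩

theorem mult_surjective (hm : 1 ≤ m) : Function.Surjective (mult (F := F) hm) := by
  intro u
  obtain ⟨g, -, hg⟩ := exists_diag hm (u : F) u.ne_zero
  exact ⟨g, Units.ext (by rw [mult_val, hg])⟩

theorem multF_scalar (hm : 1 ≤ m) (g : ↥(Cfsg.GSp m F)) (a : F) (ha : g.1.1 = a • (1 : Mat)) :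
    multF g = a * a := by
  apply multF_eq hm
  rw [ha, Matrix.transpose_smul, Matrix.transpose_one, Matrix.smul_mul, Matrix.smul_mul,
    Matrix.one_mul, Matrix.mul_smul, Matrix.mul_one, smul_smul]

theorem gl_ne_zero' {ι : Type*} [Fintype ι] [DecidableEq ι] [Nonempty ι] (g : GL ι F) :
    ∃ i j, g.1 i j ≠ 0 := by
  by_contra hcon
  push Not at hcon
  have h0 : g.1 = 0 := Matrix.ext hcon
  have h1 := gl_mul_inv g
  rw [h0, Matrix.zero_mul] at h1
  obtain ⟨i⟩ := ‹Nonempty ι›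
  have := congrFun (congrFun h1 i) i
  simp at this

theorem exists_fixed_mul' {ι : Type*} [Fintype ι] [DecidableEq ι] [Nonempty ι] (σ : RingAut F)
    (g : GL ι F) (μ : F) (h : g.1.map σ = μ • g.1) :
    ∃ a : F, a ≠ 0 ∧ (a • g.1).map σ = a • g.1 := by
  obtain ⟨i, j, hij⟩ := gl_ne_zero' g
  have hent : ∀ s t, σ (g.1 s t) = μ * g.1 s t := fun s t => by
    have := congrFun (congrFun h s) t
    simpa using this
  have hμ0 : μ ≠ 0 := by
    intro h0
    have := hent i j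
    rw [h0, zero_mul] at this
    exact hij ((map_eq_zero σ).mp this)
  refine ⟨(g.1 i j)⁻¹, inv_ne_zero hij, ?_⟩
  ext s t
  simp only [Matrix.map_apply, Matrix.smul_apply, smul_eq_mul, map_mul, map_inv₀]
  rw [hent i j, hent s t]
  field_simp

section fin
variable [Fintype F] (p : ℕ) [hp : Fact p.Prime] [CharP F p]

include hp in
theorem cPh_eq_one_iff (hm : 1 ≤ m) (g : ↥(Cfsg.GSp m F)) :
    (cPh g : MulAut (Cfsg.PSp m F)) = 1 ↔ ∃ a : F, g.1.1 = a • (1 : Mat) := by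
  constructor
  · intro h
    exact (cPh_fP_eq_one p hm g 1 (by rw [fP_one, mul_one]; exact h)).2
  · rintro ⟨a, ha⟩
    exact cPh_scalar g a ha

include hp in
theorem cPh_eq_iff (hm : 1 ≤ m) (a b : ↥(Cfsg.GSp m F)) :
    (cPh a : MulAut (Cfsg.PSp m F)) = cPh b ↔ ∃ μ : F, a.1.1 = μ • b.1.1 := by
  have h1 : (cPh a : MulAut (Cfsg.PSp m F)) = cPh b ↔ (cPh (b⁻¹ * a) : MulAut (Cfsg.PSp m F)) = 1 := by
    rw [map_mul, map_inv, inv_mul_eq_one, eq_comm]
  rw [h1, cPh_eq_one_iff p hm]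
  have h2 : (b⁻¹ * a).1.1 = (b.1⁻¹).1 * a.1.1 := rfl
  rw [h2]
  constructor
  · rintro ⟨μ, hμ⟩
    refine ⟨μ, ?_⟩
    calc a.1.1 = b.1.1 * ((b.1⁻¹).1 * a.1.1) := by
          rw [← Matrix.mul_assoc, gl_mul_inv, Matrix.one_mul]
      _ = μ • b.1.1 := by rw [hμ, Matrix.mul_smul, Matrix.mul_one]
  · rintro ⟨μ, hμ⟩
    exact ⟨μ, by rw [hμ, Matrix.mul_smul, gl_inv_mul]⟩

include hp in
theorem comm_iff (hm : 1 ≤ m) (σ : RingAut F) (g : ↥(Cfsg.GSp m F)) :
    (fP σ * cPh g : MulAut (Cfsg.PSp m F)) = cPh g * fP σ ↔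
      ∃ μ : F, g.1.1.map σ = μ • g.1.1 := by
  rw [rel_fP_cPh, mul_left_inj, cPh_eq_iff p hm]
  rfl

theorem multF_sp (hm : 1 ≤ m) (s : SpG) : multF (spGSp s) = 1 := by
  apply multF_eq hm
  rw [one_smul]
  change s.1ᵀ * Jm * s.1 = Jm
  have := s.2
  rw [SymplecticGroup.mem_iff'] at this
  exact this

include hp in
/-- an inner-diagonal automorphism is inner iff the multiplier is a square -/
theorem cPh_mem_inn_iff (hm : 1 ≤ m) (g : ↥(Cfsg.GSp m F)) :
    (cPh g : MulAut (Cfsg.PSp m F)) ∈ Cfsg.Inn (Cfsg.PSp m F) ↔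
      mult hm g ∈ (powMonoidHom 2 : Fˣ →* Fˣ).range := by
  constructor
  · rintro ⟨y, hy⟩
    obtain ⟨s, rfl⟩ := pu_surjective y
    rw [← cPh_spGSp] at hy
    obtain ⟨μ, hμ⟩ := (cPh_eq_iff p hm _ _).mp hy
    -- spGSp s = μ • g
    have hμ0 : μ ≠ 0 := by
      intro h0
      rw [h0, zero_smul] at hμ
      have h1 := gl_mul_inv (spGSp s).1
      rw [hμ, Matrix.zero_mul] at h1
      have := congrFun (congrFun h1 (Sum.inl ⟨0, by omega⟩)) (Sum.inl ⟨0, by omega⟩)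
      simp at this
    have h2 : multF (spGSp s) = μ * μ * multF g := by
      apply multF_eq hm
      rw [hμ, Matrix.transpose_smul, Matrix.smul_mul, Matrix.smul_mul, Matrix.mul_smul, smul_smul,
        multF_spec, smul_smul]
    rw [multF_sp hm] at h2
    refine ⟨Units.mk0 μ⁻¹ (inv_ne_zero hμ0), ?_⟩
    apply Units.ext
    rw [powMonoidHom_apply, Units.val_pow_eq_pow_val, Units.val_mk0, mult_val]
    field_simp
    rw [h2]; ring
  · rintro ⟨t, ht⟩
    have ht' : multF g = (t : F) * t := by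
      rw [← mult_val hm, ← ht, powMonoidHom_apply, Units.val_pow_eq_pow_val, pow_two]
    have ht0 : (t : F) ≠ 0 := t.ne_zero
    have hs : (t : F)⁻¹ • g.1.1 ∈ Matrix.symplecticGroup (Fin m) F := by
      rw [mem_symplecticGroup_iff_preserves]
      intro u v
      rw [symp_mul, Matrix.transpose_smul, Matrix.smul_mul, Matrix.smul_mul, Matrix.mul_smul,
        smul_smul, multF_spec, smul_smul, ht']
      have : (t : F)⁻¹ * (t : F)⁻¹ * ((t : F) * t) = 1 := by field_simp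
      rw [this, one_smul, sympForm_def]
    refine ⟨pu ⟨(t : F)⁻¹ • g.1.1, hs⟩, ?_⟩
    symm
    ext x
    obtain ⟨y, rfl⟩ := pu_surjective x
    rw [cPh_mk, MulAut.conj_apply, ← map_inv, ← map_mul, ← map_mul]
    congr 1
    rw [eq_mul_inv_iff_mul_eq]
    apply Subtype.ext
    change (cSp g.1 g.2 y).1 * ((t : F)⁻¹ • g.1.1) = ((t : F)⁻¹ • g.1.1) * y.1
    rw [cSp_val, Matrix.mul_smul, Matrix.smul_mul, Matrix.mul_assoc, Matrix.mul_assoc, gl_inv_mul,
      Matrix.mul_one]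

/-- conjugate of the inner-diagonal parametrisation -/
noncomputable def cA (α : MulAut (Cfsg.PSp m F)) : ↥(Cfsg.GSp m F) →* MulAut (Cfsg.PSp m F) :=
  (MulAut.conj α⁻¹).toMonoidHom.comp cPh

theorem cA_apply (α : MulAut (Cfsg.PSp m F)) (g : ↥(Cfsg.GSp m F)) :
    cA α g = α⁻¹ * cPh g * α := by
  change MulAut.conj α⁻¹ (cPh g) = _
  rw [MulAut.conj_apply, inv_inv]

include hp in
theorem cA_comm_iff (hm : 1 ≤ m) (α : MulAut (Cfsg.PSp m F)) (σ : RingAut F)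
    (g : ↥(Cfsg.GSp m F)) :
    (α⁻¹ * fP σ * α) * cA α g = cA α g * (α⁻¹ * fP σ * α) ↔
      ∃ μ : F, g.1.1.map σ = μ • g.1.1 := by
  rw [← comm_iff p hm σ g, cA_apply]
  constructor
  · intro h
    have : α * (α⁻¹ * fP σ * α * (α⁻¹ * cPh g * α)) * α⁻¹ =
        α * (α⁻¹ * cPh g * α * (α⁻¹ * fP σ * α)) * α⁻¹ := by rw [h]
    calc fP σ * cPh g = α * (α⁻¹ * fP σ * α * (α⁻¹ * cPh g * α)) * α⁻¹ := by group
      _ = α * (α⁻¹ * cPh g * α * (α⁻¹ * fP σ * α)) * α⁻¹ := this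
      _ = cPh g * fP σ := by group
  · intro h
    calc α⁻¹ * fP σ * α * (α⁻¹ * cPh g * α) = α⁻¹ * (fP σ * cPh g) * α := by group
      _ = α⁻¹ * (cPh g * fP σ) * α := by rw [h]
      _ = α⁻¹ * cPh g * α * (α⁻¹ * fP σ * α) := by group

include hp in
theorem cA_range (hm : 2 ≤ m) (α : MulAut (Cfsg.PSp m F)) :
    (cA α).range = Cfsg.inndiagPSp m F := by
  rw [FieldCosetPSp.inndiag_eq_range]
  ext β
  constructor
  · rintro ⟨g, rfl⟩
    obtain ⟨g', hg'⟩ := conj_cPh p hm α⁻¹ g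
    rw [cA_apply]
    rw [inv_inv] at hg'
    exact ⟨g', hg'.symm⟩
  · rintro ⟨g, rfl⟩
    obtain ⟨g', hg'⟩ := conj_cPh p hm α g
    refine ⟨g', ?_⟩
    rw [cA_apply, ← hg']
    group

theorem inn_le_inndiag : Cfsg.Inn (Cfsg.PSp m F) ≤ Cfsg.inndiagPSp m F := by
  rw [FieldCosetPSp.inndiag_eq_range]
  rintro _ ⟨y, rfl⟩
  obtain ⟨s, rfl⟩ := pu_surjective y
  exact ⟨spGSp s, cPh_spGSp s⟩

/-- the multiplier modulo squares -/
noncomputable def delta (hm : 1 ≤ m) :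
    ↥(Cfsg.GSp m F) →* Fˣ ⧸ (powMonoidHom 2 : Fˣ →* Fˣ).range :=
  (QuotientGroup.mk' _).comp (mult hm)

include hp in
theorem cA_mem_inn_iff (hm : 1 ≤ m) (α : MulAut (Cfsg.PSp m F)) (g : ↥(Cfsg.GSp m F)) :
    cA α g ∈ Cfsg.Inn (Cfsg.PSp m F) ↔ delta hm g = 1 := by
  have h1 : cA α g ∈ Cfsg.Inn (Cfsg.PSp m F) ↔ cPh g ∈ Cfsg.Inn (Cfsg.PSp m F) := by
    rw [cA_apply]
    constructor
    · intro h
      have := (Cfsg.innNormal (Cfsg.PSp m F)).conj_mem _ h α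
      have e : α * (α⁻¹ * cPh g * α) * α⁻¹ = cPh g := by group
      rwa [e] at this
    · intro h
      have := (Cfsg.innNormal (Cfsg.PSp m F)).conj_mem _ h α⁻¹
      rwa [inv_inv] at this
  rw [h1, cPh_mem_inn_iff p hm]
  unfold delta
  rw [MonoidHom.comp_apply, QuotientGroup.mk'_apply, QuotientGroup.eq_one_iff]

theorem mult_image (hm : 1 ≤ m) (σ : RingAut F) (C : Subgroup ↥(Cfsg.GSp m F))
    (hC : ∀ g, g ∈ C ↔ ∃ μ : F, g.1.1.map σ = μ • g.1.1) :
    C.map (mult hm) ⊔ (powMonoidHom 2 : Fˣ →* Fˣ).range =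
      fixU σ ⊔ (powMonoidHom 2 : Fˣ →* Fˣ).range := by
  haveI : Nonempty (Fin m ⊕ Fin m) := ⟨Sum.inl ⟨0, by omega⟩⟩
  apply le_antisymm
  · apply sup_le _ le_sup_right
    rintro u ⟨g, hg, rfl⟩
    obtain ⟨μ, hμ⟩ := (hC g).mp hg
    obtain ⟨a, ha0, ha⟩ := exists_fixed_mul' σ g.1 μ hμ
    have hw : (Units.mk0 a ha0) ^ 2 * mult hm g ∈ fixU σ := by
      rw [mem_fixU, Units.val_mul, Units.val_pow_eq_pow_val, Units.val_mk0, mult_val]
      have h1 : (a • g.1.1)ᵀ * Jm * (a • g.1.1) = (a ^ 2 * multF g) • Jm := by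
        rw [Matrix.transpose_smul, Matrix.smul_mul, Matrix.smul_mul, Matrix.mul_smul, smul_smul,
          multF_spec, smul_smul, pow_two]
      have h2 : ((a • g.1.1)ᵀ * Jm * (a • g.1.1)).map σ = (a • g.1.1)ᵀ * Jm * (a • g.1.1) := by
        rw [Matrix.map_mul, Matrix.map_mul, J_map, Matrix.transpose_map, ha]
      rw [h1] at h2
      have := congrFun (congrFun h2 (Sum.inr ⟨0, by omega⟩)) (Sum.inl ⟨0, by omega⟩)
      rw [Matrix.map_apply, Matrix.smul_apply, J_entry hm, smul_eq_mul, mul_one] at this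
      exact this
    have hv : ((Units.mk0 a ha0)⁻¹) ^ 2 ∈ (powMonoidHom 2 : Fˣ →* Fˣ).range := ⟨_, rfl⟩
    have := Subgroup.mul_mem_sup hw hv
    have e : (Units.mk0 a ha0) ^ 2 * mult hm g * ((Units.mk0 a ha0)⁻¹) ^ 2 = mult hm g := by
      rw [inv_pow, mul_comm, ← mul_assoc, inv_mul_cancel, one_mul]
    rw [e] at this
    exact this
  · apply sup_le _ le_sup_right
    intro u hu
    apply le_sup_left (a := C.map (mult hm))
    obtain ⟨g, hgv, hg⟩ := exists_diag hm (u : F) u.ne_zero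
    refine ⟨g, ?_, Units.ext (by rw [mult_val, hg])⟩
    rw [SetLike.mem_coe, hC]
    refine ⟨1, ?_⟩
    rw [one_smul, hgv, Matrix.fromBlocks_map]
    have hu' : σ (u : F) = u := hu
    have e1 : ((u : F) • (1 : Matrix (Fin m) (Fin m) F)).map σ = (u : F) • 1 := by
      ext i j
      rw [Matrix.map_apply, Matrix.smul_apply, Matrix.one_apply]
      by_cases h : i = j
      · rw [if_pos h, smul_eq_mul, mul_one, hu']
      · rw [if_neg h, smul_zero, map_zero]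
    rw [e1, Matrix.map_one _ (map_zero σ) (map_one σ), Matrix.map_zero _ (map_zero σ)]


theorem geom_even (q r : ℕ) (hq : q % 2 = 0) (hr : 0 < r) :
    (∑ i ∈ Finset.range r, q ^ i) % 2 = 1 := by
  obtain ⟨r', rfl⟩ : ∃ r', r = r' + 1 := ⟨r - 1, by omega⟩
  rw [Finset.sum_range_succ']
  have : ∑ i ∈ Finset.range r', q ^ (i + 1) = q * ∑ i ∈ Finset.range r', q ^ i := by
    rw [Finset.mul_sum]
    apply Finset.sum_congr rfl
    intro i _
    rw [pow_succ, mul_comm]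
  rw [this, pow_zero, Nat.add_mod, Nat.mul_mod, hq]
  simp

theorem geom_odd (q r : ℕ) (hq : q % 2 = 1) :
    (∑ i ∈ Finset.range r, q ^ i) % 2 = r % 2 := by
  induction r with
  | zero => simp
  | succ r ih =>
    rw [Finset.sum_range_succ]
    have h1 : q ^ r % 2 = 1 := by
      rw [Nat.pow_mod, hq, one_pow]; rfl
    omega

theorem gcd_two_geom (p f r : ℕ) (hp : p.Prime) (hr : 0 < r) (hdvd : r ∣ f) (hf : 1 ≤ f) :
    Nat.gcd 2 ((p ^ f - 1) / (p ^ (f / r) - 1)) = Nat.gcd (Nat.gcd 2 (p ^ f - 1)) r := by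
  obtain ⟨k, rfl⟩ := hdvd
  have hk : 1 ≤ k := by
    rcases Nat.eq_zero_or_pos k with h | h
    · subst h; omega
    · exact h
  rw [Nat.mul_div_cancel_left _ hr, mul_comm r k, pow_mul]
  obtain ⟨q₀, hq₀⟩ : ∃ q₀, q₀ = p ^ k := ⟨_, rfl⟩
  rw [← hq₀]
  have hq2 : 2 ≤ q₀ := by
    rw [hq₀]
    calc 2 ≤ p := hp.two_le
      _ = p ^ 1 := (pow_one p).symm
      _ ≤ p ^ k := Nat.pow_le_pow_right hp.pos hk
  rw [← Nat.geomSum_eq hq2 r]
  have hpos : 1 ≤ q₀ ^ r := Nat.one_le_pow _ _ (by omega)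
  rcases Nat.mod_two_eq_zero_or_one q₀ with h | h
  · have h1 := geom_even q₀ r h hr
    have h2 : q₀ ^ r % 2 = 0 := by
      rw [Nat.pow_mod, h, zero_pow hr.ne']; rfl
    have h3 : (q₀ ^ r - 1) % 2 = 1 := by omega
    rw [Nat.gcd_rec 2 (∑ i ∈ Finset.range r, q₀ ^ i), h1, Nat.gcd_rec 2 (q₀ ^ r - 1), h3]
    simp
  · have h1 := geom_odd q₀ r h
    have h2 : q₀ ^ r % 2 = 1 := by
      rw [Nat.pow_mod, h, one_pow]; rfl
    have h3 : (q₀ ^ r - 1) % 2 = 0 := by omega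
    rw [Nat.gcd_rec 2 (∑ i ∈ Finset.range r, q₀ ^ i), h1, Nat.gcd_rec 2 (q₀ ^ r - 1), h3,
      Nat.gcd_zero_left, Nat.gcd_rec 2 r]

include hp in
theorem split_count {f : ℕ} (hF : Fintype.card F = p ^ f) (hf : 1 ≤ f) (hm : 2 ≤ m)
    (α : MulAut (Cfsg.PSp m F)) (σ : RingAut F) (r : ℕ) (hr0 : 0 < r) (hσ : orderOf σ = r) :
    Cfsg.splitClassCount (Cfsg.inndiagPSp m F) (Cfsg.Inn (Cfsg.PSp m F)) (α⁻¹ * fP σ * α) =
      Nat.gcd (Nat.gcd 2 (p ^ f - 1)) r := by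
  have hm1 : 1 ≤ m := by omega
  rw [splitClassCount_eq (Cfsg.inndiagPSp m F) (Cfsg.Inn (Cfsg.PSp m F)) (α⁻¹ * fP σ * α) (cA α)
    (cA_range p hm α) inn_le_inndiag (delta hm1)
    ((QuotientGroup.mk'_surjective _).comp (mult_surjective hm1)) (cA_mem_inn_iff p hm1 α)]
  have hC : ∀ g, g ∈ (Subgroup.centralizer {α⁻¹ * fP σ * α}).comap (cA α) ↔
      ∃ μ : F, g.1.1.map σ = μ • g.1.1 := by
    intro g
    rw [mem_cent_comap, cA_comm_iff p hm1]
  have hdelta : (delta hm1 : ↥(Cfsg.GSp m F) →* _) =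
      (QuotientGroup.mk' (powMonoidHom 2 : Fˣ →* Fˣ).range).comp (mult hm1) := rfl
  rw [hdelta, ← Subgroup.map_map, Subgroup.index_map, QuotientGroup.ker_mk',
    MonoidHom.range_eq_top.mpr (QuotientGroup.mk'_surjective _), Subgroup.index_top, mul_one,
    mult_image hm1 σ _ hC, index_sup_pow]
  obtain ⟨hdvd, hcard⟩ := fixed_field_card hF σ r hσ hr0
  rw [card_fixU, hcard, Nat.card_units, Nat.card_eq_fintype_card, hF]
  exact gcd_two_geom p f r hp.out hr0 hdvd hf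

theorem map_mem_gsp {F₀ : Type*} [Field F₀] (j : F₀ →+* F) (g₀ : GL (Fin m ⊕ Fin m) F₀)
    (hg₀ : g₀ ∈ Cfsg.GSp m F₀) : Matrix.GeneralLinearGroup.map j g₀ ∈ Cfsg.GSp m F := by
  obtain ⟨c, hc0, hc⟩ := gsp_mat g₀ hg₀
  have h1 : (g₀.1.map j)ᵀ * Jm * g₀.1.map j = j c • Jm := by
    have : (g₀.1ᵀ * Matrix.J (Fin m) F₀ * g₀.1).map j = (c • Matrix.J (Fin m) F₀).map j := by
      rw [hc]
    rw [Matrix.map_mul, Matrix.map_mul, J_map_hom, Matrix.transpose_map] at this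
    rw [this]
    ext s t
    rw [Matrix.map_apply, Matrix.smul_apply, Matrix.smul_apply, smul_eq_mul, smul_eq_mul, map_mul]
    congr 1
    exact congrFun (congrFun (J_map_hom (m := m) j) s) t
  obtain ⟨g', hg', e⟩ := mem_gsp_of_mat (g₀.1.map j) ((g₀⁻¹).1.map j)
    (by rw [← Matrix.map_mul, gl_mul_inv, Matrix.map_one _ (map_zero j) (map_one j)])
    (j c) ((map_ne_zero j).mpr hc0) h1
  have : g' = Matrix.GeneralLinearGroup.map j g₀ := Units.ext (by rw [e]; rfl)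
  rw [← this]
  exact hg'

/-- base change of conformal symplectic matrices -/
noncomputable def mapGSp {F₀ : Type*} [Field F₀] (j : F₀ →+* F) :
    ↥(Cfsg.GSp m F₀) →* ↥(Cfsg.GSp m F) :=
  MonoidHom.codRestrict ((Matrix.GeneralLinearGroup.map j).comp (Cfsg.GSp m F₀).subtype)
    (Cfsg.GSp m F) (fun g₀ => map_mem_gsp j g₀.1 g₀.2)

theorem mapGSp_val {F₀ : Type*} [Field F₀] (j : F₀ →+* F) (g₀ : ↥(Cfsg.GSp m F₀)) :
    (mapGSp j g₀).1.1 = g₀.1.1.map j := rfl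

include hp in
/-- the centralizer of a field automorphism in the inner-diagonal group is `PGSp` of the fixed
field -/
theorem cent_iso (hm : 2 ≤ m) (α : MulAut (Cfsg.PSp m F)) (σ : RingAut F) (F₀ : Type*) [Field F₀]
    (j : F₀ →+* F) (hj : ∀ a : F, σ a = a ↔ a ∈ Set.range j) :
    Nonempty (↥(Cfsg.inndiagPSp m F ⊓ Subgroup.centralizer {α⁻¹ * fP σ * α}) ≃*
      Cfsg.PGSp m F₀) := by
  have hjinj : Function.Injective j := RingHom.injective j
  have hm1 : 1 ≤ m := by omega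
  haveI : Nonempty (Fin m ⊕ Fin m) := ⟨Sum.inl ⟨0, by omega⟩⟩
  obtain ⟨Ψ, hΨ⟩ : ∃ Ψ : ↥(Cfsg.GSp m F₀) →* MulAut (Cfsg.PSp m F),
      Ψ = (cA α).comp (mapGSp j) := ⟨_, rfl⟩
  have hΨa : ∀ g₀, Ψ g₀ = cA α (mapGSp j g₀) := fun g₀ => by rw [hΨ]; rfl
  have hmem : ∀ g, cA α g ∈ Subgroup.centralizer {α⁻¹ * fP σ * α} ↔
      ∃ μ : F, g.1.1.map σ = μ • g.1.1 := by
    intro g
    rw [← Subgroup.mem_comap, mem_cent_comap, cA_comm_iff p hm1]
  have hιinj : Function.Injective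
      (fun M : Matrix (Fin m ⊕ Fin m) (Fin m ⊕ Fin m) F₀ => M.map j) :=
    Matrix.map_injective hjinj
  have hrange : Ψ.range = Cfsg.inndiagPSp m F ⊓ Subgroup.centralizer {α⁻¹ * fP σ * α} := by
    apply le_antisymm
    · rintro _ ⟨g₀, rfl⟩
      rw [hΨa]
      refine ⟨?_, ?_⟩
      · rw [← cA_range p hm α]; exact ⟨_, rfl⟩
      · refine (hmem _).mpr ⟨1, ?_⟩
        rw [one_smul, mapGSp_val]
        ext s t
        rw [Matrix.map_apply, Matrix.map_apply]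
        exact (hj _).mpr ⟨_, rfl⟩
    · rintro β ⟨hβ1, hβ2⟩
      rw [SetLike.mem_coe, ← cA_range p hm α] at hβ1
      obtain ⟨g, rfl⟩ := hβ1
      obtain ⟨μ, hμ⟩ := (hmem g).mp hβ2
      obtain ⟨a, ha0, ha⟩ := exists_fixed_mul' σ g.1 μ hμ
      have hent : ∀ s t, ∃ b : F₀, j b = (a • g.1.1) s t := by
        intro s t
        have h1 : σ ((a • g.1.1) s t) = (a • g.1.1) s t := by
          have := congrFun (congrFun ha s) t
          rwa [Matrix.map_apply] at this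
        obtain ⟨b, hb⟩ := (hj _).mp h1
        exact ⟨b, hb⟩
      choose M₀ hM₀ using hent
      have hM₀' : (Matrix.of M₀).map j = a • g.1.1 := by
        ext s t
        rw [Matrix.map_apply, Matrix.of_apply, hM₀]
      obtain ⟨c₀, hc₀⟩ : ∃ c₀ : F₀, c₀ = ((Matrix.of M₀)ᵀ * Matrix.J (Fin m) F₀ * Matrix.of M₀)
          (Sum.inr ⟨0, by omega⟩) (Sum.inl ⟨0, by omega⟩) := ⟨_, rfl⟩
      have hmap : ((Matrix.of M₀)ᵀ * Matrix.J (Fin m) F₀ * Matrix.of M₀).map j =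
          (a * a * multF g) • Jm := by
        rw [Matrix.map_mul, Matrix.map_mul, J_map_hom, Matrix.transpose_map, hM₀',
          Matrix.transpose_smul, Matrix.smul_mul, Matrix.smul_mul, Matrix.mul_smul, smul_smul,
          multF_spec, smul_smul]
      have hjc₀ : j c₀ = a * a * multF g := by
        have := congrFun (congrFun hmap (Sum.inr ⟨0, by omega⟩)) (Sum.inl ⟨0, by omega⟩)
        rw [Matrix.map_apply, ← hc₀, Matrix.smul_apply, J_entry hm1, smul_eq_mul, mul_one] at this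
        exact this
      have hc₀0 : c₀ ≠ 0 := by
        intro h0
        rw [h0, map_zero] at hjc₀
        exact mul_ne_zero (mul_ne_zero ha0 ha0) (multF_ne g) hjc₀.symm
      have hJ₀ : (Matrix.of M₀)ᵀ * Matrix.J (Fin m) F₀ * Matrix.of M₀ =
          c₀ • Matrix.J (Fin m) F₀ := by
        apply hιinj
        simp only
        rw [hmap, ← hjc₀]
        ext s t
        rw [Matrix.map_apply, Matrix.smul_apply, Matrix.smul_apply, smul_eq_mul, smul_eq_mul,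
          map_mul]
        congr 1
        exact (congrFun (congrFun (J_map_hom (m := m) j) s) t).symm
      have hinv : (c₀⁻¹ • ((-Matrix.J (Fin m) F₀) * (Matrix.of M₀)ᵀ * Matrix.J (Fin m) F₀)) *
          Matrix.of M₀ = 1 := by
        rw [Matrix.smul_mul]
        have : (-Matrix.J (Fin m) F₀) * (Matrix.of M₀)ᵀ * Matrix.J (Fin m) F₀ * Matrix.of M₀ =
            (-Matrix.J (Fin m) F₀) * ((Matrix.of M₀)ᵀ * Matrix.J (Fin m) F₀ * Matrix.of M₀) := by
          simp only [Matrix.mul_assoc]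
        rw [this, hJ₀, Matrix.mul_smul, smul_smul, inv_mul_cancel₀ hc₀0, one_smul, Matrix.neg_mul,
          Matrix.J_squared, neg_neg]
      obtain ⟨g₀, hg₀, hg₀v⟩ := mem_gsp_of_mat (Matrix.of M₀) _ (mul_eq_one_comm.mp hinv) c₀ hc₀0
        hJ₀
      refine ⟨⟨g₀, hg₀⟩, ?_⟩
      rw [hΨa, cA_apply, cA_apply]
      congr 2
      rw [cPh_eq_iff p hm1]
      refine ⟨a, ?_⟩
      rw [mapGSp_val]
      change g₀.1.map j = _
      rw [hg₀v]
      exact hM₀'
  have hker : Ψ.ker = (Cfsg.Geo.scalars (Fin m ⊕ Fin m) F₀).subgroupOf (Cfsg.GSp m F₀) := by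
    ext g₀
    rw [MonoidHom.mem_ker, hΨa, cA_apply, Subgroup.mem_subgroupOf, Cfsg.Geo.mem_scalars_iff]
    have h1 : α⁻¹ * cPh (mapGSp j g₀) * α = 1 ↔
        (cPh (mapGSp j g₀) : MulAut (Cfsg.PSp m F)) = 1 := by
      constructor
      · intro h
        calc (cPh (mapGSp j g₀) : MulAut (Cfsg.PSp m F))
            = α * (α⁻¹ * cPh (mapGSp j g₀) * α) * α⁻¹ := by group
          _ = 1 := by rw [h]; group
      · intro h
        rw [h]; group
    rw [h1, cPh_eq_one_iff p hm1, mapGSp_val]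
    constructor
    · rintro ⟨μ, hμ⟩
      let i0 : Fin m ⊕ Fin m := Sum.inl ⟨0, by omega⟩
      have hμ0 : j (g₀.1.1 i0 i0) = μ := by
        have := congrFun (congrFun hμ i0) i0
        simpa using this
      have hg : g₀.1.1 = (g₀.1.1 i0 i0) • (1 : Matrix (Fin m ⊕ Fin m) (Fin m ⊕ Fin m) F₀) := by
        apply hιinj
        simp only
        rw [hμ]
        ext s t
        rw [Matrix.map_apply, Matrix.smul_apply, Matrix.smul_apply, Matrix.one_apply,
          Matrix.one_apply]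
        by_cases hst : s = t
        · rw [if_pos hst, if_pos hst, smul_eq_mul, smul_eq_mul, mul_one, mul_one, hμ0]
        · rw [if_neg hst, if_neg hst, smul_zero, smul_zero, map_zero]
      have h0 : g₀.1.1 i0 i0 ≠ 0 := by
        intro h0
        rw [h0, zero_smul] at hg
        have h1 := gl_mul_inv g₀.1
        rw [hg, Matrix.zero_mul] at h1
        have := congrFun (congrFun h1 i0) i0
        simp at this
      exact ⟨Units.mk0 _ h0, hg⟩
    · rintro ⟨c, hc⟩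
      refine ⟨j c, ?_⟩
      rw [hc]
      ext s t
      rw [Matrix.map_apply, Matrix.smul_apply, Matrix.smul_apply, Matrix.one_apply,
        Matrix.one_apply]
      by_cases hst : s = t
      · rw [if_pos hst, if_pos hst, smul_eq_mul, smul_eq_mul, mul_one, mul_one]
      · rw [if_neg hst, if_neg hst, smul_zero, smul_zero, map_zero]
  have e1 : ↥(Cfsg.GSp m F₀) ⧸ Ψ.ker ≃* ↥Ψ.range := QuotientGroup.quotientKerEquivRange Ψ
  have e2 : ↥Ψ.range ≃* ↥(Cfsg.inndiagPSp m F ⊓ Subgroup.centralizer {α⁻¹ * fP σ * α}) :=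
    MulEquiv.subgroupCongr hrange
  have e3 : Cfsg.PGSp m F₀ ≃* ↥(Cfsg.GSp m F₀) ⧸ Ψ.ker :=
    QuotientGroup.quotientMulEquivOfEq hker.symm
  exact ⟨(e3.trans (e1.trans e2)).symm⟩

end fin

end

end Cfsg.Agent.Lib.Helper16.FieldCentPSp
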