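import Mathlib

set_option autoImplicit false

/-!
Fixed-point-free automorphisms of order 3 (Burnside/Neumann): the group is 2-Engel, and
(Levi) if it has no 3-torsion, it is nilpotent of class at most 2.
-/

namespace Cfsg.Agent.Lib.Helper16.Fpf3

open scoped commutatorElement

variable {P : Type*} [Group P]

/-- fixed-point-free automorphism -/
def Fpf (σ : P ≃* P) : Prop := ∀ x, σ x = x → x = 1

theorem Fpf.surj [Finite P] {σ : P ≃* P} (h : Fpf σ) (y : P) : ∃ x, y = x⁻¹ * σ x := by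
  have hinj : Function.Injective (fun x : P => x⁻¹ * σ x) := by
    intro a b hab
    simp only at hab
    have h1 : σ (b * a⁻¹) = b * a⁻¹ := by
      rw [map_mul, map_inv]
      have h2 : σ b = b * (a⁻¹ * σ a) := by rw [hab]; group
      rw [h2]; group
    have h3 := h _ h1
    exact (mul_inv_eq_one.mp h3).symm
  obtain ⟨x, hx⟩ := (Finite.injective_iff_surjective.mp hinj) y
  exact ⟨x, hx.symm⟩

theorem Fpf.norm3 [Finite P] {σ : P ≃* P} (h : Fpf σ) (h3 : ∀ x, σ (σ (σ x)) = x) (y : P) :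
    y * σ y * σ (σ y) = 1 := by
  obtain ⟨x, rfl⟩ := h.surj y
  simp only [map_mul, map_inv, h3]
  group

theorem Fpf.sq {σ : P ≃* P} (h : Fpf σ) (h3 : ∀ x, σ (σ (σ x)) = x) : Fpf (σ.trans σ) := by
  intro x hx
  rw [MulEquiv.trans_apply] at hx
  apply h
  have := congrArg σ hx
  rw [h3] at this
  exact this.symm

theorem sq3 {σ : P ≃* P} (h3 : ∀ x, σ (σ (σ x)) = x) :
    ∀ x, (σ.trans σ) ((σ.trans σ) ((σ.trans σ) x)) = x := by
  intro x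
  simp only [MulEquiv.trans_apply, h3]

theorem Fpf.comm3 [Finite P] {σ : P ≃* P} (h : Fpf σ) (h3 : ∀ x, σ (σ (σ x)) = x) (x : P) :
    x * σ x = σ x * x := by
  have e1 := h.norm3 h3 (σ (σ x))
  have e2 := (h.sq h3).norm3 (sq3 h3) (σ (σ x))
  simp only [MulEquiv.trans_apply, h3] at e1 e2
  have f1 : x * σ x = (σ (σ x))⁻¹ := by
    apply eq_inv_of_mul_eq_one_right
    rw [← mul_assoc]; exact e1
  have f2 : σ x * x = (σ (σ x))⁻¹ := by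
    apply eq_inv_of_mul_eq_one_right
    rw [← mul_assoc]; exact e2
  rw [f1, f2]

theorem Fpf.engel1 [Finite P] {σ : P ≃* P} (h : Fpf σ) (h3 : ∀ x, σ (σ (σ x)) = x) (x k : P) :
    Commute x (k * σ x * k⁻¹) := by
  obtain ⟨h', rfl⟩ := h.surj k
  have e := h.comm3 h3 (h' * x * h'⁻¹)
  simp only [map_mul, map_inv] at e
  have e1 : x * (h'⁻¹ * σ h' * σ x * (h'⁻¹ * σ h')⁻¹)
      = h'⁻¹ * (h' * x * h'⁻¹ * (σ h' * σ x * (σ h')⁻¹)) * h' := by group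
  show x * (h'⁻¹ * σ h' * σ x * (h'⁻¹ * σ h')⁻¹) = (h'⁻¹ * σ h' * σ x * (h'⁻¹ * σ h')⁻¹) * x
  rw [e1, e]; group

/-- the 2-Engel condition: every element commutes with all its conjugates -/
theorem Fpf.engel [Finite P] {σ : P ≃* P} (h : Fpf σ) (h3 : ∀ x, σ (σ (σ x)) = x) (x k : P) :
    Commute x (k * x * k⁻¹) := by
  have c1 : Commute x (k * σ x * k⁻¹) := h.engel1 h3 x k
  have c2 : Commute x (k * σ (σ x) * k⁻¹) := (h.sq h3).engel1 (sq3 h3) x k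
  have n := h.norm3 h3 x
  have hx : σ x * σ (σ x) = x⁻¹ := by
    apply eq_inv_of_mul_eq_one_right
    rw [← mul_assoc]; exact n
  have c3 : Commute x (k * x⁻¹ * k⁻¹) := by
    have e : k * x⁻¹ * k⁻¹ = (k * σ x * k⁻¹) * (k * σ (σ x) * k⁻¹) := by rw [← hx]; group
    rw [e]; exact c1.mul_right c2
  have e2 : k * x * k⁻¹ = (k * x⁻¹ * k⁻¹)⁻¹ := by group
  rw [e2]; exact c3.inv_right

/-! ### Levi: 2-Engel groups without 3-torsion have class ≤ 2 -/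

section Levi

variable (hE : ∀ x k : P, Commute x (k * x * k⁻¹))
include hE

theorem conj_comm (x g h : P) : Commute (g * x * g⁻¹) (h * x * h⁻¹) := by
  have := hE (g * x * g⁻¹) (h * g⁻¹)
  have e : h * g⁻¹ * (g * x * g⁻¹) * (h * g⁻¹)⁻¹ = h * x * h⁻¹ := by group
  rwa [e] at this

theorem nc_comm (x : P) {a b : P} (ha : a ∈ Subgroup.normalClosure {x})
    (hb : b ∈ Subgroup.normalClosure {x}) : a * b = b * a := by
  have hk : ∀ u ∈ Group.conjugatesOfSet {x}, ∀ v ∈ Group.conjugatesOfSet {x}, u * v = v * u := by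
    intro u hu v hv
    obtain ⟨u', hu', hcu⟩ := Group.mem_conjugatesOfSet_iff.mp hu
    obtain ⟨v', hv', hcv⟩ := Group.mem_conjugatesOfSet_iff.mp hv
    rw [Set.mem_singleton_iff] at hu' hv'
    subst hu' hv'
    obtain ⟨c, hc⟩ := isConj_iff.mp hcu
    obtain ⟨d, hd⟩ := isConj_iff.mp hcv
    rw [← hc, ← hd]
    exact conj_comm hE _ c d
  have inst := Subgroup.isMulCommutative_closure hk
  have := inst.is_comm.comm (⟨a, ha⟩ : ↥(Subgroup.closure (Group.conjugatesOfSet {x}))) ⟨b, hb⟩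
  exact congrArg Subtype.val this

omit hE in
theorem comm_mem_left (x y : P) : ⁅x, y⁆ ∈ Subgroup.normalClosure {x} := by
  have e : ⁅x, y⁆ = x * (y * x⁻¹ * y⁻¹) := by rw [commutatorElement_def]; group
  rw [e]
  have hx : x ∈ Subgroup.normalClosure {x} := Subgroup.subset_normalClosure (Set.mem_singleton x)
  exact Subgroup.mul_mem _ hx
    ((Subgroup.normalClosure_normal).conj_mem _ (Subgroup.inv_mem _ hx) y)

omit hE in
theorem comm_mem_right (x y : P) : ⁅x, y⁆ ∈ Subgroup.normalClosure {y} := by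
  have e : ⁅x, y⁆ = (x * y * x⁻¹) * y⁻¹ := by rw [commutatorElement_def]
  rw [e]
  have hy : y ∈ Subgroup.normalClosure {y} := Subgroup.subset_normalClosure (Set.mem_singleton y)
  exact Subgroup.mul_mem _ ((Subgroup.normalClosure_normal).conj_mem _ hy x) (Subgroup.inv_mem _ hy)

omit hE in
theorem comm_mem_of_mem {x a : P} (ha : a ∈ Subgroup.normalClosure {x}) (z : P) :
    ⁅a, z⁆ ∈ Subgroup.normalClosure {x} := by
  have e : ⁅a, z⁆ = a * (z * a⁻¹ * z⁻¹) := by rw [commutatorElement_def]; group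
  rw [e]
  exact Subgroup.mul_mem _ ha
    ((Subgroup.normalClosure_normal).conj_mem _ (Subgroup.inv_mem _ ha) z)

/-- on the abelian normal closure, `a ↦ ⁅a, z⁆` is a homomorphism -/
theorem comm_mul_left {x a b : P} (ha : a ∈ Subgroup.normalClosure {x})
    (hb : b ∈ Subgroup.normalClosure {x}) (z : P) : ⁅a * b, z⁆ = ⁅a, z⁆ * ⁅b, z⁆ := by
  have e1 : ⁅a * b, z⁆ = a * (⁅b, z⁆ * (z * a⁻¹ * z⁻¹)) := by
    simp only [commutatorElement_def]; group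
  have e2 : ⁅a, z⁆ * ⁅b, z⁆ = a * ((z * a⁻¹ * z⁻¹) * ⁅b, z⁆) := by
    simp only [commutatorElement_def]; group
  have hc : ⁅b, z⁆ * (z * a⁻¹ * z⁻¹) = (z * a⁻¹ * z⁻¹) * ⁅b, z⁆ :=
    nc_comm hE x (comm_mem_of_mem hb z)
      ((Subgroup.normalClosure_normal).conj_mem _ (Subgroup.inv_mem _ ha) z)
  rw [e1, e2, hc]

theorem comm_inv_left {x a : P} (ha : a ∈ Subgroup.normalClosure {x}) (z : P) :
    ⁅a⁻¹, z⁆ = ⁅a, z⁆⁻¹ := by
  have h := comm_mul_left hE ha (Subgroup.inv_mem _ ha) z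
  rw [mul_inv_cancel, commutatorElement_one_left] at h
  exact (eq_inv_of_mul_eq_one_right h.symm)

theorem comm_inv_right (x z : P) : ⁅x, z⁻¹⁆ = ⁅x, z⁆⁻¹ := by
  have e : ⁅x, z⁻¹⁆ = z⁻¹ * ⁅x, z⁆⁻¹ * z := by simp only [commutatorElement_def]; group
  have hz : z ∈ Subgroup.normalClosure {z} := Subgroup.subset_normalClosure (Set.mem_singleton z)
  have hc : ⁅x, z⁆⁻¹ * z = z * ⁅x, z⁆⁻¹ :=
    nc_comm hE z (Subgroup.inv_mem _ (comm_mem_right x z)) hz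
  rw [e, mul_assoc, hc, ← mul_assoc, inv_mul_cancel, one_mul]

/-- swapping the last two entries inverts the triple commutator -/
theorem triple_swap23 (x y z : P) : ⁅⁅x, z⁆, y⁆ = ⁅⁅x, y⁆, z⁆⁻¹ := by
  have hA : ⁅x, y⁆ ∈ Subgroup.normalClosure {x} := comm_mem_left x y
  -- ⁅x, y z⁆ = A * F2⁻¹ * B
  have s1 : ⁅x, y * z⁆ = ⁅x, y⁆ * ⁅⁅x, z⁆, y⁆⁻¹ * ⁅x, z⁆ := by
    simp only [commutatorElement_def]; group
  have s2 : ⁅x, (y * z)⁻¹⁆ = ⁅x, z⁻¹⁆ * ⁅⁅x, y⁻¹⁆, z⁻¹⁆⁻¹ * ⁅x, y⁻¹⁆ := by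
    simp only [commutatorElement_def]; group
  have s3 : ⁅⁅x, y⁻¹⁆, z⁻¹⁆ = ⁅⁅x, y⁆, z⁆ := by
    rw [comm_inv_right hE x y, comm_inv_right hE _ z, comm_inv_left hE hA z, inv_inv]
  rw [comm_inv_right hE x (y * z), s1, s3, comm_inv_right hE x z, comm_inv_right hE x y] at s2
  -- s2 : (A * F2⁻¹ * B)⁻¹ = B⁻¹ * F1⁻¹ * A⁻¹
  have s4 : (⁅x, y⁆ * ⁅⁅x, z⁆, y⁆⁻¹ * ⁅x, z⁆)⁻¹ = ⁅x, z⁆⁻¹ * ⁅⁅x, z⁆, y⁆ * ⁅x, y⁆⁻¹ := by group
  rw [s4] at s2
  have s5 := mul_right_cancel s2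
  exact mul_left_cancel s5

/-- swapping the first two entries inverts the triple commutator -/
theorem triple_swap12 (x y z : P) : ⁅⁅y, x⁆, z⁆ = ⁅⁅x, y⁆, z⁆⁻¹ := by
  have hA : ⁅x, y⁆ ∈ Subgroup.normalClosure {x} := comm_mem_left x y
  rw [← commutatorElement_inv x y, comm_inv_left hE hA z]

theorem triple_comm_mid (x y z : P) : Commute y ⁅⁅x, y⁆, z⁆ := by
  have hy : y ∈ Subgroup.normalClosure {y} := Subgroup.subset_normalClosure (Set.mem_singleton y)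
  exact nc_comm hE y hy (comm_mem_of_mem (comm_mem_right x y) z)

omit hE in
theorem hall_witt (x y z : P) :
    y * ⁅⁅x, y⁻¹⁆⁻¹, z⁆ * y⁻¹ * (z * ⁅⁅y, z⁻¹⁆⁻¹, x⁆ * z⁻¹) * (x * ⁅⁅z, x⁻¹⁆⁻¹, y⁆ * x⁻¹) = 1 := by
  simp only [commutatorElement_def]; group

theorem triple_cube (x y z : P) : ⁅⁅x, y⁆, z⁆ ^ 3 = 1 := by
  have hw := hall_witt x y z
  rw [comm_inv_right hE x y, comm_inv_right hE y z, comm_inv_right hE z x, inv_inv, inv_inv,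
    inv_inv] at hw
  have c1 : y * ⁅⁅x, y⁆, z⁆ * y⁻¹ = ⁅⁅x, y⁆, z⁆ := by
    rw [(triple_comm_mid hE x y z).eq, mul_assoc, mul_inv_cancel, mul_one]
  have c2 : z * ⁅⁅y, z⁆, x⁆ * z⁻¹ = ⁅⁅y, z⁆, x⁆ := by
    rw [(triple_comm_mid hE y z x).eq, mul_assoc, mul_inv_cancel, mul_one]
  have c3 : x * ⁅⁅z, x⁆, y⁆ * x⁻¹ = ⁅⁅z, x⁆, y⁆ := by
    rw [(triple_comm_mid hE z x y).eq, mul_assoc, mul_inv_cancel, mul_one]
  rw [c1, c2, c3] at hw
  have r2 : ⁅⁅y, z⁆, x⁆ = ⁅⁅x, y⁆, z⁆ := by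
    rw [triple_swap23 hE y x z, triple_swap12 hE x y z, inv_inv]
  have r3 : ⁅⁅z, x⁆, y⁆ = ⁅⁅x, y⁆, z⁆ := by
    rw [triple_swap12 hE x z y, triple_swap23 hE x y z, inv_inv]
  rw [r2, r3] at hw
  rw [pow_succ, pow_two]; exact hw

end Levi

/-- Levi: 2-Engel and no 3-torsion gives class ≤ 2 (commutators are central). -/
theorem levi (hE : ∀ x k : P, Commute x (k * x * k⁻¹)) (h3 : ∀ c : P, c ^ 3 = 1 → c = 1)
    (x y z : P) : ⁅⁅x, y⁆, z⁆ = 1 := h3 _ (triple_cube hE x y z)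

/-- A finite group with a fixed-point-free automorphism of order dividing 3 and without
3-torsion has central commutators. -/
theorem fpf3_class_two [Finite P] {σ : P ≃* P} (h : Fpf σ) (hσ : ∀ x, σ (σ (σ x)) = x)
    (h3 : ∀ c : P, c ^ 3 = 1 → c = 1) (x y z : P) : ⁅⁅x, y⁆, z⁆ = 1 :=
  levi (h.engel hσ) h3 x y z

/-! ### an involutory fixed-point-free automorphism inverts -/

theorem Fpf.inverts [Finite P] {τ : P ≃* P} (h : Fpf τ) (h2 : ∀ x, τ (τ x) = x) (y : P) :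
    τ y = y⁻¹ := by
  obtain ⟨x, rfl⟩ := h.surj y
  simp only [map_mul, map_inv, h2]
  group

theorem comm_of_inverts {τ : P ≃* P} (h : ∀ y, τ y = y⁻¹) (a b : P) : a * b = b * a := by
  have h1 := h (a * b)
  rw [map_mul, h a, h b, mul_inv_rev] at h1
  have h2 := congrArg (fun t => t⁻¹) h1
  simp only [mul_inv_rev, inv_inv] at h2
  exact h2.symm

/-! ### `C₃ × C₃` cannot act with all non-identity elements fixed-point-free on an elementary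
abelian 2-group -/

theorem c3c3_aux {W : Type*} [CommGroup W] (α β : W →* W)
    (hw2 : ∀ w : W, w * w = 1)
    (hα : ∀ w, w * α w * α (α w) = 1)
    (hβ : ∀ w, w * β w * β (β w) = 1)
    (hαβ : ∀ w, w * α (β w) * α (β (α (β w))) = 1)
    (hc : ∀ w, α (β w) = β (α w)) (w : W) : α w = β w := by
  have inv_self : ∀ v : W, v⁻¹ = v := fun v => (eq_inv_of_mul_eq_one_left (hw2 v)).symm
  have hα2 : ∀ v, α (α v) = v * α v := by
    intro v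
    have h1 : α (α v) = (v * α v)⁻¹ := eq_inv_of_mul_eq_one_right (hα v)
    rw [h1, inv_self]
  have hβ2 : ∀ v, β (β v) = v * β v := by
    intro v
    have h1 : β (β v) = (v * β v)⁻¹ := eq_inv_of_mul_eq_one_right (hβ v)
    rw [h1, inv_self]
  have h := hαβ w
  have e1 : α (β (α (β w))) = α (α (β (β w))) := by rw [← hc (β w)]
  rw [e1, hα2, hβ2, map_mul] at h
  have e2 : w * α (β w) * (w * β w * (α w * α (β w)))
      = (w * w) * (α (β w) * α (β w)) * (β w * α w) := by ac_rfl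
  rw [e2, hw2, hw2, one_mul, one_mul] at h
  have h3 : α w = (β w)⁻¹ := eq_inv_of_mul_eq_one_right h
  rw [h3, inv_self]

/-! ### squares are trivial -/

theorem sq_mul_of_central {a b : P} (hc : ∀ g : P, g * ⁅b, a⁆ = ⁅b, a⁆ * g) :
    (a * b) ^ 2 = ⁅b, a⁆ * a ^ 2 * b ^ 2 := by
  have e : (a * b) ^ 2 = a * ⁅b, a⁆ * a * b * b := by
    simp only [commutatorElement_def, pow_two]; group
  rw [e, hc a]
  simp only [pow_two, mul_assoc]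

theorem comm_mul_left_of_central {a b x : P} (hc : ∀ g : P, g * ⁅b, x⁆ = ⁅b, x⁆ * g) :
    ⁅a * b, x⁆ = ⁅b, x⁆ * ⁅a, x⁆ := by
  have e : ⁅a * b, x⁆ = a * ⁅b, x⁆ * a⁻¹ * ⁅a, x⁆ := by
    simp only [commutatorElement_def]; group
  rw [e, hc a, mul_inv_cancel_right]

theorem sq_trivial [Finite P] {σ ρ : P ≃* P} (h : Fpf σ) (hσ : ∀ x, σ (σ (σ x)) = x)
    (hcl : ∀ x y z : P, ⁅⁅x, y⁆, z⁆ = 1) (h4 : ∀ x : P, x ^ 4 = 1)
    (h0 : ∀ x, (x * ρ x) ^ 2 = 1) (h1 : ∀ x, (x * σ (ρ x)) ^ 2 = 1)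
    (h2 : ∀ x, (x * σ (σ (ρ x))) ^ 2 = 1) (x : P) : x ^ 2 = 1 := by
  have hcen : ∀ a b g : P, g * ⁅a, b⁆ = ⁅a, b⁆ * g := by
    intro a b g
    exact (commutatorElement_eq_one_iff_commute.mp (hcl a b g)).eq.symm
  have c0c := hcen (ρ x) x
  have c1c := hcen (σ (ρ x)) x
  have c2c := hcen (σ (σ (ρ x))) x
  have s0 : ⁅ρ x, x⁆ * x ^ 2 * ρ (x ^ 2) = 1 := by
    have := h0 x
    rw [sq_mul_of_central c0c] at this
    rw [map_pow]; exact this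
  have s1 : ⁅σ (ρ x), x⁆ * x ^ 2 * σ (ρ (x ^ 2)) = 1 := by
    have := h1 x
    rw [sq_mul_of_central c1c] at this
    rw [map_pow, map_pow]; exact this
  have s2 : ⁅σ (σ (ρ x)), x⁆ * x ^ 2 * σ (σ (ρ (x ^ 2))) = 1 := by
    have := h2 x
    rw [sq_mul_of_central c2c] at this
    rw [map_pow, map_pow, map_pow]; exact this
  have t0 : ρ (x ^ 2) = (⁅ρ x, x⁆ * x ^ 2)⁻¹ := eq_inv_of_mul_eq_one_right s0
  have t1 : σ (ρ (x ^ 2)) = (⁅σ (ρ x), x⁆ * x ^ 2)⁻¹ := eq_inv_of_mul_eq_one_right s1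
  have t2 : σ (σ (ρ (x ^ 2))) = (⁅σ (σ (ρ x)), x⁆ * x ^ 2)⁻¹ := eq_inv_of_mul_eq_one_right s2
  have n := h.norm3 hσ (ρ (x ^ 2))
  rw [t2, t1, t0] at n
  have n' : (⁅σ (σ (ρ x)), x⁆ * x ^ 2) * (⁅σ (ρ x), x⁆ * x ^ 2) * (⁅ρ x, x⁆ * x ^ 2) = 1 := by
    have := congrArg (fun t => t⁻¹) n
    simp only [mul_inv_rev, inv_inv, inv_one] at this
    rw [← mul_assoc] at this
    exact this
  have nv := h.norm3 hσ (ρ x)
  have b1 : ⁅ρ x * σ (ρ x) * σ (σ (ρ x)), x⁆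
      = ⁅σ (σ (ρ x)), x⁆ * (⁅σ (ρ x), x⁆ * ⁅ρ x, x⁆) := by
    rw [comm_mul_left_of_central c2c, comm_mul_left_of_central c1c]
  rw [nv, commutatorElement_one_left] at b1
  have a1 : x ^ 2 * ⁅σ (ρ x), x⁆ = ⁅σ (ρ x), x⁆ * x ^ 2 := c1c (x ^ 2)
  have a0 : x ^ 2 * ⁅ρ x, x⁆ = ⁅ρ x, x⁆ * x ^ 2 := c0c (x ^ 2)
  have e : (⁅σ (σ (ρ x)), x⁆ * x ^ 2) * (⁅σ (ρ x), x⁆ * x ^ 2) * (⁅ρ x, x⁆ * x ^ 2)
      = ⁅σ (σ (ρ x)), x⁆ * (⁅σ (ρ x), x⁆ * ⁅ρ x, x⁆) * (x ^ 2) ^ 3 := by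
    calc (⁅σ (σ (ρ x)), x⁆ * x ^ 2) * (⁅σ (ρ x), x⁆ * x ^ 2) * (⁅ρ x, x⁆ * x ^ 2)
        = ⁅σ (σ (ρ x)), x⁆ * (x ^ 2 * ⁅σ (ρ x), x⁆) * (x ^ 2 * ⁅ρ x, x⁆) * x ^ 2 := by
          simp only [mul_assoc]
      _ = ⁅σ (σ (ρ x)), x⁆ * (⁅σ (ρ x), x⁆ * x ^ 2) * (⁅ρ x, x⁆ * x ^ 2) * x ^ 2 := by rw [a1, a0]
      _ = ⁅σ (σ (ρ x)), x⁆ * ⁅σ (ρ x), x⁆ * (x ^ 2 * ⁅ρ x, x⁆) * x ^ 2 * x ^ 2 := by
          simp only [mul_assoc]
      _ = ⁅σ (σ (ρ x)), x⁆ * ⁅σ (ρ x), x⁆ * (⁅ρ x, x⁆ * x ^ 2) * x ^ 2 * x ^ 2 := by rw [a0]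
      _ = ⁅σ (σ (ρ x)), x⁆ * (⁅σ (ρ x), x⁆ * ⁅ρ x, x⁆) * (x ^ 2) ^ 3 := by
          simp only [mul_assoc, pow_succ, pow_zero, one_mul]
  rw [e, ← b1, one_mul] at n'
  -- n' : (x^2)^3 = 1
  have hy2 : (x ^ 2) ^ 2 = 1 := by rw [← pow_mul]; exact h4 x
  have : (x ^ 2) ^ 3 = (x ^ 2) ^ 2 * x ^ 2 := pow_succ _ 2
  rw [this, hy2, one_mul] at n'
  exact n'

end Cfsg.Agent.Lib.Helper16.Fpf3
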