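import Mathlib
import Cfsg.Agent.Lib.Helper4.PSLp3

/-!
# A computable model of the simple group of order 168 (helper16)

Elements are invertible 3×3 matrices over `F₂`, coded as 9-bit numbers (three columns of three
bits).  Everything is decidable by kernel computation.
-/

set_option autoImplicit false
set_option linter.unusedVariables false

namespace Cfsg.Agent.Lib.Helper16.G168

/-- the 168 codes of invertible matrices -/
def codes : List ℕ :=
  [84, 85, 86, 87, 92, 93, 94, 95, 98, 99, 102, 103, 106, 107, 110, 111, 114, 115, 116, 117, 122,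
   123, 124, 125, 140, 141, 142, 143, 156, 157, 158, 159, 161, 163, 165, 167, 169, 171, 172, 174,
   177, 179, 181, 183, 185, 187, 188, 190, 204, 205, 206, 207, 212, 213, 214, 215, 225, 226, 229,
   230, 233, 234, 236, 239, 241, 242, 244, 247, 249, 250, 253, 254, 266, 267, 270, 271, 273, 275,
   277, 279, 281, 282, 285, 286, 298, 299, 302, 303, 305, 307, 309, 311, 313, 314, 317, 318, 330,
   331, 334, 335, 337, 339, 340, 342, 345, 346, 348, 351, 354, 355, 358, 359, 369, 370, 372, 375,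
   377, 379, 380, 382, 394, 395, 396, 397, 401, 403, 405, 407, 409, 410, 412, 415, 417, 419, 421,
   423, 425, 426, 428, 431, 442, 443, 444, 445, 458, 459, 460, 461, 465, 467, 468, 470, 473, 474,
   477, 478, 481, 482, 485, 486, 489, 491, 492, 494, 498, 499, 500, 501]

/-- the set of codes as a bit mask -/
def mask : ℕ :=
  12347459532681866371650103205385203202014870699000085927504102630980511566271124405589336618481472192705632891054960030461063263236452902620175653666816

/-- fast membership test -/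
def okb (n : ℕ) : Bool := decide (n < 512) && (Nat.land (Nat.shiftRight mask n) 1 == 1)

/-- evaluate `n` before passing it on (the kernel is call-by-name) -/
def forceNat {α : Type} (n : ℕ) (f : ℕ → α) : α := Nat.rec (f 0) (fun k _ => f (Nat.succ k)) n

theorem forceNat_eq {α : Type} (n : ℕ) (f : ℕ → α) : forceNat n f = f n := by
  cases n <;> rfl

/-- matrix product on codes: the sum of the outer products of column `i` of `m` and row `i` of
`n` -/
def mulRaw (m n : ℕ) : ℕ :=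
  Nat.xor (Nat.mul (Nat.land m 7) (Nat.land n 73))
    (Nat.xor (Nat.mul (Nat.land (Nat.shiftRight m 3) 7) (Nat.land (Nat.shiftRight n 1) 73))
      (Nat.mul (Nat.land (Nat.shiftRight m 6) 7) (Nat.land (Nat.shiftRight n 2) 73)))

/-- matrix product on codes, forcing the arguments -/
def mulc (m n : ℕ) : ℕ := forceNat m fun m' => forceNat n fun n' => mulRaw m' n'

/-- apply the matrix coded by `n` to the vector coded by `v` -/
def appRaw (n v : ℕ) : ℕ :=
  Nat.xor (Nat.mul (Nat.land n 7) (Nat.land v 1))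
    (Nat.xor (Nat.mul (Nat.land (Nat.shiftRight n 3) 7) (Nat.land (Nat.shiftRight v 1) 1))
      (Nat.mul (Nat.land (Nat.shiftRight n 6) 7) (Nat.land (Nat.shiftRight v 2) 1)))

/-- apply a matrix to a vector, forcing the arguments -/
def app (n v : ℕ) : ℕ := forceNat n fun n' => forceNat v fun v' => appRaw n' v'

/-- bit `k` of `n` -/
def bt (n k : ℕ) : ℕ := Nat.land (Nat.shiftRight n k) 1

/-- inverse on codes (adjugate) -/
def invRaw (n : ℕ) : ℕ :=
  ((((bt n 4) &&& (bt n 8)) ^^^ ((bt n 7) &&& (bt n 5))) <<< 0) |||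
  ((((bt n 5) &&& (bt n 6)) ^^^ ((bt n 8) &&& (bt n 3))) <<< 3) |||
  ((((bt n 3) &&& (bt n 7)) ^^^ ((bt n 6) &&& (bt n 4))) <<< 6) |||
  ((((bt n 7) &&& (bt n 2)) ^^^ ((bt n 1) &&& (bt n 8))) <<< 1) |||
  ((((bt n 8) &&& (bt n 0)) ^^^ ((bt n 2) &&& (bt n 6))) <<< 4) |||
  ((((bt n 6) &&& (bt n 1)) ^^^ ((bt n 0) &&& (bt n 7))) <<< 7) |||
  ((((bt n 1) &&& (bt n 5)) ^^^ ((bt n 4) &&& (bt n 2))) <<< 2) |||
  ((((bt n 2) &&& (bt n 3)) ^^^ ((bt n 5) &&& (bt n 0))) <<< 5) |||
  ((((bt n 0) &&& (bt n 4)) ^^^ ((bt n 3) &&& (bt n 1))) <<< 8)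

/-- inverse on codes, forcing the argument -/
def invc (n : ℕ) : ℕ := forceNat n fun n' => invRaw n'

/-- the model: invertible codes -/
def M168 : Type := {n : ℕ // n ∈ codes}

instance : DecidableEq M168 := by unfold M168; infer_instance

set_option maxRecDepth 100000 in
theorem codes_nodup : codes.Nodup := by decide +kernel

/-- the list of all elements -/
def elemsList : List M168 :=
  [⟨84, by decide⟩, ⟨85, by decide⟩, ⟨86, by decide⟩, ⟨87, by decide⟩, ⟨92, by decide⟩,
   ⟨93, by decide⟩, ⟨94, by decide⟩, ⟨95, by decide⟩, ⟨98, by decide⟩, ⟨99, by decide⟩,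
   ⟨102, by decide⟩, ⟨103, by decide⟩, ⟨106, by decide⟩, ⟨107, by decide⟩, ⟨110, by decide⟩,
   ⟨111, by decide⟩, ⟨114, by decide⟩, ⟨115, by decide⟩, ⟨116, by decide⟩, ⟨117, by decide⟩,
   ⟨122, by decide⟩, ⟨123, by decide⟩, ⟨124, by decide⟩, ⟨125, by decide⟩, ⟨140, by decide⟩,
   ⟨141, by decide⟩, ⟨142, by decide⟩, ⟨143, by decide⟩, ⟨156, by decide⟩, ⟨157, by decide⟩,
   ⟨158, by decide⟩, ⟨159, by decide⟩, ⟨161, by decide⟩, ⟨163, by decide⟩, ⟨165, by decide⟩,
   ⟨167, by decide⟩, ⟨169, by decide⟩, ⟨171, by decide⟩, ⟨172, by decide⟩, ⟨174, by decide⟩,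
   ⟨177, by decide⟩, ⟨179, by decide⟩, ⟨181, by decide⟩, ⟨183, by decide⟩, ⟨185, by decide⟩,
   ⟨187, by decide⟩, ⟨188, by decide⟩, ⟨190, by decide⟩, ⟨204, by decide⟩, ⟨205, by decide⟩,
   ⟨206, by decide⟩, ⟨207, by decide⟩, ⟨212, by decide⟩, ⟨213, by decide⟩, ⟨214, by decide⟩,
   ⟨215, by decide⟩, ⟨225, by decide⟩, ⟨226, by decide⟩, ⟨229, by decide⟩, ⟨230, by decide⟩,
   ⟨233, by decide⟩, ⟨234, by decide⟩, ⟨236, by decide⟩, ⟨239, by decide⟩, ⟨241, by decide⟩,
   ⟨242, by decide⟩, ⟨244, by decide⟩, ⟨247, by decide⟩, ⟨249, by decide⟩, ⟨250, by decide⟩,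
   ⟨253, by decide⟩, ⟨254, by decide⟩, ⟨266, by decide⟩, ⟨267, by decide⟩, ⟨270, by decide⟩,
   ⟨271, by decide⟩, ⟨273, by decide⟩, ⟨275, by decide⟩, ⟨277, by decide⟩, ⟨279, by decide⟩,
   ⟨281, by decide⟩, ⟨282, by decide⟩, ⟨285, by decide⟩, ⟨286, by decide⟩, ⟨298, by decide⟩,
   ⟨299, by decide⟩, ⟨302, by decide⟩, ⟨303, by decide⟩, ⟨305, by decide⟩, ⟨307, by decide⟩,
   ⟨309, by decide⟩, ⟨311, by decide⟩, ⟨313, by decide⟩, ⟨314, by decide⟩, ⟨317, by decide⟩,
   ⟨318, by decide⟩, ⟨330, by decide⟩, ⟨331, by decide⟩, ⟨334, by decide⟩, ⟨335, by decide⟩,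
   ⟨337, by decide⟩, ⟨339, by decide⟩, ⟨340, by decide⟩, ⟨342, by decide⟩, ⟨345, by decide⟩,
   ⟨346, by decide⟩, ⟨348, by decide⟩, ⟨351, by decide⟩, ⟨354, by decide⟩, ⟨355, by decide⟩,
   ⟨358, by decide⟩, ⟨359, by decide⟩, ⟨369, by decide⟩, ⟨370, by decide⟩, ⟨372, by decide⟩,
   ⟨375, by decide⟩, ⟨377, by decide⟩, ⟨379, by decide⟩, ⟨380, by decide⟩, ⟨382, by decide⟩,
   ⟨394, by decide⟩, ⟨395, by decide⟩, ⟨396, by decide⟩, ⟨397, by decide⟩, ⟨401, by decide⟩,
   ⟨403, by decide⟩, ⟨405, by decide⟩, ⟨407, by decide⟩, ⟨409, by decide⟩, ⟨410, by decide⟩,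
   ⟨412, by decide⟩, ⟨415, by decide⟩, ⟨417, by decide⟩, ⟨419, by decide⟩, ⟨421, by decide⟩,
   ⟨423, by decide⟩, ⟨425, by decide⟩, ⟨426, by decide⟩, ⟨428, by decide⟩, ⟨431, by decide⟩,
   ⟨442, by decide⟩, ⟨443, by decide⟩, ⟨444, by decide⟩, ⟨445, by decide⟩, ⟨458, by decide⟩,
   ⟨459, by decide⟩, ⟨460, by decide⟩, ⟨461, by decide⟩, ⟨465, by decide⟩, ⟨467, by decide⟩,
   ⟨468, by decide⟩, ⟨470, by decide⟩, ⟨473, by decide⟩, ⟨474, by decide⟩, ⟨477, by decide⟩,
   ⟨478, by decide⟩, ⟨481, by decide⟩, ⟨482, by decide⟩, ⟨485, by decide⟩, ⟨486, by decide⟩,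
   ⟨489, by decide⟩, ⟨491, by decide⟩, ⟨492, by decide⟩, ⟨494, by decide⟩, ⟨498, by decide⟩,
   ⟨499, by decide⟩, ⟨500, by decide⟩, ⟨501, by decide⟩]

theorem elemsList_val : elemsList.map Subtype.val = codes := by decide +kernel

theorem elemsList_nodup : elemsList.Nodup := by
  have h : (elemsList.map Subtype.val).Nodup := by rw [elemsList_val]; exact codes_nodup
  exact List.Nodup.of_map _ h

theorem mem_elemsList (x : M168) : x ∈ elemsList := by
  have h : x.1 ∈ elemsList.map Subtype.val := by rw [elemsList_val]; exact x.2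
  obtain ⟨y, hy, hyx⟩ := List.mem_map.mp h
  have : y = x := Subtype.ext hyx
  rw [← this]; exact hy

instance : Fintype M168 :=
  ⟨⟨(elemsList : Multiset M168), Multiset.coe_nodup.mpr elemsList_nodup⟩,
    fun x => Multiset.mem_coe.mpr (mem_elemsList x)⟩

set_option maxRecDepth 100000 in
theorem okb_imp_aux : ∀ k < 512, okb k = true → k ∈ codes := by decide +kernel

theorem okb_imp (n : ℕ) (h : okb n = true) : n ∈ codes := by
  have hn : n < 512 := by
    unfold okb at h
    rw [Bool.and_eq_true] at h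
    exact of_decide_eq_true h.1
  exact okb_imp_aux n hn h

set_option maxRecDepth 100000 in
theorem mul_okb : ∀ m ∈ codes, ∀ n ∈ codes, okb (mulc m n) = true := by decide +kernel

set_option maxRecDepth 100000 in
theorem inv_okb : ∀ m ∈ codes, okb (invc m) = true := by decide +kernel

instance : Mul M168 := ⟨fun a b => ⟨mulc a.1 b.1, okb_imp _ (mul_okb a.1 a.2 b.1 b.2)⟩⟩

instance : One M168 := ⟨⟨273, by decide⟩⟩

instance : Inv M168 := ⟨fun a => ⟨invc a.1, okb_imp _ (inv_okb a.1 a.2)⟩⟩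

set_option maxRecDepth 100000 in
theorem app_mul : ∀ (a b : M168) (v : Fin 8), app (a * b).1 v.val = app a.1 (app b.1 v.val) := by
  decide +kernel

set_option maxRecDepth 100000 in
theorem code_eq : ∀ a : M168, a.1 = app a.1 1 + 8 * app a.1 2 + 64 * app a.1 4 := by
  decide +kernel

theorem app_inj (a b : M168) (h : ∀ v : Fin 8, app a.1 v.val = app b.1 v.val) : a = b := by
  apply Subtype.ext
  rw [code_eq a, code_eq b]
  have h1 := h 1
  have h2 := h 2
  have h4 := h 4
  simp only [Fin.val_one, Fin.val_two] at h1 h2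
  have h4' : app a.1 4 = app b.1 4 := h4
  rw [h1, h2, h4']

set_option maxRecDepth 100000 in
theorem app_lt : ∀ (a : M168) (v : Fin 8), app a.1 v.val < 8 := by decide +kernel

set_option maxRecDepth 100000 in
theorem one_mul' : ∀ a : M168, 1 * a = a := by decide +kernel

set_option maxRecDepth 100000 in
theorem inv_mul' : ∀ a : M168, a⁻¹ * a = 1 := by decide +kernel

theorem mul_assoc' (a b c : M168) : a * b * c = a * (b * c) := by
  apply app_inj
  intro v
  have h := app_lt c v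
  have h1 := app_mul (a * b) c v
  have h2 := app_mul a b ⟨app c.1 v.val, h⟩
  have h3 := app_mul a (b * c) v
  have h4 := app_mul b c v
  rw [h1, h2, h3, h4]

instance : Group M168 := Group.ofLeftAxioms mul_assoc' one_mul' inv_mul'

set_option maxRecDepth 100000 in
theorem card_M168 : Fintype.card M168 = 168 := by decide +kernel

end Cfsg.Agent.Lib.Helper16.G168
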