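import Mathlib
import Cfsg.Agent.Lib.Helper16.G168

/-!
# The model `M168` is simple, and every simple group of order 168 is isomorphic to it (helper16)
-/

set_option autoImplicit false
set_option linter.unusedVariables false

namespace Cfsg.Agent.Lib.Helper16.G168

theorem val_mul (a b : M168) : (a * b).1 = mulc a.1 b.1 := rfl

theorem card_M168' : Nat.card M168 = 168 := by
  rw [Nat.card_eq_fintype_card]; exact card_M168

set_option maxRecDepth 100000 in
theorem orders_aux : ∀ g : M168, g * g = 1 ∨ g * g * g = 1 ∨ g * g * g * g = 1 ∨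
    g * g * g * g * g * g * g = 1 := by decide +kernel

theorem pow3 (g : M168) : g ^ 3 = g * g * g := by
  simp only [pow_succ, pow_zero, one_mul]

theorem pow4 (g : M168) : g ^ 4 = g * g * g * g := by
  simp only [pow_succ, pow_zero, one_mul]

theorem pow7 (g : M168) : g ^ 7 = g * g * g * g * g * g * g := by
  simp only [pow_succ, pow_zero, one_mul]

/-- element orders of `M168` -/
theorem orderOf_mem (g : M168) :
    orderOf g = 1 ∨ orderOf g = 2 ∨ orderOf g = 3 ∨ orderOf g = 4 ∨ orderOf g = 7 := by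
  rcases orders_aux g with h | h | h | h
  · have h1 : orderOf g ∣ 2 := orderOf_dvd_of_pow_eq_one (by rw [pow_two]; exact h)
    rcases (Nat.dvd_prime Nat.prime_two).mp h1 with h2 | h2
    · exact Or.inl h2
    · exact Or.inr (Or.inl h2)
  · have h1 : orderOf g ∣ 3 := orderOf_dvd_of_pow_eq_one (by rw [pow3]; exact h)
    rcases (Nat.dvd_prime Nat.prime_three).mp h1 with h2 | h2
    · exact Or.inl h2
    · exact Or.inr (Or.inr (Or.inl h2))
  · have h1 : orderOf g ∣ 4 := orderOf_dvd_of_pow_eq_one (by rw [pow4]; exact h)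
    have h2 : orderOf g ≤ 4 := Nat.le_of_dvd (by norm_num) h1
    have h3 : 0 < orderOf g := Nat.pos_of_dvd_of_pos h1 (by norm_num)
    interval_cases (orderOf g)
    · exact Or.inl rfl
    · exact Or.inr (Or.inl rfl)
    · omega
    · exact Or.inr (Or.inr (Or.inr (Or.inl rfl)))
  · have h1 : orderOf g ∣ 7 := orderOf_dvd_of_pow_eq_one (by rw [pow7]; exact h)
    rcases (Nat.dvd_prime (by norm_num : Nat.Prime 7)).mp h1 with h2 | h2
    · exact Or.inl h2
    · exact Or.inr (Or.inr (Or.inr (Or.inr h2)))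

/-- an element of order 3 -/
def t0 : M168 := ⟨85, by decide⟩

/-- another element of order 3, with `t0 * t1` of order 7 -/
def t1 : M168 := ⟨110, by decide⟩

set_option maxRecDepth 100000 in
theorem simp_fact1 : ∀ g : M168, g ≠ 1 → ∃ h : M168, g * (h * g * h⁻¹) ≠ 1 ∧
    (g * (h * g * h⁻¹)) * (g * (h * g * h⁻¹)) * (g * (h * g * h⁻¹)) = 1 := by decide +kernel

set_option maxRecDepth 100000 in
theorem simp_fact2 : ∀ s : M168, s ≠ 1 → s * s * s = 1 → ∃ c : M168, c * t0 = s * c := by
  decide +kernel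

set_option maxRecDepth 100000 in
theorem simp_fact3 : ∀ v : M168, v ≠ 1 → v * v * v * v * v * v * v = 1 →
    ∃ c : M168, c * (t0 * t1) = v * c ∨ c * (t0 * t1)⁻¹ = v * c := by decide +kernel

set_option maxRecDepth 100000 in
theorem simp_fact4 : t1 * t1 * t1 = 1 ∧ t0 ≠ 1 := by decide +kernel

set_option maxRecDepth 100000 in
theorem simp_fact5 : (Finset.univ.filter (fun x : M168 => x * x * x = 1 ∨
    x * x * x * x * x * x * x = 1)).card = 105 := by decide +kernel

theorem normal_eq_top (N : Subgroup M168) (hN : N.Normal) (g : M168) (hg : g ∈ N) (hg1 : g ≠ 1) :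
    N = ⊤ := by
  obtain ⟨h, ht1, ht3⟩ := simp_fact1 g hg1
  have htN : g * (h * g * h⁻¹) ∈ N := N.mul_mem hg (hN.conj_mem g hg h)
  obtain ⟨c, hc⟩ := simp_fact2 _ ht1 ht3
  have ht0N : t0 ∈ N := by
    have h1 : t0 = c⁻¹ * (g * (h * g * h⁻¹)) * c⁻¹⁻¹ := by
      rw [inv_inv, mul_assoc, ← hc, inv_mul_cancel_left]
    rw [h1]
    exact hN.conj_mem _ htN c⁻¹
  have h3 : ∀ s : M168, s * s * s = 1 → s ∈ N := by
    intro s hs
    by_cases hs1 : s = 1
    · rw [hs1]; exact N.one_mem
    obtain ⟨c, hc⟩ := simp_fact2 s hs1 hs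
    have h1 : s = c * t0 * c⁻¹ := by rw [hc, mul_inv_cancel_right]
    rw [h1]
    exact hN.conj_mem t0 ht0N c
  have ht1N : t1 ∈ N := h3 t1 simp_fact4.1
  have hu0 : t0 * t1 ∈ N := N.mul_mem ht0N ht1N
  have h7 : ∀ v : M168, v * v * v * v * v * v * v = 1 → v ∈ N := by
    intro v hv
    by_cases hv1 : v = 1
    · rw [hv1]; exact N.one_mem
    obtain ⟨c, hc | hc⟩ := simp_fact3 v hv1 hv
    · have h1 : v = c * (t0 * t1) * c⁻¹ := by rw [hc, mul_inv_cancel_right]
      rw [h1]
      exact hN.conj_mem _ hu0 c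
    · have h1 : v = c * (t0 * t1)⁻¹ * c⁻¹ := by rw [hc, mul_inv_cancel_right]
      rw [h1]
      exact hN.conj_mem _ (N.inv_mem hu0) c
  have hsub : ((Finset.univ.filter (fun x : M168 => x * x * x = 1 ∨
      x * x * x * x * x * x * x = 1) : Finset M168) : Set M168) ⊆ (N : Set M168) := by
    intro x hx
    rw [Finset.mem_coe, Finset.mem_filter] at hx
    rcases hx.2 with h | h
    · exact h3 x h
    · exact h7 x h
  have hcard : 105 ≤ Nat.card N := by
    have h1 := Set.ncard_le_ncard hsub (Set.toFinite _)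
    rw [Set.ncard_coe_finset, simp_fact5] at h1
    rwa [← Nat.card_coe_set_eq] at h1
  have hdvd : Nat.card N ∣ 168 := by
    have := Subgroup.card_subgroup_dvd_card N
    rwa [card_M168'] at this
  have h168 : Nat.card N = 168 := by
    obtain ⟨k, hk⟩ := hdvd
    have hk1 : k = 1 := by
      rcases k with _ | _ | k
      · omega
      · rfl
      · exfalso
        have : 168 = Nat.card N * (k + 2) := hk
        nlinarith
    rw [hk1, mul_one] at hk
    exact hk.symm
  exact (Subgroup.card_eq_iff_eq_top N).mp (by rw [h168, card_M168'])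

instance : Nontrivial M168 := ⟨⟨1, t0, simp_fact4.2.symm⟩⟩

instance : IsSimpleGroup M168 where
  eq_bot_or_eq_top_of_normal := by
    intro N hN
    by_cases hb : N = ⊥
    · exact Or.inl hb
    · right
      rw [Subgroup.eq_bot_iff_forall] at hb
      push Not at hb
      obtain ⟨g, hg, hg1⟩ := hb
      exact normal_eq_top N hN g hg hg1

/-- every simple group of order 168 is isomorphic to the model -/
theorem nonempty_equiv {G : Type*} [Group G] [Finite G] [IsSimpleGroup G]
    (h : Nat.card G = 168) : Nonempty (G ≃* M168) := by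
  obtain ⟨e1⟩ := Cfsg.Agent.Helper4.PSLp.psl27 h
  obtain ⟨e2⟩ := Cfsg.Agent.Helper4.PSLp.psl27 (G := M168) card_M168'
  exact ⟨e1.trans e2.symm⟩

end Cfsg.Agent.Lib.Helper16.G168
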