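import Mathlib
import Cfsg.Agent.Lib.Helper16.G168Simple
import Cfsg.Agent.Lib.Helper16.G168Transfer
import Cfsg.Agent.Lib.Helper16.S4Recog
import Cfsg.Agent.Lib.Helper7.SylowBasic

/-!
# Klein four-subgroups of the model of the simple group of order 168 (helper16)
-/

set_option autoImplicit false
set_option linter.unusedVariables false

namespace Cfsg.Agent.Lib.Helper16.G168

/-- involution -/
abbrev IsInv (x : M168) : Prop := x ≠ 1 ∧ x * x = 1

/-- membership in `{1, x, y, xy}` -/
abbrev InV (x y p : M168) : Prop := p = 1 ∨ p = x ∨ p = y ∨ p = x * y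

/-- `g a g⁻¹ ∈ {x, y, xy}`, inverse-free -/
abbrev CV (x y g a : M168) : Prop := g * a = x * g ∨ g * a = y * g ∨ g * a = x * y * g

/-- `g` normalizes `{1, x, y, xy}` -/
abbrev NV (x y g : M168) : Prop := CV x y g x ∧ CV x y g y

/-- a pair of distinct commuting involutions -/
structure KFP (x y : M168) : Prop where
  hx : IsInv x
  hy : IsInv y
  hne : x ≠ y
  hc : x * y = y * x

set_option maxRecDepth 100000 in
theorem kf_aux : ∀ x : M168, IsInv x → ∀ y : M168, IsInv y → x ≠ y → x * y = y * x →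
    (∀ p ∈ [1, x, y, x * y], p * p = 1 ∧ ∀ q ∈ [1, x, y, x * y], InV x y (p * q)) ∧
    ({1, x, y, x * y} : Finset M168).card = 4 := by decide +kernel

set_option maxRecDepth 100000 in
theorem K1 : ∀ x : M168, IsInv x → ∀ y : M168, IsInv y → x ≠ y → x * y = y * x →
    (Finset.univ.filter (fun g => NV x y g)).card = 24 := by decide +kernel

theorem mem_V_iff (x y p : M168) : p ∈ [1, x, y, x * y] ↔ InV x y p := by
  simp [InV]

theorem kf_closed {x y : M168} (h : KFP x y) {p q : M168} (hp : InV x y p) (hq : InV x y q) :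
    InV x y (p * q) :=
  ((kf_aux x h.hx y h.hy h.hne h.hc).1 p ((mem_V_iff x y p).mpr hp)).2 q
    ((mem_V_iff x y q).mpr hq)

theorem kf_sq {x y : M168} (h : KFP x y) {p : M168} (hp : InV x y p) : p * p = 1 :=
  ((kf_aux x h.hx y h.hy h.hne h.hc).1 p ((mem_V_iff x y p).mpr hp)).1

/-- the Klein four-subgroup `{1, x, y, xy}` -/
def kfSub (x y : M168) (h : KFP x y) : Subgroup M168 where
  carrier := {p | InV x y p}
  mul_mem' := fun hp hq => kf_closed h hp hq
  one_mem' := Or.inl rfl
  inv_mem' := fun {p} hp => by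
    have h1 : p⁻¹ = p := inv_eq_of_mul_eq_one_left (kf_sq h hp)
    show InV x y p⁻¹
    rw [h1]; exact hp

theorem mem_kfSub {x y : M168} (h : KFP x y) (p : M168) : p ∈ kfSub x y h ↔ InV x y p := Iff.rfl

theorem left_mem_kfSub {x y : M168} (h : KFP x y) : x ∈ kfSub x y h := Or.inr (Or.inl rfl)

theorem right_mem_kfSub {x y : M168} (h : KFP x y) : y ∈ kfSub x y h :=
  Or.inr (Or.inr (Or.inl rfl))

/-- the order of a subgroup with decidable membership -/
theorem card_subgroup_eq_filter (K : Subgroup M168) (P : M168 → Prop) [DecidablePred P]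
    (h : ∀ g, g ∈ K ↔ P g) : Nat.card ↥K = (Finset.univ.filter P).card := by
  rw [← Fintype.card_subtype P, ← Nat.card_eq_fintype_card]
  exact Nat.card_congr (Equiv.subtypeEquivRight h)

theorem card_kfSub {x y : M168} (h : KFP x y) : Nat.card ↥(kfSub x y h) = 4 := by
  rw [card_subgroup_eq_filter (kfSub x y h) (InV x y) (fun g => Iff.rfl)]
  have h1 : Finset.univ.filter (InV x y) = ({1, x, y, x * y} : Finset M168) := by
    ext p; simp [InV]
  rw [h1]
  exact (kf_aux x h.hx y h.hy h.hne h.hc).2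

theorem isKleinFour_kfSub {x y : M168} (h : KFP x y) : IsKleinFour ↥(kfSub x y h) := by
  refine ⟨card_kfSub h, ?_⟩
  have hsq : ∀ p : ↥(kfSub x y h), p ^ 2 = 1 := by
    intro p
    have hp : InV x y (p : M168) := p.2
    apply Subtype.ext
    rw [pow_two]
    exact kf_sq h hp
  have hd : Monoid.exponent ↥(kfSub x y h) ∣ 2 := Monoid.exponent_dvd_of_forall_pow_eq_one hsq
  rcases (Nat.dvd_prime Nat.prime_two).mp hd with h1 | h2
  · exfalso
    have hs : Subsingleton ↥(kfSub x y h) := Monoid.exp_eq_one_iff.mp h1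
    have h4 := card_kfSub h
    rw [Nat.card_of_subsingleton (1 : ↥(kfSub x y h))] at h4
    omega
  · exact h2

theorem kfSub_le_of_mem {x y : M168} (h : KFP x y) {K : Subgroup M168} (hx : x ∈ K)
    (hy : y ∈ K) : kfSub x y h ≤ K := by
  intro p hp
  have hp' : InV x y p := hp
  rcases hp' with rfl | rfl | rfl | rfl
  · exact K.one_mem
  · exact hx
  · exact hy
  · exact K.mul_mem hx hy

/-- every Klein four-subgroup is of the form `kfSub` -/
theorem exists_kfSub (U : Subgroup M168) (hU : IsKleinFour ↥U) :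
    ∃ (x y : M168) (h : KFP x y), U = kfSub x y h := by
  classical
  have hcard : Nat.card ↥U = 4 := hU.card_four
  have h3 : 2 < Fintype.card ↥U := by
    rw [← Nat.card_eq_fintype_card, hcard]; norm_num
  obtain ⟨a, b, c, hab, hac, hbc⟩ := Fintype.two_lt_card_iff.mp h3
  obtain ⟨u, v, hu, hv, huv⟩ : ∃ u v : ↥U, u ≠ 1 ∧ v ≠ 1 ∧ u ≠ v := by
    by_cases ha : a = 1
    · refine ⟨b, c, ?_, ?_, hbc⟩
      · intro hb; exact hab (ha.trans hb.symm)
      · intro hc; exact hac (ha.trans hc.symm)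
    · by_cases hb : b = 1
      · refine ⟨a, c, ha, ?_, hac⟩
        intro hc; exact hbc (hb.trans hc.symm)
      · exact ⟨a, b, ha, hb, hab⟩
  have hsq : ∀ w : ↥U, (w : M168) * (w : M168) = 1 := by
    intro w
    have := congrArg Subtype.val (IsKleinFour.mul_self w)
    simpa using this
  have hcomm : (u : M168) * (v : M168) = (v : M168) * (u : M168) := by
    have := congrArg Subtype.val ((IsKleinFour.isMulCommutative (G := ↥U)).is_comm.comm u v)
    simpa using this
  have hkfp : KFP (u : M168) (v : M168) :=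
    ⟨⟨fun h => hu (Subtype.ext h), hsq u⟩, ⟨fun h => hv (Subtype.ext h), hsq v⟩,
      fun h => huv (Subtype.ext h), hcomm⟩
  refine ⟨u, v, hkfp, ?_⟩
  ext z
  constructor
  · intro hz
    show InV (u : M168) (v : M168) z
    by_cases h1 : (⟨z, hz⟩ : ↥U) = 1
    · left; exact congrArg Subtype.val h1
    by_cases h2 : (⟨z, hz⟩ : ↥U) = u
    · right; left; exact congrArg Subtype.val h2
    by_cases h3' : (⟨z, hz⟩ : ↥U) = v
    · right; right; left; exact congrArg Subtype.val h3'
    · right; right; right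
      have := IsKleinFour.eq_mul_of_ne_all hu hv huv h1 h2 h3'
      exact congrArg Subtype.val this
  · intro hz
    have hz' : InV (u : M168) (v : M168) z := hz
    rcases hz' with rfl | rfl | rfl | rfl
    · exact U.one_mem
    · exact u.2
    · exact v.2
    · exact U.mul_mem u.2 v.2

theorem mem_normalizer_kfSub {x y : M168} (h : KFP x y) (g : M168) :
    g ∈ Subgroup.normalizer (kfSub x y h : Set M168) ↔ NV x y g := by
  constructor
  · intro hg
    rw [Subgroup.mem_set_normalizer_iff] at hg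
    have key : ∀ a : M168, a ≠ 1 → InV x y a → CV x y g a := by
      intro a ha1 ha
      have h1 : InV x y (g * a * g⁻¹) := (hg a).mp ha
      have e : g * a = g * a * g⁻¹ * g := by rw [inv_mul_cancel_right]
      rcases h1 with h1 | h1 | h1 | h1
      · exfalso
        apply ha1
        have h2 : g * a = g * 1 := by rw [e, h1, one_mul, mul_one]
        exact mul_left_cancel h2
      · left; rw [e, h1]
      · right; left; rw [e, h1]
      · right; right; rw [e, h1]
    exact ⟨key x h.hx.1 (Or.inr (Or.inl rfl)), key y h.hy.1 (Or.inr (Or.inr (Or.inl rfl)))⟩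
  · rintro ⟨h1, h2⟩
    apply mem_normalizer_of_conj_mem
    have cx : InV x y (g * x * g⁻¹) := by
      rcases h1 with h1 | h1 | h1
      · right; left; rw [h1, mul_inv_cancel_right]
      · right; right; left; rw [h1, mul_inv_cancel_right]
      · right; right; right; rw [h1, mul_inv_cancel_right]
    have cy : InV x y (g * y * g⁻¹) := by
      rcases h2 with h2 | h2 | h2
      · right; left; rw [h2, mul_inv_cancel_right]
      · right; right; left; rw [h2, mul_inv_cancel_right]
      · right; right; right; rw [h2, mul_inv_cancel_right]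
    intro n hn
    have hn' : InV x y n := hn
    show InV x y (g * n * g⁻¹)
    rcases hn' with rfl | rfl | rfl | rfl
    · left; rw [mul_one, mul_inv_cancel]
    · exact cx
    · exact cy
    · have e : g * (x * y) * g⁻¹ = (g * x * g⁻¹) * (g * y * g⁻¹) := by group
      rw [e]
      exact kf_closed h cx cy

theorem card_normalizer_kfSub {x y : M168} (h : KFP x y) :
    Nat.card ↥(Subgroup.normalizer (kfSub x y h : Set M168)) = 24 := by
  rw [card_subgroup_eq_filter _ (NV x y) (mem_normalizer_kfSub h)]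
  exact K1 x h.hx y h.hy h.hne h.hc

/-- subgroups of order 24 of the model are symmetric groups -/
theorem s4_of_card24 (K : Subgroup M168) (h : Nat.card ↥K = 24) :
    Nonempty (↥K ≃* Equiv.Perm (Fin 4)) := by
  apply Cfsg.Agent.Lib.Helper16.s4_of_card_24 h
  intro g hg
  have := orderOf_mem (g : M168)
  rw [Subgroup.orderOf_coe] at this
  omega

theorem KF7c_model : KF7c M168 := by
  intro U hU
  obtain ⟨x, y, h, rfl⟩ := exists_kfSub U hU
  exact s4_of_card24 _ (card_normalizer_kfSub h)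

/-! ### A Sylow 2-subgroup -/

/-- an involution -/
def z0 : M168 := ⟨84, by decide⟩

/-- a non-central involution of `C(z0)` -/
def b1 : M168 := ⟨214, by decide⟩

/-- a non-central involution of `C(z0)` in the other Klein four-subgroup -/
def b2 : M168 := ⟨124, by decide⟩

theorem kfp1 : KFP z0 b1 := ⟨by decide, by decide, by decide, by decide⟩

theorem kfp2 : KFP z0 b2 := ⟨by decide, by decide, by decide, by decide⟩

/-- the Sylow 2-subgroup `C(z0)` -/
def P : Subgroup M168 := Subgroup.centralizer ({z0} : Set M168)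

theorem mem_P (g : M168) : g ∈ P ↔ g * z0 = z0 * g := Subgroup.mem_centralizer_singleton_iff

set_option maxRecDepth 100000 in
theorem card_P_aux : (Finset.univ.filter (fun g : M168 => g * z0 = z0 * g)).card = 8 := by
  decide +kernel

theorem card_P : Nat.card ↥P = 8 := by
  rw [card_subgroup_eq_filter P _ mem_P]
  exact card_P_aux

set_option maxRecDepth 100000 in
theorem P_fact1 : ∀ x : M168, x * z0 = z0 * x → IsInv x → ∀ y : M168, y * z0 = z0 * y →
    IsInv y → x ≠ y → x * y = y * x →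
    (InV z0 b1 x ∧ InV z0 b1 y) ∨ (InV z0 b2 x ∧ InV z0 b2 y) := by decide +kernel

set_option maxRecDepth 100000 in
theorem P_fact2 : (b1 * z0 = z0 * b1) ∧ (b2 * z0 = z0 * b2) ∧ ¬ InV z0 b2 b1 := by
  decide +kernel

set_option maxRecDepth 100000 in
theorem P_fact3 : ∀ g : M168,
    ¬ (InV z0 b2 (g * z0 * g⁻¹) ∧ InV z0 b2 (g * b1 * g⁻¹)) ∧
    ¬ (InV z0 b1 (g * z0 * g⁻¹) ∧ InV z0 b1 (g * b2 * g⁻¹)) := by decide +kernel

theorem z0_mem_P : z0 ∈ P := (mem_P z0).mpr rfl

theorem V1_le_P : kfSub z0 b1 kfp1 ≤ P :=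
  kfSub_le_of_mem kfp1 z0_mem_P ((mem_P b1).mpr P_fact2.1)

theorem V2_le_P : kfSub z0 b2 kfp2 ≤ P :=
  kfSub_le_of_mem kfp2 z0_mem_P ((mem_P b2).mpr P_fact2.2.1)

theorem V1_ne_V2 : kfSub z0 b1 kfp1 ≠ kfSub z0 b2 kfp2 := by
  intro h
  have h1 : b1 ∈ kfSub z0 b2 kfp2 := by rw [← h]; exact right_mem_kfSub kfp1
  exact P_fact2.2.2 h1

theorem kf_in_P (U : Subgroup M168) (hUP : U ≤ P) (hU : IsKleinFour ↥U) :
    U = kfSub z0 b1 kfp1 ∨ U = kfSub z0 b2 kfp2 := by
  obtain ⟨x, y, h, rfl⟩ := exists_kfSub U hU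
  have hx : x ∈ P := hUP (left_mem_kfSub h)
  have hy : y ∈ P := hUP (right_mem_kfSub h)
  rcases P_fact1 x ((mem_P x).mp hx) h.hx y ((mem_P y).mp hy) h.hy h.hne h.hc with
    ⟨h1, h2⟩ | ⟨h1, h2⟩
  · left
    apply Subgroup.eq_of_le_of_card_ge (kfSub_le_of_mem h h1 h2)
    rw [card_kfSub, card_kfSub]
  · right
    apply Subgroup.eq_of_le_of_card_ge (kfSub_le_of_mem h h1 h2)
    rw [card_kfSub, card_kfSub]

theorem KF7a_P : KF7a M168 P := by
  unfold KF7a
  have hset : {U : Subgroup M168 | U ≤ P ∧ IsKleinFour ↥U} =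
      {kfSub z0 b1 kfp1, kfSub z0 b2 kfp2} := by
    ext U
    constructor
    · rintro ⟨h1, h2⟩
      exact kf_in_P U h1 h2
    · rintro (rfl | rfl)
      · exact ⟨V1_le_P, isKleinFour_kfSub kfp1⟩
      · exact ⟨V2_le_P, isKleinFour_kfSub kfp2⟩
  have h1 : Nat.card {U : Subgroup M168 // U ≤ P ∧ IsKleinFour ↥U} =
      Set.ncard {U : Subgroup M168 | U ≤ P ∧ IsKleinFour ↥U} :=
    Nat.card_coe_set_eq {U : Subgroup M168 | U ≤ P ∧ IsKleinFour ↥U}
  rw [h1, hset, Set.ncard_pair V1_ne_V2]

theorem KF7b_P : KF7b M168 P := by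
  intro U W hU hW hUk hWk hne g heq
  rcases kf_in_P U hU hUk with rfl | rfl <;> rcases kf_in_P W hW hWk with rfl | rfl
  · exact hne rfl
  · have h1 : g * z0 * g⁻¹ ∈ kfSub z0 b2 kfp2 := by
      rw [← heq]; exact ⟨z0, left_mem_kfSub kfp1, rfl⟩
    have h2 : g * b1 * g⁻¹ ∈ kfSub z0 b2 kfp2 := by
      rw [← heq]; exact ⟨b1, right_mem_kfSub kfp1, rfl⟩
    exact (P_fact3 g).1 ⟨h1, h2⟩
  · have h1 : g * z0 * g⁻¹ ∈ kfSub z0 b1 kfp1 := by
      rw [← heq]; exact ⟨z0, left_mem_kfSub kfp2, rfl⟩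
    have h2 : g * b2 * g⁻¹ ∈ kfSub z0 b1 kfp1 := by
      rw [← heq]; exact ⟨b2, right_mem_kfSub kfp2, rfl⟩
    exact (P_fact3 g).2 ⟨h1, h2⟩
  · exact hne rfl

/-- every subgroup of order 8 is conjugate to `P` -/
theorem sylow_conj (T : Subgroup M168) (hT : Nat.card ↥T = 8) :
    ∃ g : M168, T = P.map (MulAut.conj g).toMonoidHom := by
  haveI : Fact (Nat.Prime 2) := ⟨Nat.prime_two⟩
  have hc : ∀ Q : Sylow 2 M168, Nat.card ↥(Q : Subgroup M168) = 8 := by
    intro Q
    have := Cfsg.Agent.Lib.Helper7.card_sylow_subgroup_eq Q 3 21 (by rw [card_M168']; norm_num) (by norm_num)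
    rw [this]; norm_num
  have hTp : IsPGroup 2 ↥T := IsPGroup.of_card (n := 3) (by rw [hT]; norm_num)
  have hPp : IsPGroup 2 ↥P := IsPGroup.of_card (n := 3) (by rw [card_P]; norm_num)
  obtain ⟨Q1, hQ1⟩ := hTp.exists_le_sylow
  obtain ⟨Q2, hQ2⟩ := hPp.exists_le_sylow
  have e1 : T = (Q1 : Subgroup M168) :=
    Subgroup.eq_of_le_of_card_ge hQ1 (by rw [hc Q1, hT])
  have e2 : P = (Q2 : Subgroup M168) :=
    Subgroup.eq_of_le_of_card_ge hQ2 (by rw [hc Q2, card_P])
  obtain ⟨g, hg⟩ := MulAction.exists_smul_eq M168 Q2 Q1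
  refine ⟨g, ?_⟩
  have hcoe : ((g • Q2 : Sylow 2 M168) : Subgroup M168) =
      (Q2 : Subgroup M168).map (MulAut.conj g).toMonoidHom := by
    rw [Sylow.coe_subgroup_smul, Subgroup.pointwise_smul_def]
    rfl
  rw [e1, e2, ← hcoe, hg]

theorem S1007_model (T : Subgroup M168) (hT : Nat.card ↥T = 8) :
    KF7a M168 T ∧ KF7b M168 T := by
  obtain ⟨g, rfl⟩ := sylow_conj T hT
  have hmap : (P.map (MulAut.conj g).toMonoidHom).map ((MulAut.conj g).symm).toMonoidHom = P :=
    map_map_symm (MulAut.conj g) P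
  constructor
  · apply KF7a_of_equiv (MulAut.conj g).symm
    rw [hmap]; exact KF7a_P
  · apply KF7b_of_equiv (MulAut.conj g).symm
    rw [hmap]; exact KF7b_P

end Cfsg.Agent.Lib.Helper16.G168
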