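import Mathlib
import Cfsg.Agent.Lib.Helper16.G168KF
import Cfsg.Agent.Lib.Helper2.BurnsidePQ
import Cfsg.Agent.Lib.Helper4.MinNormal

/-!
# Maximal subgroups of the model of the simple group of order 168 (helper16)
-/

set_option autoImplicit false
set_option linter.unusedVariables false
set_option linter.style.haveILetI false

namespace Cfsg.Agent.Lib.Helper16.G168

set_option maxRecDepth 100000 in
theorem F3 : ∀ a : M168, a ≠ 1 → a * a * a = 1 → ∃ t : M168, IsInv t ∧ t * a = a * a * t ∧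
    ∃ x : M168, IsInv x ∧ IsInv (a * x * (a * a)) ∧ x ≠ a * x * (a * a) ∧
      x * (a * x * (a * a)) = a * x * (a * a) * x ∧ NV x (a * x * (a * a)) a ∧
      NV x (a * x * (a * a)) t := by decide +kernel

set_option maxRecDepth 100000 in
theorem F3card : ∀ a : M168, a ≠ 1 → a * a * a = 1 →
    (Finset.univ.filter (fun g : M168 => g * a = a * g ∨ g * a = a * a * g)).card = 6 := by
  decide +kernel

set_option maxRecDepth 100000 in
theorem F4 : ∀ a : M168, IsInv a → ∃ x : M168, IsInv x ∧ a ≠ x ∧ a * x = x * a ∧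
    ∀ g : M168, g * a = a * g → NV a x g := by decide +kernel

set_option maxRecDepth 100000 in
theorem F7 : ∀ a : M168, IsInv a → ∀ b : M168, IsInv b → b ≠ a → a * b = b * a →
    ∀ c : M168, IsInv c → c ≠ a → c ≠ b → a * c = c * a → b * c = c * b → c = a * b := by
  decide +kernel

set_option maxRecDepth 100000 in
theorem F9 : ∀ x : M168, IsInv x → ∀ y : M168, IsInv y → x ≠ y → x * y = y * x →
    ∃ g : M168, (InV x y (g * z0 * g⁻¹) ∧ InV x y (g * b1 * g⁻¹)) ∨
      (InV x y (g * z0 * g⁻¹) ∧ InV x y (g * b2 * g⁻¹)) := by decide +kernel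

set_option maxRecDepth 100000 in
theorem F10 : ∀ g : M168, ∃ h : M168, NV z0 b1 h ∧ ¬ NV z0 b2 (g * h * g⁻¹) := by
  decide +kernel

theorem small_div : ∀ n ≤ 24, n ∣ 168 → n = 1 ∨ n = 2 ∨ n = 3 ∨ n = 4 ∨ n = 6 ∨ n = 7 ∨ n = 8 ∨
    n = 12 ∨ n = 14 ∨ n = 21 ∨ n = 24 := by decide

theorem solvable_sub (H : Subgroup M168) (h1 : Nat.card ↥H ∣ 168) (h2 : Nat.card ↥H ≤ 24) :
    Group.IsSolvable ↥H := by
  have p2 := Nat.prime_two
  have p3 := Nat.prime_three
  have p7 : Nat.Prime 7 := by norm_num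
  rcases small_div _ h2 h1 with h | h | h | h | h | h | h | h | h | h | h
  · exact Cfsg.Agent.Lib.Helper2.isSolvable_of_card_eq_prime_pow_mul_prime_pow 2 3 p2 p3 _ ↥H h
      ⟨0, 0, by norm_num⟩
  · exact Cfsg.Agent.Lib.Helper2.isSolvable_of_card_eq_prime_pow_mul_prime_pow 2 3 p2 p3 _ ↥H h
      ⟨1, 0, by norm_num⟩
  · exact Cfsg.Agent.Lib.Helper2.isSolvable_of_card_eq_prime_pow_mul_prime_pow 2 3 p2 p3 _ ↥H h
      ⟨0, 1, by norm_num⟩
  · exact Cfsg.Agent.Lib.Helper2.isSolvable_of_card_eq_prime_pow_mul_prime_pow 2 3 p2 p3 _ ↥H h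
      ⟨2, 0, by norm_num⟩
  · exact Cfsg.Agent.Lib.Helper2.isSolvable_of_card_eq_prime_pow_mul_prime_pow 2 3 p2 p3 _ ↥H h
      ⟨1, 1, by norm_num⟩
  · exact Cfsg.Agent.Lib.Helper2.isSolvable_of_card_eq_prime_pow_mul_prime_pow 2 7 p2 p7 _ ↥H h
      ⟨0, 1, by norm_num⟩
  · exact Cfsg.Agent.Lib.Helper2.isSolvable_of_card_eq_prime_pow_mul_prime_pow 2 3 p2 p3 _ ↥H h
      ⟨3, 0, by norm_num⟩
  · exact Cfsg.Agent.Lib.Helper2.isSolvable_of_card_eq_prime_pow_mul_prime_pow 2 3 p2 p3 _ ↥H h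
      ⟨2, 1, by norm_num⟩
  · exact Cfsg.Agent.Lib.Helper2.isSolvable_of_card_eq_prime_pow_mul_prime_pow 2 7 p2 p7 _ ↥H h
      ⟨1, 1, by norm_num⟩
  · exact Cfsg.Agent.Lib.Helper2.isSolvable_of_card_eq_prime_pow_mul_prime_pow 3 7 p3 p7 _ ↥H h
      ⟨1, 1, by norm_num⟩
  · exact Cfsg.Agent.Lib.Helper2.isSolvable_of_card_eq_prime_pow_mul_prime_pow 2 3 p2 p3 _ ↥H h
      ⟨3, 1, by norm_num⟩

theorem card_dvd (K : Subgroup M168) : Nat.card ↥K ∣ 168 := by
  have := Subgroup.card_subgroup_dvd_card K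
  rwa [card_M168'] at this

theorem ne_top_of_card_lt (K : Subgroup M168) (h : Nat.card ↥K < 168) : K ≠ ⊤ := by
  intro ht
  rw [ht, Subgroup.card_top, card_M168'] at h
  omega

theorem isCoatom_of_card24 (K : Subgroup M168) (h : Nat.card ↥K = 24) : IsCoatom K := by
  refine ⟨ne_top_of_card_lt K (by omega), ?_⟩
  intro L hL
  have h1 : Nat.card ↥K ∣ Nat.card ↥L := Subgroup.card_dvd_of_le hL.le
  have h2 := card_dvd L
  have h3 : Nat.card ↥L ≠ 24 := by
    intro h3
    have : K = L := Subgroup.eq_of_le_of_card_ge hL.le (by rw [h3, h])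
    exact hL.ne this
  rw [h] at h1
  obtain ⟨m, hm⟩ := h1
  obtain ⟨n, hn⟩ := h2
  have h7 : m * n = 7 := by
    have : 24 * 7 = 24 * (m * n) := by rw [← mul_assoc, ← hm, ← hn]
    omega
  have hm7 : m ∣ 7 := ⟨n, h7.symm⟩
  rcases (Nat.dvd_prime (by norm_num : Nat.Prime 7)).mp hm7 with h1 | h1
  · exfalso; apply h3; rw [hm, h1]
  · apply (Subgroup.card_eq_iff_eq_top L).mp
    rw [hm, h1, card_M168']

theorem card_le_of_forall (K : Subgroup M168) (Q : M168 → Prop) [DecidablePred Q]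
    (h : ∀ g ∈ K, Q g) : Nat.card ↥K ≤ (Finset.univ.filter Q).card := by
  have hsub : (K : Set M168) ⊆ ((Finset.univ.filter Q : Finset M168) : Set M168) := by
    intro g hg
    rw [Finset.mem_coe, Finset.mem_filter]
    exact ⟨Finset.mem_univ _, h g hg⟩
  have h1 := Set.ncard_le_ncard hsub (Set.toFinite _)
  rw [Set.ncard_coe_finset] at h1
  rwa [← Nat.card_coe_set_eq] at h1

/-- a subgroup of prime exponent `p` whose order is not divisible by `p²` is cyclic -/
theorem eq_zpowers_of_exponent (A : Subgroup M168) (p : ℕ) (hp : p.Prime) (hp2 : ¬ p ^ 2 ∣ 168)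
    (hpow : ∀ a ∈ A, a ^ p = 1) (a : M168) (ha : a ∈ A) (ha1 : a ≠ 1) :
    A = Subgroup.zpowers a := by
  haveI : Fact p.Prime := ⟨hp⟩
  have hord : orderOf a = p := orderOf_eq_prime (hpow a ha) ha1
  have hle : Subgroup.zpowers a ≤ A := Subgroup.zpowers_le.mpr ha
  have hpg : IsPGroup p ↥A := by
    intro g
    refine ⟨1, ?_⟩
    apply Subtype.ext
    rw [pow_one]
    exact hpow g g.2
  obtain ⟨n, hn⟩ := IsPGroup.iff_card.mp hpg
  have hn1 : n ≤ 1 := by
    by_contra hlt
    push Not at hlt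
    have h1 : p ^ 2 ∣ p ^ n := pow_dvd_pow p hlt
    rw [← hn] at h1
    exact hp2 (h1.trans (card_dvd A))
  have hcz : Nat.card ↥(Subgroup.zpowers a) = p := by rw [Nat.card_zpowers, hord]
  symm
  apply Subgroup.eq_of_le_of_card_ge hle
  rw [hcz, hn]
  calc p ^ n ≤ p ^ 1 := Nat.pow_le_pow_right hp.pos hn1
    _ = p := pow_one p

theorem mem_normalizer_zpowers_of_conj (a g : M168)
    (h : g * a * g⁻¹ ∈ Subgroup.zpowers a) :
    g ∈ Subgroup.normalizer (Subgroup.zpowers a : Set M168) := by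
  apply mem_normalizer_of_conj_mem
  intro n hn
  obtain ⟨k, rfl⟩ := Subgroup.mem_zpowers_iff.mp hn
  rw [← conj_zpow]
  exact Subgroup.zpow_mem _ h k

theorem mem_zpowers_three (a n : M168) (h3 : a * a * a = 1) (hn : n ∈ Subgroup.zpowers a) :
    n = 1 ∨ n = a ∨ n = a * a := by
  obtain ⟨k, rfl⟩ := Subgroup.mem_zpowers_iff.mp hn
  have h3' : a ^ (3 : ℤ) = 1 := by
    have : a ^ (3 : ℕ) = 1 := by rw [pow3]; exact h3
    exact_mod_cast this
  have hk : a ^ k = a ^ (k % 3) := by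
    conv_lhs => rw [← Int.emod_add_mul_ediv k 3]
    rw [zpow_add, zpow_mul, h3', one_zpow, mul_one]
  have h0 : 0 ≤ k % 3 := Int.emod_nonneg k (by norm_num)
  have h2 : k % 3 < 3 := Int.emod_lt_of_pos k (by norm_num)
  rw [hk]
  obtain ⟨r, hr⟩ : ∃ r : ℤ, k % 3 = r := ⟨_, rfl⟩
  rw [hr] at h0 h2 ⊢
  interval_cases r
  · left; simp
  · right; left; simp
  · right; right
    have : a ^ (2 : ℤ) = a ^ (2 : ℕ) := by norm_cast
    rw [this, pow_two]

/-- classification of the maximal subgroups of the model -/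
theorem coatom_class (H : Subgroup M168) (hH : IsCoatom H) :
    (∃ (x y : M168) (h : KFP x y), H = Subgroup.normalizer (kfSub x y h : Set M168)) ∨
    (∃ a : M168, orderOf a = 7 ∧ H = Subgroup.normalizer (Subgroup.zpowers a : Set M168)) := by
  have hHtop : H ≠ ⊤ := hH.1
  have hidx := Cfsg.Agent.Lib.Helper7.card_dvd_factorial_index_of_simple H hHtop
  rw [card_M168'] at hidx
  have h7 : 7 ≤ H.index := by
    by_contra hlt
    push Not at hlt
    have h1 : (H.index).factorial ∣ (6).factorial := Nat.factorial_dvd_factorial (by omega)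
    have h2 := hidx.trans h1
    revert h2
    decide
  have hci : Nat.card ↥H * H.index = 168 := by rw [Subgroup.card_mul_index, card_M168']
  have hle : Nat.card ↥H ≤ 24 := by nlinarith
  have hdvd : Nat.card ↥H ∣ 168 := card_dvd H
  haveI : Group.IsSolvable ↥H := solvable_sub H hdvd hle
  have hHbot : H ≠ ⊥ := by
    intro hb
    have hP : P ≠ ⊥ := by
      intro hPb
      have := card_P
      rw [hPb, Subgroup.card_bot] at this
      omega
    have hlt : H < P := by rw [hb]; exact bot_lt_iff_ne_bot.mpr hP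
    have := hH.2 P hlt
    have h8 := card_P
    rw [this, Subgroup.card_top, card_M168'] at h8
    omega
  haveI : Nontrivial ↥H := (Subgroup.nontrivial_iff_ne_bot H).mpr hHbot
  obtain ⟨N, hN⟩ := Cfsg.Agent.Lib.Helper4.exists_minNormal (G := ↥H)
  have hcomm := hN.le_centralizer
  obtain ⟨p, hp, hpow⟩ := hN.exists_prime_pow_eq_one hcomm
  obtain ⟨hNn, hNne, _⟩ := hN
  haveI : Fact p.Prime := ⟨hp⟩
  -- the image of `N` in the big group
  have hAH : N.map H.subtype ≤ H := Subgroup.map_subtype_le N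
  have hAne : N.map H.subtype ≠ ⊥ := by
    intro h
    exact hNne ((Subgroup.map_eq_bot_iff_of_injective N H.subtype_injective).mp h)
  have hApow : ∀ a ∈ N.map H.subtype, a ^ p = 1 := by
    rintro _ ⟨n, hn, rfl⟩
    have := hpow n hn
    have := congrArg Subtype.val this
    simpa using this
  have hAcomm : ∀ a ∈ N.map H.subtype, ∀ b ∈ N.map H.subtype, a * b = b * a := by
    rintro _ ⟨n, hn, rfl⟩ _ ⟨m, hm, rfl⟩
    have h1 : m * n = n * m := Subgroup.mem_centralizer_iff.mp (hcomm hn) m hm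
    have := congrArg Subtype.val h1
    simpa using this.symm
  have hHN : H ≤ Subgroup.normalizer (N.map H.subtype : Set M168) := by
    intro g hg
    apply mem_normalizer_of_conj_mem
    rintro _ ⟨n, hn, rfl⟩
    exact ⟨⟨g, hg⟩ * n * ⟨g, hg⟩⁻¹, hNn.conj_mem n hn ⟨g, hg⟩, rfl⟩
  have hNtop : Subgroup.normalizer (N.map H.subtype : Set M168) ≠ ⊤ := by
    intro ht
    have hnorm : (N.map H.subtype).Normal := Subgroup.normalizer_eq_top_iff.mp ht
    rcases hnorm.eq_bot_or_eq_top with h | h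
    · exact hAne h
    · apply hHtop
      rw [eq_top_iff, ← h]
      exact hAH
  have hHeq : H = Subgroup.normalizer (N.map H.subtype : Set M168) := by
    by_contra hne
    exact hNtop (hH.2 _ (lt_of_le_of_ne hHN hne))
  -- from now on only `A` matters
  generalize N.map H.subtype = A at hAH hAne hApow hAcomm hHN hNtop hHeq
  have hcoat : ∀ K : Subgroup M168, K ≠ ⊤ → H ≤ K → H = K := by
    intro K hK hHK
    by_contra hne
    exact hK (hH.2 K (lt_of_le_of_ne hHK hne))
  obtain ⟨a₀, ha₀, ha₀1⟩ : ∃ a ∈ A, a ≠ 1 := by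
    rw [Ne, Subgroup.eq_bot_iff_forall] at hAne
    push Not at hAne
    exact hAne
  have hord : orderOf a₀ = p := orderOf_eq_prime (hApow a₀ ha₀) ha₀1
  have hp237 : p = 2 ∨ p = 3 ∨ p = 7 := by
    rcases orderOf_mem a₀ with h | h | h | h | h <;> rw [hord] at h
    · rw [h] at hp; exact absurd hp (by norm_num)
    · exact Or.inl h
    · exact Or.inr (Or.inl h)
    · rw [h] at hp; exact absurd hp (by norm_num)
    · exact Or.inr (Or.inr h)
  rcases hp237 with rfl | rfl | rfl
  · -- p = 2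
    have hinv : ∀ c ∈ A, c ≠ 1 → IsInv c := by
      intro c hc hc1
      refine ⟨hc1, ?_⟩
      have := hApow c hc
      rwa [pow_two] at this
    have ha₀i : IsInv a₀ := hinv a₀ ha₀ ha₀1
    left
    by_cases hex : ∃ b ∈ A, b ≠ 1 ∧ b ≠ a₀
    · obtain ⟨b, hb, hb1, hba⟩ := hex
      have hbi : IsInv b := hinv b hb hb1
      have hk : KFP a₀ b := ⟨ha₀i, hbi, fun h => hba h.symm, hAcomm a₀ ha₀ b hb⟩
      refine ⟨a₀, b, hk, ?_⟩
      have hAeq : A = kfSub a₀ b hk := by
        apply le_antisymm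
        · intro c hc
          show InV a₀ b c
          by_cases h1 : c = 1
          · exact Or.inl h1
          by_cases h2 : c = a₀
          · exact Or.inr (Or.inl h2)
          by_cases h3 : c = b
          · exact Or.inr (Or.inr (Or.inl h3))
          · right; right; right
            exact F7 a₀ ha₀i b hbi hba (hAcomm a₀ ha₀ b hb) c (hinv c hc h1) h2 h3
              (hAcomm a₀ ha₀ c hc) (hAcomm b hb c hc)
        · exact kfSub_le_of_mem hk ha₀ hb
      rw [hHeq, hAeq]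
    · push Not at hex
      obtain ⟨x, hxi, hne, hc, hall⟩ := F4 a₀ ha₀i
      have hk : KFP a₀ x := ⟨ha₀i, hxi, hne, hc⟩
      refine ⟨a₀, x, hk, ?_⟩
      apply hcoat _ (ne_top_of_card_lt _ (by rw [card_normalizer_kfSub]; norm_num))
      intro g hg
      rw [hHeq, Subgroup.mem_set_normalizer_iff] at hg
      have h1 : g * a₀ * g⁻¹ ∈ A := (hg a₀).mp ha₀
      rw [mem_normalizer_kfSub]
      apply hall
      have h2 : g * a₀ * g⁻¹ = a₀ := by
        by_contra h2
        have h3 := hex _ h1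
        have h4 : g * a₀ * g⁻¹ = 1 := by
          by_contra h4
          exact h2 (h3 h4)
        apply ha₀1
        have h5 : g * a₀ = g * 1 := by
          rw [mul_one]
          calc g * a₀ = g * a₀ * g⁻¹ * g := by rw [inv_mul_cancel_right]
            _ = g := by rw [h4, one_mul]
        exact mul_left_cancel h5
      calc g * a₀ = g * a₀ * g⁻¹ * g := by rw [inv_mul_cancel_right]
        _ = a₀ * g := by rw [h2]
  · -- p = 3
    left
    have hAz : A = Subgroup.zpowers a₀ :=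
      eq_zpowers_of_exponent A 3 hp (by norm_num) hApow a₀ ha₀ ha₀1
    have h3 : a₀ * a₀ * a₀ = 1 := by rw [← pow3]; exact hApow a₀ ha₀
    obtain ⟨t, hti, hta, x, hxi, hyi, hne, hc, hNa, hNt⟩ := F3 a₀ ha₀1 h3
    have hk : KFP x (a₀ * x * (a₀ * a₀)) := ⟨hxi, hyi, hne, hc⟩
    refine ⟨x, a₀ * x * (a₀ * a₀), hk, ?_⟩
    have hKtop : Subgroup.normalizer (kfSub x (a₀ * x * (a₀ * a₀)) hk : Set M168) ≠ ⊤ :=
      ne_top_of_card_lt _ (by rw [card_normalizer_kfSub]; norm_num)
    apply hcoat _ hKtop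
    -- `H` has at most six elements
    have hH6 : Nat.card ↥H ≤ 6 := by
      rw [← F3card a₀ ha₀1 h3]
      apply card_le_of_forall
      intro g hg
      rw [hHeq, hAz, Subgroup.mem_set_normalizer_iff] at hg
      have h1 : g * a₀ * g⁻¹ ∈ Subgroup.zpowers a₀ := (hg a₀).mp (Subgroup.mem_zpowers a₀)
      have e : g * a₀ = g * a₀ * g⁻¹ * g := by rw [inv_mul_cancel_right]
      rcases mem_zpowers_three a₀ _ h3 h1 with h2 | h2 | h2
      · exfalso
        apply ha₀1
        have h5 : g * a₀ = g * 1 := by rw [e, h2, one_mul, mul_one]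
        exact mul_left_cancel h5
      · left; rw [e, h2]
      · right; rw [e, h2]
    have haH : a₀ ∈ H := hAH ha₀
    have htH : t ∈ H := by
      rw [hHeq, hAz]
      apply mem_normalizer_zpowers_of_conj
      have : t * a₀ * t⁻¹ = a₀ * a₀ := by rw [hta, mul_inv_cancel_right]
      rw [this]
      exact Subgroup.mul_mem _ (Subgroup.mem_zpowers a₀) (Subgroup.mem_zpowers a₀)
    have haK : a₀ ∈ Subgroup.normalizer (kfSub x (a₀ * x * (a₀ * a₀)) hk : Set M168) :=
      (mem_normalizer_kfSub hk a₀).mpr hNa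
    have htK : t ∈ Subgroup.normalizer (kfSub x (a₀ * x * (a₀ * a₀)) hk : Set M168) :=
      (mem_normalizer_kfSub hk t).mpr hNt
    have hot : orderOf t = 2 := orderOf_eq_prime (by rw [pow_two]; exact hti.2) hti.1
    have h6 : 6 ∣ Nat.card ↥(H ⊓ Subgroup.normalizer
        (kfSub x (a₀ * x * (a₀ * a₀)) hk : Set M168)) := by
      have d3 := Subgroup.orderOf_dvd_natCard _ (Subgroup.mem_inf.mpr ⟨haH, haK⟩)
      have d2 := Subgroup.orderOf_dvd_natCard _ (Subgroup.mem_inf.mpr ⟨htH, htK⟩)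
      rw [hord] at d3
      rw [hot] at d2
      exact Nat.Coprime.mul_dvd_of_dvd_of_dvd (by norm_num : Nat.Coprime 2 3) d2 d3
    have h6' : 6 ≤ Nat.card ↥(H ⊓ Subgroup.normalizer
        (kfSub x (a₀ * x * (a₀ * a₀)) hk : Set M168)) :=
      Nat.le_of_dvd Nat.card_pos h6
    have heq : H ⊓ Subgroup.normalizer (kfSub x (a₀ * x * (a₀ * a₀)) hk : Set M168) = H :=
      Subgroup.eq_of_le_of_card_ge inf_le_left (by omega)
    rw [← heq]
    exact inf_le_right
  · -- p = 7
    right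
    have hAz : A = Subgroup.zpowers a₀ :=
      eq_zpowers_of_exponent A 7 hp (by norm_num) hApow a₀ ha₀ ha₀1
    exact ⟨a₀, hord, by rw [hHeq, hAz]⟩

end Cfsg.Agent.Lib.Helper16.G168
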