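import Mathlib
import Cfsg.Agent.Lib.Helper16.G168Max

/-!
# The statements on maximal subgroups, for the model of the simple group of order 168 (helper16)
-/

set_option autoImplicit false
set_option linter.unusedVariables false
set_option linter.style.haveILetI false

namespace Cfsg.Agent.Lib.Helper16.G168

theorem normalizer_map_conj (U : Subgroup M168) (g : M168) :
    Subgroup.normalizer ((U.map (MulAut.conj g).toMonoidHom : Subgroup M168) : Set M168) =
      (Subgroup.normalizer (U : Set M168)).map (MulAut.conj g).toMonoidHom :=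
  (Subgroup.map_equiv_normalizer_eq U (MulAut.conj g)).symm

/-- a cyclic subgroup of order 7 is a Sylow subgroup -/
theorem exists_sylow7 (a : M168) (ha : orderOf a = 7) :
    ∃ Q : Sylow 7 M168, (Q : Subgroup M168) = Subgroup.zpowers a := by
  haveI : Fact (Nat.Prime 7) := ⟨by norm_num⟩
  have hc : Nat.card ↥(Subgroup.zpowers a) = 7 := by rw [Nat.card_zpowers, ha]
  have hp : IsPGroup 7 ↥(Subgroup.zpowers a) := IsPGroup.of_card (n := 1) (by rw [hc]; norm_num)
  obtain ⟨Q, hQ⟩ := hp.exists_le_sylow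
  refine ⟨Q, ?_⟩
  symm
  apply Subgroup.eq_of_le_of_card_ge hQ
  have := Cfsg.Agent.Lib.Helper7.card_sylow_subgroup_eq Q 1 24 (by rw [card_M168']; norm_num)
    (by norm_num)
  rw [this, hc]; norm_num

theorem card_normalizer7 (a : M168) (ha : orderOf a = 7) :
    Nat.card ↥(Subgroup.normalizer (Subgroup.zpowers a : Set M168)) = 21 := by
  haveI : Fact (Nat.Prime 7) := ⟨by norm_num⟩
  obtain ⟨Q, hQ⟩ := exists_sylow7 a ha
  have hc : Nat.card ↥(Q : Subgroup M168) = 7 := by rw [hQ, Nat.card_zpowers, ha]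
  have hmod := card_sylow_modEq_one 7 M168
  have hdvd := Sylow.card_dvd_index Q
  have hne := Cfsg.Agent.Lib.Helper7.card_sylow_ne_one_of_simple Q (by rw [hc]; norm_num)
    (by rw [hc, card_M168']; norm_num)
  have hidx : (Q : Subgroup M168).index = 24 := by
    have := (Q : Subgroup M168).card_mul_index
    rw [hc, card_M168'] at this
    omega
  rw [hidx] at hdvd
  have hmod' : Nat.card (Sylow 7 M168) % 7 = 1 := hmod
  have hle : Nat.card (Sylow 7 M168) ≤ 24 := Nat.le_of_dvd (by norm_num) hdvd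
  have h8 : Nat.card (Sylow 7 M168) = 8 := by
    generalize Nat.card (Sylow 7 M168) = n at *
    interval_cases n <;> first | rfl | omega
  have h1 : Nat.card (Sylow 7 M168) =
      (Subgroup.normalizer ((Q : Subgroup M168) : Set M168)).index :=
    Sylow.card_eq_index_normalizer Q
  rw [h8, hQ] at h1
  have h2 := (Subgroup.normalizer (Subgroup.zpowers a : Set M168)).card_mul_index
  rw [← h1, card_M168'] at h2
  omega

theorem not_comm_normalizer7 (a : M168) (ha : orderOf a = 7) :
    ¬ IsMulCommutative ↥(Subgroup.normalizer (Subgroup.zpowers a : Set M168)) := by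
  intro hcomm
  haveI : Fact (Nat.Prime 3) := ⟨Nat.prime_three⟩
  have hc := card_normalizer7 a ha
  have h3 : 3 ∣ Nat.card ↥(Subgroup.normalizer (Subgroup.zpowers a : Set M168)) := by
    rw [hc]; norm_num
  obtain ⟨g, hg⟩ := exists_prime_orderOf_dvd_card' 3 h3
  have haN : a ∈ Subgroup.normalizer (Subgroup.zpowers a : Set M168) :=
    Subgroup.le_normalizer (Subgroup.mem_zpowers a)
  have hcm : Commute g ⟨a, haN⟩ := hcomm.is_comm.comm g ⟨a, haN⟩
  have ho : orderOf (⟨a, haN⟩ : ↥(Subgroup.normalizer (Subgroup.zpowers a : Set M168))) = 7 := by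
    rw [← Subgroup.orderOf_coe]; exact ha
  have h21 := hcm.orderOf_mul_eq_mul_orderOf_of_coprime (by rw [hg, ho]; norm_num)
  rw [hg, ho, ← Subgroup.orderOf_coe] at h21
  have := orderOf_mem ((g * ⟨a, haN⟩ : ↥(Subgroup.normalizer (Subgroup.zpowers a : Set M168))) :
    M168)
  omega

theorem Mx8a_model : Mx8a M168 := by
  intro M hM
  rcases coatom_class M hM with ⟨x, y, h, rfl⟩ | ⟨a, ha, rfl⟩
  · exact Or.inl (s4_of_card24 _ (card_normalizer_kfSub h))
  · exact Or.inr ⟨card_normalizer7 a ha, not_comm_normalizer7 a ha⟩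

theorem Mx8b_model : Mx8b M168 := by
  intro M M' hM hM' hc hc'
  haveI : Fact (Nat.Prime 7) := ⟨by norm_num⟩
  rcases coatom_class M hM with ⟨x, y, h, rfl⟩ | ⟨a, ha, rfl⟩
  · rw [card_normalizer_kfSub] at hc; omega
  rcases coatom_class M' hM' with ⟨x, y, h, rfl⟩ | ⟨a', ha', rfl⟩
  · rw [card_normalizer_kfSub] at hc'; omega
  obtain ⟨Q, hQ⟩ := exists_sylow7 a ha
  obtain ⟨Q', hQ'⟩ := exists_sylow7 a' ha'
  obtain ⟨g, hg⟩ := MulAction.exists_smul_eq M168 Q Q'
  refine ⟨g, ?_⟩
  have hcoe : ((g • Q : Sylow 7 M168) : Subgroup M168) =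
      (Q : Subgroup M168).map (MulAut.conj g).toMonoidHom := by
    rw [Sylow.coe_subgroup_smul, Subgroup.pointwise_smul_def]
    rfl
  rw [hg, hQ, hQ'] at hcoe
  rw [hcoe, normalizer_map_conj]

theorem card_perm4 : Nat.card (Equiv.Perm (Fin 4)) = 24 := by
  rw [Nat.card_eq_fintype_card, Fintype.card_perm, Fintype.card_fin]
  rfl

theorem map_kfSub_eq {x y : M168} (h : KFP x y) {u v : M168} (h' : KFP u v) (g : M168)
    (hu : InV x y (g * u * g⁻¹)) (hv : InV x y (g * v * g⁻¹)) :
    (kfSub u v h').map (MulAut.conj g).toMonoidHom = kfSub x y h := by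
  apply Subgroup.eq_of_le_of_card_ge
  · rw [Subgroup.map_le_iff_le_comap]
    exact kfSub_le_of_mem h' (K := (kfSub x y h).comap (MulAut.conj g).toMonoidHom) hu hv
  · rw [card_map_equiv (MulAut.conj g), card_kfSub, card_kfSub]

theorem Mx8c_model : Mx8c M168 := by
  refine ⟨Subgroup.normalizer (kfSub z0 b1 kfp1 : Set M168),
    Subgroup.normalizer (kfSub z0 b2 kfp2 : Set M168),
    isCoatom_of_card24 _ (card_normalizer_kfSub kfp1),
    isCoatom_of_card24 _ (card_normalizer_kfSub kfp2),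
    s4_of_card24 _ (card_normalizer_kfSub kfp1), s4_of_card24 _ (card_normalizer_kfSub kfp2),
    ?_, ?_⟩
  · intro g heq
    obtain ⟨h, h1, h2⟩ := F10 g
    apply h2
    rw [← mem_normalizer_kfSub kfp2, heq]
    exact ⟨h, (mem_normalizer_kfSub kfp1 h).mpr h1, rfl⟩
  · intro M hM hf
    obtain ⟨f⟩ := hf
    have hc : Nat.card ↥M = 24 := by rw [Nat.card_congr f.toEquiv, card_perm4]
    rcases coatom_class M hM with ⟨x, y, h, rfl⟩ | ⟨a, ha, rfl⟩
    · obtain ⟨g, hg | hg⟩ := F9 x h.hx y h.hy h.hne h.hc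
      · refine ⟨g, Or.inl ?_⟩
        rw [← normalizer_map_conj, map_kfSub_eq h kfp1 g hg.1 hg.2]
      · refine ⟨g, Or.inr ?_⟩
        rw [← normalizer_map_conj, map_kfSub_eq h kfp2 g hg.1 hg.2]
    · rw [card_normalizer7 a ha] at hc; omega

end Cfsg.Agent.Lib.Helper16.G168
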