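import Cfsg.Agent.Lib.Helper16.G23MTC
import Cfsg.Agent.Lib.Helper21.G23MEX
import Cfsg.Agent.Lib.Helper21.G23MP

/-!
# S2101: existence of a stem extension of `G₂(3)` with kernel of order `3` (helper16)

Assembly of the existence half from helper21's generic `exists_stem_of_model` (helper1's presented cover): the
presentation `relsG` with the exponents `expG`, the coset enumerations (`card_le_of_relsG`), the model (a
hypothesis here) and the commutator argument (helper21's `gens_mem_commutator_of_conj`).
-/

set_option autoImplicit false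
set_option maxRecDepth 1000000

namespace Cfsg.Agent.Lib.Helper16.G23M

open Cfsg Cfsg.H5.TCk
open Cfsg.Agent.Lib.Helper5.Sp62 (cr crOf)

theorem take76 : relsG.take 76 =
    [List.replicate 13 0, List.replicate 13 2, List.replicate 13 4, List.replicate 13 6] ++
      (conjL ++ conjLy).map crOf := by decide +kernel

theorem exp76 : ((List.range 76).all fun j => expG.getD j 0 == 0) = true := by decide +kernel

theorem len_relsG : relsG.length = 338 := by decide +kernel

theorem chkP : Helper21.check 13 4 (conjL ++ conjLy) = true := by decide +kernel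

theorem rel198 : relsG.getD 198 [] = [0, 0, 2, 0, 2, 1, 4, 4, 2, 6, 6, 6] := by decide +kernel

theorem exp198 : expG.getD 198 0 = 1 := by decide +kernel

/-- the central generator of the cover is a product of commutators -/
theorem zeta_mem_commutator (Γ : Type) [Group Γ] (γ : ℕ → Γ) (ζ : Γ)
    (hrel : ∀ j < relsG.length, ev γ (relsG.getD j []) = ζ ^ (expG.getD j 0)) :
    ζ ∈ commutator Γ := by
  have h0 : ∀ r ∈ relsG.take 76, ev γ r = 1 := by
    intro r hr
    obtain ⟨j, hj, rfl⟩ := List.mem_iff_getElem.mp hr
    have hj' : j < 76 := by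
      rw [List.length_take] at hj
      omega
    have hj2 : j < relsG.length := by rw [len_relsG]; omega
    have h1 := hrel j hj2
    rw [List.getD_eq_getElem _ _ hj2] at h1
    have h2 := exp76
    rw [List.all_eq_true] at h2
    have h3 := h2 j (List.mem_range.mpr hj')
    rw [beq_iff_eq] at h3
    rw [List.getElem_take, h1, h3, pow_zero]
  rw [take76] at h0
  have hpow : ∀ i < 4, γ i ^ 13 = 1 := by
    intro i hi
    apply pow13_of_rel γ i
    apply h0
    interval_cases i <;> simp
  have hconj : ∀ q ∈ conjL ++ conjLy, ev γ (crOf q) = 1 := by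
    intro q hq
    apply h0
    exact List.mem_append_right _ (List.mem_map_of_mem hq)
  have hmem := gens_mem_commutator_of_conj γ 13 4 (by norm_num) (conjL ++ conjLy) hpow hconj chkP
  have h198 := hrel 198 (by rw [len_relsG]; norm_num)
  rw [rel198, exp198, pow_one] at h198
  rw [← h198]
  exact Cfsg.H5.StemTC.ev_mem γ _ 4 hmem _ (by decide)

/-- **existence**, from a model -/
theorem exists_cover_of_model {G : Type} [Group G] (g : ℕ → G) (hg : IsG23Tuple g)
    (hM : ∃ (Δ : Type) (_ : Group Δ) (d : ℕ → Δ) (z : Δ), (∀ i < 4, z * d i = d i * z) ∧ z ^ 3 = 1 ∧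
      (∀ m, 0 < m → m < 3 → z ^ m ≠ 1) ∧
        ∀ j < relsG.length, ev d (relsG.getD j []) = z ^ (expG.getD j 0)) :
    ∃ (Γ : Type) (_ : Group Γ) (_ : Finite Γ) (σ : Γ →* G), IsStemExtension σ ∧
      Nonempty (σ.ker ≃* Multiplicative (ZMod 3)) := by
  haveI : Finite G := Nat.finite_of_card_ne_zero (by rw [hg.1]; norm_num)
  exact exists_stem_of_model 4 relsG expG 3 (by norm_num) (lt_of_all lettersG_ok) g hg.2.1
    hg.2.2.2.2.1
    (fun P _ p hgen hrel => by
      rw [hg.1]
      exact card_le_of_relsG p hgen hrel)
    hM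
    (fun Γ _ γ ζ _ _ hrel => zeta_mem_commutator Γ γ ζ hrel)

end Cfsg.Agent.Lib.Helper16.G23M
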