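import Cfsg.Agent.Lib.Helper16.G23MHolo

/-!
# S2101: the holonomy certificate, steps 500 to 999 (helper16; generated)
-/

set_option autoImplicit false
set_option maxRecDepth 1000000

namespace Cfsg.Agent.Lib.Helper16.G23M

open Cfsg.Agent.Lib.Helper16.HoloG

def STEPS1 : List Step := [
  .base 175,
  .base 176,
  .base 177,
  .base 180,
  .base 181,
  .base 183,
  .base 185,
  .base 186,
  .base 187,
  .base 189,
  .base 190,
  .base 192,
  .base 195,
  .base 201,
  .base 205,
  .base 209,
  .base 213,
  .base 214,
  .base 219,
  .base 221,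
  .base 222,
  .base 223,
  .base 225,
  .base 227,
  .base 229,
  .base 230,
  .base 231,
  .base 234,
  .base 235,
  .base 240,
  .base 243,
  .base 244,
  .base 245,
  .base 246,
  .base 249,
  .base 252,
  .base 254,
  .base 255,
  .base 256,
  .base 264,
  .base 265,
  .base 267,
  .base 270,
  .base 272,
  .base 274,
  .base 276,
  .base 277,
  .base 280,
  .base 284,
  .base 286,
  .base 288,
  .base 294,
  .base 295,
  .base 297,
  .base 298,
  .base 299,
  .base 300,
  .base 302,
  .base 304,
  .base 308,
  .base 311,
  .base 313,
  .base 315,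
  .base 316,
  .base 317,
  .base 318,
  .base 321,
  .base 325,
  .base 326,
  .base 328,
  .base 329,
  .base 330,
  .base 333,
  .base 338,
  .base 339,
  .base 340,
  .base 342,
  .base 343,
  .base 345,
  .base 348,
  .base 352,
  .base 353,
  .base 354,
  .base 356,
  .base 360,
  .base 361,
  .base 362,
  .base 363,
  .base 364,
  .base 366,
  .base 369,
  .base 371,
  .base 372,
  .base 374,
  .base 379,
  .base 383,
  .base 385,
  .base 387,
  .base 388,
  .base 389,
  .base 390,
  .base 393,
  .base 397,
  .base 399,
  .base 400,
  .base 408,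
  .base 409,
  .base 416,
  .base 417,
  .base 418,
  .base 425,
  .base 426,
  .base 428,
  .base 430,
  .base 432,
  .base 435,
  .base 436,
  .base 438,
  .base 443,
  .base 445,
  .base 447,
  .base 451,
  .base 455,
  .base 457,
  .base 461,
  .base 462,
  .base 464,
  .base 466,
  .base 469,
  .base 470,
  .base 471,
  .base 472,
  .base 473,
  .base 477,
  .base 479,
  .base 481,
  .base 482,
  .base 483,
  .base 486,
  .base 487,
  .base 488,
  .base 492,
  .base 496,
  .base 497,
  .base 498,
  .base 505,
  .base 508,
  .base 514,
  .base 515,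
  .base 516,
  .base 517,
  .base 519,
  .base 524,
  .base 529,
  .base 534,
  .base 541,
  .base 542,
  .base 544,
  .base 545,
  .base 547,
  .base 549,
  .base 550,
  .base 551,
  .base 552,
  .base 553,
  .base 558,
  .base 559,
  .base 560,
  .base 569,
  .base 572,
  .base 573,
  .base 574,
  .base 576,
  .base 577,
  .base 579,
  .base 581,
  .base 582,
  .base 585,
  .base 587,
  .base 589,
  .base 590,
  .base 594,
  .base 595,
  .base 596,
  .base 599,
  .base 600,
  .base 601,
  .base 605,
  .base 606,
  .base 607,
  .base 609,
  .base 612,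
  .base 613,
  .base 614,
  .base 615,
  .base 616,
  .base 621,
  .base 626,
  .base 628,
  .base 630,
  .base 631,
  .base 633,
  .base 636,
  .base 637,
  .base 640,
  .base 641,
  .base 643,
  .base 644,
  .base 645,
  .base 646,
  .base 648,
  .base 649,
  .base 650,
  .base 651,
  .base 653,
  .base 654,
  .base 655,
  .base 657,
  .base 658,
  .base 659,
  .base 660,
  .base 663,
  .base 668,
  .base 669,
  .base 670,
  .base 671,
  .base 673,
  .base 676,
  .base 677,
  .base 678,
  .base 679,
  .base 680,
  .base 681,
  .base 682,
  .base 686,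
  .base 688,
  .base 689,
  .base 690,
  .base 691,
  .base 698,
  .base 700,
  .base 703,
  .base 705,
  .base 706,
  .base 707,
  .base 709,
  .base 712,
  .base 714,
  .base 716,
  .base 720,
  .base 723,
  .base 724,
  .base 726,
  .base 727,
  .base 729,
  .base 736,
  .base 738,
  .base 739,
  .base 740,
  .base 743,
  .base 744,
  .base 745,
  .base 748,
  .base 749,
  .base 750,
  .base 752,
  .base 754,
  .base 756,
  .base 759,
  .base 760,
  .base 761,
  .base 762,
  .base 763,
  .base 765,
  .base 770,
  .base 772,
  .base 774,
  .base 775,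
  .base 776,
  .base 778,
  .base 780,
  .base 783,
  .base 785,
  .base 786,
  .base 789,
  .base 793,
  .base 795,
  .base 797,
  .base 799,
  .base 802,
  .base 803,
  .base 804,
  .base 805,
  .base 811,
  .base 812,
  .base 814,
  .base 819,
  .base 820,
  .base 822,
  .base 825,
  .base 828,
  .base 829,
  .base 833,
  .base 835,
  .base 843,
  .base 844,
  .base 847,
  .base 848,
  .base 849,
  .base 852,
  .base 858,
  .base 867,
  .base 869,
  .base 871,
  .base 873,
  .base 875,
  .base 878,
  .base 879,
  .base 880,
  .base 887,
  .base 889,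
  .base 897,
  .base 900,
  .base 911,
  .base 912,
  .base 914,
  .base 916,
  .base 920,
  .base 922,
  .base 937,
  .base 938,
  .base 939,
  .base 940,
  .base 942,
  .base 945,
  .base 947,
  .base 949,
  .base 957,
  .base 958,
  .base 960,
  .base 961,
  .base 965,
  .base 967,
  .base 968,
  .base 969,
  .base 972,
  .base 978,
  .base 979,
  .base 981,
  .base 982,
  .base 999,
  .base 1000,
  .base 1001,
  .base 1002,
  .base 1011,
  .base 1012,
  .base 1014,
  .base 1015,
  .base 1022,
  .base 1023,
  .base 1024,
  .base 1026,
  .base 1027,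
  .base 1035,
  .base 1036,
  .base 1038,
  .base 1047,
  .base 1050,
  .base 1054,
  .base 1058,
  .base 1060,
  .base 1076,
  .base 1084,
  .base 1168,
  .base 1170,
  .base 1182,
  .base 1191,
  .base 1198,
  .base 1216,
  .base 1218,
  .base 1228,
  .base 1242,
  .base 1245,
  .base 1247,
  .base 1261,
  .base 1269,
  .base 1272,
  .base 1298,
  .base 1300,
  .base 1303,
  .base 1309,
  .base 1311,
  .base 1315,
  .base 1316,
  .base 1333,
  .base 1360,
  .base 1364,
  .base 1423,
  .base 1428,
  .base 1438,
  .base 1440,
  .base 1441,
  .base 1446,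
  .base 1451,
  .base 1452,
  .base 1477,
  .base 1492,
  .base 1497,
  .base 1498,
  .base 1512,
  .base 1515,
  .base 1518,
  .base 1526,
  .base 1542,
  .base 1548,
  .base 1568,
  .base 1578,
  .base 1586,
  .base 1603,
  .base 1608,
  .base 1615,
  .base 1649,
  .base 1734,
  .base 1738,
  .base 1747,
  .base 1815,
  .base 1831,
  .base 1847,
  .base 1850,
  .base 1882,
  .base 1917,
  .base 1920,
  .base 1928,
  .base 1932,
  .base 1953,
  .base 1955,
  .base 1957,
  .base 1964,
  .base 1971,
  .base 2000,
  .base 2014,
  .base 2022,
  .base 2040,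
  .base 2055,
  .base 2120,
  .base 2136,
  .base 2139,
  .base 2156,
  .base 2171,
  .base 2184,
  .base 2196,
  .base 2200,
  .base 2201,
  .base 2202,
  .base 2205,
  .base 2208,
  .base 2210,
  .base 2212,
  .base 2215,
  .base 2217,
  .base 2218,
  .base 2230,
  .base 2239,
  .base 2252,
  .base 2272,
  .base 2278,
  .base 2290,
  .base 2291,
  .base 2292,
  .base 2302,
  .base 2315,
  .base 2328,
  .base 2331,
  .base 2332,
  .base 2334,
  .base 2336,
  .base 2341,
  .base 2343,
  .base 2344,
  .base 2363,
  .base 2365,
  .base 2388,
  .base 2436,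
  .base 2464,
  .base 2500,
  .base 2520,
  .base 2522,
  .base 2548,
  .base 2553,
  .base 2557,
  .base 2562,
  .base 2611,
  .base 2628,
  .base 2630,
  .base 2635,
  .base 2639,
  .base 2662,
  .base 2670,
  .base 2755,
  .base 2759]

theorem steps1_ok : runSteps cert STEPS1 500 = true := by decide +kernel

end Cfsg.Agent.Lib.Helper16.G23M
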