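import Cfsg.Agent.Lib.Helper16.G23MHolo

/-!
# S2101: the holonomy certificate, steps 1000 to 1499 (helper16; generated)
-/

set_option autoImplicit false
set_option maxRecDepth 1000000

namespace Cfsg.Agent.Lib.Helper16.G23M

open Cfsg.Agent.Lib.Helper16.HoloG

def STEPS2 : List Step := [
  .base 2782,
  .base 2785,
  .base 2788,
  .base 2799,
  .base 2809,
  .base 2811,
  .base 2812,
  .base 2819,
  .base 2823,
  .base 2829,
  .base 2831,
  .base 2832,
  .base 2833,
  .base 2835,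
  .base 2836,
  .base 2841,
  .base 2844,
  .base 2859,
  .base 2863,
  .base 2881,
  .base 2882,
  .base 2883,
  .base 2885,
  .base 2889,
  .base 2891,
  .base 2900,
  .base 2902,
  .base 2913,
  .base 2914,
  .base 2925,
  .base 2930,
  .base 2931,
  .base 2932,
  .base 2934,
  .base 2936,
  .base 2939,
  .base 2941,
  .base 2944,
  .base 2945,
  .base 2946,
  .base 2947,
  .base 2953,
  .base 2955,
  .base 2974,
  .base 2976,
  .base 2980,
  .base 2985,
  .base 2989,
  .base 2990,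
  .base 2991,
  .base 2992,
  .base 3001,
  .base 3012,
  .base 3015,
  .base 3017,
  .base 3019,
  .base 3020,
  .base 3021,
  .base 3024,
  .base 3026,
  .base 3029,
  .base 3030,
  .base 3033,
  .base 3038,
  .base 3043,
  .base 3044,
  .base 3049,
  .base 3057,
  .base 3062,
  .base 3063,
  .base 3064,
  .base 3075,
  .base 3076,
  .base 3078,
  .base 3080,
  .base 3084,
  .base 3103,
  .base 3107,
  .base 3108,
  .base 3112,
  .base 3114,
  .base 3116,
  .base 3118,
  .base 3130,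
  .base 3141,
  .base 3154,
  .base 3173,
  .base 3180,
  .base 3190,
  .base 3199,
  .base 3237,
  .base 3245,
  .base 3247,
  .base 3252,
  .base 3256,
  .base 3265,
  .base 3267,
  .base 3278,
  .base 3287,
  .base 3289,
  .base 3296,
  .base 3300,
  .base 3317,
  .base 3318,
  .base 3328,
  .base 3343,
  .base 3351,
  .base 3354,
  .base 3358,
  .base 3361,
  .base 3362,
  .base 3364,
  .base 3376,
  .base 3380,
  .base 3382,
  .base 3395,
  .base 3402,
  .base 3404,
  .base 3411,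
  .base 3417,
  .base 3422,
  .base 3424,
  .base 3425,
  .base 3462,
  .base 3479,
  .base 3481,
  .base 3499,
  .base 3505,
  .base 3513,
  .base 3515,
  .base 3516,
  .base 3519,
  .base 3524,
  .base 3525,
  .base 3529,
  .base 3530,
  .base 3531,
  .base 3532,
  .base 3542,
  .base 3543,
  .base 3600,
  .base 3656,
  .base 3692,
  .base 3717,
  .base 3957,
  .base 4111,
  .base 4120,
  .base 4144,
  .base 4205,
  .base 4503,
  .base 4773,
  .base 5698,
  .base 6584,
  .solveE 6790 2 754,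
  .solveE 6795 0 755,
  .solveE 6770 1 752,
  .solveE 6779 1 753,
  .solveE 6735 1 467,
  .solveE 6764 2 460,
  .solveE 6756 3 750,
  .solveE 6747 3 749,
  .solveE 6730 3 439,
  .solveE 6715 0 413,
  .solveE 6708 1 410,
  .solveE 6699 1 406,
  .solveE 6688 0 400,
  .solveE 5128 3 393,
  .solveE 5836 2 648,
  .solveE 4973 2 392,
  .solveE 6680 1 742,
  .solveE 5565 1 392,
  .solveE 6093 0 677,
  .solveE 4759 3 391,
  .solveE 6349 2 705,
  .solveE 6382 0 391,
  .solveE 4921 3 390,
  .solveE 5584 2 620,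
  .solveE 6356 1 706,
  .solveE 5612 2 389,
  .solveE 5388 3 598,
  .solveE 5037 3 559,
  .solveE 5323 2 591,
  .solveE 5308 3 384,
  .solveE 6673 2 741,
  .solveE 5000 2 380,
  .solveE 5457 1 380,
  .solveE 4966 3 379,
  .solveE 6661 0 379,
  .solveE 5349 1 378,
  .solveE 6652 0 378,
  .solveE 4953 1 377,
  .solveE 4893 3 543,
  .solveE 5260 2 584,
  .solveE 5715 0 635,
  .solveE 6045 3 671,
  .solveE 5809 2 645,
  .solveE 6647 2 373,
  .solveE 4563 0 507,
  .solveE 4741 3 372,
  .solveE 5186 1 576,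
  .solveE 5513 2 371,
  .solveE 4875 3 541,
  .solveE 4579 3 368,
  .solveE 5053 2 561,
  .solveE 6604 3 366,
  .solveE 4440 1 366,
  .solveE 5441 2 365,
  .solveE 5871 1 365,
  .solveE 6393 1 364,
  .solveE 6634 0 363,
  .solveE 4686 3 520,
  .solveE 5604 3 622,
  .solveE 5942 1 660,
  .solveE 4596 3 510,
  .solveE 6628 2 736,
  .solveE 6622 3 359,
  .solveE 4856 2 355,
  .solveE 4766 2 354,
  .solveE 4412 1 490,
  .solveE 6610 2 734,
  .solveE 5531 2 350,
  .solveE 5572 0 349,
  .solveE 6306 3 700,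
  .solveE 5909 2 346,
  .solveE 5205 1 346,
  .solveE 6337 0 346,
  .solveE 4983 3 553,
  .solveE 5024 1 558,
  .solveE 6591 1 345,
  .solveE 5118 3 568,
  .solveE 6253 3 342,
  .solveE 6312 1 342,
  .solveE 6553 0 342,
  .solveE 5676 3 630,
  .solveE 6469 3 341,
  .solveE 5936 2 340,
  .solveE 6581 1 731,
  .solveE 5502 1 340,
  .solveE 4345 3 339,
  .solveE 6576 3 730,
  .solveE 5772 1 338,
  .solveE 4932 0 548,
  .solveE 4909 2 545,
  .solveE 5788 0 337,
  .solveE 6568 3 336,
  .solveE 5665 2 629,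
  .solveE 4746 1 336,
  .solveE 6373 0 336,
  .solveE 5092 3 335,
  .solveE 6547 2 727,
  .solveE 5540 2 335,
  .solveE 6204 1 335,
  .solveE 5005 0 335,
  .solveE 5488 3 334,
  .solveE 4424 2 333,
  .solveE 4298 2 332,
  .solveE 4322 1 480,
  .solveE 4359 1 332,
  .solveE 4311 0 479,
  .solveE 4291 3 331,
  .solveE 4644 0 516,
  .solveE 6541 3 330,
  .solveE 5549 2 330,
  .solveE 6527 1 725,
  .solveE 5814 0 646,
  .solveE 6521 2 327,
  .solveE 6158 1 684,
  .solveE 6114 1 327,
  .solveE 4374 0 486,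
  .solveE 4542 3 504,
  .solveE 5656 2 628,
  .solveE 6474 1 326,
  .solveE 4366 0 326,
  .solveE 4866 3 540,
  .solveE 6514 3 325,
  .solveE 5467 2 607,
  .solveE 6499 0 325,
  .solveE 5478 3 608,
  .solveE 5335 3 323,
  .solveE 5396 2 322,
  .solveE 5133 1 322,
  .solveE 6294 1 321,
  .solveE 6490 0 321,
  .solveE 6025 2 669,
  .solveE 5753 1 639,
  .solveE 5142 1 320,
  .solveE 6192 0 688,
  .solveE 5634 0 626,
  .solveE 6487 3 317,
  .solveE 4789 0 316,
  .solveE 6244 3 315,
  .solveE 5373 0 597,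
  .solveE 6328 0 315,
  .solveE 4281 3 475,
  .solveE 5434 3 314,
  .solveE 5953 2 661,
  .solveE 5978 1 664,
  .solveE 6010 3 313,
  .solveE 5169 1 313,
  .solveE 5162 2 312,
  .solveE 6455 1 717,
  .solveE 6273 0 697,
  .solveE 4384 0 311,
  .solveE 4506 3 500,
  .solveE 5900 2 309,
  .solveE 5364 0 596,
  .solveE 6448 2 716,
  .solveE 5697 0 633,
  .solveE 6442 3 296,
  .solveE 6432 3 714,
  .solveE 6420 1 293,
  .solveE 6414 3 712,
  .solveE 5232 1 292,
  .solveE 6364 0 292,
  .solveE 6399 0 711,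
  .solveE 6289 3 284,
  .solveE 6264 0 696,
  .solveE 4408 3 283,
  .solveE 5859 0 651,
  .solveE 5691 1 280,
  .solveE 6319 0 280,
  .solveE 4272 3 474,
  .solveE 5784 3 642,
  .solveE 6262 3 270,
  .solveE 6230 1 692,
  .solveE 6225 3 691,
  .solveE 6214 2 690,
  .solveE 5270 2 260,
  .solveE 4493 1 499,
  .solveE 4599 0 511,
  .solveE 6187 2 687,
  .solveE 5987 1 665,
  .solveE 6174 0 686,
  .solveE 4879 0 259,
  .solveE 5731 3 258,
  .solveE 6168 1 257,
  .solveE 4353 3 483,
  .solveE 6154 3 254,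
  .solveE 6124 2 680,
  .solveE 5243 2 254,
  .solveE 6138 0 682,
  .solveE 6134 2 252,
  .solveE 6105 1 250,
  .solveE 5289 3 587,
  .solveE 6090 3 676,
  .solveE 5927 2 246,
  .solveE 4619 1 513,
  .solveE 5400 0 600,
  .solveE 5496 3 610,
  .solveE 5521 2 613,
  .solveE 6077 1 675,
  .solveE 6067 0 245,
  .solveE 5317 3 244,
  .solveE 6052 2 672,
  .solveE 6062 2 244,
  .solveE 4528 0 244,
  .solveE 4453 3 242,
  .solveE 6033 1 241,
  .solveE 6016 2 668,
  .solveE 5650 3 237,
  .solveE 5294 1 588,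
  .solveE 5998 2 666,
  .solveE 5969 1 663,
  .solveE 5965 3 226,
  .solveE 5920 3 224,
  .solveE 5595 3 621,
  .solveE 5043 1 222,
  .solveE 5887 0 219,
  .solveE 5880 1 218,
  .solveE 5801 2 217,
  .solveE 5421 1 217,
  .solveE 4780 0 217,
  .solveE 5857 3 214,
  .solveE 5844 1 214,
  .solveE 5555 1 617,
  .solveE 5824 0 213,
  .solveE 5760 0 640,
  .solveE 5746 2 638,
  .solveE 5736 1 205,
  .solveE 5711 2 203,
  .solveE 5686 3 201,
  .solveE 5013 0 557,
  .solveE 5625 0 625,
  .solveE 5623 3 192,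
  .solveE 4989 1 183,
  .solveE 5450 2 179,
  .solveE 4399 3 178,
  .solveE 5409 0 601,
  .solveE 5358 1 176,
  .solveE 4484 1 498,
  .solveE 5340 1 174,
  .solveE 4816 0 172,
  .solveE 5276 1 586,
  .solveE 5251 2 583,
  .solveE 5227 3 168,
  .solveE 4691 1 521,
  .solveE 5212 0 168,
  .solveE 4460 2 166,
  .solveE 5195 1 577,
  .solveE 5181 3 575,
  .solveE 5148 0 572,
  .solveE 4898 1 544,
  .solveE 5106 1 161,
  .solveE 5101 3 160,
  .solveE 5076 0 564,
  .solveE 4429 0 160,
  .solveE 5073 3 563,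
  .solveE 5065 3 158,
  .solveE 4707 0 523,
  .solveE 4945 2 549,
  .solveE 4923 0 547,
  .solveE 4581 0 509,
  .solveE 4521 1 146,
  .solveE 4842 0 538,
  .solveE 4840 3 145,
  .solveE 4829 2 145,
  .solveE 4776 3 530,
  .solveE 4811 2 144,
  .solveE 4800 1 144,
  .solveE 4718 1 524,
  .solveE 4726 0 141,
  .solveE 4698 0 522,
  .solveE 4675 2 519,
  .solveE 4664 1 518,
  .solveE 4654 0 138,
  .solveE 4640 2 136,
  .solveE 4628 1 514,
  .solveE 4608 0 512,
  .solveE 4554 0 506,
  .solveE 4547 1 505,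
  .solveE 4511 1 501,
  .solveE 4474 0 130,
  .solveE 4470 3 496,
  .solveE 4334 2 120,
  .solveE 4306 2 478,
  .solveE 4263 3 473,
  .solveE 4252 2 472,
  .solveE 4239 0 471,
  .solveE 4237 3 116,
  .solveE 4223 1 469,
  .solveE 4214 1 468,
  .solveE 4194 0 466,
  .solveE 4204 0 115,
  .solveE 4176 0 464,
  .solveE 4186 0 114,
  .solveE 4164 3 462,
  .solveE 4174 3 113,
  .solveE 4153 2 461,
  .solveE 4137 3 459,
  .solveE 4147 3 112,
  .solveE 4127 2 112,
  .solveE 4115 1 457,
  .solveE 4097 1 455,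
  .solveE 4107 1 111,
  .solveE 4077 0 453,
  .solveE 4087 0 111,
  .solveE 4059 0 451,
  .solveE 4069 0 109,
  .solveE 4047 3 449,
  .solveE 4057 3 108,
  .solveE 4033 0 108,
  .solveE 4030 3 107,
  .solveE 4009 2 445,
  .solveE 4019 2 107,
  .solveE 3999 1 107,
  .solveE 3984 3 442,
  .solveE 3994 3 106,
  .solveE 3974 2 106,
  .solveE 3962 1 440,
  .solveE 3956 2 105,
  .solveE 3945 1 105,
  .solveE 3934 0 105,
  .solveE 3931 3 104,
  .solveE 3920 2 104,
  .solveE 3899 1 433,
  .solveE 3909 1 104,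
  .solveE 3888 0 432,
  .solveE 3884 2 102,
  .solveE 3873 1 102,
  .solveE 3867 3 429,
  .solveE 3856 2 428,
  .solveE 3800 1 422,
  .solveE 3846 1 101,
  .solveE 3835 0 100,
  .solveE 3832 3 99,
  .solveE 3822 3 424,
  .solveE 3811 2 423,
  .solveE 3786 3 420,
  .solveE 3796 3 97,
  .solveE 3775 2 419,
  .solveE 3765 1 97,
  .solveE 3754 0 97,
  .solveE 3750 3 416,
  .solveE 3739 2 415,
  .solveE 3728 1 414,
  .solveE 3719 1 413,
  .solveE 3715 3 94,
  .solveE 3701 1 411,
  .solveE 3666 1 94,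
  .solveE 3690 0 410]

theorem steps2_ok : runSteps cert STEPS2 1000 = true := by decide +kernel

end Cfsg.Agent.Lib.Helper16.G23M
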