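import Cfsg.Agent.Lib.Helper16.G23MHolo

/-!
# S2101: the holonomy certificate, steps 1500 to 1999 (helper16; generated)
-/

set_option autoImplicit false
set_option maxRecDepth 1000000

namespace Cfsg.Agent.Lib.Helper16.G23M

open Cfsg.Agent.Lib.Helper16.HoloG

def STEPS3 : List Step := [
  .solveE 3678 3 408,
  .solveE 3688 3 93,
  .solveE 3660 3 406,
  .solveE 3649 2 405,
  .solveE 3627 0 403,
  .solveE 3637 0 92,
  .solveE 3625 3 91,
  .solveE 3611 1 401,
  .solveE 3591 0 399,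
  .solveE 3601 0 91,
  .solveE 3587 2 90,
  .solveE 3576 1 90,
  .solveE 3564 0 396,
  .solveE 3560 2 89,
  .solveE 3548 1 394,
  .solveE 2091 1 89,
  .solveE 3537 0 393,
  .solveE 3534 3 392,
  .solveE 3523 2 391,
  .solveE 1352 1 150,
  .solveE 3510 0 390,
  .solveE 3508 3 87,
  .solveE 3485 1 387,
  .solveE 3495 1 87,
  .solveE 3475 0 87,
  .solveE 3472 3 86,
  .solveE 3461 2 86,
  .solveE 3450 1 86,
  .solveE 3429 0 381,
  .solveE 3439 0 86,
  .solveE 3426 3 380,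
  .solveE 3415 2 379,
  .solveE 3403 0 85,
  .solveE 1500 3 166,
  .solveE 3400 3 84,
  .solveE 3379 2 375,
  .solveE 3389 2 84,
  .solveE 1658 1 184,
  .solveE 3367 0 84,
  .solveE 3363 3 373,
  .solveE 3352 2 372,
  .solveE 3332 1 370,
  .solveE 3342 1 83,
  .solveE 2646 0 294,
  .solveE 3327 3 369,
  .solveE 3202 3 82,
  .solveE 2560 2 284,
  .solveE 3315 1 82,
  .solveE 1233 0 137,
  .solveE 3304 0 82,
  .solveE 1941 3 215,
  .solveE 3295 0 81,
  .solveE 3282 3 364,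
  .solveE 3292 3 80,
  .solveE 3272 2 80,
  .solveE 2027 1 225,
  .solveE 3259 0 80,
  .solveE 3253 2 361,
  .solveE 1577 1 175,
  .solveE 3240 0 360,
  .solveE 2112 3 234,
  .solveE 3235 2 359,
  .solveE 2327 2 78,
  .solveE 3224 1 358,
  .solveE 3213 0 357,
  .solveE 2535 3 281,
  .solveE 3208 2 356,
  .solveE 1221 3 135,
  .solveE 3193 3 76,
  .solveE 2083 2 231,
  .solveE 3182 2 76,
  .solveE 3171 1 76,
  .solveE 1068 3 118,
  .solveE 3166 3 75,
  .solveE 1075 2 119,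
  .solveE 3155 2 75,
  .solveE 3134 1 348,
  .solveE 3144 1 75,
  .solveE 1476 0 164,
  .solveE 3129 3 347,
  .solveE 3109 2 345,
  .solveE 3119 2 74,
  .solveE 3098 1 344,
  .solveE 2289 1 74,
  .solveE 3094 3 73,
  .solveE 3071 1 341,
  .solveE 3081 1 73,
  .solveE 3051 0 339,
  .solveE 3061 0 73,
  .solveE 3048 3 338,
  .solveE 1447 3 72,
  .solveE 3037 2 337,
  .solveE 2297 1 255,
  .solveE 3027 1 72,
  .solveE 2781 0 309,
  .solveE 3016 0 72,
  .solveE 3003 3 333,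
  .solveE 3013 3 71,
  .solveE 2983 2 331,
  .solveE 2993 2 71,
  .solveE 1929 1 71,
  .solveE 2754 0 306,
  .solveE 1302 3 144,
  .solveE 2977 3 70,
  .solveE 2963 1 329,
  .solveE 2952 0 328,
  .solveE 2521 0 70,
  .solveE 2949 3 327,
  .solveE 2938 2 326,
  .solveE 2926 0 69,
  .solveE 2138 2 68,
  .solveE 2918 1 324,
  .solveE 2550 1 68,
  .solveE 2907 0 323,
  .solveE 2458 0 68,
  .solveE 2905 3 67,
  .solveE 1319 2 67,
  .solveE 1244 1 138,
  .solveE 2631 1 67,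
  .solveE 1752 3 194,
  .solveE 2896 3 66,
  .solveE 2884 2 320,
  .solveE 2181 1 66,
  .solveE 1485 0 165,
  .solveE 2872 0 66,
  .solveE 2497 2 277,
  .solveE 2867 2 65,
  .solveE 2856 1 65,
  .solveE 2845 0 65,
  .solveE 1978 3 64,
  .solveE 2839 2 315,
  .solveE 1604 1 178,
  .solveE 2826 0 314,
  .solveE 1144 0 64,
  .solveE 2814 3 312,
  .solveE 2824 3 63,
  .solveE 2803 2 311,
  .solveE 1956 1 63,
  .solveE 2793 1 62,
  .solveE 2763 0 307,
  .solveE 2773 0 62,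
  .solveE 2750 2 61,
  .solveE 2729 1 303,
  .solveE 2739 1 61,
  .solveE 2565 0 285,
  .solveE 2719 0 61,
  .solveE 2715 3 301,
  .solveE 2695 2 299,
  .solveE 2705 2 60,
  .solveE 2685 1 60,
  .solveE 2673 0 297,
  .solveE 2666 1 296,
  .solveE 2661 3 295,
  .solveE 2640 1 58,
  .solveE 2626 3 57,
  .solveE 2615 2 57,
  .solveE 2594 1 288,
  .solveE 2604 1 57,
  .solveE 2583 0 287,
  .solveE 2579 2 56,
  .solveE 2538 0 282,
  .solveE 2504 1 278,
  .solveE 2514 1 55,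
  .solveE 2484 0 276,
  .solveE 2482 3 54,
  .solveE 2469 1 54,
  .solveE 2439 0 271,
  .solveE 2449 0 54,
  .solveE 2437 3 53,
  .solveE 2416 2 268,
  .solveE 2426 2 53,
  .solveE 2406 1 53,
  .solveE 2395 0 53,
  .solveE 2380 2 264,
  .solveE 2390 2 52,
  .solveE 2360 1 262,
  .solveE 2370 1 52,
  .solveE 2349 0 261,
  .solveE 2346 3 260,
  .solveE 2335 2 259,
  .solveE 2063 1 229,
  .solveE 2118 1 51,
  .solveE 2319 3 257,
  .solveE 2308 2 256,
  .solveE 2277 0 253,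
  .solveE 2275 3 49,
  .solveE 2264 2 49,
  .solveE 2253 1 49,
  .solveE 2248 3 48,
  .solveE 2174 2 48,
  .solveE 2234 1 248,
  .solveE 2224 0 48,
  .solveE 2220 3 246,
  .solveE 2209 2 245,
  .solveE 2189 1 243,
  .solveE 2199 1 47,
  .solveE 2165 2 46,
  .solveE 2144 1 238,
  .solveE 2154 1 46,
  .solveE 2129 2 45,
  .solveE 2099 1 233,
  .solveE 2075 2 44,
  .solveE 2054 1 228,
  .solveE 2043 0 227,
  .solveE 2041 3 43,
  .solveE 2009 1 223,
  .solveE 2019 1 43,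
  .solveE 1989 0 221,
  .solveE 1999 0 43,
  .solveE 1986 3 220,
  .solveE 1966 2 218,
  .solveE 1944 0 216,
  .solveE 1921 2 213,
  .solveE 1730 1 192,
  .solveE 1911 1 41,
  .solveE 1900 0 41,
  .solveE 1897 3 40,
  .solveE 1886 2 40,
  .solveE 1865 1 207,
  .solveE 1875 1 40,
  .solveE 1854 0 206,
  .solveE 1846 0 40,
  .solveE 1840 2 204,
  .solveE 1820 1 202,
  .solveE 1830 1 39,
  .solveE 1809 0 201,
  .solveE 1807 3 38,
  .solveE 1793 1 199,
  .solveE 1773 0 197,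
  .solveE 1783 0 38,
  .solveE 1761 3 195,
  .solveE 1771 3 37,
  .solveE 1741 2 193,
  .solveE 1720 0 37,
  .solveE 1717 3 36,
  .solveE 1696 2 188,
  .solveE 1706 2 36,
  .solveE 1686 1 36,
  .solveE 1674 0 186,
  .solveE 1672 3 35,
  .solveE 1640 1 182,
  .solveE 1650 1 35,
  .solveE 1620 0 180,
  .solveE 1630 0 35,
  .solveE 1617 3 179,
  .solveE 1597 2 177,
  .solveE 1587 1 34,
  .solveE 1572 3 174,
  .solveE 1561 2 173,
  .solveE 1541 1 171,
  .solveE 1551 1 33,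
  .solveE 1521 0 169,
  .solveE 1531 0 33,
  .solveE 1509 3 167,
  .solveE 1519 3 32,
  .solveE 1468 0 32,
  .solveE 1464 3 162,
  .solveE 1453 2 161,
  .solveE 1431 0 159,
  .solveE 1419 3 157,
  .solveE 1429 3 30,
  .solveE 1409 2 30,
  .solveE 1398 1 30,
  .solveE 1387 0 30,
  .solveE 1384 3 29,
  .solveE 1373 2 29,
  .solveE 1361 1 151,
  .solveE 1346 2 28,
  .solveE 1325 1 147,
  .solveE 1335 1 28,
  .solveE 1225 0 28,
  .solveE 1312 3 27,
  .solveE 1280 1 142,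
  .solveE 1290 1 27,
  .solveE 1260 0 140,
  .solveE 1270 0 27,
  .solveE 1258 3 26,
  .solveE 1197 0 133,
  .solveE 1207 0 26,
  .solveE 1195 3 25,
  .solveE 1174 2 130,
  .solveE 1184 2 25,
  .solveE 1164 1 25,
  .solveE 1153 0 25,
  .solveE 1131 3 125,
  .solveE 1141 3 24,
  .solveE 1120 2 124,
  .solveE 1109 1 123,
  .solveE 1095 3 121,
  .solveE 1105 3 23,
  .solveE 1083 1 23,
  .solveE 1059 3 117,
  .solveE 1046 1 116,
  .solveE 1042 3 21,
  .solveE 1028 1 114,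
  .solveE 1008 0 112,
  .solveE 1018 0 21,
  .solveE 996 3 110,
  .solveE 1006 3 20,
  .solveE 985 2 109,
  .solveE 974 1 108,
  .solveE 954 0 106,
  .solveE 964 0 20,
  .solveE 952 3 19,
  .solveE 931 2 103,
  .solveE 941 2 19,
  .solveE 921 1 19,
  .solveE 910 0 19,
  .solveE 907 3 18,
  .solveE 895 2 99,
  .solveE 884 1 98,
  .solveE 864 0 96,
  .solveE 874 0 18,
  .solveE 862 3 17,
  .solveE 841 2 93,
  .solveE 851 2 17,
  .solveE 821 1 91,
  .solveE 831 1 17,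
  .solveE 810 0 90,
  .solveE 439 3 16,
  .solveE 806 2 16,
  .solveE 792 0 88,
  .solveE 790 3 15,
  .solveE 779 2 15,
  .solveE 768 1 15,
  .solveE 757 0 15,
  .solveE 753 3 83,
  .solveE 394 3 14,
  .solveE 742 2 82,
  .solveE 732 1 14,
  .solveE 711 0 79,
  .solveE 721 0 14,
  .solveE 708 3 78,
  .solveE 463 2 51,
  .solveE 695 1 77,
  .solveE 675 0 75,
  .solveE 685 0 13,
  .solveE 672 3 74,
  .solveE 652 2 72,
  .solveE 662 2 12,
  .solveE 632 1 70,
  .solveE 642 1 12,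
  .solveE 622 0 12,
  .solveE 429 3 47,
  .solveE 619 3 11,
  .solveE 598 2 66,
  .solveE 608 2 11,
  .solveE 578 1 64,
  .solveE 588 1 11,
  .solveE 567 0 63,
  .solveE 565 3 10,
  .solveE 554 2 10,
  .solveE 533 1 59,
  .solveE 543 1 10,
  .solveE 513 0 57,
  .solveE 523 0 10,
  .solveE 510 3 56,
  .solveE 490 2 54,
  .solveE 500 2 9,
  .solveE 480 1 9,
  .solveE 468 0 52,
  .solveE 454 2 50,
  .solveE 444 1 8,
  .solveE 411 3 45,
  .solveE 421 3 7,
  .solveE 401 2 7,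
  .solveE 381 1 7,
  .solveE 370 0 7,
  .solveE 357 3 39,
  .solveE 367 3 6,
  .solveE 344 1 38,
  .solveE 324 0 36,
  .solveE 334 0 6,
  .solveE 312 3 34,
  .solveE 322 3 5,
  .solveE 301 2 33,
  .solveE 257 2 5,
  .solveE 281 1 31,
  .solveE 291 1 5,
  .solveE 271 0 5,
  .solveE 268 3 4,
  .solveE 238 2 26,
  .solveE 248 2 4,
  .solveE 218 1 24,
  .solveE 228 1 4,
  .solveE 207 0 23,
  .solveE 204 3 22,
  .solveE 184 2 20,
  .solveE 194 2 3,
  .solveE 164 1 18,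
  .solveE 174 1 3,
  .solveE 153 0 17,
  .solveE 151 3 2,
  .solveE 140 2 2,
  .solveE 119 1 13,
  .solveE 129 1 2,
  .solveE 99 0 11,
  .solveE 109 0 2,
  .solveE 87 3 9,
  .solveE 97 3 1,
  .solveE 76 2 8,
  .solveE 56 1 6,
  .solveE 66 1 1,
  .solveE 36 0 4,
  .solveE 46 0 1,
  .solveE 33 3 3,
  .solveE 876 92 0,
  .solveE 3629 1 403,
  .solveE 13 2 1,
  .solveE 23 2 0,
  .solveE 2523 122 2,
  .solveE 713 1 79,
  .seed 25 44,
  .solveE 64 393 22,
  .solveE 6 390 3,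
  .solveE 634 393 3,
  .solveE 149 387 0,
  .solveE 717 377 0,
  .solveE 556 374 0,
  .solveE 95 180 305,
  .solveE 279 366 0,
  .solveE 196 391 22,
  .solveE 285 287 0,
  .solveE 172 385 22,
  .solveE 905 349 3,
  .solveE 27 357 3,
  .solveE 2679 391 9,
  .solveE 142 341 0,
  .solveE 1660 360 15,
  .solveE 3092 200 12,
  .solveE 3073 39 73,
  .solveE 4343 2 341,
  .solveE 6583 38 340,
  .solveE 788 242 12,
  .solveE 2760 33 343,
  .solveE 666 229 12,
  .solveE 6589 390 347,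
  .solveE 3123 0 347,
  .solveE 3025 320 347,
  .solveE 664 221 337,
  .solveE 2943 172 69,
  .solveE 6472 0 327,
  .solveE 2975 285 15,
  .solveE 715 2 79,
  .solveE 617 137 13,
  .solveE 535 331 0,
  .solveE 266 378 9,
  .solveE 4720 244 4,
  .solveE 1310 2 524,
  .solveE 58 201 4,
  .solveE 2624 383 9,
  .solveE 121 315 0,
  .solveE 2179 390 47,
  .solveE 1746 258 11,
  .solveE 2116 191 68,
  .solveE 2140 128 13,
  .solveE 5333 44 68,
  .solveE 580 383 47,
  .solveE 5432 131 64,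
  .solveE 697 90 2,
  .solveE 3164 2 77,
  .solveE 2920 218 51,
  .solveE 2822 378 47,
  .solveE 1606 112 11,
  .solveE 1354 51 16,
  .solveE 4919 2 150,
  .solveE 5865 42 283,
  .solveE 702 260 237,
  .solveE 5140 181 68,
  .solveE 423 212 320,
  .solveE 4145 198 0,
  .solveE 166 220 20,
  .solveE 860 265 0,
  .solveE 283 363 3,
  .solveE 442 390 9,
  .solveE 504 306 62,
  .solveE 81 74 9,
  .solveE 2467 360 9,
  .solveE 1549 256 5,
  .solveE 1458 113 32,
  .solveE 5104 0 162,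
  .solveE 306 108 32,
  .solveE 3633 369 3,
  .solveE 853 3 403,
  .solveE 3631 240 3,
  .solveE 1103 362 4,
  .solveE 1822 266 29,
  .solveE 1715 301 210,
  .solveE 346 2 38,
  .solveE 5684 295 210,
  .solveE 220 252 29,
  .solveE 4587 223 5,
  .solveE 1348 3 509,
  .solveE 419 138 6,
  .solveE 5621 127 7,
  .solveE 1950 240 7,
  .solveE 403 3 216,
  .solveE 1948 121 41,
  .solveE 1732 369 7,
  .solveE 1030 218 20]

theorem steps3_ok : runSteps cert STEPS3 1500 = true := by decide +kernel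

end Cfsg.Agent.Lib.Helper16.G23M
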