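import Cfsg.Agent.Lib.Helper16.G23MHolo

/-!
# S2101: the holonomy certificate, steps 2000 to 2499 (helper16; generated)
-/

set_option autoImplicit false
set_option maxRecDepth 1000000

namespace Cfsg.Agent.Lib.Helper16.G23M

open Cfsg.Agent.Lib.Helper16.HoloG

def STEPS4 : List Step := [
  .solveE 976 207 20,
  .solveE 3992 2 108,
  .solveE 392 75 14,
  .solveE 747 380 373,
  .solveE 3313 0 83,
  .solveE 2029 393 373,
  .solveE 950 138 18,
  .solveE 3802 2 422,
  .seed 160 1,
  .solveE 624 393 347,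
  .solveE 114 390 74,
  .solveE 839 393 74,
  .solveE 2758 238 17,
  .solveE 3686 2 306,
  .solveE 475 250 0,
  .solveE 4167 323 5,
  .solveE 5068 0 463,
  .solveE 1635 66 5,
  .solveE 4591 85 15,
  .solveE 3393 0 377,
  .seed 59 2,
  .solveE 130 261 15,
  .solveE 1828 351 14,
  .solveE 730 346 14,
  .solveE 351 260 29,
  .solveE 2025 124 14,
  .solveE 769 70 81,
  .solveE 2066 2 85,
  .solveE 4901 214 5,
  .solveE 1336 2 148,
  .solveE 977 166 0,
  .solveE 3910 2 434,
  .solveE 2300 146 12,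
  .solveE 4360 2 484,
  .seed 563 3,
  .solveE 191 388 0,
  .solveE 2677 366 21,
  .solveE 1020 390 31,
  .solveE 193 288 62,
  .solveE 525 393 9,
  .solveE 1040 338 31,
  .solveE 2675 320 31,
  .seed 718 4,
  .solveE 564 393 62,
  .solveE 3251 393 10,
  .solveE 2775 171 15,
  .solveE 2004 325 79,
  .solveE 2770 3 222,
  .solveE 635 303 15,
  .solveE 2791 391 1,
  .solveE 4813 366 62,
  .solveE 562 377 144,
  .solveE 1296 391 10,
  .solveE 3255 366 79,
  .solveE 4798 359 79,
  .solveE 3249 0 361,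
  .seed 178 5,
  .solveE 687 389 78,
  .solveE 123 390 78,
  .solveE 929 393 78,
  .solveE 610 237 2,
  .solveE 927 391 47,
  .solveE 586 0 103,
  .solveE 933 385 47,
  .solveE 1980 144 7,
  .solveE 5878 0 220,
  .solveE 484 280 0,
  .solveE 1032 279 5,
  .solveE 1591 3 114,
  .solveE 1869 116 5,
  .solveE 6703 155 3,
  .solveE 3621 335 17,
  .solveE 2999 1 333,
  .solveE 3723 344 12,
  .seed 169 6,
  .solveE 2460 393 47,
  .solveE 618 390 11,
  .solveE 893 393 11,
  .solveE 5863 238 18,
  .solveE 3830 2 651,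
  .seed 136 7,
  .solveE 182 393 117,
  .solveE 3550 198 16,
  .solveE 5126 2 394,
  .solveE 138 158 3,
  .solveE 198 380 117,
  .solveE 3480 322 84,
  .solveE 4246 3 386,
  .solveE 4101 334 3,
  .solveE 5461 335 15,
  .solveE 3489 3 387,
  .solveE 2527 344 79,
  .seed 365 8,
  .solveE 1149 369 1,
  .solveE 336 350 1,
  .solveE 1147 360 6,
  .solveE 250 366 6,
  .solveE 226 360 27,
  .solveE 1145 233 1,
  .solveE 1764 309 0,
  .solveE 1765 264 196,
  .solveE 1816 249 1,
  .solveE 1770 325 196,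
  .solveE 1766 143 0,
  .solveE 1814 393 37,
  .solveE 1768 266 201,
  .solveE 1767 387 37,
  .solveE 1143 94 196,
  .seed 1146 9,
  .solveE 380 367 7,
  .solveE 1976 357 11,
  .solveE 378 363 11,
  .solveE 1954 118 217,
  .solveE 382 237 127,
  .seed 568 10,
  .solveE 2756 377 12,
  .solveE 570 357 63,
  .solveE 837 367 63,
  .solveE 2994 308 0,
  .solveE 1927 232 12,
  .solveE 2988 0 332,
  .solveE 2995 243 71,
  .seed 493 11,
  .solveE 384 376 42,
  .solveE 491 369 127,
  .solveE 571 222 63,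
  .seed 832 12,
  .solveE 1722 362 6,
  .solveE 830 336 17,
  .solveE 1769 390 37,
  .solveE 840 164 3,
  .solveE 1811 216 196,
  .solveE 4336 46 7,
  .solveE 1788 3 198,
  .solveE 4782 21 191,
  .solveE 1685 1 187,
  .solveE 1801 308 37,
  .solveE 3753 0 417,
  .seed 684 13,
  .solveE 1813 385 37,
  .solveE 3184 369 76,
  .solveE 838 366 201,
  .solveE 3191 391 37,
  .solveE 1818 377 196,
  .solveE 3169 62 352,
  .solveE 1824 285 354,
  .solveE 1812 86 2,
  .solveE 3242 249 201,
  .solveE 6498 4 722,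
  .solveE 5149 361 12,
  .seed 518 14,
  .solveE 2031 365 6,
  .solveE 520 283 10,
  .solveE 355 369 39,
  .seed 203 15,
  .solveE 3340 390 117,
  .solveE 1057 338 83,
  .solveE 751 290 15,
  .solveE 1053 391 373,
  .solveE 3200 366 14,
  .solveE 1055 359 14,
  .solveE 3306 1 117,
  .seed 199 16,
  .solveE 2273 378 117,
  .solveE 1048 362 49,
  .solveE 441 383 117,
  .solveE 1942 135 1,
  .solveE 2340 189 2,
  .solveE 816 292 14,
  .solveE 3209 383 74,
  .solveE 4566 182 13,
  .solveE 375 293 81,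
  .solveE 4564 292 81,
  .solveE 2333 212 259,
  .solveE 823 293 14,
  .solveE 3211 378 74,
  .solveE 767 101 16,
  .solveE 798 383 0,
  .solveE 2068 3 88,
  .solveE 147 378 0,
  .solveE 771 344 0,
  .solveE 3346 281 371,
  .solveE 2598 279 80,
  .solveE 6397 3 288,
  .seed 84 17,
  .solveE 808 385 0,
  .solveE 474 329 9,
  .solveE 146 391 0,
  .solveE 2229 323 9,
  .solveE 6100 3 247,
  .solveE 2515 217 1,
  .solveE 2966 2 279,
  .solveE 758 159 16,
  .solveE 1491 218 320,
  .solveE 3391 232 84,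
  .solveE 597 220 320,
  .solveE 3378 164 2,
  .solveE 2864 1 318,
  .seed 460 18,
  .solveE 437 392 3,
  .solveE 2061 377 2,
  .solveE 2392 389 88,
  .solveE 2067 390 88,
  .solveE 2368 320 88,
  .solveE 2065 354 16,
  .solveE 144 393 0,
  .solveE 3345 303 86,
  .solveE 766 391 62,
  .solveE 5515 366 15,
  .solveE 781 369 371,
  .solveE 3339 385 62,
  .solveE 1662 338 79,
  .solveE 2180 6 85,
  .solveE 4242 131 66,
  .solveE 2182 54 22,
  .solveE 3812 2 242,
  .seed 903 19,
  .solveE 1656 377 79,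
  .solveE 3341 137 83,
  .solveE 901 376 85,
  .solveE 200 344 22,
  .solveE 3433 366 22,
  .solveE 966 202 20,
  .solveE 777 348 3,
  .solveE 1004 366 3,
  .solveE 3431 359 3,
  .seed 1049 20,
  .solveE 3435 385 117,
  .solveE 202 288 116,
  .solveE 1051 391 117,
  .solveE 448 303 2,
  .solveE 78 388 1,
  .solveE 414 325 3,
  .solveE 73 262 0,
  .solveE 3789 84 3,
  .solveE 6280 322 273,
  .solveE 2463 3 273,
  .solveE 5473 325 68,
  .seed 424 21,
  .solveE 72 386 47,
  .solveE 2193 353 1,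
  .solveE 446 365 1,
  .solveE 2187 366 1,
  .solveE 502 376 9,
  .solveE 2191 369 9,
  .solveE 478 367 9,
  .solveE 79 109 242,
  .solveE 465 393 51,
  .solveE 456 366 8,
  .solveE 5729 27 8,
  .solveE 2578 2 286,
  .solveE 2329 22 0,
  .solveE 2192 186 252,
  .solveE 427 359 243,
  .seed 2296 22,
  .solveE 452 390 51,
  .solveE 459 121 255,
  .solveE 2298 365 8,
  .seed 75 23,
  .solveE 2176 389 7,
  .solveE 420 390 7,
  .solveE 434 391 2,
  .solveE 398 261 2,
  .solveE 2064 356 51,
  .solveE 2385 303 241,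
  .solveE 2077 393 88,
  .solveE 2391 390 229,
  .solveE 2062 387 51,
  .solveE 796 169 15,
  .solveE 2219 388 246,
  .seed 3405 24,
  .solveE 2407 362 371,
  .solveE 2221 369 85,
  .solveE 2409 393 246,
  .solveE 3344 369 16,
  .solveE 2405 390 85,
  .seed 975 25,
  .solveE 2403 376 88,
  .solveE 973 232 88,
  .solveE 794 377 85,
  .seed 2251 26,
  .solveE 3372 391 51,
  .solveE 4235 369 22,
  .solveE 3366 363 22,
  .solveE 2266 385 51,
  .solveE 3370 369 49,
  .solveE 6103 86 49,
  .solveE 4032 227 108,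
  .solveE 955 9 15,
  .solveE 396 355 20,
  .solveE 3449 29 15,
  .solveE 2046 257 86,
  .solveE 3291 141 86,
  .solveE 2050 3 365,
  .solveE 2371 46 250,
  .solveE 6098 2 263,
  .seed 2350 27,
  .solveE 3368 357 22,
  .solveE 2352 1 374,
  .solveE 1044 377 8,
  .seed 948 28,
  .solveE 450 378 13,
  .solveE 946 64 105,
  .solveE 704 383 13,
  .solveE 925 344 78,
  .solveE 699 284 102,
  .seed 2194 29,
  .solveE 3996 391 246,
  .solveE 2894 366 11,
  .solveE 4002 365 11,
  .solveE 2197 385 246,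
  .solveE 4000 364 47,
  .solveE 2874 286 55,
  .solveE 3998 1 444,
  .seed 2246 30,
  .solveE 1532 392 0,
  .solveE 2167 352 46,
  .solveE 1530 373 42,
  .solveE 2226 345 8,
  .solveE 1534 393 2,
  .solveE 2152 366 46,
  .solveE 1536 376 7,
  .seed 3369 31,
  .solveE 1507 362 15,
  .solveE 1489 369 84,
  .solveE 1505 240 374,
  .solveE 293 364 374,
  .solveE 3398 369 374,
  .solveE 1506 98 51,
  .solveE 3512 228 374,
  .solveE 4028 86 15,
  .solveE 3307 2 367,
  .solveE 3373 335 5,
  .solveE 1644 3 182,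
  .seed 309 32,
  .solveE 1503 363 66,
  .solveE 307 333 34,
  .solveE 1487 356 374,
  .solveE 1045 86 167,
  .solveE 1539 150 116,
  .seed 415 33,
  .solveE 5648 362 46,
  .solveE 2133 49 47,
  .solveE 2146 358 237,
  .seed 68 34,
  .solveE 2017 391 83,
  .solveE 405 260 44,
  .solveE 391 385 83,
  .solveE 1912 163 164,
  .solveE 1481 2 212,
  .seed 5007 35,
  .solveE 2351 367 374,
  .solveE 5090 232 374,
  .solveE 2364 364 52,
  .solveE 6202 226 335,
  .solveE 2353 234 52,
  .solveE 5542 239 52,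
  .solveE 2358 129 335,
  .solveE 4744 98 527,
  .solveE 2250 361 15,
  .solveE 6566 125 250,
  .solveE 4034 93 527,
  .solveE 6375 55 708,
  .solveE 4036 118 527,
  .solveE 5006 15 261,
  .solveE 6654 153 167,
  .solveE 3511 29 374,
  .solveE 6651 361 371,
  .solveE 4224 29 250,
  .solveE 6104 356 22,
  .seed 4035 36,
  .solveE 6142 357 108,
  .solveE 3976 369 108,
  .solveE 6140 237 20,
  .solveE 4055 357 20,
  .solveE 6144 369 20,
  .solveE 956 227 106,
  .solveE 2280 87 253,
  .solveE 2286 46 255,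
  .solveE 453 263 11,
  .solveE 5245 231 50,
  .solveE 2288 228 50,
  .solveE 2283 362 253,
  .solveE 2188 130 243,
  .solveE 6123 164 243,
  .solveE 2261 114 254,
  .seed 2190 37,
  .solveE 959 367 243,
  .solveE 6152 369 50,
  .solveE 3980 369 243,
  .solveE 2281 351 253,
  .solveE 3982 369 253,
  .solveE 2878 280 49,
  .solveE 2389 353 265,
  .solveE 2876 246 52,
  .solveE 3966 377 229,
  .seed 5943 38,
  .solveE 2279 367 106,
  .solveE 5941 367 253,
  .solveE 3978 157 660,
  .solveE 2772 19 678,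
  .solveE 4818 26 34,
  .solveE 2792 1 310,
  .solveE 5356 21 535,
  .seed 2287 39,
  .solveE 3093 385 347,
  .solveE 1445 369 254,
  .solveE 3089 374 73,
  .solveE 3121 377 74,
  .solveE 3087 391 347,
  .solveE 3018 363 254,
  .solveE 3091 341 73,
  .solveE 2396 25 53,
  .solveE 3963 356 253,
  .solveE 3933 23 50,
  .solveE 3097 361 253,
  .solveE 3935 263 2,
  .solveE 1659 356 66,
  .solveE 3102 98 374,
  .solveE 3448 391 85,
  .solveE 3096 361 50,
  .solveE 3463 385 85,
  .solveE 2649 19 739,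
  .solveE 2045 231 22,
  .solveE 2235 72 49,
  .solveE 2648 356 8,
  .solveE 2821 101 48,
  .solveE 3720 371 11,
  .solveE 2135 1 237,
  .solveE 2651 382 12,
  .solveE 6714 76 15,
  .solveE 4021 267 55,
  .solveE 3997 75 444,
  .solveE 6720 253 55,
  .solveE 855 17 9,
  .solveE 3470 377 371,
  .solveE 857 391 12,
  .solveE 859 225 18,
  .solveE 3441 393 85,
  .solveE 667 227 74,
  .solveE 817 325 17,
  .solveE 627 386 69,
  .solveE 3207 371 2,
  .solveE 2093 261 237,
  .solveE 2551 170 232,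
  .solveE 2090 217 19,
  .solveE 5510 186 385,
  .solveE 3825 317 18,
  .solveE 3079 0 425,
  .solveE 3837 303 385,
  .solveE 5189 217 371,
  .solveE 3838 2 426,
  .solveE 5509 25 52,
  .solveE 2367 256 229,
  .solveE 1056 17 117,
  .solveE 2225 134 20,
  .solveE 1488 356 34,
  .solveE 1550 102 117,
  .solveE 4240 86 33,
  .solveE 2137 364 242,
  .solveE 3814 369 242,
  .solveE 3718 365 237,
  .solveE 2178 361 47,
  .solveE 2148 363 46,
  .solveE 4451 369 46,
  .solveE 2142 350 46,
  .solveE 3440 17 294,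
  .solveE 2145 356 46,
  .solveE 3810 155 7,
  .solveE 1985 147 95,
  .solveE 2048 177 48,
  .solveE 1968 365 42,
  .solveE 5869 372 80,
  .solveE 1984 289 54,
  .solveE 3285 387 80,
  .solveE 1962 348 42,
  .solveE 5443 339 80,
  .solveE 3808 59 423,
  .solveE 2653 322 80,
  .solveE 3807 372 11,
  .solveE 6008 338 63,
  .solveE 3813 291 294,
  .solveE 3349 381 371,
  .solveE 3442 177 227,
  .solveE 5290 293 48,
  .solveE 1552 361 471,
  .solveE 5288 2 172,
  .solveE 4245 362 471,
  .solveE 4243 304 49,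
  .solveE 2185 364 310,
  .solveE 2796 387 310,
  .solveE 2183 366 242,
  .solveE 6696 250 242,
  .solveE 4771 0 744,
  .solveE 5167 243 471,
  .solveE 3820 366 313,
  .solveE 1982 369 423,
  .solveE 3465 67 83,
  .solveE 6717 98 444,
  .solveE 4801 362 242]

theorem steps4_ok : runSteps cert STEPS4 2000 = true := by decide +kernel

end Cfsg.Agent.Lib.Helper16.G23M
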