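import Cfsg.Agent.Lib.Helper16.G23MHoloS0
import Cfsg.Agent.Lib.Helper16.G23MHoloS1
import Cfsg.Agent.Lib.Helper16.G23MHoloS2
import Cfsg.Agent.Lib.Helper16.G23MHoloS3
import Cfsg.Agent.Lib.Helper16.G23MHoloS4
import Cfsg.Agent.Lib.Helper16.G23MHoloS5
import Cfsg.Agent.Lib.Helper16.G23MHoloS6
import Cfsg.Agent.Lib.Helper16.G23MHoloS7
import Cfsg.Agent.Lib.Helper16.G23MHoloS8
import Cfsg.Agent.Lib.Helper16.G23MHoloS9
import Cfsg.Agent.Lib.Helper16.G23MHoloS10
import Cfsg.Agent.Lib.Helper16.G23MHoloS11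
import Cfsg.Agent.Lib.Helper16.G23MHoloS12

/-!
# S2101: the holonomy certificate is accepted (helper16)
-/

set_option autoImplicit false
set_option maxRecDepth 1000000

namespace Cfsg.Agent.Lib.Helper16.G23M

open Cfsg.Agent.Lib.Helper16.HoloG

theorem runSteps_append_of (C : Cert) (s1 s2 : List Step) (k k2 : ℕ) (h1 : runSteps C s1 k = true)
    (hl : k + s1.length = k2) (h2 : runSteps C s2 k2 = true) : runSteps C (s1 ++ s2) k = true := by
  rw [runSteps_append, h1, hl, h2]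
  rfl

/-- all steps -/
def STEPS : List Step := STEPS0 ++ (STEPS1 ++ (STEPS2 ++ (STEPS3 ++ (STEPS4 ++ (STEPS5 ++ (STEPS6 ++ (STEPS7 ++ (STEPS8 ++ (STEPS9 ++ (STEPS10 ++ (STEPS11 ++ (STEPS12))))))))))))

theorem tail12 : runSteps cert STEPS12 6000 = true := steps12_ok

theorem tail11 : runSteps cert (STEPS11 ++ (STEPS12)) 5500 = true :=
  runSteps_append_of cert STEPS11 _ 5500 6000 steps11_ok (by rfl) tail12

theorem tail10 : runSteps cert (STEPS10 ++ (STEPS11 ++ (STEPS12))) 5000 = true :=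
  runSteps_append_of cert STEPS10 _ 5000 5500 steps10_ok (by rfl) tail11

theorem tail9 : runSteps cert (STEPS9 ++ (STEPS10 ++ (STEPS11 ++ (STEPS12)))) 4500 = true :=
  runSteps_append_of cert STEPS9 _ 4500 5000 steps9_ok (by rfl) tail10

theorem tail8 : runSteps cert (STEPS8 ++ (STEPS9 ++ (STEPS10 ++ (STEPS11 ++ (STEPS12))))) 4000 = true :=
  runSteps_append_of cert STEPS8 _ 4000 4500 steps8_ok (by rfl) tail9

theorem tail7 : runSteps cert (STEPS7 ++ (STEPS8 ++ (STEPS9 ++ (STEPS10 ++ (STEPS11 ++ (STEPS12)))))) 3500 = true :=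
  runSteps_append_of cert STEPS7 _ 3500 4000 steps7_ok (by rfl) tail8

theorem tail6 : runSteps cert (STEPS6 ++ (STEPS7 ++ (STEPS8 ++ (STEPS9 ++ (STEPS10 ++ (STEPS11 ++ (STEPS12))))))) 3000 = true :=
  runSteps_append_of cert STEPS6 _ 3000 3500 steps6_ok (by rfl) tail7

theorem tail5 : runSteps cert (STEPS5 ++ (STEPS6 ++ (STEPS7 ++ (STEPS8 ++ (STEPS9 ++ (STEPS10 ++ (STEPS11 ++ (STEPS12)))))))) 2500 = true :=
  runSteps_append_of cert STEPS5 _ 2500 3000 steps5_ok (by rfl) tail6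

theorem tail4 : runSteps cert (STEPS4 ++ (STEPS5 ++ (STEPS6 ++ (STEPS7 ++ (STEPS8 ++ (STEPS9 ++ (STEPS10 ++ (STEPS11 ++ (STEPS12))))))))) 2000 = true :=
  runSteps_append_of cert STEPS4 _ 2000 2500 steps4_ok (by rfl) tail5

theorem tail3 : runSteps cert (STEPS3 ++ (STEPS4 ++ (STEPS5 ++ (STEPS6 ++ (STEPS7 ++ (STEPS8 ++ (STEPS9 ++ (STEPS10 ++ (STEPS11 ++ (STEPS12)))))))))) 1500 = true :=
  runSteps_append_of cert STEPS3 _ 1500 2000 steps3_ok (by rfl) tail4

theorem tail2 : runSteps cert (STEPS2 ++ (STEPS3 ++ (STEPS4 ++ (STEPS5 ++ (STEPS6 ++ (STEPS7 ++ (STEPS8 ++ (STEPS9 ++ (STEPS10 ++ (STEPS11 ++ (STEPS12))))))))))) 1000 = true :=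
  runSteps_append_of cert STEPS2 _ 1000 1500 steps2_ok (by rfl) tail3

theorem tail1 : runSteps cert (STEPS1 ++ (STEPS2 ++ (STEPS3 ++ (STEPS4 ++ (STEPS5 ++ (STEPS6 ++ (STEPS7 ++ (STEPS8 ++ (STEPS9 ++ (STEPS10 ++ (STEPS11 ++ (STEPS12)))))))))))) 500 = true :=
  runSteps_append_of cert STEPS1 _ 500 1000 steps1_ok (by rfl) tail2

theorem tail0 : runSteps cert (STEPS0 ++ (STEPS1 ++ (STEPS2 ++ (STEPS3 ++ (STEPS4 ++ (STEPS5 ++ (STEPS6 ++ (STEPS7 ++ (STEPS8 ++ (STEPS9 ++ (STEPS10 ++ (STEPS11 ++ (STEPS12))))))))))))) 0 = true :=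
  runSteps_append_of cert STEPS0 _ 0 500 steps0_ok (by rfl) tail1

theorem steps_ok : runSteps cert STEPS 0 = true := tail0

theorem len_STEPS : STEPS.length = 6442 := by rfl

/-- the final part of the check -/
theorem rest_ok : (true && edgesDone cert 6442 &&
    match seedRels cert 6442 CHK with
    | none => false
    | some Rs => (YS.length == cert.seeds.length) && elimOK cert.M cert.N Rs 0 YS AS) = true := by
  decide +kernel

/-- the certificate is accepted -/
theorem check_ok : check cert STEPS CHK YS AS = true := by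
  have h : check cert STEPS CHK YS AS = (true && edgesDone cert 6442 &&
      match seedRels cert 6442 CHK with
      | none => false
      | some Rs => (YS.length == cert.seeds.length) && elimOK cert.M cert.N Rs 0 YS AS) := by
    unfold check
    rw [steps_ok, len_STEPS]
    rfl
  rw [h]
  exact rest_ok

end Cfsg.Agent.Lib.Helper16.G23M
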