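import Cfsg.Agent.Lib.Helper16.G23MHolo

/-!
# S2101: the holonomy certificate, steps 0 to 499 (helper16; generated)
-/

set_option autoImplicit false
set_option maxRecDepth 1000000

namespace Cfsg.Agent.Lib.Helper16.G23M

open Cfsg.Agent.Lib.Helper16.HoloG

def STEPS0 : List Step := [
  .base 8,
  .base 17,
  .base 26,
  .base 35,
  .base 44,
  .base 53,
  .base 62,
  .base 71,
  .base 80,
  .base 89,
  .base 98,
  .base 107,
  .base 116,
  .base 125,
  .base 134,
  .base 143,
  .base 152,
  .base 161,
  .base 170,
  .base 179,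
  .base 188,
  .base 197,
  .base 206,
  .base 215,
  .base 224,
  .base 233,
  .base 242,
  .base 251,
  .base 260,
  .base 269,
  .base 278,
  .base 287,
  .base 296,
  .base 305,
  .base 314,
  .base 323,
  .base 332,
  .base 341,
  .base 350,
  .base 359,
  .base 368,
  .base 377,
  .base 386,
  .base 395,
  .base 404,
  .base 413,
  .base 422,
  .base 431,
  .base 440,
  .base 449,
  .base 458,
  .base 467,
  .base 476,
  .base 485,
  .base 494,
  .base 503,
  .base 512,
  .base 521,
  .base 530,
  .base 539,
  .base 548,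
  .base 557,
  .base 566,
  .base 575,
  .base 584,
  .base 593,
  .base 602,
  .base 611,
  .base 620,
  .base 629,
  .base 638,
  .base 647,
  .base 656,
  .base 665,
  .base 674,
  .base 683,
  .base 692,
  .base 701,
  .base 710,
  .base 719,
  .base 728,
  .base 737,
  .base 746,
  .base 755,
  .base 764,
  .base 773,
  .base 782,
  .base 791,
  .base 800,
  .base 809,
  .base 818,
  .base 827,
  .base 836,
  .base 845,
  .base 854,
  .base 863,
  .base 872,
  .base 881,
  .base 890,
  .base 899,
  .base 908,
  .base 917,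
  .base 926,
  .base 935,
  .base 944,
  .base 953,
  .base 962,
  .base 971,
  .base 980,
  .base 989,
  .base 998,
  .base 1007,
  .base 1016,
  .base 1025,
  .base 1034,
  .base 1043,
  .base 1052,
  .base 1061,
  .base 1070,
  .base 1079,
  .base 1088,
  .base 1097,
  .base 1106,
  .base 1115,
  .base 1124,
  .base 1133,
  .base 1142,
  .base 1151,
  .base 1160,
  .base 1169,
  .base 1178,
  .base 1187,
  .base 1196,
  .base 1205,
  .base 1214,
  .base 1223,
  .base 1232,
  .base 1241,
  .base 1250,
  .base 1259,
  .base 1268,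
  .base 1277,
  .base 1286,
  .base 1295,
  .base 1304,
  .base 1313,
  .base 1322,
  .base 1331,
  .base 1340,
  .base 1349,
  .base 1358,
  .base 1367,
  .base 1376,
  .base 1385,
  .base 1394,
  .base 1403,
  .base 1412,
  .base 1421,
  .base 1430,
  .base 1439,
  .base 1448,
  .base 1457,
  .base 1466,
  .base 1475,
  .base 1484,
  .base 1493,
  .base 1502,
  .base 1511,
  .base 1520,
  .base 1529,
  .base 1538,
  .base 1547,
  .base 1556,
  .base 1565,
  .base 1574,
  .base 1583,
  .base 1592,
  .base 1601,
  .base 1610,
  .base 1619,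
  .base 1628,
  .base 1637,
  .base 1646,
  .base 1655,
  .base 1664,
  .base 1673,
  .base 1682,
  .base 1691,
  .base 1700,
  .base 1709,
  .base 1718,
  .base 1727,
  .base 1736,
  .base 1745,
  .base 1754,
  .base 1763,
  .base 1772,
  .base 1781,
  .base 1790,
  .base 1799,
  .base 1808,
  .base 1817,
  .base 1826,
  .base 1835,
  .base 1844,
  .base 1853,
  .base 1862,
  .base 1871,
  .base 1880,
  .base 1889,
  .base 1898,
  .base 1907,
  .base 1916,
  .base 1925,
  .base 1934,
  .base 1943,
  .base 1952,
  .base 1961,
  .base 1970,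
  .base 1979,
  .base 1988,
  .base 1997,
  .base 2006,
  .base 2015,
  .base 2024,
  .base 2033,
  .base 2042,
  .base 2051,
  .base 2060,
  .base 2069,
  .base 2078,
  .base 2087,
  .base 2096,
  .base 2105,
  .base 2114,
  .base 2123,
  .base 2132,
  .base 2141,
  .base 2150,
  .base 2159,
  .base 2168,
  .base 2177,
  .base 2186,
  .base 2195,
  .base 2204,
  .base 2213,
  .base 2222,
  .base 2231,
  .base 2240,
  .base 2249,
  .base 2258,
  .base 2267,
  .base 2276,
  .base 2285,
  .base 2294,
  .base 2303,
  .base 2312,
  .base 2321,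
  .base 2330,
  .base 2339,
  .base 2348,
  .base 2357,
  .base 2366,
  .base 2375,
  .base 2384,
  .base 2393,
  .base 2402,
  .base 2411,
  .base 2420,
  .base 2429,
  .base 2438,
  .base 2447,
  .base 2456,
  .base 2465,
  .base 2474,
  .base 2483,
  .base 2492,
  .base 2501,
  .base 2510,
  .base 2519,
  .base 2528,
  .base 2537,
  .base 2546,
  .base 2555,
  .base 2564,
  .base 2573,
  .base 2582,
  .base 2591,
  .base 2600,
  .base 2609,
  .base 2618,
  .base 2627,
  .base 2636,
  .base 2645,
  .base 2654,
  .base 2663,
  .base 2672,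
  .base 2681,
  .base 2690,
  .base 2699,
  .base 2708,
  .base 2717,
  .base 2726,
  .base 2735,
  .base 2744,
  .base 2753,
  .base 2762,
  .base 2771,
  .base 2780,
  .base 2789,
  .base 2798,
  .base 2807,
  .base 2816,
  .base 2825,
  .base 2834,
  .base 2843,
  .base 2852,
  .base 2861,
  .base 2870,
  .base 2879,
  .base 2888,
  .base 2897,
  .base 2906,
  .base 2915,
  .base 2924,
  .base 2933,
  .base 2942,
  .base 2951,
  .base 2960,
  .base 2969,
  .base 2978,
  .base 2987,
  .base 2996,
  .base 3005,
  .base 3014,
  .base 3023,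
  .base 3032,
  .base 3041,
  .base 3050,
  .base 3059,
  .base 3068,
  .base 3077,
  .base 3086,
  .base 3095,
  .base 3104,
  .base 3113,
  .base 3122,
  .base 3131,
  .base 3140,
  .base 3149,
  .base 3158,
  .base 3167,
  .base 3176,
  .base 3185,
  .base 3194,
  .base 3203,
  .base 3212,
  .base 3221,
  .base 3230,
  .base 3239,
  .base 3248,
  .base 3257,
  .base 3266,
  .base 3275,
  .base 3284,
  .base 3293,
  .base 3302,
  .base 3311,
  .base 3320,
  .base 3329,
  .base 3338,
  .base 3347,
  .base 3356,
  .base 3365,
  .base 3374,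
  .base 3383,
  .base 3392,
  .base 3401,
  .base 3410,
  .base 3419,
  .base 3428,
  .base 3437,
  .base 3446,
  .base 3455,
  .base 3464,
  .base 3473,
  .base 3482,
  .base 3491,
  .base 3500,
  .base 3509,
  .base 3518,
  .base 3527,
  .base 3536,
  .base 3545,
  .base 0,
  .base 1,
  .base 2,
  .base 3,
  .base 4,
  .base 5,
  .base 7,
  .base 9,
  .base 10,
  .base 11,
  .base 12,
  .base 14,
  .base 15,
  .base 16,
  .base 18,
  .base 19,
  .base 20,
  .base 21,
  .base 22,
  .base 24,
  .base 28,
  .base 29,
  .base 30,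
  .base 31,
  .base 32,
  .base 34,
  .base 37,
  .base 38,
  .base 39,
  .base 40,
  .base 41,
  .base 42,
  .base 45,
  .base 47,
  .base 48,
  .base 49,
  .base 50,
  .base 51,
  .base 52,
  .base 54,
  .base 55,
  .base 57,
  .base 60,
  .base 61,
  .base 63,
  .base 65,
  .base 67,
  .base 69,
  .base 70,
  .base 74,
  .base 77,
  .base 82,
  .base 83,
  .base 85,
  .base 86,
  .base 88,
  .base 90,
  .base 91,
  .base 92,
  .base 93,
  .base 94,
  .base 96,
  .base 100,
  .base 101,
  .base 102,
  .base 103,
  .base 104,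
  .base 105,
  .base 106,
  .base 108,
  .base 110,
  .base 111,
  .base 112,
  .base 113,
  .base 115,
  .base 117,
  .base 118,
  .base 120,
  .base 122,
  .base 124,
  .base 126,
  .base 127,
  .base 128,
  .base 131,
  .base 132,
  .base 133,
  .base 135,
  .base 137,
  .base 139,
  .base 141,
  .base 145,
  .base 148,
  .base 150,
  .base 154,
  .base 155,
  .base 156,
  .base 157,
  .base 158,
  .base 159,
  .base 162,
  .base 163,
  .base 165,
  .base 167,
  .base 168,
  .base 171,
  .base 173]

theorem steps0_ok : runSteps cert STEPS0 0 = true := by decide +kernel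

end Cfsg.Agent.Lib.Helper16.G23M
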