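import Cfsg.Agent.Lib.Helper16.G23MU
import Cfsg.Agent.Lib.Helper16.G23ME
import Cfsg.Agent.Lib.Helper17.G23MB
import Cfsg.Agent.Lib.Helper9.G23MM
import Cfsg.Agent.Lib.Helper23.L34T
import Cfsg.Agent.Lib.Helper17.O73MultUT
import Cfsg.Agent.Lib.Helper8.ChevFld1

/-!
# S2101: the Schur multiplier of `G₂(3)` is cyclic of order `3` (helper16, architect)

Method (the pattern of helper5's S2093 for the lower levels, helper18's S2046 for the top level):
`G₂(3) = ⟨x, x', y, y'⟩`, all of order `13`.  `13` does not divide the order of the kernel `Z` of a finite stem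
extension (cyclic Sylow subgroup), so these elements have canonical lifts and every relation `u xᵢ u⁻¹ = xⱼ^k`
lifts exactly.  `L = ⟨x, x'⟩ ≅ SL₃(3)` is presented by such relators (`relsL`, coset enumeration with `432`
cosets over `⟨x⟩`), so it lifts isomorphically.  The coset enumeration of the cover over the lift of `L` does
not close in reasonable size; instead the *holonomy* of the coset table of `L` in `G₂(3)` (756 cosets) is
computed from 394 exact relators by a linear-algebra certificate modulo `18`: all transition values are powers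
of one element `s` with `s ^ 3 = 1`, hence `|Z / Z^18| ∣ 3` and then `|Z| ≤ 3`.
Existence: helper1's presented cover of the presentation `relsG` (two coset enumerations) with the exponents
`expG`, and a model on `2268` points.

Pieces: [HG] check_sound helper11, [W1] holonomy helper17, [AR] helper11, [CU] helper17, [EX] + [P] helper21,
[B] bridge helper17 (on helper27's `G23Main`), [M] model helper9; checkers of helper5 (TCk2), helper18
(holonomy checker), helper28 (permutation tables); data, certificates and assembly helper16.
-/

set_option autoImplicit false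

namespace Cfsg.Agent.Lib.Helper16.G23M

open Cfsg Cfsg.Lie Cfsg.Agent.Lib.Helper8.Chev

/-- base change of the Chevalley group of type `G₂` along an isomorphism of fields (as in helper6's
`G24Main`, restated here to keep the import closure small) -/
theorem nonempty_g2_equiv {F F' : Type*} [Field F] [Field F'] (e : F ≃+* F') :
    Nonempty (↥(chevG2.group F) ≃* ↥(chevG2.group F')) := by
  let f : ↥(chevG2.group F) →* ↥(chevG2.group F') :=
    ((bc chevG2 e.toRingHom).comp (chevG2.group F).subtype).codRestrict
      (chevG2.group F') fun g => bc_mem_group e.toRingHom g.2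
  let f' : ↥(chevG2.group F') →* ↥(chevG2.group F) :=
    ((bc chevG2 e.symm.toRingHom).comp (chevG2.group F').subtype).codRestrict
      (chevG2.group F) fun g => bc_mem_group e.symm.toRingHom g.2
  refine ⟨MulEquiv.ofBijective f ⟨?_, ?_⟩⟩
  · intro g g' h
    apply Subtype.ext
    apply bc_injective (D := chevG2) e.toRingHom
    exact congrArg Subtype.val h
  · intro g
    refine ⟨f' g, ?_⟩
    apply Subtype.ext
    apply Units.ext
    show ((((g : GL chevG2.Idx F') : Matrix chevG2.Idx chevG2.Idx F').map e.symm.toRingHom).map
      e.toRingHom) = ((g : GL chevG2.Idx F') : Matrix chevG2.Idx chevG2.Idx F')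
    ext i j
    simp

/-- the multiplier of `G₂(3)` over `ZMod 3` -/
theorem main3 : Cfsg.HasCyclicSchurMultiplier ↥(chevG2.group (ZMod 3)) 3 := by
  obtain ⟨g, hg⟩ := exists_tuple
  haveI : Finite ↥(chevG2.group (ZMod 3)) :=
    Nat.finite_of_card_ne_zero (by rw [hg.1]; norm_num)
  refine Cfsg.Agent.Lib.Helper7.L34.hasSchurMultiplier_of_card_le
    (exists_cover_of_model g hg exists_model) ?_
  intro Γ _ _ σ hσ
  have h3 : Nat.card (Multiplicative (ZMod 3)) = 3 := by
    rw [Nat.card_eq_fintype_card, Fintype.card_multiplicative, ZMod.card]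
  rw [h3]
  exact card_ker_le_three g hg Γ σ hσ

/-- **S2101** -/
theorem main {F : Type*} [Field F] [Fintype F] (hF : Fintype.card F = 3) :
    Cfsg.HasCyclicSchurMultiplier ↥(chevG2.group F) 3 := by
  have eF : F ≃+* ZMod 3 := FiniteField.ringEquivOfCardEq (by rw [hF, ZMod.card])
  obtain ⟨e0⟩ := nonempty_g2_equiv eF
  obtain ⟨g, hg⟩ := exists_tuple
  haveI : Finite ↥(chevG2.group (ZMod 3)) :=
    Nat.finite_of_card_ne_zero (by rw [hg.1]; norm_num)
  exact Cfsg.Agent.Lib.Helper2.O73Mult.hasSchurMultiplier_of_mulEquiv e0 main3

end Cfsg.Agent.Lib.Helper16.G23M
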