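import Cfsg.Agent.Lib.Helper16.G23MTCL
import Cfsg.Agent.Lib.Helper16.G23MTCG
import Cfsg.Agent.H5.StemTC
import Cfsg.Agent.Lib.Helper1.Sp62L

/-!
# S2101: the two coset enumerations (helper16)

`card_le_of_relsL`: two elements satisfying `relsL` generate a group of order at most `432 · 13 = 5616`;
`card_le_of_relsG`: four generators satisfying `relsG` generate a group of order at most
`756 · 5616 = 4245696`.
-/

set_option autoImplicit false

namespace Cfsg.Agent.Lib.Helper16.G23M

open Cfsg.H5.TCk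

theorem gl_congr_lt {Γ : Type*} [Group Γ] (g g' : ℕ → Γ) (t : ℕ) (h : ∀ i < t, g i = g' i) (l : ℕ)
    (hl : l < 2 * t) : gl g l = gl g' l := by
  unfold gl
  have h2 : l / 2 < t := by omega
  rw [h _ h2]

theorem ev_congr_lt {Γ : Type*} [Group Γ] (g g' : ℕ → Γ) (t : ℕ) (h : ∀ i < t, g i = g' i)
    (w : List ℕ) (hw : ∀ l ∈ w, l < 2 * t) : ev g w = ev g' w := by
  induction w with
  | nil => rfl
  | cons l w ih =>
    simp only [ev]
    rw [gl_congr_lt g g' t h l (hw l List.mem_cons_self),
      ih (fun x hx => hw x (List.mem_cons_of_mem _ hx))]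

theorem lt_of_all {m : ℕ} {B : List (List ℕ)}
    (h : (B.all fun b => b.all fun l => decide (l < m)) = true) : ∀ b ∈ B, ∀ l ∈ b, l < m := by
  intro b hb l hl
  rw [List.all_eq_true] at h
  have h1 := h b hb
  rw [List.all_eq_true] at h1
  exact of_decide_eq_true (h1 l hl)

set_option maxRecDepth 100000 in
theorem lettersL_ok : (relsL.all fun b => b.all fun l => decide (l < 2 * 2)) = true := by
  decide +kernel

set_option maxRecDepth 100000 in
theorem lettersG_ok : (relsG.all fun b => b.all fun l => decide (l < 2 * 4)) = true := by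
  decide +kernel

set_option maxRecDepth 100000 in
theorem relsL_sub_ok : (relsL.all fun r => decide (r ∈ relsG)) = true := by decide +kernel

theorem relsL_sub : ∀ r ∈ relsL, r ∈ relsG := by
  intro r hr
  have h := relsL_sub_ok
  rw [List.all_eq_true] at h
  exact of_decide_eq_true (h r hr)

theorem pow13_of_rel {Γ : Type*} [Group Γ] (γ : ℕ → Γ) (i : ℕ)
    (h : ev γ (List.replicate 13 (2 * i)) = 1) : γ i ^ 13 = 1 := by
  rw [Cfsg.Agent.Lib.Helper5.Sp62.Helper1.ev_replicate,
    Cfsg.Agent.Lib.Helper5.Sp62.Helper1.gl_even] at h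
  exact h

/-- [TL] two elements satisfying `relsL` generate a group of order at most `5616` -/
theorem card_le_of_relsL {Λ : Type*} [Group Λ] (a : ℕ → Λ) (h : ∀ r ∈ relsL, ev a r = 1) :
    Finite ↥(Subgroup.closure (Set.range fun i : Fin 2 => a i.val)) ∧
      Nat.card ↥(Subgroup.closure (Set.range fun i : Fin 2 => a i.val)) ≤ 5616 := by
  classical
  set M : Subgroup Λ := Subgroup.closure (Set.range fun i : Fin 2 => a i.val) with hM
  have hmem : ∀ i, i < 2 → a i ∈ M := fun i hi => Subgroup.subset_closure ⟨⟨i, hi⟩, rfl⟩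
  let a' : ℕ → M := fun i => if h : a i ∈ M then ⟨a i, h⟩ else 1
  have ha' : ∀ i, i < 2 → (a' i : Λ) = a i := by
    intro i hi
    show ((if h : a i ∈ M then (⟨a i, h⟩ : M) else 1 : M) : Λ) = a i
    rw [dif_pos (hmem i hi)]
  have hcoe : ∀ w : List ℕ, (∀ l ∈ w, l < 2 * 2) → ((ev a' w : M) : Λ) = ev a w := by
    intro w hw
    have h1 : ((ev a' w : M) : Λ) = M.subtype (ev a' w) := rfl
    rw [h1, Cfsg.H5.StemTC.map_ev]
    exact ev_congr_lt _ _ 2 (fun i hi => ha' i hi) w hw
  have hrel' : ∀ r ∈ relsL, ev a' r = 1 := by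
    intro r hr
    apply Subtype.ext
    rw [hcoe r (lt_of_all lettersL_ok r hr)]
    exact h r hr
  have hgenM : Subgroup.closure (Set.range fun i : Fin 2 => a' i.val) = ⊤ := by
    rw [eq_top_iff, ← Subgroup.closure_closure_coe_preimage (k := Set.range fun i : Fin 2 => a i.val)]
    apply Subgroup.closure_mono
    rintro x ⟨i, hi⟩
    exact ⟨i, Subtype.ext (by rw [ha' i.val i.isLt]; exact hi)⟩
  have h13 : (a' 0) ^ 13 = 1 :=
    pow13_of_rel a' 0 (hrel' _ (by unfold relsL; simp))
  have hord : orderOf (a' 0) ≤ 13 := orderOf_le_of_pow_eq_one (by norm_num) h13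
  have hordpos : 0 < orderOf (a' 0) :=
    orderOf_pos_iff.mpr (isOfFinOrder_iff_pow_eq_one.mpr ⟨13, by norm_num, h13⟩)
  haveI : Finite (Subgroup.zpowers (a' 0)) := by
    apply Nat.finite_of_card_ne_zero
    rw [Nat.card_zpowers]
    exact hordpos.ne'
  obtain ⟨hfin, hcard⟩ := Cfsg.H5.TCk2.tc_bound (Subgroup.zpowers (a' 0)) a' tcDefsL relsL [[0]]
    12 8 2 3669 432 tcLogL hrel'
    (by
      intro s hs
      simp only [List.mem_singleton] at hs
      subst hs
      have : ev a' [0] = a' 0 := by simp [ev, gl]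
      rw [this]
      exact Subgroup.mem_zpowers _) hgenM tcL_ok
  refine ⟨hfin, le_trans hcard ?_⟩
  rw [Nat.card_zpowers]
  omega

/-- [TG] four generators satisfying `relsG` generate a group of order at most `|G₂(3)|` -/
theorem card_le_of_relsG {P : Type*} [Group P] (p : ℕ → P)
    (hgen : Subgroup.closure (Set.range fun i : Fin 4 => p i.val) = ⊤)
    (hrel : ∀ r ∈ relsG, ev p r = 1) : Finite P ∧ Nat.card P ≤ 4245696 := by
  classical
  obtain ⟨hfinM, hcardM⟩ := card_le_of_relsL p (fun r hr => hrel r (relsL_sub r hr))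
  set M : Subgroup P := Subgroup.closure (Set.range fun i : Fin 2 => p i.val) with hM
  have hmem : ∀ i, i < 2 → p i ∈ M := fun i hi => Subgroup.subset_closure ⟨⟨i, hi⟩, rfl⟩
  haveI := hfinM
  obtain ⟨hfin, hcard⟩ := Cfsg.H5.TCk2.tc_bound M p tcDefsG relsG [[0], [2]]
    10 8 4 767 756 tcLogG hrel
    (by
      intro s hs
      simp only [List.mem_cons, List.not_mem_nil, or_false] at hs
      rcases hs with rfl | rfl
      · have : ev p [0] = p 0 := by simp [ev, gl]
        rw [this]; exact hmem 0 (by norm_num)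
      · have : ev p [2] = p 1 := by simp [ev, gl]
        rw [this]; exact hmem 1 (by norm_num)) hgen tcG_ok
  refine ⟨hfin, le_trans hcard ?_⟩
  show 756 * Nat.card M ≤ 4245696
  omega

end Cfsg.Agent.Lib.Helper16.G23M
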