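import Cfsg.Agent.Lib.Helper16.G23MHoloChk
import Cfsg.Agent.Lib.Helper16.G23MTC
import Cfsg.Agent.Lib.Helper17.G23MCU
import Cfsg.Agent.Lib.Helper11.G23MAR

/-!
# S2101: the kernel of a finite stem extension of `G₂(3)` has order at most `3` (helper16)

Assembly of the upper bound: the reduction [AR] (helper11) to kernels of exponent dividing `18`, the holonomy
argument [CU] (helper17; `holonomy` of helper17 and `check_sound` of helper11), the coset enumeration of
`SL₃(3)` and the certificate `check_ok`.
-/

set_option autoImplicit false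
set_option maxRecDepth 1000000

namespace Cfsg.Agent.Lib.Helper16.G23M

open Cfsg Cfsg.H5.TCk Cfsg.Agent.Lib.Helper16.HoloG
open Cfsg.Agent.Lib.Helper5.Sp62 (cr crOf)
open Cfsg.Agent.Lib.Helper18.HSMult (trivRel)

/-! ### side conditions on the data -/

theorem nxt_ok :
    ((List.range 756).all fun c => (List.range 8).all fun l => decide (nxtF c l < 756)) = true := by
  decide +kernel

theorem hnxt : ∀ c < cert.n, ∀ l < 2 * 4, cert.nxt c l < cert.n := by
  intro c hc l hl
  have h := nxt_ok
  rw [List.all_eq_true] at h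
  have h1 := h c (List.mem_range.mpr hc)
  rw [List.all_eq_true] at h1
  exact of_decide_eq_true (h1 l (List.mem_range.mpr hl))

theorem lettersU_ok : (relsU.all fun b => b.all fun l => decide (l < 2 * 4)) = true := by
  decide +kernel

theorem len_relsU : relsU.length = 394 := by decide +kernel

theorem relF_mem {j : ℕ} (hj : j < 394) : relF j ∈ relsU := by
  unfold relF
  have hj' : j < relsU.length := by rw [len_relsU]; exact hj
  rw [List.getD_eq_getElem _ _ hj']
  exact List.getElem_mem hj'

theorem hlet : ∀ j < cert.nr, ∀ l ∈ cert.rel j, l < 2 * 4 := by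
  intro j hj l hl
  exact lt_of_all lettersU_ok _ (relF_mem hj) l hl

theorem conjU_ok : (conjU.all fun q => decide (q.2.1 < 4) && decide (q.2.2.1 < 8)) = true := by
  decide +kernel

theorem conjL_ok : (conjL.all fun q => decide (q.2.1 < 4) && decide (q.2.2.1 < 8)) = true := by
  decide +kernel

theorem relForm_of_conj (conj : List (List ℕ × ℕ × ℕ × ℕ))
    (h : (conj.all fun q => decide (q.2.1 < 4) && decide (q.2.2.1 < 8)) = true) :
    ∀ r ∈ conj.map crOf, RelForm r := by
  intro r hr
  rw [List.mem_map] at hr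
  obtain ⟨q, hq, rfl⟩ := hr
  rw [List.all_eq_true] at h
  have h1 := h q hq
  rw [Bool.and_eq_true, decide_eq_true_eq, decide_eq_true_eq] at h1
  exact Or.inr (Or.inr ⟨q.1, q.2.1, q.2.2.1, q.2.2.2, h1.1, h1.2, rfl⟩)

theorem relForm_relsU : ∀ r ∈ relsU, RelForm r := by
  intro r hr
  unfold relsU at hr
  rw [List.mem_append] at hr
  rcases hr with hr | hr
  · simp only [List.mem_cons, List.not_mem_nil, or_false] at hr
    rcases hr with rfl | rfl | rfl | rfl | rfl | rfl
    · exact Or.inl (by decide)
    · exact Or.inl (by decide)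
    · exact Or.inl (by decide)
    · exact Or.inl (by decide)
    · exact Or.inr (Or.inl ⟨0, by norm_num, rfl⟩)
    · exact Or.inr (Or.inl ⟨3, by norm_num, rfl⟩)
  · exact relForm_of_conj conjU conjU_ok r hr

theorem relForm_relsL : ∀ r ∈ relsL, RelForm r := by
  intro r hr
  unfold relsL at hr
  rw [List.mem_append] at hr
  rcases hr with hr | hr
  · simp only [List.mem_cons, List.not_mem_nil, or_false] at hr
    rcases hr with rfl | rfl
    · exact Or.inr (Or.inl ⟨0, by norm_num, rfl⟩)
    · exact Or.inr (Or.inl ⟨1, by norm_num, rfl⟩)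
  · exact relForm_of_conj conjL conjL_ok r hr

theorem hform : ∀ j < cert.nr, RelForm (cert.rel j) := fun _ hj => relForm_relsU _ (relF_mem hj)

theorem wrdF_zero : wrdF 0 = [] := by decide +kernel

theorem base_ok : ((List.range 6804).all fun v => !isBaseF v || baseOK cert wrdF v) = true := by
  decide +kernel

theorem BASE_lt : BASE < 2 ^ 6804 := by decide +kernel

theorem hbase : ∀ v, cert.isBase v = true → baseOK cert wrdF v = true := by
  intro v hv
  have hv' : BASE.testBit v = true := hv
  have hlt : v < 6804 := by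
    by_contra hcon
    push Not at hcon
    have h1 : BASE < 2 ^ v := lt_of_lt_of_le BASE_lt (Nat.pow_le_pow_right (by norm_num) hcon)
    rw [Nat.testBit_lt_two_pow h1] at hv'
    exact Bool.false_ne_true hv'
  have h := base_ok
  rw [List.all_eq_true] at h
  have h1 := h v (List.mem_range.mpr hlt)
  rw [Bool.or_eq_true, Bool.not_eq_true'] at h1
  rcases h1 with h1 | h1
  · have : isBaseF v = true := hv
    rw [h1] at this
    exact absurd this Bool.false_ne_true
  · exact h1

theorem unpW_all (k x : ℕ) : (unpW k x).all (fun l => decide (l < 2 * 2)) = true := by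
  induction k generalizing x with
  | zero => rfl
  | succ k ih =>
    simp only [unpW, List.all_cons, ih, Bool.and_true, decide_eq_true_eq]
    omega

/-! ### the upper bound -/

theorem pow13_of_tuple {G : Type*} [Group G] (g : ℕ → G) (hg : IsG23Tuple g) :
    ∀ i < 4, g i ^ 13 = 1 := by
  intro i hi
  apply pow13_of_rel g i
  apply hg.2.2.2.2.1
  unfold relsG
  interval_cases i <;> simp

theorem hmemU_of_tuple {G : Type*} [Group G] (g : ℕ → G) (hg : IsG23Tuple g) :
    ∀ c < cert.n, ∀ l < 2 * 4,
      (ev g (wrdF (cert.nxt c l)))⁻¹ * gl g l * ev g (wrdF c) ∈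
        Subgroup.closure (Set.range fun i : Fin 2 => g i.val) := by
  intro c hc l hl
  have h := hg.2.2.2.2.2 c hc l hl
  have h2 : (ev g (wrdF (cert.nxt c l)))⁻¹ * gl g l * ev g (wrdF c) = ev g (swF c l) := by
    show (ev g (wrdF (nxtF c l)))⁻¹ * gl g l * ev g (wrdF c) = ev g (swF c l)
    rw [mul_assoc, h]
    group
  rw [h2]
  exact Cfsg.H5.StemTC.ev_mem g (Subgroup.closure (Set.range fun i : Fin 2 => g i.val)) 2
    (fun i hi => Subgroup.subset_closure ⟨⟨i, hi⟩, rfl⟩) _ (unpW_all _ _)

/-- **the upper bound**: the kernel of a finite stem extension of a group with a `G₂(3)`-tuple has at most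
three elements -/
theorem card_ker_le_three {G : Type} [Group G] (g : ℕ → G) (hg : IsG23Tuple g)
    (Γ : Type) [Group Γ] [Finite Γ] (σ : Γ →* G) (hσ : IsStemExtension σ) :
    Nat.card σ.ker ≤ 3 := by
  apply card_ker_le_three_of_pow18 σ hσ hg.1
  intro Δ _ _ τ hτ h18
  exact card_ker_dvd_three_of_check τ hτ h18 g hg.2.1 (pow13_of_tuple g hg) relsL relForm_relsL
    hg.2.2.1 (fun Λ _ a h => card_le_of_relsL a h) cert rfl rfl rfl wrdF wrdF_zero (by decide)
    hnxt (hmemU_of_tuple g hg) (fun j hj => hg.2.2.2.1 _ (relF_mem hj)) hlet hform hbase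
    STEPS CHK YS AS check_ok (by rw [hg.1]; rfl)

end Cfsg.Agent.Lib.Helper16.G23M
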