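import Mathlib
import Cfsg.Agent.Lib.Helper3.CardSL

/-! Sections of `GL(5,2)`: no element of order nine; `PSL(2,8)` has one. -/

set_option autoImplicit false

namespace Cfsg.Agent.Lib.Helper16.GL52

open Matrix Subgroup

theorem card_GL52 : Nat.card (GL (Fin 5) (ZMod 2)) = 9999360 := by
  rw [Matrix.card_GL_field, ZMod.card, Fin.prod_univ_five]
  norm_num

theorem two_pow_dvd {k : ℕ} (h : 2 ^ k ∣ 9999360) : k ≤ 10 := by
  by_contra hk
  push Not at hk
  have h1 : 2 ^ 11 ∣ 9999360 := (pow_dvd_pow 2 hk).trans h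
  norm_num at h1

def mA : Matrix (Fin 5) (Fin 5) (ZMod 2) :=
  !![0,1,0,0,0; 1,1,0,0,0; 0,0,1,0,0; 0,0,0,1,0; 0,0,0,0,1]

def mB : Matrix (Fin 5) (Fin 5) (ZMod 2) :=
  !![1,0,0,0,0; 0,1,0,0,0; 0,0,0,1,0; 0,0,1,1,0; 0,0,0,0,1]

theorem mA_cube : mA * mA * mA = 1 := by decide
theorem mB_cube : mB * mB * mB = 1 := by decide
theorem mA_mB : mA * mB = mB * mA := by decide

def gA : GL (Fin 5) (ZMod 2) := ⟨mA, mA * mA, mA_cube ▸ (Matrix.mul_assoc mA mA mA).symm, mA_cube⟩
def gB : GL (Fin 5) (ZMod 2) := ⟨mB, mB * mB, mB_cube ▸ (Matrix.mul_assoc mB mB mB).symm, mB_cube⟩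

theorem gA_pow : gA ^ 3 = 1 := by
  apply Units.ext
  rw [Units.val_pow_eq_pow_val, pow_three']
  exact mA_cube

theorem gB_pow : gB ^ 3 = 1 := by
  apply Units.ext
  rw [Units.val_pow_eq_pow_val, pow_three']
  exact mB_cube

theorem gA_ne : gA ≠ 1 := by
  intro h
  have := congrArg (fun x : GL (Fin 5) (ZMod 2) => (x : Matrix (Fin 5) (Fin 5) (ZMod 2)) 0 0) h
  revert this
  decide

theorem gB_ne : gB ≠ 1 := by
  intro h
  have := congrArg (fun x : GL (Fin 5) (ZMod 2) => (x : Matrix (Fin 5) (Fin 5) (ZMod 2)) 2 2) h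
  revert this
  decide

theorem gB_ne_gA : gB ≠ gA := by
  intro h
  have := congrArg (fun x : GL (Fin 5) (ZMod 2) => (x : Matrix (Fin 5) (Fin 5) (ZMod 2)) 2 2) h
  revert this
  decide

theorem gB_ne_gA2 : gB ≠ gA ^ 2 := by
  intro h
  have := congrArg (fun x : GL (Fin 5) (ZMod 2) => (x : Matrix (Fin 5) (Fin 5) (ZMod 2)) 2 2) h
  rw [Units.val_pow_eq_pow_val, pow_two] at this
  revert this
  decide

theorem gA_gB : Commute gA gB := by
  apply Units.ext
  exact mA_mB

theorem orderOf_gA : orderOf gA = 3 := orderOf_eq_prime gA_pow gA_ne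
theorem orderOf_gB : orderOf gB = 3 := orderOf_eq_prime gB_pow gB_ne

theorem isPGroup_K : IsPGroup 3 (zpowers gA ⊔ zpowers gB : Subgroup (GL (Fin 5) (ZMod 2))) := by
  have hA : IsPGroup 3 (zpowers gA) :=
    IsPGroup.of_card (n := 1) (by rw [Nat.card_zpowers, orderOf_gA]; norm_num)
  have hB : IsPGroup 3 (zpowers gB) :=
    IsPGroup.of_card (n := 1) (by rw [Nat.card_zpowers, orderOf_gB]; norm_num)
  apply IsPGroup.to_sup_of_normal_right' hA hB
  rw [zpowers_le]
  apply Subgroup.centralizer_le_normalizer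
  rw [Subgroup.mem_centralizer_iff]
  intro h hh
  obtain ⟨k, rfl⟩ := Subgroup.mem_zpowers_iff.1 hh
  exact (gA_gB.symm.zpow_left k).eq

/-- In a cyclic group of order nine generated by `h`, an element of order three is `h^3` or `h^6`. -/
theorem pow_three_or_six {G : Type*} [Group G] [Finite G] {h a : G} (hh : orderOf h = 9)
    (ha : a ∈ zpowers h) (ha3 : a ^ 3 = 1) (ha1 : a ≠ 1) : a = h ^ 3 ∨ a = h ^ 6 := by
  classical
  have h1 := (mem_zpowers_iff_mem_range_orderOf (x := h) (y := a)).1 ha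
  rw [hh, Finset.mem_image] at h1
  obtain ⟨i, hi, hia⟩ := h1
  rw [Finset.mem_range] at hi
  have hia' : h ^ i = a := hia
  have h3i : 9 ∣ i * 3 := by
    rw [← hh]
    apply orderOf_dvd_of_pow_eq_one
    rw [pow_mul, hia', ha3]
  have hcases : i = 0 ∨ i = 3 ∨ i = 6 := by omega
  rcases hcases with rfl | rfl | rfl
  · exact absurd (by rw [← hia', pow_zero]) ha1
  · exact Or.inl hia'.symm
  · exact Or.inr hia'.symm

theorem no_order_nine (g : GL (Fin 5) (ZMod 2)) : orderOf g ≠ 9 := by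
  intro hg
  obtain ⟨Q, hQ⟩ := isPGroup_K.exists_le_sylow
  have hg9 : IsPGroup 3 (zpowers g) :=
    IsPGroup.of_card (n := 2) (by rw [Nat.card_zpowers, hg]; norm_num)
  obtain ⟨P, hP⟩ := hg9.exists_le_sylow
  obtain ⟨c, hc⟩ := MulAction.exists_smul_eq (GL (Fin 5) (ZMod 2)) P Q
  set g' : GL (Fin 5) (ZMod 2) := MulAut.conj c g with hg'def
  have hg' : orderOf g' = 9 := by rw [hg'def, MulEquiv.orderOf_eq, hg]
  have hg'Q : g' ∈ (Q : Subgroup (GL (Fin 5) (ZMod 2))) := by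
    rw [← hc, Sylow.coe_subgroup_smul]
    exact Subgroup.smul_mem_pointwise_smul g (MulAut.conj c) _ (hP (mem_zpowers g))
  have hle : zpowers g' ≤ (Q : Subgroup (GL (Fin 5) (ZMod 2))) := zpowers_le.2 hg'Q
  obtain ⟨k, hk⟩ := IsPGroup.iff_card.1 Q.2
  have hdvd : 3 ^ k ∣ 9999360 := by
    rw [← hk, ← card_GL52]; exact Subgroup.card_subgroup_dvd_card _
  have hk2 : k ≤ 2 := by
    by_contra h
    push Not at h
    have h1 : 3 ^ 3 ∣ 9999360 := (pow_dvd_pow 3 h).trans hdvd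
    norm_num at h1
  have h9 : 9 ∣ 3 ^ k := by
    have := Subgroup.card_dvd_of_le hle
    rwa [Nat.card_zpowers, hg', hk] at this
  have hcard : Nat.card (Q : Subgroup (GL (Fin 5) (ZMod 2))) = 9 := by
    rw [hk]
    interval_cases k
    · norm_num at h9
    · norm_num at h9
    · norm_num
  have hQeq : zpowers g' = (Q : Subgroup (GL (Fin 5) (ZMod 2))) := by
    apply Subgroup.eq_of_le_of_card_ge hle
    rw [hcard, Nat.card_zpowers, hg']
  have hAin : gA ∈ zpowers g' := by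
    rw [hQeq]; exact hQ (Subgroup.mem_sup_left (mem_zpowers gA))
  have hBin : gB ∈ zpowers g' := by
    rw [hQeq]; exact hQ (Subgroup.mem_sup_right (mem_zpowers gB))
  have h12 : g' ^ 12 = g' ^ 3 := by
    have : g' ^ 9 = 1 := by rw [← hg']; exact pow_orderOf_eq_one g'
    rw [show (12 : ℕ) = 9 + 3 from rfl, pow_add, this, one_mul]
  rcases pow_three_or_six hg' hAin gA_pow gA_ne with hA | hA <;>
    rcases pow_three_or_six hg' hBin gB_pow gB_ne with hB | hB
  · exact gB_ne_gA (hB.trans hA.symm)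
  · exact gB_ne_gA2 (by rw [hB, hA, ← pow_mul])
  · exact gB_ne_gA2 (by rw [hB, hA, ← pow_mul]; exact h12.symm)
  · exact gB_ne_gA (hB.trans hA.symm)

theorem section_no_order_nine {H : Subgroup (GL (Fin 5) (ZMod 2))} {K : Subgroup H} [K.Normal]
    (x : H ⧸ K) : orderOf x ≠ 9 := by
  intro hx
  obtain ⟨h, rfl⟩ := QuotientGroup.mk_surjective x
  have h1 : orderOf ((QuotientGroup.mk' K) h) ∣ orderOf h := orderOf_map_dvd _ h
  have h1' : 9 ∣ orderOf h := by
    have : orderOf ((QuotientGroup.mk' K) h) = 9 := hx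
    rwa [this] at h1
  obtain ⟨t, ht⟩ := h1'
  have hpos : 0 < orderOf h := orderOf_pos h
  have ht0 : t ≠ 0 := by
    rintro rfl
    omega
  have h2 : orderOf (h ^ t) = 9 := by
    rw [orderOf_pow_of_dvd ht0 (Dvd.intro_left 9 ht.symm), ht]
    exact Nat.mul_div_cancel _ (Nat.pos_of_ne_zero ht0)
  have h3 : orderOf ((h ^ t : H) : GL (Fin 5) (ZMod 2)) = 9 := by
    rw [Subgroup.orderOf_coe]; exact h2
  exact no_order_nine _ h3

/-! ### An element of order nine in `PSL(2,8)` -/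

theorem mat_cube {F : Type*} [Field F] (c : F) (hc : c ^ 3 + c + 1 = 0) (h2 : (2 : F) = 0) :
    (!![0, 1; 1, c] : Matrix (Fin 2) (Fin 2) F) ^ 3 = !![c, c ^ 2 + 1; c ^ 2 + 1, c + 1] := by
  rw [pow_three', Matrix.mul_fin_two, Matrix.mul_fin_two]
  ext i j
  fin_cases i <;> fin_cases j
  · simp
  · simp; ring
  · simp; ring
  · simp; linear_combination hc - h2

theorem matN_cube {F : Type*} [Field F] (c : F) (hc : c ^ 3 + c + 1 = 0) (h2 : (2 : F) = 0) :
    (!![c, c ^ 2 + 1; c ^ 2 + 1, c + 1] : Matrix (Fin 2) (Fin 2) F) ^ 3 = 1 := by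
  rw [pow_three', Matrix.mul_fin_two, Matrix.mul_fin_two]
  ext i j
  fin_cases i <;> fin_cases j
  · simp; linear_combination (4 + c + 3 * c ^ 2) * hc + (-2 - c - c ^ 2) * h2
  · simp; linear_combination (2 + 5 * c + c ^ 3) * hc + (-2 * c + c ^ 2) * h2
  · simp; linear_combination (2 + 5 * c + c ^ 3) * hc + (-2 * c + c ^ 2) * h2
  · simp; linear_combination (4 + 2 * c + 3 * c ^ 2) * hc + (-1 + c ^ 2) * h2

theorem exists_root {F : Type*} [Field F] [Fintype F] (hF : Fintype.card F = 8) :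
    (2 : F) = 0 ∧ ∃ c : F, c ^ 3 + c + 1 = 0 := by
  haveI : Fact (Nat.Prime 2) := ⟨Nat.prime_two⟩
  haveI : CharP F 2 := charP_of_card_eq_prime_pow (f := 3) (by rw [hF]; norm_num)
  have h2 : (2 : F) = 0 := CharP.ofNat_eq_zero F 2
  refine ⟨h2, ?_⟩
  classical
  obtain ⟨x, hx0, hx1⟩ : ∃ x : F, x ≠ 0 ∧ x ≠ 1 := by
    by_contra hcon
    push Not at hcon
    have hsub : (Finset.univ : Finset F) ⊆ {0, 1} := fun y _ => by
      by_cases hy : y = 0
      · simp [hy]
      · simp [hcon y hy]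
    have h3 := Finset.card_le_card hsub
    rw [Finset.card_univ, hF] at h3
    have := Finset.card_le_two (a := (0 : F)) (b := 1)
    omega
  have h7 : x ^ 7 = 1 := by
    have := FiniteField.pow_card_sub_one_eq_one x hx0
    rw [hF] at this
    simpa using this
  have hS : x ^ 6 + x ^ 5 + x ^ 4 + x ^ 3 + x ^ 2 + x + 1 = 0 := by
    have : (x - 1) * (x ^ 6 + x ^ 5 + x ^ 4 + x ^ 3 + x ^ 2 + x + 1) = 0 := by
      linear_combination h7
    exact (mul_eq_zero.1 this).resolve_left (sub_ne_zero.2 hx1)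
  have hprod : (x ^ 3 + x + 1) * (x ^ 3 + x ^ 2 + 1) = 0 := by
    linear_combination hS + x ^ 3 * h2
  rcases mul_eq_zero.1 hprod with h | h
  · exact ⟨x, h⟩
  · exact ⟨x + 1, by linear_combination h + (x ^ 2 + 2 * x + 1) * h2⟩

theorem exists_order_nine {F : Type*} [Field F] [Fintype F] (hF : Fintype.card F = 8) :
    ∃ y : Matrix.ProjectiveSpecialLinearGroup (Fin 2) F, orderOf y = 9 := by
  obtain ⟨h2, c, hc⟩ := exists_root hF
  haveI : Fact (Nat.Prime 2) := ⟨Nat.prime_two⟩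
  haveI : Fact (Nat.Prime 3) := ⟨Nat.prime_three⟩
  haveI : CharP F 2 := charP_of_card_eq_prime_pow (f := 3) (by rw [hF]; norm_num)
  let M : Matrix.SpecialLinearGroup (Fin 2) F :=
    ⟨!![0, 1; 1, c], by rw [Matrix.det_fin_two_of]; linear_combination (-1 : F) * h2⟩
  have hM3 : ((M ^ 3 : Matrix.SpecialLinearGroup (Fin 2) F) : Matrix (Fin 2) (Fin 2) F)
      = !![c, c ^ 2 + 1; c ^ 2 + 1, c + 1] := by
    rw [Matrix.SpecialLinearGroup.coe_pow]
    exact mat_cube c hc h2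
  have hc1 : c ^ 2 + 1 ≠ 0 := by
    intro h
    have : (1 : F) = 0 := by linear_combination hc - c * h
    exact one_ne_zero this
  have hord : orderOf M = 3 ^ (1 + 1) := by
    apply orderOf_eq_prime_pow
    · intro h
      have h' := congrArg (fun A : Matrix.SpecialLinearGroup (Fin 2) F =>
        (A : Matrix (Fin 2) (Fin 2) F) 0 1) h
      simp only [pow_one] at h'
      rw [hM3] at h'
      simp at h'
      exact hc1 h'
    · apply Subtype.ext
      rw [show (3 : ℕ) ^ (1 + 1) = 3 * 3 from rfl, pow_mul, Matrix.SpecialLinearGroup.coe_pow, hM3]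
      rw [Matrix.SpecialLinearGroup.coe_one]
      exact matN_cube c hc h2
  have hinj : Function.Injective
      (QuotientGroup.mk' (Subgroup.center (Matrix.SpecialLinearGroup (Fin 2) F))) := by
    rw [← MonoidHom.ker_eq_bot_iff, QuotientGroup.ker_mk',
      Cfsg.Agent.Lib.Helper3.CardSL.center_SL2_eq_bot]
  refine ⟨QuotientGroup.mk' _ M, ?_⟩
  rw [orderOf_injective _ hinj, hord]
  norm_num

end Cfsg.Agent.Lib.Helper16.GL52
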