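import Mathlib
import Cfsg.Prelude.Def_GeometricClasses
import Cfsg.Agent.Lib.Helper16.GeoTRDefs

/-!
# GeoTR: transport of the geometric-class vocabulary along `e : κ ≃ ι`  —  EXACT-SIGNATURE STUBS  (helper16)

Generic (any index types): block TR of S5662 (`Fin (m+m) ≃ Fin m ⊕ Fin m`), reusable by S5673 (`Fin (2m+1) ≃ Unit ⊕ (Fin m ⊕ Fin m)`).
Vocabulary + basic lemmas (REAL, on main): `Cfsg/Agent/Lib/Helper16/GeoTRDefs.lean`, ns `Cfsg.Agent.Lib.Helper16.GeoTR`:
`rv e v = v ∘ e.symm`, `tf e f u v = f (u ∘ e) (v ∘ e)`, `tq e Q v = Q (v ∘ e)`, `tW e W = W.map (rv e)` (`mem_tW : v ∈ tW e W ↔ v ∘ e ∈ W`),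
`tK e K = K.map (reindexAlgEquiv F F e)` (`mem_tK : x ∈ tK e K ↔ reindex e.symm e.symm x ∈ K`), `glReindex_val / _apply`,
`glReindex_mulVec : (glReindex e g).val *ᵥ v = rv e (g.val *ᵥ (v ∘ e))`, `glReindex_mulVec_comp`, `glReindex_mulVec_rv`, `reindex_mulVec`,
`glReindex_symm_apply`, `glReindex_symm_glReindex`, `glReindex_glReindex_symm`, `tf_symm_tf`, `tf_tf_symm`, `tq_symm_tq`, `tW_symm_tW`,
`map_map_symm`, `mem_map_glReindex`.

PROTOCOL: claim a GROUP (TR-F, TR-W, TR-D, TR-S, TR-R, TR-Q, TR-K, TR-T, TR-P, TR-C) by msg; file `Cfsg/Agent/Lib/HelperN/GeoTR<GROUP>.lean`,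
own namespace, exact signatures, import Mathlib + Def_GeometricClasses + Helper16.GeoTRDefs only.  Every statement is a direct unfolding;
each group is 20-60 minutes.  Only the FORWARD direction is stated (apply it to `e.symm` and use the round-trip lemmas for the converse).
-/

set_option autoImplicit false
set_option linter.unusedSectionVars false

namespace Cfsg.Agent.Lib.Helper16.GeoTRSkel

open Matrix Cfsg.Geo Cfsg.Agent.Lib.Helper16.GeoTR
open scoped Kronecker

variable {κ ι : Type} [Fintype κ] [DecidableEq κ] [Fintype ι] [DecidableEq ι] {F : Type*} [Field F]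

/-! ## TR-F  forms -/

theorem isBilinearForm_tf (e : κ ≃ ι) {f : (κ → F) → (κ → F) → F} (hf : IsBilinearForm f) : IsBilinearForm (tf e f) := by
  sorry

theorem isNondegenerateForm_tf (e : κ ≃ ι) {f : (κ → F) → (κ → F) → F} (hf : IsNondegenerateForm f) :
    IsNondegenerateForm (tf e f) := by
  sorry

theorem isSymplecticForm_tf (e : κ ≃ ι) {f : (κ → F) → (κ → F) → F} (hf : IsSymplecticForm f) : IsSymplecticForm (tf e f) := by
  sorry

theorem isSymmetricForm_tf (e : κ ≃ ι) {f : (κ → F) → (κ → F) → F} (hf : IsSymmetricForm f) : IsSymmetricForm (tf e f) := by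
  sorry

theorem isUnitaryForm_tf (e : κ ≃ ι) (σ : F ≃+* F) {f : (κ → F) → (κ → F) → F} (hf : IsUnitaryForm σ f) :
    IsUnitaryForm σ (tf e f) := by
  sorry

theorem polar_tq (e : κ ≃ ι) (Q : (κ → F) → F) (u v : ι → F) :
    QuadraticMap.polar (tq e Q) u v = QuadraticMap.polar Q (u ∘ e) (v ∘ e) := by
  sorry

theorem isNondegenerateQuadraticForm_tq (e : κ ≃ ι) {Q : (κ → F) → F} (hQ : IsNondegenerateQuadraticForm Q) :
    IsNondegenerateQuadraticForm (tq e Q) := by
  sorry

/-- the matrix sets correspond -/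
theorem mem_matrixSet_map (e : κ ≃ ι) (R : Subgroup (GL κ F)) (s : Matrix ι ι F) :
    s ∈ matrixSet (R.map (glReindex (F := F) e).toMonoidHom) ↔ Matrix.reindex e.symm e.symm s ∈ matrixSet R := by
  sorry

theorem fixesForm_map (e : κ ≃ ι) (R : Subgroup (GL κ F)) {f : (κ → F) → (κ → F) → F} (h : FixesForm (matrixSet R) f) :
    FixesForm (matrixSet (R.map (glReindex (F := F) e).toMonoidHom)) (tf e f) := by
  sorry

theorem fixesQuadForm_map (e : κ ≃ ι) (R : Subgroup (GL κ F)) {Q : (κ → F) → F} (h : FixesQuadForm (matrixSet R) Q) :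
    FixesQuadForm (matrixSet (R.map (glReindex (F := F) e).toMonoidHom)) (tq e Q) := by
  sorry

/-! ## TR-W  subspaces, class 1 -/

theorem tW_ne_bot (e : κ ≃ ι) {W : Submodule F (κ → F)} (h : W ≠ ⊥) : tW e W ≠ ⊥ := by
  sorry

theorem tW_ne_top (e : κ ≃ ι) {W : Submodule F (κ → F)} (h : W ≠ ⊤) : tW e W ≠ ⊤ := by
  sorry

theorem finrank_tW (e : κ ≃ ι) (W : Submodule F (κ → F)) : Module.finrank F (tW e W) = Module.finrank F W := by
  sorry

theorem isTotallySingularFor_tW (e : κ ≃ ι) {f : (κ → F) → (κ → F) → F} {W : Submodule F (κ → F)}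
    (h : IsTotallySingularFor f W) : IsTotallySingularFor (tf e f) (tW e W) := by
  sorry

theorem isNondegenerateOn_tW (e : κ ≃ ι) {f : (κ → F) → (κ → F) → F} {W : Submodule F (κ → F)}
    (h : IsNondegenerateOn f W) : IsNondegenerateOn (tf e f) (tW e W) := by
  sorry

theorem mem_subspaceStabilizer_tW (e : κ ≃ ι) {W : Submodule F (κ → F)} {g : GL κ F} (h : g ∈ subspaceStabilizer W) :
    glReindex e g ∈ subspaceStabilizer (tW e W) := by
  sorry

/-! ## TR-D  decompositions, class 2 -/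

theorem isMDecomposition_tW (e : κ ≃ ι) {t k : ℕ} {D : Fin t → Submodule F (κ → F)} (h : IsMDecomposition k D) :
    IsMDecomposition k (fun i => tW e (D i)) := by
  sorry

theorem isNondegenerateMDecomposition_tW (e : κ ≃ ι) {f : (κ → F) → (κ → F) → F} {t k : ℕ}
    {D : Fin t → Submodule F (κ → F)} (h : IsNondegenerateMDecomposition f k D) :
    IsNondegenerateMDecomposition (tf e f) k (fun i => tW e (D i)) := by
  sorry

theorem mem_decompositionStabilizer_tW (e : κ ≃ ι) {t : ℕ} {D : Fin t → Submodule F (κ → F)} {g : GL κ F}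
    (h : g ∈ decompositionStabilizer D) : glReindex e g ∈ decompositionStabilizer (fun i => tW e (D i)) := by
  sorry

/-! ## TR-S  subfields, class 5 -/

theorem mem_scalars_glReindex (e : κ ≃ ι) {g : GL κ F} (h : g ∈ scalars κ F) : glReindex e g ∈ scalars ι F := by
  sorry

theorem mem_subfieldSubgroup_glReindex (e : κ ≃ ι) (F₀ : Subfield F) (P : GL κ F) {g : GL κ F}
    (h : g ∈ subfieldSubgroup F₀ P) : glReindex e g ∈ subfieldSubgroup F₀ (glReindex e P) := by
  sorry

theorem isFormRationalStructure_tf (e : κ ≃ ι) {f : (κ → F) → (κ → F) → F} (F₀ : Subfield F) (ζ : F) (P : GL κ F)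
    (h : IsFormRationalStructure f F₀ ζ P) : IsFormRationalStructure (tf e f) F₀ ζ (glReindex e P) := by
  sorry

theorem realisableOver_map (e : κ ≃ ι) (F₀ : Subfield F) (R : Subgroup (GL κ F)) (h : RealisableOver F₀ (matrixSet R)) :
    RealisableOver F₀ (matrixSet (R.map (glReindex (F := F) e).toMonoidHom)) := by
  sorry

/-! ## TR-R  class 6 -/

theorem mem_subgroupNormalizer_map (e : κ ≃ ι) (R : Subgroup (GL κ F)) {g : GL κ F} (h : g ∈ subgroupNormalizer R) :
    glReindex e g ∈ subgroupNormalizer (R.map (glReindex (F := F) e).toMonoidHom) := by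
  sorry

theorem isSymplecticTypeGroup_map (e : κ ≃ ι) (r : ℕ) (R : Subgroup (GL κ F)) (h : IsSymplecticTypeGroup r R) :
    IsSymplecticTypeGroup r (R.map (glReindex (F := F) e).toMonoidHom) := by
  sorry

theorem actsIrreducibly_map (e : κ ≃ ι) (R : Subgroup (GL κ F)) (h : ActsIrreducibly (matrixSet R)) :
    ActsIrreducibly (matrixSet (R.map (glReindex (F := F) e).toMonoidHom)) := by
  sorry

theorem actsAbsolutelyIrreducibly_map (e : κ ≃ ι) (R : Subgroup (GL κ F)) (h : ActsAbsolutelyIrreducibly (matrixSet R)) :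
    ActsAbsolutelyIrreducibly (matrixSet (R.map (glReindex (F := F) e).toMonoidHom)) := by
  sorry

theorem map_le_similarityGroup (e : κ ≃ ι) (R : Subgroup (GL κ F)) {f : (κ → F) → (κ → F) → F}
    (h : R ≤ similarityGroup f) : R.map (glReindex (F := F) e).toMonoidHom ≤ similarityGroup (tf e f) := by
  sorry

theorem card_map (e : κ ≃ ι) (R : Subgroup (GL κ F)) :
    Nat.card (R.map (glReindex (F := F) e).toMonoidHom) = Nat.card R := by
  sorry

theorem card_center_map (e : κ ≃ ι) (R : Subgroup (GL κ F)) :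
    Nat.card (Subgroup.center (R.map (glReindex (F := F) e).toMonoidHom)) = Nat.card (Subgroup.center R) := by
  sorry

theorem isOfMinusType_map (e : κ ≃ ι) (k : ℕ) (R : Subgroup (GL κ F)) (h : IsOfMinusType k R) :
    IsOfMinusType k (R.map (glReindex (F := F) e).toMonoidHom) := by
  sorry

/-! ## TR-Q  class 8 -/

theorem mem_quadSimilarityGroup_tq (e : κ ≃ ι) {Q : (κ → F) → F} {g : GL κ F} (h : g ∈ quadSimilarityGroup Q) :
    glReindex e g ∈ quadSimilarityGroup (tq e Q) := by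
  sorry

theorem mem_similarityGroup_tf (e : κ ≃ ι) {f : (κ → F) → (κ → F) → F} {g : GL κ F} (h : g ∈ similarityGroup f) :
    glReindex e g ∈ similarityGroup (tf e f) := by
  sorry

/-! ## TR-K  class 3 -/

theorem isFieldSubalgebra_tK (e : κ ≃ ι) (r : ℕ) (K : Subalgebra F (Matrix κ κ F)) (h : IsFieldSubalgebra r K) :
    IsFieldSubalgebra r (tK e K) := by
  sorry

theorem isSelfAdjointFor_tK (e : κ ≃ ι) {f : (κ → F) → (κ → F) → F} (K : Subalgebra F (Matrix κ κ F))
    (h : IsSelfAdjointFor f K) : IsSelfAdjointFor (tf e f) (tK e K) := by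
  sorry

/-- the converse (needed for `¬ IsSelfAdjointFor`) -/
theorem isSelfAdjointFor_of_tK (e : κ ≃ ι) {f : (κ → F) → (κ → F) → F} (K : Subalgebra F (Matrix κ κ F))
    (h : IsSelfAdjointFor (tf e f) (tK e K)) : IsSelfAdjointFor f K := by
  sorry

theorem isAdjointClosedFor_tK (e : κ ≃ ι) {f : (κ → F) → (κ → F) → F} (K : Subalgebra F (Matrix κ κ F))
    (h : IsAdjointClosedFor f K) : IsAdjointClosedFor (tf e f) (tK e K) := by
  sorry

theorem alt_tK (e : κ ≃ ι) {f : (κ → F) → (κ → F) → F} (K : Subalgebra F (Matrix κ κ F))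
    (h : ∀ k ∈ K, ∀ v, f (k *ᵥ v) v = 0) : ∀ k ∈ tK e K, ∀ v, tf e f (k *ᵥ v) v = 0 := by
  sorry

theorem mem_subalgebraNormalizer_tK (e : κ ≃ ι) (K : Subalgebra F (Matrix κ κ F)) {g : GL κ F}
    (h : g ∈ subalgebraNormalizer K) : glReindex e g ∈ subalgebraNormalizer (tK e K) := by
  sorry

/-! ## TR-T  class 4 -/

theorem mem_tensorProductSubgroup_glReindex (e : κ ≃ ι) (n₁ n₂ : ℕ) (e₁ : κ ≃ Fin n₁ × Fin n₂) (P : GL κ F) {g : GL κ F}
    (h : g ∈ tensorProductSubgroup n₁ n₂ e₁ P) :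
    glReindex e g ∈ tensorProductSubgroup n₁ n₂ (e.symm.trans e₁) (glReindex e P) := by
  sorry

theorem isTensorFormStructure_tf (e : κ ≃ ι) (σ : F → F) {f : (κ → F) → (κ → F) → F} {n₁ n₂ : ℕ}
    (f₁ : (Fin n₁ → F) → (Fin n₁ → F) → F) (f₂ : (Fin n₂ → F) → (Fin n₂ → F) → F) (e₁ : κ ≃ Fin n₁ × Fin n₂) (P : GL κ F)
    (h : IsTensorFormStructure σ f f₁ f₂ e₁ P) :
    IsTensorFormStructure σ (tf e f) f₁ f₂ (e.symm.trans e₁) (glReindex e P) := by
  sorry

/-! ## TR-P  class 7 -/

theorem mem_tensorWreathSubgroup_glReindex (e : κ ≃ ι) (k t : ℕ) (e₁ : κ ≃ (Fin t → Fin k)) (P : GL κ F) {g : GL κ F}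
    (h : g ∈ tensorWreathSubgroup k t e₁ P) :
    glReindex e g ∈ tensorWreathSubgroup k t (e.symm.trans e₁) (glReindex e P) := by
  sorry

theorem isTensorPowerFormStructure_tf (e : κ ≃ ι) (σ : F → F) {f : (κ → F) → (κ → F) → F} {k t : ℕ}
    (f₁ : (Fin k → F) → (Fin k → F) → F) (e₁ : κ ≃ (Fin t → Fin k)) (P : GL κ F)
    (h : IsTensorPowerFormStructure σ f f₁ e₁ P) :
    IsTensorPowerFormStructure σ (tf e f) f₁ (e.symm.trans e₁) (glReindex e P) := by
  sorry

/-! ## TR-C  the residual core -/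

theorem isResidualCore_map (e : κ ≃ ι) (H P : Subgroup (GL κ F)) (h : IsResidualCore H P) :
    IsResidualCore (H.map (glReindex (F := F) e).toMonoidHom) (P.map (glReindex (F := F) e).toMonoidHom) := by
  sorry

end Cfsg.Agent.Lib.Helper16.GeoTRSkel
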