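import Mathlib
import Cfsg.Agent.Lib.Helper16.FieldCentPSL
import Cfsg.Agent.Lib.Helper16.FieldCosetPSU

set_option autoImplicit false
set_option linter.unusedSectionVars false
set_option linter.unusedVariables false
set_option linter.style.haveILetI false

namespace Cfsg.Agent.Lib.Helper16.GraphFieldCentPSL

open Matrix Cfsg Cfsg.Agent.Lib.Helper6 Cfsg.Agent.Lib.Helper6.AutPSL Cfsg.Agent.Lib.Helper16.H90GL
  Cfsg.Agent.Lib.Helper16.FieldCoset Cfsg.Agent.Lib.Helper16.SplitCount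
  Cfsg.Agent.Lib.Helper16.UnitaryDescent Cfsg.Agent.Lib.Helper16.GraphFieldCoset
  Cfsg.Agent.Lib.Helper16.FieldCentPSL
open Cfsg.Agent.Lib.Helper16.FieldCosetPSU (tauA tauA_apply tauA_tauA tauA_ne_one tauA_comm
  pres_of_hs hs_of_pres mem_GU_hs)

section
variable {F : Type*} [Field F]

theorem mem_zpowers_of_fixes (σ τ : RingAut F) (hfin : IsOfFinOrder σ)
    (h : ∀ a, σ a = a → τ a = a) : τ ∈ Subgroup.zpowers σ := by
  haveI : Finite (Subgroup.zpowers σ) := hfin.finite_zpowers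
  have hbij := FixedPoints.toAlgAut_bijective (Subgroup.zpowers σ) F
  have hfix : ∀ x : FixedPoints.subfield (Subgroup.zpowers σ) F,
      τ (algebraMap _ F x) = algebraMap _ F x := by
    intro x
    apply h
    exact x.2 ⟨σ, Subgroup.mem_zpowers σ⟩
  let τ' : F ≃ₐ[FixedPoints.subfield (Subgroup.zpowers σ) F] F := AlgEquiv.ofRingEquiv (f := τ) hfix
  obtain ⟨g, hg⟩ := hbij.2 τ'
  have hτg : τ = (g : RingAut F) := by
    apply RingEquiv.ext
    intro a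
    have h1 := DFunLike.congr_fun hg a
    exact h1.symm
  rw [hτg]
  exact g.2

theorem eq_tauA [Fintype F] {q₀ : ℕ} (hF' : Fintype.card F = q₀ ^ 2) (σ : RingAut F)
    (hσ2 : orderOf σ = 2) (hK : Nat.card ↥(fixK σ) = q₀) : σ = tauA hF' := by
  classical
  haveI : Fintype ↥(fixK σ) := Fintype.ofFinite _
  have hfin : IsOfFinOrder σ := by rw [← orderOf_pos_iff, hσ2]; norm_num
  have h1 : ∀ a, σ a = a → tauA hF' a = a := by
    intro a ha
    have h2 := FiniteField.pow_card (⟨a, ha⟩ : ↥(fixK σ))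
    rw [← Nat.card_eq_fintype_card, hK] at h2
    have h3 := congrArg Subtype.val h2
    rw [tauA_apply]
    simpa using h3
  obtain ⟨k, hk⟩ := Subgroup.mem_zpowers_iff.mp (mem_zpowers_of_fixes σ (tauA hF') hfin h1)
  have hσσ : σ ^ (2 : ℤ) = 1 := by
    have : σ ^ (2 : ℕ) = 1 := by rw [← hσ2]; exact pow_orderOf_eq_one σ
    rw [← this]; exact zpow_natCast σ 2
  have hk2 : k = 2 * (k / 2) + k % 2 := (Int.mul_ediv_add_emod k 2).symm
  rw [hk2, _root_.zpow_add, _root_.zpow_mul, hσσ, _root_.one_zpow, one_mul] at hk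
  rcases Int.emod_two_eq_zero_or_one k with h | h
  · rw [h, zpow_zero] at hk
    exact absurd hk.symm (tauA_ne_one hF')
  · rw [h, zpow_one] at hk
    exact hk

variable {n : ℕ}

local notation "PSLn" => Matrix.ProjectiveSpecialLinearGroup (Fin n) F

theorem tpow_comm_tP (k : ZMod 2) : (tpow k * tP : MulAut PSLn) = tP * tpow k := by
  rcases zmod2_cases k with rfl | rfl
  · rw [tpow_zero, one_mul, mul_one]
  · rw [tpow_one]

/-- products of field and graph automorphisms commute with `fP τ * tP` when `τ` is central -/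
theorem comm_w (τ : RingAut F) (hτc : ∀ ρ : RingAut F, ρ * τ = τ * ρ) (ρ : RingAut F)
    (k : ZMod 2) :
    (fP ρ * tpow k) * (fP τ * tP) = (fP τ * tP : MulAut PSLn) * (fP ρ * tpow k) := by
  calc (fP ρ * tpow k) * (fP τ * tP) = fP ρ * (tpow k * fP τ) * tP := by simp only [mul_assoc]
    _ = fP ρ * (fP τ * tpow k) * tP := by rw [tpow_comm_fP]
    _ = (fP ρ * fP τ) * (tpow k * tP) := by simp only [mul_assoc]
    _ = (fP τ * fP ρ) * (tP * tpow k) := by
        rw [tpow_comm_tP, ← fP_mul, hτc, fP_mul]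
    _ = fP τ * (fP ρ * tP) * tpow k := by simp only [mul_assoc]
    _ = fP τ * (tP * fP ρ) * tpow k := by rw [rel_tP_fP]
    _ = (fP τ * tP) * (fP ρ * tpow k) := by simp only [mul_assoc]

section fin
variable [Fintype F] {p f : ℕ} [Fact p.Prime] (hF : Fintype.card F = p ^ f) (hf : 1 ≤ f)

include hF hf in
/-- every conjugate of `fP τ * tP` is conjugate to it under the inner-diagonal group -/
theorem conj_w (hn : 2 ≤ n) (τ : RingAut F) (hτc : ∀ ρ : RingAut F, ρ * τ = τ * ρ)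
    (α : MulAut PSLn) :
    ∃ g : GL (Fin n) F, α⁻¹ * (fP τ * tP) * α = cP g * (fP τ * tP) * (cP g)⁻¹ := by
  obtain ⟨a, ρ, k, rfl⟩ := exists_dec hF hf hn α
  obtain ⟨P, hP⟩ : ∃ P : MulAut PSLn, P = fP ρ * tpow k := ⟨_, rfl⟩
  have hPw : P * (fP τ * tP) = (fP τ * tP) * P := by rw [hP]; exact comm_w τ hτc ρ k
  obtain ⟨g, hg⟩ := conj_cP hF hf hn P⁻¹ a⁻¹
  rw [inv_inv] at hg
  refine ⟨g, ?_⟩
  rw [← hg]
  have e : cP a * fP ρ * tpow k = cP a * P := by rw [hP, mul_assoc]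
  rw [e]
  have hPw' : P⁻¹ * (fP τ * tP) * P = fP τ * tP := by
    rw [mul_assoc, ← hPw, ← mul_assoc, inv_mul_cancel, one_mul]
  calc (cP a * P)⁻¹ * (fP τ * tP) * (cP a * P)
      = (P⁻¹ * cP a⁻¹ * P) * (P⁻¹ * (fP τ * tP) * P) * (P⁻¹ * cP a⁻¹ * P)⁻¹ := by
        rw [map_inv]; group
    _ = (P⁻¹ * cP a⁻¹ * P) * (fP τ * tP) * (P⁻¹ * cP a⁻¹ * P)⁻¹ := by rw [hPw']

end fin

theorem comm_w_iff (hn : 2 ≤ n) (τ : RingAut F) (hτ2 : τ * τ = 1) (g : GL (Fin n) F) :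
    (fP τ * tP) * cP g = cP g * (fP τ * tP : MulAut PSLn) ↔
      ∃ c : F, hs τ g.1 * g.1 = c • (1 : Matrix (Fin n) (Fin n) F) := by
  have h1 : (fP τ * tP) * cP g = cP (sG τ (gT g)) * (fP τ * tP : MulAut PSLn) := by
    calc (fP τ * tP) * cP g = fP τ * (tP * cP g) := by rw [mul_assoc]
      _ = fP τ * (cP (gT g) * tP) := by rw [rel_tP_cP]
      _ = (fP τ * cP (gT g)) * tP := by rw [mul_assoc]
      _ = (cP (sG τ (gT g)) * fP τ) * tP := by rw [rel_fP_cP]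
      _ = cP (sG τ (gT g)) * (fP τ * tP) := by rw [mul_assoc]
  rw [h1, mul_left_inj, cP_eq_iff hn, sG_val, gT_val]
  have h2 : ((g⁻¹).1ᵀ).map τ = hs τ (g⁻¹).1 := by
    unfold hs
    rw [Matrix.transpose_map]
  rw [h2]
  have hone : hs τ g.1 * hs τ (g⁻¹).1 = 1 := by rw [← hs_mul, gl_inv_mul, hs_one]
  have hone' : hs τ (g⁻¹).1 * hs τ g.1 = 1 := mul_eq_one_comm.mp hone
  constructor
  · rintro ⟨μ, hμ⟩
    rw [hμ, Matrix.mul_smul] at hone
    have hμ0 : μ ≠ 0 := by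
      intro h0
      rw [h0, zero_smul] at hone
      have := congrFun (congrFun hone ⟨0, by omega⟩) ⟨0, by omega⟩
      simp at this
    refine ⟨μ⁻¹, ?_⟩
    calc hs τ g.1 * g.1 = μ⁻¹ • (μ • (hs τ g.1 * g.1)) := by
          rw [smul_smul, inv_mul_cancel₀ hμ0, one_smul]
      _ = μ⁻¹ • 1 := by rw [hone]
  · rintro ⟨c, hc⟩
    have hc0 : c ≠ 0 := by
      intro h0
      rw [h0, zero_smul] at hc
      have h3 : g.1 = 0 := by
        calc g.1 = (hs τ (g⁻¹).1 * hs τ g.1) * g.1 := by rw [hone', Matrix.one_mul]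
          _ = hs τ (g⁻¹).1 * (hs τ g.1 * g.1) := by rw [Matrix.mul_assoc]
          _ = 0 := by rw [hc, Matrix.mul_zero]
      have h4 := gl_mul_inv g
      rw [h3, Matrix.zero_mul] at h4
      have := congrFun (congrFun h4 ⟨0, by omega⟩) ⟨0, by omega⟩
      simp at this
    refine ⟨c⁻¹, ?_⟩
    calc hs τ (g⁻¹).1 = hs τ (g⁻¹).1 * (c⁻¹ • (hs τ g.1 * g.1)) := by
          rw [hc, smul_smul, inv_mul_cancel₀ hc0, one_smul, Matrix.mul_one]
      _ = c⁻¹ • ((hs τ (g⁻¹).1 * hs τ g.1) * g.1) := by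
          rw [Matrix.mul_smul, Matrix.mul_assoc]
      _ = c⁻¹ • g.1 := by rw [hone', Matrix.one_mul]

/-- normalisation of a similitude of the Hermitian form to an isometry -/
theorem exists_unitary_mul [Finite F] (τ : RingAut F) (hτ : τ ≠ 1) (hτ2 : τ * τ = 1)
    (g : GL (Fin n) F) (hn : 1 ≤ n) (c : F)
    (hc : hs τ g.1 * g.1 = c • (1 : Matrix (Fin n) (Fin n) F)) :
    ∃ ε : F, ε ≠ 0 ∧ hs τ (ε • g.1) * (ε • g.1) = 1 := by
  have hτ2' : ∀ a, τ (τ a) = a := fun a => DFunLike.congr_fun hτ2 a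
  have hτ' : (τ : F →+* F) ≠ RingHom.id F := by
    intro h
    apply hτ
    apply RingEquiv.ext
    intro a
    exact DFunLike.congr_fun h a
  let i0 : Fin n := ⟨0, by omega⟩
  have hc0 : c ≠ 0 := by
    intro h0
    rw [h0, zero_smul] at hc
    have hone : hs τ (g⁻¹).1 * hs τ g.1 = 1 := by rw [← hs_mul, gl_mul_inv, hs_one]
    have h3 : g.1 = 0 := by
      calc g.1 = (hs τ (g⁻¹).1 * hs τ g.1) * g.1 := by rw [hone, Matrix.one_mul]
        _ = hs τ (g⁻¹).1 * (hs τ g.1 * g.1) := by rw [Matrix.mul_assoc]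
        _ = 0 := by rw [hc, Matrix.mul_zero]
    have h4 := gl_mul_inv g
    rw [h3, Matrix.zero_mul] at h4
    have := congrFun (congrFun h4 i0) i0
    simp at this
  have hτc : τ c = c := by
    have h1 : hs τ (hs τ g.1 * g.1) = hs τ g.1 * g.1 := by rw [hs_mul, hs_hs τ hτ2]
    rw [hc, hs_smul, hs_one] at h1
    have := congrFun (congrFun h1 i0) i0
    simpa using this
  obtain ⟨ε, hε⟩ := Cfsg.Agent.Lib.Helper6.exists_norm (τ : F →+* F) hτ' hτ2' c⁻¹
    (inv_ne_zero hc0) (by change τ c⁻¹ = c⁻¹; rw [map_inv₀, hτc])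
  have hε' : ε * τ ε = c⁻¹ := hε
  have hε0 : ε ≠ 0 := by
    intro h0
    rw [h0, zero_mul] at hε'
    exact inv_ne_zero hc0 hε'.symm
  refine ⟨ε, hε0, ?_⟩
  rw [hs_smul, Matrix.smul_mul, Matrix.mul_smul, smul_smul, hc, smul_smul, mul_comm (τ ε),
    hε', inv_mul_cancel₀ hc0, one_smul]

theorem cA_comm_iff' (α w : MulAut PSLn) (g : GL (Fin n) F) :
    (α⁻¹ * w * α) * cA α g = cA α g * (α⁻¹ * w * α) ↔ w * cP g = cP g * w := by
  rw [cA_apply]
  constructor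
  · intro h
    have : α * (α⁻¹ * w * α * (α⁻¹ * cP g * α)) * α⁻¹ =
        α * (α⁻¹ * cP g * α * (α⁻¹ * w * α)) * α⁻¹ := by rw [h]
    calc w * cP g = α * (α⁻¹ * w * α * (α⁻¹ * cP g * α)) * α⁻¹ := by group
      _ = α * (α⁻¹ * cP g * α * (α⁻¹ * w * α)) * α⁻¹ := this
      _ = cP g * w := by group
  · intro h
    calc α⁻¹ * w * α * (α⁻¹ * cP g * α) = α⁻¹ * (w * cP g) * α := by group
      _ = α⁻¹ * (cP g * w) * α := by rw [h]
      _ = α⁻¹ * cP g * α * (α⁻¹ * w * α) := by group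

section main
variable [Fintype F] {q₀ : ℕ} (hF' : Fintype.card F = q₀ ^ 2)

theorem det_image_gu (hn : 1 ≤ n) (C : Subgroup (GL (Fin n) F))
    (hC : ∀ g, g ∈ C ↔ ∃ c : F, hs (tauA hF') g.1 * g.1 = c • (1 : Matrix (Fin n) (Fin n) F)) :
    C.map Matrix.GeneralLinearGroup.det ⊔ (powMonoidHom n : Fˣ →* Fˣ).range =
      AutPSU.N1 F q₀ ⊔ (powMonoidHom n : Fˣ →* Fˣ).range := by
  have hτ2 : tauA hF' * tauA hF' = 1 := RingEquiv.ext (tauA_tauA hF')
  apply le_antisymm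
  · apply sup_le _ le_sup_right
    rintro u ⟨g, hg, rfl⟩
    obtain ⟨c, hc⟩ := (hC g).mp hg
    obtain ⟨ε, hε0, hε⟩ := exists_unitary_mul (tauA hF') (tauA_ne_one hF') hτ2 g hn c hc
    have hw : (Units.mk0 ε hε0) ^ n * Matrix.GeneralLinearGroup.det g ∈ AutPSU.N1 F q₀ := by
      rw [AutPSU.mem_N1]
      apply Units.ext
      rw [Units.val_pow_eq_pow_val, Units.val_mul, Units.val_pow_eq_pow_val, Units.val_mk0,
        val_det, Units.val_one]
      have h1 : ε ^ n * g.1.det = (ε • g.1).det := by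
        rw [Matrix.det_smul, Fintype.card_fin]
      rw [h1]
      exact det_norm_of_pres hF' _ (pres_of_hs hF' _ hε)
    have hv : ((Units.mk0 ε hε0)⁻¹) ^ n ∈ (powMonoidHom n : Fˣ →* Fˣ).range := ⟨_, rfl⟩
    have := Subgroup.mul_mem_sup hw hv
    have e : (Units.mk0 ε hε0) ^ n * Matrix.GeneralLinearGroup.det g * ((Units.mk0 ε hε0)⁻¹) ^ n =
        Matrix.GeneralLinearGroup.det g := by
      rw [inv_pow, mul_comm, ← mul_assoc, inv_mul_cancel, one_mul]
    rw [e] at this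
    exact this
  · apply sup_le _ le_sup_right
    intro u hu
    apply le_sup_left (a := C.map Matrix.GeneralLinearGroup.det)
    obtain ⟨g₁, hg₁⟩ := AutPSU.guDet1_surjective (n := n) hF' hn ⟨u, hu⟩
    refine ⟨g₁.1, ?_, ?_⟩
    · rw [SetLike.mem_coe, hC]
      exact ⟨1, by rw [one_smul]; exact mem_GU_hs hF' g₁⟩
    · apply Units.ext
      rw [val_det]
      have := congrArg (fun v : AutPSU.N1 F q₀ => ((v : Fˣ) : F)) hg₁
      simp only at this
      rw [AutPSU.guDet1_val] at this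
      exact this

variable {p f : ℕ} [Fact p.Prime] (hF : Fintype.card F = p ^ f) (hf : 1 ≤ f)

include hF hf in
theorem split_count_gf (hn : 2 ≤ n) (α : MulAut PSLn) :
    Cfsg.splitClassCount (Cfsg.inndiagPSL n F) (Cfsg.Inn PSLn) (α⁻¹ * (fP (tauA hF') * tP) * α) =
      Nat.gcd n (q₀ - 1) := by
  have hτ2 : tauA hF' * tauA hF' = 1 := RingEquiv.ext (tauA_tauA hF')
  rw [splitClassCount_eq (Cfsg.inndiagPSL n F) (Cfsg.Inn PSLn) _ (cA α)
    (cA_range hF hf hn α) inn_le_inndiag (delta n) (delta_surjective n (by omega))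
    (cA_mem_inn_iff hn α)]
  have hC : ∀ g, g ∈ (Subgroup.centralizer {α⁻¹ * (fP (tauA hF') * tP) * α}).comap (cA α) ↔
      ∃ c : F, hs (tauA hF') g.1 * g.1 = c • (1 : Matrix (Fin n) (Fin n) F) := by
    intro g
    rw [mem_cent_comap, cA_comm_iff', comm_w_iff hn _ hτ2]
  have hdelta : (delta n : GL (Fin n) F →* _) =
      (QuotientGroup.mk' (powMonoidHom n : Fˣ →* Fˣ).range).comp Matrix.GeneralLinearGroup.det :=
    rfl
  rw [hdelta, ← Subgroup.map_map, Subgroup.index_map, QuotientGroup.ker_mk',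
    MonoidHom.range_eq_top.mpr (QuotientGroup.mk'_surjective _), Subgroup.index_top, mul_one,
    det_image_gu hF' (by omega) _ hC, index_sup_pow, AutPSU.card_N1 hF', Nat.card_units,
    Nat.card_eq_fintype_card, hF']
  have hq := two_le_q hF'
  obtain ⟨t, rfl⟩ : ∃ t, q₀ = t + 1 := ⟨q₀ - 1, by omega⟩
  have h1 : (t + 1) ^ 2 - 1 = t * (t + 1 + 1) := by
    have : (t + 1) ^ 2 = t * (t + 1 + 1) + 1 := by ring
    omega
  rw [h1, Nat.mul_div_cancel _ (by omega), Nat.add_sub_cancel]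

include hF hf in
theorem cent_iso_gf (hn : 2 ≤ n) (α : MulAut PSLn) :
    Nonempty (↥(Cfsg.inndiagPSL n F ⊓
      Subgroup.centralizer {α⁻¹ * (fP (tauA hF') * tP) * α}) ≃* Cfsg.PGU n F q₀) := by
  have hτ2 : tauA hF' * tauA hF' = 1 := RingEquiv.ext (tauA_tauA hF')
  obtain ⟨Ψ, hΨ⟩ : ∃ Ψ : ↥(Cfsg.GU n F q₀) →* MulAut PSLn,
      Ψ = (cA α).comp (Cfsg.GU n F q₀).subtype := ⟨_, rfl⟩
  have hΨa : ∀ g₀, Ψ g₀ = cA α g₀.1 := fun g₀ => by rw [hΨ]; rfl
  have hmem : ∀ g, cA α g ∈ Subgroup.centralizer {α⁻¹ * (fP (tauA hF') * tP) * α} ↔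
      ∃ c : F, hs (tauA hF') g.1 * g.1 = c • (1 : Matrix (Fin n) (Fin n) F) := by
    intro g
    rw [← Subgroup.mem_comap, mem_cent_comap, cA_comm_iff', comm_w_iff hn _ hτ2]
  have hrange : Ψ.range = Cfsg.inndiagPSL n F ⊓
      Subgroup.centralizer {α⁻¹ * (fP (tauA hF') * tP) * α} := by
    apply le_antisymm
    · rintro _ ⟨g₀, rfl⟩
      rw [hΨa]
      refine ⟨?_, ?_⟩
      · rw [← cA_range hF hf hn α]; exact ⟨_, rfl⟩
      · exact (hmem _).mpr ⟨1, by rw [one_smul]; exact mem_GU_hs hF' g₀⟩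
    · rintro β ⟨hβ1, hβ2⟩
      rw [SetLike.mem_coe, ← cA_range hF hf hn α] at hβ1
      obtain ⟨g, rfl⟩ := hβ1
      obtain ⟨c, hc⟩ := (hmem g).mp hβ2
      obtain ⟨ε, hε0, hε⟩ := exists_unitary_mul (tauA hF') (tauA_ne_one hF') hτ2 g (by omega) c hc
      obtain ⟨G₁, hG₁⟩ := exists_GU_of_pres hF' (ε • g.1) (pres_of_hs hF' _ hε)
      refine ⟨G₁, ?_⟩
      rw [hΨa, cA_apply, cA_apply]
      congr 2
      exact cP_eq_of_smul _ _ ε hG₁
  have hker : Ψ.ker = (Cfsg.Geo.scalars (Fin n) F).subgroupOf (Cfsg.GU n F q₀) := by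
    ext g₀
    rw [MonoidHom.mem_ker, hΨa, cA_apply, Subgroup.mem_subgroupOf, Cfsg.Geo.mem_scalars_iff]
    have h1 : α⁻¹ * cP g₀.1 * α = 1 ↔ (cP g₀.1 : MulAut PSLn) = 1 := by
      constructor
      · intro h
        calc (cP g₀.1 : MulAut PSLn) = α * (α⁻¹ * cP g₀.1 * α) * α⁻¹ := by group
          _ = 1 := by rw [h]; group
      · intro h
        rw [h]; group
    rw [h1, ← MonoidHom.mem_ker, cP_ker (card_fin_ge hn),
      Matrix.GeneralLinearGroup.mem_center_iff_val_mem_range_scalar]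
    constructor
    · rintro ⟨μ, hμ⟩
      rw [scalar_eq_smul_one] at hμ
      have hμ0 : μ ≠ 0 := by
        intro h0
        have h1 := gl_mul_inv g₀.1
        rw [← hμ, h0, zero_smul, Matrix.zero_mul] at h1
        have := congrFun (congrFun h1 ⟨0, by omega⟩) ⟨0, by omega⟩
        simp at this
      exact ⟨Units.mk0 μ hμ0, hμ.symm⟩
    · rintro ⟨c, hc⟩
      exact ⟨c, by rw [scalar_eq_smul_one, hc]⟩
  have e1 : ↥(Cfsg.GU n F q₀) ⧸ Ψ.ker ≃* ↥Ψ.range := QuotientGroup.quotientKerEquivRange Ψ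
  have e2 : ↥Ψ.range ≃* ↥(Cfsg.inndiagPSL n F ⊓
      Subgroup.centralizer {α⁻¹ * (fP (tauA hF') * tP) * α}) := MulEquiv.subgroupCongr hrange
  have e3 : Cfsg.PGU n F q₀ ≃* ↥(Cfsg.GU n F q₀) ⧸ Ψ.ker :=
    QuotientGroup.quotientMulEquivOfEq hker.symm
  exact ⟨(e3.trans (e1.trans e2)).symm⟩

end main

end

end Cfsg.Agent.Lib.Helper16.GraphFieldCentPSL
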