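import Mathlib
import Cfsg.Agent.Lib.Helper16.GraphFieldCentPSL
import Cfsg.Agent.Lib.Helper16.OrthClassify
import Cfsg.Agent.Lib.Helper16.FieldCentRect
import Cfsg.Agent.Lib.Helper6.Discr

/-!
# The centralizer of the inverse-transpose automorphism of `PSL_n` in `PGL_n`, odd characteristic
-/

set_option autoImplicit false
set_option linter.unusedSectionVars false
set_option linter.unusedVariables false
set_option linter.style.haveILetI false

namespace Cfsg.Agent.Lib.Helper16.GraphCentPSL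

open Matrix Cfsg Cfsg.Agent.Lib.Helper6 Cfsg.Agent.Lib.Helper6.AutPSL
  Cfsg.Agent.Lib.Helper16.FieldCoset Cfsg.Agent.Lib.Helper16.GraphFieldCoset
  Cfsg.Agent.Lib.Helper16.FieldCentPSL Cfsg.Agent.Lib.Helper16.GraphFieldCentPSL
  Cfsg.Agent.Lib.Helper16.OrthClassify

section
variable {F : Type*} [Field F] {n : ℕ}

local notation "PSLn" => Matrix.ProjectiveSpecialLinearGroup (Fin n) F

theorem hs_one_eq (M : Matrix (Fin n) (Fin n) F) : hs (1 : RingAut F) M = Mᵀ := by
  ext i j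
  rw [hs_apply]
  rfl

/-- commuting with the inverse-transpose automorphism -/
theorem comm_tP_iff (hn : 2 ≤ n) (g : GL (Fin n) F) :
    tP * cP g = cP g * (tP : MulAut PSLn) ↔
      ∃ c : F, g.1ᵀ * g.1 = c • (1 : Matrix (Fin n) (Fin n) F) := by
  have := comm_w_iff hn (1 : RingAut F) (one_mul 1) g
  rw [fP_one, one_mul, hs_one_eq] at this
  exact this

variable {ι' : Type} [Fintype ι'] [DecidableEq ι'] {κ : Type} [Fintype κ] [DecidableEq κ]

theorem qf_congr_rect (M : Matrix ι' κ F) (D : Matrix ι' ι' F) (w : κ → F) :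
    w ⬝ᵥ (Mᵀ * D * M) *ᵥ w = (M *ᵥ w) ⬝ᵥ D *ᵥ (M *ᵥ w) := by
  rw [Matrix.mul_assoc, ← Matrix.mulVec_mulVec, ← Matrix.mulVec_mulVec, Matrix.dotProduct_mulVec,
    Matrix.vecMul_transpose]

/-- conjugation by a rectangular invertible matrix -/
noncomputable def conjGL (P : Matrix ι' κ F) (P' : Matrix κ ι' F) (hPP' : P * P' = 1)
    (hP'P : P' * P = 1) : GL ι' F →* GL κ F where
  toFun g := ⟨P' * g.1 * P, P' * (g⁻¹).1 * P, by
      calc P' * g.1 * P * (P' * (g⁻¹).1 * P) = P' * (g.1 * (P * P') * (g⁻¹).1) * P := by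
            simp only [Matrix.mul_assoc]
        _ = 1 := by rw [hPP', Matrix.mul_one, gl_mul_inv, Matrix.mul_one, hP'P], by
      calc P' * (g⁻¹).1 * P * (P' * g.1 * P) = P' * ((g⁻¹).1 * (P * P') * g.1) * P := by
            simp only [Matrix.mul_assoc]
        _ = 1 := by rw [hPP', Matrix.mul_one, gl_inv_mul, Matrix.mul_one, hP'P]⟩
  map_one' := by
    apply Units.ext
    change P' * ((1 : GL ι' F) : Matrix ι' ι' F) * P = 1
    rw [Units.val_one, Matrix.mul_one, hP'P]
  map_mul' g h := by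
    apply Units.ext
    change P' * ((g * h : GL ι' F) : Matrix ι' ι' F) * P =
      (P' * (g : Matrix ι' ι' F) * P) * (P' * (h : Matrix ι' ι' F) * P)
    rw [Units.val_mul]
    calc P' * ((g : Matrix ι' ι' F) * (h : Matrix ι' ι' F)) * P
        = P' * ((g : Matrix ι' ι' F) * 1 * (h : Matrix ι' ι' F)) * P := by rw [Matrix.mul_one]
      _ = (P' * (g : Matrix ι' ι' F) * P) * (P' * (h : Matrix ι' ι' F) * P) := by
          rw [← hPP']
          simp only [Matrix.mul_assoc]

theorem conjGL_val (P : Matrix ι' κ F) (P' : Matrix κ ι' F) (hPP' : P * P' = 1)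
    (hP'P : P' * P = 1) (g : GL ι' F) :
    ((conjGL P P' hPP' hP'P g : GL κ F) : Matrix κ κ F) = P' * g.1 * P := rfl

/-- the centralizer of the inverse-transpose automorphism is the projective similarity group of
any quadratic form equivalent to the sum of squares -/
theorem cent_tP_iso (hn : 2 ≤ n) (h2 : (2 : F) ≠ 0) (Q' : (ι' → F) → F)
    (G' : Matrix ι' ι' F) (hQ' : ∀ v, Q' v = v ⬝ᵥ G' *ᵥ v)
    (P : Matrix ι' (Fin n) F) (P' : Matrix (Fin n) ι' F) (hPP' : P * P' = 1) (hP'P : P' * P = 1)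
    (hPG : Pᵀ * G' * P = 1) :
    Nonempty (↥(Cfsg.inndiagPSL n F ⊓ Subgroup.centralizer {(tP : MulAut PSLn)}) ≃*
      Cfsg.PGO F Q') := by
  classical
  have hQP : ∀ w : Fin n → F, Q' (P *ᵥ w) = w ⬝ᵥ w := by
    intro w
    rw [hQ', ← qf_congr_rect, hPG, Matrix.one_mulVec]
  have hPP'v : ∀ v : ι' → F, P *ᵥ (P' *ᵥ v) = v := by
    intro v
    rw [Matrix.mulVec_mulVec, hPP', Matrix.one_mulVec]
  obtain ⟨cj, hcj⟩ : ∃ cj : GL ι' F →* GL (Fin n) F,
      ∀ g' : GL ι' F, ((cj g' : GL (Fin n) F) : Matrix (Fin n) (Fin n) F) = P' * g'.1 * P := by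
    exact ⟨conjGL P P' hPP' hP'P, fun g' => rfl⟩
  obtain ⟨Ψ, hΨ⟩ : ∃ Ψ : ↥(Cfsg.Geo.quadSimilarityGroup (F := F) Q') →* MulAut PSLn,
      Ψ = (cP.comp cj).comp (Cfsg.Geo.quadSimilarityGroup (F := F) Q').subtype := ⟨_, rfl⟩
  have hΨa : ∀ g', Ψ g' = cP (cj g'.1) := fun g' => by rw [hΨ]; rfl
  have hmem : ∀ g : GL (Fin n) F, cP g ∈ Subgroup.centralizer {(tP : MulAut PSLn)} ↔
      ∃ c : F, g.1ᵀ * g.1 = c • (1 : Matrix (Fin n) (Fin n) F) := by
    intro g
    rw [← Subgroup.mem_comap, mem_cent_comap, comm_tP_iff hn]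
  have hrange : Ψ.range = Cfsg.inndiagPSL n F ⊓ Subgroup.centralizer {(tP : MulAut PSLn)} := by
    apply le_antisymm
    · rintro _ ⟨g', rfl⟩
      rw [hΨa]
      refine Subgroup.mem_inf.mpr ⟨?_, ?_⟩
      · rw [inndiag_eq_range]; exact ⟨_, rfl⟩
      · rw [hmem]
        obtain ⟨c, hc⟩ := g'.2
        refine ⟨(c : F), ?_⟩
        apply symm_ext h2
        · rw [Matrix.IsSymm, Matrix.transpose_mul, Matrix.transpose_transpose]
        · rw [Matrix.IsSymm, Matrix.transpose_smul, Matrix.transpose_one]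
        · intro w
          have e1 : ((cj g'.1 : GL (Fin n) F) : Matrix (Fin n) (Fin n) F)ᵀ *
              ((cj g'.1 : GL (Fin n) F) : Matrix (Fin n) (Fin n) F) =
              ((cj g'.1 : GL (Fin n) F) : Matrix (Fin n) (Fin n) F)ᵀ * 1 *
              ((cj g'.1 : GL (Fin n) F) : Matrix (Fin n) (Fin n) F) := by rw [Matrix.mul_one]
          rw [e1, qf_congr, Matrix.one_mulVec, ← hQP, hcj, ← Matrix.mulVec_mulVec,
            ← Matrix.mulVec_mulVec, hPP'v, hc, hQP, Matrix.smul_mulVec, Matrix.one_mulVec,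
            dotProduct_smul, smul_eq_mul]
    · rintro β ⟨hβ1, hβ2⟩
      rw [SetLike.mem_coe, inndiag_eq_range] at hβ1
      obtain ⟨g, rfl⟩ := hβ1
      obtain ⟨c, hc⟩ := (hmem g).mp hβ2
      have hc0 : c ≠ 0 := by
        intro h0
        rw [h0, zero_smul] at hc
        have h3 := congrArg Matrix.det hc
        haveI : Nonempty (Fin n) := ⟨⟨0, by omega⟩⟩
        rw [Matrix.det_mul, Matrix.det_transpose, Matrix.det_zero] at h3
        have h4 : (g.1 : Matrix (Fin n) (Fin n) F).det ≠ 0 :=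
          (Matrix.GeneralLinearGroup.det g).ne_zero
        exact mul_ne_zero h4 h4 h3
      obtain ⟨cj', hcj'⟩ : ∃ cj' : GL (Fin n) F →* GL ι' F,
          ∀ g : GL (Fin n) F, ((cj' g : GL ι' F) : Matrix ι' ι' F) = P * g.1 * P' := by
        exact ⟨conjGL P' P hP'P hPP', fun g => rfl⟩
      have hmemH : cj' g ∈ Cfsg.Geo.quadSimilarityGroup (F := F) Q' := by
        refine ⟨Units.mk0 c hc0, fun v => ?_⟩
        rw [hcj', ← Matrix.mulVec_mulVec, ← Matrix.mulVec_mulVec, hQP, Units.val_mk0]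
        have e1 : (g.1 *ᵥ P' *ᵥ v) ⬝ᵥ (g.1 *ᵥ P' *ᵥ v) =
            (P' *ᵥ v) ⬝ᵥ (g.1ᵀ * 1 * g.1) *ᵥ (P' *ᵥ v) := by
          rw [qf_congr, Matrix.one_mulVec]
        rw [e1, Matrix.mul_one, hc, Matrix.smul_mulVec, Matrix.one_mulVec, dotProduct_smul,
          smul_eq_mul, ← hQP, hPP'v]
      refine ⟨⟨cj' g, hmemH⟩, ?_⟩
      rw [hΨa]
      congr 1
      apply Units.ext
      rw [hcj, hcj']
      calc P' * (P * g.1 * P') * P = (P' * P) * g.1 * (P' * P) := by
            simp only [Matrix.mul_assoc]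
        _ = g.1 := by rw [hP'P, Matrix.one_mul, Matrix.mul_one]
  have hker : Ψ.ker = (Cfsg.Geo.scalars ι' F).subgroupOf
      (Cfsg.Geo.quadSimilarityGroup (F := F) Q') := by
    ext g'
    rw [MonoidHom.mem_ker, hΨa, Subgroup.mem_subgroupOf, Cfsg.Geo.mem_scalars_iff,
      ← MonoidHom.mem_ker (f := cP), cP_ker (card_fin_ge hn),
      Matrix.GeneralLinearGroup.mem_center_iff_val_mem_range_scalar]
    constructor
    · rintro ⟨μ, hμ⟩
      rw [scalar_eq_smul_one, hcj] at hμ
      have hg' : ((g'.1 : GL ι' F) : Matrix ι' ι' F) = μ • 1 := by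
        calc ((g'.1 : GL ι' F) : Matrix ι' ι' F)
            = (P * P') * ((g'.1 : GL ι' F) : Matrix ι' ι' F) * (P * P') := by
              rw [hPP', Matrix.one_mul, Matrix.mul_one]
          _ = P * (P' * ((g'.1 : GL ι' F) : Matrix ι' ι' F) * P) * P' := by
              simp only [Matrix.mul_assoc]
          _ = μ • 1 := by
              rw [← hμ, Matrix.mul_smul, Matrix.mul_one, Matrix.smul_mul, hPP']
      have hμ0 : μ ≠ 0 := by
        intro h0
        have h1 := gl_mul_inv g'.1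
        rw [hg', h0, zero_smul, Matrix.zero_mul] at h1
        have h3 := congrArg Matrix.det h1
        haveI : Nonempty ι' := by
          by_contra hne
          rw [not_nonempty_iff] at hne
          have : P' * P = 0 := by
            ext i j
            rw [Matrix.mul_apply, Finset.univ_eq_empty, Finset.sum_empty]
            rfl
          rw [this] at hP'P
          have := congrFun (congrFun hP'P ⟨0, by omega⟩) ⟨0, by omega⟩
          simp at this
        rw [Matrix.det_zero, Matrix.det_one] at h3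
        exact zero_ne_one h3
      exact ⟨Units.mk0 μ hμ0, hg'⟩
    · rintro ⟨c, hc⟩
      refine ⟨(c : F), ?_⟩
      rw [scalar_eq_smul_one, hcj, hc, Matrix.mul_smul, Matrix.mul_one, Matrix.smul_mul, hP'P]
  have e1 : ↥(Cfsg.Geo.quadSimilarityGroup (F := F) Q') ⧸ Ψ.ker ≃* ↥Ψ.range :=
    QuotientGroup.quotientKerEquivRange Ψ
  have e2 : ↥Ψ.range ≃* ↥(Cfsg.inndiagPSL n F ⊓ Subgroup.centralizer {(tP : MulAut PSLn)}) :=
    MulEquiv.subgroupCongr hrange
  have e3 : Cfsg.PGO F Q' ≃* ↥(Cfsg.Geo.quadSimilarityGroup (F := F) Q') ⧸ Ψ.ker :=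
    QuotientGroup.quotientMulEquivOfEq hker.symm
  exact ⟨(e3.trans (e1.trans e2)).symm⟩

end

section frame
variable {F : Type*} [Field F] {n : ℕ} {ι' : Type} [Fintype ι'] [DecidableEq ι']

/-- a congruence of a Gram matrix to the identity gives a rectangular frame -/
theorem exists_frame_of_congr (G' k : Matrix ι' ι' F) (hk : k.det ≠ 0) (hkG : kᵀ * G' * k = 1)
    (e : Fin n ≃ ι') :
    ∃ (P : Matrix ι' (Fin n) F) (P' : Matrix (Fin n) ι' F), P * P' = 1 ∧ P' * P = 1 ∧
      Pᵀ * G' * P = 1 := by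
  have hu : IsUnit k.det := isUnit_iff_ne_zero.mpr hk
  refine ⟨k.submatrix id e, (k⁻¹).submatrix e id, ?_, ?_, ?_⟩
  · rw [Matrix.submatrix_mul_equiv, Matrix.mul_nonsing_inv _ hu, Matrix.submatrix_id_id]
  · have : (k⁻¹).submatrix e id * k.submatrix id e =
        ((k⁻¹).submatrix e (Equiv.refl ι')) * (k.submatrix (Equiv.refl ι') e) := rfl
    rw [this, Matrix.submatrix_mul_equiv, Matrix.nonsing_inv_mul _ hu, Matrix.submatrix_one_equiv]
  · rw [Matrix.transpose_submatrix]
    have h1 : kᵀ.submatrix e id * G' = (kᵀ * G').submatrix e id := by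
      have : G' = G'.submatrix (Equiv.refl ι') id := (Matrix.submatrix_id_id G').symm
      conv_lhs => rw [this]
      have h3 : kᵀ.submatrix e id = kᵀ.submatrix e (Equiv.refl ι') := rfl
      rw [h3, Matrix.submatrix_mul_equiv]
    rw [h1]
    have h2 : (kᵀ * G').submatrix e id * k.submatrix id e =
        (kᵀ * G').submatrix e (Equiv.refl ι') * k.submatrix (Equiv.refl ι') e := rfl
    rw [h2, Matrix.submatrix_mul_equiv, hkG, Matrix.submatrix_one_equiv]

end frame

section gram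
variable {F : Type*} [Field F] (m : ℕ)

/-- the Gram matrix of the plus type form -/
def gramPlus : Matrix (Fin m ⊕ Fin m) (Fin m ⊕ Fin m) F :=
  Matrix.fromBlocks 0 ((2 : F)⁻¹ • (1 : Matrix (Fin m) (Fin m) F))
    ((2 : F)⁻¹ • (1 : Matrix (Fin m) (Fin m) F)) 0

theorem gramPlus_symm : (gramPlus (F := F) m).IsSymm := by
  unfold gramPlus
  rw [Matrix.IsSymm, Matrix.fromBlocks_transpose]
  simp

theorem gramPlus_apply (h2 : (2 : F) ≠ 0) (v : Fin m ⊕ Fin m → F) :
    Cfsg.quadFormPlus m F v = v ⬝ᵥ gramPlus m *ᵥ v := by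
  unfold Cfsg.quadFormPlus gramPlus
  rw [Matrix.fromBlocks_mulVec]
  simp only [dotProduct, Fintype.sum_sum_type, Sum.elim_inl, Sum.elim_inr, Matrix.zero_mulVec,
    zero_add, add_zero, Matrix.smul_mulVec, Matrix.one_mulVec, Pi.smul_apply, smul_eq_mul,
    Function.comp]
  rw [← Finset.sum_add_distrib]
  apply Finset.sum_congr rfl
  intro i _
  field_simp
  ring

theorem gramPlus_det : (gramPlus (F := F) m).det = (-1) ^ m * ((2 : F)⁻¹ ^ m * (2 : F)⁻¹ ^ m) := by
  unfold gramPlus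
  rw [Cfsg.Agent.Lib.Helper6.det_fromBlocks_zero₁₁', Matrix.det_smul, Matrix.det_one,
    mul_one, Fintype.card_fin]

/-- the Gram matrix of the minus type form with binary part `z₁² + z₂²` -/
def gramMinus : Matrix ((Fin m ⊕ Fin m) ⊕ Fin 2) ((Fin m ⊕ Fin m) ⊕ Fin 2) F :=
  Matrix.fromBlocks (gramPlus m) 0 0 (1 : Matrix (Fin 2) (Fin 2) F)

theorem gramMinus_symm : (gramMinus (F := F) m).IsSymm := by
  unfold gramMinus
  rw [Matrix.IsSymm, Matrix.fromBlocks_transpose, (gramPlus_symm m).eq]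
  simp

theorem gramMinus_apply (h2 : (2 : F) ≠ 0) (v : (Fin m ⊕ Fin m) ⊕ Fin 2 → F) :
    Cfsg.quadFormMinus m F 0 1 v = v ⬝ᵥ gramMinus m *ᵥ v := by
  unfold Cfsg.quadFormMinus gramMinus
  rw [Matrix.fromBlocks_mulVec]
  have h1 := gramPlus_apply m h2 (fun k => v (Sum.inl k))
  unfold Cfsg.quadFormPlus at h1
  rw [h1]
  have h3 : (fun k => v (Sum.inl k)) = v ∘ Sum.inl := rfl
  rw [h3]
  simp only [dotProduct, Fintype.sum_sum_type, Sum.elim_inl, Sum.elim_inr, Matrix.zero_mulVec,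
    add_zero, zero_add, Matrix.one_mulVec, Fin.sum_univ_two, Function.comp]
  ring

theorem gramMinus_det : (gramMinus (F := F) m).det = (gramPlus (F := F) m).det := by
  unfold gramMinus
  rw [Matrix.det_fromBlocks_zero₁₂, Matrix.det_one, mul_one]

end gram

section main
variable {F : Type*} [Field F] [Fintype F]

theorem isSquare_gramPlus_det (m : ℕ) (h : IsSquare ((-1 : F) ^ m)) :
    IsSquare (gramPlus (F := F) m).det := by
  rw [gramPlus_det]
  exact h.mul ⟨_, rfl⟩

theorem gramPlus_det_ne_zero (m : ℕ) (h2 : (2 : F) ≠ 0) : (gramPlus (F := F) m).det ≠ 0 := by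
  rw [gramPlus_det]
  have h1 : ((2 : F)⁻¹) ^ m ≠ 0 := pow_ne_zero _ (inv_ne_zero h2)
  exact mul_ne_zero (pow_ne_zero _ (neg_ne_zero.mpr one_ne_zero)) (mul_ne_zero h1 h1)

/-- the centralizer of the inverse-transpose automorphism in `PGL_n`, `n` even, `q` odd -/
theorem main (hodd : Odd (Fintype.card F)) {n m : ℕ} (hm : 2 ≤ m) (hnm : n = 2 * m)
    (ι : MulAut (Matrix.ProjectiveSpecialLinearGroup (Fin n) F))
    (hι : Cfsg.IsInverseTransposeAutPSL ι) :
    (Even (n * (Fintype.card F - 1) / 4) →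
      Nonempty (↥(Cfsg.inndiagPSL n F ⊓ Subgroup.centralizer {ι}) ≃*
        Cfsg.PGO F (Cfsg.quadFormPlus m F))) ∧
    (¬ Even (n * (Fintype.card F - 1) / 4) → ∃ a b : F,
      (∀ z₁ z₂ : F, z₁ ^ 2 + a * z₁ * z₂ + b * z₂ ^ 2 = 0 → z₁ = 0 ∧ z₂ = 0) ∧
      Nonempty (↥(Cfsg.inndiagPSL n F ⊓ Subgroup.centralizer {ι}) ≃*
        Cfsg.PGO F (Cfsg.quadFormMinus (m - 1) F a b))) := by
  classical
  have hιe := eq_tP_of_isInvT ι hι
  subst hιe
  subst hnm
  have hn : 2 ≤ 2 * m := by omega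
  have h2 : (2 : F) ≠ 0 := by
    have hch : ringChar F ≠ 2 := by
      intro h
      have := FiniteField.even_card_of_char_two h
      rw [← Nat.even_iff] at this
      exact (Nat.not_even_iff_odd.mpr hodd) this
    exact Ring.two_ne_zero hch
  obtain ⟨t, ht⟩ := hodd
  have hval : 2 * m * (Fintype.card F - 1) / 4 = m * t := by
    rw [ht, Nat.add_sub_cancel]
    have : 2 * m * (2 * t) = 4 * (m * t) := by ring
    rw [this, Nat.mul_div_cancel_left _ (by norm_num : 0 < 4)]
  rw [hval]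
  constructor
  · intro hev
    have hsq : IsSquare ((-1 : F) ^ m) := by
      rcases Nat.even_mul.mp hev with he | he
      · exact he.isSquare_pow _
      · apply IsSquare.pow
        rw [FiniteField.isSquare_neg_one_iff, ht]
        obtain ⟨s, rfl⟩ := he
        omega
    have hcard : Fintype.card (Fin m ⊕ Fin m) = 2 * m := by
      rw [Fintype.card_sum, Fintype.card_fin]; ring
    obtain ⟨k, hk, hkG⟩ := symm_congr_one h2 (2 * m - 1) (by rw [hcard]; omega)
      (gramPlus (F := F) m) (gramPlus_symm m) (gramPlus_det_ne_zero m h2)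
      (isSquare_gramPlus_det m hsq)
    obtain ⟨P, P', hPP', hP'P, hPG⟩ := exists_frame_of_congr (gramPlus (F := F) m) k hk hkG
      (Fintype.equivFinOfCardEq hcard).symm
    exact cent_tP_iso hn h2 (Cfsg.quadFormPlus m F) (gramPlus m) (gramPlus_apply m h2) P P'
      hPP' hP'P hPG
  · intro hnev
    rw [Nat.not_even_iff_odd, Nat.odd_mul] at hnev
    obtain ⟨hmo, hto⟩ := hnev
    have hq3 : Fintype.card F % 4 = 3 := by
      rw [ht]
      obtain ⟨s, rfl⟩ := hto
      omega
    have hneg : ¬ IsSquare (-1 : F) := by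
      rw [FiniteField.isSquare_neg_one_iff]
      omega
    refine ⟨0, 1, ?_, ?_⟩
    · intro z₁ z₂ h
      rw [zero_mul, zero_mul, add_zero, one_mul] at h
      by_cases hz : z₂ = 0
      · rw [hz] at h
        refine ⟨?_, hz⟩
        have : z₁ ^ 2 = 0 := by linear_combination h
        exact pow_eq_zero_iff (by norm_num) |>.mp this
      · exfalso
        apply hneg
        refine ⟨z₁ / z₂, ?_⟩
        field_simp
        linear_combination -h
    · have hsq : IsSquare ((-1 : F) ^ (m - 1)) := by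
        obtain ⟨s, rfl⟩ := hmo
        rw [Nat.add_sub_cancel]
        exact (even_two_mul s).isSquare_pow _
      have hcard : Fintype.card ((Fin (m - 1) ⊕ Fin (m - 1)) ⊕ Fin 2) = 2 * m := by
        rw [Fintype.card_sum, Fintype.card_sum, Fintype.card_fin, Fintype.card_fin]; omega
      obtain ⟨k, hk, hkG⟩ := symm_congr_one h2 (2 * m - 1) (by rw [hcard]; omega)
        (gramMinus (F := F) (m - 1)) (gramMinus_symm (m - 1))
        (by rw [gramMinus_det]; exact gramPlus_det_ne_zero (m - 1) h2)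
        (by rw [gramMinus_det]; exact isSquare_gramPlus_det (m - 1) hsq)
      obtain ⟨P, P', hPP', hP'P, hPG⟩ := exists_frame_of_congr (gramMinus (F := F) (m - 1)) k hk
        hkG (Fintype.equivFinOfCardEq hcard).symm
      exact cent_tP_iso hn h2 (Cfsg.quadFormMinus (m - 1) F 0 1) (gramMinus (m - 1))
        (gramMinus_apply (m - 1) h2) P P' hPP' hP'P hPG

end main

end Cfsg.Agent.Lib.Helper16.GraphCentPSL
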