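import Mathlib
import Cfsg.Agent.Lib.Helper16.FieldCentPSU
import Cfsg.Agent.Lib.Helper16.GraphCentPSL

/-!
# The centralizer in `PGU_n(q)` of the `q`-power field automorphism of `PSU_n(q)`, `q` odd
-/

set_option autoImplicit false
set_option linter.unusedSectionVars false
set_option linter.unusedVariables false
set_option linter.style.haveILetI false

namespace Cfsg.Agent.Lib.Helper16.GraphCentPSU

open Matrix Cfsg Cfsg.Agent.Lib.Helper6 Cfsg.Agent.Lib.Helper6.AutPSU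
  Cfsg.Agent.Lib.Helper16.H90GL
  Cfsg.Agent.Lib.Helper16.GraphFieldCoset Cfsg.Agent.Lib.Helper16.UnitaryDescent
  Cfsg.Agent.Lib.Helper16.FieldCosetPSU Cfsg.Agent.Lib.Helper16.SplitCount
  Cfsg.Agent.Lib.Helper16.FieldCentPSU Cfsg.Agent.Lib.Helper16.OrthClassify
  Cfsg.Agent.Lib.Helper16.GraphCentPSL
open Cfsg.Agent.Lib.Helper6.AutPSL (sG sG_val gl_mul_inv gl_inv_mul)
open Cfsg.Agent.Lib.Helper16.FieldCentPSL (mem_cent_comap gl_ne_zero)
open Cfsg.Agent.Lib.Helper16.FieldCoset (card_fin_ge scalar_eq_smul_one)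

variable {F : Type*} [Field F] [Fintype F] {q n : ℕ}

section main
variable (p : ℕ) [hp : Fact p.Prime] [CharP F p] (hF : Fintype.card F = q ^ 2) (hn : 3 ≤ n)
  {F₀ : Type*} [Field F₀] [Fintype F₀] (j : F₀ →+* F)
  (hj : ∀ a : F, tauA hF a = a ↔ a ∈ Set.range j)

theorem map_smul_one {κ : Type*} [DecidableEq κ] (c₀ : F₀) :
    (c₀ • (1 : Matrix κ κ F₀)).map j = j c₀ • (1 : Matrix κ κ F) := by
  ext s t
  simp only [Matrix.map_apply, Matrix.smul_apply, Matrix.one_apply, smul_eq_mul]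
  split_ifs <;> simp

include hj in
theorem hs_map_j (M₀ : Matrix (Fin n) (Fin n) F₀) :
    hs (tauA hF) (M₀.map j) = (M₀ᵀ).map j := by
  ext s t
  rw [hs_apply, Matrix.map_apply, Matrix.map_apply, Matrix.transpose_apply]
  exact (hj _).mpr ⟨_, rfl⟩

include hj in
/-- lifting a similarity of the sum of squares over the fixed field to a unitary matrix -/
theorem exists_lift (M₀ : Matrix (Fin n) (Fin n) F₀) (c₀ : F₀) (hc₀ : c₀ ≠ 0)
    (h : M₀ᵀ * M₀ = c₀ • (1 : Matrix (Fin n) (Fin n) F₀)) :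
    ∃ (g : ↥(Cfsg.GU n F q)) (a : F), a ≠ 0 ∧ g.1.1 = a • M₀.map j := by
  have hτ2 := tauA_tauA hF
  have hτ' : ((tauA hF : RingAut F) : F →+* F) ≠ RingHom.id F := by
    intro h'
    apply tauA_ne_one hF
    apply RingEquiv.ext
    intro a
    exact DFunLike.congr_fun h' a
  have hc : j c₀ ≠ 0 := (map_ne_zero j).mpr hc₀
  have hfix : tauA hF (j c₀)⁻¹ = (j c₀)⁻¹ := by
    rw [map_inv₀, (hj _).mpr ⟨c₀, rfl⟩]
  obtain ⟨a, ha⟩ := Cfsg.Agent.Lib.Helper6.exists_norm ((tauA hF : RingAut F) : F →+* F) hτ' hτ2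
    (j c₀)⁻¹ (inv_ne_zero hc) hfix
  have ha' : a * tauA hF a = (j c₀)⁻¹ := ha
  have ha0 : a ≠ 0 := by
    rintro rfl
    rw [zero_mul] at ha'
    exact inv_ne_zero hc ha'.symm
  have hU : hs (tauA hF) (a • M₀.map j) * (a • M₀.map j) = 1 := by
    rw [hs_smul, Matrix.smul_mul, Matrix.mul_smul, smul_smul, hs_map_j hF j hj, ← Matrix.map_mul, h,
      mul_comm (tauA hF a), ha', map_smul_one, smul_smul, inv_mul_cancel₀ hc, one_smul]
  obtain ⟨g, hg⟩ := exists_GU_of_pres hF (a • M₀.map j) (pres_of_hs hF _ hU)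
  exact ⟨g, a, ha0, hg⟩

variable {ι' : Type} [Fintype ι'] [DecidableEq ι']

set_option maxHeartbeats 1600000 in
include hp hn hj in
/-- the centralizer of the `q`-power field automorphism in `PGU_n(q)` is the projective similarity
group over the fixed field of any quadratic form equivalent to the sum of squares -/
theorem cent_fU_iso (h2₀ : (2 : F₀) ≠ 0) (Q' : (ι' → F₀) → F₀)
    (G' : Matrix ι' ι' F₀) (hQ' : ∀ v, Q' v = v ⬝ᵥ G' *ᵥ v)
    (P : Matrix ι' (Fin n) F₀) (P' : Matrix (Fin n) ι' F₀) (hPP' : P * P' = 1) (hP'P : P' * P = 1)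
    (hPG : Pᵀ * G' * P = 1) :
    Nonempty (↥(Cfsg.inndiagPSU n F q ⊓ Subgroup.centralizer {fU (tauA hF)}) ≃*
      Cfsg.PGO F₀ Q') := by
  classical
  have hjinj : Function.Injective j := RingHom.injective j
  have hιinj : Function.Injective (fun M : Matrix (Fin n) (Fin n) F₀ => M.map j) :=
    Matrix.map_injective hjinj
  have hn1 : 1 ≤ n := by omega
  have hjfix : ∀ b : F₀, tauA hF (j b) = j b := fun b => (hj _).mpr ⟨b, rfl⟩
  have hQP : ∀ w : Fin n → F₀, Q' (P *ᵥ w) = w ⬝ᵥ w := by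
    intro w
    rw [hQ', ← qf_congr_rect, hPG, Matrix.one_mulVec]
  have hPP'v : ∀ v : ι' → F₀, P *ᵥ (P' *ᵥ v) = v := by
    intro v
    rw [Matrix.mulVec_mulVec, hPP', Matrix.one_mulVec]
  -- similarities of `Q'` become similarities of the sum of squares
  have hsim : ∀ g' : ↥(Cfsg.Geo.quadSimilarityGroup (F := F₀) Q'), ∃ c₀ : F₀, c₀ ≠ 0 ∧
      (P' * ((g'.1 : GL ι' F₀) : Matrix ι' ι' F₀) * P)ᵀ *
        (P' * ((g'.1 : GL ι' F₀) : Matrix ι' ι' F₀) * P) =
        c₀ • (1 : Matrix (Fin n) (Fin n) F₀) := by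
    intro g'
    obtain ⟨c, hc⟩ := g'.2
    refine ⟨(c : F₀), Units.ne_zero c, ?_⟩
    apply symm_ext h2₀
    · rw [Matrix.IsSymm, Matrix.transpose_mul, Matrix.transpose_transpose]
    · rw [Matrix.IsSymm, Matrix.transpose_smul, Matrix.transpose_one]
    · intro w
      have e1 : (P' * ((g'.1 : GL ι' F₀) : Matrix ι' ι' F₀) * P)ᵀ *
          (P' * ((g'.1 : GL ι' F₀) : Matrix ι' ι' F₀) * P) =
          (P' * ((g'.1 : GL ι' F₀) : Matrix ι' ι' F₀) * P)ᵀ * 1 *
          (P' * ((g'.1 : GL ι' F₀) : Matrix ι' ι' F₀) * P) := by rw [Matrix.mul_one]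
      rw [e1, qf_congr, Matrix.one_mulVec, ← hQP, ← Matrix.mulVec_mulVec,
        ← Matrix.mulVec_mulVec, hPP'v, hc, hQP, Matrix.smul_mulVec, Matrix.one_mulVec,
        dotProduct_smul, smul_eq_mul]
  have hlift : ∀ g' : ↥(Cfsg.Geo.quadSimilarityGroup (F := F₀) Q'),
      ∃ (g : ↥(Cfsg.GU n F q)) (a : F), a ≠ 0 ∧
        g.1.1 = a • (P' * ((g'.1 : GL ι' F₀) : Matrix ι' ι' F₀) * P).map j := by
    intro g'
    obtain ⟨c₀, hc₀, h⟩ := hsim g'
    exact exists_lift hF j hj _ c₀ hc₀ h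
  choose L aL haL hL using hlift
  have hmulP : ∀ g' h' : ↥(Cfsg.Geo.quadSimilarityGroup (F := F₀) Q'),
      P' * (((g' * h' : ↥(Cfsg.Geo.quadSimilarityGroup (F := F₀) Q')).1 : GL ι' F₀) :
        Matrix ι' ι' F₀) * P =
      (P' * ((g'.1 : GL ι' F₀) : Matrix ι' ι' F₀) * P) *
        (P' * ((h'.1 : GL ι' F₀) : Matrix ι' ι' F₀) * P) := by
    intro g' h'
    change P' * (((g'.1 : GL ι' F₀) : Matrix ι' ι' F₀) * ((h'.1 : GL ι' F₀) : Matrix ι' ι' F₀)) *
      P = _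
    calc P' * (((g'.1 : GL ι' F₀) : Matrix ι' ι' F₀) * ((h'.1 : GL ι' F₀) : Matrix ι' ι' F₀)) * P
        = P' * (((g'.1 : GL ι' F₀) : Matrix ι' ι' F₀) * 1 *
            ((h'.1 : GL ι' F₀) : Matrix ι' ι' F₀)) * P := by rw [Matrix.mul_one]
      _ = _ := by
          rw [← hPP']
          simp only [Matrix.mul_assoc]
  obtain ⟨Ψ, hΨa⟩ : ∃ Ψ : ↥(Cfsg.Geo.quadSimilarityGroup (F := F₀) Q') →*
      MulAut (Cfsg.PSU n F q), ∀ g', Ψ g' = cU (L g') := by
    refine ⟨MonoidHom.mk' (fun g' => cU (L g')) ?_, fun g' => rfl⟩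
    intro g' h'
    rw [← map_mul, cU_eq_iff p hF hn]
    refine ⟨aL (g' * h') / (aL g' * aL h'), ?_⟩
    change (L (g' * h')).1.1 = _ • ((L g').1.1 * (L h').1.1)
    rw [hL, hL, hL, hmulP, Matrix.map_mul, Matrix.smul_mul, Matrix.mul_smul, smul_smul, smul_smul]
    congr 1
    have h1 := haL g'
    have h3 := haL h'
    field_simp
  have hmem : ∀ g : ↥(Cfsg.GU n F q), cU g ∈ Subgroup.centralizer {fU (tauA hF)} ↔
      ∃ μ : F, g.1.1.map (tauA hF) = μ • g.1.1 := by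
    intro g
    rw [← Subgroup.mem_comap, mem_cent_comap, FieldCentPSU.comm_iff p hF hn]
  have hrange : Ψ.range = Cfsg.inndiagPSU n F q ⊓ Subgroup.centralizer {fU (tauA hF)} := by
    apply le_antisymm
    · rintro _ ⟨g', rfl⟩
      rw [hΨa]
      refine Subgroup.mem_inf.mpr ⟨?_, ?_⟩
      · rw [inndiag_eq_range]; exact ⟨_, rfl⟩
      · rw [hmem]
        refine ⟨tauA hF (aL g') / aL g', ?_⟩
        rw [hL]
        ext s t
        simp only [Matrix.map_apply, Matrix.smul_apply, smul_eq_mul, map_mul, hjfix]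
        have := haL g'
        field_simp
    · intro β hβ
      obtain ⟨hβ1, hβ2⟩ := Subgroup.mem_inf.mp hβ
      rw [inndiag_eq_range] at hβ1
      obtain ⟨g, rfl⟩ := hβ1
      obtain ⟨μ, hμ⟩ := (hmem g).mp hβ2
      obtain ⟨a₀, ha₀0, ha₀⟩ := FieldCentPSL.exists_fixed_mul hn1 (tauA hF) g.1 μ hμ
      have hent : ∀ s t, ∃ b : F₀, j b = (a₀ • g.1.1) s t := by
        intro s t
        have h1 : tauA hF ((a₀ • g.1.1) s t) = (a₀ • g.1.1) s t := by
          have := congrFun (congrFun ha₀ s) t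
          rwa [Matrix.map_apply] at this
        obtain ⟨b, hb⟩ := (hj _).mp h1
        exact ⟨b, hb⟩
      choose M₀ hM₀ using hent
      have hM₀' : (Matrix.of M₀).map j = a₀ • g.1.1 := by
        ext s t
        rw [Matrix.map_apply, Matrix.of_apply, hM₀]
      obtain ⟨c, hc⟩ : ∃ c, c = tauA hF a₀ * a₀ := ⟨_, rfl⟩
      have hc0 : c ≠ 0 := by rw [hc]; exact mul_ne_zero ((map_ne_zero _).mpr ha₀0) ha₀0
      have hτc : tauA hF c = c := by rw [hc, map_mul, tauA_tauA, mul_comm]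
      obtain ⟨c₀, hc₀⟩ := (hj c).mp hτc
      have hc₀0 : c₀ ≠ 0 := by
        rintro rfl
        rw [map_zero] at hc₀
        exact hc0 hc₀.symm
      have hMM : (Matrix.of M₀)ᵀ * Matrix.of M₀ = c₀ • (1 : Matrix (Fin n) (Fin n) F₀) := by
        apply hιinj
        simp only
        rw [Matrix.map_mul, ← hs_map_j hF j hj, hM₀', hs_smul, Matrix.smul_mul, Matrix.mul_smul,
          smul_smul, mem_GU_hs hF g, ← hc, map_smul_one, hc₀]
      have hMM' : Matrix.of M₀ * (c₀⁻¹ • (Matrix.of M₀)ᵀ) = 1 := by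
        rw [mul_eq_one_comm, Matrix.smul_mul, hMM, smul_smul, inv_mul_cancel₀ hc₀0, one_smul]
      obtain ⟨G₀, hG₀⟩ : ∃ G₀ : GL (Fin n) F₀, (G₀ : Matrix (Fin n) (Fin n) F₀) = Matrix.of M₀ :=
        ⟨⟨Matrix.of M₀, c₀⁻¹ • (Matrix.of M₀)ᵀ, hMM', mul_eq_one_comm.mp hMM'⟩, rfl⟩
      have hmemH : conjGL P' P hP'P hPP' G₀ ∈ Cfsg.Geo.quadSimilarityGroup (F := F₀) Q' := by
        refine ⟨Units.mk0 c₀ hc₀0, fun v => ?_⟩
        rw [conjGL_val, ← Matrix.mulVec_mulVec, ← Matrix.mulVec_mulVec, hQP, Units.val_mk0, hG₀]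
        have e1 : (Matrix.of M₀ *ᵥ P' *ᵥ v) ⬝ᵥ (Matrix.of M₀ *ᵥ P' *ᵥ v) =
            (P' *ᵥ v) ⬝ᵥ ((Matrix.of M₀)ᵀ * 1 * Matrix.of M₀) *ᵥ (P' *ᵥ v) := by
          rw [qf_congr, Matrix.one_mulVec]
        rw [e1, Matrix.mul_one, hMM, Matrix.smul_mulVec, Matrix.one_mulVec, dotProduct_smul,
          smul_eq_mul, ← hQP, hPP'v]
      refine ⟨⟨conjGL P' P hP'P hPP' G₀, hmemH⟩, ?_⟩
      rw [hΨa, cU_eq_iff p hF hn]
      refine ⟨aL ⟨conjGL P' P hP'P hPP' G₀, hmemH⟩ * a₀, ?_⟩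
      rw [hL]
      change _ • (P' * (P * (G₀ : Matrix (Fin n) (Fin n) F₀) * P') * P).map j = _
      have e2 : P' * (P * (G₀ : Matrix (Fin n) (Fin n) F₀) * P') * P =
          (G₀ : Matrix (Fin n) (Fin n) F₀) := by
        calc P' * (P * (G₀ : Matrix (Fin n) (Fin n) F₀) * P') * P
            = (P' * P) * (G₀ : Matrix (Fin n) (Fin n) F₀) * (P' * P) := by
              simp only [Matrix.mul_assoc]
          _ = _ := by rw [hP'P, Matrix.one_mul, Matrix.mul_one]
      rw [e2, hG₀, hM₀', smul_smul]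
  have hker : Ψ.ker = (Cfsg.Geo.scalars ι' F₀).subgroupOf
      (Cfsg.Geo.quadSimilarityGroup (F := F₀) Q') := by
    ext g'
    rw [MonoidHom.mem_ker, hΨa, Subgroup.mem_subgroupOf, Cfsg.Geo.mem_scalars_iff,
      cU_eq_one_iff p hF hn, hL]
    constructor
    · rintro ⟨μ, hμ⟩
      let i0 : Fin n := ⟨0, by omega⟩
      obtain ⟨N₀, hN₀⟩ : ∃ N₀ : Matrix (Fin n) (Fin n) F₀,
          N₀ = P' * ((g'.1 : GL ι' F₀) : Matrix ι' ι' F₀) * P := ⟨_, rfl⟩
      rw [← hN₀] at hμ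
      have ha := haL g'
      have hμ0 : j (N₀ i0 i0) = μ / aL g' := by
        have := congrFun (congrFun hμ i0) i0
        rw [Matrix.smul_apply, Matrix.map_apply, Matrix.smul_apply, Matrix.one_apply, if_pos rfl,
          smul_eq_mul, smul_eq_mul, mul_one] at this
        field_simp
        linear_combination this
      have hN : N₀ = (N₀ i0 i0) • (1 : Matrix (Fin n) (Fin n) F₀) := by
        apply hιinj
        simp only
        ext s t
        have h1 := congrFun (congrFun hμ s) t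
        rw [Matrix.smul_apply, Matrix.map_apply, Matrix.smul_apply, Matrix.one_apply,
          smul_eq_mul, smul_eq_mul] at h1
        rw [Matrix.map_apply, Matrix.map_apply, Matrix.smul_apply, Matrix.one_apply]
        by_cases hst : s = t
        · rw [if_pos hst] at h1 ⊢
          rw [smul_eq_mul, mul_one, hμ0]
          field_simp
          linear_combination h1
        · rw [if_neg hst] at h1 ⊢
          rw [smul_zero, map_zero]
          rw [mul_zero] at h1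
          rcases mul_eq_zero.mp h1 with h | h
          · exact absurd h ha
          · exact h
      obtain ⟨ν, hν⟩ : ∃ ν : F₀, ν = N₀ i0 i0 := ⟨_, rfl⟩
      rw [← hν] at hN hμ0
      have hg' : ((g'.1 : GL ι' F₀) : Matrix ι' ι' F₀) = ν • 1 := by
        calc ((g'.1 : GL ι' F₀) : Matrix ι' ι' F₀)
            = (P * P') * ((g'.1 : GL ι' F₀) : Matrix ι' ι' F₀) * (P * P') := by
              rw [hPP', Matrix.one_mul, Matrix.mul_one]
          _ = P * (P' * ((g'.1 : GL ι' F₀) : Matrix ι' ι' F₀) * P) * P' := by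
              simp only [Matrix.mul_assoc]
          _ = ν • 1 := by
              rw [← hN₀, hN, Matrix.mul_smul, Matrix.mul_one, Matrix.smul_mul, hPP']
      have h0 : ν ≠ 0 := by
        intro h0
        rw [h0, zero_smul] at hg'
        have h1 := gl_mul_inv g'.1
        rw [hg', Matrix.zero_mul] at h1
        have h3 := congrArg (fun M => P' * M * P) h1
        simp only [Matrix.mul_zero, Matrix.zero_mul, Matrix.mul_one, hP'P] at h3
        have := congrFun (congrFun h3 i0) i0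
        simp at this
      exact ⟨Units.mk0 _ h0, hg'⟩
    · rintro ⟨c, hc⟩
      refine ⟨aL g' * j c, ?_⟩
      rw [hc, Matrix.mul_smul, Matrix.mul_one, Matrix.smul_mul, hP'P, map_smul_one, smul_smul]
  have e1 : ↥(Cfsg.Geo.quadSimilarityGroup (F := F₀) Q') ⧸ Ψ.ker ≃* ↥Ψ.range :=
    QuotientGroup.quotientKerEquivRange Ψ
  have e2 : ↥Ψ.range ≃* ↥(Cfsg.inndiagPSU n F q ⊓ Subgroup.centralizer {fU (tauA hF)}) :=
    MulEquiv.subgroupCongr hrange
  have e3 : Cfsg.PGO F₀ Q' ≃* ↥(Cfsg.Geo.quadSimilarityGroup (F := F₀) Q') ⧸ Ψ.ker :=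
    QuotientGroup.quotientMulEquivOfEq hker.symm
  exact ⟨(e3.trans (e1.trans e2)).symm⟩

end main

section final
variable {F : Type*} [Field F] [Fintype F]

/-- the centralizer of the `q`-power field automorphism in `PGU_n(q)`, `4 ∣ n`, `q` odd -/
theorem main {q : ℕ} (hodd : Odd q) (hF : Fintype.card F = q ^ 2) {n m : ℕ} (hm : 2 ≤ m)
    (hnm : n = 2 * m) (h4 : 4 ∣ n) (F₀ : Type*) [Field F₀] [Fintype F₀]
    (hF₀ : Fintype.card F₀ = q) (σ : F ≃+* F) (hσ : ∀ a : F, σ a = a ^ q)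
    (φ : MulAut (Cfsg.PSU n F q)) (hφ : Cfsg.IsFieldAutPSUOf σ φ) :
    Nonempty (↥(Cfsg.inndiagPSU n F q ⊓ Subgroup.centralizer {φ}) ≃*
      Cfsg.PGO F₀ (Cfsg.quadFormPlus m F₀)) := by
  classical
  have hφe := eq_fU_of_isFieldAut σ φ hφ
  have hσe : σ = tauA hF := by
    apply RingEquiv.ext
    intro a
    rw [hσ, tauA_apply]
  subst hφe
  subst hσe
  subst hnm
  have hn : 3 ≤ 2 * m := by omega
  obtain ⟨p, hp, hcp⟩ := Cfsg.Agent.Lib.Helper6.AutOrt.exists_char F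
  haveI : Fact p.Prime := ⟨hp⟩
  haveI := hcp
  obtain ⟨k, -, hk⟩ := FiniteField.card F p
  have hq2 : q ^ 2 = p ^ (k : ℕ) := by rw [← hF, hk]
  obtain ⟨i, -, hi⟩ := (Nat.dvd_prime_pow hp).mp (⟨q, by rw [← hq2]; ring⟩ : q ∣ p ^ (k : ℕ))
  have hki : (k : ℕ) = i * 2 := by
    rw [hi, ← pow_mul] at hq2
    exact (Nat.pow_right_injective hp.two_le hq2).symm
  have hF2 : Fintype.card F = p ^ (i * 2) := by rw [hk, hki]
  have hτord : orderOf (tauA hF) = 2 := by
    apply orderOf_eq_prime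
    · apply RingEquiv.ext
      intro a
      rw [pow_two]
      exact tauA_tauA hF a
    · exact tauA_ne_one hF
  obtain ⟨j, hj⟩ := exists_embedding hF2 (tauA hF) 2 hτord (by norm_num) F₀
    (by rw [Nat.mul_div_cancel _ (by norm_num : 0 < 2), hF₀, hi])
  have h2₀ : (2 : F₀) ≠ 0 := by
    have hch : ringChar F₀ ≠ 2 := by
      intro h
      have := FiniteField.even_card_of_char_two h
      rw [← Nat.even_iff, hF₀] at this
      exact (Nat.not_even_iff_odd.mpr hodd) this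
    exact Ring.two_ne_zero hch
  have hmev : Even m := by
    obtain ⟨t, ht⟩ := h4
    exact ⟨t, by omega⟩
  have hsq : IsSquare ((-1 : F₀) ^ m) := hmev.isSquare_pow _
  have hcard : Fintype.card (Fin m ⊕ Fin m) = 2 * m := by
    rw [Fintype.card_sum, Fintype.card_fin]; ring
  obtain ⟨kk, hkk, hkG⟩ := symm_congr_one h2₀ (2 * m - 1) (by rw [hcard]; omega)
    (gramPlus (F := F₀) m) (gramPlus_symm m) (gramPlus_det_ne_zero m h2₀)
    (isSquare_gramPlus_det m hsq)
  obtain ⟨P, P', hPP', hP'P, hPG⟩ := exists_frame_of_congr (gramPlus (F := F₀) m) kk hkk hkG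
    (Fintype.equivFinOfCardEq hcard).symm
  exact cent_fU_iso p hF hn j hj h2₀ (Cfsg.quadFormPlus m F₀) (gramPlus m) (gramPlus_apply m h2₀)
    P P' hPP' hP'P hPG

end final

end Cfsg.Agent.Lib.Helper16.GraphCentPSU
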