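import Mathlib
import Cfsg.Agent.Lib.Helper16.GraphCentPSU

/-!
# Involutory graph automorphisms of `PSU_n(q)`: the general algebra (I)

A graph automorphism of order two is `cU g * fU τ`, `τ` the `q`-th power map, with `g τ(g) = ±1`.
Conjugation by `cU h` replaces `g` by `h g τ(h)⁻¹`.
-/

set_option autoImplicit false
set_option linter.unusedSectionVars false
set_option linter.unusedVariables false
set_option linter.style.haveILetI false

namespace Cfsg.Agent.Lib.Helper16.GraphInvPSU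

open Matrix Cfsg Cfsg.Agent.Lib.Helper6 Cfsg.Agent.Lib.Helper6.AutPSU
  Cfsg.Agent.Lib.Helper16.H90GL
  Cfsg.Agent.Lib.Helper16.GraphFieldCoset Cfsg.Agent.Lib.Helper16.UnitaryDescent
  Cfsg.Agent.Lib.Helper16.FieldCosetPSU Cfsg.Agent.Lib.Helper16.SplitCount
  Cfsg.Agent.Lib.Helper16.FieldCentPSU Cfsg.Agent.Lib.Helper16.OrthClassify
  Cfsg.Agent.Lib.Helper16.GraphCentPSL
open Cfsg.Agent.Lib.Helper6.AutPSL (sG sG_val gl_mul_inv gl_inv_mul)
open Cfsg.Agent.Lib.Helper16.FieldCentPSL (mem_cent_comap gl_ne_zero)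
open Cfsg.Agent.Lib.Helper16.FieldCoset (card_fin_ge scalar_eq_smul_one)

variable {F : Type*} [Field F] [Fintype F] {q n : ℕ}

section unique
variable (p : ℕ) [hp : Fact p.Prime] [CharP F p] (hF : Fintype.card F = q ^ 2)

include hp in
/-- the `q`-th power map is the only involution of the field -/
theorem eq_tauA (σ : RingAut F) (h2 : σ * σ = 1) (h1 : σ ≠ 1) : σ = tauA hF := by
  classical
  have hord : orderOf σ = 2 := orderOf_eq_prime (by rw [pow_two]; exact h2) h1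
  have hσσ : ∀ a : F, σ (σ a) = a := fun a => DFunLike.congr_fun h2 a
  obtain ⟨k, -, hk⟩ := FiniteField.card F p
  have hq2 : q ^ 2 = p ^ (k : ℕ) := by rw [← hF, hk]
  obtain ⟨i, -, hi⟩ := (Nat.dvd_prime_pow hp.out).mp (⟨q, by rw [← hq2]; ring⟩ : q ∣ p ^ (k : ℕ))
  have hki : (k : ℕ) = i * 2 := by
    rw [hi, ← pow_mul] at hq2
    exact (Nat.pow_right_injective hp.out.two_le hq2).symm
  have hF2 : Fintype.card F = p ^ (i * 2) := by rw [hk, hki]
  obtain ⟨-, hcard⟩ := fixed_field_card hF2 σ 2 hord (by norm_num)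
  rw [Nat.mul_div_cancel _ (by norm_num : 0 < 2), ← hi] at hcard
  have hfix : ∀ a : F, σ a = a → tauA hF a = a := by
    intro a ha
    haveI : Fintype ↥(fixK σ) := Fintype.ofFinite _
    have h3 := FiniteField.pow_card (⟨a, ha⟩ : ↥(fixK σ))
    rw [← Nat.card_eq_fintype_card, hcard] at h3
    rw [tauA_apply]
    exact congrArg Subtype.val h3
  have hdich : ∀ x : F, tauA hF x = x ∨ tauA hF x = σ x := by
    intro x
    have hs : σ (x + σ x) = x + σ x := by rw [map_add, hσσ]; ring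
    have ht : σ (x * σ x) = x * σ x := by rw [map_mul, hσσ]; ring
    have e1 := hfix _ hs
    have e2 := hfix _ ht
    rw [map_add] at e1
    rw [map_mul] at e2
    have h4 : (tauA hF x - x) * (tauA hF x - σ x) = 0 := by
      linear_combination (tauA hF x) * e1 - e2
    rcases mul_eq_zero.mp h4 with h | h
    · left; linear_combination h
    · right; linear_combination h
  by_contra hne
  obtain ⟨x, hx⟩ : ∃ x, σ x ≠ tauA hF x := by
    by_contra hcon
    push Not at hcon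
    exact hne (RingEquiv.ext hcon)
  obtain ⟨y, hy⟩ : ∃ y, tauA hF y ≠ y := by
    by_contra hcon
    push Not at hcon
    exact tauA_ne_one hF (RingEquiv.ext hcon)
  have hx' : tauA hF x = x := (hdich x).resolve_right (fun h => hx h.symm)
  have hy' : tauA hF y = σ y := (hdich y).resolve_left hy
  rcases hdich (x + y) with h | h
  · rw [map_add, hx'] at h
    exact hy (by linear_combination h)
  · rw [map_add, map_add, hx', hy'] at h
    apply hx
    rw [hx']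
    linear_combination -h

end unique

section basic
variable (hF : Fintype.card F = q ^ 2)

theorem map_tauA_map (M : Matrix (Fin n) (Fin n) F) :
    (M.map (tauA hF)).map (tauA hF) = M := by
  ext i j
  rw [Matrix.map_apply, Matrix.map_apply, tauA_tauA]

theorem tauA_mul_self : tauA hF * tauA hF = 1 := RingEquiv.ext (tauA_tauA hF)

theorem orderOf_tauA : orderOf (tauA hF) = 2 :=
  orderOf_eq_prime (by rw [pow_two]; exact tauA_mul_self hF) (tauA_ne_one hF)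

/-- the inverse of a unitary matrix is its conjugate transpose -/
theorem GU_inv_val (g : ↥(Cfsg.GU n F q)) : (g⁻¹).1.1 = hs (tauA hF) g.1.1 := by
  have h1 := mem_GU_hs hF g
  calc (g⁻¹).1.1 = (hs (tauA hF) g.1.1 * g.1.1) * (g.1⁻¹).1 := by rw [h1, Matrix.one_mul]; rfl
    _ = hs (tauA hF) g.1.1 * (g.1.1 * (g.1⁻¹).1) := by rw [Matrix.mul_assoc]
    _ = hs (tauA hF) g.1.1 := by rw [gl_mul_inv, Matrix.mul_one]

theorem sGU_val (σ : RingAut F) (g : ↥(Cfsg.GU n F q)) : (sGU σ g).1.1 = g.1.1.map σ :=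
  sG_val σ g.1

/-- for a unitary matrix, `τ(g)ᵀ g = 1` -/
theorem GU_map_transpose_mul (g : ↥(Cfsg.GU n F q)) :
    (g.1.1.map (tauA hF))ᵀ * g.1.1 = 1 := mem_GU_hs hF g

theorem GU_mul_map_transpose (g : ↥(Cfsg.GU n F q)) :
    g.1.1 * (g.1.1.map (tauA hF))ᵀ = 1 := mul_eq_one_comm.mp (mem_GU_hs hF g)

/-- for a unitary matrix, `gᵀ τ(g) = 1` -/
theorem GU_transpose_mul_map (g : ↥(Cfsg.GU n F q)) :
    (g.1.1)ᵀ * g.1.1.map (tauA hF) = 1 := by
  have := congrArg Matrix.transpose (GU_map_transpose_mul hF g)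
  rwa [Matrix.transpose_mul, Matrix.transpose_transpose, Matrix.transpose_one] at this

theorem GU_map_mul_transpose (g : ↥(Cfsg.GU n F q)) :
    g.1.1.map (tauA hF) * (g.1.1)ᵀ = 1 := mul_eq_one_comm.mp (GU_transpose_mul_map hF g)

end basic

section main
variable (p : ℕ) [hp : Fact p.Prime] [CharP F p] (hF : Fintype.card F = q ^ 2) (hn : 3 ≤ n)

theorem isInnerDiagU_iff (β : MulAut (Cfsg.PSU n F q)) :
    Cfsg.IsInnerDiagonalAutPSU β ↔ ∃ g : ↥(Cfsg.GU n F q), β = cU g := by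
  constructor
  · rintro ⟨g, hgU, hg⟩
    refine ⟨⟨g, hgU⟩, ?_⟩
    ext x
    obtain ⟨s, rfl⟩ := pu_surjective x
    rw [cU_mk]
    exact hg s (cSU ⟨g, hgU⟩ s) (cSU_val ⟨g, hgU⟩ s)
  · rintro ⟨g, rfl⟩
    exact isInnerDiag_cU g

/-- the square of `cU g * fU τ` -/
theorem gU_sq (g : ↥(Cfsg.GU n F q)) :
    (cU g * fU (tauA hF)) * (cU g * fU (tauA hF)) =
      (cU (g * sGU (tauA hF) g) : MulAut (Cfsg.PSU n F q)) := by
  calc (cU g * fU (tauA hF)) * (cU g * fU (tauA hF))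
      = cU g * (fU (tauA hF) * cU g) * (fU (tauA hF) : MulAut (Cfsg.PSU n F q)) := by
        simp only [mul_assoc]
    _ = cU g * (cU (sGU (tauA hF) g) * fU (tauA hF)) *
          (fU (tauA hF) : MulAut (Cfsg.PSU n F q)) := by rw [rel_fU_cU]
    _ = cU g * cU (sGU (tauA hF) g) *
          (fU (tauA hF) * fU (tauA hF) : MulAut (Cfsg.PSU n F q)) := by simp only [mul_assoc]
    _ = cU (g * sGU (tauA hF) g) := by
        rw [← fU_mul, tauA_mul_self, fU_one, mul_one, map_mul]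

include hp hn in
theorem gU_ne_one (g : ↥(Cfsg.GU n F q)) :
    (cU g * fU (tauA hF) : MulAut (Cfsg.PSU n F q)) ≠ 1 := by
  intro h
  have e : (cU g * fU (tauA hF) : MulAut (Cfsg.PSU n F q)) = cU 1 * fU 1 := by
    rw [h, map_one, fU_one, mul_one]
  exact tauA_ne_one hF (decomp_unique p hF hn g 1 _ _ e).1

include hp hn in
/-- `cU g * fU τ` squares to one iff `g τ(g)` is a scalar -/
theorem gU_sq_eq_one_iff (g : ↥(Cfsg.GU n F q)) :
    (cU g * fU (tauA hF)) * (cU g * fU (tauA hF)) = (1 : MulAut (Cfsg.PSU n F q)) ↔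
      ∃ ε : F, g.1.1 * g.1.1.map (tauA hF) = ε • (1 : Matrix (Fin n) (Fin n) F) := by
  rw [gU_sq, cU_eq_one_iff p hF hn]
  have : (g * sGU (tauA hF) g).1.1 = g.1.1 * g.1.1.map (tauA hF) := by
    change g.1.1 * (sGU (tauA hF) g).1.1 = _
    rw [sGU_val]
  rw [this]

/-- `g τ(g) = ε` means `g = ε gᵀ` for a unitary matrix -/
theorem eq_smul_transpose (g : ↥(Cfsg.GU n F q)) (ε : F)
    (hε : g.1.1 * g.1.1.map (tauA hF) = ε • (1 : Matrix (Fin n) (Fin n) F)) :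
    g.1.1 = ε • (g.1.1)ᵀ := by
  calc g.1.1 = g.1.1 * (g.1.1.map (tauA hF) * (g.1.1)ᵀ) := by
        rw [GU_map_mul_transpose, Matrix.mul_one]
    _ = (g.1.1 * g.1.1.map (tauA hF)) * (g.1.1)ᵀ := by rw [Matrix.mul_assoc]
    _ = ε • (g.1.1)ᵀ := by rw [hε, Matrix.smul_mul, Matrix.one_mul]

theorem mul_map_of_transpose (g : ↥(Cfsg.GU n F q)) (ε : F) (hε : g.1.1 = ε • (g.1.1)ᵀ) :
    g.1.1 * g.1.1.map (tauA hF) = ε • (1 : Matrix (Fin n) (Fin n) F) := by
  calc g.1.1 * g.1.1.map (tauA hF) = (ε • (g.1.1)ᵀ) * g.1.1.map (tauA hF) := by rw [← hε]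
    _ = ε • (1 : Matrix (Fin n) (Fin n) F) := by rw [Matrix.smul_mul, GU_transpose_mul_map]

/-- the scalar `g τ(g)` of a unitary matrix is `±1` -/
theorem eps_sq (hn1 : 1 ≤ n) (g : ↥(Cfsg.GU n F q)) (ε : F)
    (hε : g.1.1 * g.1.1.map (tauA hF) = ε • (1 : Matrix (Fin n) (Fin n) F)) :
    ε = 1 ∨ ε = -1 := by
  have h1 := eq_smul_transpose hF g ε hε
  have h2 : (g.1.1)ᵀ = ε • g.1.1 := by
    conv_lhs => rw [h1]
    rw [Matrix.transpose_smul, Matrix.transpose_transpose]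
  have h3 : g.1.1 = (ε * ε) • g.1.1 := by
    conv_lhs => rw [h1, h2]
    rw [smul_smul]
  obtain ⟨i, j, hij⟩ := gl_ne_zero hn1 g.1
  have h4 := congrFun (congrFun h3 i) j
  rw [Matrix.smul_apply, smul_eq_mul] at h4
  have h5 : (ε * ε - 1) * g.1.1 i j = 0 := by linear_combination -h4
  have h6 : ε * ε - 1 = 0 := (mul_eq_zero.mp h5).resolve_right hij
  have h7 : (ε - 1) * (ε + 1) = 0 := by linear_combination h6
  rcases mul_eq_zero.mp h7 with h | h
  · left; linear_combination h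
  · right; linear_combination h

include hp hn in
/-- `cU g * fU τ` has order two iff `g τ(g) = ±1` -/
theorem orderOf_gU (g : ↥(Cfsg.GU n F q)) :
    orderOf (cU g * fU (tauA hF) : MulAut (Cfsg.PSU n F q)) = 2 ↔
      ∃ ε : F, (ε = 1 ∨ ε = -1) ∧
        g.1.1 * g.1.1.map (tauA hF) = ε • (1 : Matrix (Fin n) (Fin n) F) := by
  constructor
  · intro h
    have h1 : (cU g * fU (tauA hF) : MulAut (Cfsg.PSU n F q)) ^ 2 = 1 := by
      rw [← h]; exact pow_orderOf_eq_one _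
    rw [pow_two, gU_sq_eq_one_iff p hF hn] at h1
    obtain ⟨ε, hε⟩ := h1
    exact ⟨ε, eps_sq hF (by omega) g ε hε, hε⟩
  · rintro ⟨ε, -, hε⟩
    have h1 : (cU g * fU (tauA hF) : MulAut (Cfsg.PSU n F q)) ^ 2 = 1 := by
      rw [pow_two, gU_sq_eq_one_iff p hF hn]
      exact ⟨ε, hε⟩
    exact orderOf_eq_prime h1 (gU_ne_one p hF hn g)

include hp hn in
/-- the normal form of an involutory graph automorphism -/
theorem graphAut_U (γ : MulAut (Cfsg.PSU n F q)) (hγ : Cfsg.IsGraphAutClassPSU γ)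
    (hγ2 : orderOf γ = 2) : ∃ g : ↥(Cfsg.GU n F q), γ = cU g * fU (tauA hF) := by
  obtain ⟨-, δ, φ, σ, hσ, hδ, hφ, rfl⟩ := hγ
  obtain ⟨g, rfl⟩ := (isInnerDiagU_iff δ).mp hδ
  rw [eq_fU_of_isFieldAut σ φ hφ] at hγ2 ⊢
  refine ⟨g, ?_⟩
  have h1 : (cU g * fU σ : MulAut (Cfsg.PSU n F q)) ^ 2 = 1 := by
    rw [← hγ2]; exact pow_orderOf_eq_one _
  have hσ' : (σ : RingAut F) ^ 2 = 1 := by
    rw [pow_cU_fU] at h1
    have e : (cU (NrmU σ g 2) * fU (σ ^ 2 : RingAut F) : MulAut (Cfsg.PSU n F q)) =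
        cU 1 * fU 1 := by
      rw [h1, map_one, fU_one, mul_one]
    exact (decomp_unique p hF hn _ 1 _ _ e).1
  have hσ1 : (σ : RingAut F) ≠ 1 := by
    intro h
    rw [h, orderOf_one] at hσ
    exact (by decide : ¬ Even 1) hσ
  rw [pow_two] at hσ'
  rw [eq_tauA p hF σ hσ' hσ1]

theorem isGraphAut_gU (hn : 3 ≤ n) (g : ↥(Cfsg.GU n F q)) :
    Cfsg.IsGraphAutClassPSU (cU g * fU (tauA hF) : MulAut (Cfsg.PSU n F q)) := by
  refine ⟨hn, cU g, fU (tauA hF), tauA hF, ?_, isInnerDiag_cU g, isFieldAut_fU _, rfl⟩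
  rw [orderOf_tauA]
  exact even_two

/-- conjugating a graph automorphism by an inner-diagonal one -/
theorem conj_gU (h g : ↥(Cfsg.GU n F q)) :
    cU h * (cU g * fU (tauA hF)) * (cU h)⁻¹ =
      (cU (h * g * sGU (tauA hF) h⁻¹) * fU (tauA hF) : MulAut (Cfsg.PSU n F q)) := by
  calc cU h * (cU g * fU (tauA hF)) * (cU h)⁻¹
      = cU h * cU g * (fU (tauA hF) * cU h⁻¹ : MulAut (Cfsg.PSU n F q)) := by
        rw [map_inv]; simp only [mul_assoc]
    _ = cU h * cU g * (cU (sGU (tauA hF) h⁻¹) * fU (tauA hF) : MulAut (Cfsg.PSU n F q)) := by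
        rw [rel_fU_cU]
    _ = (cU (h * g * sGU (tauA hF) h⁻¹) * fU (tauA hF) : MulAut (Cfsg.PSU n F q)) := by
        rw [map_mul, map_mul]; simp only [mul_assoc]

theorem sGU_inv_mul (σ : RingAut F) (h : ↥(Cfsg.GU n F q)) :
    (sGU σ h⁻¹).1.1 * h.1.1.map σ = 1 := by
  rw [sGU_val, ← Matrix.map_mul]
  have : (h⁻¹).1.1 * h.1.1 = 1 := gl_inv_mul h.1
  rw [this, Matrix.map_one _ (map_zero σ) (map_one σ)]

theorem map_mul_sGU_inv (σ : RingAut F) (h : ↥(Cfsg.GU n F q)) :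
    h.1.1.map σ * (sGU σ h⁻¹).1.1 = 1 := mul_eq_one_comm.mp (sGU_inv_mul σ h)

include hp hn in
theorem isConjUnder_of_U (g g' h : ↥(Cfsg.GU n F q)) (ν : F)
    (hν : h.1.1 * g.1.1 = ν • (g'.1.1 * h.1.1.map (tauA hF))) :
    Cfsg.IsConjUnder (Cfsg.inndiagPSU n F q)
      (cU g * fU (tauA hF) : MulAut (Cfsg.PSU n F q)) (cU g' * fU (tauA hF)) := by
  refine ⟨cU h, ?_, ?_⟩
  · rw [inndiag_eq_range]; exact ⟨h, rfl⟩
  · rw [conj_gU, mul_left_inj, cU_eq_iff p hF hn]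
    have hν0 : ν ≠ 0 := by
      rintro rfl
      rw [zero_smul] at hν
      have h1 : (h * g).1.1 = 0 := hν
      obtain ⟨i, j, hij⟩ := gl_ne_zero (by omega : 1 ≤ n) (h * g).1
      rw [h1] at hij
      exact hij rfl
    refine ⟨ν⁻¹, ?_⟩
    change g'.1.1 = ν⁻¹ • (h.1.1 * g.1.1 * (sGU (tauA hF) h⁻¹).1.1)
    rw [hν, Matrix.smul_mul, smul_smul, inv_mul_cancel₀ hν0, one_smul, Matrix.mul_assoc,
      map_mul_sGU_inv, Matrix.mul_one]

include hp hn in
theorem of_isConjUnder_U (g g' : ↥(Cfsg.GU n F q))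
    (hc : Cfsg.IsConjUnder (Cfsg.inndiagPSU n F q)
      (cU g * fU (tauA hF) : MulAut (Cfsg.PSU n F q)) (cU g' * fU (tauA hF))) :
    ∃ (h : ↥(Cfsg.GU n F q)) (ν : F), h.1.1 * g.1.1 = ν • (g'.1.1 * h.1.1.map (tauA hF)) := by
  obtain ⟨x, hx, e⟩ := hc
  rw [inndiag_eq_range] at hx
  obtain ⟨h, rfl⟩ := hx
  rw [conj_gU, mul_left_inj, cU_eq_iff p hF hn] at e
  obtain ⟨μ, hμ⟩ := e
  have hμ' : g'.1.1 = μ • (h.1.1 * g.1.1 * (sGU (tauA hF) h⁻¹).1.1) := hμ
  have hμ0 : μ ≠ 0 := by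
    rintro rfl
    rw [zero_smul] at hμ'
    obtain ⟨i, j, hij⟩ := gl_ne_zero (by omega : 1 ≤ n) g'.1
    rw [hμ'] at hij
    exact hij rfl
  refine ⟨h, μ⁻¹, ?_⟩
  rw [hμ', Matrix.smul_mul, smul_smul, inv_mul_cancel₀ hμ0, one_smul, Matrix.mul_assoc,
    sGU_inv_mul, Matrix.mul_one]

include hp hn in
/-- commuting with a graph automorphism -/
theorem comm_gU_iff (g h : ↥(Cfsg.GU n F q)) :
    cU h * (cU g * fU (tauA hF)) = (cU g * fU (tauA hF) : MulAut (Cfsg.PSU n F q)) * cU h ↔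
      ∃ c : F, h.1.1 * g.1.1 = c • (g.1.1 * h.1.1.map (tauA hF)) := by
  have h1 : (cU g * fU (tauA hF) : MulAut (Cfsg.PSU n F q)) * cU h =
      cU (g * sGU (tauA hF) h) * fU (tauA hF) := by
    rw [mul_assoc, rel_fU_cU, ← mul_assoc, ← map_mul]
  rw [h1, ← mul_assoc, ← map_mul, mul_left_inj, cU_eq_iff p hF hn]
  have h2 : (g * sGU (tauA hF) h).1.1 = g.1.1 * h.1.1.map (tauA hF) := by
    change g.1.1 * (sGU (tauA hF) h).1.1 = _
    rw [sGU_val]
  have h3 : (h * g).1.1 = h.1.1 * g.1.1 := rfl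
  rw [h2, h3]

end main

end Cfsg.Agent.Lib.Helper16.GraphInvPSU
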