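import Mathlib
import Cfsg.Agent.Lib.Helper16.GraphCentPSL

/-!
# Involutory graph automorphisms of `PSL_n`: the general algebra

A graph automorphism is `cP g * tP`; it is an involution iff `g` is symmetric or skew-symmetric,
conjugation by `cP h` replaces `g` by `h g hᵀ`, and the centralizer consists of the similarities
of the form with Gram matrix `g⁻¹`.
-/

set_option autoImplicit false
set_option linter.unusedSectionVars false
set_option linter.unusedVariables false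
set_option linter.style.haveILetI false

namespace Cfsg.Agent.Lib.Helper16.GraphInvPSL

open Matrix Cfsg Cfsg.Agent.Lib.Helper6 Cfsg.Agent.Lib.Helper6.AutPSL
  Cfsg.Agent.Lib.Helper16.FieldCoset Cfsg.Agent.Lib.Helper16.GraphFieldCoset
  Cfsg.Agent.Lib.Helper16.FieldCentPSL Cfsg.Agent.Lib.Helper16.GraphFieldCentPSL
  Cfsg.Agent.Lib.Helper16.OrthClassify Cfsg.Agent.Lib.Helper16.GraphCentPSL

section
variable {F : Type*} [Field F] {n : ℕ}

local notation "PSLn" => Matrix.ProjectiveSpecialLinearGroup (Fin n) F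

theorem isInnerDiag_iff (β : MulAut PSLn) :
    Cfsg.IsInnerDiagonalAutPSL β ↔ ∃ g : GL (Fin n) F, β = cP g := by
  constructor
  · rintro ⟨g, hg⟩
    refine ⟨g, ?_⟩
    ext x
    obtain ⟨s, rfl⟩ := pm_surjective x
    rw [cP_mk]
    exact hg s (cG g s) (cG_val g s)
  · rintro ⟨g, rfl⟩
    exact isInnerDiag_cP g

theorem graphAut_iff (β : MulAut PSLn) :
    Cfsg.IsGraphAutClassPSL β ↔ 3 ≤ n ∧ ∃ g : GL (Fin n) F, β = cP g * tP := by
  constructor
  · rintro ⟨hn, δ, γ, hδ, hγ, rfl⟩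
    obtain ⟨g, rfl⟩ := (isInnerDiag_iff δ).mp hδ
    rw [eq_tP_of_isInvT γ hγ]
    exact ⟨hn, g, rfl⟩
  · rintro ⟨hn, g, rfl⟩
    exact ⟨hn, cP g, tP, isInnerDiag_cP g, isInvTranspose_tP, rfl⟩

theorem gtP_ne_cP (hn : 3 ≤ n) (g g' : GL (Fin n) F) : (cP g * tP : MulAut PSLn) ≠ cP g' := by
  intro h
  have h1 : TR (cP g * tP : MulAut PSLn) := by
    have := TR_cP_fP_tP g (1 : RingAut F)
    rwa [fP_one, mul_one] at this
  have h2 : TP (cP g' : MulAut PSLn) := by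
    have := TP_cP_fP g' (1 : RingAut F)
    rwa [fP_one, mul_one] at this
  rw [h] at h1
  exact not_TP_TR (card_fin_ge hn) _ h2 h1

theorem gtP_ne_one (hn : 3 ≤ n) (g : GL (Fin n) F) : (cP g * tP : MulAut PSLn) ≠ 1 := by
  have := gtP_ne_cP hn g 1
  rwa [map_one] at this

theorem gtP_sq (g : GL (Fin n) F) :
    (cP g * tP) * (cP g * tP) = (cP (g * gT g) : MulAut PSLn) := by
  calc (cP g * tP) * (cP g * tP) = cP g * (tP * cP g) * (tP : MulAut PSLn) := by
        simp only [mul_assoc]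
    _ = cP g * (cP (gT g) * tP) * (tP : MulAut PSLn) := by rw [rel_tP_cP]
    _ = cP g * cP (gT g) * (tP * tP : MulAut PSLn) := by simp only [mul_assoc]
    _ = cP (g * gT g) := by rw [tP_mul_tP, mul_one, map_mul]

theorem transpose_inv_mul (g : GL (Fin n) F) : ((g⁻¹).1)ᵀ * (g.1)ᵀ = 1 := by
  rw [← Matrix.transpose_mul, gl_mul_inv, Matrix.transpose_one]

theorem transpose_mul_inv (g : GL (Fin n) F) : (g.1)ᵀ * ((g⁻¹).1)ᵀ = 1 := by
  rw [← Matrix.transpose_mul, gl_inv_mul, Matrix.transpose_one]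

theorem gl_val_ne_zero (hn : 1 ≤ n) (g : GL (Fin n) F) : g.1 ≠ 0 := by
  intro h0
  have h1 := gl_mul_inv g
  rw [h0, Matrix.zero_mul] at h1
  have := congrFun (congrFun h1 ⟨0, by omega⟩) ⟨0, by omega⟩
  simp at this

/-- `cP g * tP` squares to one iff `g` is a scalar multiple of its transpose -/
theorem gtP_sq_eq_one_iff (hn : 2 ≤ n) (g : GL (Fin n) F) :
    (cP g * tP) * (cP g * tP) = (1 : MulAut PSLn) ↔ ∃ μ : F, g.1 = μ • (g.1)ᵀ := by
  rw [gtP_sq, ← map_one (cP : GL (Fin n) F →* MulAut PSLn), cP_eq_iff hn]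
  constructor
  · rintro ⟨μ, hμ⟩
    refine ⟨μ, ?_⟩
    rw [Units.val_mul, gT_val, Units.val_one] at hμ
    calc g.1 = g.1 * (((g⁻¹).1)ᵀ * (g.1)ᵀ) := by rw [transpose_inv_mul, Matrix.mul_one]
      _ = (g.1 * ((g⁻¹).1)ᵀ) * (g.1)ᵀ := by rw [Matrix.mul_assoc]
      _ = μ • (g.1)ᵀ := by rw [hμ, Matrix.smul_mul, Matrix.one_mul]
  · rintro ⟨μ, hμ⟩
    refine ⟨μ, ?_⟩
    rw [Units.val_mul, gT_val, Units.val_one]
    calc g.1 * ((g⁻¹).1)ᵀ = (μ • (g.1)ᵀ) * ((g⁻¹).1)ᵀ := by rw [← hμ]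
      _ = μ • 1 := by rw [Matrix.smul_mul, transpose_mul_inv]

theorem symm_or_skew (hn : 1 ≤ n) (g : GL (Fin n) F) (μ : F) (hμ : g.1 = μ • (g.1)ᵀ) :
    (g.1)ᵀ = g.1 ∨ (g.1)ᵀ = -g.1 := by
  have h1 : (g.1)ᵀ = μ • g.1 := by
    conv_lhs => rw [hμ]
    rw [Matrix.transpose_smul, Matrix.transpose_transpose]
  have h2 : g.1 = (μ * μ) • g.1 := by
    conv_lhs => rw [hμ, h1]
    rw [smul_smul]
  have h3 : μ * μ = 1 := by
    obtain ⟨i, j, hij⟩ : ∃ i j, g.1 i j ≠ 0 := by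
      by_contra hcon
      push Not at hcon
      exact gl_val_ne_zero hn g (Matrix.ext hcon)
    have := congrFun (congrFun h2 i) j
    rw [Matrix.smul_apply, smul_eq_mul] at this
    have h4 : (μ * μ - 1) * g.1 i j = 0 := by linear_combination -this
    rcases mul_eq_zero.mp h4 with h5 | h5
    · linear_combination h5
    · exact absurd h5 hij
  have h4 : (μ - 1) * (μ + 1) = 0 := by linear_combination h3
  rcases mul_eq_zero.mp h4 with h5 | h5
  · left
    rw [h1, show μ = 1 by linear_combination h5, one_smul]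
  · right
    rw [h1, show μ = -1 by linear_combination h5, neg_smul, one_smul]

/-- `cP g * tP` has order two iff `g` is symmetric or skew-symmetric -/
theorem orderOf_gtP (hn : 3 ≤ n) (g : GL (Fin n) F) :
    orderOf (cP g * tP : MulAut PSLn) = 2 ↔ ((g.1)ᵀ = g.1 ∨ (g.1)ᵀ = -g.1) := by
  constructor
  · intro h
    have h1 : (cP g * tP : MulAut PSLn) ^ 2 = 1 := by rw [← h]; exact pow_orderOf_eq_one _
    rw [pow_two, gtP_sq_eq_one_iff (by omega)] at h1
    obtain ⟨μ, hμ⟩ := h1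
    exact symm_or_skew (by omega) g μ hμ
  · intro h
    have h1 : (cP g * tP : MulAut PSLn) ^ 2 = 1 := by
      rw [pow_two, gtP_sq_eq_one_iff (by omega)]
      rcases h with h | h
      · exact ⟨1, by rw [h, one_smul]⟩
      · exact ⟨-1, by rw [h, neg_smul, one_smul, neg_neg]⟩
    exact orderOf_eq_prime h1 (gtP_ne_one hn g)

/-- transpose as an element of `GL` -/
def glT (h : GL (Fin n) F) : GL (Fin n) F := (gT h)⁻¹

theorem glT_val (h : GL (Fin n) F) : (glT h).1 = (h.1)ᵀ := rfl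

theorem gT_inv (h : GL (Fin n) F) : gT h⁻¹ = glT h := by
  apply Units.ext
  rw [gT_val, inv_inv, glT_val]

/-- conjugating a graph automorphism by an inner-diagonal one -/
theorem conj_gtP (h g : GL (Fin n) F) :
    cP h * (cP g * tP) * (cP h)⁻¹ = (cP (h * g * glT h) * tP : MulAut PSLn) := by
  calc cP h * (cP g * tP) * (cP h)⁻¹ = cP h * cP g * (tP * cP h⁻¹ : MulAut PSLn) := by
        rw [map_inv]; simp only [mul_assoc]
    _ = cP h * cP g * (cP (gT h⁻¹) * tP : MulAut PSLn) := by rw [rel_tP_cP]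
    _ = (cP (h * g * glT h) * tP : MulAut PSLn) := by
        rw [gT_inv, map_mul, map_mul]; simp only [mul_assoc]

/-- commuting with a graph automorphism -/
theorem comm_gtP_iff (hn : 2 ≤ n) (g h : GL (Fin n) F) :
    cP h * (cP g * tP) = (cP g * tP : MulAut PSLn) * cP h ↔
      ∃ c : F, h.1 * g.1 * (h.1)ᵀ = c • g.1 := by
  have h1 : (cP g * tP : MulAut PSLn) * cP h = cP (g * gT h) * tP := by
    rw [mul_assoc, rel_tP_cP, ← mul_assoc, ← map_mul]
  rw [h1, ← mul_assoc, ← map_mul, mul_left_inj, cP_eq_iff hn]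
  constructor
  · rintro ⟨μ, hμ⟩
    refine ⟨μ, ?_⟩
    rw [Units.val_mul, Units.val_mul, gT_val] at hμ
    rw [hμ, Matrix.smul_mul, Matrix.mul_assoc, transpose_inv_mul, Matrix.mul_one]
  · rintro ⟨c, hc⟩
    refine ⟨c, ?_⟩
    rw [Units.val_mul, Units.val_mul, gT_val]
    calc h.1 * g.1 = (h.1 * g.1) * ((h.1)ᵀ * ((h⁻¹).1)ᵀ) := by
          rw [transpose_mul_inv, Matrix.mul_one]
      _ = (h.1 * g.1 * (h.1)ᵀ) * ((h⁻¹).1)ᵀ := by simp only [Matrix.mul_assoc]
      _ = c • (g.1 * ((h⁻¹).1)ᵀ) := by rw [hc, Matrix.smul_mul]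

theorem isConjUnder_of (g g' h : GL (Fin n) F) (μ : F)
    (hμ : g'.1 = μ • (h.1 * g.1 * (h.1)ᵀ)) :
    Cfsg.IsConjUnder (Cfsg.inndiagPSL n F) (cP g * tP : MulAut PSLn) (cP g' * tP) := by
  refine ⟨cP h, ?_, ?_⟩
  · rw [inndiag_eq_range]; exact ⟨h, rfl⟩
  · rw [conj_gtP]
    congr 1
    apply cP_eq_of_smul _ _ μ
    rw [hμ, Units.val_mul, Units.val_mul, glT_val]

theorem of_isConjUnder (hn : 2 ≤ n) (g g' : GL (Fin n) F)
    (hc : Cfsg.IsConjUnder (Cfsg.inndiagPSL n F) (cP g * tP : MulAut PSLn) (cP g' * tP)) :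
    ∃ (h : GL (Fin n) F) (μ : F), g'.1 = μ • (h.1 * g.1 * (h.1)ᵀ) := by
  obtain ⟨x, hx, e⟩ := hc
  rw [inndiag_eq_range] at hx
  obtain ⟨h, rfl⟩ := hx
  rw [conj_gtP, mul_left_inj, cP_eq_iff hn] at e
  obtain ⟨μ, hμ⟩ := e
  refine ⟨h, μ, ?_⟩
  rw [hμ, Units.val_mul, Units.val_mul, glT_val]

end

end Cfsg.Agent.Lib.Helper16.GraphInvPSL
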