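import Mathlib
import Cfsg.Agent.Lib.Helper16.GraphInvPSL

/-!
# The centralizer of an involutory graph automorphism of `PSL_n` in `PGL_n`
-/

set_option autoImplicit false
set_option linter.unusedSectionVars false
set_option linter.unusedVariables false
set_option linter.style.haveILetI false

namespace Cfsg.Agent.Lib.Helper16.GraphInvPSL

open Matrix Cfsg Cfsg.Agent.Lib.Helper6 Cfsg.Agent.Lib.Helper6.AutPSL
  Cfsg.Agent.Lib.Helper16.FieldCoset Cfsg.Agent.Lib.Helper16.GraphFieldCoset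
  Cfsg.Agent.Lib.Helper16.FieldCentPSL Cfsg.Agent.Lib.Helper16.GraphFieldCentPSL
  Cfsg.Agent.Lib.Helper16.OrthClassify Cfsg.Agent.Lib.Helper16.GraphCentPSL

section
variable {F : Type*} [Field F] {n : ℕ}

local notation "PSLn" => Matrix.ProjectiveSpecialLinearGroup (Fin n) F

/-- similarities of `g` (acting by `h g hᵀ`) are the similarities of the inverse Gram matrix -/
theorem sim_iff (hn : 1 ≤ n) (g h : GL (Fin n) F) (A : Matrix (Fin n) (Fin n) F)
    (hgA : g.1 * A = 1) :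
    (∃ c : F, h.1 * g.1 * (h.1)ᵀ = c • g.1) ↔ ∃ c : F, c ≠ 0 ∧ (h.1)ᵀ * A * h.1 = c • A := by
  have hAg : A * g.1 = 1 := mul_eq_one_comm.mp hgA
  constructor
  · rintro ⟨c, hc⟩
    have hc0 : c ≠ 0 := by
      intro h0
      rw [h0, zero_smul] at hc
      have h1 : g.1 = 0 := by
        calc g.1 = ((h⁻¹).1 * h.1) * g.1 * ((h.1)ᵀ * ((h⁻¹).1)ᵀ) := by
              rw [gl_inv_mul, transpose_mul_inv, Matrix.one_mul, Matrix.mul_one]
          _ = (h⁻¹).1 * (h.1 * g.1 * (h.1)ᵀ) * ((h⁻¹).1)ᵀ := by simp only [Matrix.mul_assoc]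
          _ = 0 := by rw [hc, Matrix.mul_zero, Matrix.zero_mul]
      exact gl_val_ne_zero hn g h1
    refine ⟨c, hc0, ?_⟩
    have e1 : ((h.1)ᵀ * A * h.1) * g.1 * (h.1)ᵀ = c • (h.1)ᵀ := by
      calc ((h.1)ᵀ * A * h.1) * g.1 * (h.1)ᵀ = (h.1)ᵀ * A * (h.1 * g.1 * (h.1)ᵀ) := by
            simp only [Matrix.mul_assoc]
        _ = c • (h.1)ᵀ := by
            rw [hc, Matrix.mul_smul, Matrix.mul_assoc, hAg, Matrix.mul_one]
    have e2 : ((h.1)ᵀ * A * h.1) * g.1 = c • 1 := by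
      calc ((h.1)ᵀ * A * h.1) * g.1 = (((h.1)ᵀ * A * h.1) * g.1 * (h.1)ᵀ) * ((h⁻¹).1)ᵀ := by
            rw [Matrix.mul_assoc _ (h.1)ᵀ, transpose_mul_inv, Matrix.mul_one]
        _ = c • 1 := by rw [e1, Matrix.smul_mul, transpose_mul_inv]
    calc (h.1)ᵀ * A * h.1 = (((h.1)ᵀ * A * h.1) * g.1) * A := by
          rw [Matrix.mul_assoc _ g.1, hgA, Matrix.mul_one]
      _ = c • A := by rw [e2, Matrix.smul_mul, Matrix.one_mul]
  · rintro ⟨c, hc0, hc⟩
    refine ⟨c, ?_⟩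
    have e1 : (h.1 * g.1 * (h.1)ᵀ) * A * h.1 = c • h.1 := by
      calc (h.1 * g.1 * (h.1)ᵀ) * A * h.1 = h.1 * g.1 * ((h.1)ᵀ * A * h.1) := by
            simp only [Matrix.mul_assoc]
        _ = c • h.1 := by rw [hc, Matrix.mul_smul, Matrix.mul_assoc, hgA, Matrix.mul_one]
    have e2 : (h.1 * g.1 * (h.1)ᵀ) * A = c • 1 := by
      calc (h.1 * g.1 * (h.1)ᵀ) * A = ((h.1 * g.1 * (h.1)ᵀ) * A * h.1) * (h⁻¹).1 := by
            rw [Matrix.mul_assoc _ h.1, gl_mul_inv, Matrix.mul_one]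
        _ = c • 1 := by rw [e1, Matrix.smul_mul, gl_mul_inv]
    calc h.1 * g.1 * (h.1)ᵀ = ((h.1 * g.1 * (h.1)ᵀ) * A) * g.1 := by
          rw [Matrix.mul_assoc _ A, hAg, Matrix.mul_one]
      _ = c • g.1 := by rw [e2, Matrix.smul_mul, Matrix.one_mul]

variable {ι' : Type} [Fintype ι'] [DecidableEq ι']

/-- the centralizer of the graph automorphism `cP g * tP` is the projective similarity group
of the form with Gram matrix `g⁻¹` -/
theorem cent_iso_gram (hn : 2 ≤ n) (g : GL (Fin n) F) (G' : Matrix ι' ι' F)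
    (P : Matrix ι' (Fin n) F) (P' : Matrix (Fin n) ι' F) (hPP' : P * P' = 1) (hP'P : P' * P = 1)
    (hg : g.1 * (Pᵀ * G' * P) = 1)
    (H : Subgroup (GL ι' F))
    (hH : ∀ k : GL ι' F, k ∈ H ↔ ∃ c : F, c ≠ 0 ∧ (k.1)ᵀ * G' * k.1 = c • G') :
    Nonempty (↥(Cfsg.inndiagPSL n F ⊓ Subgroup.centralizer {(cP g * tP : MulAut PSLn)}) ≃*
      Cfsg.projQuot H) := by
  classical
  have hPtP't : Pᵀ * P'ᵀ = 1 := by rw [← Matrix.transpose_mul, hP'P, Matrix.transpose_one]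
  have hP'tPt : P'ᵀ * Pᵀ = 1 := by rw [← Matrix.transpose_mul, hPP', Matrix.transpose_one]
  obtain ⟨cj, hcj⟩ : ∃ cj : GL ι' F →* GL (Fin n) F,
      ∀ g' : GL ι' F, ((cj g' : GL (Fin n) F) : Matrix (Fin n) (Fin n) F) = P' * g'.1 * P := by
    exact ⟨conjGL P P' hPP' hP'P, fun g' => rfl⟩
  obtain ⟨cj', hcj'⟩ : ∃ cj' : GL (Fin n) F →* GL ι' F,
      ∀ g : GL (Fin n) F, ((cj' g : GL ι' F) : Matrix ι' ι' F) = P * g.1 * P' := by
    exact ⟨conjGL P' P hP'P hPP', fun g => rfl⟩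
  have hcjcj' : ∀ h : GL (Fin n) F, cj (cj' h) = h := by
    intro h
    apply Units.ext
    rw [hcj, hcj']
    calc P' * (P * h.1 * P') * P = (P' * P) * h.1 * (P' * P) := by
          simp only [Matrix.mul_assoc]
      _ = h.1 := by rw [hP'P, Matrix.one_mul, Matrix.mul_one]
  -- the key translation
  have hkey : ∀ (k : GL ι' F) (c : F),
      ((cj k).1)ᵀ * (Pᵀ * G' * P) * (cj k).1 = c • (Pᵀ * G' * P) ↔
        (k.1)ᵀ * G' * k.1 = c • G' := by
    intro k c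
    have e1 : ((cj k).1)ᵀ * (Pᵀ * G' * P) * (cj k).1 = Pᵀ * ((k.1)ᵀ * G' * k.1) * P := by
      rw [hcj, Matrix.transpose_mul, Matrix.transpose_mul]
      calc Pᵀ * ((k.1)ᵀ * P'ᵀ) * (Pᵀ * G' * P) * (P' * k.1 * P)
          = Pᵀ * (k.1)ᵀ * (P'ᵀ * Pᵀ) * G' * (P * P') * k.1 * P := by
            simp only [Matrix.mul_assoc]
        _ = Pᵀ * ((k.1)ᵀ * G' * k.1) * P := by
            rw [hP'tPt, hPP', Matrix.mul_one, Matrix.mul_one]
            simp only [Matrix.mul_assoc]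
    rw [e1]
    constructor
    · intro h
      calc (k.1)ᵀ * G' * k.1 = (P'ᵀ * Pᵀ) * ((k.1)ᵀ * G' * k.1) * (P * P') := by
            rw [hP'tPt, hPP', Matrix.one_mul, Matrix.mul_one]
        _ = P'ᵀ * (Pᵀ * ((k.1)ᵀ * G' * k.1) * P) * P' := by simp only [Matrix.mul_assoc]
        _ = c • ((P'ᵀ * Pᵀ) * G' * (P * P')) := by
            rw [h, Matrix.mul_smul, Matrix.smul_mul]
            simp only [Matrix.mul_assoc]
        _ = c • G' := by rw [hP'tPt, hPP', Matrix.one_mul, Matrix.mul_one]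
    · intro h
      rw [h, Matrix.mul_smul, Matrix.smul_mul]
  obtain ⟨Ψ, hΨ⟩ : ∃ Ψ : ↥H →* MulAut PSLn, Ψ = (cP.comp cj).comp H.subtype := ⟨_, rfl⟩
  have hΨa : ∀ g', Ψ g' = cP (cj g'.1) := fun g' => by rw [hΨ]; rfl
  have hmem : ∀ h : GL (Fin n) F,
      cP h ∈ Subgroup.centralizer {(cP g * tP : MulAut PSLn)} ↔
      ∃ c : F, c ≠ 0 ∧ (h.1)ᵀ * (Pᵀ * G' * P) * h.1 = c • (Pᵀ * G' * P) := by
    intro h
    rw [← Subgroup.mem_comap, mem_cent_comap, eq_comm, comm_gtP_iff hn,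
      sim_iff (by omega) g h _ hg]
  have hrange : Ψ.range =
      Cfsg.inndiagPSL n F ⊓ Subgroup.centralizer {(cP g * tP : MulAut PSLn)} := by
    apply le_antisymm
    · rintro _ ⟨g', rfl⟩
      rw [hΨa]
      refine Subgroup.mem_inf.mpr ⟨?_, ?_⟩
      · rw [inndiag_eq_range]; exact ⟨_, rfl⟩
      · rw [hmem]
        obtain ⟨c, hc0, hc⟩ := (hH g'.1).mp g'.2
        exact ⟨c, hc0, (hkey g'.1 c).mpr hc⟩
    · rintro β ⟨hβ1, hβ2⟩
      rw [SetLike.mem_coe, inndiag_eq_range] at hβ1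
      obtain ⟨h, rfl⟩ := hβ1
      obtain ⟨c, hc0, hc⟩ := (hmem h).mp hβ2
      have hmemH : cj' h ∈ H := by
        rw [hH]
        refine ⟨c, hc0, ?_⟩
        rw [← hkey, hcjcj']
        exact hc
      refine ⟨⟨cj' h, hmemH⟩, ?_⟩
      rw [hΨa, hcjcj']
  have hker : Ψ.ker = (Cfsg.Geo.scalars ι' F).subgroupOf H := by
    ext g'
    rw [MonoidHom.mem_ker, hΨa, Subgroup.mem_subgroupOf, Cfsg.Geo.mem_scalars_iff,
      ← MonoidHom.mem_ker (f := cP), cP_ker (card_fin_ge hn),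
      Matrix.GeneralLinearGroup.mem_center_iff_val_mem_range_scalar]
    constructor
    · rintro ⟨μ, hμ⟩
      rw [scalar_eq_smul_one, hcj] at hμ
      have hg' : ((g'.1 : GL ι' F) : Matrix ι' ι' F) = μ • 1 := by
        calc ((g'.1 : GL ι' F) : Matrix ι' ι' F)
            = (P * P') * ((g'.1 : GL ι' F) : Matrix ι' ι' F) * (P * P') := by
              rw [hPP', Matrix.one_mul, Matrix.mul_one]
          _ = P * (P' * ((g'.1 : GL ι' F) : Matrix ι' ι' F) * P) * P' := by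
              simp only [Matrix.mul_assoc]
          _ = μ • 1 := by
              rw [← hμ, Matrix.mul_smul, Matrix.mul_one, Matrix.smul_mul, hPP']
      have hμ0 : μ ≠ 0 := by
        intro h0
        have h1 := gl_mul_inv g'.1
        rw [hg', h0, zero_smul, Matrix.zero_mul] at h1
        have h3 := congrArg Matrix.det h1
        haveI : Nonempty ι' := by
          by_contra hne
          rw [not_nonempty_iff] at hne
          have : P' * P = 0 := by
            ext i j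
            rw [Matrix.mul_apply, Finset.univ_eq_empty, Finset.sum_empty]
            rfl
          rw [this] at hP'P
          have := congrFun (congrFun hP'P ⟨0, by omega⟩) ⟨0, by omega⟩
          simp at this
        rw [Matrix.det_zero, Matrix.det_one] at h3
        exact zero_ne_one h3
      exact ⟨Units.mk0 μ hμ0, hg'⟩
    · rintro ⟨c, hc⟩
      refine ⟨(c : F), ?_⟩
      rw [scalar_eq_smul_one, hcj, hc, Matrix.mul_smul, Matrix.mul_one, Matrix.smul_mul, hP'P]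
  have e1 : ↥H ⧸ Ψ.ker ≃* ↥Ψ.range := QuotientGroup.quotientKerEquivRange Ψ
  have e2 : ↥Ψ.range ≃*
      ↥(Cfsg.inndiagPSL n F ⊓ Subgroup.centralizer {(cP g * tP : MulAut PSLn)}) :=
    MulEquiv.subgroupCongr hrange
  have e3 : Cfsg.projQuot H ≃* ↥H ⧸ Ψ.ker :=
    QuotientGroup.quotientMulEquivOfEq hker.symm
  exact ⟨(e3.trans (e1.trans e2)).symm⟩

end

end Cfsg.Agent.Lib.Helper16.GraphInvPSL
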