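import Mathlib
import Cfsg.Agent.Lib.Helper16.GraphInvPSL2
import Cfsg.Agent.Lib.Helper16.SympDescent

/-!
# Classification of symmetric matrices by discriminant, frames and Gram matrices
-/

set_option autoImplicit false
set_option linter.unusedSectionVars false
set_option linter.unusedVariables false
set_option linter.style.haveILetI false

namespace Cfsg.Agent.Lib.Helper16.GraphInvPSL

open Matrix Cfsg Cfsg.Agent.Lib.Helper6 Cfsg.Agent.Lib.Helper6.AutPSL
  Cfsg.Agent.Lib.Helper16.FieldCoset Cfsg.Agent.Lib.Helper16.GraphFieldCoset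
  Cfsg.Agent.Lib.Helper16.FieldCentPSL Cfsg.Agent.Lib.Helper16.GraphFieldCentPSL
  Cfsg.Agent.Lib.Helper16.OrthClassify Cfsg.Agent.Lib.Helper16.GraphCentPSL

section classify
variable {K : Type*} [Field K] {ι : Type} [Fintype ι] [DecidableEq ι]

open Cfsg.Agent.Lib.Helper17.OrthSq in
/-- diagonalisation of a symmetric matrix over a finite field to `diag(1,…,1,d)` -/
theorem symm_diag [Finite K] (h2 : (2 : K) ≠ 0) (n : ℕ) (hn : Fintype.card ι = n + 1)
    (B : Matrix ι ι K) (hB : B.IsSymm) (hdet : B.det ≠ 0) (α : K) (hα : ¬ IsSquare α) :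
    ∃ (M : Matrix ι ι K) (d : K), (d = 1 ∨ d = α) ∧ M.det ≠ 0 ∧
      B = Mᵀ * Matrix.diagonal (fun i => cd n d (Fintype.equivFinOfCardEq hn i)) * M ∧
      B.det = M.det * M.det * d := by
  classical
  obtain ⟨L, d, hd, hL⟩ := exists_diag h2 B.toQuadraticForm' (nondeg_toQF h2 B hB hdet) n hn α hα
  obtain ⟨e, he⟩ : ∃ e : ι ≃ Fin (n + 1), e = Fintype.equivFinOfCardEq hn := ⟨_, rfl⟩
  rw [← he]
  obtain ⟨L', hL'⟩ : ∃ L' : (ι → K) →ₗ[K] (ι → K),
      L' = (LinearMap.funLeft K K e) ∘ₗ L.toLinearMap := ⟨_, rfl⟩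
  have hL'a : ∀ w i, L' w i = L w (e i) := by
    intro w i
    rw [hL']
    rfl
  obtain ⟨M, hM⟩ : ∃ M : Matrix ι ι K, M = LinearMap.toMatrix' L' := ⟨_, rfl⟩
  have hMv : ∀ w i, (M *ᵥ w) i = L w (e i) := by
    intro w i
    rw [hM, LinearMap.toMatrix'_mulVec, hL'a]
  obtain ⟨c, hc⟩ : ∃ c : ι → K, c = fun i => cd n d (e i) := ⟨_, rfl⟩
  have hBM : B = Mᵀ * Matrix.diagonal c * M := by
    apply symm_ext h2 _ _ hB
    · rw [Matrix.IsSymm, Matrix.transpose_mul, Matrix.transpose_mul, Matrix.transpose_transpose,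
        Matrix.diagonal_transpose, Matrix.mul_assoc]
    · intro w
      rw [← toQF_apply, ← hL w, wsq_apply, qf_congr]
      simp only [dotProduct, Matrix.mulVec_diagonal]
      rw [← Equiv.sum_comp e]
      apply Finset.sum_congr rfl
      intro i _
      rw [hMv, hc]
      ring
  have hprod : ∏ i, c i = d := by
    rw [hc, Equiv.prod_comp e (fun i' => cd n d i')]
    unfold cd
    rw [Finset.prod_ite_eq' Finset.univ (Fin.last n) (fun _ => d)]
    simp
  have hdetB : B.det = M.det * M.det * d := by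
    conv_lhs => rw [hBM]
    rw [Matrix.det_mul, Matrix.det_mul, Matrix.det_transpose, Matrix.det_diagonal, hprod]
    ring
  have hM0 : M.det ≠ 0 := by
    intro h0
    rw [hdetB, h0, zero_mul, zero_mul] at hdet
    exact hdet rfl
  refine ⟨M, d, hd, hM0, ?_, hdetB⟩
  rw [← hc]
  exact hBM

/-- two nondegenerate symmetric matrices over a finite field of odd characteristic whose
determinants differ by a square are congruent -/
theorem symm_congr_of_det [Finite K] (h2 : (2 : K) ≠ 0) (hne : Nonempty ι)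
    (B₁ B₂ : Matrix ι ι K) (h₁ : B₁.IsSymm) (h₂ : B₂.IsSymm) (hd₁ : B₁.det ≠ 0)
    (hd₂ : B₂.det ≠ 0) (hsq : IsSquare (B₁.det * B₂.det)) :
    ∃ k : Matrix ι ι K, k.det ≠ 0 ∧ kᵀ * B₁ * k = B₂ := by
  classical
  have hchar : ringChar K ≠ 2 := by
    intro h
    apply h2
    have := CharP.cast_eq_zero K (ringChar K)
    rw [h] at this
    exact_mod_cast this
  obtain ⟨α, hα⟩ := FiniteField.exists_nonsquare hchar
  obtain ⟨n, hn⟩ : ∃ n, Fintype.card ι = n + 1 :=
    Nat.exists_eq_succ_of_ne_zero Fintype.card_ne_zero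
  obtain ⟨M₁, d₁, hdd₁, hM₁, hB₁, hdet₁⟩ := symm_diag h2 n hn B₁ h₁ hd₁ α hα
  obtain ⟨M₂, d₂, hdd₂, hM₂, hB₂, hdet₂⟩ := symm_diag h2 n hn B₂ h₂ hd₂ α hα
  have hdd : d₁ = d₂ := by
    have hsq' : IsSquare (d₁ * d₂) := by
      obtain ⟨s, hs⟩ := hsq
      refine ⟨s / (M₁.det * M₂.det), ?_⟩
      rw [hdet₁, hdet₂] at hs
      field_simp
      linear_combination hs
    rcases hdd₁ with rfl | rfl <;> rcases hdd₂ with rfl | rfl
    · rfl
    · exfalso; rw [one_mul] at hsq'; exact hα hsq'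
    · exfalso; rw [mul_one] at hsq'; exact hα hsq'
    · rfl
  subst hdd
  have hu₁ : IsUnit M₁.det := isUnit_iff_ne_zero.mpr hM₁
  have hu₁' : IsUnit M₁ᵀ.det := by rw [Matrix.det_transpose]; exact hu₁
  refine ⟨M₁⁻¹ * M₂, ?_, ?_⟩
  · rw [Matrix.det_mul]
    apply mul_ne_zero _ hM₂
    intro h0
    have h1 : M₁ * M₁⁻¹ = 1 := Matrix.mul_nonsing_inv _ hu₁
    have h2' := congrArg Matrix.det h1
    rw [Matrix.det_mul, h0, mul_zero, Matrix.det_one] at h2'
    exact zero_ne_one h2'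
  · rw [Matrix.transpose_mul, Matrix.transpose_nonsing_inv]
    conv_lhs => rw [hB₁]
    conv_rhs => rw [hB₂]
    set D := Matrix.diagonal (fun i => Cfsg.Agent.Lib.Helper17.OrthSq.cd n d₁
      (Fintype.equivFinOfCardEq hn i)) with hD
    calc M₂ᵀ * (M₁ᵀ)⁻¹ * (M₁ᵀ * D * M₁) * (M₁⁻¹ * M₂)
        = M₂ᵀ * ((M₁ᵀ)⁻¹ * M₁ᵀ) * D * (M₁ * M₁⁻¹) * M₂ := by simp only [Matrix.mul_assoc]
      _ = M₂ᵀ * D * M₂ := by
          rw [Matrix.nonsing_inv_mul _ hu₁', Matrix.mul_nonsing_inv _ hu₁, Matrix.mul_one,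
            Matrix.mul_one]

end classify

section frame
variable {F : Type*} [Field F] {n : ℕ} {ι' : Type} [Fintype ι'] [DecidableEq ι']

/-- the frame of a reindexing -/
theorem exists_frame (e : Fin n ≃ ι') :
    ∃ (P : Matrix ι' (Fin n) F) (P' : Matrix (Fin n) ι' F), P * P' = 1 ∧ P' * P = 1 ∧
      ∀ G' : Matrix ι' ι' F, Pᵀ * G' * P = G'.submatrix e e := by
  refine ⟨(1 : Matrix ι' ι' F).submatrix id e, (1 : Matrix ι' ι' F).submatrix e id, ?_, ?_, ?_⟩
  · rw [Matrix.submatrix_mul_equiv, Matrix.mul_one, Matrix.submatrix_id_id]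
  · have : (1 : Matrix ι' ι' F).submatrix e id * (1 : Matrix ι' ι' F).submatrix id e =
        ((1 : Matrix ι' ι' F).submatrix e (Equiv.refl ι')) *
          ((1 : Matrix ι' ι' F).submatrix (Equiv.refl ι') e) := rfl
    rw [this, Matrix.submatrix_mul_equiv, Matrix.mul_one, Matrix.submatrix_one_equiv]
  · intro G'
    rw [Matrix.transpose_submatrix, Matrix.transpose_one]
    have h1 : (1 : Matrix ι' ι' F).submatrix e id * G' = G'.submatrix e id := by
      have : G' = G'.submatrix (Equiv.refl ι') id := (Matrix.submatrix_id_id G').symm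
      conv_lhs => rw [this]
      have h3 : (1 : Matrix ι' ι' F).submatrix e id =
          (1 : Matrix ι' ι' F).submatrix e (Equiv.refl ι') := rfl
      rw [h3, Matrix.submatrix_mul_equiv, Matrix.one_mul]
    rw [h1]
    have h2 : G'.submatrix e id * (1 : Matrix ι' ι' F).submatrix id e =
        G'.submatrix e (Equiv.refl ι') * (1 : Matrix ι' ι' F).submatrix (Equiv.refl ι') e := rfl
    rw [h2, Matrix.submatrix_mul_equiv, Matrix.mul_one]

/-- the invertible matrix obtained by reindexing the inverse of a Gram matrix -/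
noncomputable def reGL (e : Fin n ≃ ι') (G' G'' : Matrix ι' ι' F) (h : G' * G'' = 1) :
    GL (Fin n) F :=
  ⟨G''.submatrix e e, G'.submatrix e e, by
    rw [Matrix.submatrix_mul_equiv, mul_eq_one_comm.mp h, Matrix.submatrix_one_equiv], by
    rw [Matrix.submatrix_mul_equiv, h, Matrix.submatrix_one_equiv]⟩

theorem reGL_val (e : Fin n ≃ ι') (G' G'' : Matrix ι' ι' F) (h : G' * G'' = 1) :
    (reGL e G' G'' h).1 = G''.submatrix e e := rfl

theorem reGL_mul (e : Fin n ≃ ι') (G' G'' : Matrix ι' ι' F) (h : G' * G'' = 1) :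
    (reGL e G' G'' h).1 * G'.submatrix e e = 1 := by
  rw [reGL_val, Matrix.submatrix_mul_equiv, mul_eq_one_comm.mp h, Matrix.submatrix_one_equiv]

/-- the similarity group of a quadratic form in terms of its Gram matrix -/
theorem quadSim_iff (h2 : (2 : F) ≠ 0) (Q' : (ι' → F) → F) (G' : Matrix ι' ι' F)
    (hG' : G'.IsSymm) (hQ' : ∀ v, Q' v = v ⬝ᵥ G' *ᵥ v) (k : GL ι' F) :
    k ∈ Cfsg.Geo.quadSimilarityGroup (F := F) Q' ↔
      ∃ c : F, c ≠ 0 ∧ (k.1)ᵀ * G' * k.1 = c • G' := by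
  constructor
  · rintro ⟨c, hc⟩
    refine ⟨(c : F), c.ne_zero, ?_⟩
    apply symm_ext h2
    · rw [Matrix.IsSymm, Matrix.transpose_mul, Matrix.transpose_mul, Matrix.transpose_transpose,
        hG'.eq, Matrix.mul_assoc]
    · rw [Matrix.IsSymm, Matrix.transpose_smul, hG'.eq]
    · intro w
      rw [qf_congr, ← hQ', hc, hQ', Matrix.smul_mulVec, dotProduct_smul, smul_eq_mul]
  · rintro ⟨c, hc0, hc⟩
    refine ⟨Units.mk0 c hc0, fun v => ?_⟩
    rw [hQ', ← qf_congr, hc, Matrix.smul_mulVec, dotProduct_smul, smul_eq_mul, ← hQ',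
      Units.val_mk0]

end frame

section gram
variable {F : Type*} [Field F] (m : ℕ)

/-- the Gram matrix of the minus type form with binary part `z₁² + b z₂²` -/
def gramMinusB (b : F) : Matrix ((Fin m ⊕ Fin m) ⊕ Fin 2) ((Fin m ⊕ Fin m) ⊕ Fin 2) F :=
  Matrix.fromBlocks (gramPlus m) 0 0 (Matrix.diagonal ![1, b])

theorem gramMinusB_symm (b : F) : (gramMinusB (F := F) m b).IsSymm := by
  unfold gramMinusB
  rw [Matrix.IsSymm, Matrix.fromBlocks_transpose, (gramPlus_symm m).eq]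
  simp

theorem gramMinusB_apply (h2 : (2 : F) ≠ 0) (b : F) (v : (Fin m ⊕ Fin m) ⊕ Fin 2 → F) :
    Cfsg.quadFormMinus m F 0 b v = v ⬝ᵥ gramMinusB m b *ᵥ v := by
  unfold Cfsg.quadFormMinus gramMinusB
  rw [Matrix.fromBlocks_mulVec]
  have h1 := gramPlus_apply m h2 (fun k => v (Sum.inl k))
  unfold Cfsg.quadFormPlus at h1
  rw [h1]
  have h3 : (fun k => v (Sum.inl k)) = v ∘ Sum.inl := rfl
  rw [h3]
  simp only [dotProduct, Fintype.sum_sum_type, Sum.elim_inl, Sum.elim_inr, Matrix.zero_mulVec,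
    add_zero, zero_add, Matrix.mulVec_diagonal, Fin.sum_univ_two, Function.comp]
  simp
  ring

theorem gramMinusB_det (b : F) :
    (gramMinusB (F := F) m b).det = (gramPlus (F := F) m).det * b := by
  unfold gramMinusB
  rw [Matrix.det_fromBlocks_zero₁₂, Matrix.det_diagonal, Fin.prod_univ_two]
  simp

end gram

end Cfsg.Agent.Lib.Helper16.GraphInvPSL
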