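import Mathlib
import Cfsg.Agent.Lib.Helper16.GraphInvPSL3

/-!
# The three classes of involutory graph automorphisms of `PSL_n(q)`, `n` even, `q` odd
-/

set_option autoImplicit false
set_option linter.unusedSectionVars false
set_option linter.unusedVariables false
set_option linter.style.haveILetI false

namespace Cfsg.Agent.Lib.Helper16.GraphInvPSL

open Matrix Cfsg Cfsg.Agent.Lib.Helper6 Cfsg.Agent.Lib.Helper6.AutPSL
  Cfsg.Agent.Lib.Helper16.FieldCoset Cfsg.Agent.Lib.Helper16.GraphFieldCoset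
  Cfsg.Agent.Lib.Helper16.FieldCentPSL Cfsg.Agent.Lib.Helper16.GraphFieldCentPSL
  Cfsg.Agent.Lib.Helper16.OrthClassify Cfsg.Agent.Lib.Helper16.GraphCentPSL

section
variable {F : Type*} [Field F] {n : ℕ}

local notation "PSLn" => Matrix.ProjectiveSpecialLinearGroup (Fin n) F

theorem not_conj_skew_symm (hn : 2 ≤ n) (h2 : (2 : F) ≠ 0) (g g' : GL (Fin n) F)
    (hg : (g.1)ᵀ = -g.1) (hg' : (g'.1)ᵀ = g'.1) :
    ¬ Cfsg.IsConjUnder (Cfsg.inndiagPSL n F) (cP g * tP : MulAut PSLn) (cP g' * tP) := by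
  intro hc
  obtain ⟨h, μ, e⟩ := of_isConjUnder hn g g' hc
  have h1 : (g'.1)ᵀ = -g'.1 := by
    conv_lhs => rw [e]
    rw [Matrix.transpose_smul, Matrix.transpose_mul, Matrix.transpose_mul,
      Matrix.transpose_transpose, hg, Matrix.neg_mul, Matrix.mul_neg, ← Matrix.mul_assoc,
      smul_neg, ← e]
  rw [hg'] at h1
  have h3 : g'.1 = 0 := by
    ext i j
    have := congrFun (congrFun h1 i) j
    rw [Matrix.neg_apply] at this
    have h4 : (2 : F) * g'.1 i j = 0 := by linear_combination this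
    rcases mul_eq_zero.mp h4 with h5 | h5
    · exact absurd h5 h2
    · exact h5
  exact gl_val_ne_zero (by omega) g' h3

theorem not_conj_of_det {m : ℕ} (hn : 2 ≤ n) (hnm : n = 2 * m) (g g' : GL (Fin n) F)
    (hns : ¬ IsSquare (g.1.det * g'.1.det)) :
    ¬ Cfsg.IsConjUnder (Cfsg.inndiagPSL n F) (cP g * tP : MulAut PSLn) (cP g' * tP) := by
  intro hc
  obtain ⟨h, μ, e⟩ := of_isConjUnder hn g g' hc
  apply hns
  refine ⟨μ ^ m * h.1.det * g.1.det, ?_⟩
  rw [e, Matrix.det_smul, Matrix.det_mul, Matrix.det_mul, Matrix.det_transpose, Fintype.card_fin]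
  have hp : μ ^ n = μ ^ m * μ ^ m := by rw [hnm, two_mul, pow_add]
  rw [hp]
  ring

end

section fin
variable {F : Type*} [Field F] [Fintype F]

theorem isSquare_mul_of_not' (h2 : (2 : F) ≠ 0) (a b : F) (ha : ¬ IsSquare a)
    (hb : ¬ IsSquare b) : IsSquare (a * b) := by
  have hchar : ringChar F ≠ 2 := by
    intro hch
    apply h2
    have := ringChar.Nat.cast_ringChar (R := F)
    rw [hch] at this
    exact_mod_cast this
  have ha0 : a ≠ 0 := by
    rintro rfl
    exact ha ⟨0, by simp⟩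
  have hb0 : b ≠ 0 := by
    rintro rfl
    exact hb ⟨0, by simp⟩
  rw [FiniteField.isSquare_iff hchar ha0] at ha
  rw [FiniteField.isSquare_iff hchar hb0] at hb
  rw [FiniteField.isSquare_iff hchar (mul_ne_zero ha0 hb0), mul_pow]
  rcases FiniteField.pow_dichotomy hchar ha0 with h | h
  · exact absurd h ha
  · rcases FiniteField.pow_dichotomy hchar hb0 with h' | h'
    · exact absurd h' hb
    · rw [h, h']
      ring

/-- if `y z` is a nonsquare then `x y` or `x z` is a square -/
theorem isSquare_or (h2 : (2 : F) ≠ 0) (x y z : F) (hx : x ≠ 0) (hyz : ¬ IsSquare (y * z)) :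
    IsSquare (x * y) ∨ IsSquare (x * z) := by
  by_contra hcon
  push Not at hcon
  obtain ⟨h1, h3⟩ := hcon
  obtain ⟨s, hs⟩ := isSquare_mul_of_not' h2 _ _ h1 h3
  apply hyz
  refine ⟨s / x, ?_⟩
  field_simp
  linear_combination hs

end fin

end Cfsg.Agent.Lib.Helper16.GraphInvPSL
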