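import Mathlib
import Cfsg.Agent.Lib.Helper16.GraphInvPSL4

/-!
# Every involutory graph automorphism of `PSL_n(q)` is conjugate to a standard one
-/

set_option autoImplicit false
set_option linter.unusedSectionVars false
set_option linter.unusedVariables false
set_option linter.style.haveILetI false

namespace Cfsg.Agent.Lib.Helper16.GraphInvPSL

open Matrix Cfsg Cfsg.Agent.Lib.Helper6 Cfsg.Agent.Lib.Helper6.AutPSL
  Cfsg.Agent.Lib.Helper16.FieldCoset Cfsg.Agent.Lib.Helper16.GraphFieldCoset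
  Cfsg.Agent.Lib.Helper16.FieldCentPSL Cfsg.Agent.Lib.Helper16.GraphFieldCentPSL
  Cfsg.Agent.Lib.Helper16.OrthClassify Cfsg.Agent.Lib.Helper16.GraphCentPSL

section
variable {F : Type*} [Field F] {n : ℕ}

local notation "PSLn" => Matrix.ProjectiveSpecialLinearGroup (Fin n) F

/-- a matrix with non-zero determinant as an element of `GL` -/
noncomputable def glOfDet (k : Matrix (Fin n) (Fin n) F) (hk : k.det ≠ 0) : GL (Fin n) F :=
  ⟨k, k⁻¹, Matrix.mul_nonsing_inv _ (isUnit_iff_ne_zero.mpr hk),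
    Matrix.nonsing_inv_mul _ (isUnit_iff_ne_zero.mpr hk)⟩

theorem glOfDet_val (k : Matrix (Fin n) (Fin n) F) (hk : k.det ≠ 0) : (glOfDet k hk).1 = k := rfl

/-- symmetric matrices with determinants differing by a square give conjugate automorphisms -/
theorem conj_of_symm [Finite F] (h2 : (2 : F) ≠ 0) (hn : 1 ≤ n) (g g₂ : GL (Fin n) F)
    (hg : (g.1)ᵀ = g.1) (hg₂ : (g₂.1)ᵀ = g₂.1) (hsq : IsSquare (g₂.1.det * g.1.det)) :
    Cfsg.IsConjUnder (Cfsg.inndiagPSL n F) (cP g₂ * tP : MulAut PSLn) (cP g * tP) := by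
  have hd : ∀ x : GL (Fin n) F, x.1.det ≠ 0 := fun x =>
    (Matrix.GeneralLinearGroup.det x).ne_zero
  obtain ⟨k, hk, e⟩ := symm_congr_of_det h2 ⟨⟨0, by omega⟩⟩ g₂.1 g.1 hg₂ hg (hd g₂) (hd g) hsq
  have hk' : kᵀ.det ≠ 0 := by rw [Matrix.det_transpose]; exact hk
  refine isConjUnder_of g₂ g (glOfDet kᵀ hk') 1 ?_
  rw [one_smul, glOfDet_val, Matrix.transpose_transpose, e]

/-- a skew-symmetric matrix gives an automorphism conjugate to the standard symplectic one -/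
theorem conj_of_skew {m : ℕ} (h2 : (2 : F) ≠ 0) (e : Fin n ≃ Fin m ⊕ Fin m) (g g₁ : GL (Fin n) F)
    (hg : (g.1)ᵀ = -g.1) (hg₁ : g₁.1 = (-(Matrix.J (Fin m) F)).submatrix e e) :
    Cfsg.IsConjUnder (Cfsg.inndiagPSL n F) (cP g₁ * tP : MulAut PSLn) (cP g * tP) := by
  obtain ⟨A, hA⟩ : ∃ A : Matrix (Fin m ⊕ Fin m) (Fin m ⊕ Fin m) F,
      A = g.1.submatrix e.symm e.symm := ⟨_, rfl⟩
  obtain ⟨A', hA'⟩ : ∃ A' : Matrix (Fin m ⊕ Fin m) (Fin m ⊕ Fin m) F,
      A' = (g⁻¹).1.submatrix e.symm e.symm := ⟨_, rfl⟩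
  have hAA' : A * A' = 1 := by
    rw [hA, hA', Matrix.submatrix_mul_equiv, gl_mul_inv, Matrix.submatrix_one_equiv]
  have hAt : Aᵀ = -A := by
    rw [hA, Matrix.transpose_submatrix, hg]
    rfl
  have halt : ∀ x : Fin m ⊕ Fin m → F, x ⬝ᵥ (A *ᵥ x) = 0 := by
    intro x
    have h1 : x ⬝ᵥ (A *ᵥ x) = x ⬝ᵥ (Aᵀ *ᵥ x) := by
      rw [Matrix.dotProduct_mulVec, Matrix.mulVec_transpose, dotProduct_comm]
    rw [hAt, Matrix.neg_mulVec, dotProduct_neg] at h1
    have h3 : (2 : F) * (x ⬝ᵥ (A *ᵥ x)) = 0 := by linear_combination h1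
    rcases mul_eq_zero.mp h3 with h4 | h4
    · exact absurd h4 h2
    · exact h4
  obtain ⟨d, d', hdd', hJ⟩ := Cfsg.Agent.Lib.Helper16.SympDescent.alt_congr A A' hAA' halt
  have hd'd : d' * d = 1 := mul_eq_one_comm.mp hdd'
  have hAJ : A = d'ᵀ * Matrix.J (Fin m) F * d' := by
    rw [← hJ]
    calc A = (d'ᵀ * dᵀ) * A * (d * d') := by
          rw [← Matrix.transpose_mul, hdd', Matrix.transpose_one, Matrix.one_mul, Matrix.mul_one]
      _ = d'ᵀ * (dᵀ * A * d) * d' := by simp only [Matrix.mul_assoc]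
  obtain ⟨h, hh⟩ : ∃ h : GL (Fin n) F, h.1 = (d'ᵀ).submatrix e e := by
    refine ⟨⟨(d'ᵀ).submatrix e e, (dᵀ).submatrix e e, ?_, ?_⟩, rfl⟩
    · rw [Matrix.submatrix_mul_equiv, ← Matrix.transpose_mul, hdd', Matrix.transpose_one,
        Matrix.submatrix_one_equiv]
    · rw [Matrix.submatrix_mul_equiv, ← Matrix.transpose_mul, hd'd, Matrix.transpose_one,
        Matrix.submatrix_one_equiv]
  refine isConjUnder_of g₁ g h (-1) ?_
  have hgA : g.1 = A.submatrix e e := by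
    rw [hA, Matrix.submatrix_submatrix]
    simp
  rw [hgA, hAJ, hh, hg₁, Matrix.transpose_submatrix, Matrix.transpose_transpose,
    Matrix.submatrix_mul_equiv, Matrix.submatrix_mul_equiv, Matrix.mul_neg, Matrix.neg_mul,
    neg_smul, one_smul]
  ext i j
  simp

end

end Cfsg.Agent.Lib.Helper16.GraphInvPSL
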