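import Mathlib
import Cfsg.Agent.Lib.Helper16.GraphInvPSL5

/-!
# The three classes of involutory graph automorphisms of `PSL_n(q)`, `n` even, `q` odd: main
-/

set_option autoImplicit false
set_option linter.unusedSectionVars false
set_option linter.unusedVariables false
set_option linter.style.haveILetI false

namespace Cfsg.Agent.Lib.Helper16.GraphInvPSL

open Matrix Cfsg Cfsg.Agent.Lib.Helper6 Cfsg.Agent.Lib.Helper6.AutPSL
  Cfsg.Agent.Lib.Helper16.FieldCoset Cfsg.Agent.Lib.Helper16.GraphFieldCoset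
  Cfsg.Agent.Lib.Helper16.FieldCentPSL Cfsg.Agent.Lib.Helper16.GraphFieldCentPSL
  Cfsg.Agent.Lib.Helper16.OrthClassify Cfsg.Agent.Lib.Helper16.GraphCentPSL

section
variable {F : Type*} [Field F] {n : ℕ}

local notation "PSLn" => Matrix.ProjectiveSpecialLinearGroup (Fin n) F

variable {ι' : Type} [Fintype ι'] [DecidableEq ι']

/-- the centralizer of the graph automorphism attached to a symmetric Gram matrix -/
theorem cent_iso_quad (hn : 2 ≤ n) (h2 : (2 : F) ≠ 0) (e : Fin n ≃ ι') (Q' : (ι' → F) → F)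
    (G' G'' : Matrix ι' ι' F) (hG' : G'.IsSymm) (hQ' : ∀ v, Q' v = v ⬝ᵥ G' *ᵥ v)
    (hGG : G' * G'' = 1) :
    Nonempty (↥(Cfsg.inndiagPSL n F ⊓
      Subgroup.centralizer {(cP (reGL e G' G'' hGG) * tP : MulAut PSLn)}) ≃* Cfsg.PGO F Q') := by
  obtain ⟨P, P', hPP', hP'P, hP⟩ := exists_frame (F := F) e
  exact cent_iso_gram hn (reGL e G' G'' hGG) G' P P' hPP' hP'P
    (by rw [hP]; exact reGL_mul e G' G'' hGG)
    (Cfsg.Geo.quadSimilarityGroup (F := F) Q') (quadSim_iff h2 Q' G' hG' hQ')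

theorem J_mul_neg_J (m : ℕ) : Matrix.J (Fin m) F * (-Matrix.J (Fin m) F) = 1 := by
  rw [Matrix.mul_neg, Matrix.J_squared, neg_neg]

/-- the centralizer of the symplectic type graph automorphism -/
theorem cent_iso_symp {m : ℕ} (hn : 2 ≤ n) (e : Fin n ≃ Fin m ⊕ Fin m) :
    Nonempty (↥(Cfsg.inndiagPSL n F ⊓
      Subgroup.centralizer {(cP (reGL e (Matrix.J (Fin m) F) (-Matrix.J (Fin m) F)
        (J_mul_neg_J m)) * tP : MulAut PSLn)}) ≃* Cfsg.PGSp m F) := by
  obtain ⟨P, P', hPP', hP'P, hP⟩ := exists_frame (F := F) e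
  refine cent_iso_gram hn _ (Matrix.J (Fin m) F) P P' hPP' hP'P
    (by rw [hP]; exact reGL_mul e _ _ (J_mul_neg_J m)) (Cfsg.GSp m F) ?_
  intro k
  constructor
  · intro hk
    exact Cfsg.Agent.Lib.Helper16.SympDescent.gsp_mat k hk
  · rintro ⟨c, hc0, hc⟩
    obtain ⟨k', hk', hkk'⟩ := Cfsg.Agent.Lib.Helper16.SympDescent.mem_gsp_of_mat k.1 (k⁻¹).1
      (gl_mul_inv k) c hc0 hc
    have : k' = k := Units.ext hkk'
    rw [← this]
    exact hk'

end

end Cfsg.Agent.Lib.Helper16.GraphInvPSL
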