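import Mathlib
import Cfsg.Agent.Lib.Helper16.GraphInvPSL6

/-!
# The three classes of involutory graph automorphisms of `PSL_n(q)`, `n` even, `q` odd: main
-/

set_option autoImplicit false
set_option linter.unusedSectionVars false
set_option linter.unusedVariables false
set_option linter.style.haveILetI false

namespace Cfsg.Agent.Lib.Helper16.GraphInvPSL

open Matrix Cfsg Cfsg.Agent.Lib.Helper6 Cfsg.Agent.Lib.Helper6.AutPSL
  Cfsg.Agent.Lib.Helper16.FieldCoset Cfsg.Agent.Lib.Helper16.GraphFieldCoset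
  Cfsg.Agent.Lib.Helper16.FieldCentPSL Cfsg.Agent.Lib.Helper16.GraphFieldCentPSL
  Cfsg.Agent.Lib.Helper16.OrthClassify Cfsg.Agent.Lib.Helper16.GraphCentPSL

section
variable {F : Type*} [Field F] {n : ℕ}

local notation "PSLn" => Matrix.ProjectiveSpecialLinearGroup (Fin n) F

variable {ι' : Type} [Fintype ι'] [DecidableEq ι']

theorem reGL_symm (e : Fin n ≃ ι') (G' : Matrix ι' ι' F) (hG' : G'.IsSymm) (hdet : G'.det ≠ 0) :
    ((reGL e G' G'⁻¹ (Matrix.mul_nonsing_inv _ (isUnit_iff_ne_zero.mpr hdet))).1)ᵀ =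
      (reGL e G' G'⁻¹ (Matrix.mul_nonsing_inv _ (isUnit_iff_ne_zero.mpr hdet))).1 := by
  rw [reGL_val, Matrix.transpose_submatrix, Matrix.transpose_nonsing_inv, hG'.eq]

theorem reGL_det (e : Fin n ≃ ι') (G' : Matrix ι' ι' F) (hdet : G'.det ≠ 0) :
    (reGL e G' G'⁻¹ (Matrix.mul_nonsing_inv _ (isUnit_iff_ne_zero.mpr hdet))).1.det =
      (G'.det)⁻¹ := by
  rw [reGL_val, Matrix.det_submatrix_equiv_self, Matrix.det_nonsing_inv, Ring.inverse_eq_inv']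

theorem reGL_J_skew {m : ℕ} (e : Fin n ≃ Fin m ⊕ Fin m) :
    ((reGL e (Matrix.J (Fin m) F) (-Matrix.J (Fin m) F) (J_mul_neg_J m)).1)ᵀ =
      -(reGL e (Matrix.J (Fin m) F) (-Matrix.J (Fin m) F) (J_mul_neg_J m)).1 := by
  rw [reGL_val, Matrix.transpose_submatrix, Matrix.transpose_neg, Matrix.J_transpose, neg_neg]
  ext i j
  simp

end

section main
variable {F : Type*} [Field F] [Fintype F]

/-- the three classes of involutory graph automorphisms of `PSL_n(q)`, `n` even, `q` odd -/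
theorem main (hodd : Odd (Fintype.card F)) {n m : ℕ} (hm : 2 ≤ m) (hnm : n = 2 * m) :
    ∃ (γ₁ γ₂ γ₃ : MulAut (Matrix.ProjectiveSpecialLinearGroup (Fin n) F)) (a b : F),
      (∀ z₁ z₂ : F, z₁ ^ 2 + a * z₁ * z₂ + b * z₂ ^ 2 = 0 → z₁ = 0 ∧ z₂ = 0) ∧
      Cfsg.IsGraphAutClassPSL γ₁ ∧ orderOf γ₁ = 2 ∧ Cfsg.IsGraphAutClassPSL γ₂ ∧
      orderOf γ₂ = 2 ∧ Cfsg.IsGraphAutClassPSL γ₃ ∧ orderOf γ₃ = 2 ∧
      ¬ Cfsg.IsConjUnder (Cfsg.inndiagPSL n F) γ₁ γ₂ ∧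
      ¬ Cfsg.IsConjUnder (Cfsg.inndiagPSL n F) γ₁ γ₃ ∧
      ¬ Cfsg.IsConjUnder (Cfsg.inndiagPSL n F) γ₂ γ₃ ∧
      (∀ γ : MulAut (Matrix.ProjectiveSpecialLinearGroup (Fin n) F),
        Cfsg.IsGraphAutClassPSL γ → orderOf γ = 2 →
          Cfsg.IsConjUnder (Cfsg.inndiagPSL n F) γ₁ γ ∨
          Cfsg.IsConjUnder (Cfsg.inndiagPSL n F) γ₂ γ ∨
          Cfsg.IsConjUnder (Cfsg.inndiagPSL n F) γ₃ γ) ∧
      Nonempty (↥(Cfsg.inndiagPSL n F ⊓ Subgroup.centralizer {γ₁}) ≃* Cfsg.PGSp m F) ∧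
      Nonempty (↥(Cfsg.inndiagPSL n F ⊓ Subgroup.centralizer {γ₂}) ≃*
        Cfsg.PGO F (Cfsg.quadFormPlus m F)) ∧
      Nonempty (↥(Cfsg.inndiagPSL n F ⊓ Subgroup.centralizer {γ₃}) ≃*
        Cfsg.PGO F (Cfsg.quadFormMinus (m - 1) F a b)) := by
  classical
  have hn2 : 2 ≤ n := by omega
  have hn3 : 3 ≤ n := by omega
  have hch : ringChar F ≠ 2 := by
    intro h
    have := FiniteField.even_card_of_char_two h
    rw [← Nat.even_iff] at this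
    exact (Nat.not_even_iff_odd.mpr hodd) this
  have h2 : (2 : F) ≠ 0 := Ring.two_ne_zero hch
  obtain ⟨α, hα⟩ := FiniteField.exists_nonsquare hch
  have hα0 : α ≠ 0 := by
    rintro rfl
    exact hα ⟨0, by simp⟩
  -- the reindexings
  have hcard₁ : Fintype.card (Fin m ⊕ Fin m) = n := by
    rw [Fintype.card_sum, Fintype.card_fin]; omega
  have hcard₃ : Fintype.card ((Fin (m - 1) ⊕ Fin (m - 1)) ⊕ Fin 2) = n := by
    rw [Fintype.card_sum, Fintype.card_sum, Fintype.card_fin, Fintype.card_fin]; omega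
  obtain ⟨e₁, -⟩ : ∃ e₁ : Fin n ≃ Fin m ⊕ Fin m, e₁ = e₁ :=
    ⟨(Fintype.equivFinOfCardEq hcard₁).symm, rfl⟩
  obtain ⟨e₃, -⟩ : ∃ e₃ : Fin n ≃ (Fin (m - 1) ⊕ Fin (m - 1)) ⊕ Fin 2, e₃ = e₃ :=
    ⟨(Fintype.equivFinOfCardEq hcard₃).symm, rfl⟩
  -- the Gram matrices
  have hdet₂ : (gramPlus (F := F) m).det ≠ 0 := gramPlus_det_ne_zero m h2
  have hdet₃ : (gramMinusB (F := F) (m - 1) (-α)).det ≠ 0 := by
    rw [gramMinusB_det]
    exact mul_ne_zero (gramPlus_det_ne_zero (m - 1) h2) (neg_ne_zero.mpr hα0)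
  obtain ⟨g₁, hg₁⟩ : ∃ g₁ : GL (Fin n) F,
      g₁ = reGL e₁ (Matrix.J (Fin m) F) (-Matrix.J (Fin m) F) (J_mul_neg_J m) := ⟨_, rfl⟩
  obtain ⟨g₂, hg₂⟩ : ∃ g₂ : GL (Fin n) F,
      g₂ = reGL e₁ (gramPlus (F := F) m) (gramPlus (F := F) m)⁻¹
        (Matrix.mul_nonsing_inv _ (isUnit_iff_ne_zero.mpr hdet₂)) := ⟨_, rfl⟩
  obtain ⟨g₃, hg₃⟩ : ∃ g₃ : GL (Fin n) F,
      g₃ = reGL e₃ (gramMinusB (F := F) (m - 1) (-α)) (gramMinusB (F := F) (m - 1) (-α))⁻¹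
        (Matrix.mul_nonsing_inv _ (isUnit_iff_ne_zero.mpr hdet₃)) := ⟨_, rfl⟩
  have hs₁ : (g₁.1)ᵀ = -g₁.1 := by rw [hg₁]; exact reGL_J_skew e₁
  have hs₂ : (g₂.1)ᵀ = g₂.1 := by rw [hg₂]; exact reGL_symm e₁ _ (gramPlus_symm m) hdet₂
  have hs₃ : (g₃.1)ᵀ = g₃.1 := by
    rw [hg₃]; exact reGL_symm e₃ _ (gramMinusB_symm (m - 1) (-α)) hdet₃
  have hd₂ : g₂.1.det = ((gramPlus (F := F) m).det)⁻¹ := by rw [hg₂]; exact reGL_det e₁ _ hdet₂
  have hd₃ : g₃.1.det = ((gramMinusB (F := F) (m - 1) (-α)).det)⁻¹ := by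
    rw [hg₃]; exact reGL_det e₃ _ hdet₃
  -- the discriminants differ
  have hns : ¬ IsSquare (g₂.1.det * g₃.1.det) := by
    rintro ⟨t, ht⟩
    apply hα
    obtain ⟨w, hw⟩ : ∃ w : F, w = (-1) ^ (m - 1) * ((2 : F)⁻¹ ^ m * (2 : F)⁻¹ ^ (m - 1)) :=
      ⟨_, rfl⟩
    have hprod : (gramPlus (F := F) m).det * (gramMinusB (F := F) (m - 1) (-α)).det =
        α * (w * w) := by
      rw [gramMinusB_det, gramPlus_det, gramPlus_det, hw]
      have hm1 : (-1 : F) ^ m = (-1) ^ (m - 1) * (-1) := by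
        rw [← pow_succ]
        congr 1
        omega
      rw [hm1]
      ring
    have h1 : α * (w * w) * (t * t) = 1 := by
      rw [← ht, hd₂, hd₃, ← hprod]
      field_simp
    have hwt : w * t ≠ 0 := by
      intro h0
      have : α * (w * w) * (t * t) = α * ((w * t) * (w * t)) := by ring
      rw [this, h0, mul_zero, mul_zero] at h1
      exact zero_ne_one h1
    have hw0 : w ≠ 0 := left_ne_zero_of_mul hwt
    have ht0 : t ≠ 0 := right_ne_zero_of_mul hwt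
    refine ⟨(w * t)⁻¹, ?_⟩
    field_simp
    linear_combination h1
  refine ⟨cP g₁ * tP, cP g₂ * tP, cP g₃ * tP, 0, -α, ?_, ?_, ?_, ?_, ?_, ?_, ?_, ?_, ?_, ?_, ?_,
    ?_, ?_, ?_⟩
  · intro z₁ z₂ h
    by_cases hz : z₂ = 0
    · rw [hz] at h
      refine ⟨?_, hz⟩
      have : z₁ ^ 2 = 0 := by linear_combination h
      exact pow_eq_zero_iff (by norm_num) |>.mp this
    · exfalso
      apply hα
      refine ⟨z₁ / z₂, ?_⟩
      field_simp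
      linear_combination -h
  · exact (graphAut_iff _).mpr ⟨hn3, g₁, rfl⟩
  · exact (orderOf_gtP hn3 g₁).mpr (Or.inr hs₁)
  · exact (graphAut_iff _).mpr ⟨hn3, g₂, rfl⟩
  · exact (orderOf_gtP hn3 g₂).mpr (Or.inl hs₂)
  · exact (graphAut_iff _).mpr ⟨hn3, g₃, rfl⟩
  · exact (orderOf_gtP hn3 g₃).mpr (Or.inl hs₃)
  · exact not_conj_skew_symm hn2 h2 g₁ g₂ hs₁ hs₂
  · exact not_conj_skew_symm hn2 h2 g₁ g₃ hs₁ hs₃
  · exact not_conj_of_det hn2 hnm g₂ g₃ hns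
  · intro γ hγ hγ2
    obtain ⟨-, g, rfl⟩ := (graphAut_iff γ).mp hγ
    rcases (orderOf_gtP hn3 g).mp hγ2 with hs | hs
    · have hgd : g.1.det ≠ 0 := (Matrix.GeneralLinearGroup.det g).ne_zero
      rcases isSquare_or h2 g.1.det g₂.1.det g₃.1.det hgd hns with hsq | hsq
      · right; left
        exact conj_of_symm h2 (by omega) g g₂ hs hs₂ (by rw [mul_comm]; exact hsq)
      · right; right
        exact conj_of_symm h2 (by omega) g g₃ hs hs₃ (by rw [mul_comm]; exact hsq)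
    · left
      exact conj_of_skew h2 e₁ g g₁ hs (by rw [hg₁]; rfl)
  · rw [hg₁]
    exact cent_iso_symp hn2 e₁
  · rw [hg₂]
    exact cent_iso_quad hn2 h2 e₁ (Cfsg.quadFormPlus m F) (gramPlus m) _ (gramPlus_symm m)
      (gramPlus_apply m h2) _
  · rw [hg₃]
    exact cent_iso_quad hn2 h2 e₃ (Cfsg.quadFormMinus (m - 1) F 0 (-α)) (gramMinusB (m - 1) (-α)) _
      (gramMinusB_symm (m - 1) (-α)) (gramMinusB_apply (m - 1) h2 (-α)) _

end main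

end Cfsg.Agent.Lib.Helper16.GraphInvPSL
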