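import Mathlib
import Cfsg.Agent.Lib.Helper16.GraphInvPSL7
import Cfsg.Agent.Lib.Helper16.Char2Orth

/-!
# Involutory graph automorphisms of `PSL_n(q)`: alternating and non-alternating Gram matrices
-/

set_option autoImplicit false
set_option linter.unusedSectionVars false
set_option linter.unusedVariables false
set_option linter.style.haveILetI false

namespace Cfsg.Agent.Lib.Helper16.GraphInvC2

open Matrix Cfsg Cfsg.Agent.Lib.Helper6 Cfsg.Agent.Lib.Helper6.AutPSL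
  Cfsg.Agent.Lib.Helper16.FieldCoset Cfsg.Agent.Lib.Helper16.GraphFieldCoset
  Cfsg.Agent.Lib.Helper16.FieldCentPSL Cfsg.Agent.Lib.Helper16.GraphFieldCentPSL
  Cfsg.Agent.Lib.Helper16.OrthClassify Cfsg.Agent.Lib.Helper16.GraphCentPSL
  Cfsg.Agent.Lib.Helper16.GraphInvPSL

section
variable {F : Type*} [Field F] {n : ℕ}

local notation "PSLn" => Matrix.ProjectiveSpecialLinearGroup (Fin n) F

/-- the matrix is alternating -/
def IsAlt {κ : Type*} [Fintype κ] (M : Matrix κ κ F) : Prop := ∀ x : κ → F, x ⬝ᵥ (M *ᵥ x) = 0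

theorem isAlt_submatrix {κ κ' : Type*} [Fintype κ] [Fintype κ'] (M : Matrix κ κ F) (e : κ' ≃ κ)
    (h : IsAlt M) : IsAlt (M.submatrix e e) := by
  intro x
  have := h (x ∘ e.symm)
  rw [← this, Matrix.submatrix_mulVec_equiv]
  exact (comp_equiv_symm_dotProduct x _ e).symm

theorem isAlt_congr (g h : Matrix (Fin n) (Fin n) F) (μ : F) (hg : IsAlt g) :
    IsAlt (μ • (h * g * hᵀ)) := by
  intro x
  rw [Matrix.smul_mulVec, dotProduct_smul]
  have : x ⬝ᵥ ((h * g * hᵀ) *ᵥ x) = (hᵀ *ᵥ x) ⬝ᵥ (g *ᵥ (hᵀ *ᵥ x)) := by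
    have := qf_congr hᵀ g x
    rw [Matrix.transpose_transpose] at this
    exact this
  rw [this, hg, smul_zero]

/-- an alternating Gram matrix is not conjugate to a non-alternating one -/
theorem not_conj_alt (hn : 2 ≤ n) (g g' : GL (Fin n) F) (hg : IsAlt g.1) (hg' : ¬ IsAlt g'.1) :
    ¬ Cfsg.IsConjUnder (Cfsg.inndiagPSL n F) (cP g * tP : MulAut PSLn) (cP g' * tP) := by
  intro hc
  obtain ⟨h, μ, e⟩ := of_isConjUnder hn g g' hc
  apply hg'
  rw [e]
  exact isAlt_congr g.1 h.1 μ hg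

theorem isAlt_J (m : ℕ) : IsAlt (Matrix.J (Fin m) F) := by
  intro x
  have := Cfsg.Agent.Lib.Helper6.sympForm_self (m := m) (F := F) x
  rw [Cfsg.Agent.Lib.Helper6.sympForm_def] at this
  exact this

theorem isAlt_neg {κ : Type*} [Fintype κ] (M : Matrix κ κ F) (h : IsAlt M) : IsAlt (-M) := by
  intro x
  rw [Matrix.neg_mulVec, dotProduct_neg, h, neg_zero]

/-- an alternating matrix gives an automorphism conjugate to the standard symplectic one -/
theorem conj_of_alt {m : ℕ} (e : Fin n ≃ Fin m ⊕ Fin m) (g g₁ : GL (Fin n) F)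
    (hg : IsAlt g.1) (hg₁ : g₁.1 = (-(Matrix.J (Fin m) F)).submatrix e e) :
    Cfsg.IsConjUnder (Cfsg.inndiagPSL n F) (cP g₁ * tP : MulAut PSLn) (cP g * tP) := by
  obtain ⟨A, hA⟩ : ∃ A : Matrix (Fin m ⊕ Fin m) (Fin m ⊕ Fin m) F,
      A = g.1.submatrix e.symm e.symm := ⟨_, rfl⟩
  obtain ⟨A', hA'⟩ : ∃ A' : Matrix (Fin m ⊕ Fin m) (Fin m ⊕ Fin m) F,
      A' = (g⁻¹).1.submatrix e.symm e.symm := ⟨_, rfl⟩
  have hAA' : A * A' = 1 := by
    rw [hA, hA', Matrix.submatrix_mul_equiv, gl_mul_inv, Matrix.submatrix_one_equiv]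
  have halt : ∀ x : Fin m ⊕ Fin m → F, x ⬝ᵥ (A *ᵥ x) = 0 := by
    rw [hA]
    exact isAlt_submatrix g.1 e.symm hg
  obtain ⟨d, d', hdd', hJ⟩ := Cfsg.Agent.Lib.Helper16.SympDescent.alt_congr A A' hAA' halt
  have hd'd : d' * d = 1 := mul_eq_one_comm.mp hdd'
  have hAJ : A = d'ᵀ * Matrix.J (Fin m) F * d' := by
    rw [← hJ]
    calc A = (d'ᵀ * dᵀ) * A * (d * d') := by
          rw [← Matrix.transpose_mul, hdd', Matrix.transpose_one, Matrix.one_mul, Matrix.mul_one]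
      _ = d'ᵀ * (dᵀ * A * d) * d' := by simp only [Matrix.mul_assoc]
  obtain ⟨h, hh⟩ : ∃ h : GL (Fin n) F, h.1 = (d'ᵀ).submatrix e e := by
    refine ⟨⟨(d'ᵀ).submatrix e e, (dᵀ).submatrix e e, ?_, ?_⟩, rfl⟩
    · rw [Matrix.submatrix_mul_equiv, ← Matrix.transpose_mul, hdd', Matrix.transpose_one,
        Matrix.submatrix_one_equiv]
    · rw [Matrix.submatrix_mul_equiv, ← Matrix.transpose_mul, hd'd, Matrix.transpose_one,
        Matrix.submatrix_one_equiv]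
  refine isConjUnder_of g₁ g h (-1) ?_
  have hgA : g.1 = A.submatrix e e := by
    rw [hA, Matrix.submatrix_submatrix]
    simp
  rw [hgA, hAJ, hh, hg₁, Matrix.transpose_submatrix, Matrix.transpose_transpose,
    Matrix.submatrix_mul_equiv, Matrix.submatrix_mul_equiv, Matrix.mul_neg, Matrix.neg_mul,
    neg_smul, one_smul]
  ext i j
  simp

/-- two Gram matrices congruent to the identity give conjugate automorphisms -/
theorem conj_of_congr_one (g g' : GL (Fin n) F) (k k' : Matrix (Fin n) (Fin n) F)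
    (hkd : k.det ≠ 0) (hk'd : k'.det ≠ 0) (hk : kᵀ * g.1 * k = 1) (hk' : k'ᵀ * g'.1 * k' = 1) :
    Cfsg.IsConjUnder (Cfsg.inndiagPSL n F) (cP g' * tP : MulAut PSLn) (cP g * tP) := by
  have hu : IsUnit k.det := isUnit_iff_ne_zero.mpr hkd
  have hu' : IsUnit kᵀ.det := by rw [Matrix.det_transpose]; exact hu
  have hg : g.1 = (kᵀ)⁻¹ * k⁻¹ := by
    calc g.1 = ((kᵀ)⁻¹ * kᵀ) * g.1 * (k * k⁻¹) := by
          rw [Matrix.nonsing_inv_mul _ hu', Matrix.mul_nonsing_inv _ hu, Matrix.one_mul,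
            Matrix.mul_one]
      _ = (kᵀ)⁻¹ * (kᵀ * g.1 * k) * k⁻¹ := by simp only [Matrix.mul_assoc]
      _ = (kᵀ)⁻¹ * k⁻¹ := by rw [hk, Matrix.mul_one]
  have hd : ((k' * k⁻¹)ᵀ).det ≠ 0 := by
    rw [Matrix.det_transpose, Matrix.det_mul]
    apply mul_ne_zero hk'd
    intro h0
    have h1 : k * k⁻¹ = 1 := Matrix.mul_nonsing_inv _ hu
    have h2' := congrArg Matrix.det h1
    rw [Matrix.det_mul, h0, mul_zero, Matrix.det_one] at h2'
    exact zero_ne_one h2'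
  refine isConjUnder_of g' g (glOfDet _ hd) 1 ?_
  rw [one_smul, glOfDet_val, Matrix.transpose_transpose, hg, Matrix.transpose_mul,
    Matrix.transpose_nonsing_inv]
  calc (kᵀ)⁻¹ * k⁻¹ = (kᵀ)⁻¹ * (k'ᵀ * g'.1 * k') * k⁻¹ := by rw [hk', Matrix.mul_one]
    _ = (kᵀ)⁻¹ * k'ᵀ * g'.1 * (k' * k⁻¹) := by simp only [Matrix.mul_assoc]

end

end Cfsg.Agent.Lib.Helper16.GraphInvC2
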