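import Mathlib
import Cfsg.Agent.Lib.Helper16.GraphInvC2

/-!
# In characteristic two the projective similarity group is the isometry group
-/

set_option autoImplicit false
set_option linter.unusedSectionVars false
set_option linter.unusedVariables false
set_option linter.style.haveILetI false

namespace Cfsg.Agent.Lib.Helper16.GraphInvC2

open Matrix Cfsg Cfsg.Agent.Lib.Helper6 Cfsg.Agent.Lib.Helper6.AutPSL

section
variable {F : Type*} [Field F] {ι' : Type} [Fintype ι'] [DecidableEq ι']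

/-- a non-zero scalar matrix as an element of `GL` -/
def scalarGL (τ : F) (hτ : τ ≠ 0) : GL ι' F :=
  ⟨τ • 1, τ⁻¹ • 1, by
    rw [Matrix.smul_mul, Matrix.one_mul, smul_smul, mul_inv_cancel₀ hτ, one_smul], by
    rw [Matrix.smul_mul, Matrix.one_mul, smul_smul, inv_mul_cancel₀ hτ, one_smul]⟩

theorem scalarGL_val (τ : F) (hτ : τ ≠ 0) : (scalarGL (ι' := ι') τ hτ).1 = τ • 1 := rfl

theorem scalarGL_mem (τ : F) (hτ : τ ≠ 0) :
    scalarGL (ι' := ι') τ hτ ∈ Cfsg.Geo.scalars ι' F := by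
  rw [Cfsg.Geo.mem_scalars_iff]
  exact ⟨Units.mk0 τ hτ, rfl⟩

theorem projQuot_iso_isometry [Finite F] [CharP F 2] (G : Matrix ι' ι' F) (hG : G ≠ 0)
    (H H₁ : Subgroup (GL ι' F))
    (hH : ∀ k : GL ι' F, k ∈ H ↔ ∃ c : F, c ≠ 0 ∧ (k.1)ᵀ * G * k.1 = c • G)
    (hH₁ : ∀ k : GL ι' F, k ∈ H₁ ↔ (k.1)ᵀ * G * k.1 = G) :
    Nonempty (Cfsg.projQuot H ≃* ↥H₁) := by
  have h2 : (2 : F) = 0 := Cfsg.Agent.Lib.Helper16.Char2Orth.two_eq_zero'
  have hle : H₁ ≤ H := by
    intro k hk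
    rw [hH]
    exact ⟨1, one_ne_zero, by rw [one_smul]; exact (hH₁ k).mp hk⟩
  obtain ⟨φ, hφ⟩ : ∃ φ : ↥H₁ →* Cfsg.projQuot H,
      φ = (QuotientGroup.mk' ((Cfsg.Geo.scalars ι' F).subgroupOf H)).comp
        (Subgroup.inclusion hle) := ⟨_, rfl⟩
  have hinj : Function.Injective φ := by
    rw [injective_iff_map_eq_one]
    intro x hx
    rw [hφ, MonoidHom.comp_apply, QuotientGroup.mk'_apply, QuotientGroup.eq_one_iff,
      Subgroup.mem_subgroupOf, Cfsg.Geo.mem_scalars_iff] at hx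
    obtain ⟨c, hc⟩ := hx
    have hc' : x.1.1 = (c : F) • (1 : Matrix ι' ι' F) := hc
    have h1 := (hH₁ x.1).mp x.2
    rw [hc', Matrix.transpose_smul, Matrix.transpose_one, Matrix.smul_mul, Matrix.one_mul,
      Matrix.mul_smul, Matrix.mul_one, smul_smul] at h1
    obtain ⟨i, j, hij⟩ : ∃ i j, G i j ≠ 0 := by
      by_contra hcon
      push Not at hcon
      exact hG (Matrix.ext hcon)
    have h3 := congrFun (congrFun h1 i) j
    rw [Matrix.smul_apply, smul_eq_mul] at h3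
    have h4 : ((c : F) * c - 1) * G i j = 0 := by linear_combination h3
    have h5 : (c : F) * c - 1 = 0 := (mul_eq_zero.mp h4).resolve_right hij
    have h6 : ((c : F) - 1) * ((c : F) - 1) = 0 := by linear_combination h5 - ((c : F) - 1) * h2
    have h7 : (c : F) = 1 := by
      rcases mul_eq_zero.mp h6 with h | h <;> linear_combination h
    apply Subtype.ext
    apply Units.ext
    rw [hc', h7, one_smul]
    rfl
  have hsurj : Function.Surjective φ := by
    intro y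
    obtain ⟨k, rfl⟩ := QuotientGroup.mk_surjective y
    obtain ⟨c, hc0, hc⟩ := (hH k.1).mp k.2
    obtain ⟨τ, hτ⟩ := FiniteField.isSquare_of_char_two (ringChar.eq F 2) c
    have hτ0 : τ ≠ 0 := by
      rintro rfl
      rw [mul_zero] at hτ
      exact hc0 hτ
    have hmem : scalarGL τ⁻¹ (inv_ne_zero hτ0) * k.1 ∈ H₁ := by
      rw [hH₁, Units.val_mul, scalarGL_val, Matrix.smul_mul, Matrix.one_mul, Matrix.transpose_smul,
        Matrix.smul_mul, Matrix.smul_mul, Matrix.mul_smul, smul_smul, hc, smul_smul, hτ]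
      have : τ⁻¹ * τ⁻¹ * (τ * τ) = 1 := by field_simp
      rw [this, one_smul]
    refine ⟨⟨_, hmem⟩, ?_⟩
    rw [hφ, MonoidHom.comp_apply, QuotientGroup.mk'_apply]
    rw [QuotientGroup.eq, Subgroup.mem_subgroupOf]
    have : ((Subgroup.inclusion hle ⟨_, hmem⟩ : ↥H)⁻¹ * k : ↥H).1 =
        scalarGL τ hτ0 := by
      change (scalarGL τ⁻¹ (inv_ne_zero hτ0) * k.1)⁻¹ * k.1 = _
      apply Units.ext
      rw [_root_.mul_inv_rev, mul_assoc]
      have e1 : (scalarGL (ι' := ι') τ⁻¹ (inv_ne_zero hτ0))⁻¹ = scalarGL τ hτ0 := by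
        rw [inv_eq_iff_eq_inv]
        apply Units.ext
        change τ⁻¹ • (1 : Matrix ι' ι' F) = τ⁻¹ • 1
        rfl
      rw [e1]
      have hcomm : k.1⁻¹ * (scalarGL τ hτ0 * k.1) = scalarGL τ hτ0 := by
        apply Units.ext
        rw [Units.val_mul, Units.val_mul, scalarGL_val, Matrix.smul_mul, Matrix.one_mul,
          Matrix.mul_smul]
        have : (k.1⁻¹).1 * k.1.1 = 1 := by rw [← Units.val_mul, inv_mul_cancel]; rfl
        rw [this]
      rw [hcomm]
    rw [this]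
    exact scalarGL_mem τ hτ0
  exact ⟨(MulEquiv.ofBijective φ ⟨hinj, hsurj⟩).symm⟩

end

end Cfsg.Agent.Lib.Helper16.GraphInvC2
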