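import Mathlib
import Cfsg.Agent.Lib.Helper16.GraphInvC2b

/-!
# The isometry group of `J + w wᵀ` in characteristic two is the centralizer of a transvection
-/

set_option autoImplicit false
set_option linter.unusedSectionVars false
set_option linter.unusedVariables false
set_option linter.style.haveILetI false

namespace Cfsg.Agent.Lib.Helper16.GraphInvC2

open Matrix Cfsg Cfsg.Agent.Lib.Helper6 Cfsg.Agent.Lib.Helper6.AutPSL

section
variable {F : Type*} [Field F] {m : ℕ}

local notation "Mat" => Matrix (Fin m ⊕ Fin m) (Fin m ⊕ Fin m) F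
local notation "Jm" => Matrix.J (Fin m) F

/-- the symplectic group inside the general linear group -/
noncomputable def spGL : ↥(Matrix.symplecticGroup (Fin m) F) →* GL (Fin m ⊕ Fin m) F :=
  (Units.map (Matrix.symplecticGroup (Fin m) F).subtype).comp toUnits.toMonoidHom

theorem spGL_val (s : ↥(Matrix.symplecticGroup (Fin m) F)) : (spGL s).1 = s.1 := rfl

theorem spGL_injective : Function.Injective (spGL (F := F) (m := m)) := by
  intro a b h
  apply Subtype.ext
  have := congrArg Units.val h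
  exact this

theorem mem_range_spGL (k : GL (Fin m ⊕ Fin m) F) :
    k ∈ (spGL (F := F) (m := m)).range ↔ (k.1)ᵀ * Jm * k.1 = Jm := by
  constructor
  · rintro ⟨s, rfl⟩
    exact SymplecticGroup.mem_iff'.mp s.2
  · intro h
    exact ⟨⟨k.1, SymplecticGroup.mem_iff'.mpr h⟩, Units.ext rfl⟩

theorem J_mul_J : Jm * Jm = -1 := Matrix.J_squared (Fin m) F

theorem J_mulVec_injective (x y : Fin m ⊕ Fin m → F) (h : Jm *ᵥ x = Jm *ᵥ y) : x = y := by
  have := congrArg (fun v => (-Jm) *ᵥ v) h
  simp only [Matrix.mulVec_mulVec, Matrix.neg_mul, J_mul_J, neg_neg, Matrix.one_mulVec] at this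
  exact this

variable (z : Fin m ⊕ Fin m → F)

/-- the Gram matrix `J + w wᵀ`, `w = J z` -/
def G3 : Mat := Jm + Matrix.vecMulVec (Jm *ᵥ z) (Jm *ᵥ z)

/-- its inverse -/
def G3inv : Mat := -Jm + Matrix.vecMulVec z z

theorem z_dot_w : z ⬝ᵥ (Jm *ᵥ z) = 0 := isAlt_J m z

theorem w_vecMul_J : (Jm *ᵥ z) ᵥ* Jm = z := by
  rw [← Matrix.mulVec_transpose, Matrix.J_transpose, Matrix.mulVec_mulVec, Matrix.neg_mul, J_mul_J,
    neg_neg, Matrix.one_mulVec]

theorem G3_mul_G3inv : G3 z * G3inv z = 1 := by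
  unfold G3 G3inv
  rw [Matrix.add_mul, Matrix.mul_add, Matrix.mul_add, Matrix.mul_neg, J_mul_J, neg_neg,
    Matrix.mul_vecMulVec, Matrix.mul_neg, Matrix.vecMulVec_mul, w_vecMul_J,
    Matrix.vecMulVec_mul, Matrix.vecMul_vecMulVec, dotProduct_comm, z_dot_w, zero_smul]
  ext i j
  simp [Matrix.vecMulVec_apply]

end

end Cfsg.Agent.Lib.Helper16.GraphInvC2
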