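import Mathlib
import Cfsg.Agent.Lib.Helper16.GraphInvC2c

/-!
# The isometry group of `J + w wᵀ` in characteristic two (II)
-/

set_option autoImplicit false
set_option linter.unusedSectionVars false
set_option linter.unusedVariables false
set_option linter.style.haveILetI false

namespace Cfsg.Agent.Lib.Helper16.GraphInvC2

open Matrix Cfsg Cfsg.Agent.Lib.Helper6 Cfsg.Agent.Lib.Helper6.AutPSL
  Cfsg.Agent.Lib.Helper16.OrthClassify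

section
variable {F : Type*} [Field F] {m : ℕ}

local notation "Mat" => Matrix (Fin m ⊕ Fin m) (Fin m ⊕ Fin m) F
local notation "Jm" => Matrix.J (Fin m) F

variable (z : Fin m ⊕ Fin m → F)

theorem congr_vecMulVec (K : Mat) (w : Fin m ⊕ Fin m → F) :
    Kᵀ * Matrix.vecMulVec w w * K = Matrix.vecMulVec (Kᵀ *ᵥ w) (Kᵀ *ᵥ w) := by
  rw [Matrix.mul_vecMulVec, Matrix.vecMulVec_mul, Matrix.mulVec_transpose]

theorem qf_G3 (u : Fin m ⊕ Fin m → F) :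
    u ⬝ᵥ (G3 z *ᵥ u) = (u ⬝ᵥ (Jm *ᵥ z)) * (u ⬝ᵥ (Jm *ᵥ z)) := by
  unfold G3
  rw [Matrix.add_mulVec, dotProduct_add, isAlt_J m u, zero_add, Matrix.vecMulVec_mulVec,
    dotProduct_smul]
  simp only [MulOpposite.smul_eq_mul_unop, MulOpposite.unop_op]
  rw [dotProduct_comm (Jm *ᵥ z) u]

/-- E1 -/
theorem isom_G3_iff [CharP F 2] (K : Mat) :
    Kᵀ * G3 z * K = G3 z ↔ (Kᵀ * Jm * K = Jm ∧ Kᵀ *ᵥ (Jm *ᵥ z) = Jm *ᵥ z) := by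
  have h2 : (2 : F) = 0 := by
    have := CharP.cast_eq_zero F 2
    exact_mod_cast this
  have hsplit : Kᵀ * G3 z * K = Kᵀ * Jm * K +
      Matrix.vecMulVec (Kᵀ *ᵥ (Jm *ᵥ z)) (Kᵀ *ᵥ (Jm *ᵥ z)) := by
    unfold G3
    rw [Matrix.mul_add, Matrix.add_mul, congr_vecMulVec]
  constructor
  · intro h
    have hw : Kᵀ *ᵥ (Jm *ᵥ z) = Jm *ᵥ z := by
      have key : ∀ u : Fin m ⊕ Fin m → F, u ⬝ᵥ (Kᵀ *ᵥ (Jm *ᵥ z)) = u ⬝ᵥ (Jm *ᵥ z) := by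
        intro u
        have h1 : u ⬝ᵥ ((Kᵀ * G3 z * K) *ᵥ u) = (K *ᵥ u) ⬝ᵥ (G3 z *ᵥ (K *ᵥ u)) := qf_congr K _ u
        rw [h, qf_G3, qf_G3] at h1
        have h3 : (K *ᵥ u) ⬝ᵥ (Jm *ᵥ z) = u ⬝ᵥ (Kᵀ *ᵥ (Jm *ᵥ z)) := by
          rw [Matrix.mulVec_transpose, dotProduct_comm, Matrix.dotProduct_mulVec, dotProduct_comm]
        rw [h3] at h1
        have h4 : (u ⬝ᵥ (Kᵀ *ᵥ (Jm *ᵥ z)) - u ⬝ᵥ (Jm *ᵥ z)) *
            (u ⬝ᵥ (Kᵀ *ᵥ (Jm *ᵥ z)) - u ⬝ᵥ (Jm *ᵥ z)) = 0 := by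
          linear_combination -h1 -
            (u ⬝ᵥ (Kᵀ *ᵥ (Jm *ᵥ z)) * (u ⬝ᵥ (Jm *ᵥ z)) - (u ⬝ᵥ (Jm *ᵥ z)) * (u ⬝ᵥ (Jm *ᵥ z))) * h2
        rcases mul_eq_zero.mp h4 with h5 | h5 <;> linear_combination h5
      funext i
      have := key (Pi.single i 1)
      rw [single_one_dotProduct, single_one_dotProduct] at this
      exact this
    refine ⟨?_, hw⟩
    rw [hsplit, hw] at h
    unfold G3 at h
    exact add_right_cancel h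
  · rintro ⟨h1, hw⟩
    rw [hsplit, h1, hw]
    rfl

/-- E2 -/
theorem fix_w_iff (k : GL (Fin m ⊕ Fin m) F) (hk : (k.1)ᵀ * Jm * k.1 = Jm) :
    (k.1)ᵀ *ᵥ (Jm *ᵥ z) = Jm *ᵥ z ↔ k.1 *ᵥ z = z := by
  have hkJ : (k.1)ᵀ * Jm = Jm * (k⁻¹).1 := by
    calc (k.1)ᵀ * Jm = (k.1)ᵀ * Jm * (k.1 * (k⁻¹).1) := by rw [gl_mul_inv, Matrix.mul_one]
      _ = ((k.1)ᵀ * Jm * k.1) * (k⁻¹).1 := by simp only [Matrix.mul_assoc]
      _ = Jm * (k⁻¹).1 := by rw [hk]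
  rw [Matrix.mulVec_mulVec, hkJ, ← Matrix.mulVec_mulVec]
  constructor
  · intro h
    have h1 := J_mulVec_injective _ _ h
    calc k.1 *ᵥ z = k.1 *ᵥ ((k⁻¹).1 *ᵥ z) := by rw [h1]
      _ = z := by rw [Matrix.mulVec_mulVec, gl_mul_inv, Matrix.one_mulVec]
  · intro h
    congr 1
    calc (k⁻¹).1 *ᵥ z = (k⁻¹).1 *ᵥ (k.1 *ᵥ z) := by rw [h]
      _ = z := by rw [Matrix.mulVec_mulVec, gl_inv_mul, Matrix.one_mulVec]

end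

end Cfsg.Agent.Lib.Helper16.GraphInvC2
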