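import Mathlib
import Cfsg.Agent.Lib.Helper16.GraphInvC2d

/-!
# The isometry group of `J + w wᵀ` in characteristic two (III): commuting with the transvection
-/

set_option autoImplicit false
set_option linter.unusedSectionVars false
set_option linter.unusedVariables false
set_option linter.style.haveILetI false

namespace Cfsg.Agent.Lib.Helper16.GraphInvC2

open Matrix Cfsg Cfsg.Agent.Lib.Helper6 Cfsg.Agent.Lib.Helper6.AutPSL
  Cfsg.Agent.Lib.Helper16.OrthClassify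

section
variable {F : Type*} [Field F] {m : ℕ}

local notation "Mat" => Matrix (Fin m ⊕ Fin m) (Fin m ⊕ Fin m) F
local notation "Jm" => Matrix.J (Fin m) F

variable (z : Fin m ⊕ Fin m → F)

theorem tv_eq : Cfsg.sympTransvection m z (1 : F) = 1 + Matrix.vecMulVec z (Jm *ᵥ z) := by
  unfold Cfsg.sympTransvection
  rw [one_smul]

theorem w_ne_zero (hz : z ≠ 0) : Jm *ᵥ z ≠ 0 := by
  intro h
  apply hz
  apply J_mulVec_injective
  rw [h, Matrix.mulVec_zero]

/-- E3 -/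
theorem comm_tv_iff [CharP F 2] (hz : z ≠ 0) (k : GL (Fin m ⊕ Fin m) F)
    (hk : (k.1)ᵀ * Jm * k.1 = Jm) :
    k.1 * Cfsg.sympTransvection m z (1 : F) = Cfsg.sympTransvection m z (1 : F) * k.1 ↔
      k.1 *ᵥ z = z := by
  have h2 : (2 : F) = 0 := by
    have := CharP.cast_eq_zero F 2
    exact_mod_cast this
  rw [tv_eq, Matrix.mul_add, Matrix.add_mul, Matrix.mul_one, Matrix.one_mul,
    Matrix.mul_vecMulVec, Matrix.vecMulVec_mul, ← Matrix.mulVec_transpose]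
  constructor
  · intro h
    have h1 : Matrix.vecMulVec (k.1 *ᵥ z) (Jm *ᵥ z) =
        Matrix.vecMulVec z ((k.1)ᵀ *ᵥ (Jm *ᵥ z)) := add_left_cancel h
    obtain ⟨j₀, hj₀⟩ : ∃ j₀, (Jm *ᵥ z) j₀ ≠ 0 := by
      by_contra hcon
      push Not at hcon
      exact w_ne_zero z hz (funext hcon)
    obtain ⟨i₁, hi₁⟩ : ∃ i₁, z i₁ ≠ 0 := by
      by_contra hcon
      push Not at hcon
      exact hz (funext hcon)
    obtain ⟨a, ha⟩ : ∃ a : F, a = ((k.1)ᵀ *ᵥ (Jm *ᵥ z)) j₀ / (Jm *ᵥ z) j₀ := ⟨_, rfl⟩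
    have hkz : k.1 *ᵥ z = a • z := by
      funext i
      have := congrFun (congrFun h1 i) j₀
      rw [Matrix.vecMulVec_apply, Matrix.vecMulVec_apply] at this
      rw [Pi.smul_apply, smul_eq_mul, ha]
      field_simp
      linear_combination this
    have ha0 : a ≠ 0 := by
      rintro rfl
      rw [zero_smul] at hkz
      apply hz
      calc z = (k⁻¹).1 *ᵥ (k.1 *ᵥ z) := by
            rw [Matrix.mulVec_mulVec, gl_inv_mul, Matrix.one_mulVec]
        _ = 0 := by rw [hkz, Matrix.mulVec_zero]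
    have hkinv : (k⁻¹).1 *ᵥ z = a⁻¹ • z := by
      calc (k⁻¹).1 *ᵥ z = (k⁻¹).1 *ᵥ (a⁻¹ • (a • z)) := by
            rw [smul_smul, inv_mul_cancel₀ ha0, one_smul]
        _ = a⁻¹ • ((k⁻¹).1 *ᵥ (k.1 *ᵥ z)) := by rw [← hkz, Matrix.mulVec_smul]
        _ = a⁻¹ • z := by rw [Matrix.mulVec_mulVec, gl_inv_mul, Matrix.one_mulVec]
    have hkJ : (k.1)ᵀ * Jm = Jm * (k⁻¹).1 := by
      calc (k.1)ᵀ * Jm = (k.1)ᵀ * Jm * (k.1 * (k⁻¹).1) := by rw [gl_mul_inv, Matrix.mul_one]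
        _ = ((k.1)ᵀ * Jm * k.1) * (k⁻¹).1 := by simp only [Matrix.mul_assoc]
        _ = Jm * (k⁻¹).1 := by rw [hk]
    have hkw : (k.1)ᵀ *ᵥ (Jm *ᵥ z) = a⁻¹ • (Jm *ᵥ z) := by
      rw [Matrix.mulVec_mulVec, hkJ, ← Matrix.mulVec_mulVec, hkinv, Matrix.mulVec_smul]
    have h3 := congrFun (congrFun h1 i₁) j₀
    rw [Matrix.vecMulVec_apply, Matrix.vecMulVec_apply, hkz, hkw, Pi.smul_apply, Pi.smul_apply,
      smul_eq_mul, smul_eq_mul] at h3
    have h4 : (a - a⁻¹) * (z i₁ * (Jm *ᵥ z) j₀) = 0 := by linear_combination h3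
    have h5 : a - a⁻¹ = 0 := (mul_eq_zero.mp h4).resolve_right (mul_ne_zero hi₁ hj₀)
    have h6 : a * a = 1 := by
      have : a = a⁻¹ := by linear_combination h5
      calc a * a = a * a⁻¹ := by rw [← this]
        _ = 1 := mul_inv_cancel₀ ha0
    have h7 : (a - 1) * (a - 1) = 0 := by linear_combination h6 - (a - 1) * h2
    have h8 : a = 1 := by rcases mul_eq_zero.mp h7 with h | h <;> linear_combination h
    rw [hkz, h8, one_smul]
  · intro h
    rw [h, (fix_w_iff z k hk).mpr h]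

end

end Cfsg.Agent.Lib.Helper16.GraphInvC2
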