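import Mathlib
import Cfsg.Agent.Lib.Helper16.GraphInvC2e
import Cfsg.Agent.Lib.Helper6.Symp

/-!
# The two centralizers in characteristic two
-/

set_option autoImplicit false
set_option linter.unusedSectionVars false
set_option linter.unusedVariables false
set_option linter.style.haveILetI false

namespace Cfsg.Agent.Lib.Helper16.GraphInvC2

open Matrix Cfsg Cfsg.Agent.Lib.Helper6 Cfsg.Agent.Lib.Helper6.AutPSL
  Cfsg.Agent.Lib.Helper16.OrthClassify Cfsg.Agent.Lib.Helper16.GraphInvPSL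
  Cfsg.Agent.Lib.Helper16.SympDescent

section
variable {F : Type*} [Field F] {ι' : Type} [Fintype ι'] [DecidableEq ι']

/-- the similarity group of the bilinear form with a given Gram matrix -/
def simGram (G : Matrix ι' ι' F) : Subgroup (GL ι' F) :=
  Cfsg.Geo.similarityGroup (fun u v => u ⬝ᵥ (G *ᵥ v))

theorem bil_congr (M G : Matrix ι' ι' F) (u v : ι' → F) :
    (M *ᵥ u) ⬝ᵥ (G *ᵥ (M *ᵥ v)) = u ⬝ᵥ ((Mᵀ * G * M) *ᵥ v) := by
  rw [← Matrix.mulVec_mulVec, ← Matrix.mulVec_mulVec, Matrix.dotProduct_mulVec u,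
    Matrix.vecMul_transpose]

theorem mem_simGram (G : Matrix ι' ι' F) (k : GL ι' F) :
    k ∈ simGram G ↔ ∃ c : F, c ≠ 0 ∧ (k.1)ᵀ * G * k.1 = c • G := by
  constructor
  · rintro ⟨c, hc⟩
    refine ⟨(c : F), c.ne_zero, ?_⟩
    apply mat_ext_form
    intro u v
    have hc' : (k.1 *ᵥ u) ⬝ᵥ (G *ᵥ (k.1 *ᵥ v)) = (c : F) * (u ⬝ᵥ (G *ᵥ v)) := hc u v
    rw [← bil_congr, hc', Matrix.smul_mulVec, dotProduct_smul, smul_eq_mul]
  · rintro ⟨c, hc0, hc⟩
    refine ⟨Units.mk0 c hc0, fun u v => ?_⟩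
    change (k.1 *ᵥ u) ⬝ᵥ (G *ᵥ (k.1 *ᵥ v)) = c * (u ⬝ᵥ (G *ᵥ v))
    rw [bil_congr, hc, Matrix.smul_mulVec, dotProduct_smul, smul_eq_mul]

end

section
variable {F : Type*} [Field F] {m : ℕ}

local notation "Mat" => Matrix (Fin m ⊕ Fin m) (Fin m ⊕ Fin m) F
local notation "Jm" => Matrix.J (Fin m) F

variable (z : Fin m ⊕ Fin m → F)

/-- the transvection attached to `z` -/
noncomputable def tvz : ↥(Matrix.symplecticGroup (Fin m) F) :=
  ⟨Cfsg.sympTransvection m z (1 : F), sympTransvection_mem z 1⟩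

theorem tvz_val : (tvz z).1 = Cfsg.sympTransvection m z (1 : F) := rfl

/-- the image of the centralizer of the transvection is the isometry group of `G3` -/
theorem mem_cent_map_iff [CharP F 2] (hz : z ≠ 0) (k : GL (Fin m ⊕ Fin m) F) :
    k ∈ (Subgroup.centralizer ({tvz z} : Set ↥(Matrix.symplecticGroup (Fin m) F))).map spGL ↔
      (k.1)ᵀ * G3 z * k.1 = G3 z := by
  rw [isom_G3_iff]
  constructor
  · rintro ⟨s, hs, rfl⟩
    have hsJ : ((spGL s).1)ᵀ * Jm * (spGL s).1 = Jm := SymplecticGroup.mem_iff'.mp s.2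
    refine ⟨hsJ, ?_⟩
    rw [fix_w_iff z _ hsJ, ← comm_tv_iff z hz _ hsJ]
    have h1 := Subgroup.mem_centralizer_iff.mp hs (tvz z) rfl
    have h3 := congrArg Subtype.val h1
    exact h3.symm
  · rintro ⟨hkJ, hw⟩
    refine ⟨⟨k.1, SymplecticGroup.mem_iff'.mpr hkJ⟩, ?_, Units.ext rfl⟩
    rw [SetLike.mem_coe, Subgroup.mem_centralizer_iff]
    intro y hy
    rw [Set.mem_singleton_iff] at hy
    subst hy
    apply Subtype.ext
    have := (comm_tv_iff z hz k hkJ).mpr ((fix_w_iff z k hkJ).mp hw)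
    exact this.symm

theorem isTransvection_tvz (hz : z ≠ 0) : Cfsg.IsTransvection ((tvz z).1 : Mat) := by
  rw [tvz_val, tv_eq]
  constructor
  · rw [add_sub_cancel_left]
    apply le_antisymm (Matrix.rank_vecMulVec_le _ _)
    rw [Nat.one_le_iff_ne_zero]
    intro h0
    unfold Matrix.rank at h0
    rw [Submodule.finrank_eq_zero] at h0
    obtain ⟨j₀, hj₀⟩ : ∃ j₀, (Jm *ᵥ z) j₀ ≠ 0 := by
      by_contra hcon
      push Not at hcon
      exact w_ne_zero z hz (funext hcon)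
    have h1 : (Matrix.vecMulVec z (Jm *ᵥ z)).mulVecLin (Pi.single j₀ 1) ∈
        LinearMap.range (Matrix.vecMulVec z (Jm *ᵥ z)).mulVecLin := LinearMap.mem_range_self _ _
    rw [h0, Submodule.mem_bot, Matrix.mulVecLin_apply, Matrix.vecMulVec_mulVec,
      dotProduct_single, mul_one] at h1
    apply hz
    funext i
    have := congrFun h1 i
    simp only [Pi.smul_apply, MulOpposite.smul_eq_mul_unop, MulOpposite.unop_op,
      Pi.zero_apply] at this
    exact (mul_eq_zero.mp this).resolve_right hj₀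
  · rw [add_sub_cancel_left, Matrix.vecMulVec_mul, Matrix.vecMul_vecMulVec, dotProduct_comm,
      z_dot_w, zero_smul]
    ext i j
    simp [Matrix.vecMulVec_apply]

end

end Cfsg.Agent.Lib.Helper16.GraphInvC2
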