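import Mathlib
import Cfsg.Agent.Lib.Helper16.GraphInvC2f

/-!
# The two classes of involutory graph automorphisms of `PSL_n(q)`, `n` even, `q` even
-/

set_option autoImplicit false
set_option linter.unusedSectionVars false
set_option linter.unusedVariables false
set_option linter.style.haveILetI false

namespace Cfsg.Agent.Lib.Helper16.GraphInvC2

open Matrix Cfsg Cfsg.Agent.Lib.Helper6 Cfsg.Agent.Lib.Helper6.AutPSL
  Cfsg.Agent.Lib.Helper16.FieldCoset Cfsg.Agent.Lib.Helper16.GraphFieldCoset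
  Cfsg.Agent.Lib.Helper16.FieldCentPSL Cfsg.Agent.Lib.Helper16.GraphFieldCentPSL
  Cfsg.Agent.Lib.Helper16.OrthClassify Cfsg.Agent.Lib.Helper16.GraphCentPSL
  Cfsg.Agent.Lib.Helper16.GraphInvPSL Cfsg.Agent.Lib.Helper16.SympDescent
  Cfsg.Agent.Lib.Helper16.Char2Orth

section
variable {F : Type*} [Field F] [Finite F] [CharP F 2] {n m : ℕ}

local notation "PSLn" => Matrix.ProjectiveSpecialLinearGroup (Fin n) F
local notation "Jm" => Matrix.J (Fin m) F

theorem J_ne_zero (hm : 1 ≤ m) : (Jm : Matrix (Fin m ⊕ Fin m) (Fin m ⊕ Fin m) F) ≠ 0 := by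
  intro h
  have := congrFun (congrFun h (Sum.inr ⟨0, by omega⟩)) (Sum.inl ⟨0, by omega⟩)
  simp [Matrix.J] at this

theorem mem_gsp_iff (k : GL (Fin m ⊕ Fin m) F) :
    k ∈ Cfsg.GSp m F ↔ ∃ c : F, c ≠ 0 ∧ (k.1)ᵀ * Jm * k.1 = c • Jm := by
  constructor
  · intro hk
    exact gsp_mat k hk
  · rintro ⟨c, hc0, hc⟩
    obtain ⟨k', hk', hkk'⟩ := mem_gsp_of_mat k.1 (k⁻¹).1 (gl_mul_inv k) c hc0 hc
    have : k' = k := Units.ext hkk'
    rw [← this]
    exact hk'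

/-- the centralizer of the symplectic type graph automorphism is the symplectic group -/
theorem cent1_iso (hn : 2 ≤ n) (hm : 1 ≤ m) (e : Fin n ≃ Fin m ⊕ Fin m) :
    Nonempty (↥(Cfsg.inndiagPSL n F ⊓ Subgroup.centralizer
      {(cP (reGL e Jm (-Jm) (J_mul_neg_J m)) * tP : MulAut PSLn)}) ≃*
      ↥(Matrix.symplecticGroup (Fin m) F)) := by
  obtain ⟨ψ₁⟩ := cent_iso_symp (F := F) hn e
  obtain ⟨ψ₂⟩ := projQuot_iso_isometry Jm (J_ne_zero hm) (Cfsg.GSp m F)
    (spGL (F := F) (m := m)).range mem_gsp_iff mem_range_spGL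
  exact ⟨ψ₁.trans (ψ₂.trans (MonoidHom.ofInjective spGL_injective).symm)⟩

theorem G3_ne_zero (hm : 1 ≤ m) (z : Fin m ⊕ Fin m → F) : G3 z ≠ 0 := by
  intro h
  have h1 := G3_mul_G3inv z
  rw [h, Matrix.zero_mul] at h1
  have := congrFun (congrFun h1 (Sum.inl ⟨0, by omega⟩)) (Sum.inl ⟨0, by omega⟩)
  simp at this

/-- the centralizer of the orthogonal type graph automorphism is the centralizer of a
transvection in the symplectic group -/
theorem cent3_iso (hn : 2 ≤ n) (hm : 1 ≤ m) (e : Fin n ≃ Fin m ⊕ Fin m)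
    (z : Fin m ⊕ Fin m → F) (hz : z ≠ 0) :
    Nonempty (↥(Cfsg.inndiagPSL n F ⊓ Subgroup.centralizer
      {(cP (reGL e (G3 z) (G3inv z) (G3_mul_G3inv z)) * tP : MulAut PSLn)}) ≃*
      ↥(Subgroup.centralizer ({tvz z} : Set ↥(Matrix.symplecticGroup (Fin m) F)))) := by
  obtain ⟨P, P', hPP', hP'P, hP⟩ := exists_frame (F := F) e
  obtain ⟨ψ₁⟩ := cent_iso_gram hn (reGL e (G3 z) (G3inv z) (G3_mul_G3inv z)) (G3 z) P P' hPP' hP'P
    (by rw [hP]; exact reGL_mul e _ _ (G3_mul_G3inv z)) (simGram (G3 z)) (mem_simGram _)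
  obtain ⟨ψ₂⟩ := projQuot_iso_isometry (G3 z) (G3_ne_zero hm z) (simGram (G3 z))
    ((Subgroup.centralizer ({tvz z} : Set ↥(Matrix.symplecticGroup (Fin m) F))).map spGL)
    (mem_simGram _) (mem_cent_map_iff z hz)
  exact ⟨ψ₁.trans (ψ₂.trans (Subgroup.equivMapOfInjective _ spGL spGL_injective).symm)⟩

end

end Cfsg.Agent.Lib.Helper16.GraphInvC2
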