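import Mathlib
import Cfsg.Agent.Lib.Helper16.GraphInvC2g

/-!
# The two classes of involutory graph automorphisms of `PSL_n(q)`, `n` even, `q` even: main
-/

set_option autoImplicit false
set_option linter.unusedSectionVars false
set_option linter.unusedVariables false
set_option linter.style.haveILetI false

namespace Cfsg.Agent.Lib.Helper16.GraphInvC2

open Matrix Cfsg Cfsg.Agent.Lib.Helper6 Cfsg.Agent.Lib.Helper6.AutPSL
  Cfsg.Agent.Lib.Helper16.FieldCoset Cfsg.Agent.Lib.Helper16.GraphFieldCoset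
  Cfsg.Agent.Lib.Helper16.FieldCentPSL Cfsg.Agent.Lib.Helper16.GraphFieldCentPSL
  Cfsg.Agent.Lib.Helper16.OrthClassify Cfsg.Agent.Lib.Helper16.GraphCentPSL
  Cfsg.Agent.Lib.Helper16.GraphInvPSL Cfsg.Agent.Lib.Helper16.SympDescent
  Cfsg.Agent.Lib.Helper16.Char2Orth

section
variable {F : Type*} [Field F] [Fintype F] [CharP F 2]

theorem neg_eq_self_char2 {κ : Type*} (M : Matrix κ κ F) : -M = M := by
  ext i j
  rw [Matrix.neg_apply]
  have h2 : (2 : F) = 0 := two_eq_zero'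
  linear_combination -(M i j) * h2

/-- the two classes of involutory graph automorphisms of `PSL_n(q)`, `n` even, `q` even -/
theorem main {n m : ℕ} (hm : 2 ≤ m) (hnm : n = 2 * m) :
    ∃ (γ₁ γ₃ : MulAut (Matrix.ProjectiveSpecialLinearGroup (Fin n) F))
      (t : ↥(Matrix.symplecticGroup (Fin m) F)),
      Cfsg.IsTransvection (t : Matrix (Fin m ⊕ Fin m) (Fin m ⊕ Fin m) F) ∧
      Cfsg.IsGraphAutClassPSL γ₁ ∧ orderOf γ₁ = 2 ∧ Cfsg.IsGraphAutClassPSL γ₃ ∧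
      orderOf γ₃ = 2 ∧ ¬ Cfsg.IsConjUnder (Cfsg.inndiagPSL n F) γ₁ γ₃ ∧
      (∀ γ : MulAut (Matrix.ProjectiveSpecialLinearGroup (Fin n) F),
        Cfsg.IsGraphAutClassPSL γ → orderOf γ = 2 →
          Cfsg.IsConjUnder (Cfsg.inndiagPSL n F) γ₁ γ ∨
          Cfsg.IsConjUnder (Cfsg.inndiagPSL n F) γ₃ γ) ∧
      Nonempty (↥(Cfsg.inndiagPSL n F ⊓ Subgroup.centralizer {γ₁}) ≃*
        ↥(Matrix.symplecticGroup (Fin m) F)) ∧
      Nonempty (↥(Cfsg.inndiagPSL n F ⊓ Subgroup.centralizer {γ₃}) ≃*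
        ↥(Subgroup.centralizer ({t} : Set ↥(Matrix.symplecticGroup (Fin m) F)))) := by
  classical
  have hn2 : 2 ≤ n := by omega
  have hn3 : 3 ≤ n := by omega
  have hm1 : 1 ≤ m := by omega
  have hcard : Fintype.card (Fin m ⊕ Fin m) = n := by
    rw [Fintype.card_sum, Fintype.card_fin]; omega
  obtain ⟨e, -⟩ : ∃ e : Fin n ≃ Fin m ⊕ Fin m, e = e :=
    ⟨(Fintype.equivFinOfCardEq hcard).symm, rfl⟩
  obtain ⟨j₀, hj₀⟩ : ∃ j₀ : Fin m ⊕ Fin m, j₀ = Sum.inl ⟨0, by omega⟩ := ⟨_, rfl⟩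
  obtain ⟨z, hz⟩ : ∃ z : Fin m ⊕ Fin m → F, z = Pi.single j₀ 1 := ⟨_, rfl⟩
  have hzj : z j₀ = 1 := by rw [hz, Pi.single_eq_same]
  have hz0 : z ≠ 0 := by
    intro h
    rw [h] at hzj
    exact zero_ne_one hzj
  obtain ⟨g₁, hg₁⟩ : ∃ g₁ : GL (Fin n) F,
      g₁ = reGL e (Matrix.J (Fin m) F) (-Matrix.J (Fin m) F) (J_mul_neg_J m) := ⟨_, rfl⟩
  obtain ⟨g₃, hg₃⟩ : ∃ g₃ : GL (Fin n) F,
      g₃ = reGL e (G3 z) (G3inv z) (G3_mul_G3inv z) := ⟨_, rfl⟩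
  have hs₁ : (g₁.1)ᵀ = -g₁.1 := by rw [hg₁]; exact reGL_J_skew e
  have hs₃ : (g₃.1)ᵀ = g₃.1 := by
    rw [hg₃, reGL_val, Matrix.transpose_submatrix]
    congr 1
    unfold G3inv
    rw [Matrix.transpose_add, Matrix.transpose_neg, Matrix.J_transpose, neg_neg,
      neg_eq_self_char2]
    congr 1
    ext i j
    rw [Matrix.transpose_apply, Matrix.vecMulVec_apply, Matrix.vecMulVec_apply, mul_comm]
  have halt₁ : IsAlt g₁.1 := by
    rw [hg₁, reGL_val]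
    exact isAlt_submatrix _ e (isAlt_neg _ (isAlt_J m))
  have hnalt₃ : ¬ IsAlt g₃.1 := by
    intro h
    have h1 := h (Pi.single (e.symm j₀) 1)
    rw [qf_single, hg₃, reGL_val, Matrix.submatrix_apply, Equiv.apply_symm_apply] at h1
    unfold G3inv at h1
    rw [Matrix.add_apply, Matrix.neg_apply, Matrix.vecMulVec_apply, hzj, hj₀, Matrix.J,
      Matrix.fromBlocks_apply₁₁] at h1
    simp at h1
  have hnalt₃' : ∃ v : Fin n → F, v ⬝ᵥ (g₃.1 *ᵥ v) ≠ 0 := by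
    by_contra hcon
    push Not at hcon
    exact hnalt₃ hcon
  have hd₃ : g₃.1.det ≠ 0 := (Matrix.GeneralLinearGroup.det g₃).ne_zero
  obtain ⟨k₃, hk₃d, hk₃⟩ := symm_congr_one_char2 g₃.1 hs₃ hd₃ hnalt₃'
  refine ⟨cP g₁ * tP, cP g₃ * tP, tvz z, isTransvection_tvz z hz0, ?_, ?_, ?_, ?_, ?_, ?_, ?_, ?_⟩
  · exact (graphAut_iff _).mpr ⟨hn3, g₁, rfl⟩
  · exact (orderOf_gtP hn3 g₁).mpr (Or.inr hs₁)
  · exact (graphAut_iff _).mpr ⟨hn3, g₃, rfl⟩
  · exact (orderOf_gtP hn3 g₃).mpr (Or.inl hs₃)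
  · exact not_conj_alt hn2 g₁ g₃ halt₁ hnalt₃
  · intro γ hγ hγ2
    obtain ⟨-, g, rfl⟩ := (graphAut_iff γ).mp hγ
    have hs : (g.1)ᵀ = g.1 := by
      rcases (orderOf_gtP hn3 g).mp hγ2 with hs | hs
      · exact hs
      · rw [hs, neg_eq_self_char2]
    by_cases halt : IsAlt g.1
    · left
      exact conj_of_alt e g g₁ halt (by rw [hg₁]; rfl)
    · right
      have hnalt' : ∃ v : Fin n → F, v ⬝ᵥ (g.1 *ᵥ v) ≠ 0 := by
        by_contra hcon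
        push Not at hcon
        exact halt hcon
      have hd : g.1.det ≠ 0 := (Matrix.GeneralLinearGroup.det g).ne_zero
      obtain ⟨k, hkd, hk⟩ := symm_congr_one_char2 g.1 hs hd hnalt'
      exact conj_of_congr_one g g₃ k k₃ hkd hk₃d hk hk₃
  · rw [hg₁]
    exact cent1_iso hn2 hm1 e
  · rw [hg₃]
    exact cent3_iso hn2 hm1 e z hz0

end

end Cfsg.Agent.Lib.Helper16.GraphInvC2
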