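import Mathlib

/-!
# Groups with two distinct subgroups of index two
-/

set_option autoImplicit false

namespace Cfsg.Agent.Lib.Helper16.TwoIdx

/-- the group has two distinct subgroups of index two -/
def TwoIdx (G : Type*) [Group G] : Prop :=
  ∃ N₁ N₂ : Subgroup G, N₁.index = 2 ∧ N₂.index = 2 ∧ N₁ ≠ N₂

theorem TwoIdx.of_equiv {G G' : Type*} [Group G] [Group G'] (e : G ≃* G') (h : TwoIdx G) :
    TwoIdx G' := by
  obtain ⟨N₁, N₂, h₁, h₂, hne⟩ := h
  refine ⟨N₁.map e.toMonoidHom, N₂.map e.toMonoidHom, ?_, ?_, ?_⟩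
  · exact (Subgroup.index_map_equiv N₁ e).trans h₁
  · exact (Subgroup.index_map_equiv N₂ e).trans h₂
  · intro h
    exact hne (Subgroup.map_injective e.injective h)

theorem twoIdx_of_surj {G' G : Type*} [Group G'] [Group G] (π : G' →* G)
    (hπ : Function.Surjective π) (N₁ N₂ : Subgroup G') (h₁ : N₁.index = 2) (h₂ : N₂.index = 2)
    (hk₁ : π.ker ≤ N₁) (hk₂ : π.ker ≤ N₂) (hne : N₁ ≠ N₂) : TwoIdx G := by
  refine ⟨N₁.map π, N₂.map π, ?_, ?_, ?_⟩
  · rw [Subgroup.index_map_eq N₁ hπ hk₁, h₁]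
  · rw [Subgroup.index_map_eq N₂ hπ hk₂, h₂]
  · intro h
    apply hne
    have := congrArg (Subgroup.comap π) h
    rwa [Subgroup.comap_map_eq_self hk₁, Subgroup.comap_map_eq_self hk₂] at this

/-- if every subgroup of index two of the preimage group is a fixed subgroup, the quotient
has at most one subgroup of index two -/
theorem not_twoIdx_of_surj {G' G : Type*} [Group G'] [Group G] (π : G' →* G)
    (hπ : Function.Surjective π) (K : Subgroup G')
    (hK : ∀ N : Subgroup G', N.index = 2 → π.ker ≤ N → N = K) : ¬ TwoIdx G := by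
  rintro ⟨N₁, N₂, h₁, h₂, hne⟩
  apply hne
  apply Subgroup.comap_injective hπ
  rw [hK (N₁.comap π) ((Subgroup.index_comap_of_surjective N₁ hπ).trans h₁)
      (by intro x hx; rw [Subgroup.mem_comap, MonoidHom.mem_ker.mp hx]; exact N₁.one_mem),
    hK (N₂.comap π) ((Subgroup.index_comap_of_surjective N₂ hπ).trans h₂)
      (by intro x hx; rw [Subgroup.mem_comap, MonoidHom.mem_ker.mp hx]; exact N₂.one_mem)]

/-- conjugate centralizers inside a subgroup are isomorphic -/
theorem cent_conj_iso {X : Type*} [Group X] (H : Subgroup X) (x : X) (hx : x ∈ H) (w : X) :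
    Nonempty (↥(H ⊓ Subgroup.centralizer {x * w * x⁻¹}) ≃* ↥(H ⊓ Subgroup.centralizer {w})) := by
  have hmap : (H ⊓ Subgroup.centralizer {x * w * x⁻¹}).map (MulAut.conj x⁻¹).toMonoidHom =
      H ⊓ Subgroup.centralizer {w} := by
    ext y
    constructor
    · rintro ⟨z, hz, rfl⟩
      obtain ⟨hz1, hz2⟩ := Subgroup.mem_inf.mp hz
      refine Subgroup.mem_inf.mpr ⟨?_, ?_⟩
      · change x⁻¹ * z * x⁻¹⁻¹ ∈ H
        exact H.mul_mem (H.mul_mem (H.inv_mem hx) hz1) (H.inv_mem (H.inv_mem hx))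
      · rw [Subgroup.mem_centralizer_iff] at hz2 ⊢
        intro v hv
        rw [Set.mem_singleton_iff] at hv
        subst hv
        have h1 := hz2 (x * v * x⁻¹) rfl
        change v * (x⁻¹ * z * x⁻¹⁻¹) = (x⁻¹ * z * x⁻¹⁻¹) * v
        rw [inv_inv]
        calc v * (x⁻¹ * z * x) = x⁻¹ * ((x * v * x⁻¹) * z) * x := by group
          _ = x⁻¹ * (z * (x * v * x⁻¹)) * x := by rw [h1]
          _ = (x⁻¹ * z * x) * v := by group
    · intro hy
      obtain ⟨hy1, hy2⟩ := Subgroup.mem_inf.mp hy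
      refine ⟨x * y * x⁻¹, Subgroup.mem_inf.mpr ⟨?_, ?_⟩, ?_⟩
      · exact H.mul_mem (H.mul_mem hx hy1) (H.inv_mem hx)
      · rw [Subgroup.mem_centralizer_iff] at hy2 ⊢
        intro v hv
        rw [Set.mem_singleton_iff] at hv
        subst hv
        have h1 := hy2 w rfl
        calc x * w * x⁻¹ * (x * y * x⁻¹) = x * (w * y) * x⁻¹ := by group
          _ = x * (y * w) * x⁻¹ := by rw [h1]
          _ = x * y * x⁻¹ * (x * w * x⁻¹) := by group
      · change x⁻¹ * (x * y * x⁻¹) * x⁻¹⁻¹ = y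
        group
  exact ⟨(MulEquiv.subgroupMap (MulAut.conj x⁻¹) _).trans (MulEquiv.subgroupCongr hmap)⟩

end Cfsg.Agent.Lib.Helper16.TwoIdx
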