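import Mathlib
import Cfsg.Agent.Lib.Helper16.GraphInvC2h
import Cfsg.Agent.S0752
import Cfsg.Agent.Lib.Helper16.TwoIdx

/-!
# Involutory graph automorphisms of `PSL_n(q)`, `n` odd: one class (I)
-/

set_option autoImplicit false
set_option linter.unusedSectionVars false
set_option linter.unusedVariables false
set_option linter.style.haveILetI false

namespace Cfsg.Agent.Lib.Helper16.GraphOddPSL

open Matrix Cfsg Cfsg.Agent.Lib.Helper6 Cfsg.Agent.Lib.Helper6.AutPSL
  Cfsg.Agent.Lib.Helper16.FieldCoset Cfsg.Agent.Lib.Helper16.GraphFieldCoset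
  Cfsg.Agent.Lib.Helper16.FieldCentPSL Cfsg.Agent.Lib.Helper16.GraphFieldCentPSL
  Cfsg.Agent.Lib.Helper16.OrthClassify Cfsg.Agent.Lib.Helper16.GraphCentPSL
  Cfsg.Agent.Lib.Helper16.GraphInvPSL Cfsg.Agent.Lib.Helper16.SympDescent
  Cfsg.Agent.Lib.Helper16.Char2Orth Cfsg.Agent.Lib.Helper16.GraphInvC2

section
variable {F : Type*} [Field F]

/-- an alternating matrix of odd size is singular -/
theorem det_eq_zero_of_isAlt {κ : Type*} [Fintype κ] [DecidableEq κ]
    (hodd : Odd (Fintype.card κ)) (M : Matrix κ κ F) (hM : IsAlt M) : M.det = 0 := by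
  have hA : (Matrix.toBilin' M).IsAlt := by
    intro x
    rw [Matrix.toBilin'_apply']
    exact hM x
  obtain ⟨m', k', b, hef, hee, hff, hr⟩ := Cfsg.Agent.S0752.result (Matrix.toBilin' M) hA
  have hcard : Fintype.card ((Fin m' ⊕ Fin m') ⊕ Fin k') = Fintype.card κ := by
    rw [← Module.finrank_eq_card_basis b, Module.finrank_fintype_fun_eq_card]
  rw [Fintype.card_sum, Fintype.card_sum, Fintype.card_fin, Fintype.card_fin] at hcard
  have hk' : 0 < k' := by
    rcases Nat.eq_zero_or_pos k' with h | h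
    · exfalso
      rw [h, add_zero] at hcard
      rw [← hcard] at hodd
      exact (Nat.not_odd_iff_even.mpr ⟨m', rfl⟩) hodd
    · exact h
  obtain ⟨r, hr'⟩ : ∃ r : κ → F, r = b (Sum.inr ⟨0, hk'⟩) := ⟨_, rfl⟩
  have hr0 : r ≠ 0 := by rw [hr']; exact b.ne_zero _
  have hrM : r ᵥ* M = 0 := by
    funext j
    have h1 := hr ⟨0, hk'⟩ (Pi.single j 1)
    rw [← hr', Matrix.toBilin'_apply', Matrix.mulVec_single_one] at h1
    exact h1
  by_contra hdet
  exact hr0 (Matrix.eq_zero_of_vecMul_eq_zero hdet hrM)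

theorem not_isAlt_of_odd {κ : Type*} [Fintype κ] [DecidableEq κ]
    (hodd : Odd (Fintype.card κ)) (M : Matrix κ κ F) (hdet : M.det ≠ 0) :
    ∃ v : κ → F, v ⬝ᵥ (M *ᵥ v) ≠ 0 := by
  by_contra hcon
  push Not at hcon
  exact hdet (det_eq_zero_of_isAlt hodd M hcon)

/-- conjugacy under a subgroup to a common element -/
theorem isConjUnder_of_common {X : Type*} [Group X] (H : Subgroup X) (x₀ x y : X)
    (hx : Cfsg.IsConjUnder H x₀ x) (hy : Cfsg.IsConjUnder H x₀ y) : Cfsg.IsConjUnder H x y := by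
  obtain ⟨a, ha, rfl⟩ := hx
  obtain ⟨b, hb, rfl⟩ := hy
  refine ⟨b * a⁻¹, H.mul_mem hb (H.inv_mem ha), ?_⟩
  group

/-- the centralizers of conjugate elements are isomorphic -/
theorem cent_iso_of_isConjUnder {X : Type*} [Group X] (H : Subgroup X) (x₀ x : X)
    (hx : Cfsg.IsConjUnder H x₀ x) :
    Nonempty (↥(H ⊓ Subgroup.centralizer {x}) ≃* ↥(H ⊓ Subgroup.centralizer {x₀})) := by
  obtain ⟨a, ha, rfl⟩ := hx
  exact Cfsg.Agent.Lib.Helper16.TwoIdx.cent_conj_iso H a ha x₀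

end

section
variable {F : Type*} [Field F] (m : ℕ)

/-- the Gram matrix of the form `x₀² + Σ xᵢ yᵢ` -/
def gramOdd : Matrix (Unit ⊕ (Fin m ⊕ Fin m)) (Unit ⊕ (Fin m ⊕ Fin m)) F :=
  Matrix.fromBlocks (1 : Matrix Unit Unit F) 0 0 (gramPlus m)

theorem gramOdd_symm : (gramOdd (F := F) m).IsSymm := by
  unfold gramOdd
  rw [Matrix.IsSymm, Matrix.fromBlocks_transpose, (gramPlus_symm m).eq]
  simp

theorem gramOdd_apply (h2 : (2 : F) ≠ 0) (v : Unit ⊕ (Fin m ⊕ Fin m) → F) :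
    Cfsg.quadFormOdd m F v = v ⬝ᵥ gramOdd m *ᵥ v := by
  unfold Cfsg.quadFormOdd gramOdd
  rw [Matrix.fromBlocks_mulVec]
  have h1 := gramPlus_apply m h2 (fun k => v (Sum.inr k))
  unfold Cfsg.quadFormPlus at h1
  rw [h1]
  have h3 : (fun k => v (Sum.inr k)) = v ∘ Sum.inr := rfl
  rw [h3]
  simp only [dotProduct, Fintype.sum_sum_type, Sum.elim_inl, Sum.elim_inr, Matrix.zero_mulVec,
    add_zero, zero_add, Function.comp]
  simp
  ring

theorem gramOdd_det : (gramOdd (F := F) m).det = (gramPlus (F := F) m).det := by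
  unfold gramOdd
  rw [Matrix.det_fromBlocks_zero₁₂]
  simp

end

end Cfsg.Agent.Lib.Helper16.GraphOddPSL
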