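import Mathlib
import Cfsg.Agent.Lib.Helper16.GraphOddPSL

/-!
# Involutory graph automorphisms of `PSL_n(q)`, `n` odd (II): the isometry group in
characteristic two
-/

set_option autoImplicit false
set_option linter.unusedSectionVars false
set_option linter.unusedVariables false
set_option linter.style.haveILetI false

namespace Cfsg.Agent.Lib.Helper16.GraphOddPSL

open Matrix Cfsg Cfsg.Agent.Lib.Helper6 Cfsg.Agent.Lib.Helper6.AutPSL
  Cfsg.Agent.Lib.Helper16.OrthClassify Cfsg.Agent.Lib.Helper16.GraphInvPSL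
  Cfsg.Agent.Lib.Helper16.Char2Orth Cfsg.Agent.Lib.Helper16.GraphInvC2

section
variable {F : Type*} [Field F] {m : ℕ}

local notation "Jm" => Matrix.J (Fin m) F
local notation "Odd'" => Unit ⊕ (Fin m ⊕ Fin m)

/-- the block matrix `1 ⊕ s` -/
def oddMat (s : Matrix (Fin m ⊕ Fin m) (Fin m ⊕ Fin m) F) : Matrix Odd' Odd' F :=
  Matrix.fromBlocks (1 : Matrix Unit Unit F) 0 0 s

theorem oddMat_mul (s t : Matrix (Fin m ⊕ Fin m) (Fin m ⊕ Fin m) F) :
    oddMat s * oddMat t = oddMat (s * t) := by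
  unfold oddMat
  rw [Matrix.fromBlocks_multiply]
  simp

theorem oddMat_one : oddMat (1 : Matrix (Fin m ⊕ Fin m) (Fin m ⊕ Fin m) F) = 1 := by
  unfold oddMat
  exact Matrix.fromBlocks_one

theorem oddMat_transpose (s : Matrix (Fin m ⊕ Fin m) (Fin m ⊕ Fin m) F) :
    (oddMat s)ᵀ = oddMat sᵀ := by
  unfold oddMat
  rw [Matrix.fromBlocks_transpose]
  simp

theorem oddMat_injective (s t : Matrix (Fin m ⊕ Fin m) (Fin m ⊕ Fin m) F)
    (h : oddMat s = oddMat t) : s = t := by
  unfold oddMat at h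
  exact (Matrix.fromBlocks_inj.mp h).2.2.2

/-- the embedding of the symplectic group as `1 ⊕ s` -/
noncomputable def oddEmb : ↥(Matrix.symplecticGroup (Fin m) F) →* GL Odd' F where
  toFun s := ⟨oddMat s.1, oddMat (s⁻¹).1, by
    rw [oddMat_mul, ← Submonoid.coe_mul, mul_inv_cancel]
    exact oddMat_one, by
    rw [oddMat_mul, ← Submonoid.coe_mul, inv_mul_cancel]
    exact oddMat_one⟩
  map_one' := by
    apply Units.ext
    exact oddMat_one
  map_mul' a b := by
    apply Units.ext
    change oddMat (a * b).1 = oddMat a.1 * oddMat b.1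
    rw [oddMat_mul]
    rfl

theorem oddEmb_val (s : ↥(Matrix.symplecticGroup (Fin m) F)) : (oddEmb s).1 = oddMat s.1 := rfl

theorem oddEmb_injective : Function.Injective (oddEmb (F := F) (m := m)) := by
  intro a b h
  apply Subtype.ext
  exact oddMat_injective _ _ (congrArg Units.val h)

/-- the Gram matrix `1 ⊕ J` -/
def gramOddJ : Matrix Odd' Odd' F := oddMat Jm

/-- its inverse -/
def gramOddJinv : Matrix Odd' Odd' F := oddMat (-Jm)

theorem gramOddJ_mul_inv : gramOddJ (F := F) (m := m) * gramOddJinv = 1 := by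
  unfold gramOddJ gramOddJinv
  rw [oddMat_mul, J_mul_neg_J]
  exact oddMat_one

theorem gramOddJ_ne_zero : gramOddJ (F := F) (m := m) ≠ 0 := by
  intro h
  have := congrFun (congrFun h (Sum.inl ())) (Sum.inl ())
  unfold gramOddJ oddMat at this
  simp at this

theorem mem_range_oddEmb [CharP F 2] (k : GL Odd' F) :
    k ∈ (oddEmb (F := F) (m := m)).range ↔ (k.1)ᵀ * gramOddJ * k.1 = gramOddJ := by
  have h2 : (2 : F) = 0 := by
    have := CharP.cast_eq_zero F 2
    exact_mod_cast this
  constructor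
  · rintro ⟨s, rfl⟩
    rw [oddEmb_val]
    unfold gramOddJ
    rw [oddMat_transpose, oddMat_mul, oddMat_mul, SymplecticGroup.mem_iff'.mp s.2]
  · intro h
    obtain ⟨a, ha⟩ : ∃ a : Matrix Unit Unit F, a = k.1.toBlocks₁₁ := ⟨_, rfl⟩
    obtain ⟨b, hb⟩ : ∃ b : Matrix Unit (Fin m ⊕ Fin m) F, b = k.1.toBlocks₁₂ := ⟨_, rfl⟩
    obtain ⟨c, hc⟩ : ∃ c : Matrix (Fin m ⊕ Fin m) Unit F, c = k.1.toBlocks₂₁ := ⟨_, rfl⟩
    obtain ⟨d, hd⟩ : ∃ d : Matrix (Fin m ⊕ Fin m) (Fin m ⊕ Fin m) F, d = k.1.toBlocks₂₂ :=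
      ⟨_, rfl⟩
    have hk : k.1 = Matrix.fromBlocks a b c d := by
      rw [ha, hb, hc, hd, Matrix.fromBlocks_toBlocks]
    unfold gramOddJ oddMat at h
    rw [hk, Matrix.fromBlocks_transpose, Matrix.fromBlocks_multiply, Matrix.fromBlocks_multiply,
      Matrix.fromBlocks_inj] at h
    obtain ⟨e1, e2, e3, e4⟩ := h
    simp only [Matrix.mul_one, Matrix.mul_zero, add_zero, zero_add] at e1 e2 e3 e4
    -- b = 0
    have hb0 : b = 0 := by
      ext u i
      have h5 := congrFun (congrFun e4 i) i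
      rw [Matrix.add_apply] at h5
      have h6 : (dᵀ * Jm * d) i i = 0 := by
        rw [← qf_single (dᵀ * Jm * d) i, qf_congr]
        exact isAlt_J m _
      have h7 : (Jm : Matrix (Fin m ⊕ Fin m) (Fin m ⊕ Fin m) F) i i = 0 := by
        rw [← qf_single Jm i]
        exact isAlt_J m _
      rw [h6, h7, add_zero, Matrix.mul_apply] at h5
      simp only [Finset.univ_unique, Finset.sum_singleton, Matrix.transpose_apply] at h5
      have h8 : b u i * b u i = 0 := by
        have : u = default := Subsingleton.elim _ _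
        rw [this]
        exact h5
      rw [Matrix.zero_apply]
      exact mul_self_eq_zero.mp h8
    rw [hb0] at e3 e4
    simp only [Matrix.transpose_zero, Matrix.zero_mul, zero_add] at e3 e4
    -- c = 0
    have hN : (dᵀ * Jm) * (d * (-Jm)) = 1 := by
      calc (dᵀ * Jm) * (d * (-Jm)) = (dᵀ * Jm * d) * (-Jm) := by simp only [Matrix.mul_assoc]
        _ = 1 := by rw [e4, J_mul_neg_J]
    have hN' : (d * (-Jm)) * (dᵀ * Jm) = 1 := mul_eq_one_comm.mp hN
    have hc0 : c = 0 := by
      calc c = ((d * (-Jm)) * (dᵀ * Jm)) * c := by rw [hN', Matrix.one_mul]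
        _ = (d * (-Jm)) * (dᵀ * Jm * c) := by simp only [Matrix.mul_assoc]
        _ = 0 := by rw [e3, Matrix.mul_zero]
    rw [hc0] at e1
    simp only [Matrix.mul_zero, add_zero] at e1
    -- a = 1
    have ha1 : a = 1 := by
      ext u v
      have hu : u = v := Subsingleton.elim _ _
      subst hu
      have h5 := congrFun (congrFun e1 u) u
      rw [Matrix.mul_apply] at h5
      simp only [Finset.univ_unique, Finset.sum_singleton, Matrix.transpose_apply,
        Matrix.one_apply_eq] at h5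
      have hu' : u = default := Subsingleton.elim _ _
      rw [← hu'] at h5
      have h6 : (a u u - 1) * (a u u - 1) = 0 := by linear_combination h5 - (a u u - 1) * h2
      rw [Matrix.one_apply_eq]
      rcases mul_eq_zero.mp h6 with h | h <;> linear_combination h
    refine ⟨⟨d, SymplecticGroup.mem_iff'.mpr e4⟩, ?_⟩
    apply Units.ext
    rw [oddEmb_val, hk, ha1, hb0, hc0]
    rfl

end

end Cfsg.Agent.Lib.Helper16.GraphOddPSL
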