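import Mathlib
import Cfsg.Agent.Lib.Helper16.GraphOddPSL2
import Cfsg.Agent.Lib.Helper15.OddSp

/-!
# Involutory graph automorphisms of `PSL_n(q)`, `n` odd (III): the projective similarity group in
characteristic two, and the main theorem
-/

set_option autoImplicit false
set_option linter.unusedSectionVars false
set_option linter.unusedVariables false
set_option linter.style.haveILetI false

namespace Cfsg.Agent.Lib.Helper16.GraphOddPSL

open Matrix Cfsg Cfsg.Agent.Lib.Helper6 Cfsg.Agent.Lib.Helper6.AutPSL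
  Cfsg.Agent.Lib.Helper16.FieldCoset Cfsg.Agent.Lib.Helper16.GraphFieldCoset
  Cfsg.Agent.Lib.Helper16.FieldCentPSL Cfsg.Agent.Lib.Helper16.GraphFieldCentPSL
  Cfsg.Agent.Lib.Helper16.OrthClassify Cfsg.Agent.Lib.Helper16.GraphCentPSL
  Cfsg.Agent.Lib.Helper16.GraphInvPSL Cfsg.Agent.Lib.Helper16.SympDescent
  Cfsg.Agent.Lib.Helper16.Char2Orth Cfsg.Agent.Lib.Helper16.GraphInvC2

section
variable {F : Type*} [Field F] {ι' : Type} [Fintype ι'] [DecidableEq ι']

/-- a subgroup meeting the scalars trivially and covering `H` modulo scalars is the projective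
quotient of `H` -/
theorem projQuot_iso_of_scalars (H H₁ : Subgroup (GL ι' F)) (hle : H₁ ≤ H)
    (h1 : ∀ (c : F) (hc : c ≠ 0), scalarGL (ι' := ι') c hc ∈ H₁ → c = 1)
    (h2 : ∀ k ∈ H, ∃ (τ : F) (hτ : τ ≠ 0), scalarGL τ⁻¹ (inv_ne_zero hτ) * k ∈ H₁) :
    Nonempty (Cfsg.projQuot H ≃* ↥H₁) := by
  obtain ⟨φ, hφ⟩ : ∃ φ : ↥H₁ →* Cfsg.projQuot H,
      φ = (QuotientGroup.mk' ((Cfsg.Geo.scalars ι' F).subgroupOf H)).comp
        (Subgroup.inclusion hle) := ⟨_, rfl⟩
  have hinj : Function.Injective φ := by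
    rw [injective_iff_map_eq_one]
    intro x hx
    rw [hφ, MonoidHom.comp_apply, QuotientGroup.mk'_apply, QuotientGroup.eq_one_iff,
      Subgroup.mem_subgroupOf, Cfsg.Geo.mem_scalars_iff] at hx
    obtain ⟨c, hc⟩ := hx
    have hc' : x.1.1 = (c : F) • (1 : Matrix ι' ι' F) := hc
    have hxe : x.1 = scalarGL (c : F) c.ne_zero := by
      apply Units.ext
      rw [hc']
      rfl
    have h7 : (c : F) = 1 := h1 (c : F) c.ne_zero (by rw [← hxe]; exact x.2)
    apply Subtype.ext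
    apply Units.ext
    rw [hc', h7, one_smul]
    rfl
  have hsurj : Function.Surjective φ := by
    intro y
    obtain ⟨k, rfl⟩ := QuotientGroup.mk_surjective y
    obtain ⟨τ, hτ0, hmem⟩ := h2 k.1 k.2
    refine ⟨⟨_, hmem⟩, ?_⟩
    rw [hφ, MonoidHom.comp_apply, QuotientGroup.mk'_apply]
    rw [QuotientGroup.eq, Subgroup.mem_subgroupOf]
    have : ((Subgroup.inclusion hle ⟨_, hmem⟩ : ↥H)⁻¹ * k : ↥H).1 =
        scalarGL τ hτ0 := by
      change (scalarGL τ⁻¹ (inv_ne_zero hτ0) * k.1)⁻¹ * k.1 = _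
      apply Units.ext
      rw [_root_.mul_inv_rev, mul_assoc]
      have e1 : (scalarGL (ι' := ι') τ⁻¹ (inv_ne_zero hτ0))⁻¹ = scalarGL τ hτ0 := by
        rw [inv_eq_iff_eq_inv]
        apply Units.ext
        change τ⁻¹ • (1 : Matrix ι' ι' F) = τ⁻¹ • 1
        rfl
      rw [e1]
      have hcomm : k.1⁻¹ * (scalarGL τ hτ0 * k.1) = scalarGL τ hτ0 := by
        apply Units.ext
        rw [Units.val_mul, Units.val_mul, scalarGL_val, Matrix.smul_mul, Matrix.one_mul,
          Matrix.mul_smul]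
        have : (k.1⁻¹).1 * k.1.1 = 1 := by rw [← Units.val_mul, inv_mul_cancel]; rfl
        rw [this]
      rw [hcomm]
    rw [this]
    exact scalarGL_mem τ hτ0
  exact ⟨(MulEquiv.ofBijective φ ⟨hinj, hsurj⟩).symm⟩

end

section
variable {F : Type*} [Field F] {m : ℕ}

theorem quadFormOdd_smul (τ : F) (v : Unit ⊕ (Fin m ⊕ Fin m) → F) :
    Cfsg.quadFormOdd m F (τ • v) = τ * τ * Cfsg.quadFormOdd m F v := by
  unfold Cfsg.quadFormOdd
  rw [mul_add, Finset.mul_sum]
  simp only [Pi.smul_apply, smul_eq_mul]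
  congr 1
  · ring
  · apply Finset.sum_congr rfl
    intro i _
    ring

theorem quadFormOdd_e0 :
    Cfsg.quadFormOdd m F (Pi.single (Sum.inl ()) 1) = 1 := by
  unfold Cfsg.quadFormOdd
  simp

/-- in characteristic two, the projective conformal orthogonal group of `x₀² + Σ xᵢ yᵢ` is its
isometry group -/
theorem pgo_iso_isometry [Finite F] [CharP F 2] :
    Nonempty (Cfsg.PGO F (Cfsg.quadFormOdd m F) ≃*
      ↥(Cfsg.isometryGroup F (Cfsg.quadFormOdd m F))) := by
  have h2 : (2 : F) = 0 := by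
    have := CharP.cast_eq_zero F 2
    exact_mod_cast this
  apply projQuot_iso_of_scalars
  · intro k hk
    rw [Cfsg.Agent.Lib.Helper15.mem_isometryGroup_iff] at hk
    exact ⟨1, fun v => by rw [hk v, Units.val_one, one_mul]⟩
  · intro c hc hmem
    rw [Cfsg.Agent.Lib.Helper15.mem_isometryGroup_iff] at hmem
    have h3 := hmem (Pi.single (Sum.inl ()) 1)
    rw [scalarGL_val, Matrix.smul_mulVec, Matrix.one_mulVec, quadFormOdd_smul, quadFormOdd_e0,
      mul_one] at h3
    have h4 : (c - 1) * (c - 1) = 0 := by linear_combination h3 - (c - 1) * h2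
    rcases mul_eq_zero.mp h4 with h | h <;> linear_combination h
  · intro k hk
    obtain ⟨c, hc⟩ := hk
    obtain ⟨τ, hτ⟩ := FiniteField.isSquare_of_char_two (ringChar.eq F 2) (c : F)
    have hτ0 : τ ≠ 0 := by
      rintro rfl
      rw [mul_zero] at hτ
      exact c.ne_zero hτ
    refine ⟨τ, hτ0, ?_⟩
    rw [Cfsg.Agent.Lib.Helper15.mem_isometryGroup_iff]
    intro v
    rw [Units.val_mul, scalarGL_val, Matrix.smul_mul, Matrix.one_mul, Matrix.smul_mulVec,
      quadFormOdd_smul, hc v, hτ]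
    field_simp

end

end Cfsg.Agent.Lib.Helper16.GraphOddPSL
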