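import Mathlib
import Cfsg.Agent.Lib.Helper16.GraphOddPSL3

/-!
# Involutory graph automorphisms of `PSL_n(q)`, `n` odd (IV): main theorem
-/

set_option autoImplicit false
set_option linter.unusedSectionVars false
set_option linter.unusedVariables false
set_option linter.style.haveILetI false

namespace Cfsg.Agent.Lib.Helper16.GraphOddPSL

open Matrix Cfsg Cfsg.Agent.Lib.Helper6 Cfsg.Agent.Lib.Helper6.AutPSL
  Cfsg.Agent.Lib.Helper16.FieldCoset Cfsg.Agent.Lib.Helper16.GraphFieldCoset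
  Cfsg.Agent.Lib.Helper16.FieldCentPSL Cfsg.Agent.Lib.Helper16.GraphFieldCentPSL
  Cfsg.Agent.Lib.Helper16.OrthClassify Cfsg.Agent.Lib.Helper16.GraphCentPSL
  Cfsg.Agent.Lib.Helper16.GraphInvPSL Cfsg.Agent.Lib.Helper16.SympDescent
  Cfsg.Agent.Lib.Helper16.Char2Orth Cfsg.Agent.Lib.Helper16.GraphInvC2

section
variable {F : Type*} [Field F] [Fintype F] {n m : ℕ}

local notation "PSLn" => Matrix.ProjectiveSpecialLinearGroup (Fin n) F

/-- the odd characteristic case -/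
theorem odd_char_case (h2 : (2 : F) ≠ 0) (hn : 3 ≤ n) (hnm : n = 2 * m + 1) :
    ∃ γ₀ : MulAut PSLn,
      Nonempty (↥(Cfsg.inndiagPSL n F ⊓ Subgroup.centralizer {γ₀}) ≃*
        Cfsg.PGO F (Cfsg.quadFormOdd m F)) ∧
      ∀ γ : MulAut PSLn, Cfsg.IsGraphAutClassPSL γ → orderOf γ = 2 →
        Cfsg.IsConjUnder (Cfsg.inndiagPSL n F) γ₀ γ := by
  classical
  have hn2 : 2 ≤ n := by omega
  have hcard : Fintype.card (Unit ⊕ (Fin m ⊕ Fin m)) = n := by
    rw [Fintype.card_sum, Fintype.card_sum, Fintype.card_fin, Fintype.card_unit]; omega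
  obtain ⟨e, -⟩ : ∃ e : Fin n ≃ Unit ⊕ (Fin m ⊕ Fin m), e = e :=
    ⟨(Fintype.equivFinOfCardEq hcard).symm, rfl⟩
  have hdet₀ : (gramOdd (F := F) m).det ≠ 0 := by
    rw [gramOdd_det]; exact gramPlus_det_ne_zero m h2
  obtain ⟨g₀, hg₀⟩ : ∃ g₀ : GL (Fin n) F,
      g₀ = reGL e (gramOdd (F := F) m) (gramOdd (F := F) m)⁻¹
        (Matrix.mul_nonsing_inv _ (isUnit_iff_ne_zero.mpr hdet₀)) := ⟨_, rfl⟩
  have hs₀ : (g₀.1)ᵀ = g₀.1 := by rw [hg₀]; exact reGL_symm e _ (gramOdd_symm m) hdet₀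
  have hodd : Odd (Fintype.card (Fin n)) := by
    rw [Fintype.card_fin, hnm]; exact ⟨m, rfl⟩
  refine ⟨cP g₀ * tP, ?_, ?_⟩
  · rw [hg₀]
    exact cent_iso_quad hn2 h2 e (Cfsg.quadFormOdd m F) (gramOdd m) _ (gramOdd_symm m)
      (gramOdd_apply m h2) _
  · intro γ hγ hγ2
    obtain ⟨-, g, rfl⟩ := (graphAut_iff γ).mp hγ
    have hgd : g.1.det ≠ 0 := (Matrix.GeneralLinearGroup.det g).ne_zero
    have hg₀d : g₀.1.det ≠ 0 := (Matrix.GeneralLinearGroup.det g₀).ne_zero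
    have hs : (g.1)ᵀ = g.1 := by
      rcases (orderOf_gtP hn g).mp hγ2 with hs | hs
      · exact hs
      · exfalso
        have h3 := congrArg Matrix.det hs
        have h4 : (-1 : F) ^ n = -1 := by
          rw [hnm, pow_succ, pow_mul, neg_one_sq, one_pow, one_mul]
        rw [Matrix.det_transpose, Matrix.det_neg, Fintype.card_fin, h4] at h3
        have h5 : (2 : F) * g.1.det = 0 := by linear_combination h3
        rcases mul_eq_zero.mp h5 with h | h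
        · exact h2 h
        · exact hgd h
    obtain ⟨k, c, hk, hc, hkc⟩ := symm_similar_odd h2 hodd g₀.1 g.1 hs₀ hs hg₀d hgd
    have hk' : kᵀ.det ≠ 0 := by rw [Matrix.det_transpose]; exact hk
    refine isConjUnder_of g₀ g (glOfDet kᵀ hk') c⁻¹ ?_
    rw [glOfDet_val, Matrix.transpose_transpose, hkc, smul_smul, inv_mul_cancel₀ hc, one_smul]

/-- the characteristic two case -/
theorem even_char_case [CharP F 2] (hn : 3 ≤ n) (hnm : n = 2 * m + 1) :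
    ∃ γ₀ : MulAut PSLn,
      Nonempty (↥(Cfsg.inndiagPSL n F ⊓ Subgroup.centralizer {γ₀}) ≃*
        Cfsg.PGO F (Cfsg.quadFormOdd m F)) ∧
      ∀ γ : MulAut PSLn, Cfsg.IsGraphAutClassPSL γ → orderOf γ = 2 →
        Cfsg.IsConjUnder (Cfsg.inndiagPSL n F) γ₀ γ := by
  classical
  have hn2 : 2 ≤ n := by omega
  have hcard : Fintype.card (Unit ⊕ (Fin m ⊕ Fin m)) = n := by
    rw [Fintype.card_sum, Fintype.card_sum, Fintype.card_fin, Fintype.card_unit]; omega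
  obtain ⟨e, -⟩ : ∃ e : Fin n ≃ Unit ⊕ (Fin m ⊕ Fin m), e = e :=
    ⟨(Fintype.equivFinOfCardEq hcard).symm, rfl⟩
  obtain ⟨g₀, hg₀⟩ : ∃ g₀ : GL (Fin n) F,
      g₀ = reGL e (gramOddJ (F := F) (m := m)) gramOddJinv gramOddJ_mul_inv := ⟨_, rfl⟩
  have hs₀ : (g₀.1)ᵀ = g₀.1 := by
    rw [hg₀, reGL_val, Matrix.transpose_submatrix]
    congr 1
    unfold gramOddJinv
    rw [oddMat_transpose, Matrix.transpose_neg, Matrix.J_transpose, neg_neg, neg_eq_self_char2]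
  have hodd : Odd (Fintype.card (Fin n)) := by
    rw [Fintype.card_fin, hnm]; exact ⟨m, rfl⟩
  have hg₀d : g₀.1.det ≠ 0 := (Matrix.GeneralLinearGroup.det g₀).ne_zero
  obtain ⟨k₀, hk₀d, hk₀⟩ := symm_congr_one_char2 g₀.1 hs₀ hg₀d (not_isAlt_of_odd hodd g₀.1 hg₀d)
  refine ⟨cP g₀ * tP, ?_, ?_⟩
  · rw [hg₀]
    obtain ⟨P, P', hPP', hP'P, hP⟩ := exists_frame (F := F) e
    obtain ⟨ψ₁⟩ := cent_iso_gram hn2 (reGL e (gramOddJ (F := F) (m := m)) gramOddJinv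
      gramOddJ_mul_inv) gramOddJ P P' hPP' hP'P
      (by rw [hP]; exact reGL_mul e _ _ gramOddJ_mul_inv) (simGram gramOddJ) (mem_simGram _)
    obtain ⟨ψ₂⟩ := projQuot_iso_isometry (gramOddJ (F := F) (m := m)) gramOddJ_ne_zero
      (simGram gramOddJ) (oddEmb (F := F) (m := m)).range (mem_simGram _) mem_range_oddEmb
    obtain ⟨ψ₃⟩ := pgo_iso_isometry (F := F) (m := m)
    obtain ⟨ψ₄⟩ := Cfsg.Agent.Lib.Helper15.odd_orthogonal_equiv_symplectic (F := F) (m := m)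
    exact ⟨ψ₁.trans (ψ₂.trans ((MonoidHom.ofInjective oddEmb_injective).symm.trans
      (ψ₄.symm.trans ψ₃.symm)))⟩
  · intro γ hγ hγ2
    obtain ⟨-, g, rfl⟩ := (graphAut_iff γ).mp hγ
    have hgd : g.1.det ≠ 0 := (Matrix.GeneralLinearGroup.det g).ne_zero
    have hs : (g.1)ᵀ = g.1 := by
      rcases (orderOf_gtP hn g).mp hγ2 with hs | hs
      · exact hs
      · rw [hs, neg_eq_self_char2]
    obtain ⟨k, hkd, hk⟩ := symm_congr_one_char2 g.1 hs hgd (not_isAlt_of_odd hodd g.1 hgd)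
    exact conj_of_congr_one g g₀ k k₀ hkd hk₀d hk hk₀

/-- `PSL_n(q)`, `n` odd: all involutory graph automorphisms are conjugate under `Inndiag`, with
centralizer the projective conformal orthogonal group -/
theorem main {p f : ℕ} [Fact p.Prime] (hF : Fintype.card F = p ^ f) (hn : 3 ≤ n)
    (hnm : n = 2 * m + 1) (γ γ' : MulAut PSLn)
    (hγ : Cfsg.IsGraphAutClassPSL γ) (hγ2 : orderOf γ = 2) (hγ' : Cfsg.IsGraphAutClassPSL γ')
    (hγ'2 : orderOf γ' = 2) :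
    Nonempty (↥(Cfsg.inndiagPSL n F ⊓ Subgroup.centralizer {γ}) ≃*
      Cfsg.PGO F (Cfsg.quadFormOdd m F)) ∧ Cfsg.IsConjUnder (Cfsg.inndiagPSL n F) γ γ' := by
  have key : ∃ γ₀ : MulAut PSLn,
      Nonempty (↥(Cfsg.inndiagPSL n F ⊓ Subgroup.centralizer {γ₀}) ≃*
        Cfsg.PGO F (Cfsg.quadFormOdd m F)) ∧
      ∀ γ : MulAut PSLn, Cfsg.IsGraphAutClassPSL γ → orderOf γ = 2 →
        Cfsg.IsConjUnder (Cfsg.inndiagPSL n F) γ₀ γ := by
    by_cases hch : ringChar F = 2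
    · haveI : CharP F 2 := ringChar.of_eq hch
      exact even_char_case hn hnm
    · exact odd_char_case (Ring.two_ne_zero hch) hn hnm
  obtain ⟨γ₀, ⟨ψ₀⟩, hall⟩ := key
  have h1 := hall γ hγ hγ2
  have h1' := hall γ' hγ' hγ'2
  obtain ⟨ψ₁⟩ := cent_iso_of_isConjUnder _ γ₀ γ h1
  exact ⟨⟨ψ₁.trans ψ₀⟩, isConjUnder_of_common _ γ₀ γ γ' h1 h1'⟩

end

end Cfsg.Agent.Lib.Helper16.GraphOddPSL
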