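import Mathlib
import Cfsg.Agent.Lib.Helper16.GraphInvPSU
import Cfsg.Agent.Lib.Helper16.GraphOddPSL4

/-!
# Involutory graph automorphisms of `PSU_n(q)` (II): frames

For `g` unitary with `g τ(g) = ε = ±1` there is an invertible `a` with `g τ(a) = μ a`; the
Hermitian matrix `T = a* a` is `ε`-symmetric and so, up to a scalar, defined over the fixed field.
-/

set_option autoImplicit false
set_option linter.unusedSectionVars false
set_option linter.unusedVariables false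
set_option linter.style.haveILetI false

namespace Cfsg.Agent.Lib.Helper16.GraphInvPSU

open Matrix Cfsg Cfsg.Agent.Lib.Helper6 Cfsg.Agent.Lib.Helper6.AutPSU
  Cfsg.Agent.Lib.Helper16.H90GL
  Cfsg.Agent.Lib.Helper16.GraphFieldCoset Cfsg.Agent.Lib.Helper16.UnitaryDescent
  Cfsg.Agent.Lib.Helper16.FieldCosetPSU Cfsg.Agent.Lib.Helper16.SplitCount
  Cfsg.Agent.Lib.Helper16.FieldCentPSU Cfsg.Agent.Lib.Helper16.OrthClassify
  Cfsg.Agent.Lib.Helper16.GraphCentPSL Cfsg.Agent.Lib.Helper16.GraphCentPSU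
open Cfsg.Agent.Lib.Helper6.AutPSL (sG sG_val gl_mul_inv gl_inv_mul)
open Cfsg.Agent.Lib.Helper16.FieldCentPSL (mem_cent_comap gl_ne_zero)
open Cfsg.Agent.Lib.Helper16.FieldCoset (card_fin_ge scalar_eq_smul_one)

variable {F : Type*} [Field F] [Fintype F] {q n : ℕ}

section frames
variable (hF : Fintype.card F = q ^ 2)

theorem hs_map_tauA (M : Matrix (Fin n) (Fin n) F) : hs (tauA hF) (M.map (tauA hF)) = Mᵀ := by
  unfold hs
  rw [map_tauA_map]

theorem map_tauA_eq (M : Matrix (Fin n) (Fin n) F) : M.map (tauA hF) = (hs (tauA hF) M)ᵀ := by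
  unfold hs
  rw [Matrix.transpose_transpose]

theorem map_tauA_smul (c : F) (M : Matrix (Fin n) (Fin n) F) :
    (c • M).map (tauA hF) = tauA hF c • M.map (tauA hF) := by
  ext s t
  rw [Matrix.map_apply, Matrix.smul_apply, Matrix.smul_apply, Matrix.map_apply, smul_eq_mul,
    smul_eq_mul, map_mul]

theorem tauA_eps (ε : F) (hε : ε = 1 ∨ ε = -1) : tauA hF ε = ε := by
  rcases hε with rfl | rfl
  · exact map_one _
  · rw [map_neg, map_one]

theorem eps_mul_self (ε : F) (hε : ε = 1 ∨ ε = -1) : ε * ε = 1 := by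
  rcases hε with rfl | rfl <;> ring

theorem eps_ne_zero (ε : F) (hε : ε = 1 ∨ ε = -1) : ε ≠ 0 := by
  intro h
  have := eps_mul_self ε hε
  rw [h, mul_zero] at this
  exact zero_ne_one this

/-- a scalar with `τ ω = ε ω` -/
theorem exists_omega (ε : F) (hε : ε = 1 ∨ ε = -1) : ∃ ω : F, ω ≠ 0 ∧ tauA hF ω = ε * ω := by
  rcases hε with rfl | rfl
  · exact ⟨1, one_ne_zero, by rw [map_one, mul_one]⟩
  · obtain ⟨θ, hθ⟩ : ∃ θ, tauA hF θ ≠ θ := by
      by_contra hcon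
      push Not at hcon
      exact tauA_ne_one hF (RingEquiv.ext hcon)
    refine ⟨θ - tauA hF θ, ?_, ?_⟩
    · intro h
      exact hθ (by linear_combination -h)
    · rw [map_sub, tauA_tauA]
      ring

/-- a scalar of norm `ε` -/
theorem exists_mu (ε : F) (hε : ε = 1 ∨ ε = -1) : ∃ μ : F, μ ≠ 0 ∧ μ * tauA hF μ = ε := by
  obtain ⟨μ, hμ0, hμ⟩ := nrmF_surj (tauA hF) 2 (orderOf_tauA hF) (by norm_num) ε
    (eps_ne_zero ε hε) (tauA_eps hF ε hε)
  refine ⟨μ, hμ0, ?_⟩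
  rw [← hμ, nrmF_succ, nrmF_succ, nrmF_zero, map_one, mul_one]

/-- existence of a frame -/
theorem exists_frame_U (g : ↥(Cfsg.GU n F q)) (ε : F) (hε : ε = 1 ∨ ε = -1)
    (hg : g.1.1 * g.1.1.map (tauA hF) = ε • (1 : Matrix (Fin n) (Fin n) F)) :
    ∃ (a : GL (Fin n) F) (μ : F), μ ≠ 0 ∧ μ * tauA hF μ = ε ∧
      g.1.1 * a.1.map (tauA hF) = μ • a.1 := by
  obtain ⟨μ, hμ0, hμ⟩ := exists_mu hF ε hε
  have hN : (Nrm (tauA hF) g.1 2).1 = nrmF (tauA hF) μ 2 • (1 : Matrix (Fin n) (Fin n) F) := by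
    have e1 : nrmF (tauA hF) μ 2 = μ * tauA hF μ := by
      rw [nrmF_succ, nrmF_succ, nrmF_zero, map_one, mul_one]
    rw [e1, hμ, Nrm_succ, Nrm_succ, Nrm_zero, sG_one, mul_one, Units.val_mul, sG_val]
    exact hg
  obtain ⟨a, ha⟩ := descent (tauA hF) 2 (orderOf_tauA hF) (by norm_num) g.1 μ hμ0 hN
  exact ⟨a, μ, hμ0, hμ, ha⟩

/-- the Hermitian matrix of a frame is `ε`-symmetric -/
theorem frame_T_symm (g : ↥(Cfsg.GU n F q)) (ε : F) (a : Matrix (Fin n) (Fin n) F) (μ : F)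
    (hμ : μ * tauA hF μ = ε) (ha : g.1.1 * a.map (tauA hF) = μ • a) :
    (hs (tauA hF) a * a)ᵀ = ε • (hs (tauA hF) a * a) := by
  have h1 : hs (tauA hF) (g.1.1 * a.map (tauA hF)) = hs (tauA hF) (μ • a) := by rw [ha]
  rw [hs_mul, hs_map_tauA, hs_smul] at h1
  have h2 : aᵀ * hs (tauA hF) g.1.1 * (g.1.1 * a.map (tauA hF)) =
      (tauA hF μ • hs (tauA hF) a) * (μ • a) := by rw [h1, ha]
  have h3 : aᵀ * hs (tauA hF) g.1.1 * (g.1.1 * a.map (tauA hF)) = aᵀ * a.map (tauA hF) := by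
    calc aᵀ * hs (tauA hF) g.1.1 * (g.1.1 * a.map (tauA hF))
        = aᵀ * (hs (tauA hF) g.1.1 * g.1.1) * a.map (tauA hF) := by simp only [Matrix.mul_assoc]
      _ = aᵀ * a.map (tauA hF) := by rw [mem_GU_hs hF g, Matrix.mul_one]
  rw [h3, Matrix.smul_mul, Matrix.mul_smul, smul_smul, mul_comm, hμ] at h2
  rw [← h2, Matrix.transpose_mul]
  unfold hs
  rw [Matrix.transpose_transpose]

theorem frame_T_herm (a : Matrix (Fin n) (Fin n) F) :
    hs (tauA hF) (hs (tauA hF) a * a) = hs (tauA hF) a * a := by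
  rw [hs_mul, hs_hs _ (tauA_mul_self hF)]

theorem frame_T_det (a : GL (Fin n) F) : (hs (tauA hF) a.1 * a.1).det ≠ 0 := by
  have h1 : (hs (tauA hF) a.1 * a.1) * ((a⁻¹).1 * hs (tauA hF) (a⁻¹).1) = 1 := by
    calc (hs (tauA hF) a.1 * a.1) * ((a⁻¹).1 * hs (tauA hF) (a⁻¹).1)
        = hs (tauA hF) a.1 * (a.1 * (a⁻¹).1) * hs (tauA hF) (a⁻¹).1 := by
          simp only [Matrix.mul_assoc]
      _ = 1 := by rw [gl_mul_inv, Matrix.mul_one, ← hs_mul, gl_inv_mul, hs_one]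
  intro h0
  have := congrArg Matrix.det h1
  rw [Matrix.det_mul, h0, zero_mul, Matrix.det_one] at this
  exact zero_ne_one this

end frames

section descend
variable (hF : Fintype.card F = q ^ 2)
  {F₀ : Type*} [Field F₀] [Fintype F₀] (j : F₀ →+* F)
  (hj : ∀ a : F, tauA hF a = a ↔ a ∈ Set.range j)

include hj in
/-- a matrix fixed by `τ` comes from the fixed field -/
theorem exists_map_j {κ : Type*} (M : Matrix κ κ F) (hM : M.map (tauA hF) = M) :
    ∃ M₀ : Matrix κ κ F₀, M₀.map j = M := by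
  have hent : ∀ s t, ∃ b : F₀, j b = M s t := by
    intro s t
    have h1 : tauA hF (M s t) = M s t := by
      have := congrFun (congrFun hM s) t
      rwa [Matrix.map_apply] at this
    obtain ⟨b, hb⟩ := (hj _).mp h1
    exact ⟨b, hb⟩
  choose M₀ hM₀ using hent
  refine ⟨Matrix.of M₀, ?_⟩
  ext s t
  rw [Matrix.map_apply, Matrix.of_apply, hM₀]

theorem map_j_smul {κ : Type*} (c₀ : F₀) (M₀ : Matrix κ κ F₀) :
    (c₀ • M₀).map j = j c₀ • M₀.map j := by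
  ext s t
  simp

theorem map_j_det (M₀ : Matrix (Fin n) (Fin n) F₀) : (M₀.map j).det = j M₀.det := by
  rw [RingHom.map_det]
  rfl

include hj in
/-- the form of an involutory graph automorphism over the fixed field -/
theorem exists_form (g : ↥(Cfsg.GU n F q)) (ε₀ : F₀) (hε₀ : ε₀ = 1 ∨ ε₀ = -1)
    (hg : g.1.1 * g.1.1.map (tauA hF) = j ε₀ • (1 : Matrix (Fin n) (Fin n) F))
    (ω : F) (hω0 : ω ≠ 0) (hω : tauA hF ω = j ε₀ * ω) :
    ∃ (a : GL (Fin n) F) (μ : F) (S₀ : Matrix (Fin n) (Fin n) F₀), μ ≠ 0 ∧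
      g.1.1 * a.1.map (tauA hF) = μ • a.1 ∧ hs (tauA hF) a.1 * a.1 = ω • S₀.map j ∧
      S₀ᵀ = ε₀ • S₀ ∧ S₀.det ≠ 0 := by
  have hjinj : Function.Injective j := RingHom.injective j
  have hε : j ε₀ = 1 ∨ j ε₀ = -1 := by
    rcases hε₀ with rfl | rfl
    · left; exact map_one j
    · right; rw [map_neg, map_one]
  obtain ⟨a, μ, hμ0, hμ, ha⟩ := exists_frame_U hF g (j ε₀) hε hg
  have hsym := frame_T_symm hF g (j ε₀) a.1 μ hμ ha
  have hherm := frame_T_herm hF a.1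
  obtain ⟨T, hT⟩ : ∃ T, T = hs (tauA hF) a.1 * a.1 := ⟨_, rfl⟩
  rw [← hT] at hsym hherm
  have hTτ : T.map (tauA hF) = j ε₀ • T := by
    rw [map_tauA_eq, hherm, hsym]
  have hfix : (ω⁻¹ • T).map (tauA hF) = ω⁻¹ • T := by
    have e1 : (ω⁻¹ • T).map (tauA hF) = (tauA hF ω)⁻¹ • T.map (tauA hF) := by
      ext s t
      simp
    rw [e1, hTτ, hω, smul_smul]
    congr 1
    have := eps_ne_zero (j ε₀) hε
    field_simp
  obtain ⟨S₀, hS₀⟩ := exists_map_j hF j hj (ω⁻¹ • T) hfix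
  have hTS : T = ω • S₀.map j := by
    rw [hS₀, smul_smul, mul_inv_cancel₀ hω0, one_smul]
  refine ⟨a, μ, S₀, hμ0, ha, ?_, ?_, ?_⟩
  · rw [← hT, hTS]
  · apply Matrix.map_injective hjinj
    change S₀ᵀ.map j = (ε₀ • S₀).map j
    rw [Matrix.transpose_map, map_j_smul, hS₀, Matrix.transpose_smul, hsym, smul_smul,
      smul_smul, mul_comm]
  · intro h0
    have h1 := frame_T_det hF a
    rw [← hT, hTS, Matrix.det_smul, map_j_det, h0, map_zero, mul_zero] at h1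
    exact h1 rfl

include hj in
/-- a unitary matrix with a prescribed form -/
theorem exists_gU_of_form (S₀ : Matrix (Fin n) (Fin n) F₀) (hdet : S₀.det ≠ 0) (ε₀ : F₀)
    (hε₀ : ε₀ = 1 ∨ ε₀ = -1) (hS₀ : S₀ᵀ = ε₀ • S₀) (ω : F) (hω0 : ω ≠ 0)
    (hω : tauA hF ω = j ε₀ * ω) :
    ∃ (g : ↥(Cfsg.GU n F q)) (a : GL (Fin n) F) (μ : F), μ ≠ 0 ∧
      g.1.1 * g.1.1.map (tauA hF) = j ε₀ • (1 : Matrix (Fin n) (Fin n) F) ∧
      g.1.1 * a.1.map (tauA hF) = μ • a.1 ∧ hs (tauA hF) a.1 * a.1 = ω • S₀.map j := by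
  have hjinj : Function.Injective j := RingHom.injective j
  have hε : j ε₀ = 1 ∨ j ε₀ = -1 := by
    rcases hε₀ with rfl | rfl
    · left; exact map_one j
    · right; rw [map_neg, map_one]
  have hεε := eps_mul_self (j ε₀) hε
  obtain ⟨T, hT⟩ : ∃ T : Matrix (Fin n) (Fin n) F, T = ω • S₀.map j := ⟨_, rfl⟩
  have hTdet : T.det ≠ 0 := by
    rw [hT, Matrix.det_smul, map_j_det]
    exact mul_ne_zero (pow_ne_zero _ hω0) ((map_ne_zero j).mpr hdet)
  have hTsym : Tᵀ = j ε₀ • T := by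
    rw [hT, Matrix.transpose_smul, ← Matrix.transpose_map, hS₀, map_j_smul, smul_smul, smul_smul,
      mul_comm]
  have hTherm : hs (tauA hF) T = T := by
    rw [hT, hs_smul, hs_map_j hF j hj, hS₀, map_j_smul, hω, smul_smul, mul_assoc,
      mul_comm ω, ← mul_assoc, hεε, one_mul]
  obtain ⟨k, hk⟩ := GraphFieldCoset.herm_decomp (tauA hF) (tauA_ne_one hF) (tauA_mul_self hF)
    (Cfsg.Agent.Lib.Helper16.GraphInvPSL.glOfDet T hTdet) hTherm
  have hk' : T = k.1 * hs (tauA hF) k.1 := hk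
  have hone : (1 : Matrix (Fin n) (Fin n) F).map (tauA hF) = 1 :=
    Matrix.map_one _ (map_zero _) (map_one _)
  obtain ⟨A, hA⟩ : ∃ A : Matrix (Fin n) (Fin n) F, A = hs (tauA hF) k.1 := ⟨_, rfl⟩
  obtain ⟨A', hA'⟩ : ∃ A' : Matrix (Fin n) (Fin n) F, A' = hs (tauA hF) (k⁻¹).1 := ⟨_, rfl⟩
  have hAA' : A * A' = 1 := by rw [hA, hA', ← hs_mul, gl_inv_mul, hs_one]
  have hA'A : A' * A = 1 := mul_eq_one_comm.mp hAA'
  have hTA : hs (tauA hF) A * A = T := by
    rw [hA, hs_hs _ (tauA_mul_self hF), hk']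
  have hTA' : T = j ε₀ • (Aᵀ * A.map (tauA hF)) := by
    have e1 : Tᵀ = Aᵀ * A.map (tauA hF) := by
      rw [← hTA, Matrix.transpose_mul]
      unfold hs
      rw [Matrix.transpose_transpose]
    rw [← e1, hTsym, smul_smul, hεε, one_smul]
  obtain ⟨μ, hμ0, hμ⟩ := exists_mu hF (j ε₀) hε
  obtain ⟨gM, hgM⟩ : ∃ gM : Matrix (Fin n) (Fin n) F, gM = μ • (A * A'.map (tauA hF)) := ⟨_, rfl⟩
  have hmapmul : A'.map (tauA hF) * A.map (tauA hF) = 1 := by
    rw [← Matrix.map_mul, hA'A, hone]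
  have hmapmul' : A.map (tauA hF) * A'.map (tauA hF) = 1 := by
    rw [← Matrix.map_mul, hAA', hone]
  have hU : hs (tauA hF) gM * gM = 1 := by
    rw [hgM, hs_smul, hs_mul, hs_map_tauA, Matrix.smul_mul, Matrix.mul_smul, smul_smul,
      mul_comm (tauA hF μ), hμ]
    calc j ε₀ • (A'ᵀ * hs (tauA hF) A * (A * A'.map (tauA hF)))
        = j ε₀ • (A'ᵀ * (hs (tauA hF) A * A) * A'.map (tauA hF)) := by
          simp only [Matrix.mul_assoc]
      _ = j ε₀ • (A'ᵀ * (j ε₀ • (Aᵀ * A.map (tauA hF))) * A'.map (tauA hF)) := by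
          rw [hTA, ← hTA']
      _ = (j ε₀ * j ε₀) • ((A'ᵀ * Aᵀ) * (A.map (tauA hF) * A'.map (tauA hF))) := by
          rw [Matrix.mul_smul, Matrix.smul_mul, smul_smul]
          simp only [Matrix.mul_assoc]
      _ = 1 := by
          rw [hεε, one_smul, ← Matrix.transpose_mul, hAA', Matrix.transpose_one, hmapmul',
            Matrix.mul_one]
  obtain ⟨g, hg⟩ := exists_GU_of_pres hF gM (pres_of_hs hF _ hU)
  have hg' : g.1.1 = gM := hg
  refine ⟨g, ⟨A, A', hAA', hA'A⟩, μ, hμ0, ?_, ?_, ?_⟩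
  · rw [hg', hgM]
    have e1 : (μ • (A * A'.map (tauA hF))).map (tauA hF) =
        tauA hF μ • (A.map (tauA hF) * A') := by
      rw [map_tauA_smul, Matrix.map_mul, map_tauA_map]
    rw [e1, Matrix.smul_mul, Matrix.mul_smul, smul_smul, hμ]
    congr 1
    calc A * A'.map (tauA hF) * (A.map (tauA hF) * A')
        = A * (A'.map (tauA hF) * A.map (tauA hF)) * A' := by simp only [Matrix.mul_assoc]
      _ = 1 := by rw [hmapmul, Matrix.mul_one, hAA']
  · change g.1.1 * A.map (tauA hF) = μ • A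
    rw [hg', hgM, Matrix.smul_mul, Matrix.mul_assoc, hmapmul, Matrix.mul_one]
  · change hs (tauA hF) A * A = ω • S₀.map j
    rw [hTA, hT]

end descend

end Cfsg.Agent.Lib.Helper16.GraphInvPSU
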