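import Mathlib
import Cfsg.Agent.Lib.Helper16.GraphInvPSU2

/-!
# Involutory graph automorphisms of `PSU_n(q)` (III): uniqueness of frames, conjugacy
-/

set_option autoImplicit false
set_option linter.unusedSectionVars false
set_option linter.unusedVariables false
set_option linter.style.haveILetI false

namespace Cfsg.Agent.Lib.Helper16.GraphInvPSU

open Matrix Cfsg Cfsg.Agent.Lib.Helper6 Cfsg.Agent.Lib.Helper6.AutPSU
  Cfsg.Agent.Lib.Helper16.H90GL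
  Cfsg.Agent.Lib.Helper16.GraphFieldCoset Cfsg.Agent.Lib.Helper16.UnitaryDescent
  Cfsg.Agent.Lib.Helper16.FieldCosetPSU Cfsg.Agent.Lib.Helper16.SplitCount
  Cfsg.Agent.Lib.Helper16.FieldCentPSU Cfsg.Agent.Lib.Helper16.OrthClassify
  Cfsg.Agent.Lib.Helper16.GraphCentPSL Cfsg.Agent.Lib.Helper16.GraphCentPSU
open Cfsg.Agent.Lib.Helper6.AutPSL (sG sG_val gl_mul_inv gl_inv_mul)
open Cfsg.Agent.Lib.Helper16.FieldCentPSL (mem_cent_comap gl_ne_zero)
open Cfsg.Agent.Lib.Helper16.FieldCoset (card_fin_ge scalar_eq_smul_one)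
open Cfsg.Agent.Lib.Helper16.GraphInvPSL (glOfDet glOfDet_val)

variable {F : Type*} [Field F] [Fintype F] {q n : ℕ}

section uniq
variable (hF : Fintype.card F = q ^ 2)
  {F₀ : Type*} [Field F₀] [Fintype F₀] (j : F₀ →+* F)
  (hj : ∀ a : F, tauA hF a = a ↔ a ∈ Set.range j)

theorem map_one_tauA : (1 : Matrix (Fin n) (Fin n) F).map (tauA hF) = 1 :=
  Matrix.map_one _ (map_zero _) (map_one _)

theorem gl_map_mul_inv (a : GL (Fin n) F) : a.1.map (tauA hF) * (a⁻¹).1.map (tauA hF) = 1 := by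
  rw [← Matrix.map_mul, gl_mul_inv, map_one_tauA]

theorem gl_map_inv_mul (a : GL (Fin n) F) : (a⁻¹).1.map (tauA hF) * a.1.map (tauA hF) = 1 := by
  rw [← Matrix.map_mul, gl_inv_mul, map_one_tauA]

/-- the frame relation for the inverse -/
theorem frame_inv (g : Matrix (Fin n) (Fin n) F) (a : GL (Fin n) F) (μ : F)
    (ha : g * a.1.map (tauA hF) = μ • a.1) :
    (a⁻¹).1 * g = μ • (a⁻¹).1.map (tauA hF) := by
  calc (a⁻¹).1 * g = (a⁻¹).1 * g * (a.1.map (tauA hF) * (a⁻¹).1.map (tauA hF)) := by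
        rw [gl_map_mul_inv, Matrix.mul_one]
    _ = (a⁻¹).1 * (g * a.1.map (tauA hF)) * (a⁻¹).1.map (tauA hF) := by
        simp only [Matrix.mul_assoc]
    _ = μ • (a⁻¹).1.map (tauA hF) := by
        rw [ha, Matrix.mul_smul, gl_inv_mul, Matrix.smul_mul, Matrix.one_mul]

theorem map_j_tauA (M₀ : Matrix (Fin n) (Fin n) F₀) (hj' : ∀ b : F₀, tauA hF (j b) = j b) :
    (M₀.map j).map (tauA hF) = M₀.map j := by
  ext s t
  rw [Matrix.map_apply, Matrix.map_apply, hj']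

include hj in
theorem tauA_j (b : F₀) : tauA hF (j b) = j b := (hj _).mpr ⟨b, rfl⟩

include hj in
/-- two frames of the same matrix differ by a scalar and a matrix over the fixed field -/
theorem frames_unique (hn1 : 1 ≤ n) (g : Matrix (Fin n) (Fin n) F) (b a' : GL (Fin n) F)
    (κ μ' : F) (hκ : κ ≠ 0) (hb : g * b.1.map (tauA hF) = κ • b.1)
    (ha' : g * a'.1.map (tauA hF) = μ' • a'.1) :
    ∃ (c : F) (k₀ : Matrix (Fin n) (Fin n) F₀), c ≠ 0 ∧ k₀.det ≠ 0 ∧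
      a'.1 = c • (b.1 * k₀.map j) := by
  have hbi := frame_inv hF g b κ hb
  have hbi' : (b⁻¹).1.map (tauA hF) = κ⁻¹ • ((b⁻¹).1 * g) := by
    rw [hbi, smul_smul, inv_mul_cancel₀ hκ, one_smul]
  have hK : (b⁻¹ * a').1.map (tauA hF) = (μ' / κ) • (b⁻¹ * a').1 := by
    rw [Units.val_mul, Matrix.map_mul, hbi', Matrix.smul_mul, Matrix.mul_assoc, ha',
      Matrix.mul_smul, smul_smul]
    congr 1
    field_simp
  obtain ⟨c', hc'0, hc'⟩ := FieldCentPSL.exists_fixed_mul hn1 (tauA hF) (b⁻¹ * a') _ hK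
  obtain ⟨k₀, hk₀⟩ := exists_map_j hF j hj _ hc'
  refine ⟨c'⁻¹, k₀, inv_ne_zero hc'0, ?_, ?_⟩
  · intro h0
    have h1 : (k₀.map j).det = 0 := by rw [map_j_det, h0, map_zero]
    rw [hk₀, Matrix.det_smul] at h1
    have h2 : (b⁻¹ * a').1.det ≠ 0 := (Matrix.GeneralLinearGroup.det (b⁻¹ * a')).ne_zero
    rcases mul_eq_zero.mp h1 with h | h
    · exact pow_ne_zero _ hc'0 h
    · exact h2 h
  · rw [hk₀, Matrix.mul_smul, smul_smul, inv_mul_cancel₀ hc'0, one_smul, Units.val_mul,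
      ← Matrix.mul_assoc, gl_mul_inv, Matrix.one_mul]

/-- frames with the same Hermitian matrix differ by a unitary matrix -/
theorem unitary_of_same_T (a b : GL (Fin n) F)
    (h : hs (tauA hF) a.1 * a.1 = hs (tauA hF) b.1 * b.1) :
    hs (tauA hF) (a.1 * (b⁻¹).1) * (a.1 * (b⁻¹).1) = 1 := by
  rw [hs_mul]
  calc hs (tauA hF) (b⁻¹).1 * hs (tauA hF) a.1 * (a.1 * (b⁻¹).1)
      = hs (tauA hF) (b⁻¹).1 * (hs (tauA hF) a.1 * a.1) * (b⁻¹).1 := by
        simp only [Matrix.mul_assoc]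
    _ = hs (tauA hF) (b⁻¹).1 * (hs (tauA hF) b.1 * b.1) * (b⁻¹).1 := by rw [h]
    _ = (hs (tauA hF) (b⁻¹).1 * hs (tauA hF) b.1) * (b.1 * (b⁻¹).1) := by
        simp only [Matrix.mul_assoc]
    _ = 1 := by rw [← hs_mul, gl_mul_inv, hs_one, Matrix.mul_one]

end uniq

section conj
variable (p : ℕ) [hp : Fact p.Prime] [CharP F p] (hF : Fintype.card F = q ^ 2) (hn : 3 ≤ n)
  {F₀ : Type*} [Field F₀] [Fintype F₀] (j : F₀ →+* F)
  (hj : ∀ a : F, tauA hF a = a ↔ a ∈ Set.range j)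

include hp hn hj in
/-- frames with similar forms give conjugate automorphisms -/
theorem conj_of_frames (g g' : ↥(Cfsg.GU n F q)) (a a' : GL (Fin n) F) (μ μ' : F)
    (hμ0 : μ ≠ 0) (hμ'0 : μ' ≠ 0)
    (ha : g.1.1 * a.1.map (tauA hF) = μ • a.1) (ha' : g'.1.1 * a'.1.map (tauA hF) = μ' • a'.1)
    (k₀ : Matrix (Fin n) (Fin n) F₀) (hk₀ : k₀.det ≠ 0) (c₀ : F₀) (hc₀ : c₀ ≠ 0)
    (hT : hs (tauA hF) a.1 * a.1 =
      j c₀ • ((k₀.map j)ᵀ * (hs (tauA hF) a'.1 * a'.1) * k₀.map j)) :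
    Cfsg.IsConjUnder (Cfsg.inndiagPSU n F q)
      (cU g' * fU (tauA hF) : MulAut (Cfsg.PSU n F q)) (cU g * fU (tauA hF)) := by
  have hτ' : ((tauA hF : RingAut F) : F →+* F) ≠ RingHom.id F := by
    intro h'
    apply tauA_ne_one hF
    apply RingEquiv.ext
    intro a
    exact DFunLike.congr_fun h' a
  have hjc : j c₀ ≠ 0 := (map_ne_zero j).mpr hc₀
  obtain ⟨d, hd⟩ := Cfsg.Agent.Lib.Helper6.exists_norm ((tauA hF : RingAut F) : F →+* F) hτ'
    (tauA_tauA hF) (j c₀) hjc (tauA_j hF j hj c₀)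
  have hd' : d * tauA hF d = j c₀ := hd
  have hd0 : d ≠ 0 := by
    rintro rfl
    rw [zero_mul] at hd'
    exact hjc hd'.symm
  have hτd0 : tauA hF d ≠ 0 := (map_ne_zero _).mpr hd0
  have hKdet : (d • (a'.1 * k₀.map j)).det ≠ 0 := by
    rw [Matrix.det_smul, Matrix.det_mul, map_j_det]
    exact mul_ne_zero (pow_ne_zero _ hd0)
      (mul_ne_zero (Matrix.GeneralLinearGroup.det a').ne_zero ((map_ne_zero j).mpr hk₀))
  obtain ⟨b, hb⟩ : ∃ b : GL (Fin n) F, b.1 = d • (a'.1 * k₀.map j) := ⟨glOfDet _ hKdet, rfl⟩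
  have hKτ : (k₀.map j).map (tauA hF) = k₀.map j := map_j_tauA hF j k₀ (tauA_j hF j hj)
  have hTb : hs (tauA hF) b.1 * b.1 = hs (tauA hF) a.1 * a.1 := by
    rw [hT, hb, hs_smul, hs_mul, hs_map_j hF j hj, Matrix.smul_mul, Matrix.mul_smul, smul_smul,
      mul_comm (tauA hF d), hd', Matrix.transpose_map]
    simp only [Matrix.mul_assoc]
  have hgb : g'.1.1 * b.1.map (tauA hF) = (tauA hF d * μ' / d) • b.1 := by
    rw [hb, map_tauA_smul, Matrix.map_mul, hKτ, Matrix.mul_smul, ← Matrix.mul_assoc, ha',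
      Matrix.smul_mul, smul_smul, smul_smul]
    congr 1
    field_simp
  obtain ⟨h, hh⟩ := exists_GU_of_pres hF _ (pres_of_hs hF _ (unitary_of_same_T hF a b hTb.symm))
  have hh' : h.1.1 = a.1 * (b⁻¹).1 := hh
  have hbi := frame_inv hF g'.1.1 b _ hgb
  refine isConjUnder_of_U p hF hn g' g h (tauA hF d * μ' / d / μ) ?_
  rw [hh', Matrix.map_mul, ← Matrix.mul_assoc, ha, Matrix.mul_assoc, hbi, Matrix.mul_smul,
    Matrix.smul_mul, smul_smul]
  congr 1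
  field_simp

include hp hn hj in
/-- conjugate automorphisms have similar forms -/
theorem frames_of_conj (g g' : ↥(Cfsg.GU n F q)) (a a' : GL (Fin n) F) (μ μ' : F)
    (hμ0 : μ ≠ 0) (hμ'0 : μ' ≠ 0)
    (ha : g.1.1 * a.1.map (tauA hF) = μ • a.1) (ha' : g'.1.1 * a'.1.map (tauA hF) = μ' • a'.1)
    (hc : Cfsg.IsConjUnder (Cfsg.inndiagPSU n F q)
      (cU g * fU (tauA hF) : MulAut (Cfsg.PSU n F q)) (cU g' * fU (tauA hF))) :
    ∃ (k₀ : Matrix (Fin n) (Fin n) F₀) (c₀ : F₀), k₀.det ≠ 0 ∧ c₀ ≠ 0 ∧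
      hs (tauA hF) a'.1 * a'.1 =
        j c₀ • ((k₀.map j)ᵀ * (hs (tauA hF) a.1 * a.1) * k₀.map j) := by
  obtain ⟨h, ν, hν⟩ := of_isConjUnder_U p hF hn g g' hc
  have hν0 : ν ≠ 0 := by
    rintro rfl
    rw [zero_smul] at hν
    have h1 : (h * g).1.1 = 0 := hν
    obtain ⟨s, t, hst⟩ := gl_ne_zero (by omega : 1 ≤ n) (h * g).1
    rw [h1] at hst
    exact hst rfl
  have hgb : g'.1.1 * (h.1 * a).1.map (tauA hF) = (ν⁻¹ * μ) • (h.1 * a).1 := by
    rw [Units.val_mul, Matrix.map_mul, ← Matrix.mul_assoc]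
    have e1 : g'.1.1 * h.1.1.map (tauA hF) = ν⁻¹ • (h.1.1 * g.1.1) := by
      rw [hν, smul_smul, inv_mul_cancel₀ hν0, one_smul]
    rw [e1, Matrix.smul_mul, Matrix.mul_assoc, ha, Matrix.mul_smul, smul_smul]
  have hTb : hs (tauA hF) (h.1 * a).1 * (h.1 * a).1 = hs (tauA hF) a.1 * a.1 := by
    rw [Units.val_mul, hs_mul]
    calc hs (tauA hF) a.1 * hs (tauA hF) h.1.1 * (h.1.1 * a.1)
        = hs (tauA hF) a.1 * (hs (tauA hF) h.1.1 * h.1.1) * a.1 := by simp only [Matrix.mul_assoc]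
      _ = _ := by rw [mem_GU_hs hF h, Matrix.mul_one]
  obtain ⟨c, k₀, hc0, hk₀, hak⟩ := frames_unique hF j hj (by omega) g'.1.1 (h.1 * a) a'
    (ν⁻¹ * μ) μ' (mul_ne_zero (inv_ne_zero hν0) hμ0) hgb ha'
  have hcc : tauA hF (c * tauA hF c) = c * tauA hF c := by
    rw [map_mul, tauA_tauA, mul_comm]
  obtain ⟨c₀, hc₀⟩ := (hj _).mp hcc
  refine ⟨k₀, c₀, hk₀, ?_, ?_⟩
  · rintro rfl
    rw [map_zero] at hc₀
    exact mul_ne_zero hc0 ((map_ne_zero _).mpr hc0) hc₀.symm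
  · rw [hak, hs_smul, hs_mul, hs_map_j hF j hj, Matrix.smul_mul, Matrix.mul_smul, smul_smul,
      mul_comm (tauA hF c), ← hc₀, ← hTb, Matrix.transpose_map]
    simp only [Matrix.mul_assoc]

end conj

end Cfsg.Agent.Lib.Helper16.GraphInvPSU
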