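import Mathlib
import Cfsg.Agent.Lib.Helper16.GraphInvPSU3

/-!
# Involutory graph automorphisms of `PSU_n(q)` (IV): the centralizer in terms of a frame
-/

set_option autoImplicit false
set_option linter.unusedSectionVars false
set_option linter.unusedVariables false
set_option linter.style.haveILetI false

namespace Cfsg.Agent.Lib.Helper16.GraphInvPSU

open Matrix Cfsg Cfsg.Agent.Lib.Helper6 Cfsg.Agent.Lib.Helper6.AutPSU
  Cfsg.Agent.Lib.Helper16.H90GL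
  Cfsg.Agent.Lib.Helper16.GraphFieldCoset Cfsg.Agent.Lib.Helper16.UnitaryDescent
  Cfsg.Agent.Lib.Helper16.FieldCosetPSU Cfsg.Agent.Lib.Helper16.SplitCount
  Cfsg.Agent.Lib.Helper16.FieldCentPSU Cfsg.Agent.Lib.Helper16.OrthClassify
  Cfsg.Agent.Lib.Helper16.GraphCentPSL Cfsg.Agent.Lib.Helper16.GraphCentPSU
open Cfsg.Agent.Lib.Helper6.AutPSL (sG sG_val gl_mul_inv gl_inv_mul)
open Cfsg.Agent.Lib.Helper16.FieldCentPSL (mem_cent_comap gl_ne_zero)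
open Cfsg.Agent.Lib.Helper16.FieldCoset (card_fin_ge scalar_eq_smul_one)
open Cfsg.Agent.Lib.Helper16.GraphInvPSL (glOfDet glOfDet_val)

variable {F : Type*} [Field F] [Fintype F] {q n : ℕ}

section transfer
variable (hF : Fintype.card F = q ^ 2)
  {F₀ : Type*} [Field F₀] [Fintype F₀] (j : F₀ →+* F)
  (hj : ∀ a : F, tauA hF a = a ↔ a ∈ Set.range j)

include hj in
/-- the unitarity of `c • a K a⁻¹` in terms of the form -/
theorem hs_lift (a : GL (Fin n) F) (k₀ : Matrix (Fin n) (Fin n) F₀) (c : F) :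
    hs (tauA hF) (c • (a.1 * k₀.map j * (a⁻¹).1)) * (c • (a.1 * k₀.map j * (a⁻¹).1)) =
      (c * tauA hF c) •
        (hs (tauA hF) (a⁻¹).1 * (k₀ᵀ.map j * (hs (tauA hF) a.1 * a.1) * k₀.map j) * (a⁻¹).1) := by
  rw [hs_smul, hs_mul, hs_mul, hs_map_j hF j hj, Matrix.smul_mul, Matrix.mul_smul, smul_smul,
    mul_comm (tauA hF c)]
  congr 1
  simp only [Matrix.mul_assoc]

theorem form_congr (a : GL (Fin n) F) (ω : F) (S₀ : Matrix (Fin n) (Fin n) F₀)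
    (hT : hs (tauA hF) a.1 * a.1 = ω • S₀.map j) (k₀ : Matrix (Fin n) (Fin n) F₀) :
    k₀ᵀ.map j * (hs (tauA hF) a.1 * a.1) * k₀.map j = ω • (k₀ᵀ * S₀ * k₀).map j := by
  rw [hT, Matrix.mul_smul, Matrix.smul_mul, Matrix.map_mul, Matrix.map_mul]

theorem hs_inv_T_inv (a : GL (Fin n) F) :
    hs (tauA hF) (a⁻¹).1 * (hs (tauA hF) a.1 * a.1) * (a⁻¹).1 = 1 := by
  calc hs (tauA hF) (a⁻¹).1 * (hs (tauA hF) a.1 * a.1) * (a⁻¹).1
      = (hs (tauA hF) (a⁻¹).1 * hs (tauA hF) a.1) * (a.1 * (a⁻¹).1) := by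
        simp only [Matrix.mul_assoc]
    _ = 1 := by rw [← hs_mul, gl_mul_inv, hs_one, Matrix.mul_one]

include hj in
/-- lifting a similarity of the form to the centralizer -/
theorem lift_sim (g : ↥(Cfsg.GU n F q)) (a : GL (Fin n) F) (μ : F)
    (ha : g.1.1 * a.1.map (tauA hF) = μ • a.1) (ω : F) (S₀ : Matrix (Fin n) (Fin n) F₀)
    (hT : hs (tauA hF) a.1 * a.1 = ω • S₀.map j) (k₀ : Matrix (Fin n) (Fin n) F₀) (c₀ : F₀)
    (hc₀ : c₀ ≠ 0) (hk : k₀ᵀ * S₀ * k₀ = c₀ • S₀) (c : F) (hc : c * tauA hF c = (j c₀)⁻¹) :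
    ∃ h : ↥(Cfsg.GU n F q), h.1.1 = c • (a.1 * k₀.map j * (a⁻¹).1) ∧
      h.1.1 * g.1.1 = (c / tauA hF c) • (g.1.1 * h.1.1.map (tauA hF)) := by
  have hjc : j c₀ ≠ 0 := (map_ne_zero j).mpr hc₀
  have hc0 : c ≠ 0 := by
    rintro rfl
    rw [zero_mul] at hc
    exact inv_ne_zero hjc hc.symm
  have hτc0 : tauA hF c ≠ 0 := (map_ne_zero _).mpr hc0
  have hU : hs (tauA hF) (c • (a.1 * k₀.map j * (a⁻¹).1)) * (c • (a.1 * k₀.map j * (a⁻¹).1)) =
      1 := by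
    have e1 : ω • (c₀ • S₀).map j = j c₀ • (hs (tauA hF) a.1 * a.1) := by
      rw [hT, map_j_smul, smul_smul, smul_smul, mul_comm]
    rw [hs_lift hF j hj a, form_congr hF j a ω S₀ hT, hk, e1, Matrix.mul_smul, Matrix.smul_mul,
      smul_smul, hs_inv_T_inv, hc, inv_mul_cancel₀ hjc, one_smul]
  obtain ⟨h, hh⟩ := exists_GU_of_pres hF _ (pres_of_hs hF _ hU)
  have hh' : h.1.1 = c • (a.1 * k₀.map j * (a⁻¹).1) := hh
  refine ⟨h, hh', ?_⟩
  have hKτ : (k₀.map j).map (tauA hF) = k₀.map j := map_j_tauA hF j k₀ (tauA_j hF j hj)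
  have hai := frame_inv hF g.1.1 a μ ha
  rw [hh', map_tauA_smul, Matrix.map_mul, Matrix.map_mul, hKτ, Matrix.smul_mul, Matrix.mul_smul,
    smul_smul, Matrix.mul_assoc, hai, Matrix.mul_smul]
  have e3 : g.1.1 * (a.1.map (tauA hF) * k₀.map j * (a⁻¹).1.map (tauA hF)) =
      μ • (a.1 * k₀.map j * (a⁻¹).1.map (tauA hF)) := by
    calc g.1.1 * (a.1.map (tauA hF) * k₀.map j * (a⁻¹).1.map (tauA hF))
        = (g.1.1 * a.1.map (tauA hF)) * k₀.map j * (a⁻¹).1.map (tauA hF) := by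
          simp only [Matrix.mul_assoc]
      _ = _ := by rw [ha, Matrix.smul_mul, Matrix.smul_mul]
  rw [e3, smul_smul, smul_smul, Matrix.mul_assoc]
  congr 1
  field_simp

include hj in
/-- an element of the centralizer comes from a similarity of the form -/
theorem descend_cent (hn1 : 1 ≤ n) (g : ↥(Cfsg.GU n F q)) (a : GL (Fin n) F) (μ : F)
    (hμ0 : μ ≠ 0) (ha : g.1.1 * a.1.map (tauA hF) = μ • a.1) (ω : F) (hω0 : ω ≠ 0)
    (S₀ : Matrix (Fin n) (Fin n) F₀) (hT : hs (tauA hF) a.1 * a.1 = ω • S₀.map j)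
    (h : ↥(Cfsg.GU n F q)) (l : F) (hh : h.1.1 * g.1.1 = l • (g.1.1 * h.1.1.map (tauA hF))) :
    ∃ (c : F) (k₀ : Matrix (Fin n) (Fin n) F₀) (c₀ : F₀), c ≠ 0 ∧ k₀.det ≠ 0 ∧ c₀ ≠ 0 ∧
      h.1.1 = c • (a.1 * k₀.map j * (a⁻¹).1) ∧ k₀ᵀ * S₀ * k₀ = c₀ • S₀ ∧
      j c₀ = (c * tauA hF c)⁻¹ := by
  have hjinj : Function.Injective j := RingHom.injective j
  have hl0 : l ≠ 0 := by
    rintro rfl
    rw [zero_smul] at hh
    have h1 : (h * g).1.1 = 0 := hh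
    obtain ⟨s, t, hst⟩ := gl_ne_zero hn1 (h * g).1
    rw [h1] at hst
    exact hst rfl
  have hgb : g.1.1 * (h.1 * a).1.map (tauA hF) = (l⁻¹ * μ) • (h.1 * a).1 := by
    rw [Units.val_mul, Matrix.map_mul, ← Matrix.mul_assoc]
    have e1 : g.1.1 * h.1.1.map (tauA hF) = l⁻¹ • (h.1.1 * g.1.1) := by
      rw [hh, smul_smul, inv_mul_cancel₀ hl0, one_smul]
    rw [e1, Matrix.smul_mul, Matrix.mul_assoc, ha, Matrix.mul_smul, smul_smul]
  obtain ⟨c, k₀, hc0, hk₀, hak⟩ := frames_unique hF j hj hn1 g.1.1 a (h.1 * a) μ (l⁻¹ * μ) hμ0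
    ha hgb
  have hhc : h.1.1 = c • (a.1 * k₀.map j * (a⁻¹).1) := by
    calc h.1.1 = (h.1 * a).1 * (a⁻¹).1 := by
          rw [Units.val_mul, Matrix.mul_assoc, gl_mul_inv, Matrix.mul_one]
      _ = c • (a.1 * k₀.map j * (a⁻¹).1) := by rw [hak, Matrix.smul_mul]
  have hτc0 : tauA hF c ≠ 0 := (map_ne_zero _).mpr hc0
  have hcc0 : c * tauA hF c ≠ 0 := mul_ne_zero hc0 hτc0
  have hcc : tauA hF (c * tauA hF c)⁻¹ = (c * tauA hF c)⁻¹ := by
    rw [map_inv₀, map_mul, tauA_tauA, mul_comm]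
  obtain ⟨c₀, hc₀⟩ := (hj _).mp hcc
  have hU := mem_GU_hs hF h
  rw [hhc, hs_lift hF j hj a, form_congr hF j a ω S₀ hT] at hU
  have hX : (c * tauA hF c) • (ω • (k₀ᵀ * S₀ * k₀).map j) = ω • S₀.map j := by
    have h2 := congrArg (fun M => hs (tauA hF) a.1 * M * a.1) hU
    simp only [Matrix.mul_one] at h2
    rw [hT] at h2
    rw [← h2, Matrix.mul_smul, Matrix.smul_mul]
    congr 1
    calc ω • (k₀ᵀ * S₀ * k₀).map j
        = (hs (tauA hF) a.1 * hs (tauA hF) (a⁻¹).1) * (ω • (k₀ᵀ * S₀ * k₀).map j) *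
            ((a⁻¹).1 * a.1) := by
          rw [← hs_mul, gl_inv_mul, hs_one, Matrix.one_mul, Matrix.mul_one]
      _ = _ := by simp only [Matrix.mul_assoc]
  have hX' : (k₀ᵀ * S₀ * k₀).map j = (c * tauA hF c)⁻¹ • S₀.map j := by
    have h3 := congrArg (fun M => (ω * (c * tauA hF c))⁻¹ • M) hX
    simp only [smul_smul] at h3
    have e1 : (ω * (c * tauA hF c))⁻¹ * (c * tauA hF c * ω) = 1 := by field_simp
    have e2 : (ω * (c * tauA hF c))⁻¹ * ω = (c * tauA hF c)⁻¹ := by field_simp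
    rw [e1, e2, one_smul] at h3
    exact h3
  refine ⟨c, k₀, c₀, hc0, hk₀, ?_, hhc, ?_, hc₀⟩
  · rintro rfl
    rw [map_zero] at hc₀
    exact inv_ne_zero hcc0 hc₀.symm
  · apply Matrix.map_injective hjinj
    change (k₀ᵀ * S₀ * k₀).map j = (c₀ • S₀).map j
    rw [hX', map_j_smul, hc₀]

end transfer

end Cfsg.Agent.Lib.Helper16.GraphInvPSU
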