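import Mathlib
import Cfsg.Agent.Lib.Helper16.GraphInvPSU4

/-!
# Involutory graph automorphisms of `PSU_n(q)` (V): the centralizer
-/

set_option autoImplicit false
set_option linter.unusedSectionVars false
set_option linter.unusedVariables false
set_option linter.style.haveILetI false

namespace Cfsg.Agent.Lib.Helper16.GraphInvPSU

open Matrix Cfsg Cfsg.Agent.Lib.Helper6 Cfsg.Agent.Lib.Helper6.AutPSU
  Cfsg.Agent.Lib.Helper16.H90GL
  Cfsg.Agent.Lib.Helper16.GraphFieldCoset Cfsg.Agent.Lib.Helper16.UnitaryDescent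
  Cfsg.Agent.Lib.Helper16.FieldCosetPSU Cfsg.Agent.Lib.Helper16.SplitCount
  Cfsg.Agent.Lib.Helper16.FieldCentPSU Cfsg.Agent.Lib.Helper16.OrthClassify
  Cfsg.Agent.Lib.Helper16.GraphCentPSL Cfsg.Agent.Lib.Helper16.GraphCentPSU
open Cfsg.Agent.Lib.Helper6.AutPSL (sG sG_val gl_mul_inv gl_inv_mul)
open Cfsg.Agent.Lib.Helper16.FieldCentPSL (mem_cent_comap gl_ne_zero)
open Cfsg.Agent.Lib.Helper16.FieldCoset (card_fin_ge scalar_eq_smul_one)
open Cfsg.Agent.Lib.Helper16.GraphInvPSL (glOfDet glOfDet_val)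

variable {F : Type*} [Field F] [Fintype F] {q n : ℕ}

section cent
variable (p : ℕ) [hp : Fact p.Prime] [CharP F p] (hF : Fintype.card F = q ^ 2) (hn : 3 ≤ n)
  {F₀ : Type*} [Field F₀] [Fintype F₀] (j : F₀ →+* F)
  (hj : ∀ a : F, tauA hF a = a ↔ a ∈ Set.range j)
  {ι' : Type} [Fintype ι'] [DecidableEq ι']

set_option maxHeartbeats 1600000 in
include hp hn hj in
/-- the centralizer of an involutory graph automorphism is the projective similarity group of its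
form over the fixed field -/
theorem cent_gU_iso (g : ↥(Cfsg.GU n F q)) (a : GL (Fin n) F) (μ : F) (hμ0 : μ ≠ 0)
    (ha : g.1.1 * a.1.map (tauA hF) = μ • a.1) (ω : F) (hω0 : ω ≠ 0) (G' : Matrix ι' ι' F₀)
    (P : Matrix ι' (Fin n) F₀) (P' : Matrix (Fin n) ι' F₀) (hPP' : P * P' = 1) (hP'P : P' * P = 1)
    (hT : hs (tauA hF) a.1 * a.1 = ω • (Pᵀ * G' * P).map j)
    (H : Subgroup (GL ι' F₀))
    (hH : ∀ k : GL ι' F₀, k ∈ H ↔ ∃ c : F₀, c ≠ 0 ∧ (k.1)ᵀ * G' * k.1 = c • G') :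
    Nonempty (↥(Cfsg.inndiagPSU n F q ⊓
      Subgroup.centralizer {(cU g * fU (tauA hF) : MulAut (Cfsg.PSU n F q))}) ≃*
      Cfsg.projQuot H) := by
  classical
  have hjinj : Function.Injective j := RingHom.injective j
  have hιinj : Function.Injective (fun M : Matrix (Fin n) (Fin n) F₀ => M.map j) :=
    Matrix.map_injective hjinj
  have hn1 : 1 ≤ n := by omega
  have hτ' : ((tauA hF : RingAut F) : F →+* F) ≠ RingHom.id F := by
    intro h'
    apply tauA_ne_one hF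
    apply RingEquiv.ext
    intro a
    exact DFunLike.congr_fun h' a
  obtain ⟨S₀, hS₀⟩ : ∃ S₀ : Matrix (Fin n) (Fin n) F₀, S₀ = Pᵀ * G' * P := ⟨_, rfl⟩
  rw [← hS₀] at hT
  have hPtP't : Pᵀ * P'ᵀ = 1 := by rw [← Matrix.transpose_mul, hP'P, Matrix.transpose_one]
  have hP'tPt : P'ᵀ * Pᵀ = 1 := by rw [← Matrix.transpose_mul, hPP', Matrix.transpose_one]
  -- similarities of `G'` become similarities of `S₀`
  have hsim : ∀ g' : ↥H, ∃ c₀ : F₀, c₀ ≠ 0 ∧
      (P' * ((g'.1 : GL ι' F₀) : Matrix ι' ι' F₀) * P)ᵀ * S₀ *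
        (P' * ((g'.1 : GL ι' F₀) : Matrix ι' ι' F₀) * P) = c₀ • S₀ := by
    intro g'
    obtain ⟨c, hc0, hc⟩ := (hH g'.1).mp g'.2
    refine ⟨c, hc0, ?_⟩
    rw [hS₀, Matrix.transpose_mul, Matrix.transpose_mul]
    calc Pᵀ * ((((g'.1 : GL ι' F₀) : Matrix ι' ι' F₀))ᵀ * P'ᵀ) * (Pᵀ * G' * P) *
          (P' * ((g'.1 : GL ι' F₀) : Matrix ι' ι' F₀) * P)
        = Pᵀ * ((((g'.1 : GL ι' F₀) : Matrix ι' ι' F₀))ᵀ * (P'ᵀ * Pᵀ) * G' * (P * P') *
            ((g'.1 : GL ι' F₀) : Matrix ι' ι' F₀)) * P := by simp only [Matrix.mul_assoc]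
      _ = Pᵀ * ((((g'.1 : GL ι' F₀) : Matrix ι' ι' F₀))ᵀ * G' *
            ((g'.1 : GL ι' F₀) : Matrix ι' ι' F₀)) * P := by
          rw [hP'tPt, hPP', Matrix.mul_one, Matrix.mul_one]
      _ = c • (Pᵀ * G' * P) := by
          rw [hc, Matrix.mul_smul, Matrix.smul_mul]
  have hlift : ∀ g' : ↥H, ∃ (L : ↥(Cfsg.GU n F q)) (cL : F), cL ≠ 0 ∧
      L.1.1 = cL • (a.1 * (P' * ((g'.1 : GL ι' F₀) : Matrix ι' ι' F₀) * P).map j * (a⁻¹).1) ∧
      ∃ l : F, L.1.1 * g.1.1 = l • (g.1.1 * L.1.1.map (tauA hF)) := by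
    intro g'
    obtain ⟨c₀, hc₀, h⟩ := hsim g'
    have hjc : j c₀ ≠ 0 := (map_ne_zero j).mpr hc₀
    have hfix : tauA hF (j c₀)⁻¹ = (j c₀)⁻¹ := by rw [map_inv₀, tauA_j hF j hj]
    obtain ⟨c, hc⟩ := Cfsg.Agent.Lib.Helper6.exists_norm ((tauA hF : RingAut F) : F →+* F) hτ'
      (tauA_tauA hF) (j c₀)⁻¹ (inv_ne_zero hjc) hfix
    have hc' : c * tauA hF c = (j c₀)⁻¹ := hc
    have hc0 : c ≠ 0 := by
      rintro rfl
      rw [zero_mul] at hc'
      exact inv_ne_zero hjc hc'.symm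
    obtain ⟨L, hL1, hL2⟩ := lift_sim hF j hj g a μ ha ω S₀ hT _ c₀ hc₀ h c hc'
    exact ⟨L, c, hc0, hL1, _, hL2⟩
  choose L aL haL hL hLc using hlift
  have hmulP : ∀ g' h' : ↥H,
      P' * (((g' * h' : ↥H).1 : GL ι' F₀) : Matrix ι' ι' F₀) * P =
      (P' * ((g'.1 : GL ι' F₀) : Matrix ι' ι' F₀) * P) *
        (P' * ((h'.1 : GL ι' F₀) : Matrix ι' ι' F₀) * P) := by
    intro g' h'
    change P' * (((g'.1 : GL ι' F₀) : Matrix ι' ι' F₀) * ((h'.1 : GL ι' F₀) : Matrix ι' ι' F₀)) *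
      P = _
    calc P' * (((g'.1 : GL ι' F₀) : Matrix ι' ι' F₀) * ((h'.1 : GL ι' F₀) : Matrix ι' ι' F₀)) * P
        = P' * (((g'.1 : GL ι' F₀) : Matrix ι' ι' F₀) * 1 *
            ((h'.1 : GL ι' F₀) : Matrix ι' ι' F₀)) * P := by rw [Matrix.mul_one]
      _ = _ := by
          rw [← hPP']
          simp only [Matrix.mul_assoc]
  obtain ⟨Ψ, hΨa⟩ : ∃ Ψ : ↥H →* MulAut (Cfsg.PSU n F q), ∀ g', Ψ g' = cU (L g') := by
    refine ⟨MonoidHom.mk' (fun g' => cU (L g')) ?_, fun g' => rfl⟩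
    intro g' h'
    rw [← map_mul, cU_eq_iff p hF hn]
    refine ⟨aL (g' * h') / (aL g' * aL h'), ?_⟩
    change (L (g' * h')).1.1 = _ • ((L g').1.1 * (L h').1.1)
    rw [hL, hL, hL, hmulP, Matrix.map_mul, Matrix.smul_mul, Matrix.mul_smul, smul_smul, smul_smul]
    have e1 : a.1 * (P' * ((g'.1 : GL ι' F₀) : Matrix ι' ι' F₀) * P).map j * (a⁻¹).1 *
        (a.1 * (P' * ((h'.1 : GL ι' F₀) : Matrix ι' ι' F₀) * P).map j * (a⁻¹).1) =
        a.1 * ((P' * ((g'.1 : GL ι' F₀) : Matrix ι' ι' F₀) * P).map j *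
          (P' * ((h'.1 : GL ι' F₀) : Matrix ι' ι' F₀) * P).map j) * (a⁻¹).1 := by
      calc a.1 * (P' * ((g'.1 : GL ι' F₀) : Matrix ι' ι' F₀) * P).map j * (a⁻¹).1 *
            (a.1 * (P' * ((h'.1 : GL ι' F₀) : Matrix ι' ι' F₀) * P).map j * (a⁻¹).1)
          = a.1 * (P' * ((g'.1 : GL ι' F₀) : Matrix ι' ι' F₀) * P).map j * ((a⁻¹).1 * a.1) *
            (P' * ((h'.1 : GL ι' F₀) : Matrix ι' ι' F₀) * P).map j * (a⁻¹).1 := by
            simp only [Matrix.mul_assoc]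
        _ = _ := by
            rw [gl_inv_mul, Matrix.mul_one]
            simp only [Matrix.mul_assoc]
    rw [e1]
    congr 1
    have h1 := haL g'
    have h3 := haL h'
    field_simp
  have hmem : ∀ h : ↥(Cfsg.GU n F q),
      cU h ∈ Subgroup.centralizer {(cU g * fU (tauA hF) : MulAut (Cfsg.PSU n F q))} ↔
      ∃ c : F, h.1.1 * g.1.1 = c • (g.1.1 * h.1.1.map (tauA hF)) := by
    intro h
    rw [← Subgroup.mem_comap, mem_cent_comap, ← comm_gU_iff p hF hn]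
    exact eq_comm
  have hconj_scalar : ∀ (N : Matrix (Fin n) (Fin n) F) (ν : F),
      a.1 * N * (a⁻¹).1 = ν • (1 : Matrix (Fin n) (Fin n) F) → N = ν • 1 := by
    intro N ν h
    calc N = ((a⁻¹).1 * a.1) * N * ((a⁻¹).1 * a.1) := by
          rw [gl_inv_mul, Matrix.one_mul, Matrix.mul_one]
      _ = (a⁻¹).1 * (a.1 * N * (a⁻¹).1) * a.1 := by simp only [Matrix.mul_assoc]
      _ = ν • 1 := by
          rw [h, Matrix.mul_smul, Matrix.mul_one, Matrix.smul_mul, gl_inv_mul]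
  have hrange : Ψ.range = Cfsg.inndiagPSU n F q ⊓
      Subgroup.centralizer {(cU g * fU (tauA hF) : MulAut (Cfsg.PSU n F q))} := by
    apply le_antisymm
    · rintro _ ⟨g', rfl⟩
      rw [hΨa]
      refine Subgroup.mem_inf.mpr ⟨?_, ?_⟩
      · rw [inndiag_eq_range]; exact ⟨_, rfl⟩
      · rw [hmem]
        exact hLc g'
    · intro β hβ
      obtain ⟨hβ1, hβ2⟩ := Subgroup.mem_inf.mp hβ
      rw [inndiag_eq_range] at hβ1
      obtain ⟨h, rfl⟩ := hβ1
      obtain ⟨l, hl⟩ := (hmem h).mp hβ2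
      obtain ⟨c, k₀, c₀, hc0, hk₀, hc₀0, hhc, hk₀S, hc₀⟩ :=
        descend_cent hF j hj hn1 g a μ hμ0 ha ω hω0 S₀ hT h l hl
      have hmemH : conjGL P' P hP'P hPP' (glOfDet k₀ hk₀) ∈ H := by
        rw [hH]
        refine ⟨c₀, hc₀0, ?_⟩
        rw [conjGL_val, glOfDet_val, Matrix.transpose_mul, Matrix.transpose_mul]
        calc P'ᵀ * (k₀ᵀ * Pᵀ) * G' * (P * k₀ * P')
            = P'ᵀ * (k₀ᵀ * (Pᵀ * G' * P) * k₀) * P' := by simp only [Matrix.mul_assoc]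
          _ = c₀ • G' := by
              rw [← hS₀, hk₀S, hS₀, Matrix.mul_smul, Matrix.smul_mul]
              congr 1
              calc P'ᵀ * (Pᵀ * G' * P) * P' = (P'ᵀ * Pᵀ) * G' * (P * P') := by
                    simp only [Matrix.mul_assoc]
                _ = G' := by rw [hP'tPt, hPP', Matrix.one_mul, Matrix.mul_one]
      refine ⟨⟨conjGL P' P hP'P hPP' (glOfDet k₀ hk₀), hmemH⟩, ?_⟩
      rw [hΨa, cU_eq_iff p hF hn]
      refine ⟨aL ⟨conjGL P' P hP'P hPP' (glOfDet k₀ hk₀), hmemH⟩ / c, ?_⟩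
      rw [hL, hhc, smul_smul, div_mul_cancel₀ _ hc0]
      change _ • (a.1 * (P' * (P * (glOfDet k₀ hk₀).1 * P') * P).map j * (a⁻¹).1) = _
      have e2 : P' * (P * (glOfDet k₀ hk₀).1 * P') * P = k₀ := by
        rw [glOfDet_val]
        calc P' * (P * k₀ * P') * P = (P' * P) * k₀ * (P' * P) := by
              simp only [Matrix.mul_assoc]
          _ = _ := by rw [hP'P, Matrix.one_mul, Matrix.mul_one]
      rw [e2]
  have hker : Ψ.ker = (Cfsg.Geo.scalars ι' F₀).subgroupOf H := by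
    ext g'
    rw [MonoidHom.mem_ker, hΨa, Subgroup.mem_subgroupOf, Cfsg.Geo.mem_scalars_iff,
      cU_eq_one_iff p hF hn, hL]
    constructor
    · rintro ⟨μ', hμ'⟩
      let i0 : Fin n := ⟨0, by omega⟩
      obtain ⟨N₀, hN₀⟩ : ∃ N₀ : Matrix (Fin n) (Fin n) F₀,
          N₀ = P' * ((g'.1 : GL ι' F₀) : Matrix ι' ι' F₀) * P := ⟨_, rfl⟩
      rw [← hN₀] at hμ'
      have ha' := haL g'
      have hμ'' : a.1 * N₀.map j * (a⁻¹).1 = (μ' / aL g') • (1 : Matrix (Fin n) (Fin n) F) := by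
        have h1 := congrArg (fun M => (aL g')⁻¹ • M) hμ'
        simp only [smul_smul] at h1
        rw [inv_mul_cancel₀ ha', one_smul] at h1
        rw [h1]
        congr 1
        field_simp
      have hNj : N₀.map j = (μ' / aL g') • (1 : Matrix (Fin n) (Fin n) F) :=
        hconj_scalar _ _ hμ''
      have hμ0' : j (N₀ i0 i0) = μ' / aL g' := by
        have := congrFun (congrFun hNj i0) i0
        rw [Matrix.map_apply, Matrix.smul_apply, Matrix.one_apply, if_pos rfl, smul_eq_mul,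
          mul_one] at this
        exact this
      have hN : N₀ = (N₀ i0 i0) • (1 : Matrix (Fin n) (Fin n) F₀) := by
        apply hιinj
        simp only
        rw [hNj, map_smul_one, hμ0']
      obtain ⟨ν, hν⟩ : ∃ ν : F₀, ν = N₀ i0 i0 := ⟨_, rfl⟩
      rw [← hν] at hN hμ0'
      have hg' : ((g'.1 : GL ι' F₀) : Matrix ι' ι' F₀) = ν • 1 := by
        calc ((g'.1 : GL ι' F₀) : Matrix ι' ι' F₀)
            = (P * P') * ((g'.1 : GL ι' F₀) : Matrix ι' ι' F₀) * (P * P') := by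
              rw [hPP', Matrix.one_mul, Matrix.mul_one]
          _ = P * (P' * ((g'.1 : GL ι' F₀) : Matrix ι' ι' F₀) * P) * P' := by
              simp only [Matrix.mul_assoc]
          _ = ν • 1 := by
              rw [← hN₀, hN, Matrix.mul_smul, Matrix.mul_one, Matrix.smul_mul, hPP']
      have h0 : ν ≠ 0 := by
        intro h0
        rw [h0, zero_smul] at hg'
        have h1 := gl_mul_inv g'.1
        rw [hg', Matrix.zero_mul] at h1
        have h3 := congrArg (fun M => P' * M * P) h1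
        simp only [Matrix.mul_zero, Matrix.zero_mul, Matrix.mul_one, hP'P] at h3
        have := congrFun (congrFun h3 i0) i0
        simp at this
      exact ⟨Units.mk0 _ h0, hg'⟩
    · rintro ⟨c, hc⟩
      refine ⟨aL g' * j c, ?_⟩
      rw [hc, Matrix.mul_smul, Matrix.mul_one, Matrix.smul_mul, hP'P, map_smul_one,
        Matrix.mul_smul, Matrix.mul_one, Matrix.smul_mul, gl_mul_inv, smul_smul]
  have e1 : ↥H ⧸ Ψ.ker ≃* ↥Ψ.range := QuotientGroup.quotientKerEquivRange Ψ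
  have e2 : ↥Ψ.range ≃* ↥(Cfsg.inndiagPSU n F q ⊓
      Subgroup.centralizer {(cU g * fU (tauA hF) : MulAut (Cfsg.PSU n F q))}) :=
    MulEquiv.subgroupCongr hrange
  have e3 : Cfsg.projQuot H ≃* ↥H ⧸ Ψ.ker :=
    QuotientGroup.quotientMulEquivOfEq hker.symm
  exact ⟨(e3.trans (e1.trans e2)).symm⟩

end cent

end Cfsg.Agent.Lib.Helper16.GraphInvPSU
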