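import Mathlib
import Cfsg.Agent.Lib.Helper16.GraphInvPSU5

/-!
# Involutory graph automorphisms of `PSU_n(q)` (VI): representatives and conjugacy via forms
-/

set_option autoImplicit false
set_option linter.unusedSectionVars false
set_option linter.unusedVariables false
set_option linter.style.haveILetI false

namespace Cfsg.Agent.Lib.Helper16.GraphInvPSU

open Matrix Cfsg Cfsg.Agent.Lib.Helper6 Cfsg.Agent.Lib.Helper6.AutPSU
  Cfsg.Agent.Lib.Helper16.H90GL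
  Cfsg.Agent.Lib.Helper16.GraphFieldCoset Cfsg.Agent.Lib.Helper16.UnitaryDescent
  Cfsg.Agent.Lib.Helper16.FieldCosetPSU Cfsg.Agent.Lib.Helper16.SplitCount
  Cfsg.Agent.Lib.Helper16.FieldCentPSU Cfsg.Agent.Lib.Helper16.OrthClassify
  Cfsg.Agent.Lib.Helper16.GraphCentPSL Cfsg.Agent.Lib.Helper16.GraphCentPSU
open Cfsg.Agent.Lib.Helper6.AutPSL (sG sG_val gl_mul_inv gl_inv_mul)
open Cfsg.Agent.Lib.Helper16.FieldCentPSL (mem_cent_comap gl_ne_zero)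
open Cfsg.Agent.Lib.Helper16.FieldCoset (card_fin_ge scalar_eq_smul_one)
open Cfsg.Agent.Lib.Helper16.GraphInvPSL (glOfDet glOfDet_val exists_frame)

section setup
variable {F : Type*} [Field F] [Fintype F] {q : ℕ}

/-- the characteristic and the embedding of the fixed field -/
theorem exists_setup (hF : Fintype.card F = q ^ 2) (F₀ : Type*) [Field F₀] [Fintype F₀]
    (hF₀ : Fintype.card F₀ = q) :
    ∃ (p : ℕ) (_ : Fact p.Prime) (_ : CharP F p) (j : F₀ →+* F),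
      ∀ a : F, tauA hF a = a ↔ a ∈ Set.range j := by
  obtain ⟨p, hp, hcp⟩ := Cfsg.Agent.Lib.Helper6.AutOrt.exists_char F
  haveI : Fact p.Prime := ⟨hp⟩
  haveI := hcp
  obtain ⟨k, -, hk⟩ := FiniteField.card F p
  have hq2 : q ^ 2 = p ^ (k : ℕ) := by rw [← hF, hk]
  obtain ⟨i, -, hi⟩ := (Nat.dvd_prime_pow hp).mp (⟨q, by rw [← hq2]; ring⟩ : q ∣ p ^ (k : ℕ))
  have hki : (k : ℕ) = i * 2 := by
    rw [hi, ← pow_mul] at hq2
    exact (Nat.pow_right_injective hp.two_le hq2).symm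
  have hF2 : Fintype.card F = p ^ (i * 2) := by rw [hk, hki]
  obtain ⟨j, hj⟩ := exists_embedding hF2 (tauA hF) 2 (orderOf_tauA hF) (by norm_num) F₀
    (by rw [Nat.mul_div_cancel _ (by norm_num : 0 < 2), hF₀, hi])
  exact ⟨p, ⟨hp⟩, hcp, j, hj⟩

end setup

variable {F : Type*} [Field F] [Fintype F] {q n : ℕ}

section reps
variable (p : ℕ) [hp : Fact p.Prime] [CharP F p] (hF : Fintype.card F = q ^ 2) (hn : 3 ≤ n)
  {F₀ : Type*} [Field F₀] [Fintype F₀] (j : F₀ →+* F)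
  (hj : ∀ a : F, tauA hF a = a ↔ a ∈ Set.range j)
  {ι' : Type} [Fintype ι'] [DecidableEq ι']

include hp hn hj in
/-- a representative with a prescribed form, together with its centralizer -/
theorem rep_of_form (e : Fin n ≃ ι') (G' : Matrix ι' ι' F₀) (hdet : G'.det ≠ 0) (ε₀ : F₀)
    (hε₀ : ε₀ = 1 ∨ ε₀ = -1) (hG' : G'ᵀ = ε₀ • G') (ω : F) (hω0 : ω ≠ 0)
    (hω : tauA hF ω = j ε₀ * ω) (H : Subgroup (GL ι' F₀))
    (hH : ∀ k : GL ι' F₀, k ∈ H ↔ ∃ c : F₀, c ≠ 0 ∧ (k.1)ᵀ * G' * k.1 = c • G') :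
    ∃ (g : ↥(Cfsg.GU n F q)) (a : GL (Fin n) F) (μ : F), μ ≠ 0 ∧
      g.1.1 * g.1.1.map (tauA hF) = j ε₀ • (1 : Matrix (Fin n) (Fin n) F) ∧
      g.1.1 * a.1.map (tauA hF) = μ • a.1 ∧
      hs (tauA hF) a.1 * a.1 = ω • (G'.submatrix e e).map j ∧
      Nonempty (↥(Cfsg.inndiagPSU n F q ⊓
        Subgroup.centralizer {(cU g * fU (tauA hF) : MulAut (Cfsg.PSU n F q))}) ≃*
        Cfsg.projQuot H) := by
  have hdet' : (G'.submatrix e e).det ≠ 0 := by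
    rw [Matrix.det_submatrix_equiv_self]; exact hdet
  have hsym' : (G'.submatrix e e)ᵀ = ε₀ • G'.submatrix e e := by
    rw [Matrix.transpose_submatrix, hG']
    rfl
  obtain ⟨g, a, μ, hμ0, hgg, hga, hT⟩ :=
    exists_gU_of_form hF j hj (G'.submatrix e e) hdet' ε₀ hε₀ hsym' ω hω0 hω
  obtain ⟨P, P', hPP', hP'P, hP⟩ := exists_frame (F := F₀) e
  refine ⟨g, a, μ, hμ0, hgg, hga, hT, ?_⟩
  exact cent_gU_iso p hF hn j hj g a μ hμ0 hga ω hω0 G' P P' hPP' hP'P (by rw [hP]; exact hT) H hH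

include hp hn hj in
/-- similar forms give conjugate automorphisms -/
theorem conj_of_forms (g g' : ↥(Cfsg.GU n F q)) (a a' : GL (Fin n) F) (μ μ' : F)
    (hμ0 : μ ≠ 0) (hμ'0 : μ' ≠ 0)
    (ha : g.1.1 * a.1.map (tauA hF) = μ • a.1) (ha' : g'.1.1 * a'.1.map (tauA hF) = μ' • a'.1)
    (ω : F) (S S' : Matrix (Fin n) (Fin n) F₀)
    (hT : hs (tauA hF) a.1 * a.1 = ω • S.map j) (hT' : hs (tauA hF) a'.1 * a'.1 = ω • S'.map j)
    (k₀ : Matrix (Fin n) (Fin n) F₀) (hk₀ : k₀.det ≠ 0) (c₀ : F₀) (hc₀ : c₀ ≠ 0)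
    (hS : S = c₀ • (k₀ᵀ * S' * k₀)) :
    Cfsg.IsConjUnder (Cfsg.inndiagPSU n F q)
      (cU g' * fU (tauA hF) : MulAut (Cfsg.PSU n F q)) (cU g * fU (tauA hF)) := by
  refine conj_of_frames p hF hn j hj g g' a a' μ μ' hμ0 hμ'0 ha ha' k₀ hk₀ c₀ hc₀ ?_
  rw [hT, hT', hS, map_j_smul, Matrix.map_mul, Matrix.map_mul, Matrix.mul_smul, Matrix.smul_mul,
    smul_smul, smul_smul, mul_comm, Matrix.transpose_map]

include hp hn hj in
/-- conjugate automorphisms have similar forms -/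
theorem forms_of_conj (g g' : ↥(Cfsg.GU n F q)) (a a' : GL (Fin n) F) (μ μ' : F)
    (hμ0 : μ ≠ 0) (hμ'0 : μ' ≠ 0)
    (ha : g.1.1 * a.1.map (tauA hF) = μ • a.1) (ha' : g'.1.1 * a'.1.map (tauA hF) = μ' • a'.1)
    (ω ω' : F) (hω'0 : ω' ≠ 0) (S S' : Matrix (Fin n) (Fin n) F₀)
    (hT : hs (tauA hF) a.1 * a.1 = ω • S.map j) (hT' : hs (tauA hF) a'.1 * a'.1 = ω' • S'.map j)
    (hc : Cfsg.IsConjUnder (Cfsg.inndiagPSU n F q)
      (cU g * fU (tauA hF) : MulAut (Cfsg.PSU n F q)) (cU g' * fU (tauA hF))) :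
    ∃ (k₀ : Matrix (Fin n) (Fin n) F₀) (c₀ : F₀), k₀.det ≠ 0 ∧ c₀ ≠ 0 ∧
      S'.map j = (j c₀ * ω / ω') • (k₀ᵀ * S * k₀).map j := by
  obtain ⟨k₀, c₀, hk₀, hc₀, h⟩ :=
    frames_of_conj p hF hn j hj g g' a a' μ μ' hμ0 hμ'0 ha ha' hc
  refine ⟨k₀, c₀, hk₀, hc₀, ?_⟩
  rw [hT, hT'] at h
  have h2 := congrArg (fun M => ω'⁻¹ • M) h
  simp only [smul_smul] at h2
  rw [inv_mul_cancel₀ hω'0, one_smul] at h2
  rw [h2, Matrix.mul_smul, Matrix.smul_mul, smul_smul, Matrix.map_mul, Matrix.map_mul,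
    Matrix.transpose_map]
  congr 1
  field_simp

end reps

end Cfsg.Agent.Lib.Helper16.GraphInvPSU
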