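import Mathlib
import Cfsg.Agent.Lib.Helper16.GraphInvPSU6

/-!
# Involutory graph automorphisms of `PSU_n(q)`, `n` odd: one class
-/

set_option autoImplicit false
set_option linter.unusedSectionVars false
set_option linter.unusedVariables false
set_option linter.style.haveILetI false

namespace Cfsg.Agent.Lib.Helper16.GraphOddPSU

open Matrix Cfsg Cfsg.Agent.Lib.Helper6 Cfsg.Agent.Lib.Helper6.AutPSU
  Cfsg.Agent.Lib.Helper16.GraphFieldCoset
  Cfsg.Agent.Lib.Helper16.FieldCosetPSU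
  Cfsg.Agent.Lib.Helper16.OrthClassify
  Cfsg.Agent.Lib.Helper16.GraphCentPSL
  Cfsg.Agent.Lib.Helper16.GraphInvPSU Cfsg.Agent.Lib.Helper16.GraphOddPSL
  Cfsg.Agent.Lib.Helper16.Char2Orth Cfsg.Agent.Lib.Helper16.GraphInvC2
open Cfsg.Agent.Lib.Helper16.GraphInvPSL (glOfDet glOfDet_val exists_frame quadSim_iff)

section pure
variable {K : Type*} [Field K]

/-- two matrices congruent to the identity are congruent -/
theorem congr_of_congr_one {κ : Type*} [Fintype κ] [DecidableEq κ] (S S' k k' : Matrix κ κ K)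
    (hkd : k.det ≠ 0) (hk'd : k'.det ≠ 0) (hk : kᵀ * S * k = 1) (hk' : k'ᵀ * S' * k' = 1) :
    (k' * k⁻¹).det ≠ 0 ∧ S = (k' * k⁻¹)ᵀ * S' * (k' * k⁻¹) := by
  have hu : IsUnit k.det := isUnit_iff_ne_zero.mpr hkd
  have hu' : IsUnit kᵀ.det := by rw [Matrix.det_transpose]; exact hu
  constructor
  · rw [Matrix.det_mul]
    apply mul_ne_zero hk'd
    intro h0
    have h1 : k * k⁻¹ = 1 := Matrix.mul_nonsing_inv _ hu
    have h2' := congrArg Matrix.det h1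
    rw [Matrix.det_mul, h0, mul_zero, Matrix.det_one] at h2'
    exact zero_ne_one h2'
  · have hS : S = (kᵀ)⁻¹ * k⁻¹ := by
      calc S = ((kᵀ)⁻¹ * kᵀ) * S * (k * k⁻¹) := by
            rw [Matrix.nonsing_inv_mul _ hu', Matrix.mul_nonsing_inv _ hu, Matrix.one_mul,
              Matrix.mul_one]
        _ = (kᵀ)⁻¹ * (kᵀ * S * k) * k⁻¹ := by simp only [Matrix.mul_assoc]
        _ = (kᵀ)⁻¹ * k⁻¹ := by rw [hk, Matrix.mul_one]
    rw [hS, Matrix.transpose_mul, Matrix.transpose_nonsing_inv]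
    calc (kᵀ)⁻¹ * k⁻¹ = (kᵀ)⁻¹ * (k'ᵀ * S' * k') * k⁻¹ := by rw [hk', Matrix.mul_one]
      _ = (kᵀ)⁻¹ * k'ᵀ * S' * (k' * k⁻¹) := by simp only [Matrix.mul_assoc]

variable [Fintype K] {m : ℕ}

/-- in characteristic two the projective similarity group of `1 ⊕ J` is the projective conformal
orthogonal group of `x₀² + Σ xᵢ yᵢ` -/
theorem simGram_oddJ_iso [CharP K 2] :
    Nonempty (Cfsg.projQuot (simGram (gramOddJ (F := K) (m := m))) ≃*
      Cfsg.PGO K (Cfsg.quadFormOdd m K)) := by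
  obtain ⟨ψ₂⟩ := projQuot_iso_isometry (gramOddJ (F := K) (m := m)) gramOddJ_ne_zero
    (simGram gramOddJ) (oddEmb (F := K) (m := m)).range (mem_simGram _) mem_range_oddEmb
  obtain ⟨ψ₃⟩ := pgo_iso_isometry (F := K) (m := m)
  obtain ⟨ψ₄⟩ := Cfsg.Agent.Lib.Helper15.odd_orthogonal_equiv_symplectic (F := K) (m := m)
  exact ⟨ψ₂.trans ((MonoidHom.ofInjective oddEmb_injective).symm.trans
    (ψ₄.symm.trans ψ₃.symm))⟩

theorem gramOddJ_det_ne_zero : (gramOddJ (F := K) (m := m)).det ≠ 0 := by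
  intro h0
  have := congrArg Matrix.det (gramOddJ_mul_inv (F := K) (m := m))
  rw [Matrix.det_mul, h0, zero_mul, Matrix.det_one] at this
  exact zero_ne_one this

theorem gramOddJ_symm [CharP K 2] :
    (gramOddJ (F := K) (m := m))ᵀ = gramOddJ := by
  unfold gramOddJ
  rw [oddMat_transpose, Matrix.J_transpose, neg_eq_self_char2]

end pure

section main
variable {F : Type*} [Field F] [Fintype F] {q n m : ℕ}
variable (p : ℕ) [hp : Fact p.Prime] [CharP F p] (hF : Fintype.card F = q ^ 2) (hn : 3 ≤ n)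
  {F₀ : Type*} [Field F₀] [Fintype F₀] (j : F₀ →+* F)
  (hj : ∀ a : F, tauA hF a = a ↔ a ∈ Set.range j)

include hp hn hj in
/-- the odd characteristic case -/
theorem odd_char_case_U (h2 : (2 : F₀) ≠ 0) (hnm : n = 2 * m + 1) :
    ∃ γ₀ : MulAut (Cfsg.PSU n F q),
      Nonempty (↥(Cfsg.inndiagPSU n F q ⊓ Subgroup.centralizer {γ₀}) ≃*
        Cfsg.PGO F₀ (Cfsg.quadFormOdd m F₀)) ∧
      ∀ γ : MulAut (Cfsg.PSU n F q), Cfsg.IsGraphAutClassPSU γ → orderOf γ = 2 →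
        Cfsg.IsConjUnder (Cfsg.inndiagPSU n F q) γ₀ γ := by
  classical
  have hcard : Fintype.card (Unit ⊕ (Fin m ⊕ Fin m)) = n := by
    rw [Fintype.card_sum, Fintype.card_sum, Fintype.card_fin, Fintype.card_unit]; omega
  obtain ⟨e, -⟩ : ∃ e : Fin n ≃ Unit ⊕ (Fin m ⊕ Fin m), e = e :=
    ⟨(Fintype.equivFinOfCardEq hcard).symm, rfl⟩
  have hdet₀ : (gramOdd (F := F₀) m).det ≠ 0 := by
    rw [gramOdd_det]; exact gramPlus_det_ne_zero m h2
  have hodd : Odd (Fintype.card (Fin n)) := by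
    rw [Fintype.card_fin, hnm]; exact ⟨m, rfl⟩
  obtain ⟨g₀, a₀, μ₀, hμ₀0, hgg₀, hga₀, hT₀, ⟨ψ₀⟩⟩ := rep_of_form p hF hn j hj e
    (gramOdd (F := F₀) m) hdet₀ 1 (Or.inl rfl) (by rw [one_smul]; exact (gramOdd_symm m).eq) 1
    one_ne_zero (by rw [map_one, map_one, mul_one])
    (Cfsg.Geo.quadSimilarityGroup (F := F₀) (Cfsg.quadFormOdd m F₀))
    (quadSim_iff h2 _ (gramOdd m) (gramOdd_symm m) (gramOdd_apply m h2))
  refine ⟨cU g₀ * fU (tauA hF), ⟨ψ₀⟩, ?_⟩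
  intro γ hγ hγ2
  obtain ⟨g, rfl⟩ := graphAut_U p hF hn γ hγ hγ2
  obtain ⟨ε, hε, hgg⟩ := (orderOf_gU p hF hn g).mp hγ2
  have hS₀sym : ((gramOdd (F := F₀) m).submatrix e e).IsSymm := by
    rw [Matrix.IsSymm, Matrix.transpose_submatrix, (gramOdd_symm m).eq]
  have hS₀det : ((gramOdd (F := F₀) m).submatrix e e).det ≠ 0 := by
    rw [Matrix.det_submatrix_equiv_self]; exact hdet₀
  rcases hε with rfl | rfl
  · have hgg' : g.1.1 * g.1.1.map (tauA hF) = j 1 • (1 : Matrix (Fin n) (Fin n) F) := by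
      rw [map_one]; exact hgg
    obtain ⟨a, μ, S₁, hμ0, ha, hT, hS₁, hS₁det⟩ := exists_form hF j hj g 1 (Or.inl rfl) hgg' 1
      one_ne_zero (by rw [map_one, map_one, mul_one])
    rw [one_smul] at hS₁
    obtain ⟨k, c, hk, hc, hkc⟩ := symm_similar_odd h2 hodd _ S₁ hS₀sym hS₁ hS₀det hS₁det
    refine conj_of_forms p hF hn j hj g g₀ a a₀ μ μ₀ hμ0 hμ₀0 ha hga₀ 1 S₁ _ hT hT₀ k hk c⁻¹
      (inv_ne_zero hc) ?_
    rw [hkc, smul_smul, inv_mul_cancel₀ hc, one_smul]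
  · exfalso
    have hgg' : g.1.1 * g.1.1.map (tauA hF) = j (-1) • (1 : Matrix (Fin n) (Fin n) F) := by
      rw [map_neg, map_one]; exact hgg
    obtain ⟨ω, hω0, hω⟩ := exists_omega hF (-1 : F) (Or.inr rfl)
    obtain ⟨a, μ, S₁, hμ0, ha, hT, hS₁, hS₁det⟩ := exists_form hF j hj g (-1) (Or.inr rfl) hgg' ω
      hω0 (by rw [map_neg, map_one]; exact hω)
    have h3 := congrArg Matrix.det hS₁
    have h4 : (-1 : F₀) ^ n = -1 := by
      rw [hnm, pow_succ, pow_mul, neg_one_sq, one_pow, one_mul]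
    rw [Matrix.det_transpose, Matrix.det_smul, Fintype.card_fin, h4] at h3
    have h5 : (2 : F₀) * S₁.det = 0 := by linear_combination h3
    rcases mul_eq_zero.mp h5 with h | h
    · exact h2 h
    · exact hS₁det h

include hp hn hj in
/-- the characteristic two case -/
theorem even_char_case_U [CharP F₀ 2] (hnm : n = 2 * m + 1) :
    ∃ γ₀ : MulAut (Cfsg.PSU n F q),
      Nonempty (↥(Cfsg.inndiagPSU n F q ⊓ Subgroup.centralizer {γ₀}) ≃*
        Cfsg.PGO F₀ (Cfsg.quadFormOdd m F₀)) ∧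
      ∀ γ : MulAut (Cfsg.PSU n F q), Cfsg.IsGraphAutClassPSU γ → orderOf γ = 2 →
        Cfsg.IsConjUnder (Cfsg.inndiagPSU n F q) γ₀ γ := by
  classical
  have h20 : (2 : F₀) = 0 := by
    have := CharP.cast_eq_zero F₀ 2
    exact_mod_cast this
  have hneg : (-1 : F₀) = 1 := by linear_combination -h20
  have hcard : Fintype.card (Unit ⊕ (Fin m ⊕ Fin m)) = n := by
    rw [Fintype.card_sum, Fintype.card_sum, Fintype.card_fin, Fintype.card_unit]; omega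
  obtain ⟨e, -⟩ : ∃ e : Fin n ≃ Unit ⊕ (Fin m ⊕ Fin m), e = e :=
    ⟨(Fintype.equivFinOfCardEq hcard).symm, rfl⟩
  have hodd : Odd (Fintype.card (Fin n)) := by
    rw [Fintype.card_fin, hnm]; exact ⟨m, rfl⟩
  obtain ⟨g₀, a₀, μ₀, hμ₀0, hgg₀, hga₀, hT₀, ⟨ψ₀⟩⟩ := rep_of_form p hF hn j hj e
    (gramOddJ (F := F₀) (m := m)) gramOddJ_det_ne_zero 1 (Or.inl rfl)
    (by rw [one_smul]; exact gramOddJ_symm) 1
    one_ne_zero (by rw [map_one, map_one, mul_one])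
    (simGram (gramOddJ (F := F₀) (m := m))) (mem_simGram _)
  obtain ⟨ψ₁⟩ := simGram_oddJ_iso (K := F₀) (m := m)
  refine ⟨cU g₀ * fU (tauA hF), ⟨ψ₀.trans ψ₁⟩, ?_⟩
  intro γ hγ hγ2
  obtain ⟨g, rfl⟩ := graphAut_U p hF hn γ hγ hγ2
  obtain ⟨ε, hε, hgg⟩ := (orderOf_gU p hF hn g).mp hγ2
  have hε1 : ε = 1 := by
    rcases hε with h | h
    · exact h
    · have hnegF : (-1 : F) = 1 := by
        have := congrArg j hneg
        rwa [map_neg, map_one] at this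
      rw [h, hnegF]
  have hS₀sym : ((gramOddJ (F := F₀) (m := m)).submatrix e e)ᵀ =
      (gramOddJ (F := F₀) (m := m)).submatrix e e := by
    rw [Matrix.transpose_submatrix, gramOddJ_symm]
  have hS₀det : ((gramOddJ (F := F₀) (m := m)).submatrix e e).det ≠ 0 := by
    rw [Matrix.det_submatrix_equiv_self]; exact gramOddJ_det_ne_zero
  have hgg' : g.1.1 * g.1.1.map (tauA hF) = j 1 • (1 : Matrix (Fin n) (Fin n) F) := by
    rw [map_one, ← hε1]; exact hgg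
  obtain ⟨a, μ, S₁, hμ0, ha, hT, hS₁, hS₁det⟩ := exists_form hF j hj g 1 (Or.inl rfl) hgg' 1
    one_ne_zero (by rw [map_one, map_one, mul_one])
  rw [one_smul] at hS₁
  obtain ⟨k₁, hk₁d, hk₁⟩ := symm_congr_one_char2 S₁ hS₁ hS₁det (not_isAlt_of_odd hodd S₁ hS₁det)
  obtain ⟨k₀, hk₀d, hk₀⟩ := symm_congr_one_char2 _ hS₀sym hS₀det
    (not_isAlt_of_odd hodd _ hS₀det)
  obtain ⟨hkd, hkS⟩ := congr_of_congr_one S₁ _ k₁ k₀ hk₁d hk₀d hk₁ hk₀
  refine conj_of_forms p hF hn j hj g g₀ a a₀ μ μ₀ hμ0 hμ₀0 ha hga₀ 1 S₁ _ hT hT₀ _ hkd 1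
    one_ne_zero ?_
  rw [one_smul]
  exact hkS

end main

section final
variable {F : Type*} [Field F] [Fintype F]

/-- `PSU_n(q)`, `n` odd: all involutory graph automorphisms are conjugate under `Inndiag`, with
centralizer the projective conformal orthogonal group over the field with `q` elements -/
theorem main {q n m : ℕ} (hF : Fintype.card F = q ^ 2) (hn : 3 ≤ n) (hnm : n = 2 * m + 1)
    (F₀ : Type*) [Field F₀] [Fintype F₀] (hF₀ : Fintype.card F₀ = q)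
    (γ γ' : MulAut (Cfsg.PSU n F q)) (hγ : Cfsg.IsGraphAutClassPSU γ) (hγ2 : orderOf γ = 2)
    (hγ' : Cfsg.IsGraphAutClassPSU γ') (hγ'2 : orderOf γ' = 2) :
    Nonempty (↥(Cfsg.inndiagPSU n F q ⊓ Subgroup.centralizer {γ}) ≃*
      Cfsg.PGO F₀ (Cfsg.quadFormOdd m F₀)) ∧
      Cfsg.IsConjUnder (Cfsg.inndiagPSU n F q) γ γ' := by
  obtain ⟨p, hp, hcp, j, hj⟩ := exists_setup hF F₀ hF₀
  haveI := hp
  haveI := hcp
  have key : ∃ γ₀ : MulAut (Cfsg.PSU n F q),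
      Nonempty (↥(Cfsg.inndiagPSU n F q ⊓ Subgroup.centralizer {γ₀}) ≃*
        Cfsg.PGO F₀ (Cfsg.quadFormOdd m F₀)) ∧
      ∀ γ : MulAut (Cfsg.PSU n F q), Cfsg.IsGraphAutClassPSU γ → orderOf γ = 2 →
        Cfsg.IsConjUnder (Cfsg.inndiagPSU n F q) γ₀ γ := by
    by_cases hch : ringChar F₀ = 2
    · haveI : CharP F₀ 2 := ringChar.of_eq hch
      exact even_char_case_U p hF hn j hj hnm
    · exact odd_char_case_U p hF hn j hj (Ring.two_ne_zero hch) hnm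
  obtain ⟨γ₀, ⟨ψ₀⟩, hall⟩ := key
  have h1 := hall γ hγ hγ2
  have h1' := hall γ' hγ' hγ'2
  obtain ⟨ψ₁⟩ := cent_iso_of_isConjUnder _ γ₀ γ h1
  exact ⟨⟨ψ₁.trans ψ₀⟩, isConjUnder_of_common _ γ₀ γ γ' h1 h1'⟩

end final

end Cfsg.Agent.Lib.Helper16.GraphOddPSU
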