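import Mathlib
import Cfsg.Agent.Lib.Helper16.GraphOddPSU

/-!
# The three classes of involutory graph automorphisms of `PSU_n(q)`, `n` even, `q` odd
-/

set_option autoImplicit false
set_option linter.unusedSectionVars false
set_option linter.unusedVariables false
set_option linter.style.haveILetI false

namespace Cfsg.Agent.Lib.Helper16.GraphEvenPSU

open Matrix Cfsg Cfsg.Agent.Lib.Helper6 Cfsg.Agent.Lib.Helper6.AutPSU
  Cfsg.Agent.Lib.Helper16.GraphFieldCoset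
  Cfsg.Agent.Lib.Helper16.FieldCosetPSU
  Cfsg.Agent.Lib.Helper16.OrthClassify
  Cfsg.Agent.Lib.Helper16.GraphCentPSL
  Cfsg.Agent.Lib.Helper16.GraphInvPSU Cfsg.Agent.Lib.Helper16.GraphOddPSL
  Cfsg.Agent.Lib.Helper16.Char2Orth Cfsg.Agent.Lib.Helper16.GraphInvC2
  Cfsg.Agent.Lib.Helper16.GraphOddPSU
open Cfsg.Agent.Lib.Helper16.GraphInvPSL (glOfDet glOfDet_val exists_frame quadSim_iff
  symm_congr_of_det isSquare_or gramMinusB gramMinusB_symm gramMinusB_apply gramMinusB_det)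

section pure
variable {K : Type*} [Field K] {n m : ℕ}

/-- a non-degenerate alternating matrix is congruent to the standard one -/
theorem alt_congr_J (e : Fin n ≃ Fin m ⊕ Fin m) (S : Matrix (Fin n) (Fin n) K)
    (hdet : S.det ≠ 0) (halt : IsAlt S) :
    ∃ k : Matrix (Fin n) (Fin n) K, k.det ≠ 0 ∧
      S = kᵀ * (Matrix.J (Fin m) K).submatrix e e * k := by
  obtain ⟨A, hA⟩ : ∃ A : Matrix (Fin m ⊕ Fin m) (Fin m ⊕ Fin m) K,
      A = S.submatrix e.symm e.symm := ⟨_, rfl⟩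
  obtain ⟨A', hA'⟩ : ∃ A' : Matrix (Fin m ⊕ Fin m) (Fin m ⊕ Fin m) K,
      A' = S⁻¹.submatrix e.symm e.symm := ⟨_, rfl⟩
  have hAA' : A * A' = 1 := by
    rw [hA, hA', Matrix.submatrix_mul_equiv, Matrix.mul_nonsing_inv _ (isUnit_iff_ne_zero.mpr hdet),
      Matrix.submatrix_one_equiv]
  have halt' : ∀ x : Fin m ⊕ Fin m → K, x ⬝ᵥ (A *ᵥ x) = 0 := by
    rw [hA]
    exact isAlt_submatrix S e.symm halt
  obtain ⟨d, d', hdd', hJ⟩ := Cfsg.Agent.Lib.Helper16.SympDescent.alt_congr A A' hAA' halt'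
  have hd'd : d' * d = 1 := mul_eq_one_comm.mp hdd'
  have hAJ : A = d'ᵀ * Matrix.J (Fin m) K * d' := by
    rw [← hJ]
    calc A = (d'ᵀ * dᵀ) * A * (d * d') := by
          rw [← Matrix.transpose_mul, hdd', Matrix.transpose_one, Matrix.one_mul, Matrix.mul_one]
      _ = d'ᵀ * (dᵀ * A * d) * d' := by simp only [Matrix.mul_assoc]
  refine ⟨d'.submatrix e e, ?_, ?_⟩
  · rw [Matrix.det_submatrix_equiv_self]
    intro h0
    have := congrArg Matrix.det hdd'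
    rw [Matrix.det_mul, h0, mul_zero, Matrix.det_one] at this
    exact zero_ne_one this
  · have hSA : S = A.submatrix e e := by
      rw [hA, Matrix.submatrix_submatrix]
      simp
    rw [hSA, hAJ, Matrix.transpose_submatrix, Matrix.submatrix_mul_equiv,
      Matrix.submatrix_mul_equiv]

theorem mem_gsp_iff' (k : GL (Fin m ⊕ Fin m) K) :
    k ∈ Cfsg.GSp m K ↔ ∃ c : K, c ≠ 0 ∧ (k.1)ᵀ * Matrix.J (Fin m) K * k.1 =
      c • Matrix.J (Fin m) K := by
  constructor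
  · intro hk
    exact Cfsg.Agent.Lib.Helper16.SympDescent.gsp_mat k hk
  · rintro ⟨c, hc0, hc⟩
    obtain ⟨k', hk', hkk'⟩ := Cfsg.Agent.Lib.Helper16.SympDescent.mem_gsp_of_mat k.1 (k⁻¹).1
      (Cfsg.Agent.Lib.Helper6.AutPSL.gl_mul_inv k) c hc0 hc
    have : k' = k := Units.ext hkk'
    rw [← this]
    exact hk'

/-- a skew-symmetric matrix is alternating in odd characteristic -/
theorem isAlt_of_skew (h2 : (2 : K) ≠ 0) {κ : Type*} [Fintype κ] (S : Matrix κ κ K)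
    (hS : Sᵀ = -S) : IsAlt S := by
  intro x
  have h1 : x ⬝ᵥ (S *ᵥ x) = x ⬝ᵥ (Sᵀ *ᵥ x) := by
    rw [Matrix.mulVec_transpose, Matrix.dotProduct_mulVec, dotProduct_comm]
  rw [hS, Matrix.neg_mulVec, dotProduct_neg] at h1
  have h3 : (2 : K) * (x ⬝ᵥ (S *ᵥ x)) = 0 := by linear_combination h1
  exact (mul_eq_zero.mp h3).resolve_left h2

end pure

end Cfsg.Agent.Lib.Helper16.GraphEvenPSU

namespace Cfsg.Agent.Lib.Helper16.GraphEvenPSU

open Matrix Cfsg Cfsg.Agent.Lib.Helper6 Cfsg.Agent.Lib.Helper6.AutPSU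
  Cfsg.Agent.Lib.Helper16.GraphFieldCoset
  Cfsg.Agent.Lib.Helper16.FieldCosetPSU
  Cfsg.Agent.Lib.Helper16.OrthClassify
  Cfsg.Agent.Lib.Helper16.GraphCentPSL
  Cfsg.Agent.Lib.Helper16.GraphInvPSU Cfsg.Agent.Lib.Helper16.GraphOddPSL
  Cfsg.Agent.Lib.Helper16.Char2Orth Cfsg.Agent.Lib.Helper16.GraphInvC2
  Cfsg.Agent.Lib.Helper16.GraphOddPSU
open Cfsg.Agent.Lib.Helper16.GraphInvPSL (glOfDet glOfDet_val exists_frame quadSim_iff
  symm_congr_of_det isSquare_or gramMinusB gramMinusB_symm gramMinusB_apply gramMinusB_det)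

section nonconj
variable {F : Type*} [Field F] [Fintype F] {q n : ℕ}
variable (p : ℕ) [hp : Fact p.Prime] [CharP F p] (hF : Fintype.card F = q ^ 2) (hn : 3 ≤ n)
  {F₀ : Type*} [Field F₀] [Fintype F₀] (j : F₀ →+* F)
  (hj : ∀ a : F, tauA hF a = a ↔ a ∈ Set.range j)

include hp hn hj in
/-- conjugate automorphisms with forms for the same scalar have similar forms -/
theorem form_sim_of_conj (g g' : ↥(Cfsg.GU n F q)) (a a' : GL (Fin n) F) (μ μ' : F)
    (hμ0 : μ ≠ 0) (hμ'0 : μ' ≠ 0)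
    (ha : g.1.1 * a.1.map (tauA hF) = μ • a.1) (ha' : g'.1.1 * a'.1.map (tauA hF) = μ' • a'.1)
    (ω : F) (hω0 : ω ≠ 0) (S S' : Matrix (Fin n) (Fin n) F₀)
    (hT : hs (tauA hF) a.1 * a.1 = ω • S.map j) (hT' : hs (tauA hF) a'.1 * a'.1 = ω • S'.map j)
    (hc : Cfsg.IsConjUnder (Cfsg.inndiagPSU n F q)
      (cU g * fU (tauA hF) : MulAut (Cfsg.PSU n F q)) (cU g' * fU (tauA hF))) :
    ∃ (k₀ : Matrix (Fin n) (Fin n) F₀) (c₀ : F₀), k₀.det ≠ 0 ∧ c₀ ≠ 0 ∧
      S' = c₀ • (k₀ᵀ * S * k₀) := by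
  obtain ⟨k₀, c₀, hk₀, hc₀, h⟩ := forms_of_conj p hF hn j hj g g' a a' μ μ' hμ0 hμ'0 ha ha' ω ω
    hω0 S S' hT hT' hc
  refine ⟨k₀, c₀, hk₀, hc₀, ?_⟩
  apply Matrix.map_injective (RingHom.injective j)
  change S'.map j = (c₀ • (k₀ᵀ * S * k₀)).map j
  rw [h, map_j_smul, mul_div_assoc, div_self hω0, mul_one]

include hp hn hj in
/-- a skew form and a symmetric form give non-conjugate automorphisms -/
theorem not_conj_skew_symm_U (h2 : (2 : F₀) ≠ 0) (g g' : ↥(Cfsg.GU n F q)) (a a' : GL (Fin n) F)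
    (μ μ' : F) (hμ0 : μ ≠ 0) (hμ'0 : μ' ≠ 0)
    (ha : g.1.1 * a.1.map (tauA hF) = μ • a.1) (ha' : g'.1.1 * a'.1.map (tauA hF) = μ' • a'.1)
    (ω ω' : F) (hω'0 : ω' ≠ 0) (S S' : Matrix (Fin n) (Fin n) F₀)
    (hT : hs (tauA hF) a.1 * a.1 = ω • S.map j) (hT' : hs (tauA hF) a'.1 * a'.1 = ω' • S'.map j)
    (hS : Sᵀ = -S) (hS' : S'ᵀ = S') (hS'det : S'.det ≠ 0) :
    ¬ Cfsg.IsConjUnder (Cfsg.inndiagPSU n F q)
      (cU g * fU (tauA hF) : MulAut (Cfsg.PSU n F q)) (cU g' * fU (tauA hF)) := by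
  intro hc
  obtain ⟨k₀, c₀, hk₀, hc₀, h⟩ := forms_of_conj p hF hn j hj g g' a a' μ μ' hμ0 hμ'0 ha ha' ω ω'
    hω'0 S S' hT hT' hc
  obtain ⟨X, hX⟩ : ∃ X : Matrix (Fin n) (Fin n) F₀, X = k₀ᵀ * S * k₀ := ⟨_, rfl⟩
  have hXt : Xᵀ = -X := by
    rw [hX, Matrix.transpose_mul, Matrix.transpose_mul, Matrix.transpose_transpose, hS,
      Matrix.neg_mul, Matrix.mul_neg, Matrix.mul_assoc]
  rw [← hX] at h
  have h2F : (2 : F) ≠ 0 := by
    have := (map_ne_zero j).mpr h2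
    rwa [map_ofNat] at this
  have hzero : S' = 0 := by
    ext s t
    have e1 := congrFun (congrFun h s) t
    have e2 := congrFun (congrFun h t) s
    rw [Matrix.map_apply, Matrix.smul_apply, Matrix.map_apply, smul_eq_mul] at e1 e2
    have e3 : S' t s = S' s t := by
      have := congrFun (congrFun hS' s) t
      rwa [Matrix.transpose_apply] at this
    have e4 : X t s = -X s t := by
      have := congrFun (congrFun hXt s) t
      rwa [Matrix.transpose_apply, Matrix.neg_apply] at this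
    rw [e3, e4, map_neg] at e2
    have e5 : (2 : F) * j (S' s t) = 0 := by linear_combination e1 + e2
    have e6 : j (S' s t) = 0 := (mul_eq_zero.mp e5).resolve_left h2F
    rw [Matrix.zero_apply]
    exact (map_eq_zero j).mp e6
  apply hS'det
  rw [hzero]
  haveI : Nonempty (Fin n) := ⟨⟨0, by omega⟩⟩
  exact Matrix.det_zero

end nonconj

end Cfsg.Agent.Lib.Helper16.GraphEvenPSU
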