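import Mathlib
import Cfsg.Agent.Lib.Helper16.GraphEvenPSU

/-!
# The three classes of involutory graph automorphisms of `PSU_n(q)`, `n` even, `q` odd: main
-/

set_option autoImplicit false
set_option linter.unusedSectionVars false
set_option linter.unusedVariables false
set_option linter.style.haveILetI false

namespace Cfsg.Agent.Lib.Helper16.GraphEvenPSU

open Matrix Cfsg Cfsg.Agent.Lib.Helper6 Cfsg.Agent.Lib.Helper6.AutPSU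
  Cfsg.Agent.Lib.Helper16.GraphFieldCoset
  Cfsg.Agent.Lib.Helper16.FieldCosetPSU
  Cfsg.Agent.Lib.Helper16.OrthClassify
  Cfsg.Agent.Lib.Helper16.GraphCentPSL
  Cfsg.Agent.Lib.Helper16.GraphInvPSU Cfsg.Agent.Lib.Helper16.GraphOddPSL
  Cfsg.Agent.Lib.Helper16.Char2Orth Cfsg.Agent.Lib.Helper16.GraphInvC2
  Cfsg.Agent.Lib.Helper16.GraphOddPSU
open Cfsg.Agent.Lib.Helper16.GraphInvPSL (glOfDet glOfDet_val exists_frame quadSim_iff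
  symm_congr_of_det isSquare_or gramMinusB gramMinusB_symm gramMinusB_apply gramMinusB_det)

section main
variable {F : Type*} [Field F] [Fintype F]

set_option maxHeartbeats 1000000 in
/-- the three classes of involutory graph automorphisms of `PSU_n(q)`, `n` even, `q` odd -/
theorem main {q : ℕ} (hodd : Odd q) (hF : Fintype.card F = q ^ 2) {n m : ℕ} (hm : 2 ≤ m)
    (hnm : n = 2 * m) (F₀ : Type*) [Field F₀] [Fintype F₀] (hF₀ : Fintype.card F₀ = q) :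
    ∃ (γ₁ γ₂ γ₃ : MulAut (Cfsg.PSU n F q)) (a b : F₀),
      (∀ z₁ z₂ : F₀, z₁ ^ 2 + a * z₁ * z₂ + b * z₂ ^ 2 = 0 → z₁ = 0 ∧ z₂ = 0) ∧
      Cfsg.IsGraphAutClassPSU γ₁ ∧ orderOf γ₁ = 2 ∧ Cfsg.IsGraphAutClassPSU γ₂ ∧
      orderOf γ₂ = 2 ∧ Cfsg.IsGraphAutClassPSU γ₃ ∧ orderOf γ₃ = 2 ∧
      ¬ Cfsg.IsConjUnder (Cfsg.inndiagPSU n F q) γ₁ γ₂ ∧
      ¬ Cfsg.IsConjUnder (Cfsg.inndiagPSU n F q) γ₁ γ₃ ∧
      ¬ Cfsg.IsConjUnder (Cfsg.inndiagPSU n F q) γ₂ γ₃ ∧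
      (∀ γ : MulAut (Cfsg.PSU n F q), Cfsg.IsGraphAutClassPSU γ → orderOf γ = 2 →
          Cfsg.IsConjUnder (Cfsg.inndiagPSU n F q) γ₁ γ ∨
          Cfsg.IsConjUnder (Cfsg.inndiagPSU n F q) γ₂ γ ∨
          Cfsg.IsConjUnder (Cfsg.inndiagPSU n F q) γ₃ γ) ∧
      Nonempty (↥(Cfsg.inndiagPSU n F q ⊓ Subgroup.centralizer {γ₁}) ≃* Cfsg.PGSp m F₀) ∧
      Nonempty (↥(Cfsg.inndiagPSU n F q ⊓ Subgroup.centralizer {γ₂}) ≃*
        Cfsg.PGO F₀ (Cfsg.quadFormPlus m F₀)) ∧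
      Nonempty (↥(Cfsg.inndiagPSU n F q ⊓ Subgroup.centralizer {γ₃}) ≃*
        Cfsg.PGO F₀ (Cfsg.quadFormMinus (m - 1) F₀ a b)) := by
  classical
  obtain ⟨p, hp, hcp, j, hj⟩ := exists_setup hF F₀ hF₀
  haveI := hp
  haveI := hcp
  have hn3 : 3 ≤ n := by omega
  have hch : ringChar F₀ ≠ 2 := by
    intro h
    have := FiniteField.even_card_of_char_two h
    rw [← Nat.even_iff, hF₀] at this
    exact (Nat.not_even_iff_odd.mpr hodd) this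
  have h2 : (2 : F₀) ≠ 0 := Ring.two_ne_zero hch
  obtain ⟨α, hα⟩ := FiniteField.exists_nonsquare hch
  have hα0 : α ≠ 0 := by
    rintro rfl
    exact hα ⟨0, by simp⟩
  -- the reindexings
  have hcard₁ : Fintype.card (Fin m ⊕ Fin m) = n := by
    rw [Fintype.card_sum, Fintype.card_fin]; omega
  have hcard₃ : Fintype.card ((Fin (m - 1) ⊕ Fin (m - 1)) ⊕ Fin 2) = n := by
    rw [Fintype.card_sum, Fintype.card_sum, Fintype.card_fin, Fintype.card_fin]; omega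
  obtain ⟨e₁, -⟩ : ∃ e₁ : Fin n ≃ Fin m ⊕ Fin m, e₁ = e₁ :=
    ⟨(Fintype.equivFinOfCardEq hcard₁).symm, rfl⟩
  obtain ⟨e₃, -⟩ : ∃ e₃ : Fin n ≃ (Fin (m - 1) ⊕ Fin (m - 1)) ⊕ Fin 2, e₃ = e₃ :=
    ⟨(Fintype.equivFinOfCardEq hcard₃).symm, rfl⟩
  -- the Gram matrices
  have hdet₁ : (Matrix.J (Fin m) F₀).det ≠ 0 := by
    intro h0
    have := congrArg Matrix.det (Cfsg.Agent.Lib.Helper16.GraphInvPSL.J_mul_neg_J (F := F₀) m)
    rw [Matrix.det_mul, h0, zero_mul, Matrix.det_one] at this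
    exact zero_ne_one this
  have hdet₂ : (gramPlus (F := F₀) m).det ≠ 0 := gramPlus_det_ne_zero m h2
  have hdet₃ : (gramMinusB (F := F₀) (m - 1) (-α)).det ≠ 0 := by
    rw [gramMinusB_det]
    exact mul_ne_zero (gramPlus_det_ne_zero (m - 1) h2) (neg_ne_zero.mpr hα0)
  obtain ⟨ω, hω0, hω⟩ := exists_omega hF (-1 : F) (Or.inr rfl)
  have hω' : tauA hF ω = j (-1) * ω := by rw [map_neg, map_one]; exact hω
  have hone : tauA hF (1 : F) = j 1 * 1 := by rw [map_one, map_one, mul_one]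
  obtain ⟨g₁, a₁, μ₁, hμ₁0, hgg₁, hga₁, hT₁, ⟨ψ₁⟩⟩ := rep_of_form p hF hn3 j hj e₁
    (Matrix.J (Fin m) F₀) hdet₁ (-1) (Or.inr rfl)
    (by rw [Matrix.J_transpose, neg_smul, one_smul]) ω hω0 hω'
    (Cfsg.GSp m F₀) mem_gsp_iff'
  obtain ⟨g₂, a₂, μ₂, hμ₂0, hgg₂, hga₂, hT₂, ⟨ψ₂⟩⟩ := rep_of_form p hF hn3 j hj e₁
    (gramPlus (F := F₀) m) hdet₂ 1 (Or.inl rfl) (by rw [one_smul]; exact (gramPlus_symm m).eq) 1
    one_ne_zero hone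
    (Cfsg.Geo.quadSimilarityGroup (F := F₀) (Cfsg.quadFormPlus m F₀))
    (quadSim_iff h2 _ (gramPlus m) (gramPlus_symm m) (gramPlus_apply m h2))
  obtain ⟨g₃, a₃, μ₃, hμ₃0, hgg₃, hga₃, hT₃, ⟨ψ₃⟩⟩ := rep_of_form p hF hn3 j hj e₃
    (gramMinusB (F := F₀) (m - 1) (-α)) hdet₃ 1 (Or.inl rfl)
    (by rw [one_smul]; exact (gramMinusB_symm (m - 1) (-α)).eq) 1
    one_ne_zero hone
    (Cfsg.Geo.quadSimilarityGroup (F := F₀) (Cfsg.quadFormMinus (m - 1) F₀ 0 (-α)))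
    (quadSim_iff h2 _ (gramMinusB (m - 1) (-α)) (gramMinusB_symm (m - 1) (-α))
      (gramMinusB_apply (m - 1) h2 (-α)))
  -- the forms
  obtain ⟨S₁, hS₁⟩ : ∃ S₁ : Matrix (Fin n) (Fin n) F₀,
      S₁ = (Matrix.J (Fin m) F₀).submatrix e₁ e₁ := ⟨_, rfl⟩
  obtain ⟨S₂, hS₂⟩ : ∃ S₂ : Matrix (Fin n) (Fin n) F₀,
      S₂ = (gramPlus (F := F₀) m).submatrix e₁ e₁ := ⟨_, rfl⟩
  obtain ⟨S₃, hS₃⟩ : ∃ S₃ : Matrix (Fin n) (Fin n) F₀,
      S₃ = (gramMinusB (F := F₀) (m - 1) (-α)).submatrix e₃ e₃ := ⟨_, rfl⟩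
  rw [← hS₁] at hT₁
  rw [← hS₂] at hT₂
  rw [← hS₃] at hT₃
  have hS₁t : S₁ᵀ = -S₁ := by
    rw [hS₁, Matrix.transpose_submatrix, Matrix.J_transpose]
    rfl
  have hS₂t : S₂ᵀ = S₂ := by
    rw [hS₂, Matrix.transpose_submatrix, (gramPlus_symm m).eq]
  have hS₃t : S₃ᵀ = S₃ := by
    rw [hS₃, Matrix.transpose_submatrix, (gramMinusB_symm (m - 1) (-α)).eq]
  have hS₂d : S₂.det = (gramPlus (F := F₀) m).det := by
    rw [hS₂, Matrix.det_submatrix_equiv_self]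
  have hS₃d : S₃.det = (gramMinusB (F := F₀) (m - 1) (-α)).det := by
    rw [hS₃, Matrix.det_submatrix_equiv_self]
  have hS₂d0 : S₂.det ≠ 0 := by rw [hS₂d]; exact hdet₂
  have hS₃d0 : S₃.det ≠ 0 := by rw [hS₃d]; exact hdet₃
  -- the discriminants differ
  have hns : ¬ IsSquare (S₂.det * S₃.det) := by
    rintro ⟨t, ht⟩
    apply hα
    obtain ⟨w, hw⟩ : ∃ w : F₀, w = (-1) ^ (m - 1) * ((2 : F₀)⁻¹ ^ m * (2 : F₀)⁻¹ ^ (m - 1)) :=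
      ⟨_, rfl⟩
    have hprod : (gramPlus (F := F₀) m).det * (gramMinusB (F := F₀) (m - 1) (-α)).det =
        α * (w * w) := by
      rw [gramMinusB_det, gramPlus_det, gramPlus_det, hw]
      have hm1 : (-1 : F₀) ^ m = (-1) ^ (m - 1) * (-1) := by
        rw [← pow_succ]
        congr 1
        omega
      rw [hm1]
      ring
    rw [hS₂d, hS₃d, hprod] at ht
    have hw0 : w ≠ 0 := by
      rw [hw]
      exact mul_ne_zero (pow_ne_zero _ (by norm_num))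
        (mul_ne_zero (pow_ne_zero _ (inv_ne_zero h2)) (pow_ne_zero _ (inv_ne_zero h2)))
    refine ⟨t / w, ?_⟩
    field_simp
    linear_combination ht
  have hord : ∀ (g : ↥(Cfsg.GU n F q)) (ε₀ : F₀),
      g.1.1 * g.1.1.map (tauA hF) = j ε₀ • (1 : Matrix (Fin n) (Fin n) F) →
      (ε₀ = 1 ∨ ε₀ = -1) → orderOf (cU g * fU (tauA hF) : MulAut (Cfsg.PSU n F q)) = 2 := by
    intro g ε₀ hgg hε₀
    refine (orderOf_gU p hF hn3 g).mpr ⟨j ε₀, ?_, hgg⟩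
    rcases hε₀ with rfl | rfl
    · left; exact map_one j
    · right; rw [map_neg, map_one]
  refine ⟨cU g₁ * fU (tauA hF), cU g₂ * fU (tauA hF), cU g₃ * fU (tauA hF), 0, -α,
    ?_, ?_, ?_, ?_, ?_, ?_, ?_, ?_, ?_, ?_, ?_, ?_, ?_, ?_⟩
  · intro z₁ z₂ h
    by_cases hz : z₂ = 0
    · rw [hz] at h
      refine ⟨?_, hz⟩
      have : z₁ ^ 2 = 0 := by linear_combination h
      exact pow_eq_zero_iff (by norm_num) |>.mp this
    · exfalso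
      apply hα
      refine ⟨z₁ / z₂, ?_⟩
      field_simp
      linear_combination -h
  · exact isGraphAut_gU hF hn3 g₁
  · exact hord g₁ (-1) hgg₁ (Or.inr rfl)
  · exact isGraphAut_gU hF hn3 g₂
  · exact hord g₂ 1 hgg₂ (Or.inl rfl)
  · exact isGraphAut_gU hF hn3 g₃
  · exact hord g₃ 1 hgg₃ (Or.inl rfl)
  · exact not_conj_skew_symm_U p hF hn3 j hj h2 g₁ g₂ a₁ a₂ μ₁ μ₂ hμ₁0 hμ₂0 hga₁ hga₂ ω 1
      one_ne_zero S₁ S₂ hT₁ hT₂ hS₁t hS₂t hS₂d0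
  · exact not_conj_skew_symm_U p hF hn3 j hj h2 g₁ g₃ a₁ a₃ μ₁ μ₃ hμ₁0 hμ₃0 hga₁ hga₃ ω 1
      one_ne_zero S₁ S₃ hT₁ hT₃ hS₁t hS₃t hS₃d0
  · intro hc
    obtain ⟨k₀, c₀, hk₀, hc₀, hS⟩ := form_sim_of_conj p hF hn3 j hj g₂ g₃ a₂ a₃ μ₂ μ₃ hμ₂0 hμ₃0
      hga₂ hga₃ 1 one_ne_zero S₂ S₃ hT₂ hT₃ hc
    apply hns
    refine ⟨c₀ ^ m * k₀.det * S₂.det, ?_⟩
    rw [hS, Matrix.det_smul, Matrix.det_mul, Matrix.det_mul, Matrix.det_transpose,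
      Fintype.card_fin]
    have hp' : c₀ ^ n = c₀ ^ m * c₀ ^ m := by rw [hnm, two_mul, pow_add]
    rw [hp']
    ring
  · intro γ hγ hγ2
    obtain ⟨g, rfl⟩ := graphAut_U p hF hn3 γ hγ hγ2
    obtain ⟨ε, hε, hgg⟩ := (orderOf_gU p hF hn3 g).mp hγ2
    rcases hε with rfl | rfl
    · right
      have hgg' : g.1.1 * g.1.1.map (tauA hF) = j 1 • (1 : Matrix (Fin n) (Fin n) F) := by
        rw [map_one]; exact hgg
      obtain ⟨a, μ, S, hμ0, ha, hT, hSt, hSdet⟩ := exists_form hF j hj g 1 (Or.inl rfl) hgg' 1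
        one_ne_zero hone
      rw [one_smul] at hSt
      rcases isSquare_or h2 S.det S₂.det S₃.det hSdet hns with hsq | hsq
      · left
        obtain ⟨k, hk, hkS⟩ := symm_congr_of_det h2 ⟨⟨0, by omega⟩⟩ S₂ S hS₂t hSt hS₂d0 hSdet
          (by rw [mul_comm]; exact hsq)
        refine conj_of_forms p hF hn3 j hj g g₂ a a₂ μ μ₂ hμ0 hμ₂0 ha hga₂ 1 S S₂ hT hT₂ k hk 1
          one_ne_zero ?_
        rw [one_smul, hkS]
      · right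
        obtain ⟨k, hk, hkS⟩ := symm_congr_of_det h2 ⟨⟨0, by omega⟩⟩ S₃ S hS₃t hSt hS₃d0 hSdet
          (by rw [mul_comm]; exact hsq)
        refine conj_of_forms p hF hn3 j hj g g₃ a a₃ μ μ₃ hμ0 hμ₃0 ha hga₃ 1 S S₃ hT hT₃ k hk 1
          one_ne_zero ?_
        rw [one_smul, hkS]
    · left
      have hgg' : g.1.1 * g.1.1.map (tauA hF) = j (-1) • (1 : Matrix (Fin n) (Fin n) F) := by
        rw [map_neg, map_one]; exact hgg
      obtain ⟨a, μ, S, hμ0, ha, hT, hSt, hSdet⟩ := exists_form hF j hj g (-1) (Or.inr rfl) hgg' ω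
        hω0 hω'
      rw [neg_smul, one_smul] at hSt
      obtain ⟨k, hk, hkS⟩ := alt_congr_J e₁ S hSdet (isAlt_of_skew h2 S hSt)
      refine conj_of_forms p hF hn3 j hj g g₁ a a₁ μ μ₁ hμ0 hμ₁0 ha hga₁ ω S S₁ hT hT₁ k hk 1
        one_ne_zero ?_
      rw [one_smul, hS₁, hkS]
  · exact ⟨ψ₁⟩
  · exact ⟨ψ₂⟩
  · exact ⟨ψ₃⟩

end main

end Cfsg.Agent.Lib.Helper16.GraphEvenPSU
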