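import Mathlib
import Cfsg.Agent.Lib.Helper16.GraphEvenPSU2

/-!
# The two classes of involutory graph automorphisms of `PSU_n(q)`, `n` even, `q` even
-/

set_option autoImplicit false
set_option linter.unusedSectionVars false
set_option linter.unusedVariables false
set_option linter.style.haveILetI false

namespace Cfsg.Agent.Lib.Helper16.GraphC2PSU

open Matrix Cfsg Cfsg.Agent.Lib.Helper6 Cfsg.Agent.Lib.Helper6.AutPSU
  Cfsg.Agent.Lib.Helper16.GraphFieldCoset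
  Cfsg.Agent.Lib.Helper16.FieldCosetPSU
  Cfsg.Agent.Lib.Helper16.OrthClassify
  Cfsg.Agent.Lib.Helper16.GraphCentPSL
  Cfsg.Agent.Lib.Helper16.GraphInvPSU Cfsg.Agent.Lib.Helper16.GraphOddPSL
  Cfsg.Agent.Lib.Helper16.Char2Orth Cfsg.Agent.Lib.Helper16.GraphInvC2
  Cfsg.Agent.Lib.Helper16.GraphOddPSU Cfsg.Agent.Lib.Helper16.GraphEvenPSU
open Cfsg.Agent.Lib.Helper16.GraphInvPSL (glOfDet glOfDet_val exists_frame quadSim_iff
  J_mul_neg_J)

section pure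
variable {K : Type*} [Field K] [Fintype K] {m : ℕ}

theorem J_det_ne_zero : (Matrix.J (Fin m) K).det ≠ 0 := by
  intro h0
  have := congrArg Matrix.det (J_mul_neg_J (F := K) m)
  rw [Matrix.det_mul, h0, zero_mul, Matrix.det_one] at this
  exact zero_ne_one this

theorem G3_det_ne_zero (z : Fin m ⊕ Fin m → K) : (G3 z).det ≠ 0 := by
  intro h0
  have := congrArg Matrix.det (G3_mul_G3inv z)
  rw [Matrix.det_mul, h0, zero_mul, Matrix.det_one] at this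
  exact zero_ne_one this

theorem G3_symm [CharP K 2] (z : Fin m ⊕ Fin m → K) : (G3 z)ᵀ = G3 z := by
  unfold G3
  rw [Matrix.transpose_add, Matrix.J_transpose, neg_eq_self_char2]
  congr 1
  ext i j
  rw [Matrix.transpose_apply, Matrix.vecMulVec_apply, Matrix.vecMulVec_apply, mul_comm]

theorem G3_not_alt (z : Fin m ⊕ Fin m → K) (hz : z ≠ 0) : ¬ IsAlt (G3 z) := by
  intro h
  obtain ⟨j₀, hj₀⟩ : ∃ j₀, (Matrix.J (Fin m) K *ᵥ z) j₀ ≠ 0 := by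
    by_contra hcon
    push Not at hcon
    exact w_ne_zero z hz (funext hcon)
  have h1 := h (Pi.single j₀ 1)
  rw [qf_G3, single_one_dotProduct] at h1
  exact hj₀ (mul_self_eq_zero.mp h1)

/-- congruence and scaling preserve being alternating -/
theorem isAlt_sim {n : ℕ} (S k : Matrix (Fin n) (Fin n) K) (c : K) (hS : IsAlt S) :
    IsAlt (c • (kᵀ * S * k)) := by
  intro x
  rw [Matrix.smul_mulVec, dotProduct_smul, qf_congr, hS, smul_zero]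

end pure

section main
variable {F : Type*} [Field F] [Fintype F]

set_option maxHeartbeats 1000000 in
/-- the two classes of involutory graph automorphisms of `PSU_n(q)`, `n` even, `q` even -/
theorem main [h2F : CharP F 2] {q : ℕ} (hF : Fintype.card F = q ^ 2) {n m : ℕ} (hm : 2 ≤ m)
    (hnm : n = 2 * m) (F₀ : Type*) [Field F₀] [Fintype F₀] (hF₀ : Fintype.card F₀ = q) :
    ∃ (γ₁ γ₃ : MulAut (Cfsg.PSU n F q)) (t : ↥(Matrix.symplecticGroup (Fin m) F₀)),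
      Cfsg.IsTransvection (t : Matrix (Fin m ⊕ Fin m) (Fin m ⊕ Fin m) F₀) ∧
      Cfsg.IsGraphAutClassPSU γ₁ ∧ orderOf γ₁ = 2 ∧ Cfsg.IsGraphAutClassPSU γ₃ ∧
      orderOf γ₃ = 2 ∧ ¬ Cfsg.IsConjUnder (Cfsg.inndiagPSU n F q) γ₁ γ₃ ∧
      (∀ γ : MulAut (Cfsg.PSU n F q), Cfsg.IsGraphAutClassPSU γ → orderOf γ = 2 →
          Cfsg.IsConjUnder (Cfsg.inndiagPSU n F q) γ₁ γ ∨
          Cfsg.IsConjUnder (Cfsg.inndiagPSU n F q) γ₃ γ) ∧
      Nonempty (↥(Cfsg.inndiagPSU n F q ⊓ Subgroup.centralizer {γ₁}) ≃*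
        ↥(Matrix.symplecticGroup (Fin m) F₀)) ∧
      Nonempty (↥(Cfsg.inndiagPSU n F q ⊓ Subgroup.centralizer {γ₃}) ≃*
        ↥(Subgroup.centralizer ({t} : Set ↥(Matrix.symplecticGroup (Fin m) F₀)))) := by
  classical
  obtain ⟨p, hp, hcp, j, hj⟩ := exists_setup hF F₀ hF₀
  haveI := hp
  haveI := hcp
  haveI : CharP F₀ 2 := @RingHom.charP _ _ _ _ j (RingHom.injective j) 2 h2F
  have hn3 : 3 ≤ n := by omega
  have hm1 : 1 ≤ m := by omega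
  have h20 : (2 : F₀) = 0 := by
    have := CharP.cast_eq_zero F₀ 2
    exact_mod_cast this
  have hneg : (-1 : F₀) = 1 := by linear_combination -h20
  have hnegF : (-1 : F) = 1 := by
    have := congrArg j hneg
    rwa [map_neg, map_one] at this
  have hcard : Fintype.card (Fin m ⊕ Fin m) = n := by
    rw [Fintype.card_sum, Fintype.card_fin]; omega
  obtain ⟨e, -⟩ : ∃ e : Fin n ≃ Fin m ⊕ Fin m, e = e :=
    ⟨(Fintype.equivFinOfCardEq hcard).symm, rfl⟩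
  obtain ⟨j₀, hj₀⟩ : ∃ j₀ : Fin m ⊕ Fin m, j₀ = Sum.inl ⟨0, by omega⟩ := ⟨_, rfl⟩
  obtain ⟨z, hz⟩ : ∃ z : Fin m ⊕ Fin m → F₀, z = Pi.single j₀ 1 := ⟨_, rfl⟩
  have hzj : z j₀ = 1 := by rw [hz, Pi.single_eq_same]
  have hz0 : z ≠ 0 := by
    intro h
    rw [h] at hzj
    exact zero_ne_one hzj
  have hone : tauA hF (1 : F) = j 1 * 1 := by rw [map_one, map_one, mul_one]
  obtain ⟨g₁, a₁, μ₁, hμ₁0, hgg₁, hga₁, hT₁, ⟨ψ₁⟩⟩ := rep_of_form p hF hn3 j hj e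
    (Matrix.J (Fin m) F₀) J_det_ne_zero 1 (Or.inl rfl)
    (by rw [Matrix.J_transpose, one_smul, neg_eq_self_char2]) 1 one_ne_zero hone
    (Cfsg.GSp m F₀) mem_gsp_iff
  obtain ⟨g₃, a₃, μ₃, hμ₃0, hgg₃, hga₃, hT₃, ⟨ψ₃⟩⟩ := rep_of_form p hF hn3 j hj e
    (G3 z) (G3_det_ne_zero z) 1 (Or.inl rfl) (by rw [one_smul]; exact G3_symm z) 1 one_ne_zero hone
    (simGram (G3 z)) (mem_simGram _)
  obtain ⟨ψ₁'⟩ := projQuot_iso_isometry (Matrix.J (Fin m) F₀) (J_ne_zero hm1) (Cfsg.GSp m F₀)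
    (GraphInvC2.spGL (F := F₀) (m := m)).range mem_gsp_iff GraphInvC2.mem_range_spGL
  obtain ⟨ψ₃'⟩ := projQuot_iso_isometry (G3 z) (G3_ne_zero hm1 z) (simGram (G3 z))
    ((Subgroup.centralizer ({tvz z} : Set ↥(Matrix.symplecticGroup (Fin m) F₀))).map GraphInvC2.spGL)
    (mem_simGram _) (mem_cent_map_iff z hz0)
  obtain ⟨S₁, hS₁⟩ : ∃ S₁ : Matrix (Fin n) (Fin n) F₀,
      S₁ = (Matrix.J (Fin m) F₀).submatrix e e := ⟨_, rfl⟩
  obtain ⟨S₃, hS₃⟩ : ∃ S₃ : Matrix (Fin n) (Fin n) F₀, S₃ = (G3 z).submatrix e e := ⟨_, rfl⟩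
  rw [← hS₁] at hT₁
  rw [← hS₃] at hT₃
  have hS₁alt : IsAlt S₁ := by
    rw [hS₁]; exact isAlt_submatrix _ e (isAlt_J m)
  have hS₃nalt : ¬ IsAlt S₃ := by
    intro h
    apply G3_not_alt z hz0
    have := isAlt_submatrix S₃ e.symm h
    rw [hS₃, Matrix.submatrix_submatrix] at this
    simpa using this
  have hS₃t : S₃ᵀ = S₃ := by rw [hS₃, Matrix.transpose_submatrix, G3_symm]
  have hS₃d : S₃.det ≠ 0 := by
    rw [hS₃, Matrix.det_submatrix_equiv_self]; exact G3_det_ne_zero z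
  have hord : ∀ (g : ↥(Cfsg.GU n F q)),
      g.1.1 * g.1.1.map (tauA hF) = j 1 • (1 : Matrix (Fin n) (Fin n) F) →
      orderOf (cU g * fU (tauA hF) : MulAut (Cfsg.PSU n F q)) = 2 := by
    intro g hgg
    exact (orderOf_gU p hF hn3 g).mpr ⟨j 1, Or.inl (map_one j), hgg⟩
  refine ⟨cU g₁ * fU (tauA hF), cU g₃ * fU (tauA hF), tvz z, isTransvection_tvz z hz0,
    isGraphAut_gU hF hn3 g₁, hord g₁ hgg₁, isGraphAut_gU hF hn3 g₃, hord g₃ hgg₃, ?_, ?_, ?_, ?_⟩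
  · intro hc
    obtain ⟨k₀, c₀, hk₀, hc₀, hS⟩ := form_sim_of_conj p hF hn3 j hj g₁ g₃ a₁ a₃ μ₁ μ₃ hμ₁0 hμ₃0
      hga₁ hga₃ 1 one_ne_zero S₁ S₃ hT₁ hT₃ hc
    apply hS₃nalt
    rw [hS]
    exact isAlt_sim S₁ k₀ c₀ hS₁alt
  · intro γ hγ hγ2
    obtain ⟨g, rfl⟩ := graphAut_U p hF hn3 γ hγ hγ2
    obtain ⟨ε, hε, hgg⟩ := (orderOf_gU p hF hn3 g).mp hγ2
    have hε1 : ε = 1 := by
      rcases hε with h | h
      · exact h
      · rw [h, hnegF]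
    have hgg' : g.1.1 * g.1.1.map (tauA hF) = j 1 • (1 : Matrix (Fin n) (Fin n) F) := by
      rw [map_one, ← hε1]; exact hgg
    obtain ⟨a, μ, S, hμ0, ha, hT, hSt, hSdet⟩ := exists_form hF j hj g 1 (Or.inl rfl) hgg' 1
      one_ne_zero hone
    rw [one_smul] at hSt
    by_cases halt : IsAlt S
    · left
      obtain ⟨k, hk, hkS⟩ := alt_congr_J e S hSdet halt
      refine conj_of_forms p hF hn3 j hj g g₁ a a₁ μ μ₁ hμ0 hμ₁0 ha hga₁ 1 S S₁ hT hT₁ k hk 1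
        one_ne_zero ?_
      rw [one_smul, hS₁, hkS]
    · right
      have hnalt' : ∃ v : Fin n → F₀, v ⬝ᵥ (S *ᵥ v) ≠ 0 := by
        by_contra hcon
        push Not at hcon
        exact halt hcon
      have hnalt₃' : ∃ v : Fin n → F₀, v ⬝ᵥ (S₃ *ᵥ v) ≠ 0 := by
        by_contra hcon
        push Not at hcon
        exact hS₃nalt hcon
      obtain ⟨k₁, hk₁d, hk₁⟩ := symm_congr_one_char2 S hSt hSdet hnalt'
      obtain ⟨k₃, hk₃d, hk₃⟩ := symm_congr_one_char2 S₃ hS₃t hS₃d hnalt₃'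
      obtain ⟨hkd, hkS⟩ := congr_of_congr_one S S₃ k₁ k₃ hk₁d hk₃d hk₁ hk₃
      refine conj_of_forms p hF hn3 j hj g g₃ a a₃ μ μ₃ hμ0 hμ₃0 ha hga₃ 1 S S₃ hT hT₃ _ hkd 1
        one_ne_zero ?_
      rw [one_smul]
      exact hkS
  · exact ⟨ψ₁.trans (ψ₁'.trans (MonoidHom.ofInjective GraphInvC2.spGL_injective).symm)⟩
  · exact ⟨ψ₃.trans (ψ₃'.trans (Subgroup.equivMapOfInjective _ GraphInvC2.spGL GraphInvC2.spGL_injective).symm)⟩

end main

end Cfsg.Agent.Lib.Helper16.GraphC2PSU
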