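import Mathlib
import Cfsg.Agent.Lib.Helper16.SemiFrame
import Cfsg.Agent.Lib.Helper16.MinusType
import Cfsg.Agent.Lib.Helper16.FieldCentMinus2
import Cfsg.Agent.Lib.Helper6.PlusCentI

/-!
# Semilinear similarities of the plus type form: the parity and the type of a frame

For a semilinear similarity `Φ` of the hyperbolic form `QPlus F m` the matrix `Φ.mat` is a
similarity; `Φ` is *even* when this matrix preserves the two classes of maximal totally singular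
subspaces.  For a frame of `Φ` the descended form over the fixed field is of plus type when `Φ` is
even and of minus type when `Φ` is odd.
-/

set_option autoImplicit false
set_option linter.unusedSectionVars false
set_option linter.unusedVariables false
set_option linter.style.haveILetI false

namespace Cfsg.Agent.Lib.Helper16.PlusType

open Matrix Cfsg QuadraticMap Module Cfsg.Agent.Lib.Helper6 Cfsg.Agent.Lib.Helper6.AutOrt
  Cfsg.Agent.Lib.Helper15 Cfsg.Agent.Lib.Helper6.SimAut Cfsg.Agent.Lib.Helper6.PlusCent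
  Cfsg.Agent.Lib.Helper16.FieldCosetOrth Cfsg.Agent.Lib.Helper16.FieldCentOrth
  Cfsg.Agent.Lib.Helper16.QuadExt Cfsg.Agent.Lib.Helper16.SemiFrame
  Cfsg.Agent.Lib.Helper16.MinusType Cfsg.Agent.Lib.Helper6.Tri
open Cfsg.Agent.Lib.Helper6.AutPSL (sG sG_val gl_mul_inv gl_inv_mul)

variable {F : Type*} [Field F] [Fintype F] {m : ℕ}

section parity
variable [hS : Std (QPlus F m)]

/-- the matrix of a semilinear similarity of the plus type form is a similarity -/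
theorem mat_form (Φ : SemiSimO (QPlus F m)) (x : Fin m ⊕ Fin m → F) :
    QPlus F m (Φ.mat *ᵥ x) = Φ.ν * QPlus F m x := by
  rw [Φ.mat_mulVec, Φ.form]
  have h := (fieldPlus F m Φ.σ.symm).form x
  rw [fieldPlus_S] at h
  change QPlus F m (fun i => Φ.σ.symm (x i)) = 1 * Φ.σ.symm (QPlus F m x) at h
  rw [h, one_mul, RingEquiv.apply_symm_apply]

/-- the matrix of a semilinear similarity as an element of the similarity group -/
noncomputable def glGO (Φ : SemiSimO (QPlus F m)) : ↥(GO (QPlus F m)) :=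
  ⟨Φ.gl, ⟨Units.mk0 Φ.ν Φ.hν, fun v => by rw [Φ.gl_val]; exact mat_form Φ v⟩⟩

theorem glGO_val (Φ : SemiSimO (QPlus F m)) :
    (((glGO Φ).1 : GL (Fin m ⊕ Fin m) F) : Matrix (Fin m ⊕ Fin m) (Fin m ⊕ Fin m) F) = Φ.mat :=
  Φ.gl_val

/-- the matrix of a linear similarity -/
theorem linSim_mat (M : Matrix (Fin m ⊕ Fin m) (Fin m ⊕ Fin m) F) (e : F) (he : e ≠ 0)
    (hM : ∀ x, QPlus F m (M *ᵥ x) = e * QPlus F m x) : (linSim M e he hM).mat = M := by
  apply matrix_ext_mulVec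
  intro x
  rw [SemiSimO.mat_mulVec_of_refl (linSim M e he hM) rfl]
  rfl

/-- a similarity matrix as an element of the similarity group -/
theorem exists_GO_of_sim (M : Matrix (Fin m ⊕ Fin m) (Fin m ⊕ Fin m) F) (e : F) (he : e ≠ 0)
    (hM : ∀ x, QPlus F m (M *ᵥ x) = e * QPlus F m x) :
    ∃ g : ↥(GO (QPlus F m)),
      ((g.1 : GL (Fin m ⊕ Fin m) F) : Matrix (Fin m ⊕ Fin m) (Fin m ⊕ Fin m) F) = M :=
  ⟨glGO (linSim M e he hM), by rw [glGO_val, linSim_mat]⟩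

/-- the matrix of a composition -/
theorem comp_mat (Φ Ψ : SemiSimO (QPlus F m)) :
    (Φ.comp Ψ).mat = Φ.mat * Ψ.mat.map Φ.σ := by
  apply matrix_ext_mulVec
  intro y
  obtain ⟨x, rfl⟩ : ∃ x : Fin m ⊕ Fin m → F, y = fun i => (Φ.comp Ψ).σ (x i) :=
    ⟨fun i => (Φ.comp Ψ).σ.symm (y i), by funext i; simp⟩
  rw [(Φ.comp Ψ).mat_mulVec', SemiSimO.comp_S, ← Matrix.mulVec_mulVec]
  have h1 : (fun i => (Φ.comp Ψ).σ (x i)) = fun i => Φ.σ ((fun k => Ψ.σ (x k)) i) := by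
    funext i
    rfl
  rw [h1, map_mulVec_apply' Φ.σ Ψ.mat, Ψ.mat_mulVec', Φ.mat_mulVec']

variable (hm : 4 ≤ m)

include hm in
/-- the parity of a composition -/
theorem glGO_comp_mem (Φ Ψ : SemiSimO (QPlus F m)) :
    glGO (Φ.comp Ψ) ∈ Kp F m ↔ (glGO Φ ∈ Kp F m ↔ glGO Ψ ∈ Kp F m) := by
  have e : glGO (Φ.comp Ψ) = glGO Φ * twist hm Φ.σ (glGO Ψ) := by
    apply Subtype.ext
    apply Units.ext
    change (((glGO (Φ.comp Ψ)).1 : GL (Fin m ⊕ Fin m) F) : Matrix (Fin m ⊕ Fin m) (Fin m ⊕ Fin m) F) =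
      (((glGO Φ).1 : GL (Fin m ⊕ Fin m) F) : Matrix (Fin m ⊕ Fin m) (Fin m ⊕ Fin m) F) *
        (((twist hm Φ.σ (glGO Ψ)).1 : GL (Fin m ⊕ Fin m) F) : Matrix (Fin m ⊕ Fin m) (Fin m ⊕ Fin m) F)
    rw [twist_val, glGO_val, glGO_val, glGO_val, comp_mat]
  rw [e, mul_mem_Kp_iff, twist_mem_Kp_iff]

/-- the parity only depends on the map up to a scalar -/
theorem glGO_mem_of_smul (Φ Ψ : SemiSimO (QPlus F m)) (μ : F) (hμ : μ ≠ 0)
    (h : ∀ x, Φ.S x = μ • Ψ.S x) (hσ : Φ.σ = Ψ.σ) :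
    glGO Φ ∈ Kp F m ↔ glGO Ψ ∈ Kp F m := by
  have e : glGO Φ = ⟨scalGL (Units.mk0 μ hμ), scalGL_mem_GO (QPlus F m) _⟩ * glGO Ψ := by
    apply Subtype.ext
    apply Units.ext
    change (((glGO Φ).1 : GL (Fin m ⊕ Fin m) F) : Matrix (Fin m ⊕ Fin m) (Fin m ⊕ Fin m) F) =
      ((scalGL (Units.mk0 μ hμ) : GL (Fin m ⊕ Fin m) F) : Matrix (Fin m ⊕ Fin m) (Fin m ⊕ Fin m) F) *
        (((glGO Ψ).1 : GL (Fin m ⊕ Fin m) F) : Matrix (Fin m ⊕ Fin m) (Fin m ⊕ Fin m) F)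
    rw [glGO_val, glGO_val, scalGL_val, Matrix.smul_mul, Matrix.one_mul]
    apply matrix_ext_mulVec
    intro y
    rw [Φ.mat_mulVec, Matrix.smul_mulVec, Ψ.mat_mulVec, h, hσ]
    rfl
  rw [e, mul_mem_Kp_iff]
  have := scal_mem_Kp (F := F) (m := m) (Units.mk0 μ hμ)
  tauto

/-- the parity of a similarity -/
theorem glGO_simGO (g : ↥(GO (QPlus F m))) : glGO (simGO g) = g := by
  apply Subtype.ext
  apply Units.ext
  change (((glGO (simGO g)).1 : GL (Fin m ⊕ Fin m) F) : Matrix (Fin m ⊕ Fin m) (Fin m ⊕ Fin m) F) = _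
  rw [glGO_val]
  exact linSim_mat _ _ _ _

/-- field automorphisms are even -/
theorem glGO_fieldPlus (σ : F ≃+* F) : glGO (fieldPlus F m σ) = 1 := by
  apply Subtype.ext
  apply Units.ext
  change (((glGO (fieldPlus F m σ)).1 : GL (Fin m ⊕ Fin m) F) : Matrix (Fin m ⊕ Fin m) (Fin m ⊕ Fin m) F) = 1
  rw [glGO_val]
  apply matrix_ext_mulVec
  intro y
  rw [(fieldPlus F m σ).mat_mulVec, fieldPlus_S, Matrix.one_mulVec]
  funext i
  exact RingEquiv.apply_symm_apply σ (y i)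

end parity

section twisted
variable [hS : Std (QPlus F m)] (hm : 4 ≤ m)

include hm in
/-- a twisted frame consisting of a similarity determines the parity -/
theorem mem_Kp_of_twisted (G B S : ↥(GO (QPlus F m))) (τ : F ≃+* F) (μ : F) (hμ : μ ≠ 0)
    (h : ((G.1 : GL (Fin m ⊕ Fin m) F) : Matrix (Fin m ⊕ Fin m) (Fin m ⊕ Fin m) F) *
        ((B.1 : GL (Fin m ⊕ Fin m) F) : Matrix (Fin m ⊕ Fin m) (Fin m ⊕ Fin m) F).map τ =
      μ • (((B.1 : GL (Fin m ⊕ Fin m) F) : Matrix (Fin m ⊕ Fin m) (Fin m ⊕ Fin m) F) *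
        ((S.1 : GL (Fin m ⊕ Fin m) F) : Matrix (Fin m ⊕ Fin m) (Fin m ⊕ Fin m) F))) :
    G ∈ Kp F m ↔ S ∈ Kp F m := by
  have e : G * twist hm τ B =
      ⟨scalGL (Units.mk0 μ hμ), scalGL_mem_GO (QPlus F m) _⟩ * B * S := by
    apply Subtype.ext
    apply Units.ext
    change ((G.1 : GL (Fin m ⊕ Fin m) F) : Matrix (Fin m ⊕ Fin m) (Fin m ⊕ Fin m) F) *
        (((twist hm τ B).1 : GL (Fin m ⊕ Fin m) F) : Matrix (Fin m ⊕ Fin m) (Fin m ⊕ Fin m) F) =
      ((scalGL (Units.mk0 μ hμ) : GL (Fin m ⊕ Fin m) F) :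
          Matrix (Fin m ⊕ Fin m) (Fin m ⊕ Fin m) F) *
        ((B.1 : GL (Fin m ⊕ Fin m) F) : Matrix (Fin m ⊕ Fin m) (Fin m ⊕ Fin m) F) *
        ((S.1 : GL (Fin m ⊕ Fin m) F) : Matrix (Fin m ⊕ Fin m) (Fin m ⊕ Fin m) F)
    rw [twist_val, h, scalGL_val, Matrix.smul_mul, Matrix.one_mul, Matrix.smul_mul]
    rfl
  have h1 := mul_mem_Kp_iff G (twist hm τ B)
  rw [e, mul_mem_Kp_iff, mul_mem_Kp_iff, twist_mem_Kp_iff] at h1
  have := scal_mem_Kp (F := F) (m := m) (Units.mk0 μ hμ)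
  tauto

end twisted

section plus
variable [hS : Std (QPlus F m)] (hm : 4 ≤ m)
  {F₀ : Type*} [Field F₀] [Fintype F₀] (j : F₀ →+* F)

include hm in
/-- a semilinear similarity with a frame whose descended form is of plus type is even -/
theorem even_of_plus (Φ : SemiSimO (QPlus F m)) (hjfix : ∀ a : F₀, Φ.σ (j a) = j a)
    (b : GL (Fin m ⊕ Fin m) F) (μ : F) (hμ : μ ≠ 0) (hb : Φ.mat * b.1.map Φ.σ = μ • b.1)
    (Q₀ : QuadraticForm F₀ (Fin m ⊕ Fin m → F₀)) (c : F) (hc : c ≠ 0)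
    (h : ∀ v, j (Q₀ v) = c * QPlus F m (b.1 *ᵥ (fun i => j (v i))))
    (k₀ : Matrix (Fin m ⊕ Fin m) (Fin m ⊕ Fin m) F₀)
    (hk₀ : ∀ v, Q₀ (k₀ *ᵥ v) = QPlus F₀ m v) : glGO Φ ∈ Kp F m := by
  obtain ⟨M, hM⟩ : ∃ M : Matrix (Fin m ⊕ Fin m) (Fin m ⊕ Fin m) F, M = b.1 * k₀.map j :=
    ⟨_, rfl⟩
  have hkmap : ∀ v : Fin m ⊕ Fin m → F₀,
      k₀.map j *ᵥ (fun i => j (v i)) = fun i => j ((k₀ *ᵥ v) i) := by
    intro v
    funext i
    exact (RingHom.map_mulVec j k₀ v i).symm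
  have hsim : ∀ w, QPlus F m (M *ᵥ w) = c⁻¹ * QPlus F m w := by
    intro w
    have h1 := qf_ext j (c • (QPlus F m).comp (Matrix.toLin' M)) (QPlus F m) (fun v => ?_) w
    · rw [_root_.smul_apply, comp_toLin_apply, smul_eq_mul] at h1
      rw [← h1, ← mul_assoc, inv_mul_cancel₀ hc, one_mul]
    · rw [_root_.smul_apply, comp_toLin_apply, smul_eq_mul, hM, ← Matrix.mulVec_mulVec, hkmap,
        ← h, hk₀, QPlus_map]
  obtain ⟨B, hB⟩ := exists_GO_of_sim M c⁻¹ (inv_ne_zero hc) hsim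
  have hfixk : (k₀.map j).map Φ.σ = k₀.map j := by
    ext s t
    rw [Matrix.map_apply, Matrix.map_apply, hjfix]
  have key := mem_Kp_of_twisted hm (glGO Φ) B 1 Φ.σ μ hμ (by
    rw [glGO_val, hB, hM, Matrix.map_mul, hfixk, ← Matrix.mul_assoc, hb, Matrix.smul_mul]
    congr 1
    change _ = b.1 * k₀.map j * (1 : Matrix (Fin m ⊕ Fin m) (Fin m ⊕ Fin m) F)
    rw [Matrix.mul_one])
  exact key.mpr (Subgroup.one_mem _)

end plus

section Lmap
variable {F : Type*} [Field F] {n : ℕ} (θ θ' : F)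

/-- the coordinate change splitting the binary part -/
def Lfun (v : (Fin n ⊕ Fin n) ⊕ Fin 2 → F) : Fin (n + 1) ⊕ Fin (n + 1) → F :=
  Sum.elim
    (Fin.snoc (α := fun _ => F) (fun i => v (Sum.inl (Sum.inl i)))
      (v (Sum.inr 0) - θ * v (Sum.inr 1)))
    (Fin.snoc (α := fun _ => F) (fun i => v (Sum.inl (Sum.inr i)))
      (v (Sum.inr 0) - θ' * v (Sum.inr 1)))

@[simp] theorem Lfun_inl_castSucc (v : (Fin n ⊕ Fin n) ⊕ Fin 2 → F) (i : Fin n) :
    Lfun θ θ' v (Sum.inl i.castSucc) = v (Sum.inl (Sum.inl i)) := by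
  simp [Lfun]

@[simp] theorem Lfun_inl_last (v : (Fin n ⊕ Fin n) ⊕ Fin 2 → F) :
    Lfun θ θ' v (Sum.inl (Fin.last n)) = v (Sum.inr 0) - θ * v (Sum.inr 1) := by
  simp [Lfun]

@[simp] theorem Lfun_inr_castSucc (v : (Fin n ⊕ Fin n) ⊕ Fin 2 → F) (i : Fin n) :
    Lfun θ θ' v (Sum.inr i.castSucc) = v (Sum.inl (Sum.inr i)) := by
  simp [Lfun]

@[simp] theorem Lfun_inr_last (v : (Fin n ⊕ Fin n) ⊕ Fin 2 → F) :
    Lfun θ θ' v (Sum.inr (Fin.last n)) = v (Sum.inr 0) - θ' * v (Sum.inr 1) := by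
  simp [Lfun]

/-- the coordinate change as a linear map -/
def Lmap : ((Fin n ⊕ Fin n) ⊕ Fin 2 → F) →ₗ[F] (Fin (n + 1) ⊕ Fin (n + 1) → F) where
  toFun := Lfun θ θ'
  map_add' x y := by
    funext k
    rcases k with k | k
    · refine Fin.lastCases ?_ (fun i => ?_) k
      · simp only [Lfun_inl_last, Pi.add_apply]; ring
      · simp only [Lfun_inl_castSucc, Pi.add_apply]
    · refine Fin.lastCases ?_ (fun i => ?_) k
      · simp only [Lfun_inr_last, Pi.add_apply]; ring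
      · simp only [Lfun_inr_castSucc, Pi.add_apply]
  map_smul' c x := by
    funext k
    rcases k with k | k
    · refine Fin.lastCases ?_ (fun i => ?_) k
      · simp only [Lfun_inl_last, Pi.smul_apply, smul_eq_mul, RingHom.id_apply]; ring
      · simp only [Lfun_inl_castSucc, Pi.smul_apply, smul_eq_mul, RingHom.id_apply]
    · refine Fin.lastCases ?_ (fun i => ?_) k
      · simp only [Lfun_inr_last, Pi.smul_apply, smul_eq_mul, RingHom.id_apply]; ring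
      · simp only [Lfun_inr_castSucc, Pi.smul_apply, smul_eq_mul, RingHom.id_apply]

theorem Lmap_apply (v : (Fin n ⊕ Fin n) ⊕ Fin 2 → F) : Lmap θ θ' v = Lfun θ θ' v := rfl

/-- the coordinate change turns the minus type form into the plus type form -/
theorem QPlus_Lmap (z : F) (hsum : θ + θ' = -1) (hprod : θ * θ' = z)
    (v : (Fin n ⊕ Fin n) ⊕ Fin 2 → F) :
    QPlus F (n + 1) (Lmap θ θ' v) = Qgen n (binForm 1 z) v := by
  rw [QPlus_apply, Qgen_apply, binForm_apply, Lmap_apply]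
  unfold Cfsg.quadFormPlus
  rw [Fin.sum_univ_castSucc]
  simp only [Lfun_inl_castSucc, Lfun_inr_castSucc, Lfun_inl_last, Lfun_inr_last]
  rw [← hprod]
  linear_combination (-(v (Sum.inr 0) * v (Sum.inr 1))) * hsum

theorem Lmap_injective (hne : θ ≠ θ') : Function.Injective (Lmap (n := n) θ θ') := by
  rw [← LinearMap.ker_eq_bot, LinearMap.ker_eq_bot']
  intro v hv
  rw [Lmap_apply] at hv
  have h1 : ∀ k, Lfun θ θ' v k = 0 := fun k => by rw [hv]; rfl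
  have e1 := h1 (Sum.inl (Fin.last n))
  have e2 := h1 (Sum.inr (Fin.last n))
  rw [Lfun_inl_last] at e1
  rw [Lfun_inr_last] at e2
  have hz2 : v (Sum.inr 1) = 0 := by
    have : (θ - θ') * v (Sum.inr 1) = 0 := by linear_combination e2 - e1
    rcases mul_eq_zero.mp this with h | h
    · exact absurd (sub_eq_zero.mp h) hne
    · exact h
  have hz1 : v (Sum.inr 0) = 0 := by
    rw [hz2] at e1
    linear_combination e1
  funext k
  rcases k with (k | k) | k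
  · have := h1 (Sum.inl k.castSucc)
    rwa [Lfun_inl_castSucc] at this
  · have := h1 (Sum.inr k.castSucc)
    rwa [Lfun_inr_castSucc] at this
  · fin_cases k
    · exact hz1
    · exact hz2

end Lmap

section swap
variable {F : Type*} [Field F] {n : ℕ}

/-- the swap of the last hyperbolic pair -/
def swF (w : Fin (n + 1) ⊕ Fin (n + 1) → F) : Fin (n + 1) ⊕ Fin (n + 1) → F :=
  Sum.elim
    (Fin.snoc (α := fun _ => F) (fun i => w (Sum.inl i.castSucc)) (w (Sum.inr (Fin.last n))))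
    (Fin.snoc (α := fun _ => F) (fun i => w (Sum.inr i.castSucc)) (w (Sum.inl (Fin.last n))))

@[simp] theorem swF_inl_castSucc (w : Fin (n + 1) ⊕ Fin (n + 1) → F) (i : Fin n) :
    swF w (Sum.inl i.castSucc) = w (Sum.inl i.castSucc) := by simp [swF]

@[simp] theorem swF_inl_last (w : Fin (n + 1) ⊕ Fin (n + 1) → F) :
    swF w (Sum.inl (Fin.last n)) = w (Sum.inr (Fin.last n)) := by simp [swF]

@[simp] theorem swF_inr_castSucc (w : Fin (n + 1) ⊕ Fin (n + 1) → F) (i : Fin n) :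
    swF w (Sum.inr i.castSucc) = w (Sum.inr i.castSucc) := by simp [swF]

@[simp] theorem swF_inr_last (w : Fin (n + 1) ⊕ Fin (n + 1) → F) :
    swF w (Sum.inr (Fin.last n)) = w (Sum.inl (Fin.last n)) := by simp [swF]

/-- the vector whose reflection is the swap -/
def v0 (F : Type*) [Field F] (n : ℕ) : Fin (n + 1) ⊕ Fin (n + 1) → F :=
  Pi.single (Sum.inl (Fin.last n)) 1 - Pi.single (Sum.inr (Fin.last n)) 1

theorem v0_inl_castSucc (i : Fin n) : v0 F n (Sum.inl i.castSucc) = 0 := by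
  simp [v0, (Fin.castSucc_lt_last i).ne]

theorem v0_inr_castSucc (i : Fin n) : v0 F n (Sum.inr i.castSucc) = 0 := by
  simp [v0, (Fin.castSucc_lt_last i).ne]

theorem v0_inl_last : v0 F n (Sum.inl (Fin.last n)) = 1 := by
  simp [v0]

theorem v0_inr_last : v0 F n (Sum.inr (Fin.last n)) = -1 := by
  simp [v0]

theorem QPlus_v0 : QPlus F (n + 1) (v0 F n) = -1 := by
  rw [QPlus_apply]
  unfold Cfsg.quadFormPlus
  rw [Fin.sum_univ_castSucc]
  simp only [v0_inl_castSucc, v0_inr_castSucc, v0_inl_last, v0_inr_last]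
  simp

theorem polar_v0 (w : Fin (n + 1) ⊕ Fin (n + 1) → F) :
    polar (⇑(QPlus F (n + 1))) (v0 F n) w = w (Sum.inr (Fin.last n)) - w (Sum.inl (Fin.last n)) := by
  rw [polar_QPlus, Fin.sum_univ_castSucc]
  simp only [v0_inl_castSucc, v0_inr_castSucc, v0_inl_last, v0_inr_last]
  simp
  ring

/-- the reflection in `v0` is the swap -/
theorem refl_v0 (w : Fin (n + 1) ⊕ Fin (n + 1) → F) :
    Cfsg.reflectionMatrix ⇑(QPlus F (n + 1)) (v0 F n) *ᵥ w = swF w := by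
  rw [reflectionMatrix_mulVec, QPlus_v0, polar_v0]
  funext k
  rcases k with k | k
  · refine Fin.lastCases ?_ (fun i => ?_) k
    · simp only [Pi.sub_apply, Pi.smul_apply, smul_eq_mul, v0_inl_last, swF_inl_last]
      ring
    · simp only [Pi.sub_apply, Pi.smul_apply, smul_eq_mul, v0_inl_castSucc, swF_inl_castSucc]
      ring
  · refine Fin.lastCases ?_ (fun i => ?_) k
    · simp only [Pi.sub_apply, Pi.smul_apply, smul_eq_mul, v0_inr_last, swF_inr_last]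
      ring
    · simp only [Pi.sub_apply, Pi.smul_apply, smul_eq_mul, v0_inr_castSucc, swF_inr_castSucc]
      ring

end swap

section minus
variable {F : Type*} [Field F] [Fintype F] {n : ℕ} [hS : Std (QPlus F (n + 1))]
  (hm : 4 ≤ n + 1) {F₀ : Type*} [Field F₀] [Fintype F₀] (j : F₀ →+* F)

/-- the minus type form and base change -/
theorem Qgen_map (ζ : F₀) (v : (Fin n ⊕ Fin n) ⊕ Fin 2 → F₀) :
    Qgen n (binForm 1 (j ζ)) (fun i => j (v i)) = j (Cfsg.quadFormMinus n F₀ 1 ζ v) := by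
  rw [Qgen_apply, binForm_apply]
  unfold Cfsg.quadFormMinus
  simp only [map_add, map_sum, map_mul, map_pow, map_one]

theorem comp_toLin_apply_rect {κ : Type} [Fintype κ] [DecidableEq κ]
    (K : Matrix (Fin (n + 1) ⊕ Fin (n + 1)) κ F) (x : κ → F) :
    ((QPlus F (n + 1)).comp (Matrix.toLin' K)) x = QPlus F (n + 1) (K *ᵥ x) := by
  rw [QuadraticMap.comp_apply, Matrix.toLin'_apply]

theorem Lfun_map (θ θ' : F) (τ : F ≃+* F) (h1 : τ θ = θ') (h2 : τ θ' = θ)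
    (v : (Fin n ⊕ Fin n) ⊕ Fin 2 → F) :
    Lfun θ θ' (fun k => τ (v k)) = swF (fun k => τ (Lfun θ θ' v k)) := by
  funext k
  rcases k with k | k
  · refine Fin.lastCases ?_ (fun i => ?_) k
    · simp only [Lfun_inl_last, swF_inl_last, Lfun_inr_last, map_sub, map_mul, h2]
    · simp only [Lfun_inl_castSucc, swF_inl_castSucc]
  · refine Fin.lastCases ?_ (fun i => ?_) k
    · simp only [Lfun_inr_last, swF_inr_last, Lfun_inl_last, map_sub, map_mul, h1]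
    · simp only [Lfun_inr_castSucc, swF_inr_castSucc]

include hm in
/-- a semilinear similarity with a frame whose descended form is of minus type is odd -/
theorem odd_of_minus (Φ : SemiSimO (QPlus F (n + 1)))
    (hj : ∀ a : F, Φ.σ a = a ↔ a ∈ Set.range j)
    (b : GL (Fin (n + 1) ⊕ Fin (n + 1)) F) (μ : F) (hμ : μ ≠ 0)
    (hb : Φ.mat * b.1.map Φ.σ = μ • b.1)
    (Q₀ : QuadraticForm F₀ (Fin (n + 1) ⊕ Fin (n + 1) → F₀)) (c : F) (hc : c ≠ 0)
    (h : ∀ v, j (Q₀ v) = c * QPlus F (n + 1) (b.1 *ᵥ (fun i => j (v i))))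
    (ζ : F₀) (hζ : ∀ t : F₀, t ^ 2 + t + ζ ≠ 0)
    (g : (Fin (n + 1) ⊕ Fin (n + 1) → F₀) ≃ₗ[F₀] ((Fin n ⊕ Fin n) ⊕ Fin 2 → F₀))
    (hg : ∀ v, Q₀ v = Cfsg.quadFormMinus n F₀ 1 ζ (g v)) :
    glGO Φ ∉ Kp F (n + 1) := by
  classical
  have hjfix : ∀ a : F₀, Φ.σ (j a) = j a := fun a => (hj _).mpr ⟨a, rfl⟩
  obtain ⟨N₀, hN₀⟩ : ∃ N₀ : Matrix (Fin (n + 1) ⊕ Fin (n + 1)) ((Fin n ⊕ Fin n) ⊕ Fin 2) F₀,
      N₀ = LinearMap.toMatrix' g.symm.toLinearMap := ⟨_, rfl⟩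
  have hN₀v : ∀ v, N₀ *ᵥ v = g.symm v := by
    intro v
    rw [hN₀, LinearMap.toMatrix'_mulVec]
    rfl
  obtain ⟨K, hK⟩ : ∃ K : Matrix (Fin (n + 1) ⊕ Fin (n + 1)) ((Fin n ⊕ Fin n) ⊕ Fin 2) F,
      K = b.1 * N₀.map j := ⟨_, rfl⟩
  have hNmap : ∀ v : (Fin n ⊕ Fin n) ⊕ Fin 2 → F₀,
      N₀.map j *ᵥ (fun i => j (v i)) = fun i => j ((N₀ *ᵥ v) i) := by
    intro v
    funext i
    exact (RingHom.map_mulVec j N₀ v i).symm
  -- the form in the frame
  have hKQ : ∀ w, c * QPlus F (n + 1) (K *ᵥ w) = Qgen n (binForm 1 (j ζ)) w := by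
    intro w
    have h1 := qf_ext j (c • (QPlus F (n + 1)).comp (Matrix.toLin' K))
      (Qgen n (binForm 1 (j ζ))) (fun v => ?_) w
    · rwa [_root_.smul_apply, comp_toLin_apply_rect, smul_eq_mul] at h1
    · rw [_root_.smul_apply, comp_toLin_apply_rect, smul_eq_mul, hK, ← Matrix.mulVec_mulVec,
        hNmap, ← h, hN₀v, hg, LinearEquiv.apply_symm_apply, Qgen_map]
  -- the frame property
  have hKS : ∀ w, Φ.S (K *ᵥ w) = μ • (K *ᵥ (fun i => Φ.σ (w i))) := by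
    intro w
    rw [← Φ.mat_mulVec']
    have h1 : (fun i => Φ.σ ((K *ᵥ w) i)) = K.map Φ.σ *ᵥ (fun i => Φ.σ (w i)) := by
      funext i
      exact RingHom.map_mulVec (Φ.σ : F →+* F) K w i
    have h2 : K.map Φ.σ = b.1.map Φ.σ * N₀.map j := by
      rw [hK, Matrix.map_mul]
      congr 1
      ext s t
      rw [Matrix.map_apply, Matrix.map_apply, hjfix]
    rw [h1, h2, Matrix.mulVec_mulVec, ← Matrix.mul_assoc, hb, Matrix.smul_mul, Matrix.smul_mulVec,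
      ← hK]
  by_cases hroot : ∃ θ : F, θ ^ 2 + θ + j ζ = 0
  · obtain ⟨θ, hθ⟩ := hroot
    obtain ⟨θ', hθ'⟩ : ∃ θ', θ' = Φ.σ θ := ⟨_, rfl⟩
    have hθ'root : θ' ^ 2 + θ' + j ζ = 0 := by
      have := congrArg Φ.σ hθ
      rw [map_add, map_add, map_pow, hjfix, map_zero, ← hθ'] at this
      exact this
    have hne : θ ≠ θ' := by
      intro he
      rw [hθ'] at he
      obtain ⟨t, ht⟩ := (hj θ).mp he.symm
      apply hζ t
      apply j.injective
      rw [map_add, map_add, map_pow, ht, hθ, map_zero]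
    have hsum : θ + θ' = -1 := by
      have h1 : (θ - θ') * (θ + θ' + 1) = 0 := by linear_combination hθ - hθ'root
      rcases mul_eq_zero.mp h1 with h2 | h2
      · exact absurd (sub_eq_zero.mp h2) hne
      · linear_combination h2
    have hprod : θ * θ' = j ζ := by
      linear_combination θ * hsum - hθ
    have hτθ' : Φ.σ θ' = θ := by
      have : θ' = -1 - θ := by linear_combination hsum
      rw [this, map_sub, map_neg, map_one, ← hθ']
      linear_combination -hsum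
    obtain ⟨Le, hLe⟩ : ∃ Le : ((Fin n ⊕ Fin n) ⊕ Fin 2 → F) ≃ₗ[F]
        (Fin (n + 1) ⊕ Fin (n + 1) → F), ∀ v, Le v = Lmap θ θ' v := by
      refine ⟨LinearMap.linearEquivOfInjective (Lmap θ θ') (Lmap_injective θ θ' hne) ?_,
        fun v => rfl⟩
      rw [Module.finrank_fintype_fun_eq_card, Module.finrank_fintype_fun_eq_card]
      simp only [Fintype.card_sum, Fintype.card_fin]
      ring
    obtain ⟨Bf, hBf⟩ : ∃ Bf : (Fin (n + 1) ⊕ Fin (n + 1) → F) →ₗ[F]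
        (Fin (n + 1) ⊕ Fin (n + 1) → F), Bf = (Matrix.toLin' K) ∘ₗ Le.symm.toLinearMap :=
      ⟨_, rfl⟩
    obtain ⟨Bm, hBm⟩ : ∃ Bm : Matrix (Fin (n + 1) ⊕ Fin (n + 1)) (Fin (n + 1) ⊕ Fin (n + 1)) F,
        Bm = LinearMap.toMatrix' Bf := ⟨_, rfl⟩
    have hBmv : ∀ w, Bm *ᵥ w = K *ᵥ (Le.symm w) := by
      intro w
      rw [hBm, LinearMap.toMatrix'_mulVec, hBf]
      rfl
    have hsim : ∀ w, QPlus F (n + 1) (Bm *ᵥ w) = c⁻¹ * QPlus F (n + 1) w := by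
      intro w
      have h1 := hKQ (Le.symm w)
      rw [← QPlus_Lmap θ θ' (j ζ) hsum hprod, ← hLe, LinearEquiv.apply_symm_apply] at h1
      rw [hBmv, ← h1, ← mul_assoc, inv_mul_cancel₀ hc, one_mul]
    obtain ⟨B, hB⟩ := exists_GO_of_sim Bm c⁻¹ (inv_ne_zero hc) hsim
    have hv0 : QPlus F (n + 1) (v0 F n) ≠ 0 := by
      rw [QPlus_v0]
      exact neg_ne_zero.mpr one_ne_zero
    obtain ⟨S, -, hS⟩ := exists_GO_of_list [v0 F n] (by
      intro v hv
      rw [List.mem_singleton] at hv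
      rw [hv]
      exact hv0)
    rw [List.map_cons, List.map_nil, List.prod_cons, List.prod_nil, mul_one] at hS
    have hSK : S ∉ Kp F (n + 1) := refl_not_mem_Kp S (v0 F n) hv0 hS
    have key := mem_Kp_of_twisted hm (glGO Φ) B S Φ.σ μ hμ (by
      rw [glGO_val, hB, hS]
      apply matrix_ext_mulVec
      intro y
      obtain ⟨w, rfl⟩ : ∃ w : Fin (n + 1) ⊕ Fin (n + 1) → F, y = fun i => Φ.σ (w i) :=
        ⟨fun i => Φ.σ.symm (y i), by funext i; simp⟩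
      rw [← Matrix.mulVec_mulVec, map_mulVec_apply' Φ.σ Bm w, Φ.mat_mulVec', hBmv, hKS,
        Matrix.smul_mulVec, ← Matrix.mulVec_mulVec, refl_v0, hBmv]
      congr 2
      apply Le.injective
      rw [LinearEquiv.apply_symm_apply, hLe, Lmap_apply, Lfun_map θ θ' Φ.σ hθ'.symm hτθ',
        ← Lmap_apply, ← hLe, LinearEquiv.apply_symm_apply])
    exact fun hK' => hSK (key.mp hK')
  · push Not at hroot
    exfalso
    have hab : ∀ z₁ z₂ : F, z₁ ^ 2 + 1 * z₁ * z₂ + j ζ * z₂ ^ 2 = 0 → z₁ = 0 ∧ z₂ = 0 :=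
      aniso_of_irred (j ζ) hroot
    have hnd := nondegenerate_Qgen n (binForm 1 (j ζ)) (nondegenerate_binForm 1 (j ζ) hab)
    have hinj : Function.Injective (Matrix.toLin' K) := by
      intro x y hxy
      rw [Matrix.toLin'_apply, Matrix.toLin'_apply] at hxy
      have h0 : K *ᵥ (x - y) = 0 := by rw [Matrix.mulVec_sub, hxy, sub_self]
      have h1 : x - y = 0 := by
        apply hnd.1
        intro w
        rw [polarBilin_apply_apply]
        unfold polar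
        rw [← hKQ, ← hKQ, ← hKQ, Matrix.mulVec_add, h0, zero_add]
        have : QPlus F (n + 1) (0 : Fin (n + 1) ⊕ Fin (n + 1) → F) = 0 := map_zero _
        rw [this]
        ring
      exact sub_eq_zero.mp h1
    obtain ⟨Ke, hKe⟩ : ∃ Ke : ((Fin n ⊕ Fin n) ⊕ Fin 2 → F) ≃ₗ[F]
        (Fin (n + 1) ⊕ Fin (n + 1) → F), ∀ v, Ke v = K *ᵥ v := by
      refine ⟨LinearMap.linearEquivOfInjective (Matrix.toLin' K) hinj ?_, fun v => ?_⟩
      · rw [Module.finrank_fintype_fun_eq_card, Module.finrank_fintype_fun_eq_card]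
        simp only [Fintype.card_sum, Fintype.card_fin]
        ring
      · rw [LinearMap.linearEquivOfInjective_apply, Matrix.toLin'_apply]
    refine not_plus (RingHom.id F) 1 (j ζ) hab ((QPlus F (n + 1)).comp (Matrix.toLin' K)) 1 c⁻¹
      (inv_ne_zero hc) (fun v => ?_) Ke (fun v => ?_)
    · rw [RingHom.id_apply, comp_toLin_apply_rect, Units.val_one, Matrix.one_mulVec]
      change _ = c⁻¹ * Qgen n (binForm 1 (j ζ)) v
      rw [← hKQ, ← mul_assoc, inv_mul_cancel₀ hc, one_mul]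
    · rw [comp_toLin_apply_rect, hKe, QPlus_apply]

end minus

section classify
variable [hS : Std (QPlus F m)] (hm : 4 ≤ m)
  {F₀ : Type*} [Field F₀] [Fintype F₀] (j : F₀ →+* F)

include hm in
/-- the type of the descended form of a frame is determined by the parity -/
theorem descended_type (Φ : SemiSimO (QPlus F m))
    (hj : ∀ a : F, Φ.σ a = a ↔ a ∈ Set.range j)
    (b : GL (Fin m ⊕ Fin m) F) (μ : F) (hμ : μ ≠ 0) (hb : Φ.mat * b.1.map Φ.σ = μ • b.1)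
    (Q₀ : QuadraticForm F₀ (Fin m ⊕ Fin m → F₀)) (hQ₀ : (polarBilin Q₀).Nondegenerate)
    (c : F) (hc : c ≠ 0)
    (h : ∀ v, j (Q₀ v) = c * QPlus F m (b.1 *ᵥ (fun i => j (v i)))) :
    (glGO Φ ∈ Kp F m → ∃ k₀ : GL (Fin m ⊕ Fin m) F₀, ∀ v, Q₀ (k₀.1 *ᵥ v) = QPlus F₀ m v) ∧
    (glGO Φ ∉ Kp F m → ∃ ζ : F₀, (∀ t : F₀, t ^ 2 + t + ζ ≠ 0) ∧
      ∃ g : (Fin m ⊕ Fin m → F₀) ≃ₗ[F₀] ((Fin (m - 1) ⊕ Fin (m - 1)) ⊕ Fin 2 → F₀),
        ∀ v, Q₀ v = Cfsg.quadFormMinus (m - 1) F₀ 1 ζ (g v)) := by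
  classical
  have hjfix : ∀ a : F₀, Φ.σ (j a) = j a := fun a => (hj _).mpr ⟨a, rfl⟩
  have hV : finrank F₀ (Fin m ⊕ Fin m → F₀) = 2 * m := by
    rw [Module.finrank_fintype_fun_eq_card, Fintype.card_sum, Fintype.card_fin]; ring
  have hcl := classify_even Q₀ hQ₀ m (by omega) hV
  rcases hcl with ⟨g, hg⟩ | ⟨ζ, hζ, g, hg⟩
  · have hk : ∀ v, Q₀ (LinearMap.toMatrix' g.symm.toLinearMap *ᵥ v) = QPlus F₀ m v := by
      intro v
      rw [LinearMap.toMatrix'_mulVec, hg, QPlus_apply]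
      simp
    have heven := even_of_plus hm j Φ hjfix b μ hμ hb Q₀ c hc h _ hk
    refine ⟨fun _ => ⟨⟨LinearMap.toMatrix' g.symm.toLinearMap,
      LinearMap.toMatrix' g.toLinearMap, ?_, ?_⟩, hk⟩, fun hodd => absurd heven hodd⟩
    · rw [← LinearMap.toMatrix'_comp]
      have : g.symm.toLinearMap ∘ₗ g.toLinearMap = LinearMap.id := by
        ext v
        simp
      rw [this, LinearMap.toMatrix'_id]
    · rw [← LinearMap.toMatrix'_comp]
      have : g.toLinearMap ∘ₗ g.symm.toLinearMap = LinearMap.id := by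
        ext v
        simp
      rw [this, LinearMap.toMatrix'_id]
  · obtain ⟨n, rfl⟩ : ∃ n, m = n + 1 := ⟨m - 1, by omega⟩
    have hodd := odd_of_minus hm j Φ hj b μ hμ hb Q₀ c hc h ζ hζ g hg
    exact ⟨fun heven => absurd heven hodd, fun _ => ⟨ζ, hζ, g, hg⟩⟩

end classify

section similar
variable [hS : Std (QPlus F m)] (hm : 4 ≤ m)
  {F₀ : Type*} [Field F₀] [Fintype F₀] (j : F₀ →+* F)

include hm in
/-- two semilinear similarities of the same parity have similar descended forms -/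
theorem exists_similar_of_parity (Φ₁ Φ₂ : SemiSimO (QPlus F m))
    (hj₁ : ∀ a : F, Φ₁.σ a = a ↔ a ∈ Set.range j) (hj₂ : ∀ a : F, Φ₂.σ a = a ↔ a ∈ Set.range j)
    (hpar : glGO Φ₁ ∈ Kp F m ↔ glGO Φ₂ ∈ Kp F m)
    (b₁ b₂ : GL (Fin m ⊕ Fin m) F) (μ₁ μ₂ : F) (hμ₁ : μ₁ ≠ 0) (hμ₂ : μ₂ ≠ 0)
    (hb₁ : Φ₁.mat * b₁.1.map Φ₁.σ = μ₁ • b₁.1) (hb₂ : Φ₂.mat * b₂.1.map Φ₂.σ = μ₂ • b₂.1)
    (Q₁ Q₂ : QuadraticForm F₀ (Fin m ⊕ Fin m → F₀))
    (hQ₁ : (polarBilin Q₁).Nondegenerate) (hQ₂ : (polarBilin Q₂).Nondegenerate)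
    (c₁ c₂ : F) (hc₁ : c₁ ≠ 0) (hc₂ : c₂ ≠ 0)
    (h₁ : ∀ v, j (Q₁ v) = c₁ * QPlus F m (b₁.1 *ᵥ (fun i => j (v i))))
    (h₂ : ∀ v, j (Q₂ v) = c₂ * QPlus F m (b₂.1 *ᵥ (fun i => j (v i)))) :
    ∃ k : Matrix (Fin m ⊕ Fin m) (Fin m ⊕ Fin m) F₀, ∀ v, Q₁ (k *ᵥ v) = Q₂ v := by
  classical
  obtain ⟨he₁, ho₁⟩ := descended_type hm j Φ₁ hj₁ b₁ μ₁ hμ₁ hb₁ Q₁ hQ₁ c₁ hc₁ h₁
  obtain ⟨he₂, ho₂⟩ := descended_type hm j Φ₂ hj₂ b₂ μ₂ hμ₂ hb₂ Q₂ hQ₂ c₂ hc₂ h₂
  by_cases hp : glGO Φ₁ ∈ Kp F m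
  · obtain ⟨k₁, hk₁⟩ := he₁ hp
    obtain ⟨k₂, hk₂⟩ := he₂ (hpar.mp hp)
    refine ⟨k₁.1 * (k₂⁻¹).1, fun v => ?_⟩
    rw [← Matrix.mulVec_mulVec, hk₁, ← hk₂, Matrix.mulVec_mulVec, gl_mul_inv, Matrix.one_mulVec]
  · obtain ⟨ζ₁, hζ₁, g₁, hg₁⟩ := ho₁ hp
    obtain ⟨ζ₂, hζ₂, g₂, hg₂⟩ := ho₂ (fun h => hp (hpar.mpr h))
    obtain ⟨K, hK⟩ := exists_QgenIso 1 ζ₂ 1 ζ₁ (aniso_of_irred ζ₂ hζ₂) (aniso_of_irred ζ₁ hζ₁)
      (m - 1)
    refine ⟨LinearMap.toMatrix' (g₁.symm.toLinearMap ∘ₗ Matrix.toLin' K ∘ₗ g₂.toLinearMap),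
      fun v => ?_⟩
    rw [LinearMap.toMatrix'_mulVec, hg₁]
    simp only [LinearMap.coe_comp, Function.comp_apply, LinearEquiv.coe_coe,
      LinearEquiv.apply_symm_apply, Matrix.toLin'_apply]
    have e : ∀ (ζ : F₀) (w : (Fin (m - 1) ⊕ Fin (m - 1)) ⊕ Fin 2 → F₀),
        Cfsg.quadFormMinus (m - 1) F₀ 1 ζ w = Qgen (m - 1) (binForm 1 ζ) w := by
      intro ζ w
      rw [Qgen_apply, binForm_apply]
      rfl
    rw [e, hK, ← e, hg₂]

end similar

end Cfsg.Agent.Lib.Helper16.PlusType
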