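import Mathlib
import Cfsg.Agent.Lib.Helper16.PlusType
import Cfsg.Agent.Lib.Helper16.FieldCentRect

/-!
# Involutory graph-field automorphisms of the plus type orthogonal groups

The centralizer in the inner-diagonal group is the inner-diagonal group of a minus type group over
the subfield of index two.
-/

set_option autoImplicit false
set_option linter.unusedSectionVars false
set_option linter.unusedVariables false
set_option linter.style.haveILetI false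

namespace Cfsg.Agent.Lib.Helper16.GraphFieldPlus

open Matrix Cfsg QuadraticMap Module Cfsg.Agent.Lib.Helper6 Cfsg.Agent.Lib.Helper6.AutOrt
  Cfsg.Agent.Lib.Helper15 Cfsg.Agent.Lib.Helper6.SimAut Cfsg.Agent.Lib.Helper6.PlusCent
  Cfsg.Agent.Lib.Helper6.OmegaAut Cfsg.Agent.Lib.Helper6.ExtQuad
  Cfsg.Agent.Lib.Helper16.FieldCosetOrth Cfsg.Agent.Lib.Helper16.FieldCentOrth
  Cfsg.Agent.Lib.Helper16.QuadExt Cfsg.Agent.Lib.Helper16.SemiFrame
  Cfsg.Agent.Lib.Helper16.MinusType Cfsg.Agent.Lib.Helper6.Tri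
  Cfsg.Agent.Lib.Helper16.PlusType Cfsg.Agent.Lib.Helper16.FieldCentRect
  Cfsg.Agent.Lib.Helper16.FieldCentOmegaOdd Cfsg.Agent.Lib.Helper16.MinusPSC2
  Cfsg.Agent.Lib.Helper16.FieldCentMinus2
open Cfsg.Agent.Lib.Helper6.AutPSL (sG sG_val gl_mul_inv gl_inv_mul)

section refl
variable {F : Type*} [Field F] [Fintype F] {ι : Type} [Fintype ι] [DecidableEq ι]
  {ι₀ : Type} [Fintype ι₀] [DecidableEq ι₀]
  {F₀ : Type*} [Field F₀] (j : F₀ →+* F) (Q₀ : QuadraticForm F₀ (ι₀ → F₀))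
  (Q : QuadraticForm F (ι → F)) (B : Matrix ι ι₀ F) (B' : Matrix ι₀ ι F)
  (hBB' : B * B' = 1) (hB'B : B' * B = 1) (c : F) (hc : c ≠ 0)
  (hB : ∀ v : ι₀ → F₀, j (Q₀ v) = c * Q (B *ᵥ fun i => j (v i)))

include hBB' hc hB in
/-- the conjugated base change of a reflection is a reflection -/
theorem conj_refl (v : ι₀ → F₀) :
    B * (Cfsg.reflectionMatrix ⇑Q₀ v).map j * B' =
      Cfsg.reflectionMatrix ⇑Q (B *ᵥ fun i => j (v i)) := by
  obtain ⟨Q', hQ'⟩ : ∃ Q' : QuadraticForm F (ι₀ → F), Q' = c • Q.comp (Matrix.toLin' B) :=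
    ⟨_, rfl⟩
  have hQ'app : ∀ y, Q' y = c * Q (B *ᵥ y) := by
    intro y
    rw [hQ', _root_.smul_apply, comp_toLin_apply_rect, smul_eq_mul]
  have hjQ' : ∀ w : ι₀ → F₀, Q' (fun i => j (w i)) = j (Q₀ w) := by
    intro w
    rw [hQ'app, hB]
  rw [refl_map j Q₀ Q' hjQ' v]
  apply matrix_ext_mulVec
  intro x
  rw [← Matrix.mulVec_mulVec, ← Matrix.mulVec_mulVec, reflectionMatrix_mulVec,
    reflectionMatrix_mulVec, Matrix.mulVec_sub, Matrix.mulVec_mulVec, hBB',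
    Matrix.one_mulVec, Matrix.mulVec_smul]
  congr 2
  have hpol : polar (⇑Q') (fun i => j (v i)) (B' *ᵥ x) =
      c * polar (⇑Q) (B *ᵥ fun i => j (v i)) x := by
    unfold polar
    rw [hQ'app, hQ'app, hQ'app, Matrix.mulVec_add, Matrix.mulVec_mulVec, hBB',
      Matrix.one_mulVec]
    ring
  rw [hpol, hQ'app, mul_inv]
  field_simp

include hBB' hB'B hc hB in
theorem conj_refl_list (vs : List (ι₀ → F₀)) :
    B * ((vs.map (fun v => Cfsg.reflectionMatrix ⇑Q₀ v)).prod).map j * B' =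
      ((vs.map (fun v : ι₀ → F₀ => B *ᵥ fun i => j (v i))).map
        (fun w => Cfsg.reflectionMatrix ⇑Q w)).prod := by
  induction vs with
  | nil =>
    simp only [List.map_nil, List.prod_nil]
    rw [Matrix.map_one _ (map_zero j) (map_one j), Matrix.mul_one, hBB']
  | cons v vs ih =>
    rw [List.map_cons, List.prod_cons, List.map_cons, List.map_cons, List.prod_cons, ← ih,
      ← conj_refl j Q₀ Q B B' hBB' c hc hB v, Matrix.map_mul]
    simp only [Matrix.mul_assoc]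
    rw [← Matrix.mul_assoc B' B, hB'B, Matrix.one_mul]

end refl

section compat
universe u
variable {F : Type*} [Field F] [Fintype F] {F₀ : Type u} [Field F₀] [Fintype F₀] (j : F₀ →+* F)
  {m : ℕ} [hS : Std (QPlus F m)] (a₀ b₀ : F₀)
  (hab₀ : ∀ z₁ z₂ : F₀, z₁ ^ 2 + a₀ * z₁ * z₂ + b₀ * z₂ ^ 2 = 0 → z₁ = 0 ∧ z₂ = 0)
  (B : Matrix (Fin m ⊕ Fin m) ((Fin (m - 1) ⊕ Fin (m - 1)) ⊕ Fin 2) F)
  (B' : Matrix ((Fin (m - 1) ⊕ Fin (m - 1)) ⊕ Fin 2) (Fin m ⊕ Fin m) F)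
  (hBB' : B * B' = 1) (hB'B : B' * B = 1) (c : F) (hc : c ≠ 0)
  (hB : ∀ v : (Fin (m - 1) ⊕ Fin (m - 1)) ⊕ Fin 2 → F₀,
    j (Qgen (m - 1) (binForm a₀ b₀) v) = c * QPlus F m (B *ᵥ fun i => j (v i)))

include hab₀ in
/-- preserving the two classes is compatible with the conjugated base change -/
theorem compat (hm : 4 ≤ m) (g₀ : ↥(GO (Qgen (m - 1) (binForm a₀ b₀)))) :
    FieldCentRect.mapGO' j (Qgen (m - 1) (binForm a₀ b₀)) (QPlus F m) B B' hBB' hB'B c hc hB g₀ ∈ Kp F m ↔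
    Cfsg.PreservesSingularClassesMinus (m - 1) a₀ b₀
      ((g₀.1 : GL ((Fin (m - 1) ⊕ Fin (m - 1)) ⊕ Fin 2) F₀) :
        Matrix ((Fin (m - 1) ⊕ Fin (m - 1)) ⊕ Fin 2) ((Fin (m - 1) ⊕ Fin (m - 1)) ⊕ Fin 2) F₀) := by
  classical
  have hjinj : Function.Injective j := RingHom.injective j
  by_cases h2 : (2 : F) = 0
  · have h2₀ : (2 : F₀) = 0 := by
      apply hjinj
      rw [map_ofNat, h2, map_zero]
    obtain ⟨d, g₁, vs, hd0, hvs, hprod, hg⟩ := exists_list_two a₀ b₀ hab₀ h2₀ (by omega) g₀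
    have hjd : j d ≠ 0 := (map_ne_zero j).mpr hd0
    obtain ⟨ws, hws⟩ : ∃ ws : List (Fin m ⊕ Fin m → F),
        ws = vs.map (fun v : (Fin (m - 1) ⊕ Fin (m - 1)) ⊕ Fin 2 → F₀ => B *ᵥ fun i => j (v i)) :=
      ⟨_, rfl⟩
    have hwsQ : ∀ w ∈ ws, QPlus F m w ≠ 0 := by
      intro w hw
      rw [hws] at hw
      obtain ⟨v, hv, rfl⟩ := List.mem_map.mp hw
      intro h0
      have := hB v
      rw [h0, mul_zero] at this
      exact hvs v hv ((map_eq_zero j).mp this)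
    obtain ⟨G', -, hG'⟩ := exists_GO_of_list ws hwsQ
    have e : FieldCentRect.mapGO' j (Qgen (m - 1) (binForm a₀ b₀)) (QPlus F m) B B' hBB' hB'B c hc hB g₀ =
        ⟨scalGL (Units.mk0 (j d) hjd), scalGL_mem_GO (QPlus F m) _⟩ * G' := by
      apply Subtype.ext
      apply Units.ext
      change ((FieldCentRect.mapGO' j (Qgen (m - 1) (binForm a₀ b₀)) (QPlus F m) B B' hBB' hB'B c hc hB g₀).1 :
          Matrix (Fin m ⊕ Fin m) (Fin m ⊕ Fin m) F) =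
        ((scalGL (Units.mk0 (j d) hjd) : GL (Fin m ⊕ Fin m) F) :
          Matrix (Fin m ⊕ Fin m) (Fin m ⊕ Fin m) F) *
        ((G'.1 : GL (Fin m ⊕ Fin m) F) : Matrix (Fin m ⊕ Fin m) (Fin m ⊕ Fin m) F)
      rw [FieldCentRect.mapGO'_val, hg, hprod, Matrix.map_smul' j d _ (map_mul j), Matrix.mul_smul,
        Matrix.smul_mul, conj_refl_list j _ _ B B' hBB' hB'B c hc hB vs, hG', scalGL_val,
        Matrix.smul_mul, Matrix.one_mul, hws]
      rfl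
    rw [e, mul_mem_Kp_iff, list_mem_Kp_iff ws hwsQ G' hG', hg, hprod,
      pscMinus_list (m - 1) a₀ b₀ hab₀ d hd0 vs hvs, hws, List.length_map]
    have := scal_mem_Kp (F := F) (m := m) (Units.mk0 (j d) hjd)
    tauto
  · have h2₀ : (2 : F₀) ≠ 0 := by
      intro h
      apply h2
      have := congrArg j h
      rwa [map_ofNat, map_zero] at this
    have hodd₀ := odd_card_of_two_ne_zero h2₀
    obtain ⟨v₀, hv₀⟩ := SemiSimO.exists_Q_ne_zero (Q := QPlus F m)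
    have hmulr : mulr (QPlus F m)
        (FieldCentRect.mapGO' j (Qgen (m - 1) (binForm a₀ b₀)) (QPlus F m) B B' hBB' hB'B c hc hB g₀) =
        Units.map (j : F₀ →* F) (mulr (Qgen (m - 1) (binForm a₀ b₀)) g₀) := by
      apply mulr_eq (QPlus F m) v₀ hv₀
      intro v
      rw [FieldCentRect.mapGO'_val]
      exact sim_conj j _ _ B B' hBB' c hc hB _ _ (mulr_spec _ g₀) v
    have h3 := pscMinus_iff (m - 1) a₀ b₀ hodd₀ hab₀ g₀.1 (mulr _ g₀) (Units.ne_zero _)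
      (mulr_spec _ g₀)
    rw [mem_Kp_iff_det h2 (by omega), hmulr, FieldCentRect.mapGO'_val,
      Matrix.det_conj_of_mul_eq_one hBB' hB'B, h3, Nat.sub_add_cancel (by omega : 1 ≤ m),
      ← RingHom.mapMatrix_apply, ← RingHom.map_det, Units.coe_map]
    change j _ = (j _) ^ m ↔ _
    rw [← map_pow]
    exact hjinj.eq_iff

end compat

section parity
variable {F : Type*} [Field F] [Fintype F] {m : ℕ} [hS : Std (QPlus F m)] (hm : 4 ≤ m)
  (p : ℕ) [hp : Fact p.Prime] [hcp : CharP F p]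

include hp hcp in
/-- the parity only depends on the induced automorphism -/
theorem parity_of_gam_eq (Φ Ψ : SemiSimO (QPlus F m)) (h : Φ.gam = Ψ.gam) :
    glGO Φ ∈ Kp F m ↔ glGO Ψ ∈ Kp F m := by
  obtain ⟨μ, hμ0, hμ⟩ := S_smul_of_gam_eq p Φ Ψ h
  exact glGO_mem_of_smul Φ Ψ μ hμ0 hμ (σ_eq_of_gam_eq p Φ Ψ h)

include hm hp hcp in
/-- a semilinear similarity inducing a graph-field automorphism is odd, and its companion
automorphism is not trivial -/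
theorem graphField_semi (hP : HP (QPlus F m)) (x : MulAut (Cfsg.POmega F ⇑(QPlus F m)))
    (hx : ∃ (α γ φ : MulAut (Cfsg.POmega F ⇑(QPlus F m))) (σ : F ≃+* F) (v : Fin m ⊕ Fin m → F)
      (r : GL (Fin m ⊕ Fin m) F),
      σ ≠ RingEquiv.refl F ∧ QPlus F m v ≠ 0 ∧ (∀ i, σ (v i) = v i) ∧
      (r : Matrix (Fin m ⊕ Fin m) (Fin m ⊕ Fin m) F) = Cfsg.reflectionMatrix ⇑(QPlus F m) v ∧
      Cfsg.IsInducedBySemilinearPOmega ⇑(QPlus F m) r (RingEquiv.refl F) γ ∧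
      Cfsg.IsFieldAutPOmegaOf ⇑(QPlus F m) σ φ ∧ α * x * α⁻¹ = γ * φ)
    (Φ : SemiSimO (QPlus F m)) (hΦ : Φ.gam = x) :
    glGO Φ ∉ Kp F m ∧ Φ.σ ≠ RingEquiv.refl F := by
  classical
  obtain ⟨α, γ, φ, σ, v, r, hσ, hv, hσv, hr, hγ, hφ, e⟩ := hx
  have hrGO : r ∈ GO (QPlus F m) :=
    ⟨1, fun w => by rw [hr, Units.val_one]; exact Cfsg.Agent.Lib.Helper6.SingClass.Q_refl _ v hv w⟩
  obtain ⟨R, hR⟩ : ∃ R : ↥(GO (QPlus F m)), R = ⟨r, hrGO⟩ := ⟨_, rfl⟩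
  have hRK : R ∉ Kp F m := refl_not_mem_Kp R v hv (by rw [hR]; exact hr)
  have hpair : Cfsg.IsSemisimilarityPair (⇑(QPlus F m)) r (RingEquiv.refl F) :=
    ⟨mulr (QPlus F m) R, fun w => by
      have := mulr_spec (QPlus F m) R w
      rw [hR] at this
      rw [hR]
      exact this⟩
  have hind : Cfsg.IsInducedBySemilinearPOmega (⇑(QPlus F m)) r (RingEquiv.refl F)
      (fGO (QPlus F m) R) := by
    have := (isInduced_iff (⇑(QPlus F m)) R.1 _).mpr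
      ((Cfsg.Agent.Lib.Helper6.AutInduced.isInd_iff _ ⟨R.1, GO_le_normalizer (QPlus F m) R.2⟩ _).mpr
        (fGO_apply (QPlus F m) R))
    have hRr : (R.1 : GL (Fin m ⊕ Fin m) F) = r := by rw [hR]
    rw [hRr] at this
    exact this
  have eγ : γ = fGO (QPlus F m) R := by
    rw [SemiSimO.eq_gam_of_induced r _ hpair γ hγ, SemiSimO.eq_gam_of_induced r _ hpair _ hind]
  have eφ := Cfsg.Agent.Lib.Helper16.FieldCosetOmegaOdd.eq_gam_of_isFieldAut σ (fieldPlus F m σ) (fun _ => rfl) rfl φ hφ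
  obtain ⟨A, hA⟩ := exists_semi p hP α
  have hgam : (A.comp Φ).gam = (((simGO R).comp (fieldPlus F m σ)).comp A).gam := by
    rw [SemiSimO.gam_comp, SemiSimO.gam_comp, SemiSimO.gam_comp, ← fGO_eq_gam, ← eγ, ← eφ, hA, hΦ,
      ← e]
    group
  have hpar := parity_of_gam_eq p _ _ hgam
  rw [glGO_comp_mem hm, glGO_comp_mem hm, glGO_comp_mem hm, glGO_simGO, glGO_fieldPlus] at hpar
  have h1 : (1 : ↥(GO (QPlus F m))) ∈ Kp F m := Subgroup.one_mem _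
  refine ⟨by tauto, ?_⟩
  have hσeq := σ_eq_of_gam_eq p _ _ hgam
  rw [SemiSimO.comp_σ, SemiSimO.comp_σ, SemiSimO.comp_σ] at hσeq
  intro h0
  apply hσ
  rw [h0] at hσeq
  have h2 : ∀ a : F, A.σ a = σ (A.σ a) := by
    intro a
    have := congrArg (fun (t : F ≃+* F) => t a) hσeq
    exact this
  ext b
  have := h2 (A.σ.symm b)
  rw [RingEquiv.apply_symm_apply] at this
  exact this.symm

end parity

section frame
variable {F : Type*} [Field F] [Fintype F] {m : ℕ} [hS : Std (QPlus F m)] (hm : 4 ≤ m)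
  (p : ℕ) [hp : Fact p.Prime] [hcp : CharP F p]
  {F₀ : Type*} [Field F₀] [Fintype F₀] (j : F₀ →+* F)

include hm hp hcp in
/-- an odd semilinear similarity of order two modulo scalars has a rectangular frame in which the
form is a minus type form over the fixed field -/
theorem exists_rect_frame (Φ : SemiSimO (QPlus F m))
    (hj : ∀ a : F, Φ.σ a = a ↔ a ∈ Set.range j) (hord : orderOf (Φ.σ : RingAut F) = 2)
    (hpow : Φ.gam ^ 2 = 1) (hodd : glGO Φ ∉ Kp F m) :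
    ∃ (ζ : F₀) (B : Matrix (Fin m ⊕ Fin m) ((Fin (m - 1) ⊕ Fin (m - 1)) ⊕ Fin 2) F)
      (B' : Matrix ((Fin (m - 1) ⊕ Fin (m - 1)) ⊕ Fin 2) (Fin m ⊕ Fin m) F) (c μ : F),
      (∀ t : F₀, t ^ 2 + t + ζ ≠ 0) ∧ B * B' = 1 ∧ B' * B = 1 ∧ c ≠ 0 ∧ μ ≠ 0 ∧
      (∀ v : (Fin (m - 1) ⊕ Fin (m - 1)) ⊕ Fin 2 → F₀,
        j (Qgen (m - 1) (binForm 1 ζ) v) = c * QPlus F m (B *ᵥ fun i => j (v i))) ∧
      Φ.mat * B.map Φ.σ = μ • B := by
  classical
  have hjfix : ∀ a : F₀, Φ.σ (j a) = j a := fun a => (hj _).mpr ⟨a, rfl⟩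
  obtain ⟨b, μ, hμ, hb⟩ := exists_frame p Φ 2 hord (by norm_num) hpow
  obtain ⟨Q₀, c, hc, hQ₀, h⟩ := exists_descended j Φ hj b μ hμ hb
  obtain ⟨ζ, hζ, g, hg⟩ := (descended_type hm j Φ hj b μ hμ hb Q₀ hQ₀ c hc h).2 hodd
  obtain ⟨N₀, hN₀⟩ : ∃ N₀ : Matrix (Fin m ⊕ Fin m) ((Fin (m - 1) ⊕ Fin (m - 1)) ⊕ Fin 2) F₀,
      N₀ = LinearMap.toMatrix' g.symm.toLinearMap := ⟨_, rfl⟩
  obtain ⟨N₀', hN₀'⟩ : ∃ N₀' : Matrix ((Fin (m - 1) ⊕ Fin (m - 1)) ⊕ Fin 2) (Fin m ⊕ Fin m) F₀,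
      N₀' = LinearMap.toMatrix' g.toLinearMap := ⟨_, rfl⟩
  have hNN' : N₀ * N₀' = 1 := by
    rw [hN₀, hN₀', ← LinearMap.toMatrix'_comp]
    have : g.symm.toLinearMap ∘ₗ g.toLinearMap = LinearMap.id := by
      ext v
      simp
    rw [this, LinearMap.toMatrix'_id]
  have hN'N : N₀' * N₀ = 1 := by
    rw [hN₀, hN₀', ← LinearMap.toMatrix'_comp]
    have : g.toLinearMap ∘ₗ g.symm.toLinearMap = LinearMap.id := by
      ext v
      simp
    rw [this, LinearMap.toMatrix'_id]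
  have hN₀v : ∀ v, N₀ *ᵥ v = g.symm v := by
    intro v
    rw [hN₀, LinearMap.toMatrix'_mulVec]
    rfl
  have hmapNN' : N₀.map j * N₀'.map j = 1 := by
    rw [← Matrix.map_mul, hNN']
    exact Matrix.map_one _ (map_zero _) (map_one _)
  have hmapN'N : N₀'.map j * N₀.map j = 1 := by
    rw [← Matrix.map_mul, hN'N]
    exact Matrix.map_one _ (map_zero _) (map_one _)
  refine ⟨ζ, b.1 * N₀.map j, N₀'.map j * (b⁻¹).1, c, μ, hζ, ?_, ?_, hc, hμ, fun v => ?_, ?_⟩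
  · calc b.1 * N₀.map j * (N₀'.map j * (b⁻¹).1)
        = b.1 * (N₀.map j * N₀'.map j) * (b⁻¹).1 := by simp only [Matrix.mul_assoc]
      _ = 1 := by rw [hmapNN', Matrix.mul_one, gl_mul_inv]
  · calc N₀'.map j * (b⁻¹).1 * (b.1 * N₀.map j)
        = N₀'.map j * ((b⁻¹).1 * b.1) * N₀.map j := by simp only [Matrix.mul_assoc]
      _ = 1 := by rw [gl_inv_mul, Matrix.mul_one, hmapN'N]
  · have hNmap : N₀.map j *ᵥ (fun i => j (v i)) = fun i => j ((N₀ *ᵥ v) i) := by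
      funext i
      exact (RingHom.map_mulVec j N₀ v i).symm
    rw [← Matrix.mulVec_mulVec, hNmap, ← h, hN₀v, hg, LinearEquiv.apply_symm_apply, Qgen_apply,
      binForm_apply]
    rfl
  · have hfix : (N₀.map j).map Φ.σ = N₀.map j := by
      ext s t
      rw [Matrix.map_apply, Matrix.map_apply, hjfix]
    rw [Matrix.map_mul, hfix, ← Matrix.mul_assoc, hb, Matrix.smul_mul]

end frame

section setup
universe u v
variable {F : Type v} [Field F] [Fintype F] {m : ℕ}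

/-- the data attached to an involutory graph-field automorphism -/
theorem setup_gf {p f : ℕ} [hp : Fact p.Prime] (hF : Fintype.card F = p ^ f) (hm : 5 ≤ m)
    [hS : Std (QPlus F m)] [hcp : CharP F p] (hP : HP (QPlus F m))
    (x : MulAut (Cfsg.POmega F ⇑(QPlus F m)))
    (hx : ∃ (α γ φ : MulAut (Cfsg.POmega F ⇑(QPlus F m))) (σ : F ≃+* F) (v : Fin m ⊕ Fin m → F)
      (r : GL (Fin m ⊕ Fin m) F),
      σ ≠ RingEquiv.refl F ∧ QPlus F m v ≠ 0 ∧ (∀ i, σ (v i) = v i) ∧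
      (r : Matrix (Fin m ⊕ Fin m) (Fin m ⊕ Fin m) F) = Cfsg.reflectionMatrix ⇑(QPlus F m) v ∧
      Cfsg.IsInducedBySemilinearPOmega ⇑(QPlus F m) r (RingEquiv.refl F) γ ∧
      Cfsg.IsFieldAutPOmegaOf ⇑(QPlus F m) σ φ ∧ α * x * α⁻¹ = γ * φ)
    (hx2 : orderOf x = 2) (F₀ : Type u) [Field F₀] [Fintype F₀]
    (hF₀ : Fintype.card F₀ = p ^ (f / 2)) :
    2 ∣ f ∧ ∃ (Φ : SemiSimO (QPlus F m)) (j : F₀ →+* F) (ζ : F₀)
      (B : Matrix (Fin m ⊕ Fin m) ((Fin (m - 1) ⊕ Fin (m - 1)) ⊕ Fin 2) F)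
      (B' : Matrix ((Fin (m - 1) ⊕ Fin (m - 1)) ⊕ Fin 2) (Fin m ⊕ Fin m) F) (c μ : F),
      Φ.gam = x ∧ (∀ a : F, Φ.σ a = a ↔ a ∈ Set.range j) ∧ orderOf (Φ.σ : RingAut F) = 2 ∧
      (∀ t : F₀, t ^ 2 + t + ζ ≠ 0) ∧ B * B' = 1 ∧ B' * B = 1 ∧ c ≠ 0 ∧ μ ≠ 0 ∧
      (∀ v : (Fin (m - 1) ⊕ Fin (m - 1)) ⊕ Fin 2 → F₀,
        j (Qgen (m - 1) (binForm 1 ζ) v) = c * QPlus F m (B *ᵥ fun i => j (v i))) ∧
      Φ.mat * B.map Φ.σ = μ • B := by
  classical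
  have hm4 : 4 ≤ m := by omega
  obtain ⟨Φ, hΦ⟩ := exists_semi p hP x
  obtain ⟨hodd, hσne⟩ := graphField_semi hm4 p hP x hx Φ hΦ
  have hpow : Φ.gam ^ 2 = 1 := by rw [hΦ, ← hx2]; exact pow_orderOf_eq_one x
  have hσpow : (Φ.σ : RingAut F) ^ 2 = 1 := by
    rw [← psiO_gam p hP Φ, ← map_pow, hpow, map_one]
  have hord : orderOf (Φ.σ : RingAut F) = 2 := by
    rcases (Nat.dvd_prime Nat.prime_two).mp (orderOf_dvd_of_pow_eq_one hσpow) with h1 | h1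
    · exact absurd (orderOf_eq_one_iff.mp h1) hσne
    · exact h1
  obtain ⟨hdvd, -⟩ := Cfsg.Agent.Lib.Helper16.SplitCount.fixed_field_card hF (Φ.σ : RingAut F) 2
    hord (by norm_num)
  obtain ⟨j, hj⟩ := Cfsg.Agent.Lib.Helper16.SplitCount.exists_embedding hF (Φ.σ : RingAut F) 2
    hord (by norm_num) F₀ hF₀
  obtain ⟨ζ, B, B', c, μ, hζ, hBB', hB'B, hc, hμ, hB, hΦB⟩ :=
    exists_rect_frame hm4 p j Φ hj hord hpow hodd
  exact ⟨hdvd, Φ, j, ζ, B, B', c, μ, hΦ, hj, hord, hζ, hBB', hB'B, hc, hμ, hB, hΦB⟩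

end setup

end Cfsg.Agent.Lib.Helper16.GraphFieldPlus
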