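import Mathlib
import Cfsg.Agent.Lib.Helper16.GraphFieldPlus

/-!
# Involutory graph-field automorphisms of the plus type orthogonal groups, part 2:
the centralizer
-/

set_option autoImplicit false
set_option linter.unusedSectionVars false
set_option linter.unusedVariables false
set_option linter.style.haveILetI false

namespace Cfsg.Agent.Lib.Helper16.GraphFieldPlus

open Matrix Cfsg QuadraticMap Module Cfsg.Agent.Lib.Helper6 Cfsg.Agent.Lib.Helper6.AutOrt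
  Cfsg.Agent.Lib.Helper15 Cfsg.Agent.Lib.Helper6.SimAut Cfsg.Agent.Lib.Helper6.PlusCent
  Cfsg.Agent.Lib.Helper6.OmegaAut Cfsg.Agent.Lib.Helper6.ExtQuad
  Cfsg.Agent.Lib.Helper16.FieldCosetOrth Cfsg.Agent.Lib.Helper16.FieldCentOrth
  Cfsg.Agent.Lib.Helper16.QuadExt Cfsg.Agent.Lib.Helper16.SemiFrame
  Cfsg.Agent.Lib.Helper16.MinusType Cfsg.Agent.Lib.Helper6.Tri
  Cfsg.Agent.Lib.Helper16.PlusType Cfsg.Agent.Lib.Helper16.FieldCentRect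
  Cfsg.Agent.Lib.Helper16.FieldCentOmegaOdd Cfsg.Agent.Lib.Helper16.MinusPSC2
  Cfsg.Agent.Lib.Helper16.FieldCentMinus2 Cfsg.Agent.Lib.Helper16.FieldCosetMinus
open Cfsg.Agent.Lib.Helper6.AutPSL (sG sG_val gl_mul_inv gl_inv_mul)

section cent
universe u v
variable {F : Type v} [Field F] [Fintype F] {m : ℕ} [hS : Std (QPlus F m)]
  {F₀ : Type u} [Field F₀] [Fintype F₀] (j : F₀ →+* F)
  (p : ℕ) [hp : Fact p.Prime] [hcp : CharP F p] [hcp₀ : CharP F₀ p]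

include hp hcp hcp₀ in
/-- the centralizer of an involutory graph-field automorphism in the inner-diagonal group -/
theorem cent_gf (hm : 5 ≤ m) (Φ : SemiSimO (QPlus F m))
    (hj : ∀ a : F, Φ.σ a = a ↔ a ∈ Set.range j) (ζ : F₀) (hζ : ∀ t : F₀, t ^ 2 + t + ζ ≠ 0)
    (B : Matrix (Fin m ⊕ Fin m) ((Fin (m - 1) ⊕ Fin (m - 1)) ⊕ Fin 2) F)
    (B' : Matrix ((Fin (m - 1) ⊕ Fin (m - 1)) ⊕ Fin 2) (Fin m ⊕ Fin m) F)
    (hBB' : B * B' = 1) (hB'B : B' * B = 1) (c μ : F) (hc : c ≠ 0) (hμ : μ ≠ 0)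
    (hB : ∀ v : (Fin (m - 1) ⊕ Fin (m - 1)) ⊕ Fin 2 → F₀,
      j (Qgen (m - 1) (binForm 1 ζ) v) = c * QPlus F m (B *ᵥ fun i => j (v i)))
    (hΦB : Φ.mat * B.map Φ.σ = μ • B) :
    Nonempty (↥(Ip F m ⊓ Subgroup.centralizer {Φ.gam}) ≃*
      ↥(Subgroup.closure (genSet (m - 1) 1 ζ (Cfsg.quadFormMinus (m - 1) F₀ 1 ζ)))) := by
  classical
  have hab₀ := aniso_of_irred ζ hζ
  have hm' : 3 ≤ m - 1 := by omega
  haveI hS₀ := std_minus 1 ζ hab₀ hm'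
  obtain ⟨K₀, hK₀, hK₀eq⟩ := inndiag_eq_map 1 ζ hab₀ p hm'
  have hKs : ∀ g g' : ↥(GO (QPlus F m)), g ∈ Kp F m → ∀ s : F, s ≠ 0 →
      ((g'.1 : GL (Fin m ⊕ Fin m) F) : Matrix (Fin m ⊕ Fin m) (Fin m ⊕ Fin m) F) =
      s • ((g.1 : GL (Fin m ⊕ Fin m) F) : Matrix (Fin m ⊕ Fin m) (Fin m ⊕ Fin m) F) →
      g' ∈ Kp F m := by
    intro g g' hg s hs hgg'
    have e : g' = ⟨scalGL (Units.mk0 s hs), scalGL_mem_GO (QPlus F m) _⟩ * g := by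
      apply Subtype.ext
      apply Units.ext
      change ((g'.1 : GL (Fin m ⊕ Fin m) F) : Matrix (Fin m ⊕ Fin m) (Fin m ⊕ Fin m) F) =
        ((scalGL (Units.mk0 s hs) : GL (Fin m ⊕ Fin m) F) :
          Matrix (Fin m ⊕ Fin m) (Fin m ⊕ Fin m) F) *
        ((g.1 : GL (Fin m ⊕ Fin m) F) : Matrix (Fin m ⊕ Fin m) (Fin m ⊕ Fin m) F)
      rw [hgg', scalGL_val, Matrix.smul_mul, Matrix.one_mul]
      rfl
    rw [e]
    exact Subgroup.mul_mem _ (scal_mem_Kp _) hg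
  have hcompat : ∀ g₀ : ↥(GO (Qgen (m - 1) (binForm 1 ζ))),
      FieldCentRect.mapGO' j (Qgen (m - 1) (binForm 1 ζ)) (QPlus F m) B B' hBB' hB'B c hc hB g₀ ∈
        Kp F m ↔ g₀ ∈ K₀ := by
    intro g₀
    rw [← hK₀]
    exact compat j 1 ζ hab₀ B B' hBB' hB'B c hc hB (by omega) g₀
  obtain ⟨e⟩ := FieldCentRect.cent_iso_sub j (Qgen (m - 1) (binForm 1 ζ)) (QPlus F m) B B' hBB' hB'B
    c hc hB Φ μ hμ hΦB p hj (Kp F m) K₀ hKs hcompat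
  have hfun₀ : Cfsg.quadFormMinus (m - 1) F₀ 1 ζ = ⇑(Qgen (m - 1) (binForm 1 ζ)) := by
    funext v
    rw [Qgen_apply, binForm_apply]
    rfl
  rw [hfun₀, hK₀eq]
  exact ⟨e⟩

end cent

end Cfsg.Agent.Lib.Helper16.GraphFieldPlus
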