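import Mathlib
import Cfsg.Agent.Lib.Helper16.GraphFieldPlus2
import Cfsg.Agent.Lib.Helper6.LamDiag
import Cfsg.Agent.Lib.Helper6.MinusSim

/-!
# Involutory graph-field automorphisms of the plus type orthogonal groups, part 3:
the standard similarity of the minus type form in split coordinates
-/

set_option autoImplicit false
set_option linter.unusedSectionVars false
set_option linter.unusedVariables false
set_option linter.style.haveILetI false

namespace Cfsg.Agent.Lib.Helper16.GraphFieldPlus

open Matrix Cfsg QuadraticMap Module Cfsg.Agent.Lib.Helper6 Cfsg.Agent.Lib.Helper6.AutOrt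
  Cfsg.Agent.Lib.Helper15 Cfsg.Agent.Lib.Helper6.SimAut Cfsg.Agent.Lib.Helper6.PlusCent
  Cfsg.Agent.Lib.Helper6.LamDiag
  Cfsg.Agent.Lib.Helper16.PlusType

section coords
variable {F : Type*} [Field F] (n : ℕ) (a b lam : F) (u : Fin 2 → F)

theorem minusSim_inl_inl (v : (Fin n ⊕ Fin n) ⊕ Fin 2 → F) (i : Fin n) :
    (minusSimMat n a b lam u *ᵥ v) (Sum.inl (Sum.inl i)) = lam * v (Sum.inl (Sum.inl i)) := by
  unfold minusSimMat
  rw [Matrix.fromBlocks_mulVec]
  simp [Matrix.mulVec_diagonal]

theorem minusSim_inl_inr (v : (Fin n ⊕ Fin n) ⊕ Fin 2 → F) (i : Fin n) :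
    (minusSimMat n a b lam u *ᵥ v) (Sum.inl (Sum.inr i)) = v (Sum.inl (Sum.inr i)) := by
  unfold minusSimMat
  rw [Matrix.fromBlocks_mulVec]
  simp [Matrix.mulVec_diagonal]

theorem minusSim_inr_zero (v : (Fin n ⊕ Fin n) ⊕ Fin 2 → F) :
    (minusSimMat n a b lam u *ᵥ v) (Sum.inr 0) =
      u 0 * v (Sum.inr 0) - b * u 1 * v (Sum.inr 1) := by
  unfold minusSimMat
  rw [Matrix.fromBlocks_mulVec]
  simp [Matrix.mulVec, dotProduct, Fin.sum_univ_two]
  ring

theorem minusSim_inr_one (v : (Fin n ⊕ Fin n) ⊕ Fin 2 → F) :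
    (minusSimMat n a b lam u *ᵥ v) (Sum.inr 1) =
      u 1 * v (Sum.inr 0) + (u 0 + a * u 1) * v (Sum.inr 1) := by
  unfold minusSimMat
  rw [Matrix.fromBlocks_mulVec]
  simp [Matrix.mulVec, dotProduct, Fin.sum_univ_two]

theorem minusSimMat_map {F₀ : Type*} [Field F₀] (j : F₀ →+* F) (a₀ b₀ lam₀ : F₀)
    (u₀ : Fin 2 → F₀) :
    (minusSimMat n a₀ b₀ lam₀ u₀).map j =
      minusSimMat n (j a₀) (j b₀) (j lam₀) (fun i => j (u₀ i)) := by
  unfold minusSimMat
  rw [Matrix.fromBlocks_map, Matrix.diagonal_map (map_zero j)]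
  congr 1
  · congr 1
    funext k
    rcases k with k | k <;> simp
  · simp
  · simp
  · ext s t
    fin_cases s <;> fin_cases t <;> simp

/-- the diagonal matrix of the standard similarity in split coordinates -/
def D1 (lam ω ω' : F) : Matrix (Fin (n + 1) ⊕ Fin (n + 1)) (Fin (n + 1) ⊕ Fin (n + 1)) F :=
  Matrix.diagonal (Sum.elim (fun i : Fin (n + 1) => if (i : ℕ) < n then lam else ω)
    (fun i : Fin (n + 1) => if (i : ℕ) < n then 1 else ω'))

/-- the standard similarity is diagonal in split coordinates -/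
theorem Lfun_minusSim (θ θ' z : F) (hsum : θ + θ' = -1) (hprod : θ * θ' = z)
    (v : (Fin n ⊕ Fin n) ⊕ Fin 2 → F) :
    Lfun θ θ' (minusSimMat n 1 z lam u *ᵥ v) =
      D1 n lam (u 0 - θ * u 1) (u 0 - θ' * u 1) *ᵥ Lfun θ θ' v := by
  unfold D1
  funext k
  rw [Matrix.mulVec_diagonal]
  rcases k with k | k
  · refine Fin.lastCases ?_ (fun i => ?_) k
    · rw [Lfun_inl_last, Lfun_inl_last, minusSim_inr_zero, minusSim_inr_one]
      simp only [Sum.elim_inl, Fin.val_last, lt_irrefl, if_false]
      have hθ : θ * θ = -θ - z := by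
        rw [← hprod]
        linear_combination θ * hsum
      linear_combination (-(u 1 * v (Sum.inr 1))) * hθ
    · rw [Lfun_inl_castSucc, Lfun_inl_castSucc, minusSim_inl_inl]
      simp only [Sum.elim_inl, Fin.val_castSucc, i.is_lt, if_true]
  · refine Fin.lastCases ?_ (fun i => ?_) k
    · rw [Lfun_inr_last, Lfun_inr_last, minusSim_inr_zero, minusSim_inr_one]
      simp only [Sum.elim_inr, Fin.val_last, lt_irrefl, if_false]
      have hθ : θ' * θ' = -θ' - z := by
        rw [← hprod]
        linear_combination θ' * hsum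
      linear_combination (-(u 1 * v (Sum.inr 1))) * hθ
    · rw [Lfun_inr_castSucc, Lfun_inr_castSucc, minusSim_inl_inr]
      simp only [Sum.elim_inr, Fin.val_castSucc, i.is_lt, if_true, one_mul]

end coords

section diag
variable (F : Type*) [Field F] [Fintype F] [DecidableEq F] (m : ℕ)

/-- a diagonal isometry `diag(t, t⁻¹)` of the plus type form as a product of reflections -/
theorem diag_list (t : ℕ → F) (ht : ∀ k, t k ≠ 0) :
    ∀ i' : ℕ, i' ≤ m → ∃ vs : List (Fin m ⊕ Fin m → F), (∀ v ∈ vs, QPlus F m v ≠ 0) ∧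
      vs.length = 2 * i' ∧
      (vs.map (fun v => QPlus F m v)).prod = ∏ k ∈ Finset.range i', t k ∧
      (vs.map (fun v => Cfsg.reflectionMatrix ⇑(QPlus F m) v)).prod =
        Matrix.diagonal (fun k => Sum.elim (fun j : Fin m => if (j : ℕ) < i' then t j else 1)
          (fun j : Fin m => if (j : ℕ) < i' then (t j)⁻¹ else 1) k) := by
  have hsingle : ∀ (k k' : Fin m ⊕ Fin m), (Pi.single k (1 : F) : Fin m ⊕ Fin m → F) k' =
      if k' = k then 1 else 0 := fun k k' => by rw [Pi.single_apply]
  intro i'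
  induction i' with
  | zero =>
    intro _
    refine ⟨[], by simp, rfl, by simp, ?_⟩
    rw [List.map_nil, List.prod_nil, ← Matrix.diagonal_one]
    congr 1
    funext k
    rcases k with j | j <;> simp
  | succ i' ih =>
    intro hi'
    obtain ⟨vs, hvs, hlen, hprod, hmat⟩ := ih (by omega)
    have hjm : i' < m := by omega
    set j : Fin m := ⟨i', hjm⟩ with hj
    obtain ⟨h1, h3, h4⟩ := refl_pair_lam (QPlus F m) (Sum.inl j) (Sum.inr j) (by simp)
      (by
        intro x
        rw [polar_QPlus]
        simp [hsingle, Finset.sum_ite_eq'])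
      (by
        intro x
        rw [polar_QPlus]
        simp [hsingle, Finset.sum_ite_eq'])
      (by
        rw [QPlus_apply]
        unfold Cfsg.quadFormPlus
        simp [hsingle])
      (by
        rw [QPlus_apply]
        unfold Cfsg.quadFormPlus
        simp [hsingle]) (t i') (ht i')
    refine ⟨vs ++ [Pi.single (Sum.inl j) 1 - Pi.single (Sum.inr j) 1,
      Pi.single (Sum.inl j) 1 - t i' • Pi.single (Sum.inr j) 1], ?_, ?_, ?_, ?_⟩
    · intro v hv
      rcases List.mem_append.mp hv with hv | hv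
      · exact hvs v hv
      · simp only [List.mem_cons, List.mem_nil_iff, or_false] at hv
        rcases hv with rfl | rfl
        · rw [h1]; exact neg_ne_zero.mpr one_ne_zero
        · rw [h3]; exact neg_ne_zero.mpr (ht i')
    · rw [List.length_append, hlen]
      simp
      ring
    · rw [List.map_append, List.prod_append, hprod, Finset.prod_range_succ]
      simp only [List.map_cons, List.map_nil, List.prod_cons, List.prod_nil, h1, h3]
      ring
    · rw [List.map_append, List.prod_append, hmat]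
      simp only [List.map_cons, List.map_nil, List.prod_cons, List.prod_nil, Matrix.mul_one]
      rw [h4, Matrix.diagonal_mul_diagonal]
      congr 1
      funext k
      rcases k with j' | j'
      · simp only [Sum.elim_inl, Sum.inl.injEq, reduceCtorEq, if_false]
        by_cases hjj : j' = j
        · rw [if_pos hjj]
          have : (j' : ℕ) = i' := by rw [hjj]
          rw [if_neg (by omega), if_pos (by omega), one_mul, this]
        · rw [if_neg hjj, mul_one]
          have : (j' : ℕ) ≠ i' := fun h => hjj (Fin.ext h)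
          by_cases hlt : (j' : ℕ) < i'
          · rw [if_pos hlt, if_pos (by omega)]
          · rw [if_neg hlt, if_neg (by omega)]
      · simp only [Sum.elim_inr, Sum.inr.injEq, reduceCtorEq, if_false]
        by_cases hjj : j' = j
        · rw [if_pos hjj]
          have : (j' : ℕ) = i' := by rw [hjj]
          rw [if_neg (by omega), if_pos (by omega), one_mul, this]
        · rw [if_neg hjj, mul_one]
          have : (j' : ℕ) ≠ i' := fun h => hjj (Fin.ext h)
          by_cases hlt : (j' : ℕ) < i'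
          · rw [if_pos hlt, if_pos (by omega)]
          · rw [if_neg hlt, if_neg (by omega)]

end diag

section D2
variable {F : Type*} [Field F] [Fintype F] [DecidableEq F] (n : ℕ)

/-- the isometry part of the standard similarity -/
def D2 (ρ ε : F) : Matrix (Fin (n + 1) ⊕ Fin (n + 1)) (Fin (n + 1) ⊕ Fin (n + 1)) F :=
  Matrix.diagonal (Sum.elim (fun i : Fin (n + 1) => if (i : ℕ) < n then ρ else ε)
    (fun i : Fin (n + 1) => if (i : ℕ) < n then ρ⁻¹ else ε⁻¹))

theorem D1_eq_smul_D2 (ρ ε : F) (hρ : ρ ≠ 0) :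
    D1 n (ρ * ρ) (ρ * ε) (ρ * ε⁻¹) = ρ • D2 n ρ ε := by
  unfold D1 D2
  rw [← Matrix.diagonal_smul]
  congr 1
  funext k
  rcases k with i | i
  · simp only [Sum.elim_inl, Pi.smul_apply, smul_eq_mul]
    split_ifs <;> rfl
  · simp only [Sum.elim_inr, Pi.smul_apply, smul_eq_mul]
    split_ifs
    · rw [mul_inv_cancel₀ hρ]
    · rfl

/-- the isometry part of the standard similarity, as a product of reflections -/
theorem D2_list (ρ ε : F) (hρ : ρ ≠ 0) (hε : ε ≠ 0) :
    ∃ vs : List (Fin (n + 1) ⊕ Fin (n + 1) → F), (∀ v ∈ vs, QPlus F (n + 1) v ≠ 0) ∧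
      vs.length = 2 * (n + 1) ∧
      (vs.map (fun v => QPlus F (n + 1) v)).prod = ρ ^ n * ε ∧
      (vs.map (fun v => Cfsg.reflectionMatrix ⇑(QPlus F (n + 1)) v)).prod = D2 n ρ ε := by
  obtain ⟨vs, hvs, hlen, hprod, hmat⟩ := diag_list F (n + 1) (fun k => if k < n then ρ else ε)
    (fun k => by split_ifs <;> assumption) (n + 1) le_rfl
  refine ⟨vs, hvs, hlen, ?_, ?_⟩
  · rw [hprod, Finset.prod_range_succ, if_neg (lt_irrefl n)]
    congr 1
    rw [Finset.prod_congr rfl (fun k hk => if_pos (Finset.mem_range.mp hk)), Finset.prod_const,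
      Finset.card_range]
  · rw [hmat]
    unfold D2
    congr 1
    funext k
    rcases k with i | i
    · simp only [Sum.elim_inl, i.is_lt, if_true]
    · simp only [Sum.elim_inr, i.is_lt, if_true]
      by_cases hi : (i : ℕ) < n
      · rw [if_pos hi, if_pos hi]
      · rw [if_neg hi, if_neg hi]

end D2

end Cfsg.Agent.Lib.Helper16.GraphFieldPlus
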