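import Mathlib
import Cfsg.Agent.Lib.Helper16.GraphFieldPlus3

/-!
# Involutory graph-field automorphisms of the plus type orthogonal groups, part 4:
the conjugated base change of the standard similarity
-/

set_option autoImplicit false
set_option linter.unusedSectionVars false
set_option linter.unusedVariables false
set_option linter.style.haveILetI false

namespace Cfsg.Agent.Lib.Helper16.GraphFieldPlus

open Matrix Cfsg QuadraticMap Module Cfsg.Agent.Lib.Helper6 Cfsg.Agent.Lib.Helper6.AutOrt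
  Cfsg.Agent.Lib.Helper15 Cfsg.Agent.Lib.Helper6.SimAut Cfsg.Agent.Lib.Helper6.PlusCent
  Cfsg.Agent.Lib.Helper6.OmegaAut Cfsg.Agent.Lib.Helper6.LamDiag
  Cfsg.Agent.Lib.Helper16.FieldCosetOrth Cfsg.Agent.Lib.Helper16.FieldCentOrth
  Cfsg.Agent.Lib.Helper16.QuadExt Cfsg.Agent.Lib.Helper16.SemiFrame
  Cfsg.Agent.Lib.Helper16.MinusType Cfsg.Agent.Lib.Helper6.Tri
  Cfsg.Agent.Lib.Helper16.PlusType Cfsg.Agent.Lib.Helper16.FieldCentRect
open Cfsg.Agent.Lib.Helper6.AutPSL (sG sG_val gl_mul_inv gl_inv_mul)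

section rect
variable {F : Type*} [Field F] [Fintype F] {n : ℕ} [hS : Std (QPlus F (n + 1))]
  {F₀ : Type*} [Field F₀] [Fintype F₀] (j : F₀ →+* F) (ζ : F₀)
  (B : Matrix (Fin (n + 1) ⊕ Fin (n + 1)) ((Fin n ⊕ Fin n) ⊕ Fin 2) F)
  (B' : Matrix ((Fin n ⊕ Fin n) ⊕ Fin 2) (Fin (n + 1) ⊕ Fin (n + 1)) F)
  (hBB' : B * B' = 1) (hB'B : B' * B = 1) (c : F) (hc : c ≠ 0)
  (hB : ∀ v : (Fin n ⊕ Fin n) ⊕ Fin 2 → F₀,
    j (Qgen n (binForm 1 ζ) v) = c * QPlus F (n + 1) (B *ᵥ fun i => j (v i)))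

include hB in
/-- the form in the frame, over the big field -/
theorem frame_form_rect (w : (Fin n ⊕ Fin n) ⊕ Fin 2 → F) :
    c * QPlus F (n + 1) (B *ᵥ w) = Qgen n (binForm 1 (j ζ)) w := by
  have h1 := qf_ext j (c • (QPlus F (n + 1)).comp (Matrix.toLin' B))
    (Qgen n (binForm 1 (j ζ))) (fun v => ?_) w
  · rwa [_root_.smul_apply, PlusType.comp_toLin_apply_rect, smul_eq_mul] at h1
  · rw [_root_.smul_apply, PlusType.comp_toLin_apply_rect, smul_eq_mul, ← hB, Qgen_map]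
    rw [Qgen_apply, binForm_apply]
    rfl

include hB'B hc hB in
/-- the binary part of the descended form splits over the big field -/
theorem exists_root_rect : ∃ θ : F, θ ^ 2 + θ + j ζ = 0 := by
  classical
  by_contra hroot
  push Not at hroot
  have hab : ∀ z₁ z₂ : F, z₁ ^ 2 + 1 * z₁ * z₂ + j ζ * z₂ ^ 2 = 0 → z₁ = 0 ∧ z₂ = 0 :=
    aniso_of_irred (j ζ) hroot
  have hinj : Function.Injective (Matrix.toLin' B) := by
    intro x y hxy
    rw [Matrix.toLin'_apply, Matrix.toLin'_apply] at hxy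
    have h1 : ∀ z, B' *ᵥ (B *ᵥ z) = z := by
      intro z
      rw [Matrix.mulVec_mulVec, hB'B, Matrix.one_mulVec]
    rw [← h1 x, ← h1 y, hxy]
  obtain ⟨Ke, hKe⟩ : ∃ Ke : ((Fin n ⊕ Fin n) ⊕ Fin 2 → F) ≃ₗ[F]
      (Fin (n + 1) ⊕ Fin (n + 1) → F), ∀ v, Ke v = B *ᵥ v := by
    refine ⟨LinearMap.linearEquivOfInjective (Matrix.toLin' B) hinj ?_, fun v => ?_⟩
    · rw [Module.finrank_fintype_fun_eq_card, Module.finrank_fintype_fun_eq_card]
      simp only [Fintype.card_sum, Fintype.card_fin]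
      ring
    · rw [LinearMap.linearEquivOfInjective_apply, Matrix.toLin'_apply]
  refine not_plus (RingHom.id F) 1 (j ζ) hab ((QPlus F (n + 1)).comp (Matrix.toLin' B)) 1 c⁻¹
    (inv_ne_zero hc) (fun v => ?_) Ke (fun v => ?_)
  · rw [RingHom.id_apply, PlusType.comp_toLin_apply_rect, Units.val_one, Matrix.one_mulVec]
    change _ = c⁻¹ * Qgen n (binForm 1 (j ζ)) v
    rw [← frame_form_rect j ζ B c hB, ← mul_assoc, inv_mul_cancel₀ hc, one_mul]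
  · rw [PlusType.comp_toLin_apply_rect, hKe, QPlus_apply]

/-- the diagonal matrix `D1` is a similarity -/
theorem D1_sim (lam ω ω' : F) (h : ω * ω' = lam) (w : Fin (n + 1) ⊕ Fin (n + 1) → F) :
    QPlus F (n + 1) (D1 n lam ω ω' *ᵥ w) = lam * QPlus F (n + 1) w := by
  rw [QPlus_apply, QPlus_apply]
  unfold Cfsg.quadFormPlus D1
  rw [Finset.mul_sum]
  apply Finset.sum_congr rfl
  intro i _
  rw [Matrix.mulVec_diagonal, Matrix.mulVec_diagonal]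
  simp only [Sum.elim_inl, Sum.elim_inr]
  split_ifs
  · ring
  · rw [← h]
    ring

include hBB' hB'B hc hB in
/-- the conjugated base change of the standard similarity is conjugate to a diagonal matrix -/
theorem mapGO'_minusSim (θ : F) (hθ : θ ^ 2 + θ + j ζ = 0) (hne : θ ≠ -1 - θ)
    (lam₀ : F₀) (u : Fin 2 → F₀) (hu : binForm 1 ζ u = lam₀)
    (g₀ : ↥(GO (Qgen n (binForm 1 ζ))))
    (hg₀ : ((g₀.1 : GL ((Fin n ⊕ Fin n) ⊕ Fin 2) F₀) :
      Matrix ((Fin n ⊕ Fin n) ⊕ Fin 2) ((Fin n ⊕ Fin n) ⊕ Fin 2) F₀) =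
      minusSimMat n 1 ζ lam₀ u) (hlam : lam₀ ≠ 0) :
    ∃ Bs Dg : ↥(GO (QPlus F (n + 1))),
      ((Dg.1 : GL (Fin (n + 1) ⊕ Fin (n + 1)) F) :
        Matrix (Fin (n + 1) ⊕ Fin (n + 1)) (Fin (n + 1) ⊕ Fin (n + 1)) F) =
        D1 n (j lam₀) (j (u 0) - θ * j (u 1)) (j (u 0) - (-1 - θ) * j (u 1)) ∧
      FieldCentRect.mapGO' j (Qgen n (binForm 1 ζ)) (QPlus F (n + 1)) B B' hBB' hB'B c hc hB g₀ =
        Bs * Dg * Bs⁻¹ := by
  classical
  obtain ⟨θ', hθ'⟩ : ∃ θ', θ' = -1 - θ := ⟨_, rfl⟩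
  rw [← hθ'] at hne ⊢
  have hsum : θ + θ' = -1 := by rw [hθ']; ring
  have hprod : θ * θ' = j ζ := by rw [hθ']; linear_combination -hθ
  obtain ⟨Le, hLe⟩ : ∃ Le : ((Fin n ⊕ Fin n) ⊕ Fin 2 → F) ≃ₗ[F]
      (Fin (n + 1) ⊕ Fin (n + 1) → F), ∀ v, Le v = Lmap θ θ' v := by
    refine ⟨LinearMap.linearEquivOfInjective (Lmap θ θ') (Lmap_injective θ θ' hne) ?_,
      fun v => rfl⟩
    rw [Module.finrank_fintype_fun_eq_card, Module.finrank_fintype_fun_eq_card]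
    simp only [Fintype.card_sum, Fintype.card_fin]
    ring
  obtain ⟨Bm, hBm⟩ : ∃ Bm : Matrix (Fin (n + 1) ⊕ Fin (n + 1)) (Fin (n + 1) ⊕ Fin (n + 1)) F,
      Bm = LinearMap.toMatrix' ((Matrix.toLin' B) ∘ₗ Le.symm.toLinearMap) := ⟨_, rfl⟩
  have hBmv : ∀ w, Bm *ᵥ w = B *ᵥ (Le.symm w) := by
    intro w
    rw [hBm, LinearMap.toMatrix'_mulVec]
    rfl
  have hsim : ∀ w, QPlus F (n + 1) (Bm *ᵥ w) = c⁻¹ * QPlus F (n + 1) w := by
    intro w
    have h1 := frame_form_rect j ζ B c hB (Le.symm w)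
    rw [← QPlus_Lmap θ θ' (j ζ) hsum hprod, ← hLe, LinearEquiv.apply_symm_apply] at h1
    rw [hBmv, ← h1, ← mul_assoc, inv_mul_cancel₀ hc, one_mul]
  obtain ⟨Bs, hBs⟩ := exists_GO_of_sim Bm c⁻¹ (inv_ne_zero hc) hsim
  have hωω' : (j (u 0) - θ * j (u 1)) * (j (u 0) - θ' * j (u 1)) = j lam₀ := by
    rw [← hu, binForm_apply, map_add, map_add, map_mul, map_mul, map_mul, map_pow, map_pow,
      map_one, ← hprod]
    linear_combination (-(j (u 0) * j (u 1))) * hsum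
  have hjlam : j lam₀ ≠ 0 := (map_ne_zero j).mpr hlam
  obtain ⟨Dg, hDg⟩ := exists_GO_of_sim
    (D1 n (j lam₀) (j (u 0) - θ * j (u 1)) (j (u 0) - θ' * j (u 1))) (j lam₀) hjlam
    (D1_sim _ _ _ hωω')
  refine ⟨Bs, Dg, hDg, ?_⟩
  rw [eq_mul_inv_iff_mul_eq]
  apply Subtype.ext
  apply Units.ext
  change ((FieldCentRect.mapGO' j (Qgen n (binForm 1 ζ)) (QPlus F (n + 1)) B B' hBB' hB'B c hc hB
      g₀).1 : Matrix (Fin (n + 1) ⊕ Fin (n + 1)) (Fin (n + 1) ⊕ Fin (n + 1)) F) *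
      ((Bs.1 : GL (Fin (n + 1) ⊕ Fin (n + 1)) F) :
        Matrix (Fin (n + 1) ⊕ Fin (n + 1)) (Fin (n + 1) ⊕ Fin (n + 1)) F) =
    ((Bs.1 : GL (Fin (n + 1) ⊕ Fin (n + 1)) F) :
        Matrix (Fin (n + 1) ⊕ Fin (n + 1)) (Fin (n + 1) ⊕ Fin (n + 1)) F) *
      ((Dg.1 : GL (Fin (n + 1) ⊕ Fin (n + 1)) F) :
        Matrix (Fin (n + 1) ⊕ Fin (n + 1)) (Fin (n + 1) ⊕ Fin (n + 1)) F)
  rw [FieldCentRect.mapGO'_val, hBs, hDg, hg₀, minusSimMat_map]
  apply matrix_ext_mulVec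
  intro w
  have hB'Bv : ∀ z, B' *ᵥ (B *ᵥ z) = z := by
    intro z
    rw [Matrix.mulVec_mulVec, hB'B, Matrix.one_mulVec]
  rw [← Matrix.mulVec_mulVec, ← Matrix.mulVec_mulVec, ← Matrix.mulVec_mulVec, hBmv,
    ← Matrix.mulVec_mulVec, hBmv, hB'Bv]
  congr 1
  apply Le.injective
  rw [LinearEquiv.apply_symm_apply, hLe, Lmap_apply, map_one]
  have := Lfun_minusSim n (j lam₀) (fun i => j (u i)) θ θ' (j ζ) hsum hprod (Le.symm w)
  rw [this, ← Lmap_apply, ← hLe, LinearEquiv.apply_symm_apply]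

end rect

end Cfsg.Agent.Lib.Helper16.GraphFieldPlus
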