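import Mathlib
import Cfsg.Agent.Lib.Helper16.GraphFieldPlus4
import Cfsg.Agent.Lib.Helper6.PlusCentH
import Cfsg.Agent.S2729

/-!
# Involutory graph-field automorphisms of the plus type orthogonal groups, part 5:
which centralizing similarities induce inner automorphisms
-/

set_option autoImplicit false
set_option linter.unusedSectionVars false
set_option linter.unusedVariables false
set_option linter.style.haveILetI false

namespace Cfsg.Agent.Lib.Helper16.GraphFieldPlus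

open Matrix Cfsg QuadraticMap Module Cfsg.Agent.Lib.Helper6 Cfsg.Agent.Lib.Helper6.AutOrt
  Cfsg.Agent.Lib.Helper15 Cfsg.Agent.Lib.Helper6.SimAut Cfsg.Agent.Lib.Helper6.PlusCent
  Cfsg.Agent.Lib.Helper6.OmegaAut Cfsg.Agent.Lib.Helper6.LamDiag
  Cfsg.Agent.Lib.Helper16.FieldCosetOrth Cfsg.Agent.Lib.Helper16.FieldCentOrth
  Cfsg.Agent.Lib.Helper16.QuadExt Cfsg.Agent.Lib.Helper16.SemiFrame
  Cfsg.Agent.Lib.Helper16.MinusType Cfsg.Agent.Lib.Helper6.Tri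
  Cfsg.Agent.Lib.Helper16.PlusType Cfsg.Agent.Lib.Helper16.FieldCentRect
  Cfsg.Agent.Lib.Helper16.FieldCentOmegaOdd
open Cfsg.Agent.Lib.Helper6.AutPSL (sG sG_val gl_mul_inv gl_inv_mul)

section numbers
variable {F : Type*} [Field F] [Fintype F] {F₀ : Type*} [Field F₀] [Fintype F₀] (j : F₀ →+* F)
  (τ : F ≃+* F) (hj : ∀ a : F, τ a = a ↔ a ∈ Set.range j) (hτ2 : ∀ a : F, τ (τ a) = a)
  (ζ : F₀) (hζ : ∀ t : F₀, t ^ 2 + t + ζ ≠ 0) (θ : F) (hθ : θ ^ 2 + θ + j ζ = 0)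

include hj hζ hθ in
/-- the involution exchanges the two roots -/
theorem tau_root : τ θ = -1 - θ ∧ θ ≠ -1 - θ := by
  have hjfix : ∀ a : F₀, τ (j a) = j a := fun a => (hj _).mpr ⟨a, rfl⟩
  have h1 : τ θ ^ 2 + τ θ + j ζ = 0 := by
    have := congrArg τ hθ
    rwa [map_add, map_add, map_pow, hjfix, map_zero] at this
  have hne : τ θ ≠ θ := by
    intro h
    obtain ⟨t, ht⟩ := (hj θ).mp h
    apply hζ t
    apply RingHom.injective j
    rw [map_add, map_add, map_pow, ht, hθ, map_zero]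
  have h2 : (τ θ - θ) * (τ θ + θ + 1) = 0 := by linear_combination h1 - hθ
  rcases mul_eq_zero.mp h2 with h | h
  · exact absurd (sub_eq_zero.mp h) hne
  · have e : τ θ = -1 - θ := by linear_combination h
    refine ⟨e, ?_⟩
    rw [← e]
    exact hne.symm

include hj hτ2 hζ hθ in
/-- the eigenvalue of the standard similarity on the split line is not a square -/
theorem omega_not_isSquare (lam₀ : F₀) (hlam₀ : ¬ IsSquare lam₀) (u : Fin 2 → F₀)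
    (hu : binForm 1 ζ u = lam₀) : ¬ IsSquare (j (u 0) - θ * j (u 1)) := by
  have hjfix : ∀ a : F₀, τ (j a) = j a := fun a => (hj _).mpr ⟨a, rfl⟩
  obtain ⟨hτθ, -⟩ := tau_root j τ hj ζ hζ θ hθ
  rintro ⟨η, hη⟩
  have hτω : τ (j (u 0) - θ * j (u 1)) = j (u 0) - (-1 - θ) * j (u 1) := by
    rw [map_sub, map_mul, hjfix, hjfix, hτθ]
  have hprod : (j (u 0) - θ * j (u 1)) * (j (u 0) - (-1 - θ) * j (u 1)) = j lam₀ := by
    rw [← hu, binForm_apply, map_add, map_add, map_mul, map_mul, map_mul, map_pow, map_pow,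
      map_one]
    linear_combination (-(j (u 1)) ^ 2) * hθ
  have hfix : τ (η * τ η) = η * τ η := by rw [map_mul, hτ2, mul_comm]
  obtain ⟨t, ht⟩ := (hj _).mp hfix
  apply hlam₀
  refine ⟨t, ?_⟩
  apply RingHom.injective j
  rw [map_mul, ht, ← hprod, ← hτω, hη, map_mul]
  ring

include hj hτ2 hζ hθ in
/-- the spinor norm of the isometry part of the standard similarity -/
theorem gf_isSquare_iff (h2 : (2 : F) ≠ 0) (hodd₀ : Odd (Fintype.card F₀))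
    (hcard : Fintype.card F = Fintype.card F₀ ^ 2) (lam₀ : F₀) (hlam₀ : ¬ IsSquare lam₀)
    (u : Fin 2 → F₀) (hu : binForm 1 ζ u = lam₀) (ρ : F) (hρ : ρ * ρ = j lam₀) (n : ℕ) :
    IsSquare (ρ ^ n * ((j (u 0) - θ * j (u 1)) / ρ)) ↔
      (Odd (n + 1) ∧ Fintype.card F₀ % 4 = 1) := by
  classical
  have hω := omega_not_isSquare j τ hj hτ2 ζ hζ θ hθ lam₀ hlam₀ u hu
  obtain ⟨ω, hωdef⟩ : ∃ ω, ω = j (u 0) - θ * j (u 1) := ⟨_, rfl⟩
  rw [← hωdef] at hω ⊢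
  have hlam₀0 : lam₀ ≠ 0 := by
    rintro rfl
    exact hlam₀ ⟨0, (mul_zero 0).symm⟩
  have hρ0 : ρ ≠ 0 := by
    rintro rfl
    rw [mul_zero] at hρ
    exact (map_ne_zero j).mpr hlam₀0 hρ.symm
  have hω0 : ω ≠ 0 := by
    rintro rfl
    exact hω ⟨0, (mul_zero 0).symm⟩
  have hρsq := isSquare_sqrt_iff j h2 hodd₀ hcard ρ lam₀ hlam₀0 hρ
  have hstep : IsSquare (ρ ^ n * (ω / ρ)) ↔ IsSquare (ρ ^ (n + 1) * ω) := by
    have e : ρ ^ (n + 1) * ω = ρ ^ n * (ω / ρ) * (ρ * ρ) := by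
      field_simp
      ring
    rw [e]
    constructor
    · intro h
      exact h.mul ⟨ρ, rfl⟩
    · rintro ⟨s, hs⟩
      refine ⟨s / ρ, ?_⟩
      have e2 : s / ρ * (s / ρ) = s * s / (ρ * ρ) := by field_simp
      rw [e2, ← hs]
      field_simp
  rw [hstep]
  have hq : Fintype.card F₀ % 4 = 1 ∨ Fintype.card F₀ % 4 = 3 := by
    obtain ⟨k, hk⟩ := hodd₀
    omega
  have hmulns : ∀ a b : F, IsSquare a → a ≠ 0 → ¬ IsSquare b → ¬ IsSquare (a * b) := by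
    rintro a b ⟨s, rfl⟩ ha hb ⟨t, ht⟩
    apply hb
    have hs : s ≠ 0 := fun h => ha (by rw [h, mul_zero])
    refine ⟨t / s, ?_⟩
    field_simp
    rw [pow_two t, ← ht]
    ring
  by_cases hρs : IsSquare ρ
  · have hq3 : Fintype.card F₀ % 4 = 3 := by
      rcases hρsq.mp hρs with h | h
      · exact h
      · exact absurd h hlam₀
    constructor
    · intro h
      exact absurd h (hmulns _ _ (hρs.pow _) (pow_ne_zero _ hρ0) hω)
    · rintro ⟨-, h⟩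
      omega
  · have hq1 : Fintype.card F₀ % 4 = 1 := by
      rcases hq with h | h
      · exact h
      · exact absurd (hρsq.mpr (Or.inl h)) hρs
    rcases Nat.even_or_odd (n + 1) with he | ho
    · constructor
      · intro h
        exact absurd h (hmulns _ _ ((isSquare_pow_iff F (n + 1) ρ hρs hρ0).mpr he)
          (pow_ne_zero _ hρ0) hω)
      · rintro ⟨h, -⟩
        exact absurd he (Nat.not_even_iff_odd.mpr h)
    · constructor
      · intro _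
        exact ⟨ho, hq1⟩
      · intro _
        apply isSquare_mul_of_not h2 _ _ _ hω
        rw [isSquare_pow_iff F (n + 1) ρ hρs hρ0]
        exact Nat.not_even_iff_odd.mpr ho

end numbers

section rect
universe u
variable {F : Type*} [Field F] [Fintype F] {n : ℕ} [hS : Std (QPlus F (n + 1))]
  {F₀ : Type u} [Field F₀] [Fintype F₀] (j : F₀ →+* F) (ζ : F₀)
  (B : Matrix (Fin (n + 1) ⊕ Fin (n + 1)) ((Fin n ⊕ Fin n) ⊕ Fin 2) F)
  (B' : Matrix ((Fin n ⊕ Fin n) ⊕ Fin 2) (Fin (n + 1) ⊕ Fin (n + 1)) F)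
  (hBB' : B * B' = 1) (hB'B : B' * B = 1) (c : F) (hc : c ≠ 0)
  (hB : ∀ v : (Fin n ⊕ Fin n) ⊕ Fin 2 → F₀,
    j (Qgen n (binForm 1 ζ) v) = c * QPlus F (n + 1) (B *ᵥ fun i => j (v i)))

/-- the multiplier of a conjugated base change -/
theorem mulr_mapGO'_rect (g₀ : ↥(GO (Qgen n (binForm 1 ζ)))) :
    mulr (QPlus F (n + 1))
      (FieldCentRect.mapGO' j (Qgen n (binForm 1 ζ)) (QPlus F (n + 1)) B B' hBB' hB'B c hc hB g₀) =
      Units.map (j : F₀ →* F) (mulr (Qgen n (binForm 1 ζ)) g₀) := by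
  obtain ⟨v₀, hv₀⟩ := SemiSimO.exists_Q_ne_zero (Q := QPlus F (n + 1))
  apply mulr_eq (QPlus F (n + 1)) v₀ hv₀
  intro v
  rw [FieldCentRect.mapGO'_val]
  exact sim_conj j _ _ B B' hBB' c hc hB _ _ (mulr_spec _ g₀) v

variable (p : ℕ) [hp : Fact p.Prime] [hcp : CharP F p]

include hp hcp in
/-- a class preserving similarity over the subfield with square multiplier induces an inner
automorphism -/
theorem fGO_mapGO'_mem_Inn_of_sq (hn : 3 ≤ n) (hζ : ∀ t : F₀, t ^ 2 + t + ζ ≠ 0)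
    (h2 : (2 : F) ≠ 0) (hodd₀ : Odd (Fintype.card F₀))
    (hcard : Fintype.card F = Fintype.card F₀ ^ 2)
    (g₀ : ↥(GO (Qgen n (binForm 1 ζ))))
    (hpsc : Cfsg.PreservesSingularClassesMinus n 1 ζ
      ((g₀.1 : GL ((Fin n ⊕ Fin n) ⊕ Fin 2) F₀) :
        Matrix ((Fin n ⊕ Fin n) ⊕ Fin 2) ((Fin n ⊕ Fin n) ⊕ Fin 2) F₀))
    (s₀ : F₀) (hs₀ : ((mulr (Qgen n (binForm 1 ζ)) g₀ : F₀ˣ) : F₀) = s₀ * s₀) :
    fGO (QPlus F (n + 1))
      (FieldCentRect.mapGO' j (Qgen n (binForm 1 ζ)) (QPlus F (n + 1)) B B' hBB' hB'B c hc hB g₀) ∈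
      Cfsg.Inn (Cfsg.POmega F ⇑(QPlus F (n + 1))) := by
  classical
  have hab₀ := aniso_of_irred ζ hζ
  have hnd := nondegenerate_Qgen n (binForm 1 ζ) (nondegenerate_binForm 1 ζ hab₀)
  have hs₀0 : s₀ ≠ 0 := by
    rintro rfl
    rw [mul_zero] at hs₀
    exact Units.ne_zero _ hs₀
  obtain ⟨su, hsu⟩ : ∃ su : F₀ˣ, su = Units.mk0 s₀ hs₀0 := ⟨_, rfl⟩
  have hsuinv : ((su⁻¹ : F₀ˣ) : F₀) = s₀⁻¹ := by rw [Units.val_inv_eq_inv_val, hsu]; rfl
  have hmem : (scalGL su⁻¹ : GL ((Fin n ⊕ Fin n) ⊕ Fin 2) F₀) * g₀.1 ∈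
      Cfsg.isometryGroup F₀ ⇑(Qgen n (binForm 1 ζ)) := by
    rw [OmegaAut.mem_isometryGroup_iff]
    intro u
    rw [Units.val_mul, ← Matrix.mulVec_mulVec, scalGL_val, Matrix.smul_mulVec,
      Matrix.one_mulVec, Q_smul, mulr_spec, hs₀, hsuinv]
    field_simp
  have h4 : Fintype.card ((Fin n ⊕ Fin n) ⊕ Fin 2) ≠ 4 := by rw [card_JJ]; omega
  obtain ⟨vs, hvs, hprod⟩ := exists_list' (Qgen n (binForm 1 ζ)) hnd (Or.inr h4) ⟨_, hmem⟩
  have hg : ((g₀.1 : GL ((Fin n ⊕ Fin n) ⊕ Fin 2) F₀) :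
      Matrix ((Fin n ⊕ Fin n) ⊕ Fin 2) ((Fin n ⊕ Fin n) ⊕ Fin 2) F₀) =
      s₀ • (vs.map (fun v => Cfsg.reflectionMatrix ⇑(Qgen n (binForm 1 ζ)) v)).prod := by
    rw [← hprod]
    change _ = s₀ • ((scalGL su⁻¹ * g₀.1 : GL ((Fin n ⊕ Fin n) ⊕ Fin 2) F₀) :
      Matrix ((Fin n ⊕ Fin n) ⊕ Fin 2) ((Fin n ⊕ Fin n) ⊕ Fin 2) F₀)
    rw [Units.val_mul, scalGL_val, Matrix.smul_mul, Matrix.one_mul, smul_smul, hsuinv,
      mul_inv_cancel₀ hs₀0, one_smul]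
  have heven : Even vs.length := by
    rw [hg] at hpsc
    exact (Cfsg.Agent.Lib.Helper16.MinusPSC2.pscMinus_list n 1 ζ hab₀ s₀ hs₀0 vs hvs).mp hpsc
  have hjs : j s₀ ≠ 0 := (map_ne_zero j).mpr hs₀0
  obtain ⟨ws, hws⟩ : ∃ ws : List (Fin (n + 1) ⊕ Fin (n + 1) → F),
      ws = vs.map (fun v : (Fin n ⊕ Fin n) ⊕ Fin 2 → F₀ => B *ᵥ fun i => j (v i)) := ⟨_, rfl⟩
  have hQw : ∀ v : (Fin n ⊕ Fin n) ⊕ Fin 2 → F₀,
      QPlus F (n + 1) (B *ᵥ fun i => j (v i)) = c⁻¹ * j (Qgen n (binForm 1 ζ) v) := by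
    intro v
    rw [hB v, ← mul_assoc, inv_mul_cancel₀ hc, one_mul]
  have hwsQ : ∀ w ∈ ws, QPlus F (n + 1) w ≠ 0 := by
    intro w hw
    rw [hws] at hw
    obtain ⟨v, hv, rfl⟩ := List.mem_map.mp hw
    rw [hQw]
    exact mul_ne_zero (inv_ne_zero hc) ((map_ne_zero j).mpr (hvs v hv))
  obtain ⟨G', -, hG'⟩ := exists_GO_of_list ws hwsQ
  have e : FieldCentRect.mapGO' j (Qgen n (binForm 1 ζ)) (QPlus F (n + 1)) B B' hBB' hB'B c hc hB
      g₀ = ⟨scalGL (Units.mk0 (j s₀) hjs), scalGL_mem_GO (QPlus F (n + 1)) _⟩ * G' := by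
    apply Subtype.ext
    apply Units.ext
    change ((FieldCentRect.mapGO' j (Qgen n (binForm 1 ζ)) (QPlus F (n + 1)) B B' hBB' hB'B c hc
        hB g₀).1 : Matrix (Fin (n + 1) ⊕ Fin (n + 1)) (Fin (n + 1) ⊕ Fin (n + 1)) F) =
      ((scalGL (Units.mk0 (j s₀) hjs) : GL (Fin (n + 1) ⊕ Fin (n + 1)) F) :
        Matrix (Fin (n + 1) ⊕ Fin (n + 1)) (Fin (n + 1) ⊕ Fin (n + 1)) F) *
      ((G'.1 : GL (Fin (n + 1) ⊕ Fin (n + 1)) F) :
        Matrix (Fin (n + 1) ⊕ Fin (n + 1)) (Fin (n + 1) ⊕ Fin (n + 1)) F)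
    rw [FieldCentRect.mapGO'_val, hg, Matrix.map_smul' j s₀ _ (map_mul j), Matrix.mul_smul,
      Matrix.smul_mul, conj_refl_list j _ _ B B' hBB' hB'B c hc hB vs, hG', scalGL_val,
      Matrix.smul_mul, Matrix.one_mul, hws]
    rfl
  rw [e, map_mul, fGO_scal p (by omega), one_mul]
  apply fGO_list_mem_Inn p h2 G' ws hwsQ hG'
  · rw [hws, List.length_map]
    exact heven
  · have hprodQ : (ws.map (fun v => QPlus F (n + 1) v)).prod =
        c⁻¹ ^ vs.length * (vs.map (fun v => j (Qgen n (binForm 1 ζ) v))).prod := by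
      rw [hws, List.map_map]
      have : ((fun v => QPlus F (n + 1) v) ∘
          fun v : (Fin n ⊕ Fin n) ⊕ Fin 2 → F₀ => B *ᵥ fun i => j (v i)) =
          fun v => c⁻¹ * j (Qgen n (binForm 1 ζ) v) := by
        funext v
        exact hQw v
      rw [this, List.prod_map_mul, List.map_const', List.prod_replicate]
    rw [hprodQ]
    apply IsSquare.mul
    · exact heven.isSquare_pow _
    · apply isSquare_list_prod
      intro b hb
      obtain ⟨v, hv, rfl⟩ := List.mem_map.mp hb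
      exact isSquare_of_quadratic j hodd₀ hcard _

include hp hcp in
/-- when the diagonal similarity `D1` induces an inner automorphism -/
theorem fGO_D1_mem_Inn_iff (hn : 3 ≤ n) (h2 : (2 : F) ≠ 0)
    (hneg : negIso (QPlus F (n + 1)) ∈ Cfsg.Omega F ⇑(QPlus F (n + 1)))
    (ρ ε : F) (hρ : ρ ≠ 0) (hε : ε ≠ 0) (Dg : ↥(GO (QPlus F (n + 1))))
    (hDg : ((Dg.1 : GL (Fin (n + 1) ⊕ Fin (n + 1)) F) :
      Matrix (Fin (n + 1) ⊕ Fin (n + 1)) (Fin (n + 1) ⊕ Fin (n + 1)) F) =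
      D1 n (ρ * ρ) (ρ * ε) (ρ * ε⁻¹)) :
    fGO (QPlus F (n + 1)) Dg ∈ Cfsg.Inn (Cfsg.POmega F ⇑(QPlus F (n + 1))) ↔
      IsSquare (ρ ^ n * ε) := by
  classical
  have hQ := nondegenerate_QPlus F (n + 1)
  have h5 : 5 ≤ Fintype.card (Fin (n + 1) ⊕ Fin (n + 1)) := by rw [card_idx]; omega
  have T := plusTriple' F (n + 1) (by omega)
  obtain ⟨vs, hvs, hlen, hprod, hmat⟩ := D2_list n ρ ε hρ hε
  obtain ⟨o, ho⟩ := exists_of_list' (QPlus F (n + 1)) vs hvs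
  obtain ⟨dG, hdG⟩ : ∃ dG : ↥(GO (QPlus F (n + 1))), dG = ⟨o.1, isometryGroup_le_GO _ o.2⟩ :=
    ⟨_, rfl⟩
  have hdGmem : dG.1 ∈ Cfsg.isometryGroup F ⇑(QPlus F (n + 1)) := by rw [hdG]; exact o.2
  have e : Dg = ⟨scalGL (Units.mk0 ρ hρ), scalGL_mem_GO (QPlus F (n + 1)) _⟩ * dG := by
    apply Subtype.ext
    apply Units.ext
    change ((Dg.1 : GL (Fin (n + 1) ⊕ Fin (n + 1)) F) :
        Matrix (Fin (n + 1) ⊕ Fin (n + 1)) (Fin (n + 1) ⊕ Fin (n + 1)) F) =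
      ((scalGL (Units.mk0 ρ hρ) : GL (Fin (n + 1) ⊕ Fin (n + 1)) F) :
        Matrix (Fin (n + 1) ⊕ Fin (n + 1)) (Fin (n + 1) ⊕ Fin (n + 1)) F) *
      ((dG.1 : GL (Fin (n + 1) ⊕ Fin (n + 1)) F) :
        Matrix (Fin (n + 1) ⊕ Fin (n + 1)) (Fin (n + 1) ⊕ Fin (n + 1)) F)
    rw [hDg, D1_eq_smul_D2 n ρ ε hρ, scalGL_val, Matrix.smul_mul, Matrix.one_mul, hdG]
    change _ = (Units.mk0 ρ hρ : F) • ((o.1 : GL (Fin (n + 1) ⊕ Fin (n + 1)) F) :
        Matrix (Fin (n + 1) ⊕ Fin (n + 1)) (Fin (n + 1) ⊕ Fin (n + 1)) F)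
    rw [ho, hmat]
    rfl
  rw [e, map_mul, fGO_scal p (by omega), one_mul,
    SimAut.fGO_mem_Inn_iff (QPlus F (n + 1)) hQ h5 T hneg dG hdGmem]
  have e2 : (⟨dG.1, hdGmem⟩ : ↥(Cfsg.isometryGroup F ⇑(QPlus F (n + 1)))) = o := by
    apply Subtype.ext
    change (dG.1 : GL (Fin (n + 1) ⊕ Fin (n + 1)) F) = o.1
    rw [hdG]
  rw [e2, mem_Omega_iff_list' (QPlus F (n + 1)) h2 hQ (by rw [card_idx]; omega) o vs hvs ho,
    hlen, hprod]
  exact ⟨fun h => h.2, fun h => ⟨⟨n + 1, by ring⟩, h⟩⟩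

end rect

end Cfsg.Agent.Lib.Helper16.GraphFieldPlus
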