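import Mathlib
import Cfsg.Agent.Lib.Helper16.GraphFieldPlus5

/-!
# Involutory graph-field automorphisms of the plus type orthogonal groups, part 6:
the number of classes
-/

set_option autoImplicit false
set_option linter.unusedSectionVars false
set_option linter.unusedVariables false
set_option linter.style.haveILetI false

namespace Cfsg.Agent.Lib.Helper16.GraphFieldPlus

open Matrix Cfsg QuadraticMap Module Cfsg.Agent.Lib.Helper6 Cfsg.Agent.Lib.Helper6.AutOrt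
  Cfsg.Agent.Lib.Helper15 Cfsg.Agent.Lib.Helper6.SimAut Cfsg.Agent.Lib.Helper6.PlusCent
  Cfsg.Agent.Lib.Helper6.OmegaAut Cfsg.Agent.Lib.Helper6.LamDiag
  Cfsg.Agent.Lib.Helper16.FieldCosetOrth Cfsg.Agent.Lib.Helper16.FieldCentOrth
  Cfsg.Agent.Lib.Helper16.QuadExt Cfsg.Agent.Lib.Helper16.SemiFrame
  Cfsg.Agent.Lib.Helper16.MinusType Cfsg.Agent.Lib.Helper6.Tri
  Cfsg.Agent.Lib.Helper16.PlusType Cfsg.Agent.Lib.Helper16.FieldCentRect
  Cfsg.Agent.Lib.Helper16.FieldCentOmegaOdd Cfsg.Agent.Lib.Helper6.ExtQuad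
open Cfsg.Agent.Lib.Helper6.AutPSL (sG sG_val gl_mul_inv gl_inv_mul)
open Cfsg.Agent.S2729 (minusSimMat_det)
open Cfsg.Agent.S2722 (plusSim plusSim_mem plusSim_spec)

section rect
universe u
variable {F : Type*} [Field F] [Fintype F] {n : ℕ} [hS : Std (QPlus F (n + 1))]
  {F₀ : Type u} [Field F₀] [Fintype F₀] (j : F₀ →+* F) (ζ : F₀)
  (B : Matrix (Fin (n + 1) ⊕ Fin (n + 1)) ((Fin n ⊕ Fin n) ⊕ Fin 2) F)
  (B' : Matrix ((Fin n ⊕ Fin n) ⊕ Fin 2) (Fin (n + 1) ⊕ Fin (n + 1)) F)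
  (hBB' : B * B' = 1) (hB'B : B' * B = 1) (c : F) (hc : c ≠ 0)
  (hB : ∀ v : (Fin n ⊕ Fin n) ⊕ Fin 2 → F₀,
    j (Qgen n (binForm 1 ζ) v) = c * QPlus F (n + 1) (B *ᵥ fun i => j (v i)))
  (p : ℕ) [hp : Fact p.Prime] [hcp : CharP F p]
  (τ : F ≃+* F) (hj : ∀ a : F, τ a = a ↔ a ∈ Set.range j) (hτ2 : ∀ a : F, τ (τ a) = a)

set_option maxHeartbeats 1600000 in
include hp hcp hj hτ2 in
/-- a class preserving similarity over the subfield with non-square multiplier: when does it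
induce an inner automorphism -/
theorem fGO_mapGO'_nonsq_iff (hn : 3 ≤ n) (hζ : ∀ t : F₀, t ^ 2 + t + ζ ≠ 0)
    (h2 : (2 : F) ≠ 0) (hodd₀ : Odd (Fintype.card F₀))
    (hcard : Fintype.card F = Fintype.card F₀ ^ 2)
    (hneg : negIso (QPlus F (n + 1)) ∈ Cfsg.Omega F ⇑(QPlus F (n + 1)))
    (K₀ : Subgroup ↥(GO (Qgen n (binForm 1 ζ))))
    (hK₀ : ∀ g : ↥(GO (Qgen n (binForm 1 ζ))),
      Cfsg.PreservesSingularClassesMinus n 1 ζ
        ((g.1 : GL ((Fin n ⊕ Fin n) ⊕ Fin 2) F₀) :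
          Matrix ((Fin n ⊕ Fin n) ⊕ Fin 2) ((Fin n ⊕ Fin n) ⊕ Fin 2) F₀) ↔ g ∈ K₀)
    (g₀ : ↥(GO (Qgen n (binForm 1 ζ)))) (hg₀K : g₀ ∈ K₀)
    (hns : ¬ IsSquare ((mulr (Qgen n (binForm 1 ζ)) g₀ : F₀ˣ) : F₀)) :
    fGO (QPlus F (n + 1))
      (FieldCentRect.mapGO' j (Qgen n (binForm 1 ζ)) (QPlus F (n + 1)) B B' hBB' hB'B c hc hB g₀) ∈
      Cfsg.Inn (Cfsg.POmega F ⇑(QPlus F (n + 1))) ↔
      (Odd (n + 1) ∧ Fintype.card F₀ % 4 = 1) := by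
  classical
  have hab₀ := aniso_of_irred ζ hζ
  have hnd := nondegenerate_Qgen n (binForm 1 ζ) (nondegenerate_binForm 1 ζ hab₀)
  haveI hS₀ := std_minus 1 ζ hab₀ hn
  obtain ⟨lamU, hlamU⟩ : ∃ lamU : F₀ˣ, lamU = mulr (Qgen n (binForm 1 ζ)) g₀ := ⟨_, rfl⟩
  rw [← hlamU] at hns
  obtain ⟨u, hu⟩ := exists_binForm_eq 1 ζ hab₀ (lamU : F₀)
  have hspec := minusSimMat_spec n 1 ζ (lamU : F₀) u hu
  obtain ⟨g₁, hg₁⟩ : ∃ g₁ : ↥(GO (Qgen n (binForm 1 ζ))),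
      g₁ = simOfMatrix _ hnd (minusSimMat n 1 ζ (lamU : F₀) u) lamU hspec := ⟨_, rfl⟩
  have hg₁val : ((g₁.1 : GL ((Fin n ⊕ Fin n) ⊕ Fin 2) F₀) :
      Matrix ((Fin n ⊕ Fin n) ⊕ Fin 2) ((Fin n ⊕ Fin n) ⊕ Fin 2) F₀) =
      minusSimMat n 1 ζ (lamU : F₀) u := by
    rw [hg₁]
    exact simOfMatrix_val _ hnd _ lamU hspec
  obtain ⟨v₀, hv₀⟩ := SemiSimO.exists_Q_ne_zero (Q := Qgen n (binForm 1 ζ))
  have hmulr₁ : mulr (Qgen n (binForm 1 ζ)) g₁ = lamU := by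
    rw [hg₁]
    exact mulr_simOfMatrix _ hnd _ lamU hspec v₀ hv₀
  have hg₁K : g₁ ∈ K₀ := by
    rw [← hK₀, pscMinus_iff n 1 ζ hodd₀ hab₀ g₁.1 (lamU : F₀) (Units.ne_zero _)
      (by rw [hg₁val]; exact hspec), hg₁val]
    exact minusSimMat_det n 1 ζ (lamU : F₀) u hu
  obtain ⟨h, hh⟩ : ∃ h : ↥(GO (Qgen n (binForm 1 ζ))), h = g₁⁻¹ * g₀ := ⟨_, rfl⟩
  have hhK : h ∈ K₀ := by
    rw [hh]
    exact Subgroup.mul_mem _ (Subgroup.inv_mem _ hg₁K) hg₀K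
  have hmulrh : mulr (Qgen n (binForm 1 ζ)) h = 1 := by
    have hμHa : ∀ g, mulrHom (Qgen n (binForm 1 ζ)) v₀ hv₀ g = mulr (Qgen n (binForm 1 ζ)) g :=
      fun g => rfl
    rw [hh, ← hμHa, map_mul, map_inv, hμHa, hμHa, hmulr₁, ← hlamU, inv_mul_cancel]
  have hhInn := fGO_mapGO'_mem_Inn_of_sq j ζ B B' hBB' hB'B c hc hB p hn hζ h2 hodd₀ hcard h
    ((hK₀ h).mpr hhK) 1 (by rw [hmulrh, Units.val_one, one_mul])
  have e : g₀ = g₁ * h := by rw [hh]; group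
  rw [e, map_mul, map_mul, Subgroup.mul_mem_cancel_right _ hhInn]
  obtain ⟨θ, hθ⟩ := exists_root_rect j ζ B B' hB'B c hc hB
  obtain ⟨hτθ, hne⟩ := tau_root j τ hj ζ hζ θ hθ
  obtain ⟨Bs, Dg, hDg, hconj⟩ := mapGO'_minusSim j ζ B B' hBB' hB'B c hc hB θ hθ hne (lamU : F₀) u hu
    g₁ hg₁val (Units.ne_zero _)
  obtain ⟨ρ, hρ⟩ := isSquare_of_quadratic j hodd₀ hcard (lamU : F₀)
  have hjlam : j (lamU : F₀) ≠ 0 := (map_ne_zero j).mpr (Units.ne_zero _)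
  have hρ0 : ρ ≠ 0 := by
    rintro rfl
    rw [mul_zero] at hρ
    exact hjlam hρ
  obtain ⟨ω, hω⟩ : ∃ ω : F, ω = j (u 0) - θ * j (u 1) := ⟨_, rfl⟩
  obtain ⟨ω', hω'⟩ : ∃ ω' : F, ω' = j (u 0) - (-1 - θ) * j (u 1) := ⟨_, rfl⟩
  have hωω' : ω * ω' = j (lamU : F₀) := by
    rw [hω, hω', ← hu, binForm_apply, map_add, map_add, map_mul, map_mul, map_mul, map_pow,
      map_pow, map_one]
    linear_combination (-(j (u 1)) ^ 2) * hθ
  have hω0 : ω ≠ 0 := by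
    rintro rfl
    rw [zero_mul] at hωω'
    exact hjlam hωω'.symm
  have hε0 : ω / ρ ≠ 0 := div_ne_zero hω0 hρ0
  have hDg' : ((Dg.1 : GL (Fin (n + 1) ⊕ Fin (n + 1)) F) :
      Matrix (Fin (n + 1) ⊕ Fin (n + 1)) (Fin (n + 1) ⊕ Fin (n + 1)) F) =
      D1 n (ρ * ρ) (ρ * (ω / ρ)) (ρ * (ω / ρ)⁻¹) := by
    rw [hDg, ← hω, ← hω', ← hρ]
    congr 1
    · field_simp
    · rw [inv_div, ← mul_div_assoc, ← hρ, ← hωω']
      field_simp
  have hconjInn := conj_mem_Inn_iff (fGO (QPlus F (n + 1)) Bs)⁻¹ (fGO (QPlus F (n + 1)) Dg)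
  rw [inv_inv] at hconjInn
  rw [hconj, map_mul, map_mul, map_inv, hconjInn,
    fGO_D1_mem_Inn_iff p hn h2 hneg ρ (ω / ρ) hρ0 hε0 Dg hDg', hω]
  exact gf_isSquare_iff j τ hj hτ2 ζ hζ θ hθ h2 hodd₀ hcard (lamU : F₀) hns u hu ρ hρ.symm n

end rect

section count
universe u
variable {F : Type*} [Field F] [Fintype F] {n : ℕ} [hS : Std (QPlus F (n + 1))]
  {F₀ : Type u} [Field F₀] [Fintype F₀] (j : F₀ →+* F) (ζ : F₀)
  (B : Matrix (Fin (n + 1) ⊕ Fin (n + 1)) ((Fin n ⊕ Fin n) ⊕ Fin 2) F)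
  (B' : Matrix ((Fin n ⊕ Fin n) ⊕ Fin 2) (Fin (n + 1) ⊕ Fin (n + 1)) F)
  (hBB' : B * B' = 1) (hB'B : B' * B = 1) (c : F) (hc : c ≠ 0)
  (hB : ∀ v : (Fin n ⊕ Fin n) ⊕ Fin 2 → F₀,
    j (Qgen n (binForm 1 ζ) v) = c * QPlus F (n + 1) (B *ᵥ fun i => j (v i)))
  (p : ℕ) [hp : Fact p.Prime] [hcp : CharP F p] [hcp₀ : CharP F₀ p]

/-- a class preserving similarity of the minus type form with non-square multiplier -/
theorem exists_nonsq_sim (hn : 3 ≤ n) (hζ : ∀ t : F₀, t ^ 2 + t + ζ ≠ 0)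
    (hodd₀ : Odd (Fintype.card F₀)) (h2₀ : (2 : F₀) ≠ 0)
    (K₀ : Subgroup ↥(GO (Qgen n (binForm 1 ζ))))
    (hK₀ : ∀ g : ↥(GO (Qgen n (binForm 1 ζ))),
      Cfsg.PreservesSingularClassesMinus n 1 ζ
        ((g.1 : GL ((Fin n ⊕ Fin n) ⊕ Fin 2) F₀) :
          Matrix ((Fin n ⊕ Fin n) ⊕ Fin 2) ((Fin n ⊕ Fin n) ⊕ Fin 2) F₀) ↔ g ∈ K₀) :
    ∃ g₁ : ↥(GO (Qgen n (binForm 1 ζ))), g₁ ∈ K₀ ∧
      ¬ IsSquare ((mulr (Qgen n (binForm 1 ζ)) g₁ : F₀ˣ) : F₀) := by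
  classical
  have hab₀ := aniso_of_irred ζ hζ
  have hnd := nondegenerate_Qgen n (binForm 1 ζ) (nondegenerate_binForm 1 ζ hab₀)
  haveI hS₀ := std_minus 1 ζ hab₀ hn
  obtain ⟨lam₀, hlam₀⟩ := FiniteField.exists_nonsquare (ringChar_ne_two' h2₀)
  have hlam₀0 : lam₀ ≠ 0 := by
    rintro rfl
    exact hlam₀ ⟨0, (mul_zero 0).symm⟩
  obtain ⟨lamU, hlamU⟩ : ∃ lamU : F₀ˣ, (lamU : F₀) = lam₀ := ⟨Units.mk0 lam₀ hlam₀0, rfl⟩
  obtain ⟨u, hu⟩ := exists_binForm_eq 1 ζ hab₀ (lamU : F₀)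
  have hspec := minusSimMat_spec n 1 ζ (lamU : F₀) u hu
  obtain ⟨g₁, hg₁⟩ : ∃ g₁ : ↥(GO (Qgen n (binForm 1 ζ))),
      g₁ = simOfMatrix _ hnd (minusSimMat n 1 ζ (lamU : F₀) u) lamU hspec := ⟨_, rfl⟩
  have hg₁val : ((g₁.1 : GL ((Fin n ⊕ Fin n) ⊕ Fin 2) F₀) :
      Matrix ((Fin n ⊕ Fin n) ⊕ Fin 2) ((Fin n ⊕ Fin n) ⊕ Fin 2) F₀) =
      minusSimMat n 1 ζ (lamU : F₀) u := by
    rw [hg₁]
    exact simOfMatrix_val _ hnd _ lamU hspec
  obtain ⟨v₀, hv₀⟩ := SemiSimO.exists_Q_ne_zero (Q := Qgen n (binForm 1 ζ))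
  have hmulr₁ : mulr (Qgen n (binForm 1 ζ)) g₁ = lamU := by
    rw [hg₁]
    exact mulr_simOfMatrix _ hnd _ lamU hspec v₀ hv₀
  refine ⟨g₁, ?_, ?_⟩
  · rw [← hK₀, pscMinus_iff n 1 ζ hodd₀ hab₀ g₁.1 (lamU : F₀) (Units.ne_zero _)
      (by rw [hg₁val]; exact hspec), hg₁val]
    exact minusSimMat_det n 1 ζ (lamU : F₀) u hu
  · rw [hmulr₁, hlamU]
    exact hlam₀

set_option maxHeartbeats 1600000 in
include hp hcp hcp₀ hBB' hB'B hc hB in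
/-- the number of classes into which the class of an involutory graph-field automorphism
splits, in odd characteristic -/
theorem count_gf (hn : 4 ≤ n) (Φ : SemiSimO (QPlus F (n + 1)))
    (hj : ∀ a : F, Φ.σ a = a ↔ a ∈ Set.range j) (hord : orderOf (Φ.σ : RingAut F) = 2)
    (hζ : ∀ t : F₀, t ^ 2 + t + ζ ≠ 0) (μ : F) (hμ : μ ≠ 0)
    (hΦB : Φ.mat * B.map Φ.σ = μ • B)
    (h2 : (2 : F) ≠ 0) (hodd₀ : Odd (Fintype.card F₀))
    (hcard : Fintype.card F = Fintype.card F₀ ^ 2)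
    (hneg : negIso (QPlus F (n + 1)) ∈ Cfsg.Omega F ⇑(QPlus F (n + 1)))
    (hIn : (Ip F (n + 1)).Normal) :
    ((Odd (n + 1) ∧ Fintype.card F₀ % 4 = 1) →
      Cfsg.splitClassCount (Ip F (n + 1)) (Cfsg.Inn (Cfsg.POmega F ⇑(QPlus F (n + 1))))
        Φ.gam = 4) ∧
    (¬ (Odd (n + 1) ∧ Fintype.card F₀ % 4 = 1) →
      Cfsg.splitClassCount (Ip F (n + 1)) (Cfsg.Inn (Cfsg.POmega F ⇑(QPlus F (n + 1))))
        Φ.gam = 2) := by
  classical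
  have hm : 4 ≤ n + 1 := by omega
  have hn3 : 3 ≤ n := by omega
  have hab₀ := aniso_of_irred ζ hζ
  haveI hS₀ := std_minus 1 ζ hab₀ hn3
  have h2₀ : (2 : F₀) ≠ 0 := by
    intro h
    apply h2
    have := congrArg j h
    rwa [map_ofNat, map_zero] at this
  obtain ⟨K₀, hK₀⟩ := Cfsg.Agent.Lib.Helper16.MinusPSC2.exists_pscSub 1 ζ hab₀ p hn3
  have hτ2 : ∀ a : F, Φ.σ (Φ.σ a) = a := by
    intro a
    have h := pow_orderOf_eq_one (Φ.σ : RingAut F)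
    rw [hord, pow_two] at h
    exact congrArg (fun (t : RingAut F) => t a) h
  have hjfix : ∀ a : F₀, Φ.σ (j a) = j a := fun a => (hj _).mpr ⟨a, rfl⟩
  have T := plusTriple' F (n + 1) (by omega)
  have hv₀ := T_nonsingular _ T
  have hcompat : ∀ g₀ : ↥(GO (Qgen n (binForm 1 ζ))),
      FieldCentRect.mapGO' j (Qgen n (binForm 1 ζ)) (QPlus F (n + 1)) B B' hBB' hB'B c hc hB g₀ ∈
        Kp F (n + 1) ↔ g₀ ∈ K₀ := by
    intro g₀
    rw [← hK₀]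
    exact compat (m := n + 1) j 1 ζ hab₀ B B' hBB' hB'B c hc hB hm g₀
  -- descent
  have hdesc : ∀ k : ↥(Kp F (n + 1)), k ∈ (Subgroup.centralizer {Φ.gam}).comap (cK 1) →
      ∃ (g₀ : ↥(GO (Qgen n (binForm 1 ζ)))) (a : Fˣ), g₀ ∈ K₀ ∧
        FieldCentRect.mapGO' j (Qgen n (binForm 1 ζ)) (QPlus F (n + 1)) B B' hBB' hB'B c hc hB g₀ =
          ⟨scalGL a, scalGL_mem_GO (QPlus F (n + 1)) a⟩ * k.1 := by
    intro k hk
    rw [Cfsg.Agent.Lib.Helper16.FieldCentPSL.mem_cent_comap, cK_apply, inv_one, one_mul,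
      mul_one] at hk
    obtain ⟨g₀, a, ha0, hg₀⟩ := FieldCentRect.exists_descent' j (Qgen n (binForm 1 ζ))
      (QPlus F (n + 1)) B B' hBB' hB'B c hc hB Φ μ hμ hΦB p hj k.1 hk
    have e : FieldCentRect.mapGO' j (Qgen n (binForm 1 ζ)) (QPlus F (n + 1)) B B' hBB' hB'B c hc
        hB g₀ = ⟨scalGL (Units.mk0 a ha0), scalGL_mem_GO (QPlus F (n + 1)) _⟩ * k.1 := by
      apply Subtype.ext
      apply Units.ext
      rw [hg₀]
      change _ = ((scalGL (Units.mk0 a ha0) : GL (Fin (n + 1) ⊕ Fin (n + 1)) F) :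
        Matrix (Fin (n + 1) ⊕ Fin (n + 1)) (Fin (n + 1) ⊕ Fin (n + 1)) F) *
        (k.1.1 : Matrix (Fin (n + 1) ⊕ Fin (n + 1)) (Fin (n + 1) ⊕ Fin (n + 1)) F)
      rw [scalGL_val, Matrix.smul_mul, Matrix.one_mul]
      rfl
    have hgK : FieldCentRect.mapGO' j (Qgen n (binForm 1 ζ)) (QPlus F (n + 1)) B B' hBB' hB'B c hc
        hB g₀ ∈ Kp F (n + 1) := by
      rw [e]
      exact Subgroup.mul_mem _ (scal_mem_Kp _) k.2
    exact ⟨g₀, Units.mk0 a ha0, (hcompat g₀).mp hgK, e⟩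
  rw [count_eq p hm 1 _ hIn]
  have hcardA : Nat.card (↥(Kp F (n + 1)) ⧸ NK F (n + 1)) = 4 := by
    rw [card_quot_NK p hm, relIndex_Inn_Ip_of_mem h2 hm hneg]
  constructor
  · intro hcase
    have hbot : ((Subgroup.centralizer {Φ.gam}).comap (cK 1)).map
        (QuotientGroup.mk' (NK F (n + 1))) = ⊥ := by
      rw [eq_bot_iff]
      rintro _ ⟨k, hk, rfl⟩
      rw [Subgroup.mem_bot, QuotientGroup.mk'_apply, QuotientGroup.eq_one_iff, mem_NK]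
      obtain ⟨g₀, a, hg₀K, hg₀⟩ := hdesc k hk
      have hfk : fGO (QPlus F (n + 1)) k.1 = fGO (QPlus F (n + 1))
          (FieldCentRect.mapGO' j (Qgen n (binForm 1 ζ)) (QPlus F (n + 1)) B B' hBB' hB'B c hc hB
            g₀) := by
        rw [hg₀, map_mul, fGO_scal p hm a, one_mul]
      rw [hfk]
      by_cases hsq : IsSquare ((mulr (Qgen n (binForm 1 ζ)) g₀ : F₀ˣ) : F₀)
      · obtain ⟨s₀, hs₀⟩ := hsq
        exact fGO_mapGO'_mem_Inn_of_sq j ζ B B' hBB' hB'B c hc hB p hn3 hζ h2 hodd₀ hcard g₀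
          ((hK₀ g₀).mpr hg₀K) s₀ hs₀
      · exact (fGO_mapGO'_nonsq_iff j ζ B B' hBB' hB'B c hc hB p Φ.σ hj hτ2 hn3 hζ h2 hodd₀ hcard
          hneg K₀ hK₀ g₀ hg₀K hsq).mpr hcase
    rw [hbot, Subgroup.index_bot, hcardA]
  · intro hcase
    set D := ((Subgroup.centralizer {Φ.gam}).comap (cK 1)).map
      (QuotientGroup.mk' (NK F (n + 1))) with hD
    haveI : Finite (↥(Kp F (n + 1)) ⧸ NK F (n + 1)) :=
      Nat.finite_of_card_ne_zero (by rw [hcardA]; norm_num)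
    have hDbot : D ≠ ⊥ := by
      obtain ⟨g₁, hg₁K, hns⟩ := exists_nonsq_sim ζ hn3 hζ hodd₀ h2₀ K₀ hK₀
      have hPK := (hcompat g₁).mpr hg₁K
      have hnotInn : fGO (QPlus F (n + 1))
          (FieldCentRect.mapGO' j (Qgen n (binForm 1 ζ)) (QPlus F (n + 1)) B B' hBB' hB'B c hc hB
            g₁) ∉ Cfsg.Inn (Cfsg.POmega F ⇑(QPlus F (n + 1))) := by
        rw [fGO_mapGO'_nonsq_iff j ζ B B' hBB' hB'B c hc hB p Φ.σ hj hτ2 hn3 hζ h2 hodd₀ hcard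
          hneg K₀ hK₀ g₁ hg₁K hns]
        exact hcase
      intro hbot
      have hmem : QuotientGroup.mk' (NK F (n + 1)) ⟨_, hPK⟩ ∈ D := by
        refine ⟨⟨_, hPK⟩, ?_, rfl⟩
        rw [SetLike.mem_coe, Cfsg.Agent.Lib.Helper16.FieldCentPSL.mem_cent_comap, cK_apply,
          inv_one, one_mul, mul_one]
        exact FieldCentRect.mapGO'_comm j (Qgen n (binForm 1 ζ)) (QPlus F (n + 1)) B B' hBB' hB'B
          c hc hB Φ μ hΦB hjfix g₁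
      rw [hbot, Subgroup.mem_bot, QuotientGroup.mk'_apply, QuotientGroup.eq_one_iff, mem_NK]
        at hmem
      exact hnotInn hmem
    have hDtop : D ≠ ⊤ := by
      obtain ⟨lam, hlam⟩ := FiniteField.exists_nonsquare (ringChar_ne_two' h2)
      have hlam0 : lam ≠ 0 := by
        rintro rfl
        exact hlam ⟨0, (mul_zero 0).symm⟩
      set lamU : Fˣ := Units.mk0 lam hlam0 with hlamU
      set L : ↥(GO (QPlus F (n + 1))) := ⟨plusSim (n + 1) lamU, plusSim_mem (n + 1) lamU⟩ with hL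
      have hLK : L ∈ Kp F (n + 1) := plusSim_mem_Kp lamU
      have hmulrL : mulr (QPlus F (n + 1)) L = lamU :=
        mulr_eq (QPlus F (n + 1)) _ hv₀ _ lamU (plusSim_spec (n + 1) _)
      intro htop
      have hmem : QuotientGroup.mk' (NK F (n + 1)) ⟨L, hLK⟩ ∈ D := by
        rw [htop]; exact Subgroup.mem_top _
      obtain ⟨k, hk, hkL⟩ := hmem
      rw [QuotientGroup.mk'_apply, QuotientGroup.mk'_apply, QuotientGroup.eq, mem_NK] at hkL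
      change fGO (QPlus F (n + 1)) (k.1⁻¹ * L) ∈ _ at hkL
      rw [Cfsg.Agent.Lib.Helper16.FieldCentOmegaOdd.fGO_mem_Inn_iff p] at hkL
      obtain ⟨c', ω, -, hω⟩ := hkL
      obtain ⟨g₀, a, hg₀K, hg₀⟩ := hdesc k hk
      set μH := mulrHom (QPlus F (n + 1)) _ hv₀ with hμH
      have hμHa : ∀ g, μH g = mulr (QPlus F (n + 1)) g := fun g => rfl
      have h1 : ((mulr (QPlus F (n + 1)) (k.1⁻¹ * L) : Fˣ) : F) = c' * c' := by
        have h3 := mulr_spec (QPlus F (n + 1)) (k.1⁻¹ * L) (T.u 0 + T.w 0)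
        rw [hω, Matrix.smul_mulVec, Q_smul, (OmegaAut.mem_isometryGroup_iff _ ω.1).mp ω.2] at h3
        exact (mul_right_cancel₀ hv₀ h3).symm
      have h4 : mulr (QPlus F (n + 1)) (FieldCentRect.mapGO' j (Qgen n (binForm 1 ζ))
          (QPlus F (n + 1)) B B' hBB' hB'B c hc hB g₀) = a * a * mulr (QPlus F (n + 1)) k.1 := by
        rw [hg₀, ← hμHa, map_mul, hμHa, hμHa, mulr_scal T]
      rw [mulr_mapGO'_rect j ζ B B' hBB' hB'B c hc hB g₀] at h4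
      have h5 : mulr (QPlus F (n + 1)) (k.1⁻¹ * L) =
          (mulr (QPlus F (n + 1)) k.1)⁻¹ * lamU := by
        rw [← hμHa, map_mul, map_inv, hμHa, hμHa, hmulrL]
      obtain ⟨e, he⟩ := isSquare_of_quadratic j hodd₀ hcard
        (mulr (Qgen n (binForm 1 ζ)) g₀ : F₀)
      apply hlam
      have h6 : lam = (mulr (QPlus F (n + 1)) k.1 : F) * (c' * c') := by
        rw [← h1, h5, Units.val_mul, Units.val_inv_eq_inv_val, hlamU, Units.val_mk0]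
        field_simp
      have h7 : (mulr (QPlus F (n + 1)) k.1 : F) = (e / a) * (e / a) := by
        have h8 := congrArg Units.val h4
        rw [Units.coe_map, Units.val_mul, Units.val_mul] at h8
        change j (mulr (Qgen n (binForm 1 ζ)) g₀ : F₀) = _ at h8
        rw [he] at h8
        have ha0 : (a : F) ≠ 0 := Units.ne_zero a
        field_simp
        linear_combination -h8
      rw [h6, h7]
      exact ⟨(e / a) * c', by ring⟩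
    have hmul := Subgroup.card_mul_index D
    rw [hcardA] at hmul
    have hc1 : Nat.card D ≠ 1 := fun h => hDbot (Subgroup.card_eq_one.mp h)
    have hi1 : D.index ≠ 1 := fun h => hDtop (Subgroup.index_eq_one.mp h)
    have hdvd : D.index ∣ 4 := ⟨_, ((mul_comm _ _).trans hmul).symm⟩
    have hle : D.index ≤ 4 := Nat.le_of_dvd (by norm_num) hdvd
    have hpos : 0 < D.index := Nat.pos_of_ne_zero (fun h => by rw [h] at hmul; omega)
    interval_cases hidx : D.index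
    · exact absurd rfl hi1
    · rfl
    · omega
    · omega

end count

end Cfsg.Agent.Lib.Helper16.GraphFieldPlus
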