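import Mathlib
import Cfsg.Agent.Lib.Helper16.GraphFieldPlus6
import Cfsg.Agent.Lib.Helper6.PlusCentI
import Cfsg.Agent.Lib.Helper6.PlusCosetE

/-!
# Involutory graph-field automorphisms of the plus type orthogonal groups, part 7:
the main theorem
-/

set_option autoImplicit false
set_option linter.unusedSectionVars false
set_option linter.unusedVariables false
set_option linter.style.haveILetI false

namespace Cfsg.Agent.Lib.Helper16.GraphFieldPlus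

open Matrix Cfsg QuadraticMap Module Cfsg.Agent.Lib.Helper6 Cfsg.Agent.Lib.Helper6.AutOrt
  Cfsg.Agent.Lib.Helper15 Cfsg.Agent.Lib.Helper6.SimAut Cfsg.Agent.Lib.Helper6.PlusCent
  Cfsg.Agent.Lib.Helper6.OmegaAut Cfsg.Agent.Lib.Helper6.LamDiag
  Cfsg.Agent.Lib.Helper16.FieldCosetOrth Cfsg.Agent.Lib.Helper16.FieldCentOrth
  Cfsg.Agent.Lib.Helper16.QuadExt Cfsg.Agent.Lib.Helper16.SemiFrame
  Cfsg.Agent.Lib.Helper16.MinusType Cfsg.Agent.Lib.Helper6.Tri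
  Cfsg.Agent.Lib.Helper16.PlusType Cfsg.Agent.Lib.Helper16.FieldCentRect
  Cfsg.Agent.Lib.Helper16.FieldCentOmegaOdd Cfsg.Agent.Lib.Helper6.ExtQuad
  Cfsg.Agent.Lib.Helper16.FieldCosetMinus

universe u v

set_option maxHeartbeats 1600000 in
/-- involutory graph-field automorphisms of `PΩ⁺_{2m}`, `m ≥ 5` -/
theorem main_gf {F : Type v} [Field F] [Fintype F] {p f : ℕ} [Fact p.Prime]
    (hF : Fintype.card F = p ^ f) (hf : 1 ≤ f) {m : ℕ} (hm : 5 ≤ m)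
    (q : (Fin m ⊕ Fin m → F) → F) (hq : q = ⇑(QPlus F m))
    (x : MulAut (Cfsg.POmega F q))
    (hx : ∃ (α γ φ : MulAut (Cfsg.POmega F q)) (σ : F ≃+* F) (v : Fin m ⊕ Fin m → F)
        (r : GL (Fin m ⊕ Fin m) F),
      σ ≠ RingEquiv.refl F ∧ q v ≠ 0 ∧ (∀ i, σ (v i) = v i) ∧
      (r : Matrix (Fin m ⊕ Fin m) (Fin m ⊕ Fin m) F) = Cfsg.reflectionMatrix q v ∧
      Cfsg.IsInducedBySemilinearPOmega q r (RingEquiv.refl F) γ ∧
      Cfsg.IsFieldAutPOmegaOf q σ φ ∧ α * x * α⁻¹ = γ * φ)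
    (hx2 : orderOf x = 2) (F₀ : Type u) [Field F₀] [Fintype F₀]
    (hF₀ : Fintype.card F₀ = p ^ (f / 2)) :
    Even f ∧
    (∀ y : MulAut (Cfsg.POmega F q),
      (∃ (α γ φ : MulAut (Cfsg.POmega F q)) (σ : F ≃+* F) (v : Fin m ⊕ Fin m → F)
        (r : GL (Fin m ⊕ Fin m) F),
      σ ≠ RingEquiv.refl F ∧ q v ≠ 0 ∧ (∀ i, σ (v i) = v i) ∧
      (r : Matrix (Fin m ⊕ Fin m) (Fin m ⊕ Fin m) F) = Cfsg.reflectionMatrix q v ∧
      Cfsg.IsInducedBySemilinearPOmega q r (RingEquiv.refl F) γ ∧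
      Cfsg.IsFieldAutPOmegaOf q σ φ ∧ α * y * α⁻¹ = γ * φ) → orderOf y = 2 →
      Cfsg.IsConjUnder
        (Subgroup.closure {β : MulAut (Cfsg.POmega F q) | ∃ g : GL (Fin m ⊕ Fin m) F,
          g ∈ Cfsg.Geo.quadSimilarityGroup (F := F) q ∧
          Cfsg.PreservesSingularClasses q (g : Matrix (Fin m ⊕ Fin m) (Fin m ⊕ Fin m) F) ∧
          Cfsg.IsInducedBySemilinearPOmega q g (RingEquiv.refl F) β}) x y) ∧
    (∃ a₀ b₀ : F₀, (∀ z₁ z₂ : F₀, z₁ ^ 2 + a₀ * z₁ * z₂ + b₀ * z₂ ^ 2 = 0 → z₁ = 0 ∧ z₂ = 0) ∧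
      Nonempty (↥(Subgroup.closure {β : MulAut (Cfsg.POmega F q) |
          ∃ g : GL (Fin m ⊕ Fin m) F,
          g ∈ Cfsg.Geo.quadSimilarityGroup (F := F) q ∧
          Cfsg.PreservesSingularClasses q (g : Matrix (Fin m ⊕ Fin m) (Fin m ⊕ Fin m) F) ∧
          Cfsg.IsInducedBySemilinearPOmega q g (RingEquiv.refl F) β} ⊓
          Subgroup.centralizer {x}) ≃*
        ↥(Subgroup.closure (genSet (m - 1) a₀ b₀ (Cfsg.quadFormMinus (m - 1) F₀ a₀ b₀))))) ∧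
    (p = 2 → Cfsg.splitClassCount
      (Subgroup.closure {β : MulAut (Cfsg.POmega F q) | ∃ g : GL (Fin m ⊕ Fin m) F,
        g ∈ Cfsg.Geo.quadSimilarityGroup (F := F) q ∧
        Cfsg.PreservesSingularClasses q (g : Matrix (Fin m ⊕ Fin m) (Fin m ⊕ Fin m) F) ∧
        Cfsg.IsInducedBySemilinearPOmega q g (RingEquiv.refl F) β})
      (Cfsg.Inn (Cfsg.POmega F q)) x = 1) ∧
    ((p ≠ 2 ∧ Odd m ∧ p ^ (f / 2) % 4 = 1) → Cfsg.splitClassCount
      (Subgroup.closure {β : MulAut (Cfsg.POmega F q) | ∃ g : GL (Fin m ⊕ Fin m) F,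
        g ∈ Cfsg.Geo.quadSimilarityGroup (F := F) q ∧
        Cfsg.PreservesSingularClasses q (g : Matrix (Fin m ⊕ Fin m) (Fin m ⊕ Fin m) F) ∧
        Cfsg.IsInducedBySemilinearPOmega q g (RingEquiv.refl F) β})
      (Cfsg.Inn (Cfsg.POmega F q)) x = 4) ∧
    ((p ≠ 2 ∧ ¬ (Odd m ∧ p ^ (f / 2) % 4 = 1)) → Cfsg.splitClassCount
      (Subgroup.closure {β : MulAut (Cfsg.POmega F q) | ∃ g : GL (Fin m ⊕ Fin m) F,
        g ∈ Cfsg.Geo.quadSimilarityGroup (F := F) q ∧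
        Cfsg.PreservesSingularClasses q (g : Matrix (Fin m ⊕ Fin m) (Fin m ⊕ Fin m) F) ∧
        Cfsg.IsInducedBySemilinearPOmega q g (RingEquiv.refl F) β})
      (Cfsg.Inn (Cfsg.POmega F q)) x = 2) := by
  classical
  have huniq := fun y hy hy2 =>
    Cfsg.Agent.Lib.Helper6.PlusCoset.graphfield_unique hm q hq x y hx hx2 hy hy2
  subst hq
  obtain ⟨n, rfl⟩ : ∃ n, m = n + 1 := ⟨m - 1, by omega⟩
  rw [closure_eq_Ip] at huniq ⊢
  have hm4 : 4 ≤ n + 1 := by omega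
  haveI : CharP F p := charP_of_card_pow' hF
  haveI : CharP F₀ p := charP_of_card_pow' hF₀
  haveI := std_QPlus (F := F) hm4
  have hP : HP (QPlus F (n + 1)) := by
    apply HP_of_nine
    rw [card_idx]; omega
  have hIn := Ip_normal (F := F) p hm4
  obtain ⟨hdvd, Φ, j, ζ, B, B', c, μ, hΦ, hj, hord, hζ, hBB', hB'B, hc, hμ, hB, hΦB⟩ :=
    setup_gf hF hm hP x hx hx2 F₀ hF₀
  have h2of : p ≠ 2 → (2 : F) ≠ 0 := by
    intro hp2 h
    have h3 : ((2 : ℕ) : F) = 0 := by exact_mod_cast h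
    have h4 := (CharP.cast_eq_zero_iff F p 2).mp h3
    exact hp2 ((Nat.prime_dvd_prime_iff_eq (Fact.out : p.Prime) Nat.prime_two).mp h4)
  have hoddp : p ≠ 2 → Odd p := fun hp2 => (Fact.out : p.Prime).odd_of_ne_two hp2
  have hcount : p ≠ 2 →
      ((Odd (n + 1) ∧ Fintype.card F₀ % 4 = 1) →
        Cfsg.splitClassCount (Ip F (n + 1)) (Cfsg.Inn (Cfsg.POmega F ⇑(QPlus F (n + 1))))
          Φ.gam = 4) ∧
      (¬ (Odd (n + 1) ∧ Fintype.card F₀ % 4 = 1) →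
        Cfsg.splitClassCount (Ip F (n + 1)) (Cfsg.Inn (Cfsg.POmega F ⇑(QPlus F (n + 1))))
          Φ.gam = 2) := by
    intro hp2
    have hodd₀ : Odd (Fintype.card F₀) := by rw [hF₀]; exact (hoddp hp2).pow
    have hcard : Fintype.card F = Fintype.card F₀ ^ 2 := by
      rw [hF, hF₀, ← pow_mul, Nat.div_mul_cancel hdvd]
    have hneg : negIso (QPlus F (n + 1)) ∈ Cfsg.Omega F ⇑(QPlus F (n + 1)) := by
      have hoddF : Odd (Fintype.card F) := by rw [hF]; exact (hoddp hp2).pow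
      rw [negIso_mem_iff hoddF (by omega), hcard]
      obtain ⟨t, ht⟩ := hodd₀
      have h1 : (Fintype.card F₀ ^ 2) % 4 = 1 := by
        rw [ht]
        have : (2 * t + 1) ^ 2 = 4 * (t * (t + 1)) + 1 := by ring
        rw [this]
        omega
      rw [Nat.pow_mod, h1, one_pow]
      rfl
    exact count_gf j ζ B B' hBB' hB'B c hc hB p (by omega) Φ hj hord hζ μ hμ hΦB (h2of hp2) hodd₀
      hcard hneg hIn
  refine ⟨even_iff_two_dvd.mpr hdvd, huniq, ⟨1, ζ, aniso_of_irred ζ hζ, ?_⟩, ?_, ?_, ?_⟩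
  · rw [← hΦ]
    exact cent_gf j p hm Φ hj ζ hζ B B' hBB' hB'B c μ hc hμ hB hΦB
  · intro hp2
    have h2 : (2 : F) = 0 := by
      have := CharP.cast_eq_zero F p
      rw [hp2] at this
      exact_mod_cast this
    rw [Ip_eq_Inn_two h2 hm4]
    exact splitClassCount_self _ _
  · rintro ⟨hp2, hmodd, hq4⟩
    rw [← hΦ]
    exact (hcount hp2).1 ⟨hmodd, by rw [hF₀]; exact hq4⟩
  · rintro ⟨hp2, hcase⟩
    rw [← hΦ]
    exact (hcount hp2).2 (by rw [hF₀]; exact hcase)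

end Cfsg.Agent.Lib.Helper16.GraphFieldPlus
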