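import Mathlib
import Cfsg.Agent.Lib.Helper6.SiegelExist
import Cfsg.Agent.Lib.Helper6.Lagrangian
import Cfsg.Agent.Lib.Helper6.Spinor
import Cfsg.Agent.Lib.Helper6.Quad

/-!
# Involutory graph automorphisms of the even dimensional orthogonal groups: linear algebra
-/

set_option autoImplicit false
set_option linter.unusedSectionVars false
set_option linter.unusedVariables false
set_option linter.style.haveILetI false

namespace Cfsg.Agent.Lib.Helper16.GraphSplitOrth

open Matrix Polynomial QuadraticMap Cfsg.Agent.Lib.Helper6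

section charpoly
variable {F : Type*} [Field F] {ι : Type*} [Fintype ι] [DecidableEq ι]

/-- the product of the characteristic polynomials of `M` and `-M` when `M² = μ` -/
theorem charpoly_mul_charpoly_neg (M : Matrix ι ι F) (μ : F) (hM : M * M = μ • (1 : Matrix ι ι F)) :
    M.charpoly * (-M).charpoly = (X ^ 2 - C μ) ^ Fintype.card ι := by
  unfold Matrix.charpoly
  rw [← Matrix.det_mul]
  have h1 : M.charmatrix * (-M).charmatrix = (X ^ 2 - C μ : F[X]) • (1 : Matrix ι ι F[X]) := by
    unfold Matrix.charmatrix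
    have hC : (C : F →+* F[X]).mapMatrix (-M) = -(C : F →+* F[X]).mapMatrix M := map_neg _ _
    rw [hC, sub_neg_eq_add]
    have hcomm : Matrix.scalar ι (X : F[X]) * (C : F →+* F[X]).mapMatrix M =
        (C : F →+* F[X]).mapMatrix M * Matrix.scalar ι (X : F[X]) := by
      exact (Matrix.scalar_commute (X : F[X]) (fun r' => mul_comm _ _) _).eq
    have hsq : (C : F →+* F[X]).mapMatrix M * (C : F →+* F[X]).mapMatrix M =
        (C μ : F[X]) • (1 : Matrix ι ι F[X]) := by
      rw [← map_mul, hM]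
      ext i j
      simp [Matrix.one_apply]
      split_ifs <;> simp
    have hXX : Matrix.scalar ι (X : F[X]) * Matrix.scalar ι (X : F[X]) =
        (X ^ 2 : F[X]) • (1 : Matrix ι ι F[X]) := by
      rw [← map_mul, ← pow_two]
      ext i j
      by_cases hij : i = j
      · subst hij; simp
      · simp [hij]
    calc (Matrix.scalar ι (X : F[X]) - (C : F →+* F[X]).mapMatrix M) *
          (Matrix.scalar ι (X : F[X]) + (C : F →+* F[X]).mapMatrix M)
        = Matrix.scalar ι (X : F[X]) * Matrix.scalar ι (X : F[X]) -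
            (C : F →+* F[X]).mapMatrix M * (C : F →+* F[X]).mapMatrix M := by
          rw [sub_mul, mul_add, mul_add, hcomm]
          abel
      _ = _ := by rw [hXX, hsq, sub_smul]
  rw [h1, Matrix.det_smul, Matrix.det_one, mul_one]

/-- a matrix with `M² = μ` that is skew-adjoint for a nondegenerate form has determinant
`(-μ)^n` -/
theorem det_of_skew (h2' : (2 : F) ≠ 0) (M G : Matrix ι ι F) (μ : F)
    (hM : M * M = μ • (1 : Matrix ι ι F)) (hG : G.det ≠ 0)
    (hskew : Mᵀ * G = -(G * M)) (n : ℕ) (hn : Fintype.card ι = 2 * n) :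
    M.det = (-μ) ^ n := by
  have hdet : IsUnit G.det := isUnit_iff_ne_zero.mpr hG
  obtain ⟨Gu, hGu⟩ : ∃ Gu : (Matrix ι ι F)ˣ, Gu.val = G := ⟨G.nonsingInvUnit hdet, rfl⟩
  have hconj : Gu.val * (-M) * Gu.val⁻¹ = Mᵀ := by
    rw [hGu, Matrix.mul_neg, ← hskew, Matrix.mul_assoc, Matrix.mul_nonsing_inv G hdet,
      Matrix.mul_one]
  have hχ : (-M).charpoly = M.charpoly := by
    rw [← Matrix.charpoly_units_conj Gu (-M), hconj, Matrix.charpoly_transpose]
  have hprod := charpoly_mul_charpoly_neg M μ hM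
  rw [hχ, hn] at hprod
  have hsq : (M.charpoly - (X ^ 2 - C μ) ^ n) * (M.charpoly + (X ^ 2 - C μ) ^ n) = 0 := by
    have : ((X ^ 2 - C μ : F[X]) ^ n) * ((X ^ 2 - C μ) ^ n) = (X ^ 2 - C μ) ^ (2 * n) := by
      rw [← pow_add, two_mul]
    linear_combination hprod - this
  have hmonic : M.charpoly.Monic := Matrix.charpoly_monic M
  have hmonic2 : ((X ^ 2 - C μ : F[X]) ^ n).Monic := by
    apply Monic.pow
    exact monic_X_pow_sub_C μ (by norm_num)
  have hχeq : M.charpoly = (X ^ 2 - C μ) ^ n := by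
    rcases mul_eq_zero.mp hsq with h | h
    · exact sub_eq_zero.mp h
    · exfalso
      have h1 : M.charpoly = -((X ^ 2 - C μ : F[X]) ^ n) := eq_neg_of_add_eq_zero_left h
      have h2 := congrArg leadingCoeff h1
      rw [leadingCoeff_neg, hmonic.leadingCoeff, hmonic2.leadingCoeff] at h2
      have h3 : (2 : F) = 0 := by linear_combination h2
      exact h2' h3
  rw [Matrix.det_eq_sign_charpoly_coeff, hχeq, hn, pow_mul, neg_one_sq, one_pow, one_mul,
    coeff_zero_eq_eval_zero, eval_pow, eval_sub, eval_pow, eval_X, eval_C]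
  congr 1
  ring

/-- a matrix with `M² = μ`, `μ` a non-square, has determinant `(-μ)^n` -/
theorem det_of_nonsquare (M : Matrix ι ι F) (μ : F)
    (hM : M * M = μ • (1 : Matrix ι ι F)) (hμ : ¬ IsSquare μ) (n : ℕ)
    (hn : Fintype.card ι = 2 * n) : M.det = (-μ) ^ n := by
  have hprod := charpoly_mul_charpoly_neg M μ hM
  have hmon : (X ^ 2 - C μ : F[X]).Monic := monic_X_pow_sub_C μ (by norm_num)
  have hdeg2 : (X ^ 2 - C μ : F[X]).natDegree = 2 := natDegree_X_pow_sub_C
  have hirr : Irreducible (X ^ 2 - C μ : F[X]) := by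
    rw [hmon.irreducible_iff_roots_eq_zero_of_degree_le_three (by omega) (by omega)]
    rw [Multiset.eq_zero_iff_forall_notMem]
    intro x hx
    rw [mem_roots hmon.ne_zero, IsRoot.def] at hx
    simp only [eval_sub, eval_pow, eval_X, eval_C] at hx
    exact hμ ⟨x, by linear_combination -hx⟩
  have hprime : Prime (X ^ 2 - C μ : F[X]) := hirr.prime
  have hdvd : M.charpoly ∣ (X ^ 2 - C μ : F[X]) ^ Fintype.card ι := ⟨_, hprod.symm⟩
  obtain ⟨j, hj, hass⟩ := (dvd_prime_pow hprime _).mp hdvd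
  have hmonic : M.charpoly.Monic := Matrix.charpoly_monic M
  have heq : M.charpoly = (X ^ 2 - C μ : F[X]) ^ j :=
    eq_of_monic_of_associated hmonic (hmon.pow j) hass
  have hdeg := congrArg natDegree heq
  rw [Matrix.charpoly_natDegree_eq_dim, natDegree_pow, hdeg2, hn] at hdeg
  have hjn : j = n := by omega
  rw [Matrix.det_eq_sign_charpoly_coeff, heq, hjn, hn, pow_mul, neg_one_sq, one_pow, one_mul,
    coeff_zero_eq_eval_zero, eval_pow, eval_sub, eval_pow, eval_X, eval_C]
  congr 1
  ring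

end charpoly

section geom
variable {F : Type*} [Field F] [Fintype F] {ι : Type} [Fintype ι] [DecidableEq ι]
  (Q : QuadraticForm F (ι → F))

theorem finrank_fun : Module.finrank F (ι → F) = Fintype.card ι :=
  Module.finrank_fintype_fun_eq_card F

theorem Q_add' (x y : ι → F) : Q (x + y) = Q x + Q y + polar (⇑Q) x y := by
  unfold polar; ring

/-- the eigenvectors of an involutory isometry take values in both square classes -/
theorem exists_eigen_pair (h2 : (2 : F) ≠ 0) (hQ : (polarBilin Q).Nondegenerate)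
    (h5 : 5 ≤ Fintype.card ι) (N : Matrix ι ι F) (hN : N * N = 1)
    (hiso : ∀ v, Q (N *ᵥ v) = Q v) :
    ∃ (u u' : ι → F) (ε ε' : F), ε * ε = 1 ∧ ε' * ε' = 1 ∧ N *ᵥ u = ε • u ∧ N *ᵥ u' = ε' • u' ∧
      Q u ≠ 0 ∧ Q u' ≠ 0 ∧ ¬ IsSquare (Q u * Q u') := by
  classical
  have h5' : 5 ≤ Module.finrank F (ι → F) := by rw [finrank_fun]; exact h5
  have hNN : ∀ v, N *ᵥ (N *ᵥ v) = v := by
    intro v
    rw [Matrix.mulVec_mulVec, hN, Matrix.one_mulVec]
  have hpol : ∀ x y, polar (⇑Q) (N *ᵥ x) (N *ᵥ y) = polar (⇑Q) x y := by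
    intro x y
    unfold polar
    rw [← Matrix.mulVec_add, hiso, hiso, hiso]
  have hadj : ∀ x y, polar (⇑Q) (N *ᵥ x) y = polar (⇑Q) x (N *ᵥ y) := by
    intro x y
    nth_rewrite 1 [← hNN y]
    rw [hpol]
  -- eigenvectors from arbitrary vectors
  have heig : ∀ (ε : F) (hε : ε * ε = 1) (z : ι → F),
      N *ᵥ (z + ε • (N *ᵥ z)) = ε • (z + ε • (N *ᵥ z)) := by
    intro ε hε z
    rw [Matrix.mulVec_add, Matrix.mulVec_smul, hNN, smul_add, smul_smul, hε, one_smul, add_comm]
  have hchar : ringChar F ≠ 2 := by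
    intro h
    apply h2
    have := ringChar.spec F 2
    have h3 : ((2 : ℕ) : F) = 0 := by rw [this, h]
    exact_mod_cast h3
  obtain ⟨δ₀, hδ₀⟩ := FiniteField.exists_nonsquare hchar
  -- a non-singular eigenvector
  obtain ⟨u, ε, hε, hNu, hQu⟩ : ∃ (u : ι → F) (ε : F), ε * ε = 1 ∧ N *ᵥ u = ε • u ∧ Q u ≠ 0 := by
    obtain ⟨x, -, -, hx⟩ := exists_nonsingular_perp Q hQ h5' (0 : ι → F) 0
    have hsum : Q (x + (1 : F) • (N *ᵥ x)) + Q (x + (-1 : F) • (N *ᵥ x)) = 4 * Q x := by
      rw [Q_add', Q_add', QuadraticMap.map_smul, QuadraticMap.map_smul, hiso, polar_smul_right,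
        polar_smul_right]
      simp only [smul_eq_mul]
      ring
    by_cases h1 : Q (x + (1 : F) • (N *ᵥ x)) = 0
    · refine ⟨x + (-1 : F) • (N *ᵥ x), -1, by ring, heig (-1) (by ring) x, ?_⟩
      intro h0
      rw [h1, h0, add_zero] at hsum
      have h4 : (4 : F) ≠ 0 := by
        have : (4 : F) = 2 * 2 := by norm_num
        rw [this]
        exact mul_ne_zero h2 h2
      exact hx ((mul_eq_zero.mp hsum.symm).resolve_left h4)
    · exact ⟨x + (1 : F) • (N *ᵥ x), 1, by ring, heig 1 (by ring) x, h1⟩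
  obtain ⟨δ, hδ⟩ : ∃ δ : F, δ = δ₀ * Q u := ⟨_, rfl⟩
  have hδ0 : δ ≠ 0 := by
    rw [hδ]
    refine mul_ne_zero ?_ hQu
    rintro rfl
    exact hδ₀ ⟨0, by simp⟩
  suffices hmain : ∃ (u' : ι → F) (ε' : F), ε' * ε' = 1 ∧ N *ᵥ u' = ε' • u' ∧ Q u' = δ by
    obtain ⟨u', ε', hε', hNu', hQu'⟩ := hmain
    refine ⟨u, u', ε, ε', hε, hε', hNu, hNu', hQu, by rw [hQu']; exact hδ0, ?_⟩
    rw [hQu', hδ]
    rintro ⟨t, ht⟩
    apply hδ₀
    refine ⟨t / Q u, ?_⟩
    field_simp
    linear_combination ht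
  by_cases hcase : ∀ z, polar (⇑Q) u z = 0 → N *ᵥ z = (-ε) • z
  · -- every vector perpendicular to `u` is an eigenvector
    obtain ⟨b, hub, -, hQb⟩ := exists_nonsingular_perp Q hQ h5' u u
    obtain ⟨y, huy, -, hQy⟩ := exists_perp_value Q hQ h5' u b (by
      rw [hub]
      have e1 : polar (⇑Q) u u = 2 * Q u := by
        unfold polar
        have : u + u = (2 : F) • u := by rw [two_smul]
        rw [this, QuadraticMap.map_smul]
        simp only [smul_eq_mul]
        ring
      have e2 : polar (⇑Q) b b = 2 * Q b := by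
        unfold polar
        have : b + b = (2 : F) • b := by rw [two_smul]
        rw [this, QuadraticMap.map_smul]
        simp only [smul_eq_mul]
        ring
      rw [e1, e2, mul_zero, sub_zero]
      exact mul_ne_zero (mul_ne_zero h2 hQu) (mul_ne_zero h2 hQb)) δ
    exact ⟨y, -ε, by rw [neg_mul_neg, hε], hcase y huy, hQy⟩
  · push Not at hcase
    obtain ⟨z, huz, hNz⟩ := hcase
    obtain ⟨y, hy⟩ : ∃ y, y = z + ε • (N *ᵥ z) := ⟨_, rfl⟩
    have hy0 : y ≠ 0 := by
      intro h0
      apply hNz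
      rw [hy] at h0
      have h1 : ε • (N *ᵥ z) = -z := eq_neg_of_add_eq_zero_right h0
      have h3 := congrArg (fun w => ε • w) h1
      simp only [smul_smul, hε, one_smul, smul_neg] at h3
      rw [h3, neg_smul]
    have hNy : N *ᵥ y = ε • y := by rw [hy]; exact heig ε hε z
    -- perpendicularity is inherited
    have hperp : ∀ t, polar (⇑Q) u t = 0 → polar (⇑Q) u (t + ε • (N *ᵥ t)) = 0 := by
      intro t ht
      rw [polar_add_right, polar_smul_right, ht, ← hadj, hNu, polar_smul_left, ht]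
      simp
    have huy : polar (⇑Q) u y = 0 := by rw [hy]; exact hperp z huz
    by_cases hQy : Q y = 0
    · -- a partner of the singular eigenvector
      have hex : ∃ t₀, polar (⇑Q) y t₀ ≠ 0 := by
        by_contra hcon
        push Not at hcon
        exact hy0 (hQ.1 y hcon)
      obtain ⟨t₀, ht₀⟩ := hex
      obtain ⟨t, ht⟩ : ∃ t, t = t₀ - (polar (⇑Q) u t₀ / (2 * Q u)) • u := ⟨_, rfl⟩
      have e1 : polar (⇑Q) u u = 2 * Q u := by
        unfold polar
        have : u + u = (2 : F) • u := by rw [two_smul]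
        rw [this, QuadraticMap.map_smul]
        simp only [smul_eq_mul]
        ring
      have hut : polar (⇑Q) u t = 0 := by
        rw [ht, polar_sub_right, polar_smul_right, e1]
        simp only [smul_eq_mul]
        field_simp
        ring
      have hyt : polar (⇑Q) y t ≠ 0 := by
        rw [ht, polar_sub_right, polar_smul_right, polar_comm (⇑Q) y u, huy]
        simpa using ht₀
      obtain ⟨y', hy'⟩ : ∃ y', y' = t + ε • (N *ᵥ t) := ⟨_, rfl⟩
      have hNy' : N *ᵥ y' = ε • y' := by rw [hy']; exact heig ε hε t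
      have hyy' : polar (⇑Q) y y' = 2 * polar (⇑Q) y t := by
        rw [hy', polar_add_right, polar_smul_right, ← hadj, hNy, polar_smul_left]
        simp only [smul_eq_mul]
        linear_combination (polar (⇑Q) y t) * hε
      have hyy'0 : polar (⇑Q) y y' ≠ 0 := by rw [hyy']; exact mul_ne_zero h2 hyt
      refine ⟨((δ - Q y') / polar (⇑Q) y y') • y + y', ε, hε, ?_, ?_⟩
      · rw [Matrix.mulVec_add, Matrix.mulVec_smul, hNy, hNy', smul_add, smul_comm]
      · rw [Q_add', QuadraticMap.map_smul, hQy, polar_smul_left]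
        simp only [smul_eq_mul]
        field_simp
        ring
    · obtain ⟨s, t, hst⟩ := exists_binary_value h2 (Q u) (Q y) δ hQu hQy
      refine ⟨s • u + t • y, ε, hε, ?_, ?_⟩
      · rw [Matrix.mulVec_add, Matrix.mulVec_smul, Matrix.mulVec_smul, hNu, hNy, smul_add,
          smul_comm s, smul_comm t]
      · rw [Q_add', QuadraticMap.map_smul, QuadraticMap.map_smul, polar_smul_left,
          polar_smul_right, huy]
        simp only [smul_eq_mul]
        linear_combination hst

/-- a self-adjoint similarity with non-square `M² = μ` maps some non-singular vector to a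
perpendicular one -/
theorem exists_perp_image (h2 : (2 : F) ≠ 0) (hQ : (polarBilin Q).Nondegenerate)
    (h5 : 5 ≤ Fintype.card ι) (M : Matrix ι ι F) (μ : F) (hμ0 : μ ≠ 0)
    (hM : M * M = μ • (1 : Matrix ι ι F)) (hsim : ∀ v, Q (M *ᵥ v) = μ * Q v)
    (hns : ¬ IsSquare μ) : ∃ x, Q x ≠ 0 ∧ polar (⇑Q) x (M *ᵥ x) = 0 := by
  classical
  have h5' : 5 ≤ Module.finrank F (ι → F) := by rw [finrank_fun]; exact h5
  have hMM : ∀ v, M *ᵥ (M *ᵥ v) = μ • v := by
    intro v
    rw [Matrix.mulVec_mulVec, hM, Matrix.smul_mulVec, Matrix.one_mulVec]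
  have hpol : ∀ x y, polar (⇑Q) (M *ᵥ x) (M *ᵥ y) = μ * polar (⇑Q) x y := by
    intro x y
    unfold polar
    rw [← Matrix.mulVec_add, hsim, hsim, hsim]
    ring
  have hadj : ∀ x y, polar (⇑Q) (M *ᵥ x) y = polar (⇑Q) x (M *ᵥ y) := by
    intro x y
    have e : y = μ⁻¹ • (M *ᵥ (M *ᵥ y)) := by
      rw [hMM, smul_smul, inv_mul_cancel₀ hμ0, one_smul]
    nth_rewrite 1 [e]
    rw [polar_smul_right, hpol]
    simp only [smul_eq_mul]
    field_simp
  -- the auxiliary symmetric form
  obtain ⟨B', hB'⟩ : ∃ B' : LinearMap.BilinForm F (ι → F),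
      ∀ x y, B' x y = polar (⇑Q) x (M *ᵥ y) :=
    ⟨(polarBilin Q).compl₂ (Matrix.toLin' M), fun x y => by
      rw [LinearMap.compl₂_apply, Matrix.toLin'_apply]; rfl⟩
  have hS : B'.IsSymm := ⟨fun x y => by
    rw [hB', hB', ← hadj, polar_comm]⟩
  have hsurj : ∀ z, ∃ y, M *ᵥ y = z := by
    intro z
    refine ⟨μ⁻¹ • (M *ᵥ z), ?_⟩
    rw [Matrix.mulVec_smul, hMM, smul_smul, inv_mul_cancel₀ hμ0, one_smul]
  have hB'nd : B'.Nondegenerate := by
    constructor
    · intro x hx
      apply hQ.1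
      intro z
      obtain ⟨y, rfl⟩ := hsurj z
      have := hx y
      rw [hB'] at this
      exact this
    · intro y hy
      have h0 : M *ᵥ y = 0 := by
        apply hQ.1
        intro z
        have := hy z
        rw [hB', polar_comm] at this
        exact this
      have := hMM y
      rw [h0, Matrix.mulVec_zero] at this
      have h3 : μ • y = 0 := this.symm
      rcases smul_eq_zero.mp h3 with h | h
      · exact absurd h hμ0
      · exact h
  obtain ⟨e, he0, hee⟩ := exists_isotropic_of_three_le h2 B' hS hB'nd (by omega)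
  rw [hB'] at hee
  by_cases hQe : Q e = 0
  swap
  · exact ⟨e, hQe, hee⟩
  -- `e` and `M e` are independent
  have hMe0 : M *ᵥ e ≠ 0 := by
    intro h0
    have := hMM e
    rw [h0, Matrix.mulVec_zero] at this
    rcases smul_eq_zero.mp this.symm with h | h
    · exact hμ0 h
    · exact he0 h
  have hind : ∀ c : F, e ≠ c • (M *ᵥ e) := by
    intro c hc
    have hc0 : c ≠ 0 := by
      rintro rfl
      rw [zero_smul] at hc
      exact he0 hc
    have h1 : M *ᵥ e = c⁻¹ • e := by
      nth_rewrite 2 [hc]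
      rw [smul_smul, inv_mul_cancel₀ hc0, one_smul]
    have h3 := hMM e
    rw [h1, Matrix.mulVec_smul, h1, smul_smul] at h3
    have h4 : (c⁻¹ * c⁻¹ - μ) • e = 0 := by rw [sub_smul, h3, sub_self]
    rcases smul_eq_zero.mp h4 with h | h
    · exact hns ⟨c⁻¹, by linear_combination -h⟩
    · exact he0 h
  obtain ⟨w, hw1, hw0⟩ := exists_polar_values Q hQ (M *ᵥ e) e hMe0 hind 1 0
  obtain ⟨z, hez, hMez, hQz⟩ := exists_nonsingular_perp Q hQ h5' e (M *ᵥ e)
  -- the three candidates
  have hcand : ∀ x : ι → F, polar (⇑Q) (M *ᵥ e) x = 1 → polar (⇑Q) e x = 0 →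
      ∃ v, Q v = Q x ∧ polar (⇑Q) v (M *ᵥ v) = 0 := by
    intro x hx1 hx0
    refine ⟨(-(polar (⇑Q) x (M *ᵥ x)) / 2) • e + x, ?_, ?_⟩
    · rw [Q_add', QuadraticMap.map_smul, hQe, polar_smul_left, hx0]
      simp
    · have e1 : polar (⇑Q) e (M *ᵥ x) = 1 := by rw [← hadj e x, hx1]
      have e2 : polar (⇑Q) x (M *ᵥ e) = 1 := by rw [polar_comm, hx1]
      rw [Matrix.mulVec_add, Matrix.mulVec_smul, polar_add_left, polar_add_right, polar_add_right,
        polar_smul_left, polar_smul_left, polar_smul_right, polar_smul_right, hee, e1, e2]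
      simp only [smul_eq_mul]
      field_simp
      ring
  by_cases h1 : Q w = 0
  swap
  · obtain ⟨v, hv1, hv2⟩ := hcand w hw1 hw0
    exact ⟨v, by rw [hv1]; exact h1, hv2⟩
  by_cases h3 : Q (w + z) = 0
  swap
  · obtain ⟨v, hv1, hv2⟩ := hcand (w + z) (by rw [polar_add_right, hw1, hMez, add_zero])
      (by rw [polar_add_right, hw0, hez, add_zero])
    exact ⟨v, by rw [hv1]; exact h3, hv2⟩
  have h4 : Q (w + (-1 : F) • z) ≠ 0 := by
    intro h4
    rw [Q_add', QuadraticMap.map_smul, polar_smul_right, h1] at h4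
    rw [Q_add', h1] at h3
    simp only [smul_eq_mul] at h4
    have h6 : (2 : F) * Q z = 0 := by linear_combination h3 + h4
    rcases mul_eq_zero.mp h6 with h | h
    · exact h2 h
    · exact hQz h
  obtain ⟨v, hv1, hv2⟩ := hcand (w + (-1 : F) • z)
    (by rw [polar_add_right, polar_smul_right, hw1, hMez]; simp)
    (by rw [polar_add_right, polar_smul_right, hw0, hez]; simp)
  exact ⟨v, by rw [hv1]; exact h4, hv2⟩

end geom

end Cfsg.Agent.Lib.Helper16.GraphSplitOrth
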