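import Mathlib
import Cfsg.Agent.Lib.Helper16.GraphSplitOrth
import Cfsg.Agent.Lib.Helper16.SplitCount
import Cfsg.Agent.Lib.Helper6.Inndiag
import Cfsg.Agent.Lib.Helper6.SimAut2

/-!
# Involutory graph automorphisms of the even dimensional orthogonal groups: the count
-/

set_option autoImplicit false
set_option linter.unusedSectionVars false
set_option linter.unusedVariables false
set_option linter.style.haveILetI false

namespace Cfsg.Agent.Lib.Helper16.GraphSplitOrth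

open Matrix Polynomial QuadraticMap Cfsg.Agent.Lib.Helper6 Cfsg.Agent.Lib.Helper6.SimAut
  Cfsg.Agent.Lib.Helper6.Inndiag Cfsg.Agent.Lib.Helper6.OmegaAut

section refl
variable {F : Type*} [Field F] {ι : Type} [Fintype ι] [DecidableEq ι]
  (Q : QuadraticForm F (ι → F))

theorem refl_smul (c : F) (hc : c ≠ 0) (a : ι → F) :
    Cfsg.reflectionMatrix ⇑Q (c • a) = Cfsg.reflectionMatrix ⇑Q a := by
  apply matrix_ext_mulVec
  intro x
  rw [reflectionMatrix_mulVec, reflectionMatrix_mulVec, QuadraticMap.map_smul, polar_smul_left,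
    smul_smul]
  congr 2
  simp only [smul_eq_mul]
  by_cases ha : Q a = 0
  · rw [ha]; simp
  · field_simp

theorem refl_comm_of_perp (a b : ι → F) (hab : polar (⇑Q) a b = 0) :
    Cfsg.reflectionMatrix ⇑Q a * Cfsg.reflectionMatrix ⇑Q b =
      Cfsg.reflectionMatrix ⇑Q b * Cfsg.reflectionMatrix ⇑Q a := by
  apply matrix_ext_mulVec
  intro x
  have hba : polar (⇑Q) b a = 0 := by rw [polar_comm]; exact hab
  rw [← Matrix.mulVec_mulVec, ← Matrix.mulVec_mulVec, reflectionMatrix_mulVec Q b x,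
    reflectionMatrix_mulVec Q a x, reflectionMatrix_mulVec, reflectionMatrix_mulVec,
    polar_sub_right, polar_sub_right, polar_smul_right, polar_smul_right, hab, hba]
  simp only [smul_eq_mul, mul_zero, sub_zero]
  abel

theorem gram_skew (M : Matrix ι ι F)
    (hskew : ∀ x y, polar (⇑Q) (M *ᵥ x) y = - polar (⇑Q) x (M *ᵥ y)) :
    Mᵀ * LinearMap.BilinForm.toMatrix' (polarBilin Q) =
      -(LinearMap.BilinForm.toMatrix' (polarBilin Q) * M) := by
  have h1 : LinearMap.BilinForm.compLeft (polarBilin Q) (Matrix.toLin' M) +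
      (LinearMap.BilinForm.compRight (polarBilin Q) (Matrix.toLin' M)) = 0 := by
    refine LinearMap.ext fun x => LinearMap.ext fun y => ?_
    simp only [LinearMap.BilinForm.compLeft_apply, LinearMap.BilinForm.compRight_apply,
      Matrix.toLin'_apply, LinearMap.add_apply, polarBilin_apply_apply, LinearMap.zero_apply]
    rw [hskew x y]
    ring
  have h2 := congrArg LinearMap.BilinForm.toMatrix' h1
  rw [map_add, map_zero, LinearMap.BilinForm.toMatrix'_compLeft,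
    LinearMap.BilinForm.toMatrix'_compRight, LinearMap.toMatrix'_toLin'] at h2
  exact eq_neg_of_add_eq_zero_left h2

end refl

section pair
variable {F : Type*} [Field F] [Fintype F] [DecidableEq F] {ι : Type} [Fintype ι] [DecidableEq ι]
  (Q : QuadraticForm F (ι → F))

/-- moving a similarity past a reflection -/
theorem sim_mul_refl (g : ↥(GO Q)) (a : ι → F) (ha : Q a ≠ 0) :
    ((g.1 : GL ι F) : Matrix ι ι F) * Cfsg.reflectionMatrix ⇑Q a =
      Cfsg.reflectionMatrix ⇑Q (((g.1 : GL ι F) : Matrix ι ι F) *ᵥ a) *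
        ((g.1 : GL ι F) : Matrix ι ι F) := by
  rw [← sim_conj_refl Q g a ha, Matrix.mul_assoc, ← Units.val_mul, inv_mul_cancel, Units.val_one,
    Matrix.mul_one]

/-- a similarity with scalar square outside `KK` commutes with a product of two reflections
of non-square spinor norm -/
theorem exists_commuting_pair (h2 : (2 : F) ≠ 0) (hQ : (polarBilin Q).Nondegenerate)
    (h5 : 5 ≤ Fintype.card ι) (v₀ : ι → F) (hv₀ : Q v₀ ≠ 0) (m : ℕ)
    (hcard : Fintype.card ι = 2 * m) (g : ↥(GO Q)) (hg : g ∉ KK Q v₀ hv₀ m) (μ : F)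
    (hμ : ((g.1 : GL ι F) : Matrix ι ι F) * ((g.1 : GL ι F) : Matrix ι ι F) =
      μ • (1 : Matrix ι ι F)) :
    ∃ u u' : ι → F, Q u ≠ 0 ∧ Q u' ≠ 0 ∧ ¬ IsSquare (Q u * Q u') ∧
      ((g.1 : GL ι F) : Matrix ι ι F) *
          (Cfsg.reflectionMatrix ⇑Q u * Cfsg.reflectionMatrix ⇑Q u') =
        (Cfsg.reflectionMatrix ⇑Q u * Cfsg.reflectionMatrix ⇑Q u') *
          ((g.1 : GL ι F) : Matrix ι ι F) := by
  set M : Matrix ι ι F := ((g.1 : GL ι F) : Matrix ι ι F) with hMdef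
  set lam : F := ((mulr Q g : Fˣ) : F) with hlam
  have hlam0 : lam ≠ 0 := Units.ne_zero _
  have hsim : ∀ v, Q (M *ᵥ v) = lam * Q v := mulr_spec Q g
  have hMM : ∀ v, M *ᵥ (M *ᵥ v) = μ • v := by
    intro v
    rw [Matrix.mulVec_mulVec, hμ, Matrix.smul_mulVec, Matrix.one_mulVec]
  have hsq : lam * lam = μ * μ := by
    have h1 : Q (M *ᵥ (M *ᵥ v₀)) = lam * (lam * Q v₀) := by rw [hsim, hsim]
    rw [hMM, QuadraticMap.map_smul, smul_eq_mul] at h1
    have h3 : (lam * lam - μ * μ) * Q v₀ = 0 := by linear_combination -h1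
    rcases mul_eq_zero.mp h3 with h | h
    · linear_combination h
    · exact absurd h hv₀
  have hμ0 : μ ≠ 0 := by
    rintro rfl
    rw [mul_zero] at hsq
    exact hlam0 (mul_self_eq_zero.mp hsq)
  have hpol : ∀ x y, polar (⇑Q) (M *ᵥ x) (M *ᵥ y) = lam * polar (⇑Q) x y := polar_sim Q g
  have hadj : ∀ x y, polar (⇑Q) (M *ᵥ x) y = (lam / μ) * polar (⇑Q) x (M *ᵥ y) := by
    intro x y
    have e : y = μ⁻¹ • (M *ᵥ (M *ᵥ y)) := by
      rw [hMM, smul_smul, inv_mul_cancel₀ hμ0, one_smul]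
    nth_rewrite 1 [e]
    rw [polar_smul_right, hpol]
    simp only [smul_eq_mul]
    field_simp
  have hcases : lam = μ ∨ lam = -μ := by
    have : (lam - μ) * (lam + μ) = 0 := by linear_combination hsq
    rcases mul_eq_zero.mp this with h | h
    · left; linear_combination h
    · right; linear_combination h
  rcases hcases with hlm | hlm
  swap
  · -- skew-adjoint: impossible
    exfalso
    apply hg
    rw [mem_KK_iff]
    have hskew : ∀ x y, polar (⇑Q) (M *ᵥ x) y = - polar (⇑Q) x (M *ᵥ y) := by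
      intro x y
      rw [hadj, hlm]
      field_simp
    have hG : (LinearMap.BilinForm.toMatrix' (polarBilin Q)).det ≠ 0 := by
      have := (LinearMap.BilinForm.nondegenerate_iff_det_ne_zero (Pi.basisFun F ι)).mp hQ
      rwa [LinearMap.BilinForm.toMatrix_basisFun] at this
    have := det_of_skew h2 M _ μ hμ hG (gram_skew Q M hskew) m hcard
    rw [this, ← hlm]
  have hadj' : ∀ x y, polar (⇑Q) (M *ᵥ x) y = polar (⇑Q) x (M *ᵥ y) := by
    intro x y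
    rw [hadj, hlm, div_self hμ0, one_mul]
  have hsim' : ∀ v, Q (M *ᵥ v) = μ * Q v := by
    intro v; rw [hsim, hlm]
  by_cases hsqμ : IsSquare μ
  · obtain ⟨s, hs⟩ := hsqμ
    have hs0 : s ≠ 0 := by
      rintro rfl
      rw [mul_zero] at hs
      exact hμ0 hs
    obtain ⟨u, u', ε, ε', hε, hε', hu, hu', hQu, hQu', hns⟩ :=
      exists_eigen_pair Q h2 hQ h5 (s⁻¹ • M)
        (by
          rw [Matrix.smul_mul, Matrix.mul_smul, hμ, smul_smul, smul_smul, hs]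
          have : s⁻¹ * s⁻¹ * (s * s) = 1 := by field_simp
          rw [this, one_smul])
        (by
          intro v
          rw [Matrix.smul_mulVec, QuadraticMap.map_smul, hsim', hs, smul_eq_mul]
          field_simp)
    refine ⟨u, u', hQu, hQu', hns, ?_⟩
    have hMu : M *ᵥ u = (s * ε) • u := by
      rw [Matrix.smul_mulVec] at hu
      have : M *ᵥ u = s • (s⁻¹ • (M *ᵥ u)) := by
        rw [smul_smul, mul_inv_cancel₀ hs0, one_smul]
      rw [this, hu, smul_smul]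
    have hMu' : M *ᵥ u' = (s * ε') • u' := by
      rw [Matrix.smul_mulVec] at hu'
      have : M *ᵥ u' = s • (s⁻¹ • (M *ᵥ u')) := by
        rw [smul_smul, mul_inv_cancel₀ hs0, one_smul]
      rw [this, hu', smul_smul]
    have hε0 : ε ≠ 0 := by
      rintro rfl
      rw [mul_zero] at hε
      exact zero_ne_one hε
    have hε'0 : ε' ≠ 0 := by
      rintro rfl
      rw [mul_zero] at hε'
      exact zero_ne_one hε'
    have c1 : M * Cfsg.reflectionMatrix ⇑Q u = Cfsg.reflectionMatrix ⇑Q u * M := by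
      rw [hMdef, sim_mul_refl Q g u hQu, ← hMdef, hMu, refl_smul Q _ (mul_ne_zero hs0 hε0)]
    have c2 : M * Cfsg.reflectionMatrix ⇑Q u' = Cfsg.reflectionMatrix ⇑Q u' * M := by
      rw [hMdef, sim_mul_refl Q g u' hQu', ← hMdef, hMu', refl_smul Q _ (mul_ne_zero hs0 hε'0)]
    rw [← Matrix.mul_assoc, c1, Matrix.mul_assoc, c2, Matrix.mul_assoc]
  · obtain ⟨x, hQx, hperp⟩ := exists_perp_image Q h2 hQ h5 M μ hμ0 hμ hsim' hsqμ
    have hQMx : Q (M *ᵥ x) ≠ 0 := by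
      rw [hsim']
      exact mul_ne_zero hμ0 hQx
    refine ⟨x, M *ᵥ x, hQx, hQMx, ?_, ?_⟩
    · rw [hsim']
      rintro ⟨r, hr⟩
      apply hsqμ
      refine ⟨r / Q x, ?_⟩
      field_simp
      linear_combination hr
    · have c1 : M * Cfsg.reflectionMatrix ⇑Q x = Cfsg.reflectionMatrix ⇑Q (M *ᵥ x) * M := by
        rw [hMdef, sim_mul_refl Q g x hQx]
      have c2 : M * Cfsg.reflectionMatrix ⇑Q (M *ᵥ x) = Cfsg.reflectionMatrix ⇑Q x * M := by
        rw [hMdef, sim_mul_refl Q g _ hQMx, ← hMdef, hMM, refl_smul Q _ hμ0]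
      rw [← Matrix.mul_assoc, c1, Matrix.mul_assoc, c2, ← Matrix.mul_assoc,
        refl_comm_of_perp Q _ _ (by rw [polar_comm]; exact hperp)]

end pair

section count
variable {F : Type*} [Field F] [Fintype F] [DecidableEq F] {ι : Type} [Fintype ι] [DecidableEq ι]
  (Q : QuadraticForm F (ι → F))

theorem card_quot_two (h2 : (2 : F) ≠ 0) (hQ : (QuadraticMap.polarBilin Q).Nondegenerate)
    (h5 : 5 ≤ Fintype.card ι) (T : HypTriple Q) (v₀ : ι → F) (hv₀ : Q v₀ ≠ 0) (m : ℕ)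
    (hm : Fintype.card ι = 2 * m) (h : ↥(GO Q)) (hh : ¬ IsSquare (mulr Q h : F))
    (hhK : h ∈ KK Q v₀ hv₀ m) (hneg : negIso Q ∉ Cfsg.Omega F ⇑Q) :
    Nat.card (↥((KK Q v₀ hv₀ m).map (fGO Q)) ⧸
      (Cfsg.Inn (Cfsg.POmega F ⇑Q)).subgroupOf ((KK Q v₀ hv₀ m).map (fGO Q))) = 2 := by
  rw [← Subgroup.index_eq_card]
  change (Cfsg.Inn (Cfsg.POmega F ⇑Q)).relIndex _ = 2
  rw [← Subgroup.relIndex_mul_relIndex _ _ _ (Inn_le_psoAut Q)
    (psoAut_le_map Q h2 hQ h5 v₀ hv₀ m hm),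
    relIndex_Inn_psoAut_of_notMem Q h2 hQ h5 ⟨m, by rw [hm]; ring⟩ T hneg,
    relIndex_psoAut_map Q h2 hQ h5 T v₀ hv₀ m hm h hh hhK]

theorem psi_surjective (v₀ : ι → F) (hv₀ : Q v₀ ≠ 0) (m : ℕ) :
    Function.Surjective (psi Q v₀ hv₀ m) := by
  intro a
  obtain ⟨⟨x, k, hk, rfl⟩, rfl⟩ := QuotientGroup.mk_surjective a
  exact ⟨⟨k, hk⟩, rfl⟩

/-- the element of `KK` commuting with `g` and not inner -/
theorem exists_commuting (h2 : (2 : F) ≠ 0) (hQ : (polarBilin Q).Nondegenerate)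
    (h5 : 5 ≤ Fintype.card ι) (T : HypTriple Q) (v₀ : ι → F) (hv₀ : Q v₀ ≠ 0) (m : ℕ)
    (hcard : Fintype.card ι = 2 * m) (hneg : negIso Q ∈ Cfsg.Omega F ⇑Q)
    (g : ↥(GO Q)) (hg : g ∉ KK Q v₀ hv₀ m) (μ : F)
    (hμ : ((g.1 : GL ι F) : Matrix ι ι F) * ((g.1 : GL ι F) : Matrix ι ι F) =
      μ • (1 : Matrix ι ι F)) :
    ∃ k : ↥(GO Q), k ∈ KK Q v₀ hv₀ m ∧ g * k = k * g ∧
      fGO Q k ∉ Cfsg.Inn (Cfsg.POmega F ⇑Q) := by
  obtain ⟨u, u', hQu, hQu', hns, hcomm⟩ :=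
    exists_commuting_pair Q h2 hQ h5 v₀ hv₀ m hcard g hg μ hμ
  have hvs : ∀ v ∈ [u, u'], Q v ≠ 0 := by
    intro v hv
    simp only [List.mem_cons, List.not_mem_nil, or_false] at hv
    rcases hv with rfl | rfl
    · exact hQu
    · exact hQu'
  obtain ⟨k₀, hk₀⟩ := exists_of_list' Q [u, u'] hvs
  have hk₀' : ((k₀.1 : GL ι F) : Matrix ι ι F) =
      Cfsg.reflectionMatrix ⇑Q u * Cfsg.reflectionMatrix ⇑Q u' := by
    rw [hk₀]
    simp
  set k : ↥(GO Q) := ⟨k₀.1, isometryGroup_le_GO Q k₀.2⟩ with hk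
  have hmulr : mulr Q k = 1 := by
    apply mulr_eq Q v₀ hv₀
    intro v
    rw [Units.val_one, one_mul]
    exact (mem_isometryGroup_iff Q k₀.1).mp k₀.2 v
  refine ⟨k, ?_, ?_, ?_⟩
  · rw [mem_KK_iff, hmulr, Units.val_one, one_pow]
    change ((k₀.1 : GL ι F) : Matrix ι ι F).det = 1
    rw [hk₀', Matrix.det_mul, det_reflectionMatrix Q h2 u hQu, det_reflectionMatrix Q h2 u' hQu']
    ring
  · apply Subtype.ext
    apply Units.ext
    change ((g.1 : GL ι F) : Matrix ι ι F) * ((k₀.1 : GL ι F) : Matrix ι ι F) =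
      ((k₀.1 : GL ι F) : Matrix ι ι F) * ((g.1 : GL ι F) : Matrix ι ι F)
    rw [hk₀', hcomm]
  · rw [fGO_list_mem_Inn_iff Q h2 hQ h5 T hneg k [u, u'] hvs hk₀]
    rintro ⟨-, hsq⟩
    apply hns
    simpa using hsq

set_option maxHeartbeats 1600000 in
/-- the quotient `PGO/Inn` being dihedral, the graph automorphism does not commute with all of
`Inndiag` modulo `Inn` -/
theorem dihedral_contra (h2 : (2 : F) ≠ 0) (hQ : (polarBilin Q).Nondegenerate)
    (h5 : 5 ≤ Fintype.card ι) (T : HypTriple Q) (v₀ : ι → F) (hv₀ : Q v₀ ≠ 0) (m : ℕ)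
    (hcard : Fintype.card ι = 2 * m) (h : ↥(GO Q)) (hh : ¬ IsSquare (mulr Q h : F))
    (hhK : h ∈ KK Q v₀ hv₀ m) (hneg : negIso Q ∈ Cfsg.Omega F ⇑Q)
    (g : ↥(GO Q)) (hg : g ∉ KK Q v₀ hv₀ m)
    (hall : ∀ k : ↥(KK Q v₀ hv₀ m), ∃ k' : ↥(KK Q v₀ hv₀ m),
      psi Q v₀ hv₀ m k' = psi Q v₀ hv₀ m k ∧ fGO Q g * fGO Q k'.1 = fGO Q k'.1 * fGO Q g) :
    False := by
  have h4c := card_quot_four Q h2 hQ h5 T v₀ hv₀ m hcard h hh hhK hneg
  haveI : Finite (↥((KK Q v₀ hv₀ m).map (fGO Q)) ⧸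
      (Cfsg.Inn (Cfsg.POmega F ⇑Q)).subgroupOf ((KK Q v₀ hv₀ m).map (fGO Q))) :=
    Nat.finite_of_card_ne_zero (by rw [h4c]; norm_num)
  have hcommA : ∀ a b : ↥((KK Q v₀ hv₀ m).map (fGO Q)) ⧸
      (Cfsg.Inn (Cfsg.POmega F ⇑Q)).subgroupOf ((KK Q v₀ hv₀ m).map (fGO Q)), a * b = b * a := by
    haveI : Fact (Nat.Prime 2) := ⟨Nat.prime_two⟩
    have := IsPGroup.isMulCommutative_of_card_eq_prime_sq (p := 2) (by rw [h4c]; norm_num :
      Nat.card (↥((KK Q v₀ hv₀ m).map (fGO Q)) ⧸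
      (Cfsg.Inn (Cfsg.POmega F ⇑Q)).subgroupOf ((KK Q v₀ hv₀ m).map (fGO Q))) = 2 ^ 2)
    exact this.is_comm.comm
  obtain ⟨φ, hφs, hφk⟩ := exists_hom_pgoAut_Inn_of_mem Q h2 hQ h5 T m hcard h hh hneg
  have hmemP : ∀ x : ↥(GO Q), fGO Q x ∈ Cfsg.pgoAut F ⇑Q := by
    intro x
    rw [pgoAut_eq_range]
    exact ⟨x, rfl⟩
  obtain ⟨Φ, hΦ⟩ : ∃ Φ : ↥(GO Q) →* DihedralGroup 4, ∀ x, Φ x = φ ⟨fGO Q x, hmemP x⟩ :=
    ⟨φ.comp (MonoidHom.codRestrict (fGO Q) (Cfsg.pgoAut F ⇑Q) hmemP), fun x => rfl⟩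
  have hΦ1 : ∀ x : ↥(GO Q), Φ x = 1 ↔ fGO Q x ∈ Cfsg.Inn (Cfsg.POmega F ⇑Q) := by
    intro x
    rw [hΦ, ← MonoidHom.mem_ker, hφk, Subgroup.mem_subgroupOf]
  have hΦs : Function.Surjective Φ := by
    intro d
    obtain ⟨⟨y, hy⟩, rfl⟩ := hφs d
    have hy' := hy
    rw [pgoAut_eq_range] at hy'
    obtain ⟨x, rfl⟩ := hy'
    exact ⟨x, hΦ x⟩
  have hΦeq : ∀ k k' : ↥(KK Q v₀ hv₀ m), psi Q v₀ hv₀ m k = psi Q v₀ hv₀ m k' →
      Φ k.1 = Φ k'.1 := by
    intro k k' hkk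
    have h1 : psi Q v₀ hv₀ m (k'⁻¹ * k) = 1 := by
      rw [map_mul, map_inv, hkk, inv_mul_cancel]
    rw [psi_eq_one_iff] at h1
    have h3 : Φ (k'⁻¹ * k).1 = 1 := (hΦ1 _).mpr h1
    have h4 : (k'⁻¹ * k).1 = k'.1⁻¹ * k.1 := rfl
    rw [h4, map_mul, map_inv] at h3
    exact (inv_mul_eq_one.mp h3).symm
  have comm_kk : ∀ k₁ k₂ : ↥(KK Q v₀ hv₀ m), Commute (Φ k₁.1) (Φ k₂.1) := by
    intro k₁ k₂
    have h1 := hcommA (psi Q v₀ hv₀ m k₁) (psi Q v₀ hv₀ m k₂)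
    rw [← map_mul, ← map_mul] at h1
    have h3 := hΦeq _ _ h1
    have h4 : (k₁ * k₂).1 = k₁.1 * k₂.1 := rfl
    have h5 : (k₂ * k₁).1 = k₂.1 * k₁.1 := rfl
    rw [h4, h5, map_mul, map_mul] at h3
    exact h3
  have comm_gk : ∀ k : ↥(KK Q v₀ hv₀ m), Commute (Φ g) (Φ k.1) := by
    intro k
    obtain ⟨k', hkk, h3⟩ := hall k
    rw [← hΦeq _ _ hkk]
    change Φ g * Φ k'.1 = Φ k'.1 * Φ g
    rw [← map_mul, ← map_mul, hΦ, hΦ]
    congr 2
    rw [map_mul, map_mul, h3]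
  have hx : ∀ x : ↥(GO Q), ∃ k : ↥(KK Q v₀ hv₀ m), Φ x = Φ k.1 ∨ Φ x = Φ g * Φ k.1 := by
    intro x
    by_cases hxK : x ∈ KK Q v₀ hv₀ m
    · exact ⟨⟨x, hxK⟩, Or.inl rfl⟩
    · refine ⟨⟨g⁻¹ * x, ?_⟩, Or.inr ?_⟩
      · have hgd : dHom Q v₀ hv₀ m g = -1 := by
          rcases dHom_cases Q hQ v₀ hv₀ m hcard g with h1 | h1
          · exact absurd (MonoidHom.mem_ker.mpr h1) hg
          · exact h1
        have hxd : dHom Q v₀ hv₀ m x = -1 := by
          rcases dHom_cases Q hQ v₀ hv₀ m hcard x with h1 | h1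
          · exact absurd (MonoidHom.mem_ker.mpr h1) hxK
          · exact h1
        change g⁻¹ * x ∈ (dHom Q v₀ hv₀ m).ker
        rw [MonoidHom.mem_ker, map_mul, map_inv, hgd, hxd]
        simp
      · change Φ x = Φ g * Φ (g⁻¹ * x)
        rw [← map_mul, mul_inv_cancel_left]
  have hall' : ∀ x y : ↥(GO Q), Commute (Φ x) (Φ y) := by
    intro x y
    obtain ⟨k₁, h1 | h1⟩ := hx x <;> obtain ⟨k₂, h3 | h3⟩ := hx y <;> rw [h1, h3]
    · exact comm_kk k₁ k₂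
    · exact Commute.mul_right (comm_gk k₁).symm (comm_kk k₁ k₂)
    · exact Commute.mul_left (comm_gk k₂) (comm_kk k₁ k₂)
    · exact Commute.mul_left (Commute.mul_right (Commute.refl _) (comm_gk k₂))
        (Commute.mul_right (comm_gk k₁).symm (comm_kk k₁ k₂))
  obtain ⟨x, hx1⟩ := hΦs (DihedralGroup.r 1)
  obtain ⟨y, hy1⟩ := hΦs (DihedralGroup.sr 0)
  have h7 := (hall' x y).eq
  rw [hx1, hy1] at h7
  exact absurd h7 (by decide)

set_option maxHeartbeats 1600000 in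
/-- **the count**: the `KK`-class of the involutory graph automorphism `fGO g` is one or two
`Inn`-classes, and two of them if `-1 ∈ Ω`. -/
theorem count_general (h2 : (2 : F) ≠ 0) (hQ : (polarBilin Q).Nondegenerate)
    (h5 : 5 ≤ Fintype.card ι) (T : HypTriple Q) (v₀ : ι → F) (hv₀ : Q v₀ ≠ 0) (m : ℕ)
    (hcard : Fintype.card ι = 2 * m) (h : ↥(GO Q)) (hh : ¬ IsSquare (mulr Q h : F))
    (hhK : h ∈ KK Q v₀ hv₀ m)
    (g : ↥(GO Q)) (hg : g ∉ KK Q v₀ hv₀ m) (μ : F)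
    (hμ : ((g.1 : GL ι F) : Matrix ι ι F) * ((g.1 : GL ι F) : Matrix ι ι F) =
      μ • (1 : Matrix ι ι F)) :
    (Cfsg.splitClassCount ((KK Q v₀ hv₀ m).map (fGO Q)) (Cfsg.Inn (Cfsg.POmega F ⇑Q))
        (fGO Q g) = 1 ∨
      Cfsg.splitClassCount ((KK Q v₀ hv₀ m).map (fGO Q)) (Cfsg.Inn (Cfsg.POmega F ⇑Q))
        (fGO Q g) = 2) ∧
    (negIso Q ∈ Cfsg.Omega F ⇑Q →
      Cfsg.splitClassCount ((KK Q v₀ hv₀ m).map (fGO Q)) (Cfsg.Inn (Cfsg.POmega F ⇑Q))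
        (fGO Q g) = 2) := by
  obtain ⟨c, hc⟩ : ∃ c : ↥(KK Q v₀ hv₀ m) →* MulAut (Cfsg.POmega F ⇑Q),
      c = (fGO Q).comp (KK Q v₀ hv₀ m).subtype := ⟨_, rfl⟩
  have hcr : c.range = (KK Q v₀ hv₀ m).map (fGO Q) := by
    rw [hc, MonoidHom.range_comp, Subgroup.range_subtype]
  have hcapp : ∀ k : ↥(KK Q v₀ hv₀ m), c k = fGO Q k.1 := by
    intro k; rw [hc]; rfl
  have hcount := Cfsg.Agent.Lib.Helper16.SplitCount.splitClassCount_eq
    ((KK Q v₀ hv₀ m).map (fGO Q)) (Cfsg.Inn (Cfsg.POmega F ⇑Q)) (fGO Q g) c hcr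
    (Inn_le_map Q h2 hQ h5 v₀ hv₀ m hcard) (psi Q v₀ hv₀ m) (psi_surjective Q v₀ hv₀ m)
    (fun k => by rw [hcapp]; exact (psi_eq_one_iff Q v₀ hv₀ m k).symm)
  rw [hcount]
  obtain ⟨D, hD⟩ : ∃ D, D = ((Subgroup.centralizer {fGO Q g}).comap c).map (psi Q v₀ hv₀ m) :=
    ⟨_, rfl⟩
  rw [← hD]
  have hmemD : ∀ k : ↥(KK Q v₀ hv₀ m), fGO Q g * fGO Q k.1 = fGO Q k.1 * fGO Q g →
      psi Q v₀ hv₀ m k ∈ D := by
    intro k hk
    rw [hD]
    refine Subgroup.mem_map_of_mem _ ?_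
    rw [Subgroup.mem_comap, Subgroup.mem_centralizer_iff]
    intro y hy
    rw [Set.mem_singleton_iff] at hy
    rw [hy, hcapp]
    exact hk
  by_cases hneg : negIso Q ∈ Cfsg.Omega F ⇑Q
  swap
  · refine ⟨?_, fun h => absurd h hneg⟩
    have h2c := card_quot_two Q h2 hQ h5 T v₀ hv₀ m hcard h hh hhK hneg
    have hdvd : D.index ∣ 2 := by
      rw [← h2c]
      exact Subgroup.index_dvd_card D
    rcases (Nat.dvd_prime Nat.prime_two).mp hdvd with h1 | h1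
    · left; exact h1
    · right; exact h1
  have h4c := card_quot_four Q h2 hQ h5 T v₀ hv₀ m hcard h hh hhK hneg
  haveI : Finite (↥((KK Q v₀ hv₀ m).map (fGO Q)) ⧸
      (Cfsg.Inn (Cfsg.POmega F ⇑Q)).subgroupOf ((KK Q v₀ hv₀ m).map (fGO Q))) :=
    Nat.finite_of_card_ne_zero (by rw [h4c]; norm_num)
  -- `D ≠ ⊥`
  have hDbot : D ≠ ⊥ := by
    obtain ⟨k, hkK, hgk, hkI⟩ := exists_commuting Q h2 hQ h5 T v₀ hv₀ m hcard hneg g hg μ hμ
    intro hbot
    have h1 : psi Q v₀ hv₀ m ⟨k, hkK⟩ ∈ D := by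
      apply hmemD
      change fGO Q g * fGO Q k = fGO Q k * fGO Q g
      rw [← map_mul, ← map_mul, hgk]
    rw [hbot, Subgroup.mem_bot, psi_eq_one_iff] at h1
    exact hkI h1
  -- `D ≠ ⊤`
  have hDtop : D ≠ ⊤ := by
    intro htop
    apply dihedral_contra Q h2 hQ h5 T v₀ hv₀ m hcard h hh hhK hneg g hg
    intro k
    have h1 : psi Q v₀ hv₀ m k ∈ D := by rw [htop]; exact Subgroup.mem_top _
    rw [hD] at h1
    obtain ⟨k', hk', hkk⟩ := Subgroup.mem_map.mp h1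
    rw [Subgroup.mem_comap, Subgroup.mem_centralizer_iff] at hk'
    have h3 := hk' (fGO Q g) rfl
    rw [hcapp] at h3
    exact ⟨k', hkk, h3⟩
  have hidx : D.index * Nat.card D = 4 := by
    rw [mul_comm, Subgroup.card_mul_index, h4c]
  have hD1 : Nat.card D ≠ 1 := by
    intro h1
    exact hDbot (Subgroup.card_eq_one.mp h1)
  have hD4 : D.index ≠ 1 := by
    intro h1
    exact hDtop (Subgroup.index_eq_one.mp h1)
  have hdvd : D.index ∣ 4 := ⟨_, hidx.symm⟩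
  have hle : D.index ≤ 4 := Nat.le_of_dvd (by norm_num) hdvd
  have key : D.index = 2 := by
    interval_cases hi : D.index
    · omega
    · omega
    · rfl
    · omega
    · have : Nat.card D = 1 := by omega
      exact absurd this hD1
  exact ⟨Or.inr key, fun _ => key⟩

end count

end Cfsg.Agent.Lib.Helper16.GraphSplitOrth
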