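import Mathlib
import Cfsg.Agent.Lib.Helper16.GraphSplitOrth2
import Cfsg.Agent.Lib.Helper6.SingClass
import Cfsg.Agent.Lib.Helper6.LamDiag
import Cfsg.Agent.Lib.Helper15.QuadF2a
import Cfsg.Agent.S0293
import Cfsg.Agent.S0790
import Cfsg.Agent.S2722
import Cfsg.Agent.S2725

/-!
# Involutory graph automorphisms of `PΩ⁺_{2m}(q)`: S2718
-/

set_option autoImplicit false
set_option linter.unusedSectionVars false
set_option linter.unusedVariables false
set_option linter.style.haveILetI false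

namespace Cfsg.Agent.Lib.Helper16.GraphSplitOrth

open Matrix QuadraticMap Cfsg.Agent.Lib.Helper6 Cfsg.Agent.Lib.Helper6.SimAut
  Cfsg.Agent.Lib.Helper6.Inndiag Cfsg.Agent.Lib.Helper6.OmegaAut
  Cfsg.Agent.Lib.Helper6.SingClass Cfsg.Agent.Lib.Helper6.LamDiag
  Cfsg.Agent.Lib.Helper6.AutInduced
  Cfsg.Agent.Lib.Helper15 Cfsg.Agent.S0293 Cfsg.Agent.S2722

section induced
variable {F : Type*} [Field F] [Fintype F] [DecidableEq F] {ι : Type} [Fintype ι] [DecidableEq ι]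
  (Q : QuadraticForm F (ι → F))

theorem eq_fGO_of_induced (g : GL ι F) (hg : g ∈ Cfsg.Geo.quadSimilarityGroup (F := F) ⇑Q)
    (β : MulAut (Cfsg.POmega F ⇑Q))
    (hi : Cfsg.IsInducedBySemilinearPOmega ⇑Q g (RingEquiv.refl F) β) :
    β = fGO Q ⟨g, hg⟩ := by
  rw [fGO_apply]
  exact (isInd_iff _ ⟨g, GO_le_normalizer Q hg⟩ β).mp ((isInduced_iff ⇑Q g β).mp hi)

/-- an automorphism `fGO g` of order two has `g²` scalar -/
theorem sq_scalar_of_order_two (h2 : (2 : F) ≠ 0) (hQ : (polarBilin Q).Nondegenerate)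
    (h5 : 5 ≤ Fintype.card ι) (T : HypTriple Q) (g : ↥(GO Q)) (hγ2 : orderOf (fGO Q g) = 2) :
    ∃ μ : F, ((g.1 : GL ι F) : Matrix ι ι F) * ((g.1 : GL ι F) : Matrix ι ι F) =
      μ • (1 : Matrix ι ι F) := by
  have h1 : fGO Q (g * g) = 1 := by
    rw [map_mul, ← pow_two, ← hγ2]
    exact pow_orderOf_eq_one _
  obtain ⟨c, hc⟩ := (fGO_eq_one_iff Q h2 hQ h5 T (g * g)).mp h1
  refine ⟨(c : F), ?_⟩
  rw [← scalGL_val, ← hc]
  rfl

end induced

set_option maxHeartbeats 1600000 in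
theorem main {F : Type*} [Field F] [Fintype F] (hodd : Odd (Fintype.card F)) {m : ℕ} (hm : 4 ≤ m)
    (q : (Fin m ⊕ Fin m → F) → F) (hq : q = ⇑(QPlus F m))
    (hneg : (∃ g : ↥(Cfsg.isometryGroup F q), g ∈ Cfsg.Omega F q ∧ ((g : Matrix.GeneralLinearGroup (Fin m ⊕ Fin m) F) : Matrix (Fin m ⊕ Fin m) (Fin m ⊕ Fin m) F) = -1) ↔ Fintype.card F ^ m % 4 = 1)
    (γ : MulAut (Cfsg.POmega F q))
    (hγ : ∃ g : GL (Fin m ⊕ Fin m) F, g ∈ Cfsg.Geo.quadSimilarityGroup (F := F) q ∧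
      ¬ Cfsg.PreservesSingularClasses q (g : Matrix (Fin m ⊕ Fin m) (Fin m ⊕ Fin m) F) ∧
      Cfsg.IsInducedBySemilinearPOmega q g (RingEquiv.refl F) γ)
    (hγ2 : orderOf γ = 2) :
    (Cfsg.splitClassCount (Subgroup.closure {β : MulAut (Cfsg.POmega F q) | ∃ g : GL (Fin m ⊕ Fin m) F,
      g ∈ Cfsg.Geo.quadSimilarityGroup (F := F) q ∧
      Cfsg.PreservesSingularClasses q (g : Matrix (Fin m ⊕ Fin m) (Fin m ⊕ Fin m) F) ∧
      Cfsg.IsInducedBySemilinearPOmega q g (RingEquiv.refl F) β}) (Cfsg.Inn (Cfsg.POmega F q)) γ = 1 ∨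
     Cfsg.splitClassCount (Subgroup.closure {β : MulAut (Cfsg.POmega F q) | ∃ g : GL (Fin m ⊕ Fin m) F,
      g ∈ Cfsg.Geo.quadSimilarityGroup (F := F) q ∧
      Cfsg.PreservesSingularClasses q (g : Matrix (Fin m ⊕ Fin m) (Fin m ⊕ Fin m) F) ∧
      Cfsg.IsInducedBySemilinearPOmega q g (RingEquiv.refl F) β}) (Cfsg.Inn (Cfsg.POmega F q)) γ = 2) ∧
    (¬ (Odd m ∧ Fintype.card F % 4 = 3) →
     Cfsg.splitClassCount (Subgroup.closure {β : MulAut (Cfsg.POmega F q) | ∃ g : GL (Fin m ⊕ Fin m) F,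
      g ∈ Cfsg.Geo.quadSimilarityGroup (F := F) q ∧
      Cfsg.PreservesSingularClasses q (g : Matrix (Fin m ⊕ Fin m) (Fin m ⊕ Fin m) F) ∧
      Cfsg.IsInducedBySemilinearPOmega q g (RingEquiv.refl F) β}) (Cfsg.Inn (Cfsg.POmega F q)) γ = 2) := by
  classical
  subst hq
  have hQ := nondegenerate_QPlus F m
  have h2 : (2 : F) ≠ 0 := two_ne_zero_of_odd_card hodd
  have hcardι : Fintype.card (Fin m ⊕ Fin m) = 2 * m := by
    rw [Fintype.card_sum, Fintype.card_fin]; ring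
  have h5 : 5 ≤ Fintype.card (Fin m ⊕ Fin m) := by rw [hcardι]; omega
  have hiff := (exists_neg_iff (QPlus F m)).symm.trans hneg
  have hq : Fintype.card F % 4 = 1 ∨ Fintype.card F % 4 = 3 := by
    obtain ⟨k, hk⟩ := hodd
    omega
  have hpow : Fintype.card F ^ m % 4 = 1 ↔ ¬ (Odd m ∧ Fintype.card F % 4 = 3) := by
    rw [Nat.pow_mod]
    rcases hq with h | h
    · rw [h, one_pow]
      simp
    · rw [h]
      rcases Nat.even_or_odd m with he | ho
      · obtain ⟨k, rfl⟩ := he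
        have : 3 ^ (k + k) % 4 = 1 := by
          rw [← two_mul, pow_mul, Nat.pow_mod]
          norm_num
        rw [this]
        simp only [true_iff, not_and]
        intro ho
        exact absurd ho (by rw [Nat.not_odd_iff_even]; exact ⟨k, rfl⟩)
      · obtain ⟨k, rfl⟩ := ho
        have : 3 ^ (2 * k + 1) % 4 = 3 := by
          rw [pow_succ, pow_mul, Nat.mul_mod, Nat.pow_mod]
          norm_num
        rw [this]
        simp only [Nat.reduceEqDiff, false_iff, not_not]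
        exact ⟨⟨k, rfl⟩, trivial⟩
  have hchar : ringChar F ≠ 2 := by
    intro h
    apply h2
    have := ringChar.spec F 2
    have h3 : ((2 : ℕ) : F) = 0 := by rw [this, h]
    exact_mod_cast h3
  obtain ⟨lam, hlam⟩ := FiniteField.exists_nonsquare hchar
  have hlam0 : lam ≠ 0 := by
    rintro rfl
    exact hlam ⟨0, (mul_zero 0).symm⟩
  set lamU : Fˣ := Units.mk0 lam hlam0 with hlamU
  set T := plusTriple F m (by omega) with hT
  have hv₀ := T_nonsingular _ T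
  set h : ↥(GO (QPlus F m)) := ⟨plusSim m lamU, plusSim_mem m _⟩ with hh
  have hmulr : mulr (QPlus F m) h = lamU :=
    mulr_eq (QPlus F m) _ hv₀ _ lamU (plusSim_spec m _)
  have hhsq : ¬ IsSquare ((mulr (QPlus F m) h : Fˣ) : F) := by
    rw [hmulr]
    exact hlam
  have hhK : h ∈ KK (QPlus F m) _ hv₀ m := by
    rw [mem_KK_iff, hmulr]
    exact Cfsg.Agent.S2725.plusSim_det F m lamU
  have hpsc : ∀ g : ↥(GO (QPlus F m)),
      Cfsg.PreservesSingularClasses ⇑(QPlus F m)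
        ((g.1 : GL (Fin m ⊕ Fin m) F) : Matrix (Fin m ⊕ Fin m) (Fin m ⊕ Fin m) F) ↔
      g ∈ KK (QPlus F m) _ hv₀ m := by
    intro g
    rw [mem_KK_iff]
    exact psc_iff_det (QPlus F m) h2 hQ m hcardι (Cfsg.Agent.S2725.U0 F m)
      (Cfsg.Agent.S2725.U0_TS F m) (Cfsg.Agent.S2725.U0_finrank F m)
      (plusSim m lamU) lam hlam (plusSim_spec m lamU) (Cfsg.Agent.S2725.plusSim_U0 F m lamU)
      (Cfsg.Agent.S2725.plusSim_det F m lamU)
      g.1 (mulr (QPlus F m) g) (Units.ne_zero _) (mulr_spec (QPlus F m) g)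
  rw [inndiag_eq (QPlus F m) (KK (QPlus F m) _ hv₀ m) hpsc]
  obtain ⟨g₀, hg₀, hnp, hind⟩ := hγ
  have hγeq := eq_fGO_of_induced (QPlus F m) g₀ hg₀ γ hind
  set g : ↥(GO (QPlus F m)) := ⟨g₀, hg₀⟩ with hgdef
  have hgK : g ∉ KK (QPlus F m) _ hv₀ m := by
    intro hmem
    exact hnp ((hpsc g).mpr hmem)
  rw [hγeq] at hγ2 ⊢
  obtain ⟨μ, hμ⟩ := sq_scalar_of_order_two (QPlus F m) h2 hQ h5 T g hγ2
  have key := count_general (QPlus F m) h2 hQ h5 T _ hv₀ m hcardι h hhsq hhK g hgK μ hμ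
  refine ⟨key.1, fun hc => key.2 ?_⟩
  exact hiff.mpr (hpow.mpr hc)

end Cfsg.Agent.Lib.Helper16.GraphSplitOrth
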