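import Mathlib
import Cfsg.Agent.Lib.Helper16.GraphSplitOrth2
import Cfsg.Agent.Lib.Helper6.OmegaList
import Cfsg.Agent.Lib.Helper6.Spinor3

/-!
# Involutory graph automorphisms of the even dimensional orthogonal groups: half-dimension even,
`-1 ∉ Ω`
-/

set_option autoImplicit false
set_option linter.unusedSectionVars false
set_option linter.unusedVariables false
set_option linter.style.haveILetI false

namespace Cfsg.Agent.Lib.Helper16.GraphSplitOrth

open Matrix Polynomial QuadraticMap Cfsg.Agent.Lib.Helper6 Cfsg.Agent.Lib.Helper6.SimAut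
  Cfsg.Agent.Lib.Helper6.Inndiag Cfsg.Agent.Lib.Helper6.OmegaAut

section charpoly
variable {F : Type*} [Field F] {ι : Type} [Fintype ι] [DecidableEq ι]

/-- a matrix with `M² = μ` whose characteristic polynomial is even has determinant `(-μ)^n` -/
theorem det_of_charpoly_neg (h2' : (2 : F) ≠ 0) (M : Matrix ι ι F) (μ : F)
    (hM : M * M = μ • (1 : Matrix ι ι F)) (hχ : (-M).charpoly = M.charpoly) (n : ℕ)
    (hn : Fintype.card ι = 2 * n) : M.det = (-μ) ^ n := by
  have hprod := charpoly_mul_charpoly_neg M μ hM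
  rw [hχ, hn] at hprod
  have hsq : (M.charpoly - (X ^ 2 - C μ) ^ n) * (M.charpoly + (X ^ 2 - C μ) ^ n) = 0 := by
    have : ((X ^ 2 - C μ : F[X]) ^ n) * ((X ^ 2 - C μ) ^ n) = (X ^ 2 - C μ) ^ (2 * n) := by
      rw [← pow_add, two_mul]
    linear_combination hprod - this
  have hmonic : M.charpoly.Monic := Matrix.charpoly_monic M
  have hmonic2 : ((X ^ 2 - C μ : F[X]) ^ n).Monic := by
    apply Monic.pow
    exact monic_X_pow_sub_C μ (by norm_num)
  have hχeq : M.charpoly = (X ^ 2 - C μ) ^ n := by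
    rcases mul_eq_zero.mp hsq with h | h
    · exact sub_eq_zero.mp h
    · exfalso
      have h1 : M.charpoly = -((X ^ 2 - C μ : F[X]) ^ n) := eq_neg_of_add_eq_zero_left h
      have h2 := congrArg leadingCoeff h1
      rw [leadingCoeff_neg, hmonic.leadingCoeff, hmonic2.leadingCoeff] at h2
      have h3 : (2 : F) = 0 := by linear_combination h2
      exact h2' h3
  rw [Matrix.det_eq_sign_charpoly_coeff, hχeq, hn, pow_mul, neg_one_sq, one_pow, one_mul,
    coeff_zero_eq_eval_zero, eval_pow, eval_sub, eval_pow, eval_X, eval_C]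
  congr 1
  ring

/-- a matrix with `M² = μ` anticommuting with an invertible matrix -/
theorem det_of_anticomm (h2' : (2 : F) ≠ 0) (M : Matrix ι ι F) (μ : F)
    (hM : M * M = μ • (1 : Matrix ι ι F)) (K : GL ι F) (hK : K.1 * M = -(M * K.1)) (n : ℕ)
    (hn : Fintype.card ι = 2 * n) : M.det = (-μ) ^ n := by
  apply det_of_charpoly_neg h2' M μ hM _ n hn
  have hconj : K.1 * M * K⁻¹.1 = -M := by
    rw [hK, Matrix.neg_mul, Matrix.mul_assoc, ← Units.val_mul, mul_inv_cancel, Units.val_one,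
      Matrix.mul_one]
  rw [← hconj, Matrix.coe_units_inv]
  exact Matrix.charpoly_units_conj K M

end charpoly

section lists
variable {F : Type*} [Field F] [Fintype F] [DecidableEq F] {ι : Type} [Fintype ι] [DecidableEq ι]
  (Q : QuadraticForm F (ι → F))

theorem det_refl_list' (h2 : (2 : F) ≠ 0) (vs : List (ι → F)) (hvs : ∀ v ∈ vs, Q v ≠ 0) :
    (vs.map (fun v => Cfsg.reflectionMatrix ⇑Q v)).prod.det = (-1) ^ vs.length := by
  induction vs with
  | nil => simp
  | cons v vs ih =>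
    rw [List.map_cons, List.prod_cons, Matrix.det_mul,
      det_reflectionMatrix Q h2 v (hvs v (List.mem_cons_self)),
      ih (fun w hw => hvs w (List.mem_cons_of_mem _ hw)), List.length_cons, pow_succ]
    ring

theorem sim_mul_refl_list (k : ↥(GO Q)) (vs : List (ι → F)) (hvs : ∀ v ∈ vs, Q v ≠ 0) :
    ((k.1 : GL ι F) : Matrix ι ι F) * (vs.map (fun v => Cfsg.reflectionMatrix ⇑Q v)).prod =
      ((vs.map (fun v => ((k.1 : GL ι F) : Matrix ι ι F) *ᵥ v)).map
        (fun v => Cfsg.reflectionMatrix ⇑Q v)).prod * ((k.1 : GL ι F) : Matrix ι ι F) := by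
  induction vs with
  | nil => simp
  | cons v vs ih =>
    rw [List.map_cons, List.prod_cons, List.map_cons, List.map_cons, List.prod_cons,
      ← Matrix.mul_assoc, sim_mul_refl Q k v (hvs v (List.mem_cons_self)), Matrix.mul_assoc,
      ih (fun w hw => hvs w (List.mem_cons_of_mem _ hw)), Matrix.mul_assoc]

theorem prod_Q_sim_list (k : ↥(GO Q)) (vs : List (ι → F)) :
    ((vs.map (fun v => ((k.1 : GL ι F) : Matrix ι ι F) *ᵥ v)).map (fun v => Q v)).prod =
      (mulr Q k : F) ^ vs.length * (vs.map (fun v => Q v)).prod := by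
  induction vs with
  | nil => simp
  | cons v vs ih =>
    rw [List.map_cons, List.map_cons, List.prod_cons, ih, mulr_spec, List.map_cons, List.prod_cons,
      List.length_cons, pow_succ]
    ring

end lists

section core
variable {F : Type*} [Field F] [Fintype F] [DecidableEq F] {ι : Type} [Fintype ι] [DecidableEq ι]
  (Q : QuadraticForm F (ι → F))

/-- a similarity outside `KK` with scalar square `μ` has multiplier `μ` -/
theorem mulr_eq_of_not_mem (h2 : (2 : F) ≠ 0) (hQ : (polarBilin Q).Nondegenerate)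
    (v₀ : ι → F) (hv₀ : Q v₀ ≠ 0) (m : ℕ)
    (hcard : Fintype.card ι = 2 * m) (g : ↥(GO Q)) (hg : g ∉ KK Q v₀ hv₀ m) (μ : F)
    (hμ : ((g.1 : GL ι F) : Matrix ι ι F) * ((g.1 : GL ι F) : Matrix ι ι F) =
      μ • (1 : Matrix ι ι F)) :
    ((mulr Q g : Fˣ) : F) = μ ∧ μ ≠ 0 := by
  set M : Matrix ι ι F := ((g.1 : GL ι F) : Matrix ι ι F) with hMdef
  set lam : F := ((mulr Q g : Fˣ) : F) with hlam
  have hlam0 : lam ≠ 0 := Units.ne_zero _
  have hsim : ∀ v, Q (M *ᵥ v) = lam * Q v := mulr_spec Q g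
  have hMM : ∀ v, M *ᵥ (M *ᵥ v) = μ • v := by
    intro v
    rw [Matrix.mulVec_mulVec, hμ, Matrix.smul_mulVec, Matrix.one_mulVec]
  have hsq : lam * lam = μ * μ := by
    have h1 : Q (M *ᵥ (M *ᵥ v₀)) = lam * (lam * Q v₀) := by rw [hsim, hsim]
    rw [hMM, QuadraticMap.map_smul, smul_eq_mul] at h1
    have h3 : (lam * lam - μ * μ) * Q v₀ = 0 := by linear_combination -h1
    rcases mul_eq_zero.mp h3 with h | h
    · linear_combination h
    · exact absurd h hv₀
  have hμ0 : μ ≠ 0 := by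
    rintro rfl
    rw [mul_zero] at hsq
    exact hlam0 (mul_self_eq_zero.mp hsq)
  refine ⟨?_, hμ0⟩
  have hpol : ∀ x y, polar (⇑Q) (M *ᵥ x) (M *ᵥ y) = lam * polar (⇑Q) x y := polar_sim Q g
  have hadj : ∀ x y, polar (⇑Q) (M *ᵥ x) y = (lam / μ) * polar (⇑Q) x (M *ᵥ y) := by
    intro x y
    have e : y = μ⁻¹ • (M *ᵥ (M *ᵥ y)) := by
      rw [hMM, smul_smul, inv_mul_cancel₀ hμ0, one_smul]
    nth_rewrite 1 [e]
    rw [polar_smul_right, hpol]
    simp only [smul_eq_mul]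
    field_simp
  have hcases : lam = μ ∨ lam = -μ := by
    have : (lam - μ) * (lam + μ) = 0 := by linear_combination hsq
    rcases mul_eq_zero.mp this with h | h
    · left; linear_combination h
    · right; linear_combination h
  rcases hcases with hlm | hlm
  · exact hlm
  · exfalso
    apply hg
    rw [mem_KK_iff]
    have hskew : ∀ x y, polar (⇑Q) (M *ᵥ x) y = - polar (⇑Q) x (M *ᵥ y) := by
      intro x y
      rw [hadj, hlm]
      field_simp
    have hG : (LinearMap.BilinForm.toMatrix' (polarBilin Q)).det ≠ 0 := by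
      have := (LinearMap.BilinForm.nondegenerate_iff_det_ne_zero (Pi.basisFun F ι)).mp hQ
      rwa [LinearMap.BilinForm.toMatrix_basisFun] at this
    have := det_of_skew h2 M _ μ hμ hG (gram_skew Q M hskew) m hcard
    rw [this, ← hlm]

set_option maxHeartbeats 1600000 in
/-- half-dimension even: a similarity commuting up to a scalar with a graph involution has
square multiplier -/
theorem isSquare_mulr_of_comm (h2 : (2 : F) ≠ 0) (hQ : (polarBilin Q).Nondegenerate)
    (h5 : 5 ≤ Fintype.card ι) (v₀ : ι → F) (hv₀ : Q v₀ ≠ 0) (n : ℕ)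
    (hcard : Fintype.card ι = 2 * n) (hn : Even n) (g : ↥(GO Q)) (hg : g ∉ KK Q v₀ hv₀ n) (μ : F)
    (hμ : ((g.1 : GL ι F) : Matrix ι ι F) * ((g.1 : GL ι F) : Matrix ι ι F) =
      μ • (1 : Matrix ι ι F))
    (k : ↥(GO Q)) (c : F)
    (hkc : ((k.1 : GL ι F) : Matrix ι ι F) * ((g.1 : GL ι F) : Matrix ι ι F) =
      c • (((g.1 : GL ι F) : Matrix ι ι F) * ((k.1 : GL ι F) : Matrix ι ι F))) :
    IsSquare ((mulr Q k : Fˣ) : F) := by
  obtain ⟨hlm, hμ0⟩ := mulr_eq_of_not_mem Q h2 hQ v₀ hv₀ n hcard g hg μ hμ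
  set M : Matrix ι ι F := ((g.1 : GL ι F) : Matrix ι ι F) with hMdef
  set K : Matrix ι ι F := ((k.1 : GL ι F) : Matrix ι ι F) with hKdef
  have hsim : ∀ v, Q (M *ᵥ v) = μ * Q v := by
    intro v
    rw [← hlm]
    exact mulr_spec Q g v
  have hKdet : K.det ≠ 0 := by
    have h1 : K.det * ((k.1⁻¹ : GL ι F) : Matrix ι ι F).det = 1 := by
      rw [← Matrix.det_mul, ← Units.val_mul, mul_inv_cancel, Units.val_one, Matrix.det_one]
    intro h0
    rw [h0, zero_mul] at h1
    exact zero_ne_one h1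
  have hnotK : M.det ≠ μ ^ n := by
    intro h
    apply hg
    rw [mem_KK_iff, hlm]
    exact h
  -- `c² = 1`
  have hcc : c * c = 1 := by
    have h1 : K * (M * M) = (c * c) • ((M * M) * K) := by
      calc K * (M * M) = (K * M) * M := (Matrix.mul_assoc _ _ _).symm
        _ = (c • (M * K)) * M := by rw [hkc]
        _ = c • (M * (K * M)) := by rw [Matrix.smul_mul, Matrix.mul_assoc]
        _ = c • (M * (c • (M * K))) := by rw [hkc]
        _ = (c * c) • ((M * M) * K) := by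
          rw [Matrix.mul_smul, smul_smul, Matrix.mul_assoc]
    rw [hμ, Matrix.mul_smul, Matrix.mul_one, Matrix.smul_mul, Matrix.one_mul, smul_smul] at h1
    have h3 : (μ - c * c * μ) • K = 0 := by rw [sub_smul, ← h1, sub_self]
    have h4 := congrArg Matrix.det h3
    haveI : Nonempty ι := Fintype.card_pos_iff.mp (by omega)
    rw [Matrix.det_smul, Matrix.det_zero] at h4
    have h6 : (μ - c * c * μ) ^ Fintype.card ι = 0 := by
      rcases mul_eq_zero.mp h4 with h | h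
      · exact h
      · exact absurd h hKdet
    have h7 : μ - c * c * μ = 0 := pow_eq_zero_iff (by omega) |>.mp h6
    have h8 : μ * (1 - c * c) = 0 := by linear_combination h7
    rcases mul_eq_zero.mp h8 with h | h
    · exact absurd h hμ0
    · linear_combination -h
  have hc : c = 1 ∨ c = -1 := by
    have : (c - 1) * (c + 1) = 0 := by linear_combination hcc
    rcases mul_eq_zero.mp this with h | h
    · left; linear_combination h
    · right; linear_combination h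
  have hneg_pow : (-μ) ^ n = μ ^ n := hn.neg_pow μ
  rcases hc with rfl | rfl
  swap
  · exfalso
    apply hnotK
    rw [← hneg_pow]
    apply det_of_anticomm h2 M μ hμ k.1 _ n hcard
    rw [← hKdef, hkc, neg_one_smul]
  rw [one_smul] at hkc
  by_cases hsqμ : IsSquare μ
  swap
  · exfalso
    apply hnotK
    rw [← hneg_pow]
    exact det_of_nonsquare M μ hμ hsqμ n hcard
  obtain ⟨s, hs⟩ := hsqμ
  have hs0 : s ≠ 0 := by
    rintro rfl
    rw [mul_zero] at hs
    exact hμ0 hs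
  -- the involutory isometry
  obtain ⟨N, hN⟩ : ∃ N : Matrix ι ι F, N = s⁻¹ • M := ⟨_, rfl⟩
  have hNN : N * N = 1 := by
    rw [hN, Matrix.smul_mul, Matrix.mul_smul, hμ, smul_smul, smul_smul, hs]
    have : s⁻¹ * s⁻¹ * (s * s) = 1 := by field_simp
    rw [this, one_smul]
  have hNiso : ∀ v, Q (N *ᵥ v) = Q v := by
    intro v
    rw [hN, Matrix.smul_mulVec, QuadraticMap.map_smul, hsim, hs, smul_eq_mul]
    field_simp
  obtain ⟨g', hg'⟩ : ∃ g' : ↥(Cfsg.isometryGroup F ⇑Q),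
      ((g'.1 : GL ι F) : Matrix ι ι F) = N := by
    refine ⟨⟨⟨N, N, hNN, hNN⟩, ?_⟩, rfl⟩
    rw [mem_isometryGroup_iff]
    exact hNiso
  obtain ⟨vs, hvs, hvsN⟩ := exists_list' Q hQ (Or.inr (by omega)) g'
  rw [hg'] at hvsN
  have hdetN : N.det = (-1) ^ vs.length := by
    rw [hvsN]
    exact det_refl_list' Q h2 vs hvs
  have hodd : Odd vs.length := by
    rcases Nat.even_or_odd vs.length with he | ho
    · exfalso
      apply hnotK
      rw [he.neg_one_pow] at hdetN
      have hM : M = s • N := by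
        rw [hN, smul_smul, mul_inv_cancel₀ hs0, one_smul]
      rw [hM, Matrix.det_smul, hdetN, mul_one, hcard, hs, pow_mul, pow_two]
    · exact ho
  -- conjugating the list
  have hKN : K * N = N * K := by
    rw [hN, Matrix.mul_smul, Matrix.smul_mul, hkc]
  have hlist : ((vs.map (fun v => K *ᵥ v)).map (fun v => Cfsg.reflectionMatrix ⇑Q v)).prod = N := by
    have h1 := sim_mul_refl_list Q k vs hvs
    rw [← hvsN, ← hKdef, hKN] at h1
    have h3 : N * K * ((k.1⁻¹ : GL ι F) : Matrix ι ι F) =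
        ((vs.map (fun v => K *ᵥ v)).map (fun v => Cfsg.reflectionMatrix ⇑Q v)).prod * K *
          ((k.1⁻¹ : GL ι F) : Matrix ι ι F) := by rw [h1]
    rw [Matrix.mul_assoc, Matrix.mul_assoc, hKdef, ← Units.val_mul, mul_inv_cancel, Units.val_one,
      Matrix.mul_one, Matrix.mul_one] at h3
    exact h3.symm
  have hvs' : ∀ v ∈ vs ++ vs.map (fun v => K *ᵥ v), Q v ≠ 0 := by
    intro v hv
    rw [List.mem_append] at hv
    rcases hv with hv | hv
    · exact hvs v hv
    · rw [List.mem_map] at hv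
      obtain ⟨w, hw, rfl⟩ := hv
      rw [hKdef, mulr_spec]
      exact mul_ne_zero (Units.ne_zero _) (hvs w hw)
  have hone : (((1 : ↥(Cfsg.isometryGroup F ⇑Q)).1 : GL ι F) : Matrix ι ι F) =
      ((vs ++ vs.map (fun v => K *ᵥ v)).map (fun v => Cfsg.reflectionMatrix ⇑Q v)).prod := by
    rw [List.map_append, List.prod_append, hlist, ← hvsN, hNN]
    rfl
  have hΩ := (mem_Omega_iff_list' Q h2 hQ (by omega) 1 _ hvs' hone).mp (Subgroup.one_mem _)
  obtain ⟨-, r, hr⟩ := hΩ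
  rw [List.map_append, List.prod_append, hKdef, prod_Q_sim_list] at hr
  obtain ⟨P, hP⟩ : ∃ P : F, P = (vs.map (fun v => Q v)).prod := ⟨_, rfl⟩
  rw [← hP] at hr
  have hP0 : P ≠ 0 := by
    rw [hP]
    apply List.prod_ne_zero
    intro h0
    rw [List.mem_map] at h0
    obtain ⟨w, hw, hw0⟩ := h0
    exact hvs w hw hw0
  obtain ⟨t, ht⟩ := hodd
  have hκ0 : ((mulr Q k : Fˣ) : F) ≠ 0 := Units.ne_zero _
  refine ⟨r / (P * (mulr Q k : F) ^ t), ?_⟩
  rw [ht] at hr
  field_simp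
  linear_combination hr

end core

section count2
variable {F : Type*} [Field F] [Fintype F] [DecidableEq F] {ι : Type} [Fintype ι] [DecidableEq ι]
  (Q : QuadraticForm F (ι → F))

/-- `-1 ∉ Ω`: the class preserving similarities inducing inner automorphisms -/
theorem fGO_mem_Inn_of_isSquare (h2 : (2 : F) ≠ 0) (hQ : (polarBilin Q).Nondegenerate)
    (h5 : 5 ≤ Fintype.card ι) (T : HypTriple Q) (v₀ : ι → F) (hv₀ : Q v₀ ≠ 0) (n : ℕ)
    (hcard : Fintype.card ι = 2 * n) (hneg : negIso Q ∉ Cfsg.Omega F ⇑Q)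
    (k : ↥(GO Q)) (hk : k ∈ KK Q v₀ hv₀ n) (hsq : IsSquare ((mulr Q k : Fˣ) : F)) :
    fGO Q k ∈ Cfsg.Inn (Cfsg.POmega F ⇑Q) := by
  have h1 := relIndex_Inn_psoAut_of_notMem Q h2 hQ h5 ⟨n, by rw [hcard]; ring⟩ T hneg
  rw [Subgroup.relIndex_eq_one] at h1
  apply h1
  rw [fGO_mem_psoAut_iff Q h2 hQ h5 T v₀ hv₀ n hcard, theta'_eq_one_iff]
  exact ⟨hsq, (mem_KK_iff Q v₀ hv₀ n k).mp hk⟩

set_option maxHeartbeats 1600000 in
/-- **the count, half-dimension even and `-1 ∉ Ω`**: two classes -/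
theorem count_even (h2 : (2 : F) ≠ 0) (hQ : (polarBilin Q).Nondegenerate)
    (h5 : 5 ≤ Fintype.card ι) (T : HypTriple Q) (v₀ : ι → F) (hv₀ : Q v₀ ≠ 0) (n : ℕ)
    (hcard : Fintype.card ι = 2 * n) (hn : Even n) (h : ↥(GO Q)) (hh : ¬ IsSquare (mulr Q h : F))
    (hhK : h ∈ KK Q v₀ hv₀ n) (hneg : negIso Q ∉ Cfsg.Omega F ⇑Q)
    (g : ↥(GO Q)) (hg : g ∉ KK Q v₀ hv₀ n) (μ : F)
    (hμ : ((g.1 : GL ι F) : Matrix ι ι F) * ((g.1 : GL ι F) : Matrix ι ι F) =
      μ • (1 : Matrix ι ι F)) :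
    Cfsg.splitClassCount ((KK Q v₀ hv₀ n).map (fGO Q)) (Cfsg.Inn (Cfsg.POmega F ⇑Q))
        (fGO Q g) = 2 := by
  obtain ⟨c, hc⟩ : ∃ c : ↥(KK Q v₀ hv₀ n) →* MulAut (Cfsg.POmega F ⇑Q),
      c = (fGO Q).comp (KK Q v₀ hv₀ n).subtype := ⟨_, rfl⟩
  have hcr : c.range = (KK Q v₀ hv₀ n).map (fGO Q) := by
    rw [hc, MonoidHom.range_comp, Subgroup.range_subtype]
  have hcapp : ∀ k : ↥(KK Q v₀ hv₀ n), c k = fGO Q k.1 := by
    intro k; rw [hc]; rfl
  have hcount := Cfsg.Agent.Lib.Helper16.SplitCount.splitClassCount_eq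
    ((KK Q v₀ hv₀ n).map (fGO Q)) (Cfsg.Inn (Cfsg.POmega F ⇑Q)) (fGO Q g) c hcr
    (Inn_le_map Q h2 hQ h5 v₀ hv₀ n hcard) (psi Q v₀ hv₀ n) (psi_surjective Q v₀ hv₀ n)
    (fun k => by rw [hcapp]; exact (psi_eq_one_iff Q v₀ hv₀ n k).symm)
  rw [hcount]
  obtain ⟨D, hD⟩ : ∃ D, D = ((Subgroup.centralizer {fGO Q g}).comap c).map (psi Q v₀ hv₀ n) :=
    ⟨_, rfl⟩
  rw [← hD]
  have h2c := card_quot_two Q h2 hQ h5 T v₀ hv₀ n hcard h hh hhK hneg
  have hbot : D = ⊥ := by
    rw [eq_bot_iff]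
    intro a ha
    rw [hD] at ha
    obtain ⟨k', hk', rfl⟩ := Subgroup.mem_map.mp ha
    rw [Subgroup.mem_comap, Subgroup.mem_centralizer_iff] at hk'
    have h3 := hk' (fGO Q g) rfl
    rw [hcapp] at h3
    rw [Subgroup.mem_bot, psi_eq_one_iff]
    apply fGO_mem_Inn_of_isSquare Q h2 hQ h5 T v₀ hv₀ n hcard hneg k'.1 k'.2
    -- the commutator is a scalar
    have h4 : fGO Q (k'.1 * g * k'.1⁻¹ * g⁻¹) = 1 := by
      rw [map_mul, map_mul, map_mul, map_inv, map_inv, ← h3]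
      group
    obtain ⟨c₀, hc₀⟩ := (fGO_eq_one_iff Q h2 hQ h5 T _).mp h4
    have h6 : k'.1 * g = ⟨scalGL c₀, scalGL_mem_GO Q c₀⟩ * (g * k'.1) := by
      have : (k'.1 * g * k'.1⁻¹ * g⁻¹ : ↥(GO Q)) = ⟨scalGL c₀, scalGL_mem_GO Q c₀⟩ :=
        Subtype.ext hc₀
      rw [← this]
      group
    have h7 := congrArg (fun x : ↥(GO Q) => ((x.1 : GL ι F) : Matrix ι ι F)) h6
    change ((k'.1.1 : GL ι F) : Matrix ι ι F) * ((g.1 : GL ι F) : Matrix ι ι F) =
      ((scalGL c₀ : GL ι F) : Matrix ι ι F) *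
        (((g.1 : GL ι F) : Matrix ι ι F) * ((k'.1.1 : GL ι F) : Matrix ι ι F)) at h7
    rw [scalGL_val, Matrix.smul_mul, Matrix.one_mul] at h7
    exact isSquare_mulr_of_comm Q h2 hQ h5 v₀ hv₀ n hcard hn g hg μ hμ k'.1 (c₀ : F) h7
  rw [hbot, Subgroup.index_bot, h2c]

end count2

end Cfsg.Agent.Lib.Helper16.GraphSplitOrth
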