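import Mathlib
import Cfsg.Agent.Lib.Helper16.QuadExt
import Cfsg.Agent.Lib.Helper16.SemiFrame
import Cfsg.Agent.Lib.Helper16.MinusField
import Cfsg.Agent.Lib.Helper6.Discr
import Cfsg.Agent.Lib.Helper6.AutOrt20
import Cfsg.Agent.Lib.Helper15.QuadCount6

/-!
# Minus type orthogonal groups in odd characteristic have no semilinear involutions
-/

set_option autoImplicit false
set_option linter.unusedSectionVars false
set_option linter.unusedVariables false
set_option linter.style.haveILetI false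
set_option linter.unusedSimpArgs false

namespace Cfsg.Agent.Lib.Helper16.GraphSplitOrth

open Matrix QuadraticMap Cfsg.Agent.Lib.Helper6 Cfsg.Agent.Lib.Helper15
  Cfsg.Agent.Lib.Helper16.QuadExt

section gram
variable {F : Type*} [Field F] (m : ℕ) (a b : F)

/-- the Gram matrix of the minus type form -/
theorem gram_Qgen :
    LinearMap.BilinForm.toMatrix' (polarBilin (Qgen m (binForm a b))) =
      Matrix.fromBlocks (Matrix.fromBlocks (0 : Matrix (Fin m) (Fin m) F) 1 1 0) 0 0
        !![2, a; a, 2 * b] := by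
  ext i j
  rw [LinearMap.BilinForm.toMatrix'_apply, polarBilin_apply_apply, polar_Qgen, polar_binForm]
  rcases i with (i | i) | i <;> rcases j with (j | j) | j
  · simp
  · simp [Pi.single_apply, Matrix.one_apply, eq_comm]
  · simp [Pi.single_apply]
  · simp [Pi.single_apply, Matrix.one_apply, eq_comm]
  · simp [Pi.single_apply]
  · simp [Pi.single_apply]
  · simp [Pi.single_apply]
  · simp [Pi.single_apply]
  · fin_cases i <;> fin_cases j <;> simp [Pi.single_apply]

theorem det_gram_Qgen :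
    (LinearMap.BilinForm.toMatrix' (polarBilin (Qgen m (binForm a b)))).det =
      (-1) ^ m * (4 * b - a * a) := by
  rw [gram_Qgen, Matrix.det_fromBlocks_zero₁₂, det_swapBlocks', Fintype.card_fin,
    Matrix.det_fin_two_of]
  ring

end gram

section descent
variable {F : Type*} [Field F] {F₀ : Type*} [Field F₀] (j : F₀ →+* F) {m : ℕ} (a b : F)

/-- a minus type form (odd characteristic) is not, up to a scalar, defined over a subfield all of
whose elements are squares -/
theorem no_quadratic_descent (h2 : (2 : F) ≠ 0)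
    (hab : ∀ z₁ z₂ : F, z₁ ^ 2 + a * z₁ * z₂ + b * z₂ ^ 2 = 0 → z₁ = 0 ∧ z₂ = 0)
    (hsq : ∀ x : F₀, IsSquare (j x))
    (Q₀ : QuadraticForm F₀ ((Fin m ⊕ Fin m) ⊕ Fin 2 → F₀))
    (B : GL ((Fin m ⊕ Fin m) ⊕ Fin 2) F) (c : F) (hc : c ≠ 0)
    (h : ∀ v, j (Q₀ v) = c * Qgen m (binForm a b) (B.1 *ᵥ (fun i => j (v i)))) : False := by
  obtain ⟨Q, hQdef⟩ : ∃ Q, Q = Qgen m (binForm a b) := ⟨_, rfl⟩
  rw [← hQdef] at h
  obtain ⟨R, hR⟩ : ∃ R : QuadraticForm F ((Fin m ⊕ Fin m) ⊕ Fin 2 → F),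
      R = c • Q.comp (Matrix.toLin' B.1) := ⟨_, rfl⟩
  have hRapp : ∀ x, R x = c * Q (B.1 *ᵥ x) := by
    intro x
    rw [hR, _root_.smul_apply, QuadraticMap.comp_apply, Matrix.toLin'_apply, smul_eq_mul]
  have h' : ∀ v, j (Q₀ v) = R (fun i => j (v i)) := by
    intro v
    rw [h, hRapp]
  have hpolR : ∀ x y, polar (⇑R) x y = c * polar (⇑Q) (B.1 *ᵥ x) (B.1 *ᵥ y) := by
    intro x y
    unfold polar
    rw [hRapp, hRapp, hRapp, Matrix.mulVec_add]
    ring
  -- the Gram matrices
  have hG1 : (LinearMap.BilinForm.toMatrix' (polarBilin Q₀)).map j =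
      c • (B.1ᵀ * LinearMap.BilinForm.toMatrix' (polarBilin Q) * B.1) := by
    have h1 : LinearMap.BilinForm.toMatrix'
        (LinearMap.BilinForm.comp (polarBilin Q) (Matrix.toLin' B.1) (Matrix.toLin' B.1)) =
        B.1ᵀ * LinearMap.BilinForm.toMatrix' (polarBilin Q) * B.1 := by
      rw [LinearMap.BilinForm.toMatrix'_comp, LinearMap.toMatrix'_toLin']
    rw [← h1]
    ext k l
    rw [Matrix.map_apply, LinearMap.BilinForm.toMatrix'_apply, polarBilin_apply_apply,
      polar_restrict j R Q₀ h', single_map', single_map', hpolR, Matrix.smul_apply,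
      LinearMap.BilinForm.toMatrix'_apply, LinearMap.BilinForm.comp_apply, Matrix.toLin'_apply,
      Matrix.toLin'_apply, polarBilin_apply_apply, smul_eq_mul]
  have hdet := congrArg Matrix.det hG1
  have hmapdet : ((LinearMap.BilinForm.toMatrix' (polarBilin Q₀)).map j).det =
      j (LinearMap.BilinForm.toMatrix' (polarBilin Q₀)).det := by
    rw [RingHom.map_det]
    rfl
  rw [hmapdet, Matrix.det_smul, Matrix.det_mul, Matrix.det_mul, Matrix.det_transpose, hQdef,
    det_gram_Qgen] at hdet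
  have hcardι : Fintype.card ((Fin m ⊕ Fin m) ⊕ Fin 2) = 2 * (m + 1) := by
    rw [Fintype.card_sum, Fintype.card_sum, Fintype.card_fin, Fintype.card_fin]; ring
  rw [hcardι] at hdet
  obtain ⟨r, hr⟩ := hsq (LinearMap.BilinForm.toMatrix' (polarBilin Q₀)).det
  obtain ⟨i, hi⟩ := hsq (-1)
  rw [map_neg, map_one] at hi
  rw [hr] at hdet
  have hB0 : B.1.det ≠ 0 := by
    have h1 : B.1.det * (B⁻¹).1.det = 1 := by
      rw [← Matrix.det_mul, ← Units.val_mul, mul_inv_cancel, Units.val_one, Matrix.det_one]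
    intro h0
    rw [h0, zero_mul] at h1
    exact zero_ne_one h1
  -- `a² - 4b` is a square
  obtain ⟨s, hs⟩ : ∃ s : F, s * s = a * a - 4 * b := by
    refine ⟨i ^ (m + 1) * r / (c ^ (m + 1) * B.1.det), ?_⟩
    have hi' : (i ^ (m + 1)) * (i ^ (m + 1)) = (-1) ^ (m + 1) := by
      rw [← mul_pow, ← hi]
    have e1 : (c ^ (2 * (m + 1))) = c ^ (m + 1) * c ^ (m + 1) := by
      rw [← pow_add, two_mul]
    rw [e1] at hdet
    have hcm : c ^ (m + 1) ≠ 0 := pow_ne_zero _ hc
    field_simp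
    have e3 : ((-1 : F) ^ m) * ((-1) ^ m) = 1 := by
      rw [← mul_pow]
      simp
    linear_combination r ^ 2 * hi' + (-1) ^ (m + 1) * hdet -
      (c ^ (m + 1)) ^ 2 * B.1.det ^ 2 * (4 * b - a * a) * e3
  have := hab ((-a + s) / 2) 1 (by
    field_simp
    linear_combination hs)
  exact one_ne_zero this.2

end descent

section fixed
variable {F : Type*} [Field F] [Fintype F]

/-- the elements of the fixed field of an involutory field automorphism are squares -/
theorem isSquare_of_fixed (σ : RingAut F) (hσ : orderOf σ = 2)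
    (x : ↥(FixedPoints.subfield (Subgroup.zpowers σ) F)) : IsSquare (x : F) := by
  classical
  have hfin : IsOfFinOrder σ := by rw [← orderOf_pos_iff, hσ]; norm_num
  haveI : Finite (Subgroup.zpowers σ) := hfin.finite_zpowers
  haveI : Fintype (Subgroup.zpowers σ) := Fintype.ofFinite _
  have h1 : Module.finrank (FixedPoints.subfield (Subgroup.zpowers σ) F) F = 2 := by
    rw [FixedPoints.finrank_eq_card (Subgroup.zpowers σ) F, ← Nat.card_eq_fintype_card,
      Nat.card_zpowers, hσ]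
  by_cases hx : IsSquare x
  · obtain ⟨y, hy⟩ := hx
    exact ⟨(y : F), by rw [hy]; rfl⟩
  · have hab₀ : ∀ z₁ z₂ : ↥(FixedPoints.subfield (Subgroup.zpowers σ) F),
        z₁ ^ 2 + 0 * z₁ * z₂ + (-x) * z₂ ^ 2 = 0 → z₁ = 0 ∧ z₂ = 0 := by
      intro z₁ z₂ hz
      have hz₂ : z₂ = 0 := by
        by_contra h0
        apply hx
        refine ⟨z₁ / z₂, ?_⟩
        field_simp
        linear_combination -hz
      refine ⟨?_, hz₂⟩
      rw [hz₂] at hz
      have : z₁ ^ 2 = 0 := by linear_combination hz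
      exact pow_eq_zero_iff (two_ne_zero) |>.mp this
    obtain ⟨ρ, hρ⟩ := Cfsg.Agent.Lib.Helper16.MinusField.exists_root_of_finrank_two h1 0 (-x) hab₀
    refine ⟨ρ, ?_⟩
    rw [map_zero, zero_mul, add_zero, map_neg] at hρ
    have : algebraMap (↥(FixedPoints.subfield (Subgroup.zpowers σ) F)) F x = (x : F) := rfl
    rw [this] at hρ
    linear_combination -hρ

theorem fixed_iff (σ : RingAut F) (a : F) :
    σ a = a ↔ a ∈ Set.range (FixedPoints.subfield (Subgroup.zpowers σ) F).subtype := by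
  constructor
  · intro h
    exact ⟨⟨a, Cfsg.Agent.Lib.Helper16.MinusField.mem_fixedPoints σ a h⟩, rfl⟩
  · rintro ⟨⟨a', ha'⟩, rfl⟩
    exact ha' ⟨σ, Subgroup.mem_zpowers σ⟩

end fixed

section semi
open Cfsg.Agent.Lib.Helper6.AutOrt
variable {F : Type*} [Field F] [Fintype F] {m : ℕ} (p : ℕ) [hp : Fact p.Prime] [hcp : CharP F p]

include hp hcp in
/-- minus type, odd characteristic: a semilinear similarity inducing an involution is linear -/
theorem sigma_eq_refl (h2 : (2 : F) ≠ 0) (a b : F)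
    (hab : ∀ z₁ z₂ : F, z₁ ^ 2 + a * z₁ * z₂ + b * z₂ ^ 2 = 0 → z₁ = 0 ∧ z₂ = 0)
    [hS : Std (Qgen m (binForm a b))] (Φ : SemiSimO (Qgen m (binForm a b)))
    (hΦ : Φ.gam * Φ.gam = 1) : Φ.σ = RingEquiv.refl F := by
  by_contra hσ
  have hσσ : (Φ.σ : RingAut F) * Φ.σ = 1 := by
    have h1 := σ_eq_of_gam_eq p (Φ.comp Φ) (SemiSimO.one _) (by
      rw [SemiSimO.gam_comp, hΦ, SemiSimO.gam_one])
    rw [SemiSimO.comp_σ] at h1
    ext x
    have := congrArg (fun τ : F ≃+* F => τ x) h1
    exact this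
  have hord : orderOf (Φ.σ : RingAut F) = 2 := by
    apply orderOf_eq_prime
    · rw [pow_two]; exact hσσ
    · exact hσ
  have hpow : Φ.gam ^ 2 = 1 := by rw [pow_two]; exact hΦ
  obtain ⟨B, μ, hμ, hB⟩ := Cfsg.Agent.Lib.Helper16.SemiFrame.exists_frame p Φ 2 hord (by norm_num)
    hpow
  obtain ⟨Q₀, c, hc, -, h⟩ := Cfsg.Agent.Lib.Helper16.SemiFrame.exists_descended
    (FixedPoints.subfield (Subgroup.zpowers (Φ.σ : RingAut F)) F).subtype Φ
    (fun x => fixed_iff (Φ.σ : RingAut F) x) B μ hμ hB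
  exact no_quadratic_descent _ a b h2 hab (fun x => isSquare_of_fixed (Φ.σ : RingAut F) hord x)
    Q₀ B c hc h

end semi

end Cfsg.Agent.Lib.Helper16.GraphSplitOrth
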