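import Mathlib
import Cfsg.Agent.Lib.Helper16.GraphSplitOrth3
import Cfsg.Agent.Lib.Helper16.GraphSplitOrth4
import Cfsg.Agent.Lib.Helper16.GraphSplitOrth5
import Cfsg.Agent.Lib.Helper6.Inndiag2
import Cfsg.Agent.Lib.Helper6.ExtQuad
import Cfsg.Agent.Lib.Helper6.MinusDiag
import Cfsg.Agent.Lib.Helper6.MinusSim
import Cfsg.Agent.Lib.Helper6.AutOrt17
import Cfsg.Agent.Lib.Helper6.AutOrt20
import Cfsg.Agent.Lib.Helper15.QuadCount6
import Cfsg.Agent.S0294
import Cfsg.Agent.S0791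
import Cfsg.Agent.S2729

/-!
# Involutory graph automorphisms of `PΩ⁻_{2m+2}(q)`: S2719
-/

set_option autoImplicit false
set_option linter.unusedSectionVars false
set_option linter.unusedVariables false
set_option linter.style.haveILetI false

namespace Cfsg.Agent.Lib.Helper16.GraphSplitOrth

open Matrix QuadraticMap Cfsg.Agent.Lib.Helper6 Cfsg.Agent.Lib.Helper6.SimAut
  Cfsg.Agent.Lib.Helper6.Inndiag Cfsg.Agent.Lib.Helper6.OmegaAut
  Cfsg.Agent.Lib.Helper6.ExtQuad Cfsg.Agent.Lib.Helper6.MinusDiag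
  Cfsg.Agent.Lib.Helper6.LamDiag Cfsg.Agent.Lib.Helper6.AutOrt
  Cfsg.Agent.Lib.Helper15 Cfsg.Agent.S0294

set_option maxHeartbeats 1600000 in
theorem main_minus {F : Type*} [Field F] [Fintype F] (hodd : Odd (Fintype.card F)) {m : ℕ} (hm : 3 ≤ m)
    (a b : F)
    (hab : (∀ z₁ z₂ : F, z₁ ^ 2 + a * z₁ * z₂ + b * z₂ ^ 2 = 0 → z₁ = 0 ∧ z₂ = 0))
    (q : ((Fin m ⊕ Fin m) ⊕ Fin 2 → F) → F) (hq : q = ⇑(Qgen m (binForm a b)))
    (hneg : (∃ g : ↥(Cfsg.isometryGroup F q), g ∈ Cfsg.Omega F q ∧ ((g : Matrix.GeneralLinearGroup ((Fin m ⊕ Fin m) ⊕ Fin 2) F) : Matrix ((Fin m ⊕ Fin m) ⊕ Fin 2) ((Fin m ⊕ Fin m) ⊕ Fin 2) F) = -1) ↔ Fintype.card F ^ (m + 1) % 4 = 3)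
    (γ : MulAut (Cfsg.POmega F q))
    (hγ : γ ∈ Cfsg.gammaPOmega F q ∧
      γ ∉ Subgroup.closure {β : MulAut (Cfsg.POmega F q) | ∃ g : GL ((Fin m ⊕ Fin m) ⊕ Fin 2) F,
        g ∈ Cfsg.Geo.quadSimilarityGroup (F := F) q ∧
        Cfsg.PreservesSingularClassesMinus m a b (g : Matrix ((Fin m ⊕ Fin m) ⊕ Fin 2) ((Fin m ⊕ Fin m) ⊕ Fin 2) F) ∧
        Cfsg.IsInducedBySemilinearPOmega q g (RingEquiv.refl F) β} ∧ Even (orderOf γ))
    (hγ2 : orderOf γ = 2) :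
    (Cfsg.splitClassCount (Subgroup.closure {β : MulAut (Cfsg.POmega F q) | ∃ g : GL ((Fin m ⊕ Fin m) ⊕ Fin 2) F,
        g ∈ Cfsg.Geo.quadSimilarityGroup (F := F) q ∧
        Cfsg.PreservesSingularClassesMinus m a b (g : Matrix ((Fin m ⊕ Fin m) ⊕ Fin 2) ((Fin m ⊕ Fin m) ⊕ Fin 2) F) ∧
        Cfsg.IsInducedBySemilinearPOmega q g (RingEquiv.refl F) β}) (Cfsg.Inn (Cfsg.POmega F q)) γ = 1 ∨
      Cfsg.splitClassCount (Subgroup.closure {β : MulAut (Cfsg.POmega F q) | ∃ g : GL ((Fin m ⊕ Fin m) ⊕ Fin 2) F,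
        g ∈ Cfsg.Geo.quadSimilarityGroup (F := F) q ∧
        Cfsg.PreservesSingularClassesMinus m a b (g : Matrix ((Fin m ⊕ Fin m) ⊕ Fin 2) ((Fin m ⊕ Fin m) ⊕ Fin 2) F) ∧
        Cfsg.IsInducedBySemilinearPOmega q g (RingEquiv.refl F) β}) (Cfsg.Inn (Cfsg.POmega F q)) γ = 2) ∧
    (¬ (Even m ∧ Fintype.card F % 4 = 1) →
      Cfsg.splitClassCount (Subgroup.closure {β : MulAut (Cfsg.POmega F q) | ∃ g : GL ((Fin m ⊕ Fin m) ⊕ Fin 2) F,
        g ∈ Cfsg.Geo.quadSimilarityGroup (F := F) q ∧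
        Cfsg.PreservesSingularClassesMinus m a b (g : Matrix ((Fin m ⊕ Fin m) ⊕ Fin 2) ((Fin m ⊕ Fin m) ⊕ Fin 2) F) ∧
        Cfsg.IsInducedBySemilinearPOmega q g (RingEquiv.refl F) β}) (Cfsg.Inn (Cfsg.POmega F q)) γ = 2) := by
  classical
  subst hq
  have hQ := nondegenerate_Qgen m (binForm a b) (nondegenerate_binForm a b hab)
  have h2 : (2 : F) ≠ 0 := two_ne_zero_of_odd_card hodd
  have hcardι : Fintype.card ((Fin m ⊕ Fin m) ⊕ Fin 2) = 2 * (m + 1) := by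
    rw [Fintype.card_sum, Fintype.card_sum, Fintype.card_fin, Fintype.card_fin]; ring
  have h5 : 5 ≤ Fintype.card ((Fin m ⊕ Fin m) ⊕ Fin 2) := by rw [hcardι]; omega
  have hiff := (exists_neg_iff (Qgen m (binForm a b))).symm.trans hneg
  have hq : Fintype.card F % 4 = 1 ∨ Fintype.card F % 4 = 3 := by
    obtain ⟨k, hk⟩ := hodd
    omega
  have hpow : Fintype.card F ^ (m + 1) % 4 = 3 ↔ (Even m ∧ Fintype.card F % 4 = 3) := by
    rw [Nat.pow_mod]
    rcases hq with h | h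
    · rw [h, one_pow]
      simp
    · rw [h]
      rcases Nat.even_or_odd m with he | ho
      · obtain ⟨k, rfl⟩ := he
        have : 3 ^ (k + k + 1) % 4 = 3 := by
          rw [← two_mul, pow_succ, pow_mul, Nat.mul_mod, Nat.pow_mod]
          norm_num
        rw [this]
        simp only [true_iff]
        exact ⟨⟨k, rfl⟩, trivial⟩
      · obtain ⟨k, rfl⟩ := ho
        have : 3 ^ (2 * k + 1 + 1) % 4 = 1 := by
          have : 2 * k + 1 + 1 = 2 * (k + 1) := by ring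
          rw [this, pow_mul, Nat.pow_mod]
          norm_num
        rw [this]
        simp only [Nat.reduceEqDiff, false_iff, not_and]
        intro he
        exact absurd he (by rw [Nat.not_even_iff_odd]; exact ⟨k, rfl⟩)
  have hchar : ringChar F ≠ 2 := by
    intro h
    apply h2
    have := ringChar.spec F 2
    have h3 : ((2 : ℕ) : F) = 0 := by rw [this, h]
    exact_mod_cast h3
  obtain ⟨lam, hlam⟩ := FiniteField.exists_nonsquare hchar
  have hlam0 : lam ≠ 0 := by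
    rintro rfl
    exact hlam ⟨0, (mul_zero 0).symm⟩
  set lamU : Fˣ := Units.mk0 lam hlam0 with hlamU
  obtain ⟨u, hu⟩ := exists_binForm_eq a b hab lam
  have hspec : ∀ v, Qgen m (binForm a b) (minusSimMat m a b lam u *ᵥ v) =
      ((lamU : Fˣ) : F) * Qgen m (binForm a b) v := minusSimMat_spec m a b lam u hu
  set T := minusTriple m (binForm a b) hm with hT
  have hv₀ := T_nonsingular _ T
  set h : ↥(GO (Qgen m (binForm a b))) := simOfMatrix _ hQ (minusSimMat m a b lam u) lamU hspec with hh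
  have hmulr : mulr (Qgen m (binForm a b)) h = lamU :=
    mulr_simOfMatrix _ hQ (minusSimMat m a b lam u) lamU hspec _ hv₀
  have hhsq : ¬ IsSquare ((mulr (Qgen m (binForm a b)) h : Fˣ) : F) := by
    rw [hmulr]
    exact hlam
  have hhK : h ∈ KK (Qgen m (binForm a b)) _ hv₀ (m + 1) := by
    rw [mem_KK_iff, hmulr]
    exact Cfsg.Agent.S2729.minusSimMat_det m a b lam u hu
  have hpsc : ∀ g : ↥(GO (Qgen m (binForm a b))),
      Cfsg.PreservesSingularClassesMinus m a b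
        ((g.1 : GL ((Fin m ⊕ Fin m) ⊕ Fin 2) F) :
          Matrix ((Fin m ⊕ Fin m) ⊕ Fin 2) ((Fin m ⊕ Fin m) ⊕ Fin 2) F) ↔
      g ∈ KK (Qgen m (binForm a b)) _ hv₀ (m + 1) := by
    intro g
    rw [mem_KK_iff]
    exact pscMinus_iff m a b hodd hab g.1 (mulr _ g) (Units.ne_zero _) (mulr_spec _ g)
  rw [inndiag_eq' (Qgen m (binForm a b)) (Cfsg.PreservesSingularClassesMinus m a b)
    (KK (Qgen m (binForm a b)) _ hv₀ (m + 1)) hpsc] at hγ ⊢
  obtain ⟨hγΓ, hγI, -⟩ := hγ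
  -- the automorphism is induced by a linear similarity
  obtain ⟨p, hcp⟩ := CharP.exists F
  haveI := hcp
  haveI : Fact p.Prime := ⟨CharP.char_is_prime F p⟩
  haveI hS := std_minus a b hab hm
  have hP := HP_minus a b hab hm
  obtain ⟨Φ, hΦ⟩ := exists_semi p hP γ
  have hΦ2 : Φ.gam * Φ.gam = 1 := by
    have h1 := pow_orderOf_eq_one γ
    rw [hγ2] at h1
    rw [hΦ, ← pow_two]
    exact h1
  have hσ := sigma_eq_refl p h2 a b hab Φ hΦ2
  have hγpgo : γ ∈ Cfsg.pgoAut F ⇑(Qgen m (binForm a b)) := by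
    rw [← psiO_ker p hP, MonoidHom.mem_ker, ← hΦ, psiO_gam, hσ]
    rfl
  rw [pgoAut_eq_range] at hγpgo
  obtain ⟨g, rfl⟩ := hγpgo
  have hgK : g ∉ KK (Qgen m (binForm a b)) _ hv₀ (m + 1) := by
    intro hmem
    exact hγI ⟨g, hmem, rfl⟩
  obtain ⟨μ, hμ⟩ := sq_scalar_of_order_two (Qgen m (binForm a b)) h2 hQ h5 T g hγ2
  have key := count_general (Qgen m (binForm a b)) h2 hQ h5 T _ hv₀ (m + 1) hcardι h hhsq hhK g hgK
    μ hμ
  refine ⟨key.1, fun hc => ?_⟩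
  by_cases hmeven : Even m
  · apply key.2
    apply hiff.mpr
    apply hpow.mpr
    refine ⟨hmeven, ?_⟩
    rcases hq with h1 | h3
    · exact absurd ⟨hmeven, h1⟩ hc
    · exact h3
  · have hnegmem : negIso (Qgen m (binForm a b)) ∉ Cfsg.Omega F ⇑(Qgen m (binForm a b)) := by
      intro hmem
      exact hmeven (hpow.mp (hiff.mp hmem)).1
    have hn : Even (m + 1) := by
      rw [Nat.even_add_one]
      exact hmeven
    exact count_even (Qgen m (binForm a b)) h2 hQ h5 T _ hv₀ (m + 1) hcardι hn h hhsq hhK hnegmem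
      g hgK μ hμ

end Cfsg.Agent.Lib.Helper16.GraphSplitOrth
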