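import Mathlib
import Cfsg.Agent.Lib.Helper16.GraphInvPSL7

/-!
# The number of `PSL`-classes in the `PGL`-class of an involutory graph automorphism
-/

set_option autoImplicit false
set_option linter.unusedSectionVars false
set_option linter.unusedVariables false
set_option linter.style.haveILetI false

namespace Cfsg.Agent.Lib.Helper16.GraphSplitPSL

open Matrix Cfsg Cfsg.Agent.Lib.Helper6 Cfsg.Agent.Lib.Helper6.AutPSL
  Cfsg.Agent.Lib.Helper16.FieldCoset Cfsg.Agent.Lib.Helper16.GraphFieldCoset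
  Cfsg.Agent.Lib.Helper16.FieldCentPSL Cfsg.Agent.Lib.Helper16.GraphFieldCentPSL
  Cfsg.Agent.Lib.Helper16.OrthClassify Cfsg.Agent.Lib.Helper16.GraphCentPSL
  Cfsg.Agent.Lib.Helper16.GraphInvPSL Cfsg.Agent.Lib.Helper16.SplitCount

section
variable {F : Type*} [Field F] {n : ℕ}

local notation "PSLn" => Matrix.ProjectiveSpecialLinearGroup (Fin n) F

/-- the preimage in `GL_n` of the centralizer of a graph automorphism -/
noncomputable def Ct (g : GL (Fin n) F) : Subgroup (GL (Fin n) F) :=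
  (Subgroup.centralizer {(cP g * tP : MulAut PSLn)}).comap cP

theorem mem_Ct (hn : 2 ≤ n) (g h : GL (Fin n) F) :
    h ∈ Ct g ↔ ∃ c : F, h.1 * g.1 * (h.1)ᵀ = c • g.1 := by
  unfold Ct
  rw [mem_cent_comap, eq_comm, comm_gtP_iff hn]

theorem det_sq_of_mem_Ct (g h : GL (Fin n) F) (c : F) (hc : h.1 * g.1 * (h.1)ᵀ = c • g.1) :
    h.1.det * h.1.det = c ^ n := by
  have h1 := congrArg Matrix.det hc
  rw [Matrix.det_mul, Matrix.det_mul, Matrix.det_transpose, Matrix.det_smul, Fintype.card_fin]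
    at h1
  have hg : g.1.det ≠ 0 := (Matrix.GeneralLinearGroup.det g).ne_zero
  have h3 : (h.1.det * h.1.det - c ^ n) * g.1.det = 0 := by linear_combination h1
  rcases mul_eq_zero.mp h3 with h4 | h4
  · linear_combination h4
  · exact absurd h4 hg

theorem mult_ne_zero (hn : 1 ≤ n) (g h : GL (Fin n) F) (c : F)
    (hc : h.1 * g.1 * (h.1)ᵀ = c • g.1) : c ≠ 0 := by
  intro h0
  have h1 := det_sq_of_mem_Ct g h c hc
  rw [h0, zero_pow (by omega)] at h1
  have hh : h.1.det ≠ 0 := (Matrix.GeneralLinearGroup.det h).ne_zero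
  exact mul_ne_zero hh hh h1

section fin
variable [Fintype F]

theorem count_gtP (hn : 2 ≤ n) (g : GL (Fin n) F) :
    Cfsg.splitClassCount (Cfsg.inndiagPSL n F) (Cfsg.Inn PSLn) (cP g * tP) =
      ((Ct g).map Matrix.GeneralLinearGroup.det ⊔ (powMonoidHom n : Fˣ →* Fˣ).range).index := by
  have hK : ∀ h : GL (Fin n) F, cP h ∈ Cfsg.Inn PSLn ↔ delta n h = 1 := by
    intro h
    have := cA_mem_inn_iff hn (1 : MulAut PSLn) h
    rw [cA_apply, inv_one, one_mul, mul_one] at this
    exact this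
  rw [splitClassCount_eq (Cfsg.inndiagPSL n F) (Cfsg.Inn PSLn) _ (cP : GL (Fin n) F →* MulAut PSLn)
    inndiag_eq_range.symm inn_le_inndiag (delta n) (delta_surjective n (by omega)) hK]
  have hdelta : (delta n : GL (Fin n) F →* _) =
      (QuotientGroup.mk' (powMonoidHom n : Fˣ →* Fˣ).range).comp Matrix.GeneralLinearGroup.det :=
    rfl
  rw [hdelta, ← Subgroup.map_map, Subgroup.index_map, QuotientGroup.ker_mk',
    MonoidHom.range_eq_top.mpr (QuotientGroup.mk'_surjective _), Subgroup.index_top, mul_one]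
  rfl

end fin

end

end Cfsg.Agent.Lib.Helper16.GraphSplitPSL
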