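import Mathlib
import Cfsg.Agent.Lib.Helper16.GraphSplitPSL

/-!
# Split counts: the cases `n` odd and `q` even
-/

set_option autoImplicit false
set_option linter.unusedSectionVars false
set_option linter.unusedVariables false
set_option linter.style.haveILetI false

namespace Cfsg.Agent.Lib.Helper16.GraphSplitPSL

open Matrix Cfsg Cfsg.Agent.Lib.Helper6 Cfsg.Agent.Lib.Helper6.AutPSL
  Cfsg.Agent.Lib.Helper16.FieldCoset Cfsg.Agent.Lib.Helper16.GraphFieldCoset
  Cfsg.Agent.Lib.Helper16.FieldCentPSL Cfsg.Agent.Lib.Helper16.GraphFieldCentPSL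
  Cfsg.Agent.Lib.Helper16.OrthClassify Cfsg.Agent.Lib.Helper16.GraphCentPSL
  Cfsg.Agent.Lib.Helper16.GraphInvPSL Cfsg.Agent.Lib.Helper16.SplitCount

section
variable {F : Type*} [Field F] {n : ℕ}

local notation "PSLn" => Matrix.ProjectiveSpecialLinearGroup (Fin n) F

theorem det_le_pow_of_odd (hn : 2 ≤ n) (hodd : Odd n) (g : GL (Fin n) F) :
    (Ct g).map Matrix.GeneralLinearGroup.det ≤ (powMonoidHom n : Fˣ →* Fˣ).range := by
  rintro u ⟨h, hh, rfl⟩
  obtain ⟨c, hc⟩ := (mem_Ct hn g h).mp hh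
  have hc0 := mult_ne_zero (by omega) g h c hc
  have hsq := det_sq_of_mem_Ct g h c hc
  obtain ⟨k, hk⟩ := hodd
  obtain ⟨v, hv⟩ : ∃ v : Fˣ, v = Matrix.GeneralLinearGroup.det h / (Units.mk0 c hc0) ^ k :=
    ⟨_, rfl⟩
  have hvv : (v : F) = h.1.det / c ^ k := by
    rw [hv, Units.val_div_eq_div_val, Units.val_pow_eq_pow_val, Units.val_mk0]
    rfl
  have hck : c ^ k ≠ 0 := pow_ne_zero _ hc0
  have hv2 : (v : F) * v = c := by
    rw [hvv]
    field_simp
    rw [pow_two, hsq, hk]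
    ring
  have hpow : ∀ x : F, x ^ n = x * (x * x) ^ k := by
    intro x
    rw [hk]
    ring
  refine ⟨v, ?_⟩
  apply Units.ext
  rw [powMonoidHom_apply, Units.val_pow_eq_pow_val, hpow, hv2, hvv]
  field_simp
  rfl

theorem det_le_pow_of_char_two [Finite F] [CharP F 2] (hn : 2 ≤ n) (heven : Even n)
    (g : GL (Fin n) F) :
    (Ct g).map Matrix.GeneralLinearGroup.det ≤ (powMonoidHom n : Fˣ →* Fˣ).range := by
  rintro u ⟨h, hh, rfl⟩
  obtain ⟨c, hc⟩ := (mem_Ct hn g h).mp hh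
  have hc0 := mult_ne_zero (by omega) g h c hc
  have hsq := det_sq_of_mem_Ct g h c hc
  obtain ⟨k, hk⟩ := heven
  have h2 : (2 : F) = 0 := by
    have := CharP.cast_eq_zero F 2
    exact_mod_cast this
  have hdet : h.1.det = c ^ k := by
    have h1 : (h.1.det - c ^ k) * (h.1.det - c ^ k) = 0 := by
      have : c ^ n = c ^ k * c ^ k := by rw [hk, pow_add]
      rw [this] at hsq
      linear_combination hsq + (c ^ k * c ^ k - h.1.det * c ^ k) * h2
    rcases mul_eq_zero.mp h1 with h3 | h3 <;> linear_combination h3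
  obtain ⟨s, hs⟩ := FiniteField.isSquare_of_char_two (ringChar.eq F 2) c
  have hs0 : s ≠ 0 := by
    rintro rfl
    rw [mul_zero] at hs
    exact hc0 hs
  refine ⟨Units.mk0 s hs0, ?_⟩
  apply Units.ext
  rw [powMonoidHom_apply, Units.val_pow_eq_pow_val, Units.val_mk0]
  change s ^ n = h.1.det
  rw [hdet, hs, hk, pow_add, mul_pow]

section fin
variable [Fintype F]

theorem count_of_le (hn : 2 ≤ n) (g : GL (Fin n) F)
    (hle : (Ct g).map Matrix.GeneralLinearGroup.det ≤ (powMonoidHom n : Fˣ →* Fˣ).range) :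
    Cfsg.splitClassCount (Cfsg.inndiagPSL n F) (Cfsg.Inn PSLn) (cP g * tP) =
      Nat.gcd n (Fintype.card F - 1) := by
  rw [count_gtP hn, sup_eq_right.mpr hle]
  have := index_sup_pow (⊥ : Subgroup Fˣ) n
  rw [bot_sup_eq] at this
  rw [this, Subgroup.card_bot, Nat.div_one, Nat.card_units, Nat.card_eq_fintype_card]

end fin

end

end Cfsg.Agent.Lib.Helper16.GraphSplitPSL
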