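import Mathlib
import Cfsg.Agent.Lib.Helper16.GraphSplitPSL2

/-!
# Split counts: the orthogonal case (`n` even, `q` odd, symmetric Gram matrix)
-/

set_option autoImplicit false
set_option linter.unusedSectionVars false
set_option linter.unusedVariables false
set_option linter.style.haveILetI false

namespace Cfsg.Agent.Lib.Helper16.GraphSplitPSL

open Matrix Cfsg Cfsg.Agent.Lib.Helper6 Cfsg.Agent.Lib.Helper6.AutPSL
  Cfsg.Agent.Lib.Helper16.FieldCoset Cfsg.Agent.Lib.Helper16.GraphFieldCoset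
  Cfsg.Agent.Lib.Helper16.FieldCentPSL Cfsg.Agent.Lib.Helper16.GraphFieldCentPSL
  Cfsg.Agent.Lib.Helper16.OrthClassify Cfsg.Agent.Lib.Helper16.GraphCentPSL
  Cfsg.Agent.Lib.Helper16.GraphInvPSL Cfsg.Agent.Lib.Helper16.SplitCount

section
variable {F : Type*} [Field F] {n : ℕ}

local notation "PSLn" => Matrix.ProjectiveSpecialLinearGroup (Fin n) F

/-- an isometry of determinant `-1` of a symmetric matrix -/
theorem exists_refl [Finite F] (h2 : (2 : F) ≠ 0) (hn : 2 ≤ n) (g : GL (Fin n) F)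
    (hg : (g.1)ᵀ = g.1) :
    ∃ r : GL (Fin n) F, r.1 * g.1 * (r.1)ᵀ = g.1 ∧ r.1.det = -1 := by
  classical
  have hchar : ringChar F ≠ 2 := by
    intro h
    apply h2
    have := CharP.cast_eq_zero F (ringChar F)
    rw [h] at this
    exact_mod_cast this
  obtain ⟨α, hα⟩ := FiniteField.exists_nonsquare hchar
  obtain ⟨n', hn'⟩ : ∃ n', Fintype.card (Fin n) = n' + 1 := ⟨n - 1, by rw [Fintype.card_fin]; omega⟩
  have hgd : g.1.det ≠ 0 := (Matrix.GeneralLinearGroup.det g).ne_zero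
  obtain ⟨M, d, -, hM, hB, -⟩ := symm_diag h2 n' hn' g.1 hg hgd α hα
  obtain ⟨D, hD⟩ : ∃ D : Fin n → F, D = fun i => Cfsg.Agent.Lib.Helper17.OrthSq.cd n' d
      (Fintype.equivFinOfCardEq hn' i) := ⟨_, rfl⟩
  rw [← hD] at hB
  obtain ⟨i₀⟩ : Nonempty (Fin n) := ⟨⟨0, by omega⟩⟩
  obtain ⟨ε, hε⟩ : ∃ ε : Fin n → F, ε = fun i => if i = i₀ then -1 else 1 := ⟨_, rfl⟩
  have hεD : Matrix.diagonal ε * Matrix.diagonal D * Matrix.diagonal ε = Matrix.diagonal D := by
    rw [Matrix.diagonal_mul_diagonal, Matrix.diagonal_mul_diagonal]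
    congr 1
    funext i
    rw [hε]
    by_cases h : i = i₀
    · simp [h]
    · simp [h]
  have hεdet : (Matrix.diagonal ε).det = -1 := by
    rw [Matrix.det_diagonal, hε, Finset.prod_ite_eq' Finset.univ i₀ (fun _ => (-1 : F))]
    simp
  have hu : IsUnit M.det := isUnit_iff_ne_zero.mpr hM
  have hu' : IsUnit Mᵀ.det := by rw [Matrix.det_transpose]; exact hu
  obtain ⟨R, hR⟩ : ∃ R : Matrix (Fin n) (Fin n) F, R = Mᵀ * Matrix.diagonal ε * (Mᵀ)⁻¹ :=
    ⟨_, rfl⟩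
  have hRdet : R.det = -1 := by
    rw [hR, Matrix.det_mul, Matrix.det_mul, hεdet, mul_comm (Mᵀ.det), mul_assoc,
      ← Matrix.det_mul, Matrix.mul_nonsing_inv _ hu', Matrix.det_one, mul_one]
  have hRt : Rᵀ = M⁻¹ * Matrix.diagonal ε * M := by
    rw [hR, Matrix.transpose_mul, Matrix.transpose_mul, Matrix.diagonal_transpose,
      Matrix.transpose_nonsing_inv, Matrix.transpose_transpose, Matrix.mul_assoc]
  refine ⟨glOfDet R (by rw [hRdet]; exact neg_ne_zero.mpr one_ne_zero), ?_, hRdet⟩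
  rw [glOfDet_val, hRt]
  conv_lhs => rw [hB, hR]
  conv_rhs => rw [hB]
  calc Mᵀ * Matrix.diagonal ε * (Mᵀ)⁻¹ * (Mᵀ * Matrix.diagonal D * M) *
        (M⁻¹ * Matrix.diagonal ε * M)
      = Mᵀ * Matrix.diagonal ε * ((Mᵀ)⁻¹ * Mᵀ) * Matrix.diagonal D * (M * M⁻¹) *
          Matrix.diagonal ε * M := by simp only [Matrix.mul_assoc]
    _ = Mᵀ * (Matrix.diagonal ε * Matrix.diagonal D * Matrix.diagonal ε) * M := by
        rw [Matrix.nonsing_inv_mul _ hu', Matrix.mul_nonsing_inv _ hu, Matrix.mul_one,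
          Matrix.mul_one]
        simp only [Matrix.mul_assoc]
    _ = Mᵀ * Matrix.diagonal D * M := by rw [hεD]

/-- a similarity of a symmetric matrix in even dimension with prescribed multiplier -/
theorem exists_sim [Finite F] (h2 : (2 : F) ≠ 0) {m : ℕ} (hn : 2 ≤ n) (hnm : n = 2 * m)
    (g : GL (Fin n) F) (hg : (g.1)ᵀ = g.1) (c : F) (hc : c ≠ 0) :
    ∃ h : GL (Fin n) F, h.1 * g.1 * (h.1)ᵀ = c • g.1 := by
  have hgd : g.1.det ≠ 0 := (Matrix.GeneralLinearGroup.det g).ne_zero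
  have hcd : (c • g.1).det = c ^ m * c ^ m * g.1.det := by
    rw [Matrix.det_smul, Fintype.card_fin]
    have : c ^ n = c ^ m * c ^ m := by rw [hnm, two_mul, pow_add]
    rw [this]
  obtain ⟨k, hk, e⟩ := symm_congr_of_det h2 ⟨⟨0, by omega⟩⟩ g.1 (c • g.1) hg
    (by rw [Matrix.IsSymm, Matrix.transpose_smul, hg]) hgd
    (by rw [hcd]; exact mul_ne_zero (mul_ne_zero (pow_ne_zero _ hc) (pow_ne_zero _ hc)) hgd)
    ⟨c ^ m * g.1.det, by rw [hcd]; ring⟩
  have hk' : kᵀ.det ≠ 0 := by rw [Matrix.det_transpose]; exact hk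
  refine ⟨glOfDet kᵀ hk', ?_⟩
  rw [glOfDet_val, Matrix.transpose_transpose, e]

end

end Cfsg.Agent.Lib.Helper16.GraphSplitPSL
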