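import Mathlib
import Cfsg.Agent.Lib.Helper16.GraphSplitPSL3

/-!
# Split counts: the orthogonal case, the count
-/

set_option autoImplicit false
set_option linter.unusedSectionVars false
set_option linter.unusedVariables false
set_option linter.style.haveILetI false

namespace Cfsg.Agent.Lib.Helper16.GraphSplitPSL

open Matrix Cfsg Cfsg.Agent.Lib.Helper6 Cfsg.Agent.Lib.Helper6.AutPSL
  Cfsg.Agent.Lib.Helper16.FieldCoset Cfsg.Agent.Lib.Helper16.GraphFieldCoset
  Cfsg.Agent.Lib.Helper16.FieldCentPSL Cfsg.Agent.Lib.Helper16.GraphFieldCentPSL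
  Cfsg.Agent.Lib.Helper16.OrthClassify Cfsg.Agent.Lib.Helper16.GraphCentPSL
  Cfsg.Agent.Lib.Helper16.GraphInvPSL Cfsg.Agent.Lib.Helper16.SplitCount

section
variable {F : Type*} [Field F] {n : ℕ}

local notation "PSLn" => Matrix.ProjectiveSpecialLinearGroup (Fin n) F

theorem pow_n_le_pow_m {m : ℕ} (hnm : n = 2 * m) :
    (powMonoidHom n : Fˣ →* Fˣ).range ≤ (powMonoidHom m : Fˣ →* Fˣ).range := by
  rintro _ ⟨v, rfl⟩
  refine ⟨v ^ 2, ?_⟩
  rw [powMonoidHom_apply, powMonoidHom_apply, hnm, pow_mul]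

theorem val_det' (g : GL (Fin n) F) : ((Matrix.GeneralLinearGroup.det g : Fˣ) : F) = g.1.det := rfl

theorem det_sup_orth [Finite F] (h2 : (2 : F) ≠ 0) {m : ℕ} (hn : 2 ≤ n) (hnm : n = 2 * m)
    (g : GL (Fin n) F) (hg : (g.1)ᵀ = g.1) :
    (Ct g).map Matrix.GeneralLinearGroup.det ⊔ (powMonoidHom n : Fˣ →* Fˣ).range =
      Subgroup.zpowers (-1 : Fˣ) ⊔ (powMonoidHom m : Fˣ →* Fˣ).range := by
  obtain ⟨r, hr, hrdet⟩ := exists_refl h2 hn g hg
  have hrC : r ∈ Ct g := (mem_Ct hn g r).mpr ⟨1, by rw [hr, one_smul]⟩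
  have hrd : Matrix.GeneralLinearGroup.det r = (-1 : Fˣ) := by
    apply Units.ext
    rw [val_det', hrdet]
    simp
  have hpm : ∀ (h : GL (Fin n) F) (c : F), h.1 * g.1 * (h.1)ᵀ = c • g.1 →
      h.1.det = c ^ m ∨ h.1.det = -c ^ m := by
    intro h c hc
    have hsq := det_sq_of_mem_Ct g h c hc
    have : c ^ n = c ^ m * c ^ m := by rw [hnm, two_mul, pow_add]
    rw [this] at hsq
    have h3 : (h.1.det - c ^ m) * (h.1.det + c ^ m) = 0 := by linear_combination hsq
    rcases mul_eq_zero.mp h3 with h4 | h4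
    · left; linear_combination h4
    · right; linear_combination h4
  apply le_antisymm
  · apply sup_le
    · rintro u ⟨h, hh, rfl⟩
      obtain ⟨c, hc⟩ := (mem_Ct hn g h).mp hh
      have hc0 := mult_ne_zero (by omega) g h c hc
      rcases hpm h c hc with hd | hd
      · apply le_sup_right (a := Subgroup.zpowers (-1 : Fˣ))
        refine ⟨Units.mk0 c hc0, ?_⟩
        apply Units.ext
        rw [powMonoidHom_apply, Units.val_pow_eq_pow_val, Units.val_mk0, val_det', hd]
      · have e : Matrix.GeneralLinearGroup.det h = (-1 : Fˣ) * (Units.mk0 c hc0) ^ m := by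
          apply Units.ext
          rw [val_det', hd, Units.val_mul, Units.val_pow_eq_pow_val, Units.val_mk0]
          simp
        rw [e]
        exact Subgroup.mul_mem_sup (Subgroup.mem_zpowers _) ⟨Units.mk0 c hc0, rfl⟩
    · exact le_trans (pow_n_le_pow_m hnm) le_sup_right
  · apply sup_le
    · rw [Subgroup.zpowers_le]
      apply le_sup_left (b := (powMonoidHom n : Fˣ →* Fˣ).range)
      exact ⟨r, hrC, hrd⟩
    · rintro _ ⟨c, rfl⟩
      apply le_sup_left (b := (powMonoidHom n : Fˣ →* Fˣ).range)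
      obtain ⟨h, hh⟩ := exists_sim h2 hn hnm g hg (c : F) c.ne_zero
      have hhC : h ∈ Ct g := (mem_Ct hn g h).mpr ⟨_, hh⟩
      rcases hpm h c hh with hd | hd
      · refine ⟨h, hhC, ?_⟩
        apply Units.ext
        rw [val_det', hd, powMonoidHom_apply, Units.val_pow_eq_pow_val]
      · refine ⟨h * r, (Ct g).mul_mem hhC hrC, ?_⟩
        apply Units.ext
        rw [val_det', Units.val_mul, Matrix.det_mul, hd, hrdet, powMonoidHom_apply,
          Units.val_pow_eq_pow_val]
        ring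

section fin
variable [Fintype F]

theorem count_orth (hodd : Odd (Fintype.card F)) {m : ℕ} (hn : 2 ≤ n) (hnm : n = 2 * m)
    (g : GL (Fin n) F) (hg : (g.1)ᵀ = g.1) :
    Cfsg.splitClassCount (Cfsg.inndiagPSL n F) (Cfsg.Inn PSLn) (cP g * tP) =
      Nat.gcd n (Fintype.card F - 1) / 2 := by
  have hch : ringChar F ≠ 2 := by
    intro h
    have := FiniteField.even_card_of_char_two h
    rw [← Nat.even_iff] at this
    exact (Nat.not_even_iff_odd.mpr hodd) this
  have h2 : (2 : F) ≠ 0 := Ring.two_ne_zero hch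
  rw [count_gtP hn, det_sup_orth h2 hn hnm g hg, index_sup_pow, Nat.card_zpowers,
    Nat.card_units, Nat.card_eq_fintype_card]
  have ho : orderOf (-1 : Fˣ) = 2 := by
    rw [← orderOf_units, Units.val_neg, Units.val_one, orderOf_neg_one, if_neg hch]
  rw [ho]
  obtain ⟨t, ht⟩ := hodd
  rw [ht, Nat.add_sub_cancel, Nat.mul_div_cancel_left _ (by norm_num : 0 < 2), hnm,
    Nat.gcd_mul_left, Nat.mul_div_cancel_left _ (by norm_num : 0 < 2)]

end fin

end

end Cfsg.Agent.Lib.Helper16.GraphSplitPSL
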