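import Mathlib
import Cfsg.Agent.Lib.Helper16.GraphSplitPSL4

/-!
# Split counts: the symplectic case (`n` even, `q` odd, skew-symmetric Gram matrix)
-/

set_option autoImplicit false
set_option linter.unusedSectionVars false
set_option linter.unusedVariables false
set_option linter.style.haveILetI false

namespace Cfsg.Agent.Lib.Helper16.GraphSplitPSL

open Matrix Cfsg Cfsg.Agent.Lib.Helper6 Cfsg.Agent.Lib.Helper6.AutPSL
  Cfsg.Agent.Lib.Helper16.FieldCoset Cfsg.Agent.Lib.Helper16.GraphFieldCoset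
  Cfsg.Agent.Lib.Helper16.FieldCentPSL Cfsg.Agent.Lib.Helper16.GraphFieldCentPSL
  Cfsg.Agent.Lib.Helper16.OrthClassify Cfsg.Agent.Lib.Helper16.GraphCentPSL
  Cfsg.Agent.Lib.Helper16.GraphInvPSL Cfsg.Agent.Lib.Helper16.SplitCount

theorem conj_comm_iff {G : Type*} [Group G] (x w y : G) :
    (x * w * x⁻¹) * y = y * (x * w * x⁻¹) ↔ w * (x⁻¹ * y * x) = (x⁻¹ * y * x) * w := by
  constructor
  · intro h
    calc w * (x⁻¹ * y * x) = x⁻¹ * ((x * w * x⁻¹) * y) * x := by group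
      _ = x⁻¹ * (y * (x * w * x⁻¹)) * x := by rw [h]
      _ = (x⁻¹ * y * x) * w := by group
  · intro h
    calc (x * w * x⁻¹) * y = x * (w * (x⁻¹ * y * x)) * x⁻¹ := by group
      _ = x * ((x⁻¹ * y * x) * w) * x⁻¹ := by rw [h]
      _ = y * (x * w * x⁻¹) := by group

section
variable {F : Type*} [Field F] {n : ℕ}

local notation "PSLn" => Matrix.ProjectiveSpecialLinearGroup (Fin n) F

theorem mem_Ct_conj (g g' a : GL (Fin n) F)
    (e : (cP g' * tP : MulAut PSLn) = cP a * (cP g * tP) * (cP a)⁻¹) (h : GL (Fin n) F) :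
    h ∈ Ct g' ↔ a⁻¹ * h * a ∈ Ct g := by
  unfold Ct
  rw [mem_cent_comap, mem_cent_comap, e, conj_comm_iff, map_mul, map_mul, map_inv]

/-- the determinants of the centralizer only depend on the class -/
theorem Ct_map_det_conj (g g' : GL (Fin n) F)
    (hc : Cfsg.IsConjUnder (Cfsg.inndiagPSL n F) (cP g * tP : MulAut PSLn) (cP g' * tP)) :
    (Ct g').map Matrix.GeneralLinearGroup.det = (Ct g).map Matrix.GeneralLinearGroup.det := by
  obtain ⟨x, hx, e⟩ := hc
  rw [inndiag_eq_range] at hx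
  obtain ⟨a, rfl⟩ := hx
  apply le_antisymm
  · rintro u ⟨h, hh, rfl⟩
    refine ⟨a⁻¹ * h * a, (mem_Ct_conj g g' a e h).mp hh, ?_⟩
    rw [map_mul, map_mul, map_inv, mul_comm, ← mul_assoc, mul_inv_cancel, one_mul]
  · rintro u ⟨h, hh, rfl⟩
    refine ⟨a * h * a⁻¹, (mem_Ct_conj g g' a e _).mpr ?_, ?_⟩
    · have : a⁻¹ * (a * h * a⁻¹) * a = h := by group
      rw [this]
      exact hh
    · rw [map_mul, map_mul, map_inv, mul_comm, ← mul_assoc, inv_mul_cancel, one_mul]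

variable {m : ℕ}

theorem Kc_J (c : F) :
    (Matrix.fromBlocks (c • (1 : Matrix (Fin m) (Fin m) F)) 0 0 1) * Matrix.J (Fin m) F *
      (Matrix.fromBlocks (c • (1 : Matrix (Fin m) (Fin m) F)) 0 0 1)ᵀ = c • Matrix.J (Fin m) F := by
  rw [Matrix.fromBlocks_transpose, Matrix.J, Matrix.fromBlocks_multiply,
    Matrix.fromBlocks_multiply, Matrix.fromBlocks_smul]
  simp

theorem Kc_det (c : F) :
    (Matrix.fromBlocks (c • (1 : Matrix (Fin m) (Fin m) F)) 0 0
      (1 : Matrix (Fin m) (Fin m) F)).det = c ^ m := by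
  rw [Matrix.det_fromBlocks_zero₂₁, Matrix.det_smul, Matrix.det_one, Fintype.card_fin]
  ring

/-- a similarity of the standard alternating form with multiplier `c` has determinant `c ^ m` -/
theorem det_of_sim_J (K : Matrix (Fin m ⊕ Fin m) (Fin m ⊕ Fin m) F) (c : F) (hc : c ≠ 0)
    (hK : K * Matrix.J (Fin m) F * Kᵀ = c • Matrix.J (Fin m) F) : K.det = c ^ m := by
  obtain ⟨Δ, hΔ⟩ : ∃ Δ : Matrix (Fin m ⊕ Fin m) (Fin m ⊕ Fin m) F,
      Δ = Matrix.fromBlocks (c⁻¹ • (1 : Matrix (Fin m) (Fin m) F)) 0 0 1 := ⟨_, rfl⟩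
  have hmem : Δ * K ∈ Matrix.symplecticGroup (Fin m) F := by
    rw [SymplecticGroup.mem_iff, Matrix.transpose_mul]
    calc Δ * K * Matrix.J (Fin m) F * (Kᵀ * Δᵀ) = Δ * (K * Matrix.J (Fin m) F * Kᵀ) * Δᵀ := by
          simp only [Matrix.mul_assoc]
      _ = c • (Δ * Matrix.J (Fin m) F * Δᵀ) := by
          rw [hK, Matrix.mul_smul, Matrix.smul_mul]
      _ = Matrix.J (Fin m) F := by
          rw [hΔ, Kc_J, smul_smul, mul_inv_cancel₀ hc, one_smul]
  have h1 := SymplecticGroup.det_eq_one hmem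
  rw [Matrix.det_mul, hΔ, Kc_det] at h1
  have hcm : c ^ m ≠ 0 := pow_ne_zero _ hc
  rw [inv_pow] at h1
  field_simp at h1
  exact h1

end

end Cfsg.Agent.Lib.Helper16.GraphSplitPSL
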