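import Mathlib
import Cfsg.Agent.Lib.Helper16.GraphSplitPSL5

/-!
# Split counts: the symplectic case, the count
-/

set_option autoImplicit false
set_option linter.unusedSectionVars false
set_option linter.unusedVariables false
set_option linter.style.haveILetI false

namespace Cfsg.Agent.Lib.Helper16.GraphSplitPSL

open Matrix Cfsg Cfsg.Agent.Lib.Helper6 Cfsg.Agent.Lib.Helper6.AutPSL
  Cfsg.Agent.Lib.Helper16.FieldCoset Cfsg.Agent.Lib.Helper16.GraphFieldCoset
  Cfsg.Agent.Lib.Helper16.FieldCentPSL Cfsg.Agent.Lib.Helper16.GraphFieldCentPSL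
  Cfsg.Agent.Lib.Helper16.OrthClassify Cfsg.Agent.Lib.Helper16.GraphCentPSL
  Cfsg.Agent.Lib.Helper16.GraphInvPSL Cfsg.Agent.Lib.Helper16.SplitCount

section
variable {F : Type*} [Field F] {n m : ℕ}

local notation "PSLn" => Matrix.ProjectiveSpecialLinearGroup (Fin n) F

/-- reindexing the similarity condition for the standard symplectic representative -/
theorem sim_std_iff (e : Fin n ≃ Fin m ⊕ Fin m) (h : GL (Fin n) F) (c : F) :
    h.1 * (reGL e (Matrix.J (Fin m) F) (-Matrix.J (Fin m) F) (J_mul_neg_J m)).1 * (h.1)ᵀ =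
      c • (reGL e (Matrix.J (Fin m) F) (-Matrix.J (Fin m) F) (J_mul_neg_J m)).1 ↔
    (h.1.submatrix e.symm e.symm) * Matrix.J (Fin m) F * (h.1.submatrix e.symm e.symm)ᵀ =
      c • Matrix.J (Fin m) F := by
  rw [reGL_val]
  have e1 : ∀ A B : Matrix (Fin n) (Fin n) F, (A * B).submatrix e.symm e.symm =
      A.submatrix e.symm e.symm * B.submatrix e.symm e.symm :=
    fun A B => (Matrix.submatrix_mul_equiv A B e.symm e.symm e.symm).symm
  have e2 : ∀ X : Matrix (Fin m ⊕ Fin m) (Fin m ⊕ Fin m) F,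
      (X.submatrix e e).submatrix e.symm e.symm = X := by
    intro X; ext i j; simp
  have e3 : ∀ (c : F) (A : Matrix (Fin n) (Fin n) F), (c • A).submatrix e.symm e.symm =
      c • A.submatrix e.symm e.symm := by
    intro c A; ext i j; simp
  have e4 : ∀ A : Matrix (Fin n) (Fin n) F, (A.submatrix e.symm e.symm).submatrix e e = A := by
    intro A; ext i j; simp
  have key : (h.1 * (-Matrix.J (Fin m) F).submatrix e e * (h.1)ᵀ).submatrix e.symm e.symm =
      -((h.1.submatrix e.symm e.symm) * Matrix.J (Fin m) F * (h.1.submatrix e.symm e.symm)ᵀ) := by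
    rw [e1, e1, e2, Matrix.transpose_submatrix, Matrix.mul_neg, Matrix.neg_mul]
  have key2 : (c • (-Matrix.J (Fin m) F).submatrix e e).submatrix e.symm e.symm =
      -(c • Matrix.J (Fin m) F) := by
    rw [e3, e2, smul_neg]
  constructor
  · intro hh
    have h1 : (h.1 * (-Matrix.J (Fin m) F).submatrix e e * (h.1)ᵀ).submatrix e.symm e.symm =
        (c • (-Matrix.J (Fin m) F).submatrix e e).submatrix e.symm e.symm := by rw [hh]
    rw [key, key2] at h1
    exact neg_injective h1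
  · intro hh
    rw [← e4 (h.1 * (-Matrix.J (Fin m) F).submatrix e e * (h.1)ᵀ), key, hh, ← key2, e4]

/-- the standard similarity with multiplier `c` -/
theorem exists_std_sim (e : Fin n ≃ Fin m ⊕ Fin m) (c : F) (hc : c ≠ 0) :
    ∃ h : GL (Fin n) F, h.1.det = c ^ m ∧
      h.1 * (reGL e (Matrix.J (Fin m) F) (-Matrix.J (Fin m) F) (J_mul_neg_J m)).1 * (h.1)ᵀ =
      c • (reGL e (Matrix.J (Fin m) F) (-Matrix.J (Fin m) F) (J_mul_neg_J m)).1 := by
  obtain ⟨K, hK⟩ : ∃ K : Matrix (Fin m ⊕ Fin m) (Fin m ⊕ Fin m) F,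
      K = Matrix.fromBlocks (c • (1 : Matrix (Fin m) (Fin m) F)) 0 0 1 := ⟨_, rfl⟩
  have hKdet : K.det = c ^ m := by rw [hK]; exact Kc_det c
  have hd : (K.submatrix e e).det ≠ 0 := by
    rw [Matrix.det_submatrix_equiv_self, hKdet]
    exact pow_ne_zero _ hc
  refine ⟨glOfDet (K.submatrix e e) hd, ?_, ?_⟩
  · rw [glOfDet_val, Matrix.det_submatrix_equiv_self, hKdet]
  · rw [sim_std_iff, glOfDet_val]
    have : (K.submatrix e e).submatrix e.symm e.symm = K := by
      ext i j; simp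
    rw [this, hK]
    exact Kc_J c

theorem det_symp_std (hn : 2 ≤ n) (e : Fin n ≃ Fin m ⊕ Fin m) :
    (Ct (reGL e (Matrix.J (Fin m) F) (-Matrix.J (Fin m) F) (J_mul_neg_J m))).map
      Matrix.GeneralLinearGroup.det = (powMonoidHom m : Fˣ →* Fˣ).range := by
  apply le_antisymm
  · rintro u ⟨h, hh, rfl⟩
    obtain ⟨c, hc⟩ := (mem_Ct hn _ h).mp hh
    have hc0 := mult_ne_zero (by omega) _ h c hc
    rw [sim_std_iff] at hc
    have hdet := det_of_sim_J _ c hc0 hc
    rw [Matrix.det_submatrix_equiv_self] at hdet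
    refine ⟨Units.mk0 c hc0, ?_⟩
    apply Units.ext
    rw [powMonoidHom_apply, Units.val_pow_eq_pow_val, Units.val_mk0, val_det', hdet]
  · rintro _ ⟨c, rfl⟩
    obtain ⟨h, hdet, hh⟩ := exists_std_sim e (c : F) c.ne_zero
    refine ⟨h, (mem_Ct hn _ h).mpr ⟨_, hh⟩, ?_⟩
    apply Units.ext
    rw [val_det', hdet, powMonoidHom_apply, Units.val_pow_eq_pow_val]

section fin
variable [Fintype F]

theorem count_symp (h2 : (2 : F) ≠ 0) (hn : 2 ≤ n) (hnm : n = 2 * m) (g : GL (Fin n) F)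
    (hg : (g.1)ᵀ = -g.1) :
    Cfsg.splitClassCount (Cfsg.inndiagPSL n F) (Cfsg.Inn PSLn) (cP g * tP) =
      Nat.gcd m (Fintype.card F - 1) := by
  have hcard : Fintype.card (Fin m ⊕ Fin m) = n := by
    rw [Fintype.card_sum, Fintype.card_fin]; omega
  obtain ⟨e, -⟩ : ∃ e : Fin n ≃ Fin m ⊕ Fin m, e = e :=
    ⟨(Fintype.equivFinOfCardEq hcard).symm, rfl⟩
  have hconj := conj_of_skew h2 e g
    (reGL e (Matrix.J (Fin m) F) (-Matrix.J (Fin m) F) (J_mul_neg_J m)) hg rfl
  rw [count_gtP hn, Ct_map_det_conj _ g hconj, det_symp_std hn e,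
    sup_eq_left.mpr (pow_n_le_pow_m hnm)]
  have := index_sup_pow (⊥ : Subgroup Fˣ) m
  rw [bot_sup_eq] at this
  rw [this, Subgroup.card_bot, Nat.div_one, Nat.card_units, Nat.card_eq_fintype_card]

end fin

end

end Cfsg.Agent.Lib.Helper16.GraphSplitPSL
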