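import Mathlib
import Cfsg.Agent.Lib.Helper16.GraphSplitPSL6
import Cfsg.Agent.Lib.Helper16.TwoIdx

/-!
# The centralizer of an orthogonal type graph involution has two subgroups of index two
-/

set_option autoImplicit false
set_option linter.unusedSectionVars false
set_option linter.unusedVariables false
set_option linter.style.haveILetI false

namespace Cfsg.Agent.Lib.Helper16.GraphSplitPSL

open Matrix Cfsg Cfsg.Agent.Lib.Helper6 Cfsg.Agent.Lib.Helper6.AutPSL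
  Cfsg.Agent.Lib.Helper16.FieldCoset Cfsg.Agent.Lib.Helper16.GraphFieldCoset
  Cfsg.Agent.Lib.Helper16.FieldCentPSL Cfsg.Agent.Lib.Helper16.GraphFieldCentPSL
  Cfsg.Agent.Lib.Helper16.OrthClassify Cfsg.Agent.Lib.Helper16.GraphCentPSL
  Cfsg.Agent.Lib.Helper16.GraphInvPSL Cfsg.Agent.Lib.Helper16.SplitCount
  Cfsg.Agent.Lib.Helper16.TwoIdx

section
variable {F : Type*} [Field F] {n : ℕ}

local notation "PSLn" => Matrix.ProjectiveSpecialLinearGroup (Fin n) F

/-- `h` is a similarity of `g` with multiplier `c` -/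
def SimM (g h : GL (Fin n) F) (c : F) : Prop := h.1 * g.1 * (h.1)ᵀ = c • g.1

theorem simM_one (g : GL (Fin n) F) : SimM g 1 1 := by
  unfold SimM
  rw [Units.val_one, Matrix.one_mul, Matrix.transpose_one, Matrix.mul_one, one_smul]

theorem simM_mul {g h h' : GL (Fin n) F} {c c' : F} (hh : SimM g h c) (hh' : SimM g h' c') :
    SimM g (h * h') (c * c') := by
  unfold SimM at *
  rw [Units.val_mul, Matrix.transpose_mul]
  calc h.1 * h'.1 * g.1 * ((h'.1)ᵀ * (h.1)ᵀ) = h.1 * (h'.1 * g.1 * (h'.1)ᵀ) * (h.1)ᵀ := by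
        simp only [Matrix.mul_assoc]
    _ = (c * c') • g.1 := by
        rw [hh', Matrix.mul_smul, Matrix.smul_mul, hh, smul_smul, mul_comm]

theorem simM_ne_zero (hn : 1 ≤ n) {g h : GL (Fin n) F} {c : F} (hh : SimM g h c) : c ≠ 0 :=
  mult_ne_zero hn g h c hh

theorem simM_inv (hn : 1 ≤ n) {g h : GL (Fin n) F} {c : F} (hh : SimM g h c) :
    SimM g h⁻¹ c⁻¹ := by
  have hc0 := simM_ne_zero hn hh
  unfold SimM at *
  calc (h⁻¹).1 * g.1 * ((h⁻¹).1)ᵀ = c⁻¹ • ((h⁻¹).1 * (c • g.1) * ((h⁻¹).1)ᵀ) := by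
        rw [Matrix.mul_smul, Matrix.smul_mul, smul_smul, inv_mul_cancel₀ hc0, one_smul]
    _ = c⁻¹ • (((h⁻¹).1 * h.1) * g.1 * ((h.1)ᵀ * ((h⁻¹).1)ᵀ)) := by
        rw [← hh]; simp only [Matrix.mul_assoc]
    _ = c⁻¹ • g.1 := by
        rw [gl_inv_mul, transpose_mul_inv, Matrix.one_mul, Matrix.mul_one]

theorem simM_unique (hn : 1 ≤ n) {g h : GL (Fin n) F} {c c' : F} (hh : SimM g h c)
    (hh' : SimM g h c') : c = c' := by
  unfold SimM at *
  rw [hh] at hh'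
  obtain ⟨i, j, hij⟩ : ∃ i j, g.1 i j ≠ 0 := by
    by_contra hcon
    push Not at hcon
    exact gl_val_ne_zero hn g (Matrix.ext hcon)
  have := congrFun (congrFun hh' i) j
  rw [Matrix.smul_apply, Matrix.smul_apply, smul_eq_mul, smul_eq_mul] at this
  exact mul_right_cancel₀ hij this

theorem exists_simM (hn : 2 ≤ n) (g : GL (Fin n) F) (h : ↥(Ct g)) : ∃ c, SimM g h.1 c :=
  (mem_Ct hn g h.1).mp h.2

/-- the similarities whose determinant is the `m`-th power of the multiplier -/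
def N1 (hn : 2 ≤ n) (m : ℕ) (g : GL (Fin n) F) : Subgroup ↥(Ct g) where
  carrier := {h | ∃ c, SimM g h.1 c ∧ h.1.1.det = c ^ m}
  one_mem' := ⟨1, simM_one g, by simp⟩
  mul_mem' := by
    rintro a b ⟨c, hc, hd⟩ ⟨c', hc', hd'⟩
    refine ⟨c * c', simM_mul hc hc', ?_⟩
    change (a.1.1 * b.1.1).det = _
    rw [Matrix.det_mul, hd, hd', mul_pow]
  inv_mem' := by
    rintro a ⟨c, hc, hd⟩
    refine ⟨c⁻¹, simM_inv (by omega) hc, ?_⟩
    have h1 : (a.1.1 * (a.1⁻¹).1).det = 1 := by rw [gl_mul_inv, Matrix.det_one]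
    rw [Matrix.det_mul, hd] at h1
    have hc0 := simM_ne_zero (by omega) hc
    change ((a.1⁻¹).1).det = _
    rw [inv_pow]
    exact eq_inv_of_mul_eq_one_right h1

/-- the similarities with square multiplier -/
def N2 (hn : 2 ≤ n) (g : GL (Fin n) F) : Subgroup ↥(Ct g) where
  carrier := {h | ∃ c, SimM g h.1 c ∧ IsSquare c}
  one_mem' := ⟨1, simM_one g, ⟨1, by simp⟩⟩
  mul_mem' := by
    rintro a b ⟨c, hc, hd⟩ ⟨c', hc', hd'⟩
    exact ⟨c * c', simM_mul hc hc', hd.mul hd'⟩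
  inv_mem' := by
    rintro a ⟨c, hc, ⟨s, hs⟩⟩
    refine ⟨c⁻¹, simM_inv (by omega) hc, ⟨s⁻¹, ?_⟩⟩
    rw [hs, mul_inv]

end

end Cfsg.Agent.Lib.Helper16.GraphSplitPSL
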