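import Mathlib
import Cfsg.Agent.Lib.Helper16.GraphSplitPSL7

/-!
# The centralizer of an orthogonal type graph involution has two subgroups of index two (II)
-/

set_option autoImplicit false
set_option linter.unusedSectionVars false
set_option linter.unusedVariables false
set_option linter.style.haveILetI false

namespace Cfsg.Agent.Lib.Helper16.GraphSplitPSL

open Matrix Cfsg Cfsg.Agent.Lib.Helper6 Cfsg.Agent.Lib.Helper6.AutPSL
  Cfsg.Agent.Lib.Helper16.FieldCoset Cfsg.Agent.Lib.Helper16.GraphFieldCoset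
  Cfsg.Agent.Lib.Helper16.FieldCentPSL Cfsg.Agent.Lib.Helper16.GraphFieldCentPSL
  Cfsg.Agent.Lib.Helper16.OrthClassify Cfsg.Agent.Lib.Helper16.GraphCentPSL
  Cfsg.Agent.Lib.Helper16.GraphInvPSL Cfsg.Agent.Lib.Helper16.SplitCount
  Cfsg.Agent.Lib.Helper16.TwoIdx

section
variable {F : Type*} [Field F] {n : ℕ}

local notation "PSLn" => Matrix.ProjectiveSpecialLinearGroup (Fin n) F

theorem det_pm {m : ℕ} (hnm : n = 2 * m) {g h : GL (Fin n) F} {c : F} (hc : SimM g h c) :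
    h.1.det = c ^ m ∨ h.1.det = -c ^ m := by
  have hsq := det_sq_of_mem_Ct g h c hc
  have : c ^ n = c ^ m * c ^ m := by rw [hnm, two_mul, pow_add]
  rw [this] at hsq
  have h3 : (h.1.det - c ^ m) * (h.1.det + c ^ m) = 0 := by linear_combination hsq
  rcases mul_eq_zero.mp h3 with h4 | h4
  · left; linear_combination h4
  · right; linear_combination h4

theorem N1_index [Finite F] (h2 : (2 : F) ≠ 0) {m : ℕ} (hn : 2 ≤ n) (hnm : n = 2 * m)
    (g : GL (Fin n) F) (hg : (g.1)ᵀ = g.1) : (N1 hn m g).index = 2 := by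
  rw [Subgroup.index_eq_two_iff]
  obtain ⟨r, hr, hrdet⟩ := exists_refl h2 hn g hg
  have hrS : SimM g r 1 := by unfold SimM; rw [hr, one_smul]
  have hrC : r ∈ Ct g := (mem_Ct hn g r).mpr ⟨1, hrS⟩
  refine ⟨⟨r, hrC⟩, fun b => ?_⟩
  obtain ⟨c, hc⟩ := exists_simM hn g b
  have hc0 := simM_ne_zero (by omega) hc
  have hcm : c ^ m ≠ 0 := pow_ne_zero _ hc0
  have hne : c ^ m ≠ -c ^ m := by
    intro h
    have h3 : (2 : F) * c ^ m = 0 := by linear_combination h
    rcases mul_eq_zero.mp h3 with h4 | h4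
    · exact h2 h4
    · exact hcm h4
  have hb : b ∈ N1 hn m g ↔ b.1.1.det = c ^ m := by
    constructor
    · rintro ⟨c', hc', hd⟩
      rw [simM_unique (by omega) hc hc']
      exact hd
    · intro h
      exact ⟨c, hc, h⟩
  have hbr : b * ⟨r, hrC⟩ ∈ N1 hn m g ↔ b.1.1.det = -c ^ m := by
    have hS : SimM g (b.1 * r) (c * 1) := simM_mul hc hrS
    have hdet : (b.1 * r).1.det = -b.1.1.det := by
      rw [Units.val_mul, Matrix.det_mul, hrdet]
      ring
    constructor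
    · rintro ⟨c', hc', hd⟩
      have hc'' : SimM g (b.1 * r) c' := hc'
      rw [← simM_unique (by omega) hS hc'', mul_one] at hd
      have hd' : (b.1 * r).1.det = c ^ m := hd
      rw [hdet] at hd'
      linear_combination -hd'
    · intro h
      refine ⟨c * 1, hS, ?_⟩
      change (b.1 * r).1.det = _
      rw [hdet, h, mul_one, neg_neg]
  rcases det_pm hnm hc with h | h
  · right
    exact ⟨hb.mpr h, fun hh => hne (h.symm.trans (hbr.mp hh))⟩
  · left
    exact ⟨hbr.mpr h, fun hh => hne ((hb.mp hh).symm.trans h)⟩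

theorem N2_index [Fintype F] (h2 : (2 : F) ≠ 0) {m : ℕ} (hn : 2 ≤ n) (hnm : n = 2 * m)
    (g : GL (Fin n) F) (hg : (g.1)ᵀ = g.1) : (N2 hn g).index = 2 := by
  rw [Subgroup.index_eq_two_iff]
  have hchar : ringChar F ≠ 2 := by
    intro h
    apply h2
    have := CharP.cast_eq_zero F (ringChar F)
    rw [h] at this
    exact_mod_cast this
  obtain ⟨α, hα⟩ := FiniteField.exists_nonsquare hchar
  have hα0 : α ≠ 0 := by
    rintro rfl
    exact hα ⟨0, by simp⟩
  obtain ⟨s, hs⟩ := exists_sim h2 hn hnm g hg α hα0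
  have hsS : SimM g s α := hs
  have hsC : s ∈ Ct g := (mem_Ct hn g s).mpr ⟨α, hsS⟩
  refine ⟨⟨s, hsC⟩, fun b => ?_⟩
  obtain ⟨c, hc⟩ := exists_simM hn g b
  have hc0 := simM_ne_zero (by omega) hc
  have hb : b ∈ N2 hn g ↔ IsSquare c := by
    constructor
    · rintro ⟨c', hc', hd⟩
      rw [simM_unique (by omega) hc hc']
      exact hd
    · intro h
      exact ⟨c, hc, h⟩
  have hbs : b * ⟨s, hsC⟩ ∈ N2 hn g ↔ IsSquare (c * α) := by
    have hS : SimM g (b.1 * s) (c * α) := simM_mul hc hsS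
    constructor
    · rintro ⟨c', hc', hd⟩
      have hc'' : SimM g (b.1 * s) c' := hc'
      rw [simM_unique (by omega) hS hc'']
      exact hd
    · intro h
      exact ⟨c * α, hS, h⟩
  by_cases hsq : IsSquare c
  · right
    refine ⟨hb.mpr hsq, fun hh => hα ?_⟩
    obtain ⟨t, ht⟩ := hsq
    obtain ⟨u, hu⟩ := hbs.mp hh
    have ht0 : t ≠ 0 := by
      rintro rfl
      rw [mul_zero] at ht
      exact hc0 ht
    refine ⟨u / t, ?_⟩
    field_simp
    rw [ht] at hu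
    linear_combination hu
  · left
    exact ⟨hbs.mpr (isSquare_mul_of_not' h2 _ _ hsq hα), fun hh => hsq (hb.mp hh)⟩

theorem N1_ne_N2 [Finite F] (h2 : (2 : F) ≠ 0) {m : ℕ} (hn : 2 ≤ n)
    (g : GL (Fin n) F) (hg : (g.1)ᵀ = g.1) : N1 hn m g ≠ N2 hn g := by
  obtain ⟨r, hr, hrdet⟩ := exists_refl h2 hn g hg
  have hrS : SimM g r 1 := by unfold SimM; rw [hr, one_smul]
  have hrC : r ∈ Ct g := (mem_Ct hn g r).mpr ⟨1, hrS⟩
  intro h
  have h1 : (⟨r, hrC⟩ : ↥(Ct g)) ∈ N2 hn g := ⟨1, hrS, ⟨1, by simp⟩⟩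
  rw [← h] at h1
  obtain ⟨c', hc', hd⟩ := h1
  have hc'' : SimM g r c' := hc'
  rw [← simM_unique (by omega) hrS hc'', one_pow] at hd
  have hd' : r.1.det = 1 := hd
  rw [hrdet] at hd'
  have : (2 : F) = 0 := by linear_combination -hd'
  exact h2 this

/-- the projection of the similarity group onto the centralizer -/
noncomputable def piC (g : GL (Fin n) F) :
    ↥(Ct g) →* ↥(Cfsg.inndiagPSL n F ⊓ Subgroup.centralizer {(cP g * tP : MulAut PSLn)}) :=
  ((cP : GL (Fin n) F →* MulAut PSLn).comp (Ct g).subtype).codRestrict _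
    (fun h => Subgroup.mem_inf.mpr ⟨by rw [inndiag_eq_range]; exact ⟨h.1, rfl⟩, h.2⟩)

theorem piC_val (g : GL (Fin n) F) (h : ↥(Ct g)) : ((piC g h).1 : MulAut PSLn) = cP h.1 :=
  rfl

theorem piC_surjective (g : GL (Fin n) F) : Function.Surjective (piC g) := by
  rintro ⟨β, hβ⟩
  obtain ⟨hβ1, hβ2⟩ := Subgroup.mem_inf.mp hβ
  rw [inndiag_eq_range] at hβ1
  obtain ⟨h, rfl⟩ := hβ1
  exact ⟨⟨h, hβ2⟩, Subtype.ext rfl⟩

theorem piC_ker_scalar (hn : 2 ≤ n) (g : GL (Fin n) F) (h : ↥(Ct g)) (hh : h ∈ (piC g).ker) :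
    ∃ μ : F, h.1.1 = μ • (1 : Matrix (Fin n) (Fin n) F) := by
  rw [MonoidHom.mem_ker] at hh
  have h1 : (cP h.1 : MulAut PSLn) = 1 := by
    rw [← piC_val, hh]
    rfl
  rw [← map_one (cP : GL (Fin n) F →* MulAut PSLn), cP_eq_iff hn] at h1
  obtain ⟨μ, hμ⟩ := h1
  exact ⟨μ, by rw [hμ, Units.val_one]⟩

theorem simM_scalar (g h : GL (Fin n) F) (μ : F)
    (hμ : h.1 = μ • (1 : Matrix (Fin n) (Fin n) F)) : SimM g h (μ * μ) := by
  unfold SimM
  rw [hμ, Matrix.transpose_smul, Matrix.transpose_one, Matrix.smul_mul, Matrix.one_mul,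
    Matrix.mul_smul, Matrix.mul_one, smul_smul]

/-- the centralizer of an orthogonal type graph involution has two subgroups of index two -/
theorem twoIdx_orth [Fintype F] (h2 : (2 : F) ≠ 0) {m : ℕ} (hn : 2 ≤ n) (hnm : n = 2 * m)
    (g : GL (Fin n) F) (hg : (g.1)ᵀ = g.1) :
    TwoIdx ↥(Cfsg.inndiagPSL n F ⊓ Subgroup.centralizer {(cP g * tP : MulAut PSLn)}) := by
  apply twoIdx_of_surj (piC g) (piC_surjective g) (N1 hn m g) (N2 hn g)
    (N1_index h2 hn hnm g hg) (N2_index h2 hn hnm g hg) _ _ (N1_ne_N2 h2 hn g hg)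
  · intro h hh
    obtain ⟨μ, hμ⟩ := piC_ker_scalar hn g h hh
    refine ⟨μ * μ, simM_scalar g h.1 μ hμ, ?_⟩
    rw [hμ, Matrix.det_smul, Matrix.det_one, mul_one, Fintype.card_fin, hnm, mul_pow, two_mul,
      pow_add]
  · intro h hh
    obtain ⟨μ, hμ⟩ := piC_ker_scalar hn g h hh
    exact ⟨μ * μ, simM_scalar g h.1 μ hμ, ⟨μ, rfl⟩⟩

end

end Cfsg.Agent.Lib.Helper16.GraphSplitPSL
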