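import Mathlib
import Cfsg.Agent.Lib.Helper16.TwoIdx
import Cfsg.Agent.Lib.Helper16.FieldCentPSp
import Cfsg.Agent.Lib.Helper16.GraphInvPSL4
import Cfsg.Agent.S0765

/-!
# `PGSp_{2m}(q)`, `q` odd, has a unique subgroup of index two
-/

set_option autoImplicit false
set_option linter.unusedSectionVars false
set_option linter.unusedVariables false
set_option linter.style.haveILetI false

namespace Cfsg.Agent.Lib.Helper16.PGSpIdx

open Matrix Cfsg Cfsg.Agent.Lib.Helper6 Cfsg.Agent.Lib.Helper6.AutPSp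
  Cfsg.Agent.Lib.Helper16.FieldCentPSp Cfsg.Agent.Lib.Helper16.TwoIdx
  Cfsg.Agent.Lib.Helper16.SympDescent
open Cfsg.Agent.Lib.Helper6.AutPSL (gl_mul_inv gl_inv_mul)

section
variable {m : ℕ} {F : Type*} [Field F] [Fintype F]

local notation "Mat" => Matrix (Fin m ⊕ Fin m) (Fin m ⊕ Fin m) F
local notation "Jm" => Matrix.J (Fin m) F

/-- the inclusion of the symplectic group in the conformal symplectic group -/
noncomputable def spHom : ↥(Matrix.symplecticGroup (Fin m) F) →* ↥(Cfsg.GSp m F) where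
  toFun s := ⟨spToGL s, spToGL_mem s⟩
  map_one' := by
    apply Subtype.ext
    apply Units.ext
    rfl
  map_mul' a b := by
    apply Subtype.ext
    apply Units.ext
    rfl

theorem spHom_val (s : ↥(Matrix.symplecticGroup (Fin m) F)) : (spHom s).1.1 = s.1 := rfl

/-- every symplectic matrix lies in each subgroup of index two of `GSp`, `q` odd -/
theorem spHom_mem (h2 : (2 : F) ≠ 0) (N : Subgroup ↥(Cfsg.GSp m F)) (hN : N.index = 2) (s : ↥(Matrix.symplecticGroup (Fin m) F)) :
    spHom s ∈ N := by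
  have hs : s ∈ (⊤ : Subgroup ↥(Matrix.symplecticGroup (Fin m) F)) := Subgroup.mem_top s
  rw [← Cfsg.Agent.S0765.result (F := F) m] at hs
  induction hs using Subgroup.closure_induction with
  | mem x hx =>
    obtain ⟨w, c, hxw⟩ := hx
    obtain ⟨y, hy⟩ : ∃ y : ↥(Matrix.symplecticGroup (Fin m) F), y = ⟨Cfsg.sympTransvection m w (c / 2),
      sympTransvection_mem w (c / 2)⟩ := ⟨_, rfl⟩
    have hxy : x = y * y := by
      apply Subtype.ext
      change x.1 = y.1 * y.1
      rw [hxw, hy, sympTransvection_mul]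
      congr 1
      field_simp
      ring
    rw [hxy, map_mul]
    exact Subgroup.mul_self_mem_of_index_two hN _
  | one => rw [map_one]; exact N.one_mem
  | mul x y _ _ hx hy => rw [map_mul]; exact N.mul_mem hx hy
  | inv x _ hx => rw [map_inv]; exact N.inv_mem hx

/-- elements of multiplier one are symplectic -/
theorem exists_sp_of_mult_one (hm : 1 ≤ m) (x : ↥(Cfsg.GSp m F)) (hx : multF x = 1) :
    ∃ s : ↥(Matrix.symplecticGroup (Fin m) F), spHom s = x := by
  have h1 := multF_spec x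
  rw [hx, one_smul] at h1
  have hmem : x.1.1 ∈ Matrix.symplecticGroup (Fin m) F := SymplecticGroup.mem_iff'.mpr h1
  refine ⟨⟨x.1.1, hmem⟩, ?_⟩
  apply Subtype.ext
  apply Units.ext
  rfl

/-- the scalar matrix as a conformal symplectic matrix -/
theorem exists_scalar (hm : 1 ≤ m) (t : F) (ht : t ≠ 0) :
    ∃ z : ↥(Cfsg.GSp m F), z.1 ∈ Cfsg.Geo.scalars (Fin m ⊕ Fin m) F ∧ multF z = t * t := by
  have h1 : (t • (1 : Mat)) * (t⁻¹ • (1 : Mat)) = 1 := by
    rw [Matrix.smul_mul, Matrix.one_mul, smul_smul, mul_inv_cancel₀ ht, one_smul]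
  have h3 : (t • (1 : Mat))ᵀ * Jm * (t • (1 : Mat)) = (t * t) • Jm := by
    rw [Matrix.transpose_smul, Matrix.transpose_one, Matrix.smul_mul, Matrix.one_mul,
      Matrix.mul_smul, Matrix.mul_one, smul_smul]
  obtain ⟨g, hg, hgv⟩ := mem_gsp_of_mat _ _ h1 (t * t) (mul_ne_zero ht ht) h3
  refine ⟨⟨g, hg⟩, ?_, ?_⟩
  · rw [Cfsg.Geo.mem_scalars_iff]
    exact ⟨Units.mk0 t ht, hgv⟩
  · apply multF_eq hm
    change g.1ᵀ * Jm * g.1 = _
    rw [hgv, h3]

theorem multF_mul (hm : 1 ≤ m) (x y : ↥(Cfsg.GSp m F)) : multF (x * y) = multF x * multF y := by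
  have := congrArg Units.val (map_mul (mult hm) x y)
  rw [Units.val_mul, mult_val, mult_val, mult_val] at this
  exact this

theorem multF_inv (hm : 1 ≤ m) (x : ↥(Cfsg.GSp m F)) : multF x⁻¹ = (multF x)⁻¹ := by
  have := congrArg Units.val (map_inv (mult hm) x)
  rw [Units.val_inv_eq_inv_val, mult_val, mult_val] at this
  exact this

/-- the subgroup of elements with square multiplier -/
noncomputable def sqSub (hm : 1 ≤ m) : Subgroup ↥(Cfsg.GSp m F) :=
  (powMonoidHom 2 : Fˣ →* Fˣ).range.comap (mult hm)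

theorem mem_sqSub (hm : 1 ≤ m) (x : ↥(Cfsg.GSp m F)) : x ∈ sqSub hm ↔ IsSquare (multF x) := by
  unfold sqSub
  rw [Subgroup.mem_comap, MonoidHom.mem_range]
  constructor
  · rintro ⟨s, hs⟩
    refine ⟨(s : F), ?_⟩
    have := congrArg (fun u : Fˣ => (u : F)) hs
    simp only [powMonoidHom_apply, Units.val_pow_eq_pow_val, mult_val] at this
    rw [← this, pow_two]
  · rintro ⟨t, ht⟩
    have ht0 : t ≠ 0 := by
      rintro rfl
      rw [mul_zero] at ht
      exact multF_ne x ht
    refine ⟨Units.mk0 t ht0, ?_⟩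
    apply Units.ext
    rw [powMonoidHom_apply, Units.val_pow_eq_pow_val, Units.val_mk0, mult_val, ht, pow_two]

/-- `PGSp_{2m}(q)`, `q` odd, does not have two subgroups of index two -/
theorem not_twoIdx_pgsp (hm : 1 ≤ m) (h2 : (2 : F) ≠ 0) : ¬ TwoIdx (Cfsg.PGSp m F) := by
  apply not_twoIdx_of_surj
    (QuotientGroup.mk' ((Cfsg.Geo.scalars (Fin m ⊕ Fin m) F).subgroupOf (Cfsg.GSp m F)))
    (QuotientGroup.mk'_surjective _) (sqSub hm)
  intro N hN hker
  rw [QuotientGroup.ker_mk'] at hker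
  -- square multiplier implies membership
  have hB : ∀ x : ↥(Cfsg.GSp m F), IsSquare (multF x) → x ∈ N := by
    rintro x ⟨t, ht⟩
    have ht0 : t ≠ 0 := by
      rintro rfl
      rw [mul_zero] at ht
      exact multF_ne x ht
    obtain ⟨z, hz, hzm⟩ := exists_scalar hm t ht0
    have hzN : z ∈ N := hker (Subgroup.mem_subgroupOf.mpr hz)
    have h1 : multF (z⁻¹ * x) = 1 := by
      rw [multF_mul hm, multF_inv hm, hzm, ht, inv_mul_cancel₀ (mul_ne_zero ht0 ht0)]
    obtain ⟨s, hs⟩ := exists_sp_of_mult_one hm _ h1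
    have h3 : z⁻¹ * x ∈ N := by rw [← hs]; exact spHom_mem h2 N hN s
    have : x = z * (z⁻¹ * x) := by group
    rw [this]
    exact N.mul_mem hzN h3
  apply le_antisymm
  · intro x₀ hx₀
    rw [mem_sqSub]
    by_contra hns
    have htop : N = ⊤ := by
      rw [eq_top_iff]
      intro y _
      by_cases hy : IsSquare (multF y)
      · exact hB y hy
      · have h1 : IsSquare (multF (y * x₀⁻¹)) := by
          rw [multF_mul hm, multF_inv hm]
          obtain ⟨r, hr⟩ := Cfsg.Agent.Lib.Helper16.GraphInvPSL.isSquare_mul_of_not' h2 _ _ hy hns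
          refine ⟨r / multF x₀, ?_⟩
          have := multF_ne x₀
          field_simp
          linear_combination hr
        have h3 := hB _ h1
        have : y = (y * x₀⁻¹) * x₀ := by group
        rw [this]
        exact N.mul_mem h3 hx₀
    rw [htop, Subgroup.index_top] at hN
    exact absurd hN (by norm_num)
  · intro x hx
    exact hB x ((mem_sqSub hm x).mp hx)

end

end Cfsg.Agent.Lib.Helper16.PGSpIdx
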