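import Mathlib
import Cfsg.Agent.Lib.Helper16.GraphSplitPSL8
import Cfsg.Agent.Lib.Helper16.PGSpIdx

/-!
# Split counts of involutory graph automorphisms of `PSL_n(q)`: main theorem
-/

set_option autoImplicit false
set_option linter.unusedSectionVars false
set_option linter.unusedVariables false
set_option linter.style.haveILetI false

namespace Cfsg.Agent.Lib.Helper16.GraphSplitPSL

open Matrix Cfsg Cfsg.Agent.Lib.Helper6 Cfsg.Agent.Lib.Helper6.AutPSL
  Cfsg.Agent.Lib.Helper16.FieldCoset Cfsg.Agent.Lib.Helper16.GraphFieldCoset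
  Cfsg.Agent.Lib.Helper16.FieldCentPSL Cfsg.Agent.Lib.Helper16.GraphFieldCentPSL
  Cfsg.Agent.Lib.Helper16.OrthClassify Cfsg.Agent.Lib.Helper16.GraphCentPSL
  Cfsg.Agent.Lib.Helper16.GraphInvPSL Cfsg.Agent.Lib.Helper16.SplitCount
  Cfsg.Agent.Lib.Helper16.TwoIdx Cfsg.Agent.Lib.Helper16.PGSpIdx

section
variable {F : Type*} [Field F] [Fintype F]

/-- the centralizer of a symplectic type graph involution -/
theorem cent_symp_iso (h2 : (2 : F) ≠ 0) {n m : ℕ} (hn : 2 ≤ n) (hnm : n = 2 * m)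
    (g : GL (Fin n) F) (hg : (g.1)ᵀ = -g.1) :
    Nonempty (↥(Cfsg.inndiagPSL n F ⊓ Subgroup.centralizer
      {(cP g * tP : MulAut (Matrix.ProjectiveSpecialLinearGroup (Fin n) F))}) ≃*
      Cfsg.PGSp m F) := by
  have hcard : Fintype.card (Fin m ⊕ Fin m) = n := by
    rw [Fintype.card_sum, Fintype.card_fin]; omega
  obtain ⟨e, -⟩ : ∃ e : Fin n ≃ Fin m ⊕ Fin m, e = e :=
    ⟨(Fintype.equivFinOfCardEq hcard).symm, rfl⟩
  obtain ⟨x, hx, hxe⟩ := conj_of_skew h2 e g
    (reGL e (Matrix.J (Fin m) F) (-Matrix.J (Fin m) F) (J_mul_neg_J m)) hg rfl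
  obtain ⟨ψ₁⟩ := cent_conj_iso (Cfsg.inndiagPSL n F) x hx
    (cP (reGL e (Matrix.J (Fin m) F) (-Matrix.J (Fin m) F) (J_mul_neg_J m)) * tP)
  obtain ⟨ψ₂⟩ := cent_iso_symp (F := F) hn e
  rw [← hxe] at ψ₁
  exact ⟨ψ₁.trans ψ₂⟩

/-- the number of `PSL`-classes in the `PGL`-class of an involutory graph automorphism -/
theorem main {p f : ℕ} [Fact p.Prime] (hF : Fintype.card F = p ^ f) (hf : 1 ≤ f) {n : ℕ}
    (hn : 3 ≤ n) (γ : MulAut (Matrix.ProjectiveSpecialLinearGroup (Fin n) F))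
    (hγ : Cfsg.IsGraphAutClassPSL γ) (hγ2 : orderOf γ = 2) :
    ((Even n ∧ Odd p ∧ Nonempty (↥(Cfsg.inndiagPSL n F ⊓ Subgroup.centralizer {γ}) ≃*
        Cfsg.PGSp (n / 2) F)) →
      Cfsg.splitClassCount (Cfsg.inndiagPSL n F)
        (Cfsg.Inn (Matrix.ProjectiveSpecialLinearGroup (Fin n) F)) γ =
        Nat.gcd (n / 2) (p ^ f - 1)) ∧
    ((Even n ∧ Odd p ∧ ¬ Nonempty (↥(Cfsg.inndiagPSL n F ⊓ Subgroup.centralizer {γ}) ≃*
        Cfsg.PGSp (n / 2) F)) →
      Cfsg.splitClassCount (Cfsg.inndiagPSL n F)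
        (Cfsg.Inn (Matrix.ProjectiveSpecialLinearGroup (Fin n) F)) γ =
        Nat.gcd n (p ^ f - 1) / 2) ∧
    (¬ (Even n ∧ Odd p) →
      Cfsg.splitClassCount (Cfsg.inndiagPSL n F)
        (Cfsg.Inn (Matrix.ProjectiveSpecialLinearGroup (Fin n) F)) γ =
        Nat.gcd n (p ^ f - 1)) := by
  classical
  obtain ⟨-, g, rfl⟩ := (graphAut_iff γ).mp hγ
  have hsym := (orderOf_gtP hn g).mp hγ2
  have hn2 : 2 ≤ n := by omega
  have hpodd : Odd p → Odd (Fintype.card F) := by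
    intro h
    rw [hF]
    exact h.pow
  have h2_of : Odd p → (2 : F) ≠ 0 := by
    intro h
    have hch : ringChar F ≠ 2 := by
      intro h'
      have := FiniteField.even_card_of_char_two h'
      rw [← Nat.even_iff] at this
      exact (Nat.not_even_iff_odd.mpr (hpodd h)) this
    exact Ring.two_ne_zero hch
  refine ⟨?_, ?_, ?_⟩
  · rintro ⟨⟨m, hm⟩, hp, ⟨ψ⟩⟩
    have hnm : n = 2 * m := by omega
    have hdiv : n / 2 = m := by omega
    rw [hdiv] at ψ ⊢
    have h2 := h2_of hp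
    rcases hsym with hs | hs
    · exfalso
      exact not_twoIdx_pgsp (by omega) h2 ((twoIdx_orth h2 hn2 hnm g hs).of_equiv ψ)
    · rw [count_symp h2 hn2 hnm g hs, hF]
  · rintro ⟨⟨m, hm⟩, hp, hne⟩
    have hnm : n = 2 * m := by omega
    have hdiv : n / 2 = m := by omega
    rw [hdiv] at hne
    have h2 := h2_of hp
    rcases hsym with hs | hs
    · rw [count_orth (hpodd hp) hn2 hnm g hs, hF]
    · exact absurd (cent_symp_iso h2 hn2 hnm g hs) hne
  · intro hne
    rw [← hF]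
    apply count_of_le hn2
    by_cases hodd : Odd n
    · exact det_le_pow_of_odd hn2 hodd g
    · rw [Nat.not_odd_iff_even] at hodd
      have hp2 : ¬ Odd p := fun h => hne ⟨hodd, h⟩
      rw [Nat.not_odd_iff_even] at hp2
      have hp2' : p = 2 := (Nat.Prime.even_iff (Fact.out : p.Prime)).mp hp2
      have hch : ringChar F = 2 := by
        rw [FiniteField.even_card_iff_char_two, hF, hp2']
        exact Nat.even_iff.mp ((Nat.even_pow' (by omega)).mpr even_two)
      haveI : CharP F 2 := ringChar.of_eq hch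
      exact det_le_pow_of_char_two hn2 hodd g

end

end Cfsg.Agent.Lib.Helper16.GraphSplitPSL
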