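import Mathlib
import Cfsg.Agent.Lib.Helper16.GraphC2PSU
import Cfsg.Agent.Lib.Helper16.GraphSplitPSL9

/-!
# The number of `PSU`-classes in the `PGU`-class of an involutory graph automorphism (I)
-/

set_option autoImplicit false
set_option linter.unusedSectionVars false
set_option linter.unusedVariables false
set_option linter.style.haveILetI false

namespace Cfsg.Agent.Lib.Helper16.GraphSplitPSU

open Matrix Cfsg Cfsg.Agent.Lib.Helper6 Cfsg.Agent.Lib.Helper6.AutPSU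
  Cfsg.Agent.Lib.Helper16.H90GL
  Cfsg.Agent.Lib.Helper16.GraphFieldCoset
  Cfsg.Agent.Lib.Helper16.FieldCosetPSU Cfsg.Agent.Lib.Helper16.SplitCount
  Cfsg.Agent.Lib.Helper16.FieldCentPSU
  Cfsg.Agent.Lib.Helper16.GraphInvPSU
open Cfsg.Agent.Lib.Helper6.AutPSL (sG sG_val gl_mul_inv gl_inv_mul)
open Cfsg.Agent.Lib.Helper16.FieldCentPSL (mem_cent_comap gl_ne_zero)

section grp

/-- in a commutative group, `D² = Lⁿ` with `n` odd makes `D` an `n`-th power -/
theorem pow_of_sq_odd {Z : Type*} [CommGroup Z] (D L : Z) (n k : ℕ) (hn : n = 2 * k + 1)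
    (h : D * D = L ^ n) : ∃ v : Z, v ^ n = D := by
  refine ⟨D / L ^ k, ?_⟩
  have hvv : (D / L ^ k) * (D / L ^ k) = L := by
    rw [div_mul_div_comm, h, hn, ← pow_add, pow_succ, two_mul, mul_div_assoc, mul_comm,
      div_mul_cancel]
  have : (D / L ^ k) ^ n = ((D / L ^ k) * (D / L ^ k)) ^ k * (D / L ^ k) := by
    rw [hn, pow_succ, pow_mul, pow_two]
  rw [this, hvv, mul_div_cancel]

/-- in a commutative group of odd order, `D² = Lⁿ` with `n` even makes `D` an `n`-th power -/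
theorem pow_of_sq_even {Z : Type*} [CommGroup Z] [Finite Z] (hodd : Odd (Nat.card Z)) (D L : Z)
    (n : ℕ) (h : D * D = L ^ n) : ∃ v : Z, v ^ n = D := by
  obtain ⟨t, ht⟩ := hodd
  refine ⟨L ^ (t + 1), ?_⟩
  have h1 : D ^ (Nat.card Z) = 1 := pow_card_eq_one'
  have h2 : D = (D * D) ^ (t + 1) := by
    rw [← pow_two, ← pow_mul]
    have : 2 * (t + 1) = Nat.card Z + 1 := by omega
    rw [this, pow_succ, h1, one_mul]
  rw [← pow_mul, mul_comm, pow_mul, ← h]
  exact h2.symm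

end grp

variable {F : Type*} [Field F] [Fintype F] {q n : ℕ}

section n1
variable (hF : Fintype.card F = q ^ 2)

/-- an element of norm one as an element of the norm-one group -/
noncomputable def n1Of (l : F) (hl : l * tauA hF l = 1) : ↥(N1 F q) :=
  ⟨Units.mk0 l (left_ne_zero_of_mul_eq_one hl), by
    rw [mem_N1]
    apply Units.ext
    rw [Units.val_pow_eq_pow_val, Units.val_mk0, Units.val_one, pow_succ', ← tauA_apply hF]
    exact hl⟩

theorem n1Of_val (l : F) (hl : l * tauA hF l = 1) : (((n1Of hF l hl : ↥(N1 F q)) : Fˣ) : F) = l :=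
  rfl

theorem n1_norm (u : ↥(N1 F q)) : ((u : Fˣ) : F) * tauA hF ((u : Fˣ) : F) = 1 := by
  have := (mem_N1 u.1).mp u.2
  rw [tauA_apply, ← pow_succ', ← Units.val_pow_eq_pow_val, this, Units.val_one]

theorem n1_ext (u v : ↥(N1 F q)) (h : ((u : Fˣ) : F) = ((v : Fˣ) : F)) : u = v :=
  Subtype.ext (Units.ext h)

theorem n1_pow_val (u : ↥(N1 F q)) (k : ℕ) :
    (((u ^ k : ↥(N1 F q)) : Fˣ) : F) = ((u : Fˣ) : F) ^ k := by
  rw [Subgroup.coe_pow, Units.val_pow_eq_pow_val]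

theorem n1_mul_val (u v : ↥(N1 F q)) :
    (((u * v : ↥(N1 F q)) : Fˣ) : F) = ((u : Fˣ) : F) * ((v : Fˣ) : F) := by
  rw [Subgroup.coe_mul, Units.val_mul]

end n1

section count
variable (p : ℕ) [hp : Fact p.Prime] [CharP F p] (hF : Fintype.card F = q ^ 2) (hn : 3 ≤ n)

/-- the preimage in `GU_n` of the centralizer of a graph automorphism -/
noncomputable def CtU (g : ↥(Cfsg.GU n F q)) : Subgroup ↥(Cfsg.GU n F q) :=
  (Subgroup.centralizer {(cU g * fU (tauA hF) : MulAut (Cfsg.PSU n F q))}).comap cU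

include hp hn in
theorem mem_CtU (g h : ↥(Cfsg.GU n F q)) :
    h ∈ CtU hF g ↔ ∃ c : F, h.1.1 * g.1.1 = c • (g.1.1 * h.1.1.map (tauA hF)) := by
  unfold CtU
  rw [mem_cent_comap, eq_comm, comm_gU_iff p hF hn]

include hp hn in
theorem count_gU (g : ↥(Cfsg.GU n F q)) :
    Cfsg.splitClassCount (Cfsg.inndiagPSU n F q) (Cfsg.Inn (Cfsg.PSU n F q))
      (cU g * fU (tauA hF)) =
      ((CtU hF g).map (guDet1 hF) ⊔ (powMonoidHom n : ↥(N1 F q) →* ↥(N1 F q)).range).index := by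
  have hK : ∀ h : ↥(Cfsg.GU n F q), cU h ∈ Cfsg.Inn (Cfsg.PSU n F q) ↔ deltaU hF n h = 1 := by
    intro h
    have := cA_mem_inn_iff p hF hn (1 : MulAut (Cfsg.PSU n F q)) h
    rw [cA_apply, inv_one, one_mul, mul_one] at this
    exact this
  rw [splitClassCount_eq (Cfsg.inndiagPSU n F q) (Cfsg.Inn (Cfsg.PSU n F q)) _
    (cU : ↥(Cfsg.GU n F q) →* MulAut (Cfsg.PSU n F q)) inndiag_eq_range.symm inn_le_inndiag
    (deltaU hF n) (deltaU_surjective hF (by omega)) hK]
  have hdelta : (deltaU hF n : ↥(Cfsg.GU n F q) →* _) =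
      (QuotientGroup.mk' (powMonoidHom n : ↥(N1 F q) →* ↥(N1 F q)).range).comp (guDet1 hF) := rfl
  rw [hdelta, ← Subgroup.map_map, Subgroup.index_map, QuotientGroup.ker_mk',
    MonoidHom.range_eq_top.mpr (QuotientGroup.mk'_surjective _), Subgroup.index_top, mul_one]
  rfl

/-- the multiplier of an element of the centralizer has norm one, and the determinant squares to
its `n`-th power -/
theorem mult_facts (hn1 : 1 ≤ n) (g h : ↥(Cfsg.GU n F q)) (l : F)
    (hl : h.1.1 * g.1.1 = l • (g.1.1 * h.1.1.map (tauA hF))) :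
    l * tauA hF l = 1 ∧ h.1.1.det * h.1.1.det = l ^ n := by
  have hU1 : hs (tauA hF) (h.1.1 * g.1.1) * (h.1.1 * g.1.1) = 1 := mem_GU_hs hF (h * g)
  have hU2 : hs (tauA hF) (g.1.1 * h.1.1.map (tauA hF)) * (g.1.1 * h.1.1.map (tauA hF)) = 1 := by
    have := mem_GU_hs hF (g * sGU (tauA hF) h)
    have e : (g * sGU (tauA hF) h).1.1 = g.1.1 * h.1.1.map (tauA hF) := by
      change g.1.1 * (sGU (tauA hF) h).1.1 = _
      rw [sGU_val]
    rwa [e] at this
  have hnorm : l * tauA hF l = 1 := by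
    rw [hl, hs_smul, Matrix.smul_mul, Matrix.mul_smul, smul_smul, hU2] at hU1
    have := congrFun (congrFun hU1 ⟨0, by omega⟩) ⟨0, by omega⟩
    rw [Matrix.smul_apply, Matrix.one_apply_eq, smul_eq_mul, mul_one] at this
    rw [mul_comm]
    exact this
  refine ⟨hnorm, ?_⟩
  have hd := congrArg Matrix.det hl
  rw [Matrix.det_mul, Matrix.det_smul, Matrix.det_mul, Fintype.card_fin] at hd
  have hdτ : (h.1.1.map (tauA hF)).det = tauA hF h.1.1.det := by
    have := (RingHom.map_det ((tauA hF : RingAut F) : F →+* F) h.1.1).symm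
    exact this
  have hgd : g.1.1.det ≠ 0 := (Matrix.GeneralLinearGroup.det g.1).ne_zero
  have hhd : h.1.1.det ≠ 0 := (Matrix.GeneralLinearGroup.det h.1).ne_zero
  have hN : h.1.1.det * tauA hF h.1.1.det = 1 := by
    have := n1_norm hF (guDet1 hF h)
    rwa [guDet1_val] at this
  rw [hdτ] at hd
  have h3 : (h.1.1.det - l ^ n * tauA hF h.1.1.det) * g.1.1.det = 0 := by linear_combination hd
  have h4 : h.1.1.det = l ^ n * tauA hF h.1.1.det :=
    sub_eq_zero.mp ((mul_eq_zero.mp h3).resolve_right hgd)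
  have h5 : h.1.1.det * h.1.1.det = l ^ n * (h.1.1.det * tauA hF h.1.1.det) := by
    linear_combination h.1.1.det * h4
  rw [h5, hN, mul_one]

include hp hn in
theorem det_le_pow_of_odd_U (hodd : Odd n) (g : ↥(Cfsg.GU n F q)) :
    (CtU hF g).map (guDet1 hF) ≤ (powMonoidHom n : ↥(N1 F q) →* ↥(N1 F q)).range := by
  rintro u ⟨h, hh, rfl⟩
  obtain ⟨l, hl⟩ := (mem_CtU p hF hn g h).mp hh
  obtain ⟨hnorm, hsq⟩ := mult_facts hF (by omega) g h l hl
  obtain ⟨k, hk⟩ := hodd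
  have hDD : guDet1 hF h * guDet1 hF h = (n1Of hF l hnorm) ^ n := by
    apply n1_ext
    rw [n1_mul_val, n1_pow_val, guDet1_val, n1Of_val, hsq]
  obtain ⟨v, hv⟩ := pow_of_sq_odd _ _ n k hk hDD
  exact ⟨v, hv⟩

include hp hn in
theorem det_le_pow_of_even_q_U (hq : Even q) (g : ↥(Cfsg.GU n F q)) :
    (CtU hF g).map (guDet1 hF) ≤ (powMonoidHom n : ↥(N1 F q) →* ↥(N1 F q)).range := by
  rintro u ⟨h, hh, rfl⟩
  obtain ⟨l, hl⟩ := (mem_CtU p hF hn g h).mp hh
  obtain ⟨hnorm, hsq⟩ := mult_facts hF (by omega) g h l hl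
  have hDD : guDet1 hF h * guDet1 hF h = (n1Of hF l hnorm) ^ n := by
    apply n1_ext
    rw [n1_mul_val, n1_pow_val, guDet1_val, n1Of_val, hsq]
  have hodd : Odd (Nat.card ↥(N1 F q)) := by
    rw [card_N1 hF]
    exact hq.add_one
  obtain ⟨v, hv⟩ := pow_of_sq_even hodd _ _ n hDD
  exact ⟨v, hv⟩

include hp hn in
theorem count_of_le_U (g : ↥(Cfsg.GU n F q))
    (hle : (CtU hF g).map (guDet1 hF) ≤ (powMonoidHom n : ↥(N1 F q) →* ↥(N1 F q)).range) :
    Cfsg.splitClassCount (Cfsg.inndiagPSU n F q) (Cfsg.Inn (Cfsg.PSU n F q))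
      (cU g * fU (tauA hF)) = Nat.gcd n (q + 1) := by
  rw [count_gU p hF hn, sup_eq_right.mpr hle]
  have := index_sup_pow (⊥ : Subgroup ↥(N1 F q)) n
  rw [bot_sup_eq] at this
  rw [this, Subgroup.card_bot, Nat.div_one, card_N1 hF]

end count

end Cfsg.Agent.Lib.Helper16.GraphSplitPSU
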