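import Mathlib
import Cfsg.Agent.Lib.Helper16.GraphSplitPSU

/-!
# The number of `PSU`-classes in the `PGU`-class of an involutory graph automorphism (II)
-/

set_option autoImplicit false
set_option linter.unusedSectionVars false
set_option linter.unusedVariables false
set_option linter.style.haveILetI false

namespace Cfsg.Agent.Lib.Helper16.GraphSplitPSU

open Matrix Cfsg Cfsg.Agent.Lib.Helper6 Cfsg.Agent.Lib.Helper6.AutPSU
  Cfsg.Agent.Lib.Helper16.H90GL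
  Cfsg.Agent.Lib.Helper16.GraphFieldCoset
  Cfsg.Agent.Lib.Helper16.FieldCosetPSU Cfsg.Agent.Lib.Helper16.SplitCount
  Cfsg.Agent.Lib.Helper16.FieldCentPSU
  Cfsg.Agent.Lib.Helper16.GraphInvPSU
  Cfsg.Agent.Lib.Helper16.GraphInvC2
  Cfsg.Agent.Lib.Helper16.GraphEvenPSU
open Cfsg.Agent.Lib.Helper6.AutPSL (sG sG_val gl_mul_inv gl_inv_mul)
open Cfsg.Agent.Lib.Helper16.FieldCentPSL (mem_cent_comap gl_ne_zero)
open Cfsg.Agent.Lib.Helper16.GraphSplitPSL (det_of_sim_J Kc_J Kc_det exists_refl exists_sim)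
open Cfsg.Agent.Lib.Helper16.GraphInvPSL (glOfDet glOfDet_val)

section pure
variable {K : Type*} [Field K] {n m : ℕ}

/-- a similarity of a nondegenerate alternating form has determinant the `m`-th power of the
multiplier -/
theorem alt_sim_det (e : Fin n ≃ Fin m ⊕ Fin m) (S : Matrix (Fin n) (Fin n) K) (hdet : S.det ≠ 0)
    (halt : IsAlt S) (k₀ : Matrix (Fin n) (Fin n) K) (c₀ : K) (hc₀ : c₀ ≠ 0)
    (hk : k₀ᵀ * S * k₀ = c₀ • S) : k₀.det = c₀ ^ m := by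
  obtain ⟨k, hkdet, hS⟩ := alt_congr_J e S hdet halt
  have hkinv : k * k⁻¹ = 1 := Matrix.mul_nonsing_inv _ (isUnit_iff_ne_zero.mpr hkdet)
  have hkinv' : k⁻¹ * k = 1 := Matrix.nonsing_inv_mul _ (isUnit_iff_ne_zero.mpr hkdet)
  obtain ⟨J', hJ'⟩ : ∃ J' : Matrix (Fin n) (Fin n) K, J' = (Matrix.J (Fin m) K).submatrix e e :=
    ⟨_, rfl⟩
  rw [← hJ'] at hS
  obtain ⟨L, hL⟩ : ∃ L : Matrix (Fin n) (Fin n) K, L = k * k₀ * k⁻¹ := ⟨_, rfl⟩
  have hLJ : Lᵀ * J' * L = c₀ • J' := by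
    have e1 : Lᵀ * J' * L = (k⁻¹)ᵀ * (k₀ᵀ * (kᵀ * J' * k) * k₀) * k⁻¹ := by
      rw [hL]
      simp only [Matrix.transpose_mul, Matrix.mul_assoc]
    rw [e1, ← hS, hk, hS, Matrix.mul_smul, Matrix.smul_mul]
    congr 1
    calc (k⁻¹)ᵀ * (kᵀ * J' * k) * k⁻¹ = ((k⁻¹)ᵀ * kᵀ) * J' * (k * k⁻¹) := by
          simp only [Matrix.mul_assoc]
      _ = J' := by
          rw [← Matrix.transpose_mul, hkinv, Matrix.transpose_one, Matrix.one_mul, Matrix.mul_one]
  obtain ⟨M, hM⟩ : ∃ M : Matrix (Fin m ⊕ Fin m) (Fin m ⊕ Fin m) K,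
      M = Lᵀ.submatrix e.symm e.symm := ⟨_, rfl⟩
  have hMJ : M * Matrix.J (Fin m) K * Mᵀ = c₀ • Matrix.J (Fin m) K := by
    have e2 : Matrix.J (Fin m) K = J'.submatrix e.symm e.symm := by
      rw [hJ']
      ext s t
      simp
    have e3 : Mᵀ = L.submatrix e.symm e.symm := by
      rw [hM, Matrix.transpose_submatrix, Matrix.transpose_transpose]
    rw [e3, hM, e2, Matrix.submatrix_mul_equiv, Matrix.submatrix_mul_equiv, hLJ]
    rfl
  have hdetM := det_of_sim_J M c₀ hc₀ hMJ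
  rw [hM, Matrix.det_submatrix_equiv_self, Matrix.det_transpose, hL, Matrix.det_mul,
    Matrix.det_mul] at hdetM
  have h1 : k.det * k⁻¹.det = 1 := by rw [← Matrix.det_mul, hkinv, Matrix.det_one]
  rw [← hdetM]
  linear_combination (-k₀.det) * h1

/-- similarities of a nondegenerate alternating form with any multiplier -/
theorem alt_sim_exists (e : Fin n ≃ Fin m ⊕ Fin m) (S : Matrix (Fin n) (Fin n) K)
    (hdet : S.det ≠ 0) (halt : IsAlt S) (c₀ : K) :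
    ∃ k₀ : Matrix (Fin n) (Fin n) K, k₀.det = c₀ ^ m ∧ k₀ᵀ * S * k₀ = c₀ • S := by
  obtain ⟨k, hkdet, hS⟩ := alt_congr_J e S hdet halt
  have hkinv : k * k⁻¹ = 1 := Matrix.mul_nonsing_inv _ (isUnit_iff_ne_zero.mpr hkdet)
  have hkinv' : k⁻¹ * k = 1 := Matrix.nonsing_inv_mul _ (isUnit_iff_ne_zero.mpr hkdet)
  obtain ⟨J', hJ'⟩ : ∃ J' : Matrix (Fin n) (Fin n) K, J' = (Matrix.J (Fin m) K).submatrix e e :=
    ⟨_, rfl⟩
  rw [← hJ'] at hS
  obtain ⟨Kc, hKc⟩ : ∃ Kc : Matrix (Fin m ⊕ Fin m) (Fin m ⊕ Fin m) K,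
      Kc = Matrix.fromBlocks (c₀ • (1 : Matrix (Fin m) (Fin m) K)) 0 0 1 := ⟨_, rfl⟩
  have hKcJ : Kc * Matrix.J (Fin m) K * Kcᵀ = c₀ • Matrix.J (Fin m) K := by
    rw [hKc]; exact Kc_J c₀
  have hKcdet : Kc.det = c₀ ^ m := by rw [hKc]; exact Kc_det c₀
  obtain ⟨L, hL⟩ : ∃ L : Matrix (Fin n) (Fin n) K, L = Kcᵀ.submatrix e e := ⟨_, rfl⟩
  have hLJ : Lᵀ * J' * L = c₀ • J' := by
    have e3 : Lᵀ = Kc.submatrix e e := by
      rw [hL, Matrix.transpose_submatrix, Matrix.transpose_transpose]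
    rw [e3, hL, hJ', Matrix.submatrix_mul_equiv, Matrix.submatrix_mul_equiv, hKcJ]
    rfl
  have hLdet : L.det = c₀ ^ m := by
    rw [hL, Matrix.det_submatrix_equiv_self, Matrix.det_transpose, hKcdet]
  refine ⟨k⁻¹ * L * k, ?_, ?_⟩
  · rw [Matrix.det_mul, Matrix.det_mul, hLdet]
    have h1 : k.det * k⁻¹.det = 1 := by rw [← Matrix.det_mul, hkinv, Matrix.det_one]
    linear_combination (c₀ ^ m) * h1
  · rw [hS]
    calc (k⁻¹ * L * k)ᵀ * (kᵀ * J' * k) * (k⁻¹ * L * k)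
        = kᵀ * (Lᵀ * (((k⁻¹)ᵀ * kᵀ) * J' * (k * k⁻¹)) * L) * k := by
          simp only [Matrix.transpose_mul, Matrix.mul_assoc]
      _ = kᵀ * (Lᵀ * J' * L) * k := by
          rw [← Matrix.transpose_mul, hkinv, Matrix.transpose_one, Matrix.one_mul, Matrix.mul_one]
      _ = c₀ • (kᵀ * J' * k) := by
          rw [hLJ, Matrix.mul_smul, Matrix.smul_mul]

/-- the determinant of a similarity of a nondegenerate form in even dimension -/
theorem det_pm_of_sim (hnm : n = 2 * m) (S : Matrix (Fin n) (Fin n) K) (hdet : S.det ≠ 0)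
    (k₀ : Matrix (Fin n) (Fin n) K) (c₀ : K) (hk : k₀ᵀ * S * k₀ = c₀ • S) :
    k₀.det = 1 * c₀ ^ m ∨ k₀.det = (-1) * c₀ ^ m := by
  have h1 := congrArg Matrix.det hk
  rw [Matrix.det_mul, Matrix.det_mul, Matrix.det_transpose, Matrix.det_smul, Fintype.card_fin]
    at h1
  have hp' : c₀ ^ n = c₀ ^ m * c₀ ^ m := by rw [hnm, two_mul, pow_add]
  rw [hp'] at h1
  have h3 : ((k₀.det - c₀ ^ m) * (k₀.det + c₀ ^ m)) * S.det = 0 := by linear_combination h1
  rcases mul_eq_zero.mp h3 with h4 | h4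
  · rcases mul_eq_zero.mp h4 with h5 | h5
    · left; linear_combination h5
    · right; linear_combination h5
  · exact absurd h4 hdet

end pure

variable {F : Type*} [Field F] [Fintype F] {q n : ℕ}

section lift
variable (hF : Fintype.card F = q ^ 2)
  {F₀ : Type*} [Field F₀] [Fintype F₀] (j : F₀ →+* F)
  (hj : ∀ a : F, tauA hF a = a ↔ a ∈ Set.range j)

theorem det_lift (a : GL (Fin n) F) (k₀ : Matrix (Fin n) (Fin n) F₀) (c : F) :
    (c • (a.1 * k₀.map j * (a⁻¹).1)).det = c ^ n * j k₀.det := by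
  rw [Matrix.det_smul, Fintype.card_fin, Matrix.det_mul, Matrix.det_mul]
  have h1 : a.1.det * (a⁻¹).1.det = 1 := by rw [← Matrix.det_mul, gl_mul_inv, Matrix.det_one]
  have h2 : (k₀.map j).det = j k₀.det := (RingHom.map_det j k₀).symm
  rw [h2]
  linear_combination (c ^ n * j k₀.det) * h1

/-- the quotient `c / τ c` has norm one -/
theorem quot_norm (c : F) (hc : c ≠ 0) : (c / tauA hF c) * tauA hF (c / tauA hF c) = 1 := by
  have hτc : tauA hF c ≠ 0 := (map_ne_zero _).mpr hc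
  rw [map_div₀, tauA_tauA]
  field_simp

/-- Hilbert 90 for the norm one group -/
theorem exists_h90 (u : ↥(N1 F q)) : ∃ b : F, b ≠ 0 ∧ ((u : Fˣ) : F) = b / tauA hF b := by
  have hu := n1_norm hF u
  obtain ⟨b, hb0, hb⟩ := scalar_h90 (tauA hF) 2 (orderOf_tauA hF) (by norm_num) ((u : Fˣ) : F)
    (by
      rw [nrmF_succ, nrmF_succ, nrmF_zero, map_one, mul_one]
      exact hu)
  have hτb : tauA hF b ≠ 0 := (map_ne_zero _).mpr hb0
  refine ⟨b, hb0, ?_⟩
  rw [eq_div_iff hτb]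
  exact hb

include hj in
/-- the inverse norm descends to the fixed field -/
theorem exists_c0 (c : F) (hc : c ≠ 0) : ∃ c₀ : F₀, c₀ ≠ 0 ∧ j c₀ = (c * tauA hF c)⁻¹ := by
  have hτc : tauA hF c ≠ 0 := (map_ne_zero _).mpr hc
  have hcc : tauA hF (c * tauA hF c)⁻¹ = (c * tauA hF c)⁻¹ := by
    rw [map_inv₀, map_mul, tauA_tauA, mul_comm]
  obtain ⟨c₀, hc₀⟩ := (hj _).mp hcc
  refine ⟨c₀, ?_, hc₀⟩
  rintro rfl
  rw [map_zero] at hc₀
  exact inv_ne_zero (mul_ne_zero hc hτc) hc₀.symm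

/-- the determinant of a lifted similarity -/
theorem det_of_lift {m : ℕ} (hnm : n = 2 * m) (h : ↥(Cfsg.GU n F q)) (a : GL (Fin n) F)
    (k₀ : Matrix (Fin n) (Fin n) F₀) (c : F) (hc : c ≠ 0) (c₀ : F₀)
    (hh : h.1.1 = c • (a.1 * k₀.map j * (a⁻¹).1)) (hc₀ : j c₀ = (c * tauA hF c)⁻¹) (s : F₀)
    (hk : k₀.det = s * c₀ ^ m) : h.1.1.det = j s * (c / tauA hF c) ^ m := by
  have hτc : tauA hF c ≠ 0 := (map_ne_zero _).mpr hc
  rw [hh, det_lift, hk, map_mul, map_pow, hc₀, hnm, pow_mul, div_pow, inv_pow, mul_pow]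
  field_simp
  ring

end lift

section maps
variable (p : ℕ) [hp : Fact p.Prime] [CharP F p] (hF : Fintype.card F = q ^ 2) (hn : 3 ≤ n)
  {F₀ : Type*} [Field F₀] [Fintype F₀] (j : F₀ →+* F)
  (hj : ∀ a : F, tauA hF a = a ↔ a ∈ Set.range j)

include hp hn hj in
/-- the determinants of the centralizer of a symplectic type graph involution -/
theorem map_det_symp {m : ℕ} (hnm : n = 2 * m) (g : ↥(Cfsg.GU n F q)) (a : GL (Fin n) F) (μ : F)
    (hμ0 : μ ≠ 0) (ha : g.1.1 * a.1.map (tauA hF) = μ • a.1) (ω : F) (hω0 : ω ≠ 0)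
    (S : Matrix (Fin n) (Fin n) F₀) (hT : hs (tauA hF) a.1 * a.1 = ω • S.map j)
    (hSdet : S.det ≠ 0) (halt : IsAlt S) :
    (CtU hF g).map (guDet1 hF) = (powMonoidHom m : ↥(N1 F q) →* ↥(N1 F q)).range := by
  have hcard : Fintype.card (Fin m ⊕ Fin m) = n := by
    rw [Fintype.card_sum, Fintype.card_fin]; omega
  obtain ⟨e, -⟩ : ∃ e : Fin n ≃ Fin m ⊕ Fin m, e = e :=
    ⟨(Fintype.equivFinOfCardEq hcard).symm, rfl⟩
  apply le_antisymm
  · rintro u ⟨h, hh, rfl⟩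
    obtain ⟨l, hl⟩ := (mem_CtU p hF hn g h).mp hh
    obtain ⟨c, k₀, c₀, hc0, hk₀, hc₀0, hhc, hks, hjc⟩ :=
      descend_cent hF j hj (by omega) g a μ hμ0 ha ω hω0 S hT h l hl
    have hd := alt_sim_det e S hSdet halt k₀ c₀ hc₀0 hks
    have hdet := det_of_lift hF j hnm h a k₀ c hc0 c₀ hhc hjc 1 (by rw [one_mul, hd])
    rw [map_one, one_mul] at hdet
    refine ⟨n1Of hF (c / tauA hF c) (quot_norm hF c hc0), ?_⟩
    apply n1_ext
    rw [powMonoidHom_apply, n1_pow_val, n1Of_val, guDet1_val, hdet]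
  · rintro _ ⟨u, rfl⟩
    obtain ⟨b, hb0, hub⟩ := exists_h90 hF u
    obtain ⟨c₀, hc₀0, hc₀⟩ := exists_c0 hF j hj b hb0
    obtain ⟨k₀, hk₀det, hk₀⟩ := alt_sim_exists e S hSdet halt c₀
    obtain ⟨h, hh, hcomm⟩ := lift_sim hF j hj g a μ ha ω S hT k₀ c₀ hc₀0 hk₀ b
      (by rw [hc₀, inv_inv])
    refine ⟨h, (mem_CtU p hF hn g h).mpr ⟨_, hcomm⟩, ?_⟩
    have hdet := det_of_lift hF j hnm h a k₀ b hb0 c₀ hh hc₀ 1 (by rw [one_mul, hk₀det])
    rw [map_one, one_mul] at hdet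
    apply n1_ext
    rw [powMonoidHom_apply, n1_pow_val, guDet1_val, hdet, hub]

theorem neg_one_norm : (-1 : F) * tauA hF (-1) = 1 := by
  rw [map_neg, map_one]; ring

include hp hn hj in
/-- the determinants of the centralizer of an orthogonal type graph involution -/
theorem map_det_orth (h2 : (2 : F₀) ≠ 0) {m : ℕ} (hnm : n = 2 * m) (g : ↥(Cfsg.GU n F q))
    (a : GL (Fin n) F) (μ : F)
    (hμ0 : μ ≠ 0) (ha : g.1.1 * a.1.map (tauA hF) = μ • a.1) (ω : F) (hω0 : ω ≠ 0)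
    (S : Matrix (Fin n) (Fin n) F₀) (hT : hs (tauA hF) a.1 * a.1 = ω • S.map j)
    (hSdet : S.det ≠ 0) (hSt : Sᵀ = S) :
    (CtU hF g).map (guDet1 hF) ⊔ (powMonoidHom n : ↥(N1 F q) →* ↥(N1 F q)).range =
      Subgroup.zpowers (n1Of hF (-1) (neg_one_norm hF)) ⊔
        (powMonoidHom m : ↥(N1 F q) →* ↥(N1 F q)).range := by
  have hn2 : 2 ≤ n := by omega
  have hnegsq : n1Of hF (-1) (neg_one_norm hF) * n1Of hF (-1) (neg_one_norm hF) = 1 := by
    apply n1_ext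
    rw [n1_mul_val, n1Of_val]
    simp
  -- the reflection
  have hneg : n1Of hF (-1) (neg_one_norm hF) ∈ (CtU hF g).map (guDet1 hF) := by
    obtain ⟨r, hr, hrdet⟩ := exists_refl h2 hn2 (glOfDet S hSdet) hSt
    rw [glOfDet_val] at hr
    obtain ⟨h, hh, hcomm⟩ := lift_sim hF j hj g a μ ha ω S hT (r.1)ᵀ 1 one_ne_zero
      (by rw [Matrix.transpose_transpose, hr, one_smul]) 1 (by rw [map_one, map_one, mul_one, inv_one])
    refine ⟨h, (mem_CtU p hF hn g h).mpr ⟨_, hcomm⟩, ?_⟩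
    apply n1_ext
    rw [guDet1_val, n1Of_val, hh, det_lift, Matrix.det_transpose, hrdet, one_pow, one_mul, map_neg,
      map_one]
  apply le_antisymm
  · apply sup_le
    · rintro u ⟨h, hh, rfl⟩
      obtain ⟨l, hl⟩ := (mem_CtU p hF hn g h).mp hh
      obtain ⟨c, k₀, c₀, hc0, hk₀, hc₀0, hhc, hks, hjc⟩ :=
        descend_cent hF j hj (by omega) g a μ hμ0 ha ω hω0 S hT h l hl
      rcases det_pm_of_sim hnm S hSdet k₀ c₀ hks with hd | hd
      · have hdet := det_of_lift hF j hnm h a k₀ c hc0 c₀ hhc hjc 1 hd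
        rw [map_one, one_mul] at hdet
        apply le_sup_right (a := Subgroup.zpowers (n1Of hF (-1) (neg_one_norm hF)))
        refine ⟨n1Of hF (c / tauA hF c) (quot_norm hF c hc0), ?_⟩
        apply n1_ext
        rw [powMonoidHom_apply, n1_pow_val, n1Of_val, guDet1_val, hdet]
      · have hdet := det_of_lift hF j hnm h a k₀ c hc0 c₀ hhc hjc (-1) hd
        rw [map_neg, map_one] at hdet
        have e : guDet1 hF h = n1Of hF (-1) (neg_one_norm hF) *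
            (n1Of hF (c / tauA hF c) (quot_norm hF c hc0)) ^ m := by
          apply n1_ext
          rw [n1_mul_val, n1_pow_val, n1Of_val, n1Of_val, guDet1_val, hdet]
        rw [e]
        exact Subgroup.mul_mem_sup (Subgroup.mem_zpowers _) ⟨_, rfl⟩
    · rintro _ ⟨v, rfl⟩
      apply le_sup_right (a := Subgroup.zpowers (n1Of hF (-1) (neg_one_norm hF)))
      refine ⟨v ^ 2, ?_⟩
      rw [powMonoidHom_apply, powMonoidHom_apply, hnm, pow_mul]
  · apply sup_le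
    · rw [Subgroup.zpowers_le]
      exact le_sup_left (b := (powMonoidHom n : ↥(N1 F q) →* ↥(N1 F q)).range) hneg
    · rintro _ ⟨u, rfl⟩
      apply le_sup_left (b := (powMonoidHom n : ↥(N1 F q) →* ↥(N1 F q)).range)
      obtain ⟨b, hb0, hub⟩ := exists_h90 hF u
      obtain ⟨c₀, hc₀0, hc₀⟩ := exists_c0 hF j hj b hb0
      obtain ⟨h', hh'⟩ := exists_sim h2 hn2 hnm (glOfDet S hSdet) hSt c₀ hc₀0
      rw [glOfDet_val] at hh'
      have hks : ((h'.1)ᵀ)ᵀ * S * (h'.1)ᵀ = c₀ • S := by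
        rw [Matrix.transpose_transpose, hh']
      obtain ⟨h, hh, hcomm⟩ := lift_sim hF j hj g a μ ha ω S hT (h'.1)ᵀ c₀ hc₀0 hks b
        (by rw [hc₀, inv_inv])
      have hhC : h ∈ CtU hF g := (mem_CtU p hF hn g h).mpr ⟨_, hcomm⟩
      rcases det_pm_of_sim hnm S hSdet _ c₀ hks with hd | hd
      · have hdet := det_of_lift hF j hnm h a _ b hb0 c₀ hh hc₀ 1 hd
        rw [map_one, one_mul] at hdet
        refine ⟨h, hhC, ?_⟩
        apply n1_ext
        rw [powMonoidHom_apply, n1_pow_val, guDet1_val, hdet, hub]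
      · have hdet := det_of_lift hF j hnm h a _ b hb0 c₀ hh hc₀ (-1) hd
        rw [map_neg, map_one] at hdet
        have e : (powMonoidHom m : ↥(N1 F q) →* ↥(N1 F q)) u =
            n1Of hF (-1) (neg_one_norm hF) * guDet1 hF h := by
          apply n1_ext
          rw [powMonoidHom_apply, n1_mul_val, n1_pow_val, n1Of_val, guDet1_val, hdet, hub]
          ring
        rw [e]
        exact Subgroup.mul_mem _ hneg ⟨h, hhC, rfl⟩

include hp hn hj in
/-- the number of classes, symplectic type -/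
theorem count_symp_U {m : ℕ} (hnm : n = 2 * m) (g : ↥(Cfsg.GU n F q)) (a : GL (Fin n) F) (μ : F)
    (hμ0 : μ ≠ 0) (ha : g.1.1 * a.1.map (tauA hF) = μ • a.1) (ω : F) (hω0 : ω ≠ 0)
    (S : Matrix (Fin n) (Fin n) F₀) (hT : hs (tauA hF) a.1 * a.1 = ω • S.map j)
    (hSdet : S.det ≠ 0) (halt : IsAlt S) :
    Cfsg.splitClassCount (Cfsg.inndiagPSU n F q) (Cfsg.Inn (Cfsg.PSU n F q))
      (cU g * fU (tauA hF)) = Nat.gcd m (q + 1) := by
  have hle : (powMonoidHom n : ↥(N1 F q) →* ↥(N1 F q)).range ≤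
      (powMonoidHom m : ↥(N1 F q) →* ↥(N1 F q)).range := by
    rintro _ ⟨v, rfl⟩
    refine ⟨v ^ 2, ?_⟩
    rw [powMonoidHom_apply, powMonoidHom_apply, hnm, pow_mul]
  rw [count_gU p hF hn, map_det_symp p hF hn j hj hnm g a μ hμ0 ha ω hω0 S hT hSdet halt,
    sup_eq_left.mpr hle]
  have := index_sup_pow (⊥ : Subgroup ↥(N1 F q)) m
  rw [bot_sup_eq] at this
  rw [this, Subgroup.card_bot, Nat.div_one, card_N1 hF]

include hp hn hj in
/-- the number of classes, orthogonal type -/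
theorem count_orth_U (hodd : Odd q) (h2 : (2 : F₀) ≠ 0) {m : ℕ} (hnm : n = 2 * m)
    (g : ↥(Cfsg.GU n F q)) (a : GL (Fin n) F) (μ : F)
    (hμ0 : μ ≠ 0) (ha : g.1.1 * a.1.map (tauA hF) = μ • a.1) (ω : F) (hω0 : ω ≠ 0)
    (S : Matrix (Fin n) (Fin n) F₀) (hT : hs (tauA hF) a.1 * a.1 = ω • S.map j)
    (hSdet : S.det ≠ 0) (hSt : Sᵀ = S) :
    Cfsg.splitClassCount (Cfsg.inndiagPSU n F q) (Cfsg.Inn (Cfsg.PSU n F q))
      (cU g * fU (tauA hF)) = Nat.gcd n (q + 1) / 2 := by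
  have h2F : (2 : F) ≠ 0 := by
    have : (2 : F) = j 2 := by rw [map_ofNat]
    rw [this]
    exact (map_ne_zero j).mpr h2
  have ho : orderOf (n1Of hF (-1) (neg_one_norm hF)) = 2 := by
    apply orderOf_eq_prime
    · apply n1_ext
      rw [n1_pow_val, n1Of_val]
      simp
    · intro h
      have := congrArg (fun u : ↥(N1 F q) => ((u : Fˣ) : F)) h
      simp only [n1Of_val] at this
      apply h2F
      have h1 : (((1 : ↥(N1 F q)) : Fˣ) : F) = 1 := rfl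
      rw [h1] at this
      linear_combination -this
  rw [count_gU p hF hn, map_det_orth p hF hn j hj h2 hnm g a μ hμ0 ha ω hω0 S hT hSdet hSt,
    index_sup_pow, Nat.card_zpowers, card_N1 hF, ho]
  obtain ⟨t, ht⟩ := hodd
  have e1 : q + 1 = 2 * (t + 1) := by omega
  rw [e1, Nat.mul_div_cancel_left _ (by norm_num : 0 < 2), hnm,
    Nat.gcd_mul_left, Nat.mul_div_cancel_left _ (by norm_num : 0 < 2)]

end maps

end Cfsg.Agent.Lib.Helper16.GraphSplitPSU
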