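import Mathlib
import Cfsg.Agent.Lib.Helper16.GraphSplitPSU2

/-!
# The number of `PSU`-classes in the `PGU`-class of an involutory graph automorphism (III)
-/

set_option autoImplicit false
set_option linter.unusedSectionVars false
set_option linter.unusedVariables false
set_option linter.style.haveILetI false

namespace Cfsg.Agent.Lib.Helper16.GraphSplitPSU

open Matrix Cfsg Cfsg.Agent.Lib.Helper6 Cfsg.Agent.Lib.Helper6.AutPSU
  Cfsg.Agent.Lib.Helper16.H90GL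
  Cfsg.Agent.Lib.Helper16.GraphFieldCoset
  Cfsg.Agent.Lib.Helper16.FieldCosetPSU Cfsg.Agent.Lib.Helper16.SplitCount
  Cfsg.Agent.Lib.Helper16.FieldCentPSU
  Cfsg.Agent.Lib.Helper16.GraphInvPSU
  Cfsg.Agent.Lib.Helper16.GraphInvC2
  Cfsg.Agent.Lib.Helper16.GraphEvenPSU
  Cfsg.Agent.Lib.Helper16.TwoIdx Cfsg.Agent.Lib.Helper16.PGSpIdx
open Cfsg.Agent.Lib.Helper6.AutPSL (sG sG_val gl_mul_inv gl_inv_mul)
open Cfsg.Agent.Lib.Helper16.FieldCentPSL (mem_cent_comap gl_ne_zero)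
open Cfsg.Agent.Lib.Helper16.GraphSplitPSL (twoIdx_orth)
open Cfsg.Agent.Lib.Helper16.GraphInvPSL (glOfDet glOfDet_val exists_frame cent_iso_gram)

variable {F : Type*} [Field F] [Fintype F] {q n : ℕ}

section types
variable (p : ℕ) [hp : Fact p.Prime] [CharP F p] (hF : Fintype.card F = q ^ 2) (hn : 3 ≤ n)
  {F₀ : Type*} [Field F₀] [Fintype F₀] (j : F₀ →+* F)
  (hj : ∀ a : F, tauA hF a = a ↔ a ∈ Set.range j)

include hp hn hj in
/-- the centralizer of a symplectic type graph involution -/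
theorem cent_symp_U {m : ℕ} (hnm : n = 2 * m) (g : ↥(Cfsg.GU n F q)) (a : GL (Fin n) F) (μ : F)
    (hμ0 : μ ≠ 0) (ha : g.1.1 * a.1.map (tauA hF) = μ • a.1) (ω : F) (hω0 : ω ≠ 0)
    (S : Matrix (Fin n) (Fin n) F₀) (hT : hs (tauA hF) a.1 * a.1 = ω • S.map j)
    (hSdet : S.det ≠ 0) (halt : IsAlt S) :
    Nonempty (↥(Cfsg.inndiagPSU n F q ⊓
      Subgroup.centralizer {(cU g * fU (tauA hF) : MulAut (Cfsg.PSU n F q))}) ≃*
      Cfsg.PGSp m F₀) := by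
  have hcard : Fintype.card (Fin m ⊕ Fin m) = n := by
    rw [Fintype.card_sum, Fintype.card_fin]; omega
  obtain ⟨e, -⟩ : ∃ e : Fin n ≃ Fin m ⊕ Fin m, e = e :=
    ⟨(Fintype.equivFinOfCardEq hcard).symm, rfl⟩
  obtain ⟨k, hkdet, hS⟩ := alt_congr_J e S hSdet halt
  have hkinv : k * k⁻¹ = 1 := Matrix.mul_nonsing_inv _ (isUnit_iff_ne_zero.mpr hkdet)
  have hkinv' : k⁻¹ * k = 1 := Matrix.nonsing_inv_mul _ (isUnit_iff_ne_zero.mpr hkdet)
  obtain ⟨P₀, P₀', hPP', hP'P, hP⟩ := exists_frame (F := F₀) e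
  have h1 : (P₀ * k) * (k⁻¹ * P₀') = 1 := by
    calc (P₀ * k) * (k⁻¹ * P₀') = P₀ * ((k * k⁻¹) * P₀') := by simp only [Matrix.mul_assoc]
      _ = 1 := by rw [hkinv, Matrix.one_mul, hPP']
  have h2 : (k⁻¹ * P₀') * (P₀ * k) = 1 := by
    calc (k⁻¹ * P₀') * (P₀ * k) = k⁻¹ * ((P₀' * P₀) * k) := by simp only [Matrix.mul_assoc]
      _ = 1 := by rw [hP'P, Matrix.one_mul, hkinv']
  have hT' : hs (tauA hF) a.1 * a.1 =
      ω • ((P₀ * k)ᵀ * Matrix.J (Fin m) F₀ * (P₀ * k)).map j := by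
    rw [hT, hS, ← hP, Matrix.transpose_mul]
    simp only [Matrix.mul_assoc]
  exact cent_gU_iso p hF hn j hj g a μ hμ0 ha ω hω0 (Matrix.J (Fin m) F₀) (P₀ * k) (k⁻¹ * P₀')
    h1 h2 hT' (Cfsg.GSp m F₀) mem_gsp_iff'

include hp hn hj in
/-- the centralizer of an orthogonal type graph involution has two subgroups of index two -/
theorem twoIdx_orth_U (h2 : (2 : F₀) ≠ 0) {m : ℕ} (hnm : n = 2 * m) (g : ↥(Cfsg.GU n F q))
    (a : GL (Fin n) F) (μ : F)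
    (hμ0 : μ ≠ 0) (ha : g.1.1 * a.1.map (tauA hF) = μ • a.1) (ω : F) (hω0 : ω ≠ 0)
    (S : Matrix (Fin n) (Fin n) F₀) (hT : hs (tauA hF) a.1 * a.1 = ω • S.map j)
    (hSdet : S.det ≠ 0) (hSt : Sᵀ = S) :
    TwoIdx ↥(Cfsg.inndiagPSU n F q ⊓
      Subgroup.centralizer {(cU g * fU (tauA hF) : MulAut (Cfsg.PSU n F q))}) := by
  have hn2 : 2 ≤ n := by omega
  have e1 : (1 : Matrix (Fin n) (Fin n) F₀)ᵀ * S * 1 = S := by
    rw [Matrix.transpose_one, Matrix.one_mul, Matrix.mul_one]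
  obtain ⟨ψ₁⟩ := cent_gU_iso p hF hn j hj g a μ hμ0 ha ω hω0 S 1 1 (Matrix.one_mul 1)
    (Matrix.one_mul 1) (by rw [e1]; exact hT) (simGram S) (mem_simGram S)
  obtain ⟨g', hg'⟩ : ∃ g' : GL (Fin n) F₀, g' = (glOfDet S hSdet)⁻¹ := ⟨_, rfl⟩
  have hg'S : g'.1 * S = 1 := by
    have := gl_inv_mul (glOfDet S hSdet)
    rw [glOfDet_val] at this
    rw [hg']
    exact this
  have hSg' : S * g'.1 = 1 := by
    have := gl_mul_inv (glOfDet S hSdet)
    rw [glOfDet_val] at this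
    rw [hg']
    exact this
  have hg't : (g'.1)ᵀ = g'.1 := by
    have h3 : (g'.1)ᵀ * S = 1 := by
      have := congrArg Matrix.transpose hSg'
      rw [Matrix.transpose_mul, hSt, Matrix.transpose_one] at this
      exact this
    calc (g'.1)ᵀ = (g'.1)ᵀ * (S * g'.1) := by rw [hSg', Matrix.mul_one]
      _ = ((g'.1)ᵀ * S) * g'.1 := by rw [Matrix.mul_assoc]
      _ = g'.1 := by rw [h3, Matrix.one_mul]
  obtain ⟨ψ₂⟩ := cent_iso_gram hn2 g' S 1 1 (Matrix.one_mul 1) (Matrix.one_mul 1)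
    (by rw [e1]; exact hg'S) (simGram S) (mem_simGram S)
  exact (twoIdx_orth h2 hn2 hnm g' hg't).of_equiv (ψ₂.trans ψ₁.symm)

end types

section main

/-- the number of `PSU`-classes in the `PGU`-class of an involutory graph automorphism -/
theorem main (hF : Fintype.card F = q ^ 2) (hn : 3 ≤ n) (F₀ : Type*) [Field F₀] [Fintype F₀]
    (hF₀ : Fintype.card F₀ = q) (γ : MulAut (Cfsg.PSU n F q))
    (hγ : Cfsg.IsGraphAutClassPSU γ) (hγ2 : orderOf γ = 2) :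
    ((Even n ∧ Odd q ∧ Nonempty (↥(Cfsg.inndiagPSU n F q ⊓ Subgroup.centralizer {γ}) ≃*
        Cfsg.PGSp (n / 2) F₀)) →
      Cfsg.splitClassCount (Cfsg.inndiagPSU n F q) (Cfsg.Inn (Cfsg.PSU n F q)) γ =
        Nat.gcd (n / 2) (q + 1)) ∧
    ((Even n ∧ Odd q ∧ ¬ Nonempty (↥(Cfsg.inndiagPSU n F q ⊓ Subgroup.centralizer {γ}) ≃*
        Cfsg.PGSp (n / 2) F₀)) →
      Cfsg.splitClassCount (Cfsg.inndiagPSU n F q) (Cfsg.Inn (Cfsg.PSU n F q)) γ =
        Nat.gcd n (q + 1) / 2) ∧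
    (¬ (Even n ∧ Odd q) →
      Cfsg.splitClassCount (Cfsg.inndiagPSU n F q) (Cfsg.Inn (Cfsg.PSU n F q)) γ =
        Nat.gcd n (q + 1)) := by
  classical
  obtain ⟨p, hp, hcp, j, hj⟩ := exists_setup hF F₀ hF₀
  haveI := hp
  haveI := hcp
  obtain ⟨g, rfl⟩ := graphAut_U p hF hn γ hγ hγ2
  obtain ⟨ε, hε, hgg⟩ := (orderOf_gU p hF hn g).mp hγ2
  have h2_of : Odd q → (2 : F₀) ≠ 0 := by
    intro hodd
    have hch : ringChar F₀ ≠ 2 := by
      intro h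
      have := FiniteField.even_card_of_char_two h
      rw [← Nat.even_iff, hF₀] at this
      exact (Nat.not_even_iff_odd.mpr hodd) this
    exact Ring.two_ne_zero hch
  have hone : tauA hF (1 : F) = j 1 * 1 := by rw [map_one, map_one, mul_one]
  obtain ⟨ω, hω0, hω⟩ := exists_omega hF (-1 : F) (Or.inr rfl)
  have hω' : tauA hF ω = j (-1) * ω := by rw [map_neg, map_one]; exact hω
  -- the two types
  have hplus : ε = 1 → ∃ (a : GL (Fin n) F) (μ : F) (S : Matrix (Fin n) (Fin n) F₀), μ ≠ 0 ∧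
      g.1.1 * a.1.map (tauA hF) = μ • a.1 ∧ hs (tauA hF) a.1 * a.1 = (1 : F) • S.map j ∧
      Sᵀ = S ∧ S.det ≠ 0 := by
    rintro rfl
    have hgg' : g.1.1 * g.1.1.map (tauA hF) = j 1 • (1 : Matrix (Fin n) (Fin n) F) := by
      rw [map_one]; exact hgg
    obtain ⟨a, μ, S, hμ0, ha, hT, hSt, hSdet⟩ := exists_form hF j hj g 1 (Or.inl rfl) hgg' 1
      one_ne_zero hone
    rw [one_smul] at hSt
    exact ⟨a, μ, S, hμ0, ha, hT, hSt, hSdet⟩
  have hminus : ε = -1 → ∃ (a : GL (Fin n) F) (μ : F) (S : Matrix (Fin n) (Fin n) F₀), μ ≠ 0 ∧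
      g.1.1 * a.1.map (tauA hF) = μ • a.1 ∧ hs (tauA hF) a.1 * a.1 = ω • S.map j ∧
      Sᵀ = -S ∧ S.det ≠ 0 := by
    rintro rfl
    have hgg' : g.1.1 * g.1.1.map (tauA hF) = j (-1) • (1 : Matrix (Fin n) (Fin n) F) := by
      rw [map_neg, map_one]; exact hgg
    obtain ⟨a, μ, S, hμ0, ha, hT, hSt, hSdet⟩ := exists_form hF j hj g (-1) (Or.inr rfl) hgg' ω
      hω0 hω'
    rw [neg_smul, one_smul] at hSt
    exact ⟨a, μ, S, hμ0, ha, hT, hSt, hSdet⟩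
  refine ⟨?_, ?_, ?_⟩
  · rintro ⟨⟨m, hm⟩, hq, ⟨ψ⟩⟩
    have hnm : n = 2 * m := by omega
    have hdiv : n / 2 = m := by omega
    rw [hdiv] at ψ ⊢
    have h2 := h2_of hq
    rcases hε with h | h
    · exfalso
      obtain ⟨a, μ, S, hμ0, ha, hT, hSt, hSdet⟩ := hplus h
      exact not_twoIdx_pgsp (by omega) h2
        ((twoIdx_orth_U p hF hn j hj h2 hnm g a μ hμ0 ha 1 one_ne_zero S hT hSdet hSt).of_equiv ψ)
    · obtain ⟨a, μ, S, hμ0, ha, hT, hSt, hSdet⟩ := hminus h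
      exact count_symp_U p hF hn j hj hnm g a μ hμ0 ha ω hω0 S hT hSdet (isAlt_of_skew h2 S hSt)
  · rintro ⟨⟨m, hm⟩, hq, hne⟩
    have hnm : n = 2 * m := by omega
    have hdiv : n / 2 = m := by omega
    rw [hdiv] at hne
    have h2 := h2_of hq
    rcases hε with h | h
    · obtain ⟨a, μ, S, hμ0, ha, hT, hSt, hSdet⟩ := hplus h
      exact count_orth_U p hF hn j hj hq h2 hnm g a μ hμ0 ha 1 one_ne_zero S hT hSdet hSt
    · obtain ⟨a, μ, S, hμ0, ha, hT, hSt, hSdet⟩ := hminus h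
      exact absurd (cent_symp_U p hF hn j hj hnm g a μ hμ0 ha ω hω0 S hT hSdet
        (isAlt_of_skew h2 S hSt)) hne
  · intro hne
    apply count_of_le_U p hF hn
    by_cases hodd : Odd n
    · exact det_le_pow_of_odd_U p hF hn hodd g
    · rw [Nat.not_odd_iff_even] at hodd
      have hq2 : ¬ Odd q := fun h => hne ⟨hodd, h⟩
      rw [Nat.not_odd_iff_even] at hq2
      exact det_le_pow_of_even_q_U p hF hn hq2 g

end main

end Cfsg.Agent.Lib.Helper16.GraphSplitPSU
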