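import Mathlib
import Cfsg.Agent.Lib.Helper16.Qd2

set_option autoImplicit false
set_option linter.style.haveILetI false
set_option linter.unusedSimpArgs false
set_option linter.unusedSectionVars false
set_option linter.unnecessarySeqFocus false

namespace Cfsg.Agent.Lib.Helper16

open Matrix

section
variable {F : Type*} [Field F]

/-- the element `[[1, a, x], [0, 1, y], [0, 0, 1]]` -/
def heis (a x y : F) : affSL3 F := affMk (upperSL2 a) ![x, y]

theorem heis_mul (a x y a' x' y' : F) :
    heis a x y * heis a' x' y' = heis (a + a') (x + x' + a * y') (y + y') := by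
  have hv : (!![1, a; 0, 1] : Matrix (Fin 2) (Fin 2) F) *ᵥ ![x', y'] + ![x, y] =
      ![x + x' + a * y', y + y'] := by
    funext i
    fin_cases i
    · simp [Matrix.mulVec, dotProduct, Fin.sum_univ_two] <;> ring
    · simp [Matrix.mulVec, dotProduct, Fin.sum_univ_two] <;> ring
  unfold heis
  rw [affMk_mul, ← upperSL2_add, upperSL2_apply, hv]

theorem heis_mem (a x y : F) : heis a x y ∈ affS F := by
  rw [mem_affS, heis, affLin_affMk]
  exact upperSL2_mem a

theorem affLin_heis (a x y : F) : affLin (heis a x y) = upperSL2 a := affLin_affMk _ _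

theorem heis_a (a x y : F) : affE (heis a x y) 0 1 = a := by
  rw [heis, affE_affMk, affMkMat, upperSL2_apply]
  simp

theorem heis_x (a x y : F) : affE (heis a x y) 0 2 = x := by
  rw [heis, affE_affMk, affMkMat, upperSL2_apply]
  simp

theorem heis_y (a x y : F) : affE (heis a x y) 1 2 = y := by
  rw [heis, affE_affMk, affMkMat, upperSL2_apply]
  simp

theorem heis_eta {M : affSL3 F} (hM : M ∈ affS F) :
    heis (affE M 0 1) (affE M 0 2) (affE M 1 2) = M := by
  apply aff_ext
  · rw [affLin_heis]
    exact (eq_upperSL2_of_mem hM).symm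
  · rw [heis, affTr_affMk]
    rfl

theorem exists_heis {M : affSL3 F} (hM : M ∈ affS F) : ∃ a x y, M = heis a x y :=
  ⟨_, _, _, (heis_eta hM).symm⟩

/-- the swap on coordinates -/
def heisSwapFun (M : affSL3 F) : affSL3 F :=
  heis (affE M 1 2) (affE M 0 1 * affE M 1 2 - affE M 0 2) (affE M 0 1)

theorem heisSwapFun_heis (a x y : F) : heisSwapFun (heis a x y) = heis y (a * y - x) a := by
  rw [heisSwapFun, heis_a, heis_x, heis_y]

theorem heisSwapFun_mem (M : affSL3 F) : heisSwapFun M ∈ affS F := heis_mem _ _ _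

theorem heisSwapFun_invol {M : affSL3 F} (hM : M ∈ affS F) : heisSwapFun (heisSwapFun M) = M := by
  obtain ⟨a, x, y, rfl⟩ := exists_heis hM
  rw [heisSwapFun_heis, heisSwapFun_heis]
  congr 1
  ring

theorem heisSwapFun_mul {M N : affSL3 F} (hM : M ∈ affS F) (hN : N ∈ affS F) :
    heisSwapFun (M * N) = heisSwapFun M * heisSwapFun N := by
  obtain ⟨a, x, y, rfl⟩ := exists_heis hM
  obtain ⟨a', x', y', rfl⟩ := exists_heis hN
  rw [heis_mul, heisSwapFun_heis, heisSwapFun_heis, heisSwapFun_heis, heis_mul]
  congr 1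
  ring

/-- the swapping automorphism of the standard Sylow subgroup -/
def heisSwap : affS F ≃* affS F where
  toFun M := ⟨heisSwapFun M.1, heisSwapFun_mem M.1⟩
  invFun M := ⟨heisSwapFun M.1, heisSwapFun_mem M.1⟩
  left_inv M := Subtype.ext (heisSwapFun_invol M.2)
  right_inv M := Subtype.ext (heisSwapFun_invol M.2)
  map_mul' M N := Subtype.ext (heisSwapFun_mul M.2 N.2)

theorem affS_char_normalizer [Fintype F] (p : ℕ) [Fact p.Prime] [CharP F p]
    (T : Subgroup (affS F)) (hT : T ≠ ⊥) (hTc : T.Characteristic) :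
    Subgroup.normalizer ((T.map (affS F).subtype : Subgroup (affSL3 F)) : Set (affSL3 F)) =
      Subgroup.normalizer ((affS F : Subgroup (affSL3 F)) : Set (affSL3 F)) := by
  apply le_antisymm _ (normalizer_le_normalizer_char _ T)
  by_contra hnot
  obtain ⟨n, hnT, hnS⟩ := SetLike.not_le_iff_exists.1 hnot
  have hle : (borelSL2 F).comap affLin ≤
      Subgroup.normalizer ((T.map (affS F).subtype : Subgroup (affSL3 F)) : Set (affSL3 F)) := by
    rw [← normalizer_affS]
    exact normalizer_le_normalizer_char _ T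
  rw [normalizer_affS] at hnS
  have htop := comap_borel_maximal _ hle n hnT hnS
  have hnorm : (T.map (affS F).subtype).Normal := Subgroup.normalizer_eq_top_iff.1 htop
  have hp : IsPGroup p (T.map (affS F).subtype) :=
    (affS_isPGroup p).to_le (Subgroup.map_subtype_le T)
  have hV : T.map (affS F).subtype ≤ affV F := by
    haveI h1 : ((T.map (affS F).subtype).map affLin).Normal :=
      hnorm.map affLin affLin_surjective
    have h2 := normal_pgroup_SL2_eq_bot _ (hp.map affLin)
    exact (Subgroup.map_eq_bot_iff _).1 h2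
  -- the swap forces the second coordinate of the translations in `T` to vanish
  have hy : ∀ x : affS F, x ∈ T → affE x.1 1 2 = 0 := by
    intro x hx
    have h1 : heisSwap x ∈ T := Subgroup.characteristic_iff_le_comap.1 hTc heisSwap hx
    have h2 : (heisSwap x).1 ∈ affV F := hV (Subgroup.mem_map_of_mem _ h1)
    rw [mem_affV] at h2
    change affLin (heisSwapFun x.1) = 1 at h2
    rw [heisSwapFun, affLin_heis, ← upperSL2_zero] at h2
    exact upperSL2_injective h2
  obtain ⟨⟨x, hxT⟩, hx1⟩ := (Subgroup.ne_bot_iff_exists_ne_one).1 hT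
  have hxV : x.1 ∈ affV F := hV (Subgroup.mem_map_of_mem _ hxT)
  have h1 : affE x.1 1 2 = 0 := hy x hxT
  -- conjugate by the Weyl element
  have hconj : affMk (weylSL2 F) 0 * x.1 * (affMk (weylSL2 F) 0)⁻¹ ∈ T.map (affS F).subtype :=
    hnorm.conj_mem _ (Subgroup.mem_map_of_mem _ hxT) _
  obtain ⟨x', hx'T, hx'⟩ := hconj
  have h2 : affE x'.1 1 2 = 0 := hy x' hx'T
  have h3 : affTr x'.1 = (weylSL2 F : Matrix (Fin 2) (Fin 2) F) *ᵥ affTr x.1 := by
    change affTr ((affS F).subtype x') = _
    rw [hx', affTr_conj _ _ ((mem_affV _).1 hxV), affLin_affMk]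
  have h4 : affE x.1 0 2 = 0 := by
    have := congrFun h3 1
    rw [weylSL2_apply] at this
    simp [affTr, Matrix.mulVec, dotProduct, Fin.sum_univ_two] at this
    rw [← this]
    exact h2
  apply hx1
  apply Subtype.ext
  apply Subtype.ext
  change x.1 = 1
  apply aff_ext
  · rw [(mem_affV _).1 hxV, map_one]
  · rw [affTr_one, affTr, h4, h1]
    funext i
    fin_cases i <;> rfl

/-- the statement on characteristic subgroups of Sylow subgroups of the affine group -/
theorem qd_char_aux [Fintype F] (p : ℕ) [Fact p.Prime] [CharP F p]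
    (H : Subgroup (Matrix.SpecialLinearGroup (Fin 3) F)) (hH : H = affSL3 F)
    (S : Sylow p ↥H) (T : Subgroup ↥(S : Subgroup ↥H)) (hT : T ≠ ⊥) (hTc : T.Characteristic) :
    Subgroup.normalizer ((T.map (S : Subgroup ↥H).subtype : Subgroup ↥H) : Set ↥H) =
      Subgroup.normalizer ((S : Subgroup ↥H) : Set ↥H) ∧
    Subgroup.normalizer ((S : Subgroup ↥H) : Set ↥H) ≠ ⊤ := by
  subst hH
  let S₀ : Sylow p (affSL3 F) := (affS_isPGroup p).toSylow (by
    rw [affS_index]
    exact not_dvd_index_unipSL2 p)
  obtain ⟨g, hg⟩ := MulAction.exists_smul_eq (affSL3 F) S₀ S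
  have hS : (S : Subgroup (affSL3 F)) = (affS F).map (MulAut.conj g).toMonoidHom := by
    rw [← hg, Sylow.coe_subgroup_smul]
    rfl
  constructor
  · exact char_normalizer_transport (affS F) (fun T hT hTc => affS_char_normalizer p T hT hTc)
      (MulAut.conj g) _ hS T hT hTc
  · rw [hS, ← Subgroup.map_equiv_normalizer_eq]
    intro h
    apply normalizer_affS_ne_top (F := F)
    have h2 := congrArg (Subgroup.comap (MulAut.conj g).toMonoidHom) h
    rwa [Subgroup.comap_map_eq_self_of_injective (MulAut.conj g).injective,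
      Subgroup.comap_top] at h2

end

end Cfsg.Agent.Lib.Helper16
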