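import Mathlib
import Cfsg.Agent.Lib.Helper16.Qd3
import Cfsg.Agent.Lib.Helper1.Frattini
import Cfsg.Prelude.Def_Transfer

set_option autoImplicit false
set_option linter.style.haveILetI false
set_option linter.unusedSimpArgs false
set_option linter.unusedSectionVars false
set_option linter.unnecessarySeqFocus false

namespace Cfsg.Agent.Lib.Helper16

open Matrix
open scoped commutatorElement

/-- Heisenberg coordinates on a group `P` over a field `F`. -/
structure HeisCoord (F : Type*) [Field F] (P : Type*) [Group P] where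
  /-- the coordinate map -/
  h : F → F → F → P
  h_mul : ∀ a x y a' x' y', h a x y * h a' x' y' = h (a + a') (x + x' + a * y') (y + y')
  h_inj : ∀ a x y a' x' y', h a x y = h a' x' y' → a = a' ∧ x = x' ∧ y = y'
  h_surj : ∀ g : P, ∃ a x y, g = h a x y

namespace HeisCoord

variable {F : Type*} [Field F] {P : Type*} [Group P] (C : HeisCoord F P)
include C

theorem h_zero : C.h 0 0 0 = 1 := by
  have := C.h_mul 0 0 0 0 0 0
  simp only [add_zero, mul_zero] at this
  exact mul_eq_left.1 this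

theorem h_inv (a x y : F) : (C.h a x y)⁻¹ = C.h (-a) (-x + a * y) (-y) := by
  rw [inv_eq_iff_mul_eq_one, C.h_mul, ← C.h_zero]
  congr 1 <;> ring

theorem h_central (c : F) (g : P) : C.h 0 c 0 * g = g * C.h 0 c 0 := by
  obtain ⟨a, x, y, rfl⟩ := C.h_surj g
  rw [C.h_mul, C.h_mul]
  congr 1 <;> ring

theorem h_comm (a x y a' x' y' : F) :
    ⁅C.h a x y, C.h a' x' y'⁆ = C.h 0 (a * y' - a' * y) 0 := by
  rw [commutatorElement_def, C.h_inv, C.h_inv, C.h_mul, C.h_mul, C.h_mul]
  congr 1 <;> ring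

theorem mem_center_iff (a x y : F) : C.h a x y ∈ Subgroup.center P ↔ a = 0 ∧ y = 0 := by
  rw [Subgroup.mem_center_iff]
  constructor
  · intro h
    have h1 := h (C.h 1 0 0)
    have h2 := h (C.h 0 0 1)
    rw [C.h_mul, C.h_mul] at h1 h2
    obtain ⟨-, h1, -⟩ := C.h_inj _ _ _ _ _ _ h1
    obtain ⟨-, h2, -⟩ := C.h_inj _ _ _ _ _ _ h2
    constructor
    · linear_combination -h2
    · linear_combination h1
  · rintro ⟨rfl, rfl⟩ g
    exact (C.h_central x g).symm

theorem center_eq : (Subgroup.center P : Set P) = Set.range (fun c : F => C.h 0 c 0) := by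
  ext g
  obtain ⟨a, x, y, rfl⟩ := C.h_surj g
  rw [SetLike.mem_coe, C.mem_center_iff]
  constructor
  · rintro ⟨rfl, rfl⟩
    exact ⟨x, rfl⟩
  · rintro ⟨c, hc⟩
    obtain ⟨h1, -, h3⟩ := C.h_inj _ _ _ _ _ _ hc
    exact ⟨h1.symm, h3.symm⟩

theorem card_center : Nat.card (Subgroup.center P) = Nat.card F := by
  have : Nat.card (Subgroup.center P) = Nat.card (Set.range (fun c : F => C.h 0 c 0)) := by
    rw [← C.center_eq]
    rfl
  rw [this]
  apply Nat.card_range_of_injective
  intro c c' hcc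
  exact (C.h_inj _ _ _ _ _ _ hcc).2.1

theorem commutator_eq_center : commutator P = Subgroup.center P := by
  apply le_antisymm
  · rw [commutator_eq_closure, Subgroup.closure_le]
    rintro g ⟨g₁, g₂, rfl⟩
    obtain ⟨a, x, y, rfl⟩ := C.h_surj g₁
    obtain ⟨a', x', y', rfl⟩ := C.h_surj g₂
    rw [C.h_comm, SetLike.mem_coe, C.mem_center_iff]
    exact ⟨rfl, rfl⟩
  · intro g hg
    have hg' : g ∈ (Subgroup.center P : Set P) := hg
    rw [C.center_eq] at hg'
    obtain ⟨c, rfl⟩ := hg'
    have : C.h 0 c 0 = ⁅C.h 1 0 0, C.h 0 0 c⁆ := by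
      rw [C.h_comm]
      congr 1
      ring
    change C.h 0 c 0 ∈ commutator P
    rw [this, commutator_eq_closure]
    exact Subgroup.subset_closure ⟨_, _, rfl⟩

theorem h_pow (a x y : F) (n : ℕ) :
    C.h a x y ^ n = C.h (n * a) (n * x + (n.choose 2 : ℕ) * (a * y)) (n * y) := by
  induction n with
  | zero => simp [C.h_zero]
  | succ n ih =>
    rw [pow_succ, ih, C.h_mul, Nat.choose_succ_succ, Nat.choose_one_right]
    congr 1 <;> push_cast <;> ring

theorem h_pow_char (p : ℕ) [Fact p.Prime] [CharP F p] (hp : p ≠ 2) (g : P) : g ^ p = 1 := by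
  obtain ⟨a, x, y, rfl⟩ := C.h_surj g
  have hpp : p.Prime := Fact.out
  have h2 : 2 < p := lt_of_le_of_ne hpp.two_le (Ne.symm hp)
  have hdvd : p ∣ p.choose 2 := hpp.dvd_choose_self (by norm_num) h2
  have h0 : ((p.choose 2 : ℕ) : F) = 0 := (CharP.cast_eq_zero_iff F p _).2 hdvd
  rw [C.h_pow, h0, CharP.cast_eq_zero F p, ← C.h_zero]
  congr 1 <;> ring

/-- the coordinate bijection -/
noncomputable def equiv : F × F × F ≃ P :=
  Equiv.ofBijective (fun t => C.h t.1 t.2.1 t.2.2) (by
    constructor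
    · rintro ⟨a, x, y⟩ ⟨a', x', y'⟩ h
      obtain ⟨h1, h2, h3⟩ := C.h_inj _ _ _ _ _ _ h
      simp only [Prod.mk.injEq]
      exact ⟨h1, h2, h3⟩
    · intro g
      obtain ⟨a, x, y, rfl⟩ := C.h_surj g
      exact ⟨(a, x, y), rfl⟩)

theorem card_eq : Nat.card P = Nat.card F ^ 3 := by
  rw [← Nat.card_congr C.equiv, Nat.card_prod, Nat.card_prod]
  ring

theorem nontrivial : Nontrivial P :=
  ⟨⟨C.h 1 0 0, C.h 0 0 0, fun h => one_ne_zero (C.h_inj _ _ _ _ _ _ h).1⟩⟩

theorem exponent_eq (p : ℕ) [Fact p.Prime] [CharP F p] (hp : p ≠ 2) : Monoid.exponent P = p := by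
  have hpp : p.Prime := Fact.out
  have hdvd : Monoid.exponent P ∣ p := Monoid.exponent_dvd_of_forall_pow_eq_one (C.h_pow_char p hp)
  rcases (Nat.dvd_prime hpp).1 hdvd with h | h
  · exfalso
    rw [Monoid.exp_eq_one_iff] at h
    haveI := C.nontrivial
    exact not_subsingleton P h
  · exact h

theorem isExtraspecial (p : ℕ) [Fact p.Prime] [CharP F p] (hp : p ≠ 2) (hF : Nat.card F = p) :
    Cfsg.IsExtraspecial p P ∧ Nat.card P = p ^ 3 ∧ Monoid.exponent P = p := by
  have hcard : Nat.card P = p ^ 3 := by rw [C.card_eq, hF]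
  haveI : Finite P := Nat.finite_of_card_ne_zero (by
    rw [hcard]; exact pow_ne_zero _ (Fact.out : p.Prime).ne_zero)
  have hP : IsPGroup p P := IsPGroup.of_card hcard
  refine ⟨⟨⟨hP, ?_, C.commutator_eq_center⟩, ?_⟩, hcard, C.exponent_eq p hp⟩
  · apply le_antisymm
    · apply Cfsg.Agent.Lib.Helper1.frattini_le_of_commutator_le_of_pow_mem (p := p)
      · exact C.commutator_eq_center.le
      · intro x
        rw [C.h_pow_char p hp x]
        exact one_mem _
    · rw [← C.commutator_eq_center]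
      exact Cfsg.Agent.Lib.Helper1.IsPGroup.commutator_le_frattini hP
  · rw [C.card_center, hF]

/-- transport of coordinates along an isomorphism -/
def map {Q : Type*} [Group Q] (e : P ≃* Q) : HeisCoord F Q where
  h a x y := e (C.h a x y)
  h_mul a x y a' x' y' := by rw [← map_mul, C.h_mul]
  h_inj a x y a' x' y' h := C.h_inj _ _ _ _ _ _ (e.injective h)
  h_surj g := by
    obtain ⟨a, x, y, h⟩ := C.h_surj (e.symm g)
    exact ⟨a, x, y, by rw [← h, e.apply_symm_apply]⟩

end HeisCoord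

section
variable {F : Type*} [Field F]

/-- the standard coordinates on the standard Sylow subgroup of the affine group -/
def heisCoord (F : Type*) [Field F] : HeisCoord F (affS F) where
  h a x y := ⟨heis a x y, heis_mem a x y⟩
  h_mul a x y a' x' y' := Subtype.ext (heis_mul a x y a' x' y')
  h_inj a x y a' x' y' h := by
    have h' : heis a x y = heis a' x' y' := congrArg Subtype.val h
    refine ⟨?_, ?_, ?_⟩
    · rw [← heis_a a x y, h', heis_a]
    · rw [← heis_x a x y, h', heis_x]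
    · rw [← heis_y a x y, h', heis_y]
  h_surj g := by
    obtain ⟨a, x, y, h⟩ := exists_heis g.2
    exact ⟨a, x, y, Subtype.ext h⟩

theorem qd_sylow_extraspecial (p : ℕ) [Fact p.Prime] (hp : p ≠ 2)
    (H : Subgroup (Matrix.SpecialLinearGroup (Fin 3) (ZMod p))) (hH : H = affSL3 (ZMod p))
    (S : Sylow p ↥H) :
    Cfsg.IsExtraspecial p ↥S ∧ Nat.card S = p ^ 3 ∧ Monoid.exponent ↥S = p := by
  subst hH
  let S₀ : Sylow p (affSL3 (ZMod p)) := (affS_isPGroup p).toSylow (by
    rw [affS_index]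
    exact not_dvd_index_unipSL2 p)
  obtain ⟨g, hg⟩ := MulAction.exists_smul_eq (affSL3 (ZMod p)) S₀ S
  have hS : (S : Subgroup (affSL3 (ZMod p))) =
      (affS (ZMod p)).map (MulAut.conj g).toMonoidHom := by
    rw [← hg, Sylow.coe_subgroup_smul]
    rfl
  let e : affS (ZMod p) ≃* ↥(S : Subgroup (affSL3 (ZMod p))) :=
    ((affS (ZMod p)).equivMapOfInjective _ (MulAut.conj g).injective).trans
      (MulEquiv.subgroupCongr hS.symm)
  exact ((heisCoord (ZMod p)).map e).isExtraspecial p hp (Nat.card_zmod p)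

end

end Cfsg.Agent.Lib.Helper16
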