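import Mathlib
import Cfsg.Prelude.Def_SporadicCombinatorics

/-!
# The hexacode over a field with 4 elements (helper16 library)

A computable model of the field with four elements (`Fin 4` with explicit tables), transferred to an
abstract field `F` with `ω ^ 2 + ω + 1 = 0`, and the resulting enumeration of `Cfsg.hexacode F ω`.
-/

set_option autoImplicit false

namespace Cfsg.Agent.Lib.Helper16

open Cfsg

/-- addition table of the field with 4 elements `0, 1, ω, ω²` (indices `0,1,2,3`) -/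
def f4add (i j : Fin 4) : Fin 4 := ![![0,1,2,3],![1,0,3,2],![2,3,0,1],![3,2,1,0]] i j
/-- multiplication table -/
def f4mul (i j : Fin 4) : Fin 4 := ![![0,0,0,0],![0,1,2,3],![0,2,3,1],![0,3,1,2]] i j

section

variable {F : Type*} [Field F]

/-- the elements `0, 1, ω, ω²` -/
def f4e (ω : F) : Fin 4 → F := ![0, 1, ω, ω ^ 2]

theorem f4e_add (ω : F) (hω : ω ^ 2 + ω + 1 = 0) (h2 : (2 : F) = 0) (i j : Fin 4) :
    f4e ω (f4add i j) = f4e ω i + f4e ω j := by
  fin_cases i <;> fin_cases j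
  · show (0 : F) = (0 : F) + (0 : F)
    linear_combination (0) * hω + (0) * h2
  · show (1 : F) = (0 : F) + (1 : F)
    linear_combination (0) * hω + (0) * h2
  · show ω = (0 : F) + ω
    linear_combination (0) * hω + (0) * h2
  · show ω ^ 2 = (0 : F) + ω ^ 2
    linear_combination (0) * hω + (0) * h2
  · show (1 : F) = (1 : F) + (0 : F)
    linear_combination (0) * hω + (0) * h2
  · show (0 : F) = (1 : F) + (1 : F)
    linear_combination (0) * hω + ((-1)) * h2
  · show ω ^ 2 = (1 : F) + ω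
    linear_combination ((1)) * hω + ((-1) + (-1) * ω) * h2
  · show ω = (1 : F) + ω ^ 2
    linear_combination ((-1)) * hω + ((1) * ω) * h2
  · show ω = ω + (0 : F)
    linear_combination (0) * hω + (0) * h2
  · show ω ^ 2 = ω + (1 : F)
    linear_combination ((1)) * hω + ((-1) + (-1) * ω) * h2
  · show (0 : F) = ω + ω
    linear_combination (0) * hω + ((-1) * ω) * h2
  · show (1 : F) = ω + ω ^ 2
    linear_combination ((-1)) * hω + ((1)) * h2
  · show ω ^ 2 = ω ^ 2 + (0 : F)
    linear_combination (0) * hω + (0) * h2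
  · show ω = ω ^ 2 + (1 : F)
    linear_combination ((-1)) * hω + ((1) * ω) * h2
  · show (1 : F) = ω ^ 2 + ω
    linear_combination ((-1)) * hω + ((1)) * h2
  · show (0 : F) = ω ^ 2 + ω ^ 2
    linear_combination ((-2)) * hω + ((1) + (1) * ω) * h2

theorem f4e_mul (ω : F) (hω : ω ^ 2 + ω + 1 = 0) (h2 : (2 : F) = 0) (i j : Fin 4) :
    f4e ω (f4mul i j) = f4e ω i * f4e ω j := by
  fin_cases i <;> fin_cases j
  · show (0 : F) = (0 : F) * (0 : F)
    linear_combination (0) * hω + (0) * h2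
  · show (0 : F) = (0 : F) * (1 : F)
    linear_combination (0) * hω + (0) * h2
  · show (0 : F) = (0 : F) * ω
    linear_combination (0) * hω + (0) * h2
  · show (0 : F) = (0 : F) * ω ^ 2
    linear_combination (0) * hω + (0) * h2
  · show (0 : F) = (1 : F) * (0 : F)
    linear_combination (0) * hω + (0) * h2
  · show (1 : F) = (1 : F) * (1 : F)
    linear_combination (0) * hω + (0) * h2
  · show ω = (1 : F) * ω
    linear_combination (0) * hω + (0) * h2
  · show ω ^ 2 = (1 : F) * ω ^ 2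
    linear_combination (0) * hω + (0) * h2
  · show (0 : F) = ω * (0 : F)
    linear_combination (0) * hω + (0) * h2
  · show ω = ω * (1 : F)
    linear_combination (0) * hω + (0) * h2
  · show ω ^ 2 = ω * ω
    linear_combination (0) * hω + (0) * h2
  · show (1 : F) = ω * ω ^ 2
    linear_combination ((1) + (-1) * ω) * hω + (0) * h2
  · show (0 : F) = ω ^ 2 * (0 : F)
    linear_combination (0) * hω + (0) * h2
  · show ω ^ 2 = ω ^ 2 * (1 : F)
    linear_combination (0) * hω + (0) * h2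
  · show (1 : F) = ω ^ 2 * ω
    linear_combination ((1) + (-1) * ω) * hω + (0) * h2
  · show ω = ω ^ 2 * ω ^ 2
    linear_combination ((1) * ω + (-1) * ω ^ 2) * hω + (0) * h2

theorem f4e_zero (ω : F) : f4e ω 0 = 0 := rfl

theorem f4e_eq_zero (ω : F) (hω : ω ^ 2 + ω + 1 = 0) (k : Fin 4) (hk : f4e ω k = 0) : k = 0 := by
  have hω0 : ω ≠ 0 := by
    rintro rfl
    simp at hω
  fin_cases k
  · rfl
  · exact absurd (show (1 : F) = 0 from hk) one_ne_zero
  · exact absurd (show ω = 0 from hk) hω0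
  · exact absurd (show ω ^ 2 = 0 from hk) (pow_ne_zero 2 hω0)

theorem f4add_eq_zero : ∀ i j : Fin 4, f4add i j = 0 → i = j := by decide

theorem f4e_injective (ω : F) (hω : ω ^ 2 + ω + 1 = 0) (h2 : (2 : F) = 0) :
    Function.Injective (f4e ω) := by
  intro i j hij
  apply f4add_eq_zero
  apply f4e_eq_zero ω hω
  rw [f4e_add ω hω h2, hij]
  linear_combination (f4e ω j) * h2

theorem f4e_ne_zero_iff (ω : F) (hω : ω ^ 2 + ω + 1 = 0) (k : Fin 4) : f4e ω k ≠ 0 ↔ k ≠ 0 := by
  constructor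
  · rintro h rfl
    exact h rfl
  · intro h h0
    exact h (f4e_eq_zero ω hω k h0)

theorem hex_two_eq_zero [Fintype F] (hF : Fintype.card F = 4) : (2 : F) = 0 := by
  have h4 : ((4 : ℕ) : F) = 0 := by rw [← hF]; exact Nat.cast_card_eq_zero F
  have h22 : (2 : F) * 2 = 0 := by
    have : ((4 : ℕ) : F) = 2 * 2 := by norm_num
    rw [← this]; exact h4
  exact mul_self_eq_zero.1 h22

theorem f4e_surjective [Fintype F] (hF : Fintype.card F = 4) (ω : F) (hω : ω ^ 2 + ω + 1 = 0) :
    Function.Surjective (f4e ω) := by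
  have h2 := hex_two_eq_zero hF
  have := (Fintype.bijective_iff_injective_and_card (f4e ω)).2
    ⟨f4e_injective ω hω h2, by rw [hF, Fintype.card_fin]⟩
  exact this.2

end

/-! ### the hexacode -/

/-- index vectors of the three generators -/
def hexG1 : Fin 6 → Fin 4 := ![2,3,3,2,3,2]
/-- second generator -/
def hexG2 : Fin 6 → Fin 4 := ![3,2,2,3,3,2]
/-- third generator -/
def hexG3 : Fin 6 → Fin 4 := ![3,2,3,2,2,3]

/-- the word `i • g1 + j • g2 + k • g3` in index form -/
def hexIdx (t : Fin 4 × Fin 4 × Fin 4) (m : Fin 6) : Fin 4 :=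
  f4add (f4add (f4mul t.1 (hexG1 m)) (f4mul t.2.1 (hexG2 m))) (f4mul t.2.2 (hexG3 m))

/-- weight of the index word -/
def hexWt (t : Fin 4 × Fin 4 × Fin 4) : ℕ := (Finset.univ.filter fun m => hexIdx t m ≠ 0).card

theorem hexWt_cases : ∀ t : Fin 4 × Fin 4 × Fin 4, hexWt t = 0 ∨ hexWt t = 4 ∨ hexWt t = 6 := by
  decide +kernel

theorem hexIdx_injective : ∀ t t' : Fin 4 × Fin 4 × Fin 4, hexIdx t = hexIdx t' → t = t' := by
  decide +kernel

theorem card_hexWt_four : (Finset.univ.filter fun t : Fin 4 × Fin 4 × Fin 4 => hexWt t = 4).card = 45 := by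
  decide +kernel

theorem card_hexWt_six : (Finset.univ.filter fun t : Fin 4 × Fin 4 × Fin 4 => hexWt t = 6).card = 18 := by
  decide +kernel


section

variable {F : Type*} [Field F]

/-- the word with index word `hexIdx t` -/
def hexWord (ω : F) (t : Fin 4 × Fin 4 × Fin 4) : Fin 6 → F := fun m => f4e ω (hexIdx t m)

theorem hexG1_eq (ω : F) :
    (![ω, ω ^ 2, ω ^ 2, ω, ω ^ 2, ω] : Fin 6 → F) = fun m => f4e ω (hexG1 m) := by
  funext m
  fin_cases m <;> rfl

theorem hexG2_eq (ω : F) :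
    (![ω ^ 2, ω, ω, ω ^ 2, ω ^ 2, ω] : Fin 6 → F) = fun m => f4e ω (hexG2 m) := by
  funext m
  fin_cases m <;> rfl

theorem hexG3_eq (ω : F) :
    (![ω ^ 2, ω, ω ^ 2, ω, ω, ω ^ 2] : Fin 6 → F) = fun m => f4e ω (hexG3 m) := by
  funext m
  fin_cases m <;> rfl

theorem hexWord_eq (ω : F) (hω : ω ^ 2 + ω + 1 = 0) (h2 : (2 : F) = 0)
    (t : Fin 4 × Fin 4 × Fin 4) :
    f4e ω t.1 • (![ω, ω ^ 2, ω ^ 2, ω, ω ^ 2, ω] : Fin 6 → F) +
      f4e ω t.2.1 • (![ω ^ 2, ω, ω, ω ^ 2, ω ^ 2, ω] : Fin 6 → F) +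
      f4e ω t.2.2 • (![ω ^ 2, ω, ω ^ 2, ω, ω, ω ^ 2] : Fin 6 → F) = hexWord ω t := by
  rw [hexG1_eq, hexG2_eq, hexG3_eq]
  funext m
  simp only [Pi.add_apply, Pi.smul_apply, smul_eq_mul, hexWord, hexIdx, f4e_add ω hω h2,
    f4e_mul ω hω h2]

theorem mem_hexacode_iff [Fintype F] (hF : Fintype.card F = 4) (ω : F)
    (hω : ω ^ 2 + ω + 1 = 0) (x : Fin 6 → F) :
    x ∈ hexacode F ω ↔ ∃ t : Fin 4 × Fin 4 × Fin 4, hexWord ω t = x := by
  have h2 := hex_two_eq_zero hF
  have hs := f4e_surjective hF ω hω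
  unfold hexacode
  rw [Submodule.mem_span_triple]
  constructor
  · rintro ⟨a, b, c, rfl⟩
    obtain ⟨i, rfl⟩ := hs a
    obtain ⟨j, rfl⟩ := hs b
    obtain ⟨k, rfl⟩ := hs c
    exact ⟨(i, j, k), (hexWord_eq ω hω h2 (i, j, k)).symm⟩
  · rintro ⟨t, rfl⟩
    exact ⟨f4e ω t.1, f4e ω t.2.1, f4e ω t.2.2, hexWord_eq ω hω h2 t⟩

theorem hexWord_injective (ω : F) (hω : ω ^ 2 + ω + 1 = 0) (h2 : (2 : F) = 0) :
    Function.Injective (hexWord ω) := by
  intro t t' h
  apply hexIdx_injective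
  funext m
  exact f4e_injective ω hω h2 (congrFun h m)

theorem hexWord_weight [DecidableEq F] (ω : F) (hω : ω ^ 2 + ω + 1 = 0)
    (t : Fin 4 × Fin 4 × Fin 4) :
    (Finset.univ.filter fun i => hexWord ω t i ≠ 0).card = hexWt t := by
  unfold hexWt
  congr 1
  apply Finset.filter_congr
  intro m _
  exact f4e_ne_zero_iff ω hω _

theorem hexacode_main [Fintype F] [DecidableEq F] (hF : Fintype.card F = 4) (ω : F)
    (hω : ω ^ 2 + ω + 1 = 0) :
    Nat.card ↥(hexacode F ω) = 64 ∧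
    (∀ x ∈ hexacode F ω, x ≠ 0 → (Finset.univ.filter fun i => x i ≠ 0).card = 4 ∨
      (Finset.univ.filter fun i => x i ≠ 0).card = 6) ∧
    {x : Fin 6 → F | x ∈ hexacode F ω ∧ (Finset.univ.filter fun i => x i ≠ 0).card = 4}.ncard
      = 45 ∧
    {x : Fin 6 → F | x ∈ hexacode F ω ∧ (Finset.univ.filter fun i => x i ≠ 0).card = 6}.ncard
      = 18 := by
  have h2 := hex_two_eq_zero hF
  have hinj := hexWord_injective ω hω h2
  have hset : ∀ k : ℕ,
      {x : Fin 6 → F | x ∈ hexacode F ω ∧ (Finset.univ.filter fun i => x i ≠ 0).card = k} =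
      ↑((Finset.univ.filter fun t : Fin 4 × Fin 4 × Fin 4 => hexWt t = k).image (hexWord ω)) := by
    intro k
    ext x
    simp only [Set.mem_ofPred_eq, Finset.coe_image, Finset.coe_filter, Finset.mem_univ, true_and,
      Set.mem_image, mem_hexacode_iff hF ω hω]
    constructor
    · rintro ⟨⟨t, rfl⟩, hk⟩
      exact ⟨t, by rw [← hexWord_weight ω hω]; exact hk, rfl⟩
    · rintro ⟨t, hk, rfl⟩
      exact ⟨⟨t, rfl⟩, by rw [hexWord_weight ω hω]; exact hk⟩
  refine ⟨?_, ?_, ?_, ?_⟩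
  · have e : (Fin 4 × Fin 4 × Fin 4) ≃ ↥(hexacode F ω) :=
      Equiv.ofBijective (fun t => ⟨hexWord ω t, (mem_hexacode_iff hF ω hω _).2 ⟨t, rfl⟩⟩)
        ⟨fun t t' h => hinj (congrArg Subtype.val h), fun x => by
          obtain ⟨t, ht⟩ := (mem_hexacode_iff hF ω hω _).1 x.2
          exact ⟨t, Subtype.ext ht⟩⟩
    rw [← Nat.card_congr e, Nat.card_eq_fintype_card]
    simp only [Fintype.card_prod, Fintype.card_fin]
  · intro x hx h0
    obtain ⟨t, rfl⟩ := (mem_hexacode_iff hF ω hω _).1 hx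
    rw [hexWord_weight ω hω]
    rcases hexWt_cases t with h | h
    · exfalso
      apply h0
      rw [← hexWord_weight ω hω, Finset.card_eq_zero, Finset.filter_eq_empty_iff] at h
      funext m
      have := h (Finset.mem_univ m)
      simpa using this
    · exact h
  · rw [hset, Set.ncard_coe_finset, Finset.card_image_of_injective _ hinj, card_hexWt_four]
  · rw [hset, Set.ncard_coe_finset, Finset.card_image_of_injective _ hinj, card_hexWt_six]

end

end Cfsg.Agent.Lib.Helper16
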