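import Mathlib
import Cfsg.Agent.Lib.Helper16.Hexacode

set_option autoImplicit false

namespace Cfsg.Agent.Lib.Helper16

open Cfsg

/-- inverse table of the field with 4 elements -/
def f4inv (i : Fin 4) : Fin 4 := ![0,1,3,2] i

/-- the three generators in index form -/
def hexGs (r : Fin 3) : Fin 6 → Fin 4 := ![hexG1, hexG2, hexG3] r

/-- recover the coefficients of a hexacode word from its first three coordinates -/
def hexRec (w : Fin 6 → Fin 4) : Fin 4 × Fin 4 × Fin 4 :=
  (f4add (f4mul (w 0) 2) (f4mul (w 1) 3),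
   f4add (f4add (f4mul (w 0) 3) (f4mul (w 1) 3)) (w 2),
   f4add (w 1) (w 2))

theorem hexRec_hexIdx : ∀ t : Fin 4 × Fin 4 × Fin 4, hexRec (hexIdx t) = t := by decide +kernel

/-- decidable membership test for the index hexacode -/
def hexMemIdx (w : Fin 6 → Fin 4) : Prop := hexIdx (hexRec w) = w

instance : DecidablePred hexMemIdx := fun w => inferInstanceAs (Decidable (hexIdx (hexRec w) = w))

theorem hexMemIdx_iff (w : Fin 6 → Fin 4) : hexMemIdx w ↔ ∃ t, hexIdx t = w := by
  constructor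
  · intro h
    exact ⟨_, h⟩
  · rintro ⟨t, rfl⟩
    unfold hexMemIdx
    rw [hexRec_hexIdx]

/-- image of the `r`-th generator under the monomial map with inverse permutation `τ` and
scalars `d` -/
def hexImg (τ : Fin 6 → Fin 6) (d : Fin 6 → Fin 4) (r : Fin 3) : Fin 6 → Fin 4 :=
  fun m => f4mul (d m) (hexGs r (τ m))

/-- validity of a monomial map, index form -/
def hexValidIdx (τ : Fin 6 → Fin 6) (d : Fin 6 → Fin 4) : Prop :=
  ∀ r : Fin 3, hexMemIdx (hexImg τ d r)

instance (τ : Fin 6 → Fin 6) (d : Fin 6 → Fin 4) : Decidable (hexValidIdx τ d) :=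
  inferInstanceAs (Decidable (∀ r : Fin 3, hexMemIdx (hexImg τ d r)))

theorem hexDiag : ∀ d0 d1 d2 d3 d4 d5 : Fin 4, d0 ≠ 0 → d1 ≠ 0 → d2 ≠ 0 → d3 ≠ 0 → d4 ≠ 0 →
    d5 ≠ 0 → hexValidIdx id ![d0, d1, d2, d3, d4, d5] →
    d0 = d1 ∧ d0 = d2 ∧ d0 = d3 ∧ d0 = d4 ∧ d0 = d5 := by decide +kernel

theorem hexSwap01 : ∀ d0 d1 d2 d3 d4 d5 : Fin 4, d0 ≠ 0 → d1 ≠ 0 → d2 ≠ 0 → d3 ≠ 0 → d4 ≠ 0 →
    d5 ≠ 0 → ¬ hexValidIdx (fun m => Equiv.swap (0 : Fin 6) 1 m) ![d0, d1, d2, d3, d4, d5] := by
  decide +kernel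

theorem hexThree : ∀ a b c : Fin 6, a ≠ b → a ≠ c → ∃ t : Fin 4 × Fin 4 × Fin 4, hexWt t = 6 ∧
    hexValidIdx (fun m => Equiv.swap a c (Equiv.swap a b m))
      (fun m => f4mul (hexIdx t m) (f4inv (hexG1 (Equiv.swap a c (Equiv.swap a b m))))) := by
  decide +kernel


/-! ### monomial maps -/

section Mon

open Equiv

variable {F : Type*} [Field F]

theorem monomialMap_apply' (σ : Perm (Fin 6)) (c : Fin 6 → Fˣ) (x : Fin 6 → F) (i : Fin 6) :
    monomialMap σ c x i = (c i : F) * x (σ.symm i) := rfl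

/-- the monomial map as a linear map -/
def monomialLin (σ : Perm (Fin 6)) (c : Fin 6 → Fˣ) : (Fin 6 → F) →ₗ[F] (Fin 6 → F) where
  toFun := monomialMap σ c
  map_add' x y := by
    funext i
    simp only [monomialMap_apply', Pi.add_apply, mul_add]
  map_smul' a x := by
    funext i
    simp only [monomialMap_apply', Pi.smul_apply, smul_eq_mul, RingHom.id_apply, mul_left_comm]

theorem monomialLin_apply (σ : Perm (Fin 6)) (c : Fin 6 → Fˣ) (x : Fin 6 → F) :
    monomialLin σ c x = monomialMap σ c x := rfl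

theorem monomialMap_comp (σ τ : Perm (Fin 6)) (c d : Fin 6 → Fˣ) (x : Fin 6 → F) :
    monomialMap σ c (monomialMap τ d x) =
      monomialMap (σ * τ) (fun i => c i * d (σ.symm i)) x := by
  funext i
  simp only [monomialMap_apply', Units.val_mul, mul_assoc]
  rfl

theorem monomialMap_one_one (x : Fin 6 → F) :
    monomialMap (1 : Perm (Fin 6)) (fun _ => (1 : Fˣ)) x = x := by
  funext i
  show ((1 : Fˣ) : F) * x i = x i
  rw [Units.val_one, one_mul]

theorem monomialMap_injective (σ : Perm (Fin 6)) (c : Fin 6 → Fˣ) :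
    Function.Injective (monomialMap (F := F) σ c) := by
  intro x y h
  funext j
  have := congrFun h (σ j)
  simp only [monomialMap_apply', Equiv.symm_apply_apply] at this
  exact (c (σ j)).isUnit.mul_left_cancel this

/-- `(σ, c)` preserves the subspace `C` -/
def MonValid (C : Submodule F (Fin 6 → F)) (σ : Perm (Fin 6)) (c : Fin 6 → Fˣ) : Prop :=
  ∀ x ∈ C, monomialMap σ c x ∈ C

variable {C : Submodule F (Fin 6 → F)}

theorem MonValid.mul {σ τ : Perm (Fin 6)} {c d : Fin 6 → Fˣ} (h1 : MonValid C σ c)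
    (h2 : MonValid C τ d) : MonValid C (σ * τ) (fun i => c i * d (σ.symm i)) := fun x hx => by
  rw [← monomialMap_comp]
  exact h1 _ (h2 x hx)

theorem monValid_one (C : Submodule F (Fin 6 → F)) : MonValid C 1 (fun _ => 1) := fun x hx => by
  rw [monomialMap_one_one]
  exact hx

theorem MonValid.surj [Finite F] {σ : Perm (Fin 6)} {c : Fin 6 → Fˣ} (h : MonValid C σ c) :
    ∀ y ∈ C, ∃ x ∈ C, monomialMap σ c x = y := by
  have hinj : Function.Injective (fun x : ↥C => (⟨monomialMap σ c x, h x x.2⟩ : ↥C)) := by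
    intro x y hxy
    exact Subtype.ext (monomialMap_injective σ c (congrArg Subtype.val hxy))
  have hsurj := Finite.injective_iff_surjective.1 hinj
  intro y hy
  obtain ⟨x, hx⟩ := hsurj ⟨y, hy⟩
  exact ⟨x, x.2, congrArg Subtype.val hx⟩

theorem MonValid.inv [Finite F] {σ : Perm (Fin 6)} {c : Fin 6 → Fˣ} (h : MonValid C σ c) :
    MonValid C σ⁻¹ (fun i => (c (σ i))⁻¹) := by
  intro y hy
  obtain ⟨x, hx, rfl⟩ := h.surj y hy
  have e : monomialMap σ⁻¹ (fun i => (c (σ i))⁻¹) (monomialMap σ c x) = x := by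
    funext i
    show (((c (σ i))⁻¹ : Fˣ) : F) * ((c (σ i) : F) * x (σ.symm (σ i))) = x i
    rw [← mul_assoc, ← Units.val_mul, inv_mul_cancel, Units.val_one, one_mul,
      Equiv.symm_apply_apply]
  rw [e]
  exact hx

theorem MonValid.smul {σ : Perm (Fin 6)} {c : Fin 6 → Fˣ} (h : MonValid C σ c) (l : Fˣ) :
    MonValid C σ (fun i => l * c i) := by
  intro x hx
  have : monomialMap σ (fun i => l * c i) x = (l : F) • monomialMap σ c x := by
    funext i
    simp only [monomialMap_apply', Units.val_mul, Pi.smul_apply, smul_eq_mul, mul_assoc]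
  rw [this]
  exact C.smul_mem _ (h x hx)

theorem MonValid.div [Finite F] {σ : Perm (Fin 6)} {c c0 : Fin 6 → Fˣ} (h : MonValid C σ c)
    (h0 : MonValid C σ c0) : MonValid C 1 (fun i => c i * (c0 i)⁻¹) := by
  intro y hy
  obtain ⟨x, hx, rfl⟩ := h0.surj y hy
  have e : monomialMap 1 (fun i => c i * (c0 i)⁻¹) (monomialMap σ c0 x) = monomialMap σ c x := by
    funext i
    show ((c i * (c0 i)⁻¹ : Fˣ) : F) * ((c0 i : F) * x (σ.symm i)) = (c i : F) * x (σ.symm i)
    rw [← mul_assoc, ← Units.val_mul, inv_mul_cancel_right]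
  rw [e]
  exact h x hx

/-- the group of permutation parts of the monomial automorphisms of `C` -/
def monValidSubgroup [Finite F] (C : Submodule F (Fin 6 → F)) : Subgroup (Perm (Fin 6)) where
  carrier := {σ | ∃ c, MonValid C σ c}
  mul_mem' := by
    rintro σ τ ⟨c, h1⟩ ⟨d, h2⟩
    exact ⟨_, h1.mul h2⟩
  one_mem' := ⟨_, monValid_one C⟩
  inv_mem' := by
    rintro σ ⟨c, h⟩
    exact ⟨_, h.inv⟩

theorem mem_monValidSubgroup [Finite F] {σ : Perm (Fin 6)} :
    σ ∈ monValidSubgroup C ↔ ∃ c, MonValid C σ c := Iff.rfl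

theorem monValid_span_iff (S : Set (Fin 6 → F)) (σ : Perm (Fin 6)) (c : Fin 6 → Fˣ) :
    MonValid (Submodule.span F S) σ c ↔ ∀ g ∈ S, monomialMap σ c g ∈ Submodule.span F S := by
  constructor
  · intro h g hg
    exact h g (Submodule.subset_span hg)
  · intro h x hx
    have := (Submodule.map_span_le (monomialLin σ c) S (Submodule.span F S)).2
      (fun m hm => h m hm)
    exact this ⟨x, hx, rfl⟩

/-- a subgroup containing all `swap a b * swap a c` contains the alternating group -/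
theorem alternatingGroup_le_of_swap_mul_swap {α : Type*} [Fintype α] [DecidableEq α]
    (V : Subgroup (Perm α)) (h : ∀ a b c : α, a ≠ b → a ≠ c → swap a b * swap a c ∈ V) :
    alternatingGroup α ≤ V := by
  have hsw : ∀ σ τ : Perm α, σ.IsSwap → τ.IsSwap → σ * τ ∈ V := by
    rintro _ _ ⟨a, b, ab, rfl⟩ ⟨c, d, cd, rfl⟩
    by_cases ac : a = c
    · subst ac
      exact h a b d ab cd
    have h' : swap a b * swap c d = swap a b * swap a c * (swap c a * swap c d) := by
      simp [swap_comm c a, mul_assoc]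
    rw [h']
    exact mul_mem (h a b c ab ac) (h c a d (Ne.symm ac) cd)
  intro σ hσ
  suffices hind : ∀ (n : ℕ) (l : List (Perm α)) (_ : ∀ g, g ∈ l → Perm.IsSwap g)
      (_ : l.length = 2 * n), l.prod ∈ V by
    obtain ⟨l, rfl, hl⟩ := Perm.truncSwapFactors σ
    obtain ⟨n, hn⟩ := (Perm.prod_list_swap_mem_alternatingGroup_iff_even_length hl).1 hσ
    rw [← two_mul] at hn
    exact hind n l hl hn
  intro n
  induction n with
  | zero =>
    intro l hl hn
    simp [List.length_eq_zero_iff.1 hn, one_mem]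
  | succ n ih =>
    intro l hl hn
    rw [Nat.mul_succ] at hn
    obtain ⟨a, l, rfl⟩ := l.exists_of_length_succ hn
    rw [List.length_cons, Nat.succ_inj] at hn
    obtain ⟨b, l, rfl⟩ := l.exists_of_length_succ hn
    rw [List.prod_cons, List.prod_cons, ← mul_assoc]
    apply mul_mem
    · exact hsw a b (hl a (by simp)) (hl b (by simp))
    · exact ih l (fun g hg => hl g (by simp [hg])) (by simpa using hn)

end Mon

end Cfsg.Agent.Lib.Helper16
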