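import Mathlib
import Cfsg.Agent.Lib.Helper16.HexacodeMon

set_option autoImplicit false

namespace Cfsg.Agent.Lib.Helper16

open Cfsg Equiv

theorem hexThree_ne : ∀ t : Fin 4 × Fin 4 × Fin 4, hexWt t = 6 → ∀ m k : Fin 6,
    f4mul (hexIdx t m) (f4inv (hexG1 k)) ≠ 0 := by decide +kernel

section

variable {F : Type*} [Field F] [Fintype F]

set_option linter.unusedSectionVars false

theorem hex_exists_idx (hF : Fintype.card F = 4) (ω : F) (hω : ω ^ 2 + ω + 1 = 0)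
    (c : Fin 6 → Fˣ) :
    ∃ d : Fin 6 → Fin 4, (∀ m, d m ≠ 0) ∧ ∀ m, (c m : F) = f4e ω (d m) := by
  have hs := f4e_surjective hF ω hω
  choose d hd using fun m => hs (c m : F)
  refine ⟨d, fun m h0 => ?_, fun m => (hd m).symm⟩
  have := hd m
  rw [h0, f4e_zero] at this
  exact (c m).ne_zero this.symm

theorem hex_exists_units (ω : F) (hω : ω ^ 2 + ω + 1 = 0) (d : Fin 6 → Fin 4)
    (hd : ∀ m, d m ≠ 0) : ∃ c : Fin 6 → Fˣ, ∀ m, (c m : F) = f4e ω (d m) :=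
  ⟨fun m => Units.mk0 (f4e ω (d m)) ((f4e_ne_zero_iff ω hω _).2 (hd m)), fun _ => rfl⟩

theorem hex_mem_idx (hF : Fintype.card F = 4) (ω : F) (hω : ω ^ 2 + ω + 1 = 0)
    (w : Fin 6 → Fin 4) : (fun m => f4e ω (w m)) ∈ hexacode F ω ↔ hexMemIdx w := by
  have h2 := hex_two_eq_zero hF
  rw [mem_hexacode_iff hF ω hω, hexMemIdx_iff]
  constructor
  · rintro ⟨t, ht⟩
    exact ⟨t, funext fun m => f4e_injective ω hω h2 (congrFun ht m)⟩
  · rintro ⟨t, rfl⟩
    exact ⟨t, rfl⟩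

theorem hex_monValid_iff (hF : Fintype.card F = 4) (ω : F) (hω : ω ^ 2 + ω + 1 = 0)
    (σ : Perm (Fin 6)) (c : Fin 6 → Fˣ) (d : Fin 6 → Fin 4)
    (hcd : ∀ m, (c m : F) = f4e ω (d m)) :
    MonValid (hexacode F ω) σ c ↔ hexValidIdx (fun m => σ.symm m) d := by
  have h2 := hex_two_eq_zero hF
  have key : ∀ r : Fin 3, (monomialMap σ c (fun m => f4e ω (hexGs r m)) ∈ hexacode F ω ↔
      hexMemIdx (hexImg (fun m => σ.symm m) d r)) := by
    intro r
    have : monomialMap σ c (fun m => f4e ω (hexGs r m)) =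
        fun m => f4e ω (hexImg (fun m => σ.symm m) d r m) := by
      funext m
      show (c m : F) * f4e ω (hexGs r (σ.symm m)) = f4e ω (f4mul (d m) (hexGs r (σ.symm m)))
      rw [hcd, f4e_mul ω hω h2]
    rw [this]
    exact hex_mem_idx hF ω hω _
  refine (monValid_span_iff _ σ c).trans ?_
  change (∀ g ∈ ({![ω, ω ^ 2, ω ^ 2, ω, ω ^ 2, ω], ![ω ^ 2, ω, ω, ω ^ 2, ω ^ 2, ω],
    ![ω ^ 2, ω, ω ^ 2, ω, ω, ω ^ 2]} : Set (Fin 6 → F)), monomialMap σ c g ∈ hexacode F ω) ↔ _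
  simp only [Set.mem_insert_iff, Set.mem_singleton_iff, forall_eq_or_imp, forall_eq]
  rw [hexG1_eq, hexG2_eq, hexG3_eq]
  have k0 := key 0
  have k1 := key 1
  have k2 := key 2
  constructor
  · rintro ⟨h0, h1, h2'⟩ r
    fin_cases r
    · exact k0.1 h0
    · exact k1.1 h1
    · exact k2.1 h2'
  · intro h
    exact ⟨k0.2 (h 0), k1.2 (h 1), k2.2 (h 2)⟩

theorem hex_vec_eta (d : Fin 6 → Fin 4) : d = ![d 0, d 1, d 2, d 3, d 4, d 5] := by
  funext m
  fin_cases m <;> rfl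

theorem hex_diag (hF : Fintype.card F = 4) (ω : F) (hω : ω ^ 2 + ω + 1 = 0) (c : Fin 6 → Fˣ)
    (h : MonValid (hexacode F ω) 1 c) : ∀ i j, c i = c j := by
  obtain ⟨d, hd0, hcd⟩ := hex_exists_idx hF ω hω c
  have hv := (hex_monValid_iff hF ω hω 1 c d hcd).1 h
  have hτ : (fun m => (1 : Perm (Fin 6)).symm m) = id := rfl
  rw [hτ, hex_vec_eta d] at hv
  obtain ⟨h1, h2, h3, h4, h5⟩ :=
    hexDiag _ _ _ _ _ _ (hd0 0) (hd0 1) (hd0 2) (hd0 3) (hd0 4) (hd0 5) hv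
  have hall : ∀ m, d m = d 0 := by
    intro m
    fin_cases m
    · rfl
    · exact h1.symm
    · exact h2.symm
    · exact h3.symm
    · exact h4.symm
    · exact h5.symm
  intro i j
  apply Units.ext
  rw [hcd, hcd, hall i, hall j]

theorem hex_V_eq (hF : Fintype.card F = 4) (ω : F) (hω : ω ^ 2 + ω + 1 = 0) :
    monValidSubgroup (hexacode F ω) = alternatingGroup (Fin 6) := by
  have hge : alternatingGroup (Fin 6) ≤ monValidSubgroup (hexacode F ω) := by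
    apply alternatingGroup_le_of_swap_mul_swap
    intro a b c hab hac
    obtain ⟨t, ht6, hv⟩ := hexThree a b c hab hac
    obtain ⟨cc, hcc⟩ := hex_exists_units ω hω
      (fun m => f4mul (hexIdx t m) (f4inv (hexG1 (swap a c (swap a b m)))))
      (fun m => hexThree_ne t ht6 m _)
    exact ⟨cc, (hex_monValid_iff hF ω hω _ cc _ hcc).2 hv⟩
  apply le_antisymm _ hge
  intro σ hσ
  by_contra hodd
  have hsign : Perm.sign σ = -1 := by
    rcases Int.units_eq_one_or (Perm.sign σ) with h | h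
    · exact absurd (Perm.mem_alternatingGroup.2 h) hodd
    · exact h
  have h1 : σ⁻¹ * swap (0 : Fin 6) 1 ∈ alternatingGroup (Fin 6) := by
    rw [Perm.mem_alternatingGroup, map_mul, map_inv, Perm.sign_swap (by decide), hsign]
    decide
  have h2 : swap (0 : Fin 6) 1 ∈ monValidSubgroup (hexacode F ω) := by
    have := mul_mem hσ (hge h1)
    rwa [mul_inv_cancel_left] at this
  obtain ⟨c, hc⟩ := h2
  obtain ⟨d, hd0, hcd⟩ := hex_exists_idx hF ω hω c
  have hv := (hex_monValid_iff hF ω hω _ c d hcd).1 hc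
  have hτ : (fun m => (swap (0 : Fin 6) 1).symm m) = fun m => swap (0 : Fin 6) 1 m := rfl
  rw [hτ, hex_vec_eta d] at hv
  exact hexSwap01 _ _ _ _ _ _ (hd0 0) (hd0 1) (hd0 2) (hd0 3) (hd0 4) (hd0 5) hv

theorem hex_card (hF : Fintype.card F = 4) (ω : F) (hω : ω ^ 2 + ω + 1 = 0) :
    Nat.card {f : Perm (Fin 6) × (Fin 6 → Fˣ) // MonValid (hexacode F ω) f.1 f.2} = 1080 := by
  classical
  have hV := hex_V_eq hF ω hω
  let c0 : ↥(monValidSubgroup (hexacode F ω)) → (Fin 6 → Fˣ) := fun σ => Classical.choose σ.2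
  have hc0 : ∀ σ : ↥(monValidSubgroup (hexacode F ω)), MonValid (hexacode F ω) σ.1 (c0 σ) :=
    fun σ => Classical.choose_spec σ.2
  let Φ : ↥(monValidSubgroup (hexacode F ω)) × Fˣ →
      {f : Perm (Fin 6) × (Fin 6 → Fˣ) // MonValid (hexacode F ω) f.1 f.2} :=
    fun p => ⟨(p.1.1, fun i => p.2 * c0 p.1 i), (hc0 p.1).smul p.2⟩
  have hbij : Function.Bijective Φ := by
    constructor
    · rintro ⟨σ, l⟩ ⟨σ', l'⟩ h
      have h1 : σ.1 = σ'.1 := congrArg (fun f => f.1.1) h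
      have h1' : σ = σ' := Subtype.ext h1
      subst h1'
      have h2 : (fun i => l * c0 σ i) = fun i => l' * c0 σ i := congrArg (fun f => f.1.2) h
      have h3 := congrFun h2 0
      rw [mul_right_cancel h3]
    · rintro ⟨⟨σ, c⟩, hf⟩
      have hσ : σ ∈ monValidSubgroup (hexacode F ω) := ⟨c, hf⟩
      have hdiv := MonValid.div hf (hc0 ⟨σ, hσ⟩)
      have hconst := hex_diag hF ω hω _ hdiv
      refine ⟨(⟨σ, hσ⟩, c 0 * (c0 ⟨σ, hσ⟩ 0)⁻¹), ?_⟩
      apply Subtype.ext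
      show (σ, fun i => c 0 * (c0 ⟨σ, hσ⟩ 0)⁻¹ * c0 ⟨σ, hσ⟩ i) = (σ, c)
      congr 1
      funext i
      rw [← hconst i 0, inv_mul_cancel_right]
  rw [← Nat.card_congr (Equiv.ofBijective Φ hbij), Nat.card_prod, hV, Nat.card_units,
    nat_card_alternatingGroup, Nat.card_eq_fintype_card (α := F), hF,
    Nat.card_eq_fintype_card (α := Fin 6), Fintype.card_fin]
  decide

theorem hexacode_mon_main [DecidableEq F] (hF : Fintype.card F = 4) (ω : F)
    (hω : ω ^ 2 + ω + 1 = 0) :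
    Nat.card {f : Equiv.Perm (Fin 6) × (Fin 6 → Fˣ) //
      (∀ x ∈ Cfsg.hexacode F ω, Cfsg.monomialMap f.1 f.2 x ∈ Cfsg.hexacode F ω)} = 1080 ∧
    (∀ c : Fin 6 → Fˣ, (∀ x ∈ Cfsg.hexacode F ω, Cfsg.monomialMap 1 c x ∈ Cfsg.hexacode F ω) →
      ∀ i j, c i = c j) ∧
    {σ : Equiv.Perm (Fin 6) | ∃ c : Fin 6 → Fˣ,
      (∀ x ∈ Cfsg.hexacode F ω, Cfsg.monomialMap σ c x ∈ Cfsg.hexacode F ω)} =
      (alternatingGroup (Fin 6) : Set (Equiv.Perm (Fin 6))) := by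
  refine ⟨hex_card hF ω hω, fun c h => hex_diag hF ω hω c h, ?_⟩
  rw [← hex_V_eq hF ω hω]
  rfl

end

end Cfsg.Agent.Lib.Helper16
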