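import Cfsg.Agent.Lib.Helper18.HoloDefs

/-!
# A linear-algebra certificate checker for the holonomy argument, with parameters (helper16)

Generalisation of helper18's `Cfsg.Agent.Lib.Helper18.HoloCheck` (S2046): `nl` letters, forms modulo `M`
(for an abelian group of exponent dividing `M`), final conclusion "all edge values are powers of one element
`s` with `s ^ N = 1`".

Variables are natural numbers: the edge `(c, l)` is `(nl + 1) * c + l`, the value of the relator `j` is
`(nl + 1) * j + nl`.  A *form* is a list of exponents (mod `M`, implicitly padded with zeros) over a list of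
seeds.
-/

set_option autoImplicit false

namespace Cfsg.Agent.Lib.Helper16.HoloG

open Cfsg.Agent.Lib.Helper18.Holo

/-! ### forms -/

/-- addition of forms -/
def vadd : List ℕ → List ℕ → List ℕ
  | [], g => g
  | f, [] => f
  | a :: f, b :: g => (a + b) :: vadd f g

/-- multiplication of a form by a scalar -/
def vsmul (k : ℕ) (f : List ℕ) : List ℕ := f.map (k * ·)

/-- the negative of a form (mod `M`) -/
def vneg (M : ℕ) (f : List ℕ) : List ℕ := vsmul (M - 1) f

/-- equality of forms mod `M` -/
def veqM (M : ℕ) : List ℕ → List ℕ → Bool
  | [], g => g.all (· % M == 0)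
  | f, [] => f.all (· % M == 0)
  | a :: f, b :: g => (a % M == b % M) && veqM M f g

/-- the `t`-th unit form -/
def vunit (t : ℕ) : List ℕ := List.replicate t 0 ++ [1]

/-- the value of a form on a list of seeds -/
def sem {A : Type*} [CommGroup A] : List A → List ℕ → A
  | [], _ => 1
  | _, [] => 1
  | s :: S, e :: f => s ^ e * sem S f

/-! ### the checker -/

/-- bind an evaluated natural number (kernel-friendly `let`) -/
def force {α : Type} (x : ℕ) (f : ℕ → α) : α := Nat.rec (f 0) (fun m _ => f m) (x + 1)

theorem force_eq {α : Type} (x : ℕ) (f : ℕ → α) : force x f = f x := rfl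

/-- the data of a certificate -/
structure Cert where
  /-- number of letters -/
  nl : ℕ
  /-- the modulus of the forms -/
  M : ℕ
  /-- the order of the final generator -/
  N : ℕ
  /-- number of cosets -/
  n : ℕ
  /-- the coset table -/
  nxt : ℕ → ℕ → ℕ
  /-- number of relators -/
  nr : ℕ
  /-- the relators -/
  rel : ℕ → List ℕ
  /-- the claimed forms of the variables -/
  val : ℕ → List ℕ
  /-- the variables whose value is known to be trivial -/
  isBase : ℕ → Bool
  /-- the seed variables -/
  seeds : List ℕ
  /-- the step at which a variable is determined -/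
  pos : ℕ → ℕ
  /-- the variable determined at a step -/
  ord : ℕ → ℕ

/-- the variable of the value of the relator `j` -/
def Cert.rv (C : Cert) (j : ℕ) : ℕ := (C.nl + 1) * j + C.nl

/-- the variable `u` has been determined before step `k` -/
def known (C : Cert) (k u : ℕ) : Bool :=
  force (C.pos u) fun p => decide (p < k) && (C.ord p == u)

/-- walk along the word `w` from the coset `c` (last letter first): the final coset, the sum of the forms
of the known edges, and the number of occurrences of the target edge `v` -/
def cyc (C : Cert) (k v : ℕ) : List ℕ → ℕ → Option (ℕ × List ℕ × ℕ)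
  | [], c => some (c, [], 0)
  | l :: w, c =>
    match cyc C k v w c with
    | none => none
    | some (cur, acc, cnt) =>
      if l < C.nl then
        force ((C.nl + 1) * cur + l) fun e =>
          if e = v then some (C.nxt cur l, acc, cnt + 1)
          else if known C k e then some (C.nxt cur l, vadd acc (C.val e), cnt)
          else none
      else none

/-- the steps of a certificate -/
inductive Step where
  /-- the variable `v` is trivial -/
  | base (v : ℕ)
  /-- the variable `v` is the seed number `t` -/
  | seed (v t : ℕ)
  /-- the edge `e` is determined by the relator `j` at the coset `c` -/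
  | solveE (e j c : ℕ)
  /-- the value of the relator `j` is determined at the coset `c` -/
  | solveR (j c : ℕ)

/-- the variable of a step -/
def Step.var (C : Cert) : Step → ℕ
  | .base v => v
  | .seed v _ => v
  | .solveE e _ _ => e
  | .solveR j _ => C.rv j

/-- one step, at time `k` -/
def stepOK (C : Cert) (k : ℕ) : Step → Bool
  | .base v => C.isBase v && veqM C.M (C.val v) []
  | .seed v t => (C.seeds[t]? == some v) && veqM C.M (C.val v) (vunit t)
  | .solveE e j c =>
    decide (j < C.nr) && decide (c < C.n) && decide (e % (C.nl + 1) < C.nl) &&
      match cyc C k e (C.rel j) c with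
      | some (c', acc, cnt) =>
        (c' == c) && (cnt == 1) && known C k (C.rv j) &&
          veqM C.M (C.val e) (vadd (C.val (C.rv j)) (vneg C.M acc))
      | none => false
  | .solveR j c =>
    decide (j < C.nr) && decide (c < C.n) &&
      match cyc C k (C.rv j) (C.rel j) c with
      | some (c', acc, _) => (c' == c) && veqM C.M (C.val (C.rv j)) acc
      | none => false

/-- all steps, starting at time `k`; the step at time `k` determines the variable `ord k` -/
def runSteps (C : Cert) : List Step → ℕ → Bool
  | [], _ => true
  | s :: ss, k =>
    (C.ord k == s.var C) && (C.pos (s.var C) == k) && stepOK C k s && runSteps C ss (k + 1)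

/-- all edges are known -/
def edgesDone (C : Cert) (k : ℕ) : Bool :=
  (List.range C.n).all fun c => (List.range C.nl).all fun l => known C k ((C.nl + 1) * c + l)

/-- the relation among the seeds given by the relator `j` at the coset `c` (all variables known) -/
def seedRel (C : Cert) (k : ℕ) (jc : ℕ × ℕ) : Option (List ℕ) :=
  if decide (jc.1 < C.nr) && decide (jc.2 < C.n) && known C k (C.rv jc.1) then
    match cyc C k C.nl (C.rel jc.1) jc.2 with
    | some (c', acc, _) =>
      if c' == jc.2 then some (vadd acc (vneg C.M (C.val (C.rv jc.1)))) else none
    | none => none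
  else none

/-- all seed relations -/
def seedRels (C : Cert) (k : ℕ) : List (ℕ × ℕ) → Option (List (List ℕ))
  | [] => some []
  | jc :: rest =>
    match seedRel C k jc, seedRels C k rest with
    | some R, some Rs => some (R :: Rs)
    | _, _ => none

/-- linear combination of forms -/
def vcomb : List ℕ → List (List ℕ) → List ℕ
  | [], _ => []
  | _, [] => []
  | y :: ys, R :: Rs => vadd (vsmul y R) (vcomb ys Rs)

/-- the final elimination: row `0` gives `N s₀ = 0`, row `t ≥ 1` gives `s_t = a_t s₀` -/
def elimOK (M N : ℕ) (Rs : List (List ℕ)) : ℕ → List (List ℕ) → List ℕ → Bool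
  | _, [], [] => true
  | t, Y :: Ys, a :: as =>
    (if t = 0 then veqM M (vcomb Y Rs) [N] else veqM M (vadd (vcomb Y Rs) [a]) (vunit t)) &&
      elimOK M N Rs (t + 1) Ys as
  | _, _, _ => false

/-- the whole check -/
def check (C : Cert) (steps : List Step) (chk : List (ℕ × ℕ)) (Ys : List (List ℕ)) (as : List ℕ) :
    Bool :=
  runSteps C steps 0 && edgesDone C steps.length &&
    match seedRels C steps.length chk with
    | none => false
    | some Rs => (Ys.length == C.seeds.length) && elimOK C.M C.N Rs 0 Ys as

end Cfsg.Agent.Lib.Helper16.HoloG
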