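import Mathlib
import Cfsg.Agent.Lib.Helper16.IcoBridge
import Cfsg.Agent.Lib.Helper14.IcoBU

/-!
# Block B of the icosian `J₂` front is complete  (helper16; the proofs are helper14's and helper29's)
-/

set_option autoImplicit false

namespace Cfsg.Agent.Lib.Helper16.IcoBlockB

open Quaternion Cfsg.Agent.Lib.Helper16.IcoBridge

/-- the classification of the minimal vectors of the icosian Leech lattice, in the shape used by `IcoBridge` -/
theorem blockB : BlockB :=
  ⟨Cfsg.Agent.Lib.Helper14.IcoB.classify, Cfsg.Agent.Lib.Helper14.IcoB.unique_line,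
    Cfsg.Agent.Lib.Helper14.IcoB.C_nodup⟩

/-- **S1621** -/
theorem S1621 :
    {r : Fin 3 → ℍ[ℝ] | r ∈ Cfsg.Spor.icoLeech ∧ Cfsg.Spor.qip r r = 4}.ncard = 37800 ∧
      {f : Equiv.Perm ↥Cfsg.Spor.icoLeech | Cfsg.Spor.IsIcoReflection f}.ncard = 315 :=
  S1621_of_blockB blockB

end Cfsg.Agent.Lib.Helper16.IcoBlockB
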