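import Mathlib
import Cfsg.Agent.Lib.Helper16.IcoAsm
import Cfsg.Agent.Lib.Helper9.RankList

/-!
# Simplicity of a certified permutation group of degree `315` from its suborbit data  (helper16)

Generic wrapper around helper9's `simple_of_rankList_pgens_num` for groups given in helper28's packed format.
-/

set_option autoImplicit false
set_option linter.unusedVariables false
set_option linter.unusedSectionVars false

namespace Cfsg.Agent.Lib.Helper16.IcoSimple

open Cfsg.Agent.Lib.Helper16.IcoEval Cfsg.Agent.Lib.Helper16.IcoAsm Cfsg.Agent.Lib.Helper28.BSGS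

/-- the set of points with numbers in a list -/
def orbSet (o : List ℕ) : Finset (Fin 315) := Finset.univ.filter fun x => x.val ∈ o

theorem mem_orbSet {o : List ℕ} {x : Fin 315} : x ∈ orbSet o ↔ x.val ∈ o := by
  unfold orbSet
  rw [Finset.mem_filter]
  simp only [Finset.mem_univ, true_and]

theorem card_orbSet {o : List ℕ} (hnd : o.Nodup) (hlt : ∀ a ∈ o, a < 315) : (orbSet o).card = o.length := by
  have h : (orbSet o).map Fin.valEmbedding = o.toFinset := by
    ext a
    rw [Finset.mem_map, List.mem_toFinset]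
    constructor
    · rintro ⟨x, hx, rfl⟩
      exact mem_orbSet.mp hx
    · intro ha
      exact ⟨⟨a, hlt a ha⟩, mem_orbSet.mpr ha, rfl⟩
  rw [← Finset.card_map Fin.valEmbedding, h, List.toFinset_card_of_nodup hnd]

/-- the suborbit data of a point stabiliser and the `p`-generation certificate -/
structure SimpleSide (w : ℕ) (gens : List (ℕ × ℕ)) (levels : List CLevel) (b0 : ℕ) (orbs : List (ℕ × List ℕ))
    (p k : ℕ) (fs : List (ℕ × ℕ × ℕ × ℕ)) : Prop where
  b0_lt : b0 < 315
  orb_ok : ∀ o ∈ orbs, o.1 < 315 ∧ orbitOK w (nextGens w gens b0) [o.1] o.2 = true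
  nodup : ∀ o ∈ orbs, nodupB (o.1 :: o.2) = true
  cover_all : ∀ x ∈ List.range 315, (x == b0 || orbs.any fun o => (o.1 :: o.2).contains x) = true
  not_b0 : ∀ o ∈ orbs, (o.1 :: o.2).contains b0 = false
  hp : p.Prime
  hpk : p ^ k ∣ 315
  hG : ¬ p ^ (k + 1) ∣ 604800
  hsum : (orbs.map fun o => (o.1 :: o.2).length).sum + 1 = 315
  hdiv : ∀ s ∈ (orbs.map fun o => (o.1 :: o.2).length).sublists, s ≠ [] →
    s.length < (orbs.map fun o => (o.1 :: o.2).length).length → ¬ (s.sum + 1) ∣ 315
  prods : prodsOK 315 w levels p gens fs = true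

variable {w : ℕ} {m : ℕ} {gens : List (ℕ × ℕ)} {levels : List CLevel} {b0 : ℕ} {orbs : List (ℕ × List ℕ)}
  {p k : ℕ} {fs : List (ℕ × ℕ × ℕ × ℕ)}

theorem simple_genGroup (hP : PermSide w m gens levels) (hS : SimpleSide w gens levels b0 orbs p k fs) :
    IsSimpleGroup (genGroup 315 w gens) := by
  classical
  have hcard := card_genGroup hP
  have hnt : Nontrivial (genGroup 315 w gens) := by
    rw [← Finite.one_lt_card_iff_nontrivial, hcard]
    norm_num
  have hHle := nextGens_le 315 w gens b0 hS.b0_lt hP.gens_ok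
  have hlt : ∀ o ∈ orbs, ∀ a ∈ o.1 :: o.2, a < 315 := by
    intro o ho a ha
    rcases List.mem_cons.mp ha with rfl | ha'
    · exact (hS.orb_ok o ho).1
    · exact (perm_orbit 315 w _ (gensOK_next 315 w hP.gens_ok b0) o.1 (hS.orb_ok o ho).1 o.2 (hS.orb_ok o ho).2 a ha').1
  refine Cfsg.Agent.Lib.Helper9.RankList.simple_of_rankList_pgens_num (genGroup 315 w gens) (pt 315 b0)
    (orbs.map fun o => orbSet (o.1 :: o.2)) p k hS.hp ?_ ?_ hnt ?_ (genGroup 315 w (nextGens w gens b0)) hHle.1 hHle.2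
    ?_ ?_ ?_ (orbs.map fun o => (o.1 :: o.2).length) ?_ ?_ ?_ {s | s ∈ semGens 315 w gens} (le_refl _) ?_
  · rw [Fintype.card_fin]; exact hS.hpk
  · rw [hcard]; exact hS.hG
  · intro x
    exact transitive_genGroup hP (pt 315 b0) x
  · -- transitivity of the stabiliser on each suborbit
    intro O hO x hx y hy
    obtain ⟨o, ho, rfl⟩ := List.mem_map.mp hO
    have hreach : ∀ z ∈ orbSet (o.1 :: o.2), ∃ g ∈ genGroup 315 w (nextGens w gens b0), g (pt 315 o.1) = z := by
      intro z hz
      rcases List.mem_cons.mp (mem_orbSet.mp hz) with h0 | hmem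
      · refine ⟨1, Subgroup.one_mem _, ?_⟩
        rw [Equiv.Perm.one_apply, ← h0, pt_of_val]
      · obtain ⟨_, g, hg, hgb⟩ := perm_orbit 315 w _ (gensOK_next 315 w hP.gens_ok b0) o.1 (hS.orb_ok o ho).1 o.2
          (hS.orb_ok o ho).2 z.val hmem
        exact ⟨g, hg, by rw [hgb, pt_of_val]⟩
    obtain ⟨g1, hg1, h1⟩ := hreach x hx
    obtain ⟨g2, hg2, h2⟩ := hreach y hy
    refine ⟨g2 * g1⁻¹, Subgroup.mul_mem _ hg2 (Subgroup.inv_mem _ hg1), ?_⟩
    rw [Equiv.Perm.mul_apply, ← h1, Cfsg.Agent.Lib.Helper16.IcoLin.perm_inv_apply, h2]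
  · -- covering
    intro x
    have h := hS.cover_all x.val (List.mem_range.mpr x.2)
    rw [Bool.or_eq_true, beq_iff_eq, List.any_eq_true] at h
    rcases h with h | ⟨o, ho, hc⟩
    · left
      rw [← h, pt_of_val]
    · right
      exact ⟨_, List.mem_map.mpr ⟨o, ho, rfl⟩, mem_orbSet.mpr (List.contains_iff_mem.mp hc)⟩
  · -- the base point is in no suborbit
    intro O hO hx0
    obtain ⟨o, ho, rfl⟩ := List.mem_map.mp hO
    have h1 := mem_orbSet.mp hx0
    rw [pt_val 315 hS.b0_lt] at h1
    have h2 := hS.not_b0 o ho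
    rw [List.contains_iff_mem.mpr h1] at h2
    exact Bool.noConfusion h2
  · -- sizes
    rw [List.map_map]
    apply List.map_congr_left
    intro o ho
    exact card_orbSet (nodupB_sound _ (hS.nodup o ho)) (hlt o ho)
  · rw [Fintype.card_fin]; exact hS.hsum
  · rw [Fintype.card_fin]; exact hS.hdiv
  · intro t ht
    exact prodsOK_sound 315 w gens levels hP.gens_ok hP.chain_ok p fs hS.prods t ht

/-- two generators that do not commute -/
theorem exists_noncomm (hP : PermSide w m gens levels) (i j a : ℕ) (hi : i < gens.length) (hj : j < gens.length)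
    (ha : a < 315)
    (hne : look w (gtab gens i) (look w (gtab gens j) a) ≠ look w (gtab gens j) (look w (gtab gens i) a)) :
    ∃ x y : genGroup 315 w gens, x * y ≠ y * x := by
  refine ⟨⟨gperm 315 w gens i, gperm_mem hi⟩, ⟨gperm 315 w gens j, gperm_mem hj⟩, fun h => hne ?_⟩
  have h1 := congrArg (fun g : genGroup 315 w gens => ((g : Equiv.Perm (Fin 315)) ⟨a, ha⟩).val) h
  simp only [Subgroup.coe_mul, Equiv.Perm.mul_apply] at h1
  rw [gperm_apply hP.gens_ok hi, gperm_apply hP.gens_ok hj, gperm_apply hP.gens_ok hj, gperm_apply hP.gens_ok hi] at h1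
  exact h1

end Cfsg.Agent.Lib.Helper16.IcoSimple
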