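import Mathlib
import Cfsg.Agent.Lib.Helper16.IcoSimple
import Cfsg.Agent.Lib.Helper11.IcoReflData
import Cfsg.Agent.Lib.Helper11.IcoPermCert

/-!
# The icosian `J₂`: final assembly  (helper16)

From Block B (`hB : IcoBridge.BlockB`) and helper11's certified permutation data of degree `315`:
`range_alpha_eq`, `card_range`, `J2Equiv`, `transitive`, and the rows `S1619_of_blockB`, `S1620_of_blockB`,
`S1622_of_blockB`.
-/

set_option autoImplicit false
set_option linter.unusedVariables false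

namespace Cfsg.Agent.Lib.Helper16.IcoFinal

open Cfsg.Spor Quaternion Cfsg.Agent.Lib.Helper11.Ico Cfsg.Agent.Lib.Helper16.IcoLin
  Cfsg.Agent.Lib.Helper16.IcoNeg Cfsg.Agent.Lib.Helper16.IcoKer Cfsg.Agent.Lib.Helper16.IcoLines
  Cfsg.Agent.Lib.Helper16.IcoUnits Cfsg.Agent.Lib.Helper16.IcoBridge Cfsg.Agent.Lib.Helper16.IcoGen
  Cfsg.Agent.Lib.Helper16.IcoEval Cfsg.Agent.Lib.Helper16.IcoAsm Cfsg.Agent.Lib.Helper16.IcoSimple
  Cfsg.Agent.Lib.Helper28.BSGS

/-! ## A1: the four generator tables are the line permutations of the reflections in the lines `gidx` -/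

def us0 : List ℕ := [59, 58, 119, 45, 60, 60, 60, 60, 60, 60, 60, 60, 74, 0, 61, 60, 42, 42, 49, 49, 109, 109, 96, 96, 23, 23, 10, 10, 70, 70, 77, 77, 84, 84, 48, 48, 12, 12, 90, 90, 29, 29, 107, 107, 71, 71, 35, 35, 36, 36, 72, 72, 110, 110, 30, 30, 89, 89, 9, 9, 47, 47, 83, 83, 78, 78, 73, 73, 11, 11, 24, 24, 95, 95, 108, 108, 46, 46, 41, 41, 59, 59, 59, 59, 59, 59, 59, 59, 119, 58, 4, 4, 118, 118, 19, 19, 101, 101, 20, 20, 102, 102, 3, 3, 117, 117, 2, 2, 116, 116, 17, 17, 99, 99, 18, 18, 100, 100, 1, 1, 115, 115, 20, 20, 102, 102, 3, 3, 117, 117, 4, 4, 118, 118, 19, 19, 101, 101, 18, 18, 100, 100, 1, 1, 115, 115, 2, 2, 116, 116, 17, 17, 99, 99, 61, 61, 61, 61, 61, 61, 61, 61, 77, 77, 35, 35, 83, 83, 41, 41, 107, 107, 9, 9, 70, 70, 46, 46, 90, 90, 96, 96, 24, 24, 30, 30, 4, 4, 118, 118, 19, 19, 101, 101, 109, 109, 11, 11, 71, 71, 47, 47, 20, 20, 102, 102, 3, 3, 117, 117, 60, 60, 60, 60, 60, 60, 60, 60, 0, 0, 0,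 0, 0, 0, 0, 0, 45, 45, 45, 45, 45, 45, 45, 45, 74, 74, 74, 74, 74, 74, 74, 74, 119, 119, 119, 119, 119, 119, 119, 119, 59, 59, 59, 59, 59, 59, 59, 59, 2, 2, 116, 116, 17, 17, 99, 99, 72, 72, 48, 48, 108, 108, 10, 10, 18, 18, 100, 100, 1, 1, 115, 115, 89, 89, 95, 95, 23, 23, 29, 29, 73, 73, 49, 49, 110, 110, 12, 12, 78, 78, 36, 36, 84, 84, 42, 42, 58, 58, 58, 58, 58, 58, 58, 58, 61]
def us1 : List ℕ := [7, 34, 8, 33, 5, 21, 22, 89, 6, 41, 42, 90, 30, 77, 29, 78, 46, 82, 12, 55, 5, 107, 119, 25, 15, 54, 17, 7, 108, 1, 27, 0, 47, 37, 18, 7, 11, 110, 13, 119, 68, 38, 53, 2, 6, 108, 93, 0, 10, 107, 39, 7, 92, 0, 8, 19, 109, 5, 48, 40, 119, 14, 50, 3, 20, 8, 32, 16, 79, 49, 9, 56, 109, 4, 0, 26, 28, 119, 6, 110, 70, 83, 14, 51, 71, 41, 21, 65, 4, 3, 84, 83, 80, 79, 17, 119, 76, 86, 115, 5, 36, 18, 6, 118, 39, 100, 35, 19, 96, 1, 38, 101, 4, 95, 75, 85, 0, 119, 82, 81, 78, 77, 24, 25, 116, 3, 28, 23, 8, 84, 87, 88, 93,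 94, 18, 0, 95, 89, 96, 90, 119, 119, 91, 92, 97, 98, 117, 2, 99, 20, 7, 83, 17, 102, 91, 14, 116, 90, 0, 31, 98, 14, 92, 20, 10, 89, 80, 55, 86, 69, 115, 115, 70, 83, 17, 93, 15, 96, 118, 118, 0, 97, 100, 100, 73, 88, 4, 1, 40, 27, 119, 119, 3, 64, 0, 98, 14, 116, 90, 11, 16, 91, 102, 78, 101, 119, 49, 99, 48, 117, 78, 82, 76, 102, 115, 71, 68, 54, 97, 117, 0, 94, 13, 89, 32, 13, 79, 72, 99, 57, 77, 118, 75, 67, 18, 95, 99, 88, 12, 15, 72, 92, 63, 117, 85, 53, 81, 46, 100, 84, 9, 19, 71, 102, 16, 96, 93, 87, 100, 119, 118, 119, 36, 116, 119, 115, 81, 56, 52, 75, 101, 101, 78, 48, 2, 63, 119, 0, 26, 37, 69, 66, 84, 73, 117, 13, 77, 47, 44, 99, 85, 66, 79, 62, 87, 70, 43, 102, 16, 95, 15, 94, 76, 51, 65, 82, 50, 83, 116, 49, 86, 101, 64, 80, 119]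
def us2 : List ℕ := [119, 45, 60, 61, 0, 74, 59, 58, 61, 60, 45, 119, 58, 59, 74, 0, 109, 10, 96, 23, 77, 42, 70, 49, 70, 49, 77, 42, 96, 23, 109, 10, 90, 29, 107, 12, 71, 48, 84, 35, 84, 35, 71, 48, 107, 12, 90, 29, 83, 36, 72, 47, 110, 9, 89, 30, 89, 30, 110, 9, 72, 47, 83, 36, 73, 46, 78, 41, 95, 24, 108, 11, 108, 11, 95, 24, 78, 41, 73, 46, 0, 74, 59, 58, 61, 60, 45, 119, 0, 119, 99, 20, 117, 2, 102, 17, 116, 3, 115, 4, 100, 19, 101, 18, 118, 1, 118, 1, 101, 18, 100, 19, 115, 4, 116, 3, 102, 17, 117, 2, 99, 20, 115, 4, 100, 19, 101, 18, 118, 1, 99, 20, 117, 2, 102, 17, 116, 3, 116, 3, 102, 17, 117, 2, 99, 20, 118, 1, 101, 18, 100, 19, 115, 4, 49, 30, 11, 84, 35, 108, 89, 70, 74, 45, 61, 58, 60, 59, 119, 0, 119, 0, 74, 45, 61, 58, 60, 59, 60, 59, 119, 0, 74, 45, 61, 58, 99, 20, 117, 2, 102, 17, 116, 3, 60, 59, 61, 58, 74, 45, 119, 0, 115, 4, 100, 19, 101, 18, 118, 1, 46, 29, 10, 83, 36, 109, 90, 73, 47, 41, 12,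 23, 96, 107, 78, 72, 48, 42, 9, 24, 95, 110, 77, 71, 48, 42, 9, 24, 95, 110, 77, 71, 47, 41, 12, 23, 96, 107, 78, 72, 46, 29, 10, 83, 36, 109, 90, 73, 118, 1, 101, 18, 100, 19, 115, 4, 119, 0, 74, 45, 61, 58, 60, 59, 116, 3, 102, 17, 117, 2, 99, 20, 61, 58, 74, 45, 119, 0, 60, 59, 60, 59, 61, 58, 74, 45, 119, 0, 119, 0, 60, 59, 61, 58, 74, 45, 49, 30, 11, 84, 35, 108, 89, 70, 0]
def us3 : List ℕ := [21, 23, 108, 119, 3, 1, 45, 119, 77, 0, 4, 2, 49, 10, 113, 8, 112, 12, 11, 0, 70, 61, 37, 5, 7, 13, 119, 119, 46, 73, 1, 35, 26, 25, 29, 90, 22, 77, 4, 94, 1, 79, 16, 40, 13, 38, 33, 42, 92, 3, 119, 104, 48, 4, 105, 5, 8, 57, 34, 0, 36, 98, 10, 2, 3, 9, 0, 46, 11, 96, 6, 93, 39, 8, 119, 109, 45, 49, 4, 33, 58, 29, 78, 21, 111, 87, 89, 30, 60, 84, 91, 78, 37, 86, 79, 35, 13, 119, 0, 95, 81, 14, 11, 85, 84, 15, 44, 77, 76, 43, 40, 80, 117, 119, 106, 2, 104, 82, 75, 105, 83, 108, 19, 32, 112, 94, 89, 109, 113, 97, 98, 17,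 95, 8, 18, 93, 119, 100, 24, 0, 92, 6, 7, 90, 10, 87, 88, 84, 28, 96, 91, 82, 119, 32, 117, 81, 86, 85, 79, 84, 78, 119, 109, 80, 77, 112, 17, 61, 38, 112, 113, 76, 17, 83, 109, 10, 0, 74, 18, 59, 44, 82, 62, 113, 75, 5, 50, 75, 57, 82, 83, 71, 117, 117, 59, 0, 49, 73, 56, 54, 66, 67, 117, 8, 0, 85, 84, 17, 16, 81, 78, 112, 83, 104, 65, 41, 53, 96, 52, 10, 79, 109, 46, 88, 24, 105, 13, 109, 95, 70, 119, 80, 70, 104, 113, 70, 91, 23, 49, 86, 108, 63, 112, 119, 77, 0, 108, 93, 11, 11, 76, 13, 30, 20, 113, 119, 105, 98, 94, 69, 62, 97, 89, 48, 100, 100, 18, 15, 9, 16, 73, 0, 119, 119, 39, 100, 71, 87, 92, 12, 90, 14, 104, 95, 104, 42, 93, 108, 19, 60, 74, 45, 74, 108, 98, 105, 89, 27, 105, 19, 20, 58, 31, 97, 94, 20, 119, 87, 88, 92, 96, 90, 91, 100, 119]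

set_option maxRecDepth 100000 in
theorem tab0 : tableOK 9 13 (gtab PD.gens 0) us0 = true := by decide +kernel
set_option maxRecDepth 100000 in
theorem tab1 : tableOK 9 277 (gtab PD.gens 1) us1 = true := by decide +kernel
set_option maxRecDepth 100000 in
theorem tab2 : tableOK 9 4 (gtab PD.gens 2) us2 = true := by decide +kernel
set_option maxRecDepth 100000 in
theorem tab3 : tableOK 9 195 (gtab PD.gens 3) us3 = true := by decide +kernel

theorem pj_eq_permOf2 (hB : BlockB) (w : ℕ) (j : Fin 315) (t t' : ℕ) (us : List ℕ)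
    (h : tableOK w j t us = true) (hp : pairOK 315 w t t' = true) :
    pj (lineData hB) j = permOf 315 w t t' := by
  ext k
  rw [pj_apply_of_tableOK hB w j t us h k, permOf_apply hp]

theorem gens_length : PD.gens.length = 9 := by decide

theorem pair_ok (k : ℕ) (hk : k < PD.gens.length) :
    pairOK 315 9 (PD.gens.getD k (0, 0)).1 (PD.gens.getD k (0, 0)).2 = true :=
  gensOK_spec 315 9 PD.gens_ok _ (getD_mem hk)

theorem linked (hB : BlockB) : Linked hB 9 gidx PD.gens := by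
  intro g hg
  have hg4 : g < 4 := hg
  interval_cases g
  · exact ⟨by decide, pj_eq_permOf2 hB 9 _ _ _ us0 tab0 (pair_ok 0 (by rw [gens_length]; norm_num))⟩
  · exact ⟨by decide, pj_eq_permOf2 hB 9 _ _ _ us1 tab1 (pair_ok 1 (by rw [gens_length]; norm_num))⟩
  · exact ⟨by decide, pj_eq_permOf2 hB 9 _ _ _ us2 tab2 (pair_ok 2 (by rw [gens_length]; norm_num))⟩
  · exact ⟨by decide, pj_eq_permOf2 hB 9 _ _ _ us3 tab3 (pair_ok 3 (by rw [gens_length]; norm_num))⟩

/-! ## the permutation side -/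

set_option maxRecDepth 100000 in
theorem cover0 : coverOK (0, PD.tr0) = true := by decide +kernel

theorem letters_lt : ∀ i ∈ List.range 5, ∀ l ∈ PD.words.getD i [], l < 4 := by decide +kernel

theorem permSide : PermSide 9 gidx.length PD.gens PD.levels where
  gens_ok := PD.gens_ok
  chain_ok := PD.chain_ok
  size := PD.size_ok
  cover := by
    intro lv hlv
    have : lv = (0, PD.tr0) := by
      have h : PD.levels.head? = some (0, PD.tr0) := rfl
      rw [h] at hlv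
      exact (Option.some.inj hlv).symm
    rw [this]
    exact cover0
  m_pos := by decide
  m_le := by rw [gens_length]; decide
  words := by
    intro k hk4 hk9
    have hk4' : 4 ≤ k := hk4
    rw [gens_length] at hk9
    have hi : k - 4 ∈ List.range 5 := List.mem_range.mpr (by omega)
    refine ⟨PD.words.getD (k - 4) [], ?_, ?_⟩
    · intro i hi'
      have := letters_lt (k - 4) hi i hi'
      refine ⟨this, ?_⟩
      rw [gens_length]
      omega
    · have h := PD.words_ok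
      rw [List.all_eq_true] at h
      have h2 := h (k - 4) hi
      have hk : 4 + (k - 4) = k := by omega
      rw [hk] at h2
      exact h2

/-! ## the suborbits of the stabiliser of the line `0` -/

def orbs : List (ℕ × List ℕ) :=
  [(PD.orbA0, PD.orbA), (PD.orbB0, PD.orbB), (PD.orbC0, PD.orbC), (PD.orbD0, PD.orbD), (PD.orbE0, PD.orbE)]

set_option maxRecDepth 100000 in
theorem orbs_nodup : ∀ o ∈ orbs, nodupB (o.1 :: o.2) = true := by decide +kernel

set_option maxRecDepth 100000 in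
theorem orbs_cover : ∀ x ∈ List.range 315, (x == 0 || orbs.any fun o => (o.1 :: o.2).contains x) = true := by
  decide +kernel

theorem orbs_not0 : ∀ o ∈ orbs, (o.1 :: o.2).contains 0 = false := by decide +kernel

theorem orbs_lengths : (orbs.map fun o => (o.1 :: o.2).length) = [80, 160, 10, 32, 32] := by decide +kernel

theorem simpleSide : SimpleSide 9 PD.gens PD.levels 0 orbs 7 1 PD.sevens where
  b0_lt := by norm_num
  orb_ok := by
    intro o ho
    unfold orbs at ho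
    simp only [List.mem_cons, List.mem_nil_iff, or_false] at ho
    rcases ho with rfl | rfl | rfl | rfl | rfl
    · exact ⟨by decide, PD.orbA_ok⟩
    · exact ⟨by decide, PD.orbB_ok⟩
    · exact ⟨by decide, PD.orbC_ok⟩
    · exact ⟨by decide, PD.orbD_ok⟩
    · exact ⟨by decide, PD.orbE_ok⟩
  nodup := orbs_nodup
  cover_all := orbs_cover
  not_b0 := orbs_not0
  hp := by norm_num
  hpk := by norm_num
  hG := by norm_num
  hsum := by rw [orbs_lengths]; rfl
  hdiv := by rw [orbs_lengths]; decide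
  prods := PD.prods_ok

theorem simple_G : IsSimpleGroup (genGroup 315 9 PD.gens) := simple_genGroup permSide simpleSide

theorem noncomm_G : ∃ x y : genGroup 315 9 PD.gens, x * y ≠ y * x :=
  exists_noncomm permSide 0 1 0 (by rw [gens_length]; norm_num) (by rw [gens_length]; norm_num) (by norm_num)
    (by decide +kernel)

/-! ## the results -/

/-- **A2** -/
theorem range_alpha_eq (hB : BlockB) : (alpha (lineData hB)).range = genGroup 315 9 PD.gens :=
  IcoAsm.range_alpha_eq hB permSide (linked hB)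

/-- **A3** -/
theorem card_range (hB : BlockB) : Nat.card (alpha (lineData hB)).range = 604800 :=
  IcoAsm.card_range hB permSide (linked hB)

theorem card_G : Nat.card (genGroup 315 9 PD.gens) = 604800 := card_genGroup permSide

/-- `J₂` is the certified permutation group of degree `315` -/
noncomputable def J2Equiv (hB : BlockB) : J2 ≃* genGroup 315 9 PD.gens := IcoAsm.J2Equiv hB permSide (linked hB)

theorem transitive_G (j j' : Fin 315) : ∃ x ∈ genGroup 315 9 PD.gens, x j = j' := transitive_genGroup permSide j j'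

theorem transitive (hB : BlockB) (j j' : Fin 315) : ∃ g : twoJ2, alpha (lineData hB) g j = j' := by
  obtain ⟨x, hx, hxj⟩ := transitive_G j j'
  rw [← range_alpha_eq hB] at hx
  obtain ⟨g, rfl⟩ := hx
  exact ⟨g, hxj⟩

/-- **S1619** -/
theorem S1619_of_blockB (hB : BlockB) :
    Nat.card twoJ2 = 1209600 ∧ Nat.card (Subgroup.center twoJ2) = 2 ∧
      (∃ z ∈ Subgroup.center twoJ2, ∀ x : icoLeech,
        (((z : Equiv.Perm icoLeech) x : icoLeech) : Fin 3 → ℍ[ℝ]) = -(x : Fin 3 → ℍ[ℝ])) ∧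
      Nat.card J2 = 604800 :=
  IcoAsm.S1619_of hB permSide (linked hB)

/-- **S1620** -/
theorem S1620_of_blockB (hB : BlockB) : IsSimpleGroup J2 ∧ ∃ a b : J2, a * b ≠ b * a :=
  IcoAsm.S1620_of hB permSide (linked hB) simple_G noncomm_G

/-- **S1622** -/
theorem S1622_of_blockB (hB : BlockB) (f f' : Equiv.Perm icoLeech) (hf : IsIcoReflection f)
    (hf' : IsIcoReflection f') : ∃ g ∈ twoJ2, g * f * g⁻¹ = f' :=
  IcoAsm.S1622_of hB permSide (linked hB) f f' hf hf'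

end Cfsg.Agent.Lib.Helper16.IcoFinal
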