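import Mathlib
import Cfsg.Agent.Lib.Helper16.IcoFinal
import Cfsg.Agent.Lib.Helper16.IcoBlockB

/-!
# The rows S1619, S1620, S1622 and the closed forms of the icosian `J₂` assembly  (helper16)
-/

set_option autoImplicit false

namespace Cfsg.Agent.Lib.Helper16.IcoRows

open Cfsg.Spor Quaternion Cfsg.Agent.Lib.Helper11.Ico Cfsg.Agent.Lib.Helper16.IcoLines
  Cfsg.Agent.Lib.Helper16.IcoBridge Cfsg.Agent.Lib.Helper16.IcoBlockB Cfsg.Agent.Lib.Helper16.IcoFinal
  Cfsg.Agent.Lib.Helper28.BSGS

/-- the line data of the icosian Leech lattice (closed term) -/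
noncomputable def D : LineData (Fin 315) := lineData blockB

theorem range_alpha_eq : (alpha D).range = genGroup 315 9 PD.gens := IcoFinal.range_alpha_eq blockB

theorem card_range : Nat.card (alpha D).range = 604800 := IcoFinal.card_range blockB

/-- `J₂` is the certified permutation group of degree `315` -/
noncomputable def J2Equiv : J2 ≃* genGroup 315 9 PD.gens := IcoFinal.J2Equiv blockB

theorem transitive (j j' : Fin 315) : ∃ g : twoJ2, alpha D g j = j' := IcoFinal.transitive blockB j j'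

theorem S1619 :
    Nat.card twoJ2 = 1209600 ∧ Nat.card (Subgroup.center twoJ2) = 2 ∧
      (∃ z ∈ Subgroup.center twoJ2, ∀ x : icoLeech,
        (((z : Equiv.Perm icoLeech) x : icoLeech) : Fin 3 → ℍ[ℝ]) = -(x : Fin 3 → ℍ[ℝ])) ∧
      Nat.card J2 = 604800 :=
  S1619_of_blockB blockB

theorem S1620 : IsSimpleGroup J2 ∧ ∃ a b : J2, a * b ≠ b * a := S1620_of_blockB blockB

theorem S1622 (f f' : Equiv.Perm icoLeech) (hf : IsIcoReflection f) (hf' : IsIcoReflection f') :
    ∃ g ∈ twoJ2, g * f * g⁻¹ = f' :=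
  S1622_of_blockB blockB f f' hf hf'

end Cfsg.Agent.Lib.Helper16.IcoRows
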