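import Mathlib
import Cfsg.Agent.H26.SimpleCrit
import Cfsg.Agent.Lib.Helper28.FusionCrit

/-!
# Simplicity of the `p`-fusion system of a group embedded in an ambient group  (helper16)

`AmbSimple p H S₀ R`: the data of helper26's criterion `Cfsg.Agent.H26.SimpleData` with a single centric subgroup `R`,
stated for a subgroup `H` of an ambient group `Ω` in terms of elements; `AmbSimple.simple` transports it along an
injective homomorphism `ι : G →* Ω` with range `H`.
-/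

set_option autoImplicit false
set_option linter.unusedVariables false

namespace Cfsg.Agent.Lib.Helper16.J2FusA

open Cfsg Cfsg.Agent.H26

/-- the data, inside an ambient group -/
structure AmbSimple {Ω : Type*} [Group Ω] (p : ℕ) (H S₀ R : Subgroup Ω) : Prop where
  le : S₀ ≤ H
  pgroup : IsPGroup p S₀
  ne_bot : S₀ ≠ ⊥
  index : ¬ p ∣ S₀.relIndex H
  closed : ∀ T : Subgroup Ω, T ≤ S₀ →
    (∀ x ∈ T, ∀ g ∈ H, g * x * g⁻¹ ∈ S₀ → g * x * g⁻¹ ∈ T) → T = ⊥ ∨ T = S₀
  R_le : R ≤ S₀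
  R_normal : ∀ s ∈ S₀, ∀ r, r ∈ R ↔ s * r * s⁻¹ ∈ R
  R_cent : ∀ c ∈ H, (∀ r ∈ R, r * c = c * r) → c ∈ R
  R_rad : ∃ g ∈ H, (∀ r, r ∈ R ↔ g * r * g⁻¹ ∈ R) ∧ ∀ s ∈ S₀, g * s * g⁻¹ ∈ S₀ → g * s * g⁻¹ ∈ R
  gen : ∀ n ∈ H, (∀ s, s ∈ S₀ ↔ n * s * n⁻¹ ∈ S₀) →
    n ∈ Subgroup.closure {h | h ∈ H ∧ (∀ r, r ∈ R ↔ h * r * h⁻¹ ∈ R) ∧ ∃ k : ℕ, orderOf h = p ^ k}

theorem AmbSimple.simple {G Ω : Type*} [Group G] [Finite G] [Group Ω] {p : ℕ} [Fact p.Prime]
    (ι : G →* Ω) (hι : Function.Injective ι) {S₀ R : Subgroup Ω} (h : AmbSimple p ι.range S₀ R)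
    (S : Sylow p G) : (groupFusionSystem (S : Subgroup G)).IsSimple p := by
  have hp : IsPGroup p (S₀.comap ι) := h.pgroup.comap_of_injective ι hι
  have hidx : ¬ p ∣ (S₀.comap ι).index := by
    rw [Subgroup.index_comap]
    exact h.index
  have hpre : ∀ s ∈ S₀, ∃ x : G, ι x = s := fun s hs => h.le hs
  have hconj : ∀ a b : G, ι (a * b * a⁻¹) = ι a * ι b * (ι a)⁻¹ := by
    intro a b
    rw [map_mul, map_mul, map_inv]
  refine simple_of_simpleData_all hp hidx (ℛ := {R.comap ι}) ?_ S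
  refine ⟨?_, ?_, ?_, ?_, ?_, ?_, ?_⟩
  · -- ne_bot
    intro hbot
    apply h.ne_bot
    rw [Subgroup.eq_bot_iff_forall]
    intro s hs
    obtain ⟨x, rfl⟩ := hpre s hs
    have hx : x ∈ S₀.comap ι := hs
    rw [hbot, Subgroup.mem_bot] at hx
    rw [hx, map_one]
  · -- closed
    intro T hTS hT
    have h1 : T.map ι ≤ S₀ := by
      rintro _ ⟨x, hx, rfl⟩
      exact hTS hx
    have h2 := h.closed (T.map ι) h1 (by
      rintro _ ⟨x, hx, rfl⟩ _ ⟨g, rfl⟩ hg
      rw [← hconj] at hg ⊢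
      exact ⟨_, hT x hx g hg, rfl⟩)
    rcases h2 with h2 | h2
    · left
      exact (Subgroup.map_eq_bot_iff_of_injective T hι).mp h2
    · right
      rw [← h2, Subgroup.comap_map_eq_self_of_injective hι]
  · -- le
    intro R' hR'
    rw [Set.mem_singleton_iff] at hR'
    rw [hR']
    exact Subgroup.comap_mono h.R_le
  · -- normal
    intro R' hR'
    rw [Set.mem_singleton_iff] at hR'
    rw [hR']
    intro x hx
    rw [Subgroup.mem_normalizer_iff]
    intro y
    rw [Subgroup.mem_comap, Subgroup.mem_comap, hconj]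
    exact h.R_normal (ι x) hx (ι y)
  · -- cent
    intro R' hR'
    rw [Set.mem_singleton_iff] at hR'
    rw [hR']
    intro c hc
    rw [Subgroup.mem_centralizer_iff] at hc
    rw [Subgroup.mem_comap]
    apply h.R_cent (ι c) ⟨c, rfl⟩
    intro r hr
    obtain ⟨y, rfl⟩ := hpre r (h.R_le hr)
    rw [← map_mul, ← map_mul, hc y hr]
  · -- rad
    intro R' hR'
    rw [Set.mem_singleton_iff] at hR'
    rw [hR']
    obtain ⟨g', ⟨g, rfl⟩, hgN, hgS⟩ := h.R_rad
    refine ⟨g, ?_, ?_⟩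
    · rw [Subgroup.mem_normalizer_iff]
      intro y
      rw [Subgroup.mem_comap, Subgroup.mem_comap, hconj]
      exact hgN (ι y)
    · intro x hx
      obtain ⟨hx1, s, hs, hsx⟩ := hx
      have hsx' : g * s * g⁻¹ = x := hsx
      rw [Subgroup.mem_comap, ← hsx', hconj]
      apply hgS (ι s) hs
      rw [← hconj, hsx']
      exact hx1
  · -- gen
    intro n hn
    rw [Subgroup.mem_normalizer_iff] at hn
    have hm : ∀ s, s ∈ S₀ ↔ ι n * s * (ι n)⁻¹ ∈ S₀ := by
      intro s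
      constructor
      · intro hs
        obtain ⟨x, rfl⟩ := hpre s hs
        rw [← hconj]
        exact (hn x).mp hs
      · intro hs
        have hr : s ∈ ι.range := by
          have h3 : s = (ι n)⁻¹ * (ι n * s * (ι n)⁻¹) * ι n := by group
          rw [h3]
          exact ι.range.mul_mem (ι.range.mul_mem (ι.range.inv_mem ⟨n, rfl⟩) (h.le hs)) ⟨n, rfl⟩
        obtain ⟨x, rfl⟩ := hr
        rw [← hconj] at hs
        exact (hn x).mpr hs
    have hmem := h.gen (ι n) ⟨n, rfl⟩ hm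
    apply Subgroup.subset_closure
    simp only [Set.mem_iUnion, Set.mem_singleton_iff, exists_prop, exists_eq_left]
    refine ⟨Subgroup.mem_normalizer_iff.mpr hn, ?_⟩
    unfold pGen
    have hsub : {hh | hh ∈ ι.range ∧ (∀ r, r ∈ R ↔ hh * r * hh⁻¹ ∈ R) ∧ ∃ k : ℕ, orderOf hh = p ^ k} ⊆
        ι '' {g : G | g ∈ Subgroup.normalizer ((R.comap ι : Subgroup G) : Set G) ∧ ∃ k : ℕ, orderOf g = p ^ k} := by
      rintro _ ⟨⟨y, rfl⟩, hyN, k, hk⟩
      refine ⟨y, ⟨?_, k, ?_⟩, rfl⟩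
      · rw [Subgroup.mem_normalizer_iff]
        intro w
        rw [Subgroup.mem_comap, Subgroup.mem_comap, hconj]
        exact hyN (ι w)
      · rw [← hk]
        exact (orderOf_injective ι hι y).symm
    have h4 := Subgroup.closure_mono hsub hmem
    rw [← MonoidHom.map_closure] at h4
    obtain ⟨n', hn', hnn⟩ := h4
    have : n' = n := hι hnn
    rw [← this]
    exact hn'

end Cfsg.Agent.Lib.Helper16.J2FusA
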