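import Mathlib
import Cfsg.Agent.Lib.Helper15.J2CentC
import Cfsg.Agent.Lib.Helper16.J2FusData
import Cfsg.Agent.Lib.Helper15.J2FusX
import Cfsg.Agent.Lib.Helper11.IcoPermData
import Cfsg.Agent.Lib.Helper16.J2FusA

/-!
# The Sylow 2-subgroup `S₀ = Q : V₄` of the 315-point `J₂` and its tables  (helper16)
-/

set_option autoImplicit false
set_option linter.unusedVariables false
set_option maxRecDepth 100000

namespace Cfsg.Agent.Lib.Helper16.J2FusB

open Cfsg.Agent.Lib.Helper28.BSGS Cfsg.Agent.Lib.Helper15.J2CentData Cfsg.Agent.Lib.Helper15.J2CentC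
  Cfsg.Agent.Lib.Helper15.J2FusX Cfsg.Agent.Lib.Helper16.J2FusData Cfsg.Agent.Lib.Helper11.Ico
  Cfsg.Agent.Lib.Helper16.J2FusA

/-! ## the Klein four-group `V = {1, a, b, c}` -/

/-- the tables of `1, a, b, c` -/
def vT (k : Fin 4) : ℕ := [idT, aT, bT, cT].getD k.val 0

/-- the multiplication of `V` -/
def kx (k l : Fin 4) : Fin 4 := ⟨(k.val ^^^ l.val) % 4, Nat.mod_lt _ (by norm_num)⟩

/-- the action of `V` on the indices of `Q` -/
def cvt (k : Fin 4) (i : Fin 32) : Fin 32 :=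
  ⟨(([List.range 32, CA, CB, CC].getD k.val []).getD i.val 0) % 32, Nat.mod_lt _ (by norm_num)⟩

/-- letters of the words in `u`, `v` -/
def letter (k : ℕ) : ℕ := if k = 0 then uU else vU

theorem ok_v : ∀ k : Fin 4, pairOK 315 9 (vT k) (vT k) = true := by decide +kernel
theorem chk_v0 : wordId 315 9 [vT 0] = true := by decide +kernel
theorem chk_vmul : ∀ k l : Fin 4, wordEq 315 9 [vT k, vT l] [vT (kx k l)] = true := by decide +kernel
theorem chk_vconj : ∀ k : Fin 4, ∀ i : Fin 32, wordEq 315 9 [vT k, tu i] [tu (cvt k i), vT k] = true := by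
  decide +kernel
theorem chk_aw : wordEq 315 9 [vT 1] (aW.map letter) = true := by decide +kernel
theorem chk_bw : wordEq 315 9 [vT 2] (bW.map letter) = true := by decide +kernel
theorem chk_vinj : ∀ k l : Fin 4, look 9 (vT k) 1 = look 9 (vT l) 1 → k = l := by decide +kernel
theorem kx_self : ∀ k : Fin 4, kx k k = 0 := by decide
theorem kx_zero : ∀ k : Fin 4, kx k 0 = k := by decide
theorem kx_12 : kx 1 2 = 3 := by decide

/-- the four elements of `V` -/
noncomputable def vv (k : Fin 4) : Equiv.Perm (Fin 315) := permOf 315 9 (vT k) (vT k)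

theorem vv_apply (k : Fin 4) (x : Fin 315) : (vv k x).val = look 9 (vT k) x.val := permOf_apply (ok_v k) x

theorem vv_zero : vv 0 = 1 := eq_one_of_wordId 315 9 (actsByW_single (vv_apply 0)) chk_v0

theorem vv_mul (k l : Fin 4) : vv k * vv l = vv (kx k l) :=
  eq_of_wordEq 315 9 (actsByW_cons (vv_apply k) (actsByW_single (vv_apply l))) (actsByW_single (vv_apply _))
    (chk_vmul k l)

theorem vv_sq (k : Fin 4) : vv k * vv k = 1 := by rw [vv_mul, kx_self, vv_zero]

theorem vv_inv (k : Fin 4) : (vv k)⁻¹ = vv k := inv_eq_of_mul_eq_one_right (vv_sq k)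

theorem vv_conj (k : Fin 4) (i : Fin 32) : vv k * qe i = qe (cvt k i) * vv k :=
  eq_of_wordEq 315 9 (actsByW_cons (vv_apply k) (actsByW_single (qe_apply i)))
    (actsByW_cons (qe_apply _) (actsByW_single (vv_apply k))) (chk_vconj k i)

theorem vv_injective : Function.Injective vv := by
  intro k l h
  apply chk_vinj
  have := congrArg (fun p : Equiv.Perm (Fin 315) => (p 1).val) h
  simp only [vv_apply] at this
  exact this

/-- the permutation of a letter -/
noncomputable def lperm (k : ℕ) : Equiv.Perm (Fin 315) := if k = 0 then ue else ve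

theorem lperm_apply (k : ℕ) (x : Fin 315) : (lperm k x).val = look 9 (letter k) x.val := by
  unfold lperm letter
  split_ifs
  · exact ue_apply x
  · exact ve_apply x

theorem lperm_mem (k : ℕ) : lperm k ∈ As := by
  unfold lperm
  split_ifs
  · exact Subgroup.subset_closure (by simp)
  · exact Subgroup.subset_closure (by simp)

theorem acts_word : ∀ ws : List ℕ, ActsByW 315 9 ((ws.map lperm).prod) (ws.map letter)
  | [] => by simpa using actsByW_one 315 9
  | k :: ws => by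
    rw [List.map_cons, List.prod_cons, List.map_cons]
    exact actsByW_cons (lperm_apply k) (acts_word ws)

theorem word_mem (ws : List ℕ) : (ws.map lperm).prod ∈ As := by
  apply Subgroup.list_prod_mem
  intro x hx
  obtain ⟨k, _, rfl⟩ := List.mem_map.mp hx
  exact lperm_mem k

theorem vv_mem_As (k : Fin 4) : vv k ∈ As := by
  have h1 : vv 1 ∈ As := by
    rw [eq_of_wordEq 315 9 (actsByW_single (vv_apply 1)) (acts_word aW) chk_aw]
    exact word_mem aW
  have h2 : vv 2 ∈ As := by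
    rw [eq_of_wordEq 315 9 (actsByW_single (vv_apply 2)) (acts_word bW) chk_bw]
    exact word_mem bW
  fin_cases k
  · show vv 0 ∈ As
    rw [vv_zero]; exact As.one_mem
  · exact h1
  · exact h2
  · show vv 3 ∈ As
    rw [← kx_12, ← vv_mul]
    exact As.mul_mem h1 h2

/-! ## the subgroups `Q` and `S₀ = Q : V` -/

theorem cvt_zero : ∀ i : Fin 32, cvt 0 i = i := by decide +kernel
theorem cvt_fix0 : ∀ k : Fin 4, cvt k 0 = 0 := by decide +kernel
theorem cvt_fix1 : ∀ k : Fin 4, cvt k 1 = 1 := by decide +kernel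
theorem mt_zero_right : ∀ i : Fin 32, mt i 0 = i := by decide +kernel
theorem mt_zero_left : ∀ i : Fin 32, mt 0 i = i := by decide +kernel
theorem inv_inv' : ∀ i : Fin 32, inv (inv i) = i := by decide +kernel
theorem t_center128 : ∀ i : Fin 32, ∀ k : Fin 4, (∀ j : Fin 32, mt i (cvt k j) = mt j i) →
    (∀ l : Fin 4, cvt l i = i) → (i = 0 ∨ i = 1) ∧ k = 0 := by decide +kernel

/-- `Q = O₂(C(z))`, of order `32` -/
def Qs : Subgroup Ω where
  carrier := Set.range qe
  mul_mem' := by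
    rintro _ _ ⟨i, rfl⟩ ⟨j, rfl⟩
    exact ⟨mt i j, (qe_mul i j).symm⟩
  one_mem' := ⟨0, qe_one⟩
  inv_mem' := by
    rintro _ ⟨i, rfl⟩
    exact ⟨inv i, (qe_inv i).symm⟩

theorem mem_Qs {g : Ω} : g ∈ Qs ↔ ∃ i, qe i = g := Iff.rfl

theorem qe_mem_Qs (i : Fin 32) : qe i ∈ Qs := ⟨i, rfl⟩

/-- the element of `S₀` with coordinates `(i, k)` -/
noncomputable def se (p : Fin 32 × Fin 4) : Ω := qe p.1 * vv p.2

theorem se_mul (p q : Fin 32 × Fin 4) : se p * se q = se (mt p.1 (cvt p.2 q.1), kx p.2 q.2) := by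
  unfold se
  calc qe p.1 * vv p.2 * (qe q.1 * vv q.2) = qe p.1 * (vv p.2 * qe q.1) * vv q.2 := by group
    _ = qe p.1 * (qe (cvt p.2 q.1) * vv p.2) * vv q.2 := by rw [vv_conj]
    _ = (qe p.1 * qe (cvt p.2 q.1)) * (vv p.2 * vv q.2) := by group
    _ = _ := by rw [qe_mul, vv_mul]

theorem se_one : se (0, 0) = 1 := by
  show qe 0 * vv 0 = 1
  rw [qe_one, vv_zero, one_mul]

theorem se_q (i : Fin 32) : se (i, 0) = qe i := by
  show qe i * vv 0 = qe i
  rw [vv_zero, mul_one]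

theorem se_v (k : Fin 4) : se (0, k) = vv k := by
  show qe 0 * vv k = vv k
  rw [qe_one, one_mul]

theorem se_inv (p : Fin 32 × Fin 4) : (se p)⁻¹ = se (cvt p.2 (inv p.1), p.2) := by
  unfold se
  rw [mul_inv_rev, vv_inv, qe_inv, vv_conj]

/-- the Sylow `2`-subgroup `S₀ = Q : V` -/
def S0 : Subgroup Ω where
  carrier := Set.range se
  mul_mem' := by
    rintro _ _ ⟨p, rfl⟩ ⟨q, rfl⟩
    exact ⟨_, (se_mul p q).symm⟩
  one_mem' := ⟨(0, 0), se_one⟩
  inv_mem' := by
    rintro _ ⟨p, rfl⟩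
    exact ⟨_, (se_inv p).symm⟩

theorem mem_S0 {g : Ω} : g ∈ S0 ↔ ∃ p, se p = g := Iff.rfl

theorem se_mem (p : Fin 32 × Fin 4) : se p ∈ S0 := ⟨p, rfl⟩

theorem Qs_le_S0 : Qs ≤ S0 := by
  rintro _ ⟨i, rfl⟩
  exact ⟨(i, 0), se_q i⟩

theorem vv_mem_S0 (k : Fin 4) : vv k ∈ S0 := ⟨(0, k), se_v k⟩

theorem vv_twenty (k : Fin 4) : vv k 20 = 20 := As_fix20 _ (vv_mem_As k)

theorem se_injective : Function.Injective se := by
  intro p q h
  have h1 : qe p.1 20 = qe q.1 20 := by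
    have := congrArg (fun g : Ω => g 20) h
    simp only [se, Equiv.Perm.mul_apply, vv_twenty] at this
    exact this
  have h2 := qe_eq_of_twenty _ _ h1
  have h3 : vv p.2 = vv q.2 := by
    unfold se at h
    rw [h2] at h
    exact mul_left_cancel h
  exact Prod.ext h2 (vv_injective h3)

theorem card_S0 : Nat.card S0 = 128 := by
  have e : (Fin 32 × Fin 4) ≃ S0 := Equiv.ofBijective (fun p => ⟨se p, ⟨p, rfl⟩⟩)
    ⟨fun p q h => se_injective (congrArg Subtype.val h), fun ⟨g, p, hp⟩ => ⟨p, Subtype.ext hp⟩⟩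
  rw [← Nat.card_congr e, Nat.card_eq_fintype_card, Fintype.card_prod, Fintype.card_fin, Fintype.card_fin]

theorem card_Qs : Nat.card Qs = 32 := by
  have e : Fin 32 ≃ Qs := Equiv.ofBijective (fun i => ⟨qe i, ⟨i, rfl⟩⟩)
    ⟨fun i j h => qe_inj (congrArg Subtype.val h), fun ⟨g, i, hi⟩ => ⟨i, Subtype.ext hi⟩⟩
  rw [← Nat.card_congr e, Nat.card_eq_fintype_card, Fintype.card_fin]

/-- the centre of `S₀` is `{1, z}` -/
theorem S0_center (s : Ω) (hs : s ∈ S0) (hc : ∀ t ∈ S0, s * t = t * s) : s = 1 ∨ s = qe 1 := by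
  obtain ⟨p, rfl⟩ := hs
  have h1 : ∀ j : Fin 32, mt p.1 (cvt p.2 j) = mt j p.1 := by
    intro j
    have := hc (se (j, 0)) (se_mem _)
    rw [se_mul, se_mul] at this
    have h3 := congrArg Prod.fst (se_injective this)
    simp only at h3
    rw [cvt_zero] at h3
    exact h3
  have h2 : ∀ l : Fin 4, cvt l p.1 = p.1 := by
    intro l
    have := hc (se (0, l)) (se_mem _)
    rw [se_mul, se_mul] at this
    have h3 := congrArg Prod.fst (se_injective this)
    simp only at h3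
    rw [cvt_fix0, mt_zero_right, mt_zero_left] at h3
    exact h3.symm
  obtain ⟨h3, h4⟩ := t_center128 p.1 p.2 h1 h2
  have hp : p = (p.1, 0) := Prod.ext rfl h4
  rw [hp, se_q]
  rcases h3 with h3 | h3
  · left; rw [h3, qe_one]
  · right; rw [h3]

/-- `z` is central in `S₀` -/
theorem z_central (t : Ω) (ht : t ∈ S0) : qe 1 * t = t * qe 1 := by
  obtain ⟨p, rfl⟩ := ht
  rw [← se_q 1, se_mul, se_mul]
  congr 1
  apply Prod.ext
  · show mt 1 (cvt 0 p.1) = mt p.1 (cvt p.2 1)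
    rw [cvt_zero, cvt_fix1]
    exact (t_cent p.1).symm
  · show kx 0 p.2 = kx p.2 0
    revert p
    decide

/-! ## the fusion certificates -/

/-- table of `q_i` for a natural number index -/
def tuN (i : ℕ) : ℕ := TU.getD i 0

theorem tuN_eq (i : Fin 32) : tuN i.val = tu i := rfl

/-- one conjugator: `g * z * g⁻¹ = q_i`, `g` in the certified group -/
def gzOK (e : ℕ × ℕ × ℕ) : Bool :=
  decide (e.1 < 32) && pairOK 315 9 e.2.1 e.2.2 && siftB 315 9 PD.levels [e.2.1] &&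
    wordEq 315 9 [e.2.1, tuN 1] [tuN e.1, e.2.1]

theorem chk_gz : GZ.all gzOK = true := by decide +kernel

theorem chk_ga : (pairOK 315 9 gaT gaI && siftB 315 9 PD.levels [gaT] &&
    wordEq 315 9 [gaT, tuN 3] [tuN 5, vT 1, gaT]) = true := by decide +kernel

theorem chk_gb : (pairOK 315 9 gbT gbI && siftB 315 9 PD.levels [gbT] &&
    wordEq 315 9 [gbT, tuN 3] [tuN 3, vT 2, gbT]) = true := by decide +kernel

theorem chk_rad : ∀ k l : Fin 4, k ≠ 0 → wordEq 315 9 [uU, vT k] [vT l, uU] = false := by decide +kernel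

/-- the indices of the involutions of `Q` that are conjugate to `z` by the certificates -/
def invIdx : List ℕ := 1 :: GZ.map fun e => e.1

/-- the word of `q_i` in the involutions -/
def wd (i : Fin 32) : List ℕ := WD.getD i.val []

/-- index of a product of involutions -/
def foldIdx (l : List ℕ) : Fin 32 := l.foldr (fun j r => mt ⟨j % 32, Nat.mod_lt _ (by norm_num)⟩ r) 0

theorem chk_wd : ∀ i : Fin 32, foldIdx (wd i) = i ∧ ∀ j ∈ wd i, j ∈ invIdx := by decide +kernel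

/-- the semantic inputs about the ambient certified group `P` -/
structure Sem (P : Subgroup Ω) : Prop where
  hq : ∀ i, qe i ∈ P
  hu : ue ∈ P
  hv : ve ∈ P
  sift : ∀ t t' : ℕ, pairOK 315 9 t t' = true → siftB 315 9 PD.levels [t] = true → permOf 315 9 t t' ∈ P
  card : Nat.card P = 604800
  cardC : Nat.card ↥(P ⊓ MulAction.stabilizer Ω (0 : Fin 315)) = 1920
  comm : ∀ g ∈ P, g * qe 1 = qe 1 * g → g 0 = 0

section sem

variable {P : Subgroup Ω} (hS : Sem P)
include hS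

theorem As_le : As ≤ P := by
  unfold As
  rw [Subgroup.closure_le]
  rintro x (rfl | rfl)
  · exact hS.hu
  · exact hS.hv

theorem S0_le : S0 ≤ P := by
  rintro _ ⟨p, rfl⟩
  exact P.mul_mem (hS.hq _) (As_le hS (vv_mem_As _))

omit hS in
theorem qe_fold (l : List ℕ) :
    qe (foldIdx l) = (l.map fun j => qe ⟨j % 32, Nat.mod_lt _ (by norm_num)⟩).prod := by
  induction l with
  | nil => exact qe_one
  | cons j l ih =>
    rw [List.map_cons, List.prod_cons, ← ih, qe_mul]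
    rfl

/-- a strongly closed subgroup containing `z` is everything -/
theorem closed_gen (T : Subgroup Ω) (hTS : T ≤ S0)
    (hT : ∀ x ∈ T, ∀ g ∈ P, g * x * g⁻¹ ∈ S0 → g * x * g⁻¹ ∈ T) (hz : qe 1 ∈ T) : S0 ≤ T := by
  -- the involutions
  have hinv : ∀ j ∈ invIdx, qe ⟨j % 32, Nat.mod_lt _ (by norm_num)⟩ ∈ T := by
    intro j hj
    unfold invIdx at hj
    rcases List.mem_cons.mp hj with rfl | hj
    · exact hz
    · obtain ⟨e, he, rfl⟩ := List.mem_map.mp hj
      have hok := List.all_eq_true.mp chk_gz e he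
      unfold gzOK at hok
      simp only [Bool.and_eq_true, decide_eq_true_eq] at hok
      obtain ⟨⟨⟨h1, h2⟩, h3⟩, h4⟩ := hok
      have hgP := hS.sift _ _ h2 h3
      have hmod : e.1 % 32 = e.1 := Nat.mod_eq_of_lt h1
      have heq : permOf 315 9 e.2.1 e.2.2 * qe 1 = qe ⟨e.1 % 32, Nat.mod_lt _ (by norm_num)⟩ * permOf 315 9 e.2.1 e.2.2 := by
        refine eq_of_wordEq 315 9 (actsByW_cons (permOf_apply h2) (actsByW_single (qe_apply 1)))
          (actsByW_cons (qe_apply _) (actsByW_single (permOf_apply h2))) ?_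
        have : tu ⟨e.1 % 32, Nat.mod_lt _ (by norm_num)⟩ = tuN e.1 := by
          show tuN (e.1 % 32) = tuN e.1
          rw [hmod]
        rw [this]
        exact h4
      have hc : permOf 315 9 e.2.1 e.2.2 * qe 1 * (permOf 315 9 e.2.1 e.2.2)⁻¹ =
          qe ⟨e.1 % 32, Nat.mod_lt _ (by norm_num)⟩ := by
        rw [heq, mul_inv_cancel_right]
      rw [← hc]
      apply hT _ hz _ hgP
      rw [hc]
      exact Qs_le_S0 (qe_mem_Qs _)
  -- all of `Q`
  have hQ : ∀ i : Fin 32, qe i ∈ T := by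
    intro i
    obtain ⟨h1, h2⟩ := chk_wd i
    rw [← h1, qe_fold]
    apply Subgroup.list_prod_mem
    intro x hx
    obtain ⟨j, hj, rfl⟩ := List.mem_map.mp hx
    exact hinv j (h2 j hj)
  -- `a` and `b`
  have hfuse : ∀ (g gi : ℕ) (q : Fin 32) (k : Fin 4), (pairOK 315 9 g gi && siftB 315 9 PD.levels [g] &&
      wordEq 315 9 [g, tu 3] [tu q, vT k, g]) = true → vv k ∈ T := by
    intro g gi q k hok
    simp only [Bool.and_eq_true] at hok
    obtain ⟨⟨h1, h2⟩, h3⟩ := hok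
    have hgP := hS.sift _ _ h1 h2
    have heq : permOf 315 9 g gi * qe 3 = qe q * (vv k * permOf 315 9 g gi) :=
      eq_of_wordEq 315 9 (actsByW_cons (permOf_apply h1) (actsByW_single (qe_apply 3)))
        (actsByW_cons (qe_apply _) (actsByW_cons (vv_apply k) (actsByW_single (permOf_apply h1)))) h3
    have hc : permOf 315 9 g gi * qe 3 * (permOf 315 9 g gi)⁻¹ = qe q * vv k := by
      rw [heq, ← mul_assoc, mul_inv_cancel_right]
    have h4 : qe q * vv k ∈ T := by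
      rw [← hc]
      apply hT _ (hQ 3) _ hgP
      rw [hc]
      exact se_mem (q, k)
    have h5 : vv k = (qe q)⁻¹ * (qe q * vv k) := by group
    rw [h5]
    exact T.mul_mem (T.inv_mem (hQ q)) h4
  have ha : vv 1 ∈ T := hfuse gaT gaI 5 1 chk_ga
  have hb : vv 2 ∈ T := hfuse gbT gbI 3 2 chk_gb
  have hv : ∀ k : Fin 4, vv k ∈ T := by
    intro k
    fin_cases k
    · show vv 0 ∈ T
      rw [vv_zero]; exact T.one_mem
    · exact ha
    · exact hb
    · show vv 3 ∈ T
      rw [← kx_12, ← vv_mul]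
      exact T.mul_mem ha hb
  rintro _ ⟨p, rfl⟩
  exact T.mul_mem (hQ _) (hv _)

end sem

/-! ## the normaliser of `Q` -/

theorem As_conj_Q {a : Ω} (ha : a ∈ As) {r : Ω} (hr : r ∈ Qs) : a * r * a⁻¹ ∈ Qs := by
  obtain ⟨i, rfl⟩ := hr
  obtain ⟨j, hj⟩ := As_conj a ha i
  rw [hj, mul_inv_cancel_right]
  exact qe_mem_Qs j

theorem mem_normalizer_of {N : Subgroup Ω} {s : Ω} (h1 : ∀ r ∈ N, s * r * s⁻¹ ∈ N) (h2 : ∀ r ∈ N, s⁻¹ * r * s ∈ N) :
    s ∈ Subgroup.normalizer (N : Set Ω) := by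
  rw [Subgroup.mem_normalizer_iff]
  intro r
  constructor
  · exact h1 r
  · intro h
    have := h2 _ h
    have e : s⁻¹ * (s * r * s⁻¹) * s = r := by group
    rwa [e] at this

theorem As_le_normalizer : As ≤ Subgroup.normalizer (Qs : Set Ω) := by
  intro a ha
  apply mem_normalizer_of
  · intro r hr
    exact As_conj_Q ha hr
  · intro r hr
    have := As_conj_Q (As.inv_mem ha) hr
    rwa [inv_inv] at this

theorem S0_le_normalizer : S0 ≤ Subgroup.normalizer (Qs : Set Ω) := by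
  rintro _ ⟨p, rfl⟩
  exact Subgroup.mul_mem _ (Subgroup.le_normalizer (qe_mem_Qs _)) (As_le_normalizer (vv_mem_As _))

theorem wordEq_of_eq {g h : Ω} {ws ws' : List ℕ} (hg : ActsByW 315 9 g ws) (hh : ActsByW 315 9 h ws')
    (e : g = h) : wordEq 315 9 ws ws' = true := by
  unfold wordEq
  rw [List.all_eq_true]
  intro a ha
  rw [beq_iff_eq]
  have ha' : a < 315 := List.mem_range.mp ha
  have h1 := hg ⟨a, ha'⟩
  have h2 := hh ⟨a, ha'⟩
  rw [← h1, ← h2, e]

theorem relIndex_eq_of_card {P K : Subgroup Ω} (hle : P ≤ K)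
    {a m : ℕ} (hP : Nat.card P = a) (hK : Nat.card K = a * m) (ha : 0 < a) : P.relIndex K = m := by
  have h1 := Subgroup.card_mul_index (P.subgroupOf K)
  rw [Nat.card_congr (Subgroup.subgroupOfEquivOfLe hle).toEquiv, hP, hK] at h1
  exact Nat.eq_of_mul_eq_mul_left ha h1

theorem mt_one_one : mt 1 1 = 0 := by decide +kernel

theorem qe_pow_four (i : Fin 32) : qe i ^ 4 = 1 := by
  have h1 : qe i ^ 4 = (qe i * qe i) * (qe i * qe i) := by
    rw [pow_succ, pow_succ, pow_succ, pow_one, mul_assoc]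
  rw [h1, qe_mul]
  rcases t_sq i with h | h
  · rw [h, qe_one, one_mul]
  · rw [h, qe_mul, mt_one_one, qe_one]

theorem two_pow_of_pow_eq_one {h : Ω} {m : ℕ} (hm : h ^ (2 ^ m) = 1) : ∃ k : ℕ, orderOf h = 2 ^ k := by
  obtain ⟨k, _, hk⟩ := (Nat.dvd_prime_pow Nat.prime_two).mp (orderOf_dvd_of_pow_eq_one hm)
  exact ⟨k, hk⟩

section sem2

variable {P : Subgroup Ω} (hS : Sem P)
include hS

theorem cent_Q (c : Ω) (hc : c ∈ P) (hcomm : ∀ r ∈ Qs, r * c = c * r) : c ∈ Qs := by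
  have h0 : c 0 = 0 := hS.comm c hc (hcomm _ (qe_mem_Qs 1)).symm
  obtain ⟨i, a, ha, rfl⟩ := stab_decomp P hS.hq hS.hu hS.hv hS.cardC c hc h0
  have hinn : ∀ r : Fin 32, a * qe r = qe (mt (mt (inv i) r) (inv (inv i))) * a := by
    intro r
    have h1 := hcomm _ (qe_mem_Qs r)
    rw [inv_inv', ← qe_mul, ← qe_mul, ← qe_inv]
    calc a * qe r = (qe i)⁻¹ * ((qe i * a) * qe r) := by group
      _ = (qe i)⁻¹ * (qe r * (qe i * a)) := by rw [h1]
      _ = (qe i)⁻¹ * qe r * qe i * a := by group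
  have := As_inner_trivial a ha (inv i) hinn
  rw [this, mul_one]
  exact qe_mem_Qs i

omit hS in
theorem rad_u (s : Ω) (hs : s ∈ S0) (h : ue * s * ue⁻¹ ∈ S0) : ue * s * ue⁻¹ ∈ Qs := by
  obtain ⟨p, rfl⟩ := hs
  obtain ⟨p', hp'⟩ := h
  -- `ue * vv p.2 * ue⁻¹ * (vv p'.2)⁻¹ ∈ Q ∩ A`
  have hw : ue * vv p.2 * ue⁻¹ * (vv p'.2)⁻¹ = (qe (cu p.1))⁻¹ * qe p'.1 := by
    have h1 : ue * se p * ue⁻¹ = qe (cu p.1) * (ue * vv p.2 * ue⁻¹) := by
      unfold se
      calc ue * (qe p.1 * vv p.2) * ue⁻¹ = (ue * qe p.1) * vv p.2 * ue⁻¹ := by group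
        _ = (qe (cu p.1) * ue) * vv p.2 * ue⁻¹ := by rw [ue_conj]
        _ = _ := by group
    have h2 : qe (cu p.1) * (ue * vv p.2 * ue⁻¹) = qe p'.1 * vv p'.2 := by rw [← h1, ← hp']; rfl
    calc ue * vv p.2 * ue⁻¹ * (vv p'.2)⁻¹
        = (qe (cu p.1))⁻¹ * (qe (cu p.1) * (ue * vv p.2 * ue⁻¹)) * (vv p'.2)⁻¹ := by group
      _ = (qe (cu p.1))⁻¹ * (qe p'.1 * vv p'.2) * (vv p'.2)⁻¹ := by rw [h2]
      _ = _ := by group
  have hwA : ue * vv p.2 * ue⁻¹ * (vv p'.2)⁻¹ ∈ As :=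
    As.mul_mem (As.mul_mem (As.mul_mem ue_mem (vv_mem_As _)) (As.inv_mem ue_mem)) (As.inv_mem (vv_mem_As _))
  have hwQ : ∃ j, qe j = ue * vv p.2 * ue⁻¹ * (vv p'.2)⁻¹ := by
    rw [hw, qe_inv, qe_mul]
    exact ⟨_, rfl⟩
  obtain ⟨j, hj⟩ := hwQ
  have hj0 : j = 0 := qe_mem_As j (by rw [hj]; exact hwA)
  rw [hj0, qe_one] at hj
  have heq : ue * vv p.2 = vv p'.2 * ue := by
    have : ue * vv p.2 = (ue * vv p.2 * ue⁻¹ * (vv p'.2)⁻¹) * (vv p'.2 * ue) := by group
    rw [this, ← hj, one_mul]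
  have hk : p.2 = 0 := by
    by_contra hne
    have h1 := chk_rad p.2 p'.2 hne
    have h2 := wordEq_of_eq (actsByW_cons ue_apply (actsByW_single (vv_apply p.2)))
      (actsByW_cons (vv_apply p'.2) (actsByW_single ue_apply)) heq
    rw [h1] at h2
    exact Bool.noConfusion h2
  have hp : p = (p.1, 0) := Prod.ext rfl hk
  rw [hp, se_q, ue_conj, mul_inv_cancel_right]
  exact qe_mem_Qs _

theorem gen_N (n : Ω) (hn : n ∈ P) (hN : ∀ s, s ∈ S0 ↔ n * s * n⁻¹ ∈ S0) :
    n ∈ Subgroup.closure {h | h ∈ P ∧ (∀ r, r ∈ Qs ↔ h * r * h⁻¹ ∈ Qs) ∧ ∃ k : ℕ, orderOf h = 2 ^ k} := by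
  -- `n` centralises `z`
  have hzS : qe 1 ∈ S0 := Qs_le_S0 (qe_mem_Qs 1)
  have h1 : n * qe 1 * n⁻¹ ∈ S0 := (hN _).mp hzS
  have h2 : ∀ t ∈ S0, n * qe 1 * n⁻¹ * t = t * (n * qe 1 * n⁻¹) := by
    intro t ht
    have ht' : n⁻¹ * t * n ∈ S0 := by
      rw [hN]
      have e : n * (n⁻¹ * t * n) * n⁻¹ = t := by group
      rw [e]
      exact ht
    have h3 := z_central _ ht'
    calc n * qe 1 * n⁻¹ * t = n * (qe 1 * (n⁻¹ * t * n)) * n⁻¹ := by group
      _ = n * ((n⁻¹ * t * n) * qe 1) * n⁻¹ := by rw [h3]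
      _ = _ := by group
  have hz1 : qe 1 ≠ 1 := by
    intro h
    have := qe_inj (h.trans qe_one.symm)
    exact absurd this (by decide)
  have h3 : n * qe 1 = qe 1 * n := by
    rcases S0_center _ h1 h2 with h | h
    · exfalso
      apply hz1
      have : qe 1 = n⁻¹ * (n * qe 1 * n⁻¹) * n := by group
      rw [this, h]
      group
    · have : n * qe 1 = (n * qe 1 * n⁻¹) * n := by group
      rw [this, h]
  have h0 : n 0 = 0 := hS.comm n hn h3
  obtain ⟨i, a, ha, rfl⟩ := stab_decomp P hS.hq hS.hu hS.hv hS.cardC n hn h0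
  have hnorm : ∀ h ∈ Subgroup.normalizer (Qs : Set Ω), ∀ r, r ∈ Qs ↔ h * r * h⁻¹ ∈ Qs :=
    fun h hh => Subgroup.mem_normalizer_iff.mp hh
  apply Subgroup.mul_mem
  · apply Subgroup.subset_closure
    exact ⟨hS.hq i, hnorm _ (Subgroup.le_normalizer (qe_mem_Qs i)),
      two_pow_of_pow_eq_one (m := 2) (qe_pow_four i)⟩
  · have hle : Subgroup.closure {h : Ω | h ∈ As ∧ h * h = 1} ≤
        Subgroup.closure {h | h ∈ P ∧ (∀ r, r ∈ Qs ↔ h * r * h⁻¹ ∈ Qs) ∧ ∃ k : ℕ, orderOf h = 2 ^ k} := by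
      apply Subgroup.closure_mono
      rintro h ⟨hA, h2⟩
      refine ⟨As_le hS hA, hnorm _ (As_le_normalizer hA), two_pow_of_pow_eq_one (m := 1) ?_⟩
      rw [pow_one, pow_two, h2]
    exact hle (As_le_invol ha)

/-- **the data for the simplicity of the 2-fusion system** -/
theorem ambSimple : AmbSimple 2 P S0 Qs where
  le := S0_le hS
  pgroup := IsPGroup.of_card (n := 7) (by rw [card_S0]; norm_num)
  ne_bot := by
    intro h
    have := card_S0
    rw [h, Subgroup.card_bot] at this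
    norm_num at this
  index := by
    rw [relIndex_eq_of_card (S0_le hS) card_S0 (m := 4725) (by rw [hS.card]) (by norm_num)]
    norm_num
  closed := by
    have : Fact (Nat.Prime 2) := ⟨Nat.prime_two⟩
    intro T hTS hT
    have hp : IsPGroup 2 S0 := IsPGroup.of_card (n := 7) (by rw [card_S0]; norm_num)
    exact Cfsg.Agent.Lib.Helper28.closed_of_center (S0_le hS) hp (qe 1) S0_center
      (fun T' hT'S hT' hz => closed_gen hS T' hT'S hT' hz) T hTS hT
  R_le := Qs_le_S0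
  R_normal := fun s hs => Subgroup.mem_normalizer_iff.mp (S0_le_normalizer hs)
  R_cent := cent_Q hS
  R_rad := ⟨ue, hS.hu, Subgroup.mem_normalizer_iff.mp (As_le_normalizer ue_mem), rad_u⟩
  gen := gen_N hS

end sem2

end Cfsg.Agent.Lib.Helper16.J2FusB
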