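import Mathlib
import Cfsg.Agent.Lib.Helper16.J2FusB
import Cfsg.Agent.Lib.Helper16.IcoRows
import Cfsg.Agent.Lib.Helper15.J2CentF

/-!
# The 2-fusion system of the Hall–Janko group is simple  (helper16)

`S5321`: assembly of `J2FusA` (transport), `J2FusB` (the Sylow 2-subgroup `Q : V₄` of the 315-point group and the
data of helper26's criterion), helper15's `J2CentC/J2FusX` (the centraliser `Q : A₅` of a reflection) and the icosian
assembly `IcoRows`.
-/

set_option autoImplicit false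
set_option linter.unusedVariables false
set_option maxRecDepth 100000

namespace Cfsg.Agent.Lib.Helper16.J2FusC

open Cfsg Cfsg.Spor Cfsg.Agent.Lib.Helper28.BSGS Cfsg.Agent.Lib.Helper15.J2CentData Cfsg.Agent.Lib.Helper15.J2CentC
  Cfsg.Agent.Lib.Helper15.J2FusX Cfsg.Agent.Lib.Helper15.J2CentB Cfsg.Agent.Lib.Helper16.J2FusData
  Cfsg.Agent.Lib.Helper11.Ico Cfsg.Agent.Lib.Helper16.J2FusA Cfsg.Agent.Lib.Helper16.J2FusB
  Cfsg.Agent.Lib.Helper16.IcoLines Cfsg.Agent.Lib.Helper16.IcoGen Cfsg.Agent.Lib.Helper16.IcoEval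
  Cfsg.Agent.Lib.Helper16.IcoBlockB

/-- the certified group -/
abbrev P : Subgroup Ω := genGroup 315 9 PD.gens

/-- the table of `z = q₁` is the table of the reflection in the line `0` -/
theorem tab_z : tableOK 9 0 (tu 1) us0 = true := by decide +kernel

theorem z_eq : qe 1 = pj IcoRows.D 0 :=
  (Cfsg.Agent.Lib.Helper16.IcoFinal.pj_eq_permOf2 blockB 9 0 (tu 1) (tv 1) us0 tab_z (ok_q 1)).symm

theorem comm_P (g : Ω) (hg : g ∈ P) (h : g * qe 1 = qe 1 * g) : g 0 = 0 := by
  have hg' : g ∈ (alpha IcoRows.D).range := by rw [IcoRows.range_alpha_eq]; exact hg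
  obtain ⟨x, rfl⟩ := hg'
  rw [z_eq] at h
  exact (comm_iff IcoRows.D x 0).mp h

theorem card_stab : Nat.card ↥(P ⊓ MulAction.stabilizer Ω (0 : Fin 315)) = 1920 := by
  have h1 := card_stabP IcoRows.D 0 (fun j => IcoRows.transitive 0 j)
  rw [IcoRows.card_range, Nat.card_fin] at h1
  have h3 : Nat.card (stabP IcoRows.D 0) = 1920 := by omega
  have h2 : stabP IcoRows.D 0 = P ⊓ MulAction.stabilizer Ω (0 : Fin 315) := by
    unfold stabP
    rw [IcoRows.range_alpha_eq]
  rw [← h2]
  exact h3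

theorem sem : Sem P where
  hq := Cfsg.Agent.Lib.Helper15.J2CentF.qe_mem PD.gens_ok PD.chain_ok
  hu := Cfsg.Agent.Lib.Helper15.J2CentF.ue_mem PD.gens_ok PD.chain_ok
  hv := Cfsg.Agent.Lib.Helper15.J2CentF.ve_mem PD.gens_ok PD.chain_ok
  sift := fun t t' h hs =>
    (perm_main 315 9 PD.gens PD.levels PD.gens_ok PD.chain_ok).2 [t] _ (actsByW_single (permOf_apply h)) hs
  card := PD.card_genGroup
  cardC := card_stab
  comm := comm_P

/-- **S5321** -/
theorem S5321 {G : Type*} [Group G] [Finite G] (hG : Cfsg.Spor.IsoJ2 G) (S : Sylow 2 G) :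
    (Cfsg.groupFusionSystem (S : Subgroup G)).IsSimple 2 := by
  obtain ⟨e⟩ := hG
  let ι : G →* Ω := P.subtype.comp (e.trans IcoRows.J2Equiv).toMonoidHom
  have hι : Function.Injective ι := by
    intro x y h
    exact (e.trans IcoRows.J2Equiv).injective (Subtype.ext h)
  have hr : ι.range = P := by
    ext g
    constructor
    · rintro ⟨x, rfl⟩
      exact ((e.trans IcoRows.J2Equiv) x).2
    · intro hg
      obtain ⟨x, hx⟩ := (e.trans IcoRows.J2Equiv).surjective ⟨g, hg⟩
      exact ⟨x, congrArg Subtype.val hx⟩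
  have h := ambSimple sem
  rw [← hr] at h
  exact AmbSimple.simple ι hι h S

end Cfsg.Agent.Lib.Helper16.J2FusC
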