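import Mathlib
import Cfsg.Prelude.Def_LocalEven
import Cfsg.Agent.Lib.Helper16.PCore

set_option autoImplicit false

namespace Cfsg.Agent.Lib.Helper16

open Cfsg

variable {L : Type*} [Group L] {p : ℕ}

/-- If `O_p(L/N) = 1` then every normal subgroup of `L` that is a `p`-group modulo `N` lies in `N`. -/
theorem le_of_pCore_quotient_eq_bot (N : Subgroup L) [N.Normal] (h : pCore p (L ⧸ N) = ⊥)
    (D : Subgroup L) (hD : D.Normal) (hp : ∀ d ∈ D, ∃ k : ℕ, d ^ (p ^ k) ∈ N) : D ≤ N := by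
  have hnorm : (D.map (QuotientGroup.mk' N)).Normal := hD.map _ (QuotientGroup.mk'_surjective N)
  have hpg : IsPGroup p (D.map (QuotientGroup.mk' N)) := by
    rintro ⟨_, d, hd, rfl⟩
    obtain ⟨k, hk⟩ := hp d hd
    refine ⟨k, Subtype.ext ?_⟩
    show (QuotientGroup.mk' N d) ^ (p ^ k) = 1
    rw [← map_pow]
    exact (QuotientGroup.eq_one_iff _).2 hk
  have hle := le_pCore _ hnorm hpg
  rw [h] at hle
  intro d hd
  have : QuotientGroup.mk' N d ∈ (⊥ : Subgroup (L ⧸ N)) := hle ⟨d, hd, rfl⟩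
  rw [Subgroup.mem_bot] at this
  exact (QuotientGroup.eq_one_iff _).1 this

/-- Converse for finite groups. -/
theorem pCore_quotient_eq_bot_of [Finite L] [Fact p.Prime] (N : Subgroup L) [N.Normal]
    (h : ∀ D : Subgroup L, D.Normal → (∀ d ∈ D, ∃ k : ℕ, d ^ (p ^ k) ∈ N) → D ≤ N) :
    pCore p (L ⧸ N) = ⊥ := by
  have hP : IsPGroup p (pCore p (L ⧸ N)) := pCore_isPGroup
  have hPn : (pCore p (L ⧸ N)).Normal := pCore_normal
  have hD := h ((pCore p (L ⧸ N)).comap (QuotientGroup.mk' N)) (hPn.comap _) (by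
    intro d hd
    obtain ⟨k, hk⟩ := hP ⟨QuotientGroup.mk' N d, hd⟩
    refine ⟨k, ?_⟩
    have : (QuotientGroup.mk' N d) ^ (p ^ k) = 1 := congrArg Subtype.val hk
    rw [← map_pow] at this
    exact (QuotientGroup.eq_one_iff _).1 this)
  rw [eq_bot_iff]
  intro x hx
  obtain ⟨d, rfl⟩ := QuotientGroup.mk'_surjective N x
  rw [Subgroup.mem_bot]
  exact (QuotientGroup.eq_one_iff _).2 (hD hx)

/-- The largest `p`-reduced normal subgroup. -/
theorem exists_largest_pReduced [Finite L] [Fact p.Prime] :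
    ∃ Y : Subgroup L, IsPReducedNormal p Y ∧ ∀ V : Subgroup L, IsPReducedNormal p V → V ≤ Y := by
  refine ⟨sSup {V : Subgroup L | IsPReducedNormal p V}, ?_, fun V hV => le_sSup hV⟩
  set Y := sSup {V : Subgroup L | IsPReducedNormal p V} with hY
  have hYn : Y.Normal := Subgroup.sSup_normal _ (fun V hV => hV.1)
  have hQn : (pCore p L).Normal := pCore_normal
  -- every p-reduced normal subgroup is centralized by O_p(L) and lies in O_p(L)
  have h1 : ∀ V : Subgroup L, IsPReducedNormal p V →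
      V ≤ pCore p L ⊓ Subgroup.centralizer (pCore p L : Set L) := by
    rintro V ⟨hVn, hVe, hCn, hcore⟩
    have hVp : IsPGroup p V := by
      intro v
      refine ⟨1, Subtype.ext ?_⟩
      simpa using hVe.2 v v.2
    refine le_inf (le_pCore V hVn hVp) ?_
    rw [Subgroup.le_centralizer_iff]
    haveI := hCn
    apply le_of_pCore_quotient_eq_bot _ hcore _ hQn
    intro d hd
    obtain ⟨k, hk⟩ := (pCore_isPGroup (G := L) (p := p)) ⟨d, hd⟩
    refine ⟨k, ?_⟩
    have : d ^ (p ^ k) = 1 := congrArg Subtype.val hk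
    rw [this]; exact Subgroup.one_mem _
  -- the subgroup of elements of order dividing p in Z(O_p(L))
  let E : Subgroup L :=
    { carrier := {z | z ∈ pCore p L ⊓ Subgroup.centralizer (pCore p L : Set L) ∧ z ^ p = 1}
      one_mem' := ⟨Subgroup.one_mem _, one_pow _⟩
      mul_mem' := by
        rintro a b ⟨ha, hap⟩ ⟨hb, hbp⟩
        refine ⟨Subgroup.mul_mem _ ha hb, ?_⟩
        have hcomm : Commute a b := by
          have := (Subgroup.mem_centralizer_iff.1 ha.2) b hb.1
          exact this.symm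
        rw [hcomm.mul_pow, hap, hbp, one_mul]
      inv_mem' := by
        rintro a ⟨ha, hap⟩
        exact ⟨Subgroup.inv_mem _ ha, by rw [inv_pow, hap, inv_one]⟩ }
  have hYE : Y ≤ E := by
    apply sSup_le
    intro V hV v hv
    exact ⟨h1 V hV hv, hV.2.1.2 v hv⟩
  have hYe : IsElementaryAbelian p Y := by
    refine ⟨⟨⟨?_⟩⟩, fun a ha => (hYE ha).2⟩
    rintro ⟨a, ha⟩ ⟨b, hb⟩
    apply Subtype.ext
    have := (Subgroup.mem_centralizer_iff.1 (hYE ha).1.2) b (hYE hb).1.1
    exact this.symm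
  haveI := hYn
  have hCn : (Subgroup.centralizer (Y : Set L)).Normal := Subgroup.normal_centralizer
  refine ⟨hYn, hYe, hCn, ?_⟩
  apply pCore_quotient_eq_bot_of
  intro D hD hDp
  rw [Subgroup.le_centralizer_iff]
  apply sSup_le
  rintro V hV
  rw [← Subgroup.le_centralizer_iff]
  obtain ⟨hVn, hVe, hCVn, hcore⟩ := hV
  haveI := hCVn
  apply le_of_pCore_quotient_eq_bot _ hcore _ hD
  intro d hd
  obtain ⟨k, hk⟩ := hDp d hd
  have hVY : V ≤ Y := le_sSup (s := {V : Subgroup L | IsPReducedNormal p V}) ⟨hVn, hVe, hCVn, hcore⟩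
  exact ⟨k, Subgroup.centralizer_le hVY hk⟩

end Cfsg.Agent.Lib.Helper16
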