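import Mathlib
import Cfsg.Prelude.Def_LocalEven
import Cfsg.Agent.Lib.Helper16.PReduced

set_option autoImplicit false

namespace Cfsg.Agent.Lib.Helper16

open Cfsg

variable {L : Type*} [Group L] {p : ℕ}

/-- `Ω₁(Z(O_p(L)))`, as the set of elements of order dividing `p` in the centre of `O_p(L)`. -/
def omegaZCore (p : ℕ) (L : Type*) [Group L] : Subgroup L where
  carrier := {z | z ∈ pCore p L ⊓ Subgroup.centralizer (pCore p L : Set L) ∧ z ^ p = 1}
  one_mem' := ⟨Subgroup.one_mem _, one_pow _⟩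
  mul_mem' := by
    rintro a b ⟨ha, hap⟩ ⟨hb, hbp⟩
    refine ⟨Subgroup.mul_mem _ ha hb, ?_⟩
    have hcomm : Commute a b := by
      have := (Subgroup.mem_centralizer_iff.1 ha.2) b hb.1
      exact this.symm
    rw [hcomm.mul_pow, hap, hbp, one_mul]
  inv_mem' := by
    rintro a ⟨ha, hap⟩
    exact ⟨Subgroup.inv_mem _ ha, by rw [inv_pow, hap, inv_one]⟩

theorem mem_omegaZCore (z : L) :
    z ∈ omegaZCore p L ↔ (z ∈ pCore p L ⊓ Subgroup.centralizer (pCore p L : Set L) ∧ z ^ p = 1) :=
  Iff.rfl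

instance omegaZCore_normal : (omegaZCore p L).Normal := by
  constructor
  intro z hz g
  obtain ⟨⟨hzQ, hzC⟩, hzp⟩ := hz
  have hQn : (pCore p L).Normal := pCore_normal
  haveI := hQn
  have hCn : (Subgroup.centralizer (pCore p L : Set L)).Normal := Subgroup.normal_centralizer
  refine ⟨⟨hQn.conj_mem z hzQ g, hCn.conj_mem z hzC g⟩, ?_⟩
  rw [conj_pow, hzp]; simp

/-- Subgroups of `Ω₁(Z(O_p(L)))` are elementary abelian. -/
theorem isElementaryAbelian_of_le_omegaZCore (V : Subgroup L) (hV : V ≤ omegaZCore p L) :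
    IsElementaryAbelian p V := by
  refine ⟨⟨⟨?_⟩⟩, fun a ha => (hV ha).2⟩
  rintro ⟨a, ha⟩ ⟨b, hb⟩
  apply Subtype.ext
  have := (Subgroup.mem_centralizer_iff.1 (hV ha).1.2) b (hV hb).1.1
  exact this.symm

/-- A `p`-reduced normal subgroup lies in `Ω₁(Z(O_p(L)))`. -/
theorem pReduced_le_omegaZCore [Finite L] [Fact p.Prime] (V : Subgroup L) (hV : IsPReducedNormal p V) :
    V ≤ omegaZCore p L := by
  obtain ⟨hVn, hVe, hCn, hcore⟩ := hV
  have hQn : (pCore p L).Normal := pCore_normal
  have hVp : IsPGroup p V := by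
    intro v
    refine ⟨1, Subtype.ext ?_⟩
    simpa using hVe.2 v v.2
  intro v hv
  refine ⟨⟨le_pCore V hVn hVp hv, ?_⟩, hVe.2 v hv⟩
  have : V ≤ Subgroup.centralizer (pCore p L : Set L) := by
    rw [Subgroup.le_centralizer_iff]
    haveI := hCn
    apply le_of_pCore_quotient_eq_bot _ hcore _ hQn
    intro d hd
    obtain ⟨k, hk⟩ := (pCore_isPGroup (G := L) (p := p)) ⟨d, hd⟩
    refine ⟨k, ?_⟩
    have : d ^ (p ^ k) = 1 := congrArg Subtype.val hk
    rw [this]; exact Subgroup.one_mem _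
  exact this hv


/-- If `T ≤ R` for a Sylow `p`-subgroup `T` of `L` (of characteristic `p`) and `X` is a `p`-reduced normal
subgroup of `R`, then the normal closure of `X` in `L` is `p`-reduced. -/
theorem pReducedNormal_normalClosure [Finite L] [Fact p.Prime]
    (hchar : Subgroup.centralizer (pCore p L : Set L) ≤ pCore p L) (T : Sylow p L) (R : Subgroup L)
    (hTR : (T : Subgroup L) ≤ R) (X : Subgroup ↥R) (hX : IsPReducedNormal p X) :
    IsPReducedNormal p (Subgroup.normalClosure ((X.map R.subtype : Subgroup L) : Set L)) := by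
  obtain ⟨hXn, hXe, hCXn, hXcore⟩ := hX
  haveI := hCXn
  have hQn : (pCore p L).Normal := pCore_normal
  have hQp : IsPGroup p (pCore p L) := pCore_isPGroup
  have hQT : pCore p L ≤ T := pCore_le_sylow T
  have hQR : pCore p L ≤ R := hQT.trans hTR
  -- `O_p(L)` centralizes `X`
  have h1 : (pCore p L).subgroupOf R ≤ Subgroup.centralizer (X : Set ↥R) := by
    apply le_of_pCore_quotient_eq_bot _ hXcore _ (hQn.subgroupOf R)
    intro d hd
    obtain ⟨k, hk⟩ := hQp ⟨(d : L), Subgroup.mem_subgroupOf.1 hd⟩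
    refine ⟨k, ?_⟩
    have h2 : (d : L) ^ (p ^ k) = 1 := congrArg Subtype.val hk
    have h3 : d ^ (p ^ k) = 1 := Subtype.ext (by simpa using h2)
    rw [h3]; exact Subgroup.one_mem _
  -- `X ≤ Ω₁(Z(O_p(L)))`
  have h2 : X.map R.subtype ≤ omegaZCore p L := by
    rintro _ ⟨x, hx, rfl⟩
    have hxC : (x : L) ∈ Subgroup.centralizer (pCore p L : Set L) := by
      rw [Subgroup.mem_centralizer_iff]
      intro q hq
      have := (Subgroup.mem_centralizer_iff.1 (h1 (Subgroup.mem_subgroupOf.2 (show ((⟨q, hQR hq⟩ : R) : L) ∈ pCore p L from hq)))) x hx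
      exact (congrArg Subtype.val this).symm
    refine ⟨⟨hchar hxC, hxC⟩, ?_⟩
    have := hXe.2 x hx
    exact congrArg Subtype.val this
  have hVE : Subgroup.normalClosure ((X.map R.subtype : Subgroup L) : Set L) ≤ omegaZCore p L :=
    Subgroup.normalClosure_le_normal h2
  have hVn : (Subgroup.normalClosure ((X.map R.subtype : Subgroup L) : Set L)).Normal :=
    Subgroup.normalClosure_normal
  have hCn : (Subgroup.centralizer ((Subgroup.normalClosure ((X.map R.subtype : Subgroup L) : Set L) : Subgroup L) : Set L)).Normal :=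
    Subgroup.normal_centralizer
  refine ⟨hVn, isElementaryAbelian_of_le_omegaZCore _ hVE, hCn, ?_⟩
  apply pCore_quotient_eq_bot_of
  intro D hD hDp
  -- it suffices that `D` centralizes `X`
  suffices hDX : (X.map R.subtype : Subgroup L) ≤ Subgroup.centralizer (D : Set L) by
    rw [Subgroup.le_centralizer_iff]
    haveI := hD
    haveI : (Subgroup.centralizer (D : Set L)).Normal := Subgroup.normal_centralizer
    exact Subgroup.normalClosure_le_normal hDX
  set C := Subgroup.centralizer ((Subgroup.normalClosure ((X.map R.subtype : Subgroup L) : Set L) : Subgroup L) : Set L) with hC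
  have hCX : ∀ c ∈ C, ∀ x ∈ X.map R.subtype, x * c = c * x := by
    intro c hc x hx
    exact (Subgroup.mem_centralizer_iff.1 hc) x (Subgroup.le_normalClosure hx)
  -- the image of `D` in `L/C` is a normal `p`-subgroup, so lies in the image of `T`
  have hDbn : (D.map (QuotientGroup.mk' C)).Normal := hD.map _ (QuotientGroup.mk'_surjective C)
  have hDbp : IsPGroup p (D.map (QuotientGroup.mk' C)) := by
    rintro ⟨_, d, hd, rfl⟩
    obtain ⟨k, hk⟩ := hDp d hd
    refine ⟨k, Subtype.ext ?_⟩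
    show (QuotientGroup.mk' C d) ^ (p ^ k) = 1
    rw [← map_pow]
    exact (QuotientGroup.eq_one_iff _).2 hk
  have hDT : D.map (QuotientGroup.mk' C) ≤ (T : Subgroup L).map (QuotientGroup.mk' C) := by
    have := normal_pgroup_le_sylow _ hDbn hDbp (T.mapSurjective (QuotientGroup.mk'_surjective C))
    rwa [Sylow.coe_mapSurjective] at this
  -- the full preimage `D'` of the image of `D`
  have hD'n : ((D.map (QuotientGroup.mk' C)).comap (QuotientGroup.mk' C)).Normal := hDbn.comap _
  have hD'R : ((D.map (QuotientGroup.mk' C)).comap (QuotientGroup.mk' C)).subgroupOf R ≤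
      Subgroup.centralizer (X : Set ↥R) := by
    apply le_of_pCore_quotient_eq_bot _ hXcore _ (hD'n.subgroupOf R)
    intro e he
    have he' : QuotientGroup.mk' C (e : L) ∈ D.map (QuotientGroup.mk' C) := he
    obtain ⟨k, hk⟩ := hDbp ⟨_, he'⟩
    refine ⟨k, ?_⟩
    have h3 : (QuotientGroup.mk' C (e : L)) ^ (p ^ k) = 1 := congrArg Subtype.val hk
    rw [← map_pow] at h3
    have h4 : (e : L) ^ (p ^ k) ∈ C := (QuotientGroup.eq_one_iff _).1 h3
    rw [Subgroup.mem_centralizer_iff]
    intro x hx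
    apply Subtype.ext
    have := hCX _ h4 (x : L) ⟨x, hx, rfl⟩
    simpa using this
  rintro _ ⟨x, hx, rfl⟩
  rw [Subgroup.mem_centralizer_iff]
  intro d hd
  obtain ⟨t, ht, htd⟩ := hDT ⟨d, hd, rfl⟩
  -- `t ∈ T ∩ D'` centralizes `X`
  have htR : t ∈ R := hTR ht
  have ht' : (⟨t, htR⟩ : R) ∈ ((D.map (QuotientGroup.mk' C)).comap (QuotientGroup.mk' C)).subgroupOf R := by
    rw [Subgroup.mem_subgroupOf, Subgroup.mem_comap]
    show QuotientGroup.mk' C t ∈ _
    rw [htd]; exact ⟨d, hd, rfl⟩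
  have htx : t * (x : L) = (x : L) * t := by
    have := (Subgroup.mem_centralizer_iff.1 (hD'R ht')) x hx
    exact (congrArg Subtype.val this).symm
  -- `t⁻¹ d ∈ C`
  have hc : t⁻¹ * d ∈ C := by
    have : QuotientGroup.mk' C (t⁻¹ * d) = 1 := by
      rw [map_mul, map_inv, htd]; simp
    exact (QuotientGroup.eq_one_iff _).1 this
  have hcx := hCX _ hc (x : L) ⟨x, hx, rfl⟩
  have hd_eq : d = t * (t⁻¹ * d) := by group
  show d * R.subtype x = R.subtype x * d
  rw [Subgroup.coe_subtype]
  calc d * (x : L) = t * ((t⁻¹ * d) * x) := by group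
    _ = t * (x * (t⁻¹ * d)) := by rw [← hcx]
    _ = (t * x) * (t⁻¹ * d) := by group
    _ = (x * t) * (t⁻¹ * d) := by rw [htx]
    _ = x * d := by group

end Cfsg.Agent.Lib.Helper16
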