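import Mathlib
import Cfsg.Prelude.Def_LocalEven
import Cfsg.Agent.Lib.Helper16.PReduced2
import Cfsg.Agent.Lib.Helper16.SylowInf
import Cfsg.Agent.Lib.Helper16.Amalgam2

set_option autoImplicit false

namespace Cfsg.Agent.Lib.Helper16

open Cfsg

variable {L : Type*} [Group L] {p : ℕ}

/-- elements of `Ω₁(A)` have order dividing `p` when `A` is abelian -/
theorem omegaOne_pow_eq_one (A : Subgroup L) (hcomm : ∀ a ∈ A, ∀ b ∈ A, a * b = b * a) :
    ∀ x ∈ omegaOne p A, x ^ p = 1 := by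
  intro x hx
  have : x ∈ A ∧ x ^ p = 1 := by
    unfold omegaOne at hx
    induction hx using Subgroup.closure_induction with
    | mem y hy => exact hy
    | one => exact ⟨A.one_mem, one_pow _⟩
    | mul a b _ _ iha ihb =>
      refine ⟨A.mul_mem iha.1 ihb.1, ?_⟩
      have hc : Commute a b := hcomm a iha.1 b ihb.1
      rw [hc.mul_pow, iha.2, ihb.2, one_mul]
    | inv a _ iha => exact ⟨A.inv_mem iha.1, by rw [inv_pow, iha.2, inv_one]⟩
  exact this.2

variable [Finite L] [Fact p.Prime]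

/-- A subgroup normalized by `N_L(T ∩ C_L(Y))` whose elements have `p`-power order modulo `C_L(Y)`
centralizes the `p`-reduced normal subgroup `Y`. -/
theorem le_centralizer_of_normalized (T : Sylow p L) (Y : Subgroup L) (hY : IsPReducedNormal p Y)
    (O : Subgroup L)
    (hO : ∀ a ∈ Subgroup.normalizer ((((T : Subgroup L) ⊓ Subgroup.centralizer (Y : Set L) : Subgroup L)) : Set L),
      ∀ o ∈ O, a * o * a⁻¹ ∈ O)
    (hOp : ∀ o ∈ O, ∃ k : ℕ, o ^ (p ^ k) ∈ Subgroup.centralizer (Y : Set L)) :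
    O ≤ Subgroup.centralizer (Y : Set L) := by
  obtain ⟨hYn, hYe, hCn, hcore⟩ := hY
  haveI := hCn
  have hOn : (O.map (QuotientGroup.mk' (Subgroup.centralizer (Y : Set L)))).Normal := by
    constructor
    rintro _ ⟨o, ho, rfl⟩ g
    obtain ⟨g₀, rfl⟩ := QuotientGroup.mk'_surjective _ g
    obtain ⟨a, ha, c, hc, rfl⟩ := frattini_inf_normal T (Subgroup.centralizer (Y : Set L)) g₀
    refine ⟨a * o * a⁻¹, hO a ha o ho, ?_⟩
    have hc1 : QuotientGroup.mk' (Subgroup.centralizer (Y : Set L)) c = 1 :=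
      (QuotientGroup.eq_one_iff _).2 hc
    simp only [map_mul, map_inv, hc1, mul_one]
  have hOpg : IsPGroup p (O.map (QuotientGroup.mk' (Subgroup.centralizer (Y : Set L)))) := by
    rintro ⟨_, o, ho, rfl⟩
    obtain ⟨k, hk⟩ := hOp o ho
    refine ⟨k, Subtype.ext ?_⟩
    show (QuotientGroup.mk' _ o) ^ (p ^ k) = 1
    rw [← map_pow]
    exact (QuotientGroup.eq_one_iff _).2 hk
  have hle := le_pCore _ hOn hOpg
  rw [hcore] at hle
  intro o ho
  have : QuotientGroup.mk' (Subgroup.centralizer (Y : Set L)) o ∈ (⊥ : Subgroup (L ⧸ _)) :=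
    hle ⟨o, ho, rfl⟩
  rw [Subgroup.mem_bot] at this
  exact (QuotientGroup.eq_one_iff _).1 this

/-- A `p`-element of the normal subgroup `N` normalizing `T ∩ N` lies in `T ∩ N`. -/
theorem mem_sylowInf_of_pElement (T : Sylow p L) (N : Subgroup L) [N.Normal] (d : L) (hdN : d ∈ N)
    (hdM : d ∈ Subgroup.normalizer ((((T : Subgroup L) ⊓ N : Subgroup L)) : Set L))
    (hd : ∃ k : ℕ, orderOf d = p ^ k) : d ∈ (T : Subgroup L) ⊓ N := by
  obtain ⟨k, hk⟩ := hd
  have h1 : IsPGroup p (Subgroup.zpowers d) := IsPGroup.of_card (n := k) (by rw [Nat.card_zpowers, hk])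
  have h2 : IsPGroup p ((T : Subgroup L) ⊓ N : Subgroup L) := T.2.to_le inf_le_left
  have h3 : Subgroup.zpowers d ≤ Subgroup.normalizer ((((T : Subgroup L) ⊓ N : Subgroup L)) : Set L) :=
    Subgroup.zpowers_le.2 hdM
  have hA : IsPGroup p (Subgroup.zpowers d ⊔ ((T : Subgroup L) ⊓ N) : Subgroup L) :=
    IsPGroup.to_sup_of_normal_right' h1 h2 h3
  have hAN : Subgroup.zpowers d ⊔ ((T : Subgroup L) ⊓ N) ≤ N :=
    sup_le (Subgroup.zpowers_le.2 hdN) inf_le_right
  have := eq_sylowInf_of_le T N _ hA hAN le_sup_right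
  rw [← this]
  exact (le_sup_left : Subgroup.zpowers d ≤ _) (Subgroup.mem_zpowers d)


/-- `O_p(N_L(T_L)) = T_L` for `T_L = C_T(Y)`, `Y` a `p`-reduced normal subgroup. -/
theorem pCore_normalizer_TL (T : Sylow p L) (Y : Subgroup L) (hY : IsPReducedNormal p Y) :
    (pCore p ↥(Subgroup.normalizer ((((T : Subgroup L) ⊓ Subgroup.centralizer (Y : Set L) : Subgroup L)) : Set L))).map
      (Subgroup.normalizer ((((T : Subgroup L) ⊓ Subgroup.centralizer (Y : Set L) : Subgroup L)) : Set L)).subtype =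
      (T : Subgroup L) ⊓ Subgroup.centralizer (Y : Set L) := by
  have hYn : Y.Normal := hY.1
  haveI := hYn
  haveI hCn : (Subgroup.centralizer (Y : Set L)).Normal := Subgroup.normal_centralizer
  -- `T ≤ M`
  have hTM : (T : Subgroup L) ≤ Subgroup.normalizer ((((T : Subgroup L) ⊓ Subgroup.centralizer (Y : Set L) : Subgroup L)) : Set L) := by
    intro t ht
    rw [Subgroup.mem_normalizer_iff]
    intro x
    constructor
    · rintro ⟨hxT, hxC⟩
      exact ⟨Subgroup.mul_mem _ (Subgroup.mul_mem _ ht hxT) (Subgroup.inv_mem _ ht), hCn.conj_mem x hxC t⟩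
    · rintro ⟨hxT, hxC⟩
      have h1 : t⁻¹ * (t * x * t⁻¹) * t ∈ (T : Subgroup L) :=
        Subgroup.mul_mem _ (Subgroup.mul_mem _ (Subgroup.inv_mem _ ht) hxT) ht
      have h2 := hCn.conj_mem _ hxC t⁻¹
      have e1 : t⁻¹ * (t * x * t⁻¹) * t = x := by group
      have e2 : t⁻¹ * (t * x * t⁻¹) * t⁻¹⁻¹ = x := by group
      rw [e1] at h1; rw [e2] at h2
      exact ⟨h1, h2⟩
  apply le_antisymm
  · -- `O_p(M) ≤ T ∩ C`
    apply le_inf
    · rintro _ ⟨o, ho, rfl⟩
      have h1 := pCore_le_sylow (T.subtype hTM) ho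
      have h2 : o ∈ (T : Subgroup L).subgroupOf _ := h1
      exact Subgroup.mem_subgroupOf.1 h2
    · apply le_centralizer_of_normalized T Y hY
      · rintro a ha _ ⟨o, ho, rfl⟩
        have hn : (pCore p ↥(Subgroup.normalizer ((((T : Subgroup L) ⊓ Subgroup.centralizer (Y : Set L) : Subgroup L)) : Set L))).Normal :=
          pCore_normal
        exact ⟨⟨a, ha⟩ * o * ⟨a, ha⟩⁻¹, hn.conj_mem o ho ⟨a, ha⟩, rfl⟩
      · rintro _ ⟨o, ho, rfl⟩
        obtain ⟨k, hk⟩ := (pCore_isPGroup (G := ↥(Subgroup.normalizer ((((T : Subgroup L) ⊓ Subgroup.centralizer (Y : Set L) : Subgroup L)) : Set L))) (p := p)) ⟨o, ho⟩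
        refine ⟨k, ?_⟩
        have h1 : o ^ (p ^ k) = 1 := congrArg Subtype.val hk
        have h2 : ((o : L)) ^ (p ^ k) = 1 := by
          have := congrArg Subtype.val h1
          simpa using this
        rw [Subgroup.coe_subtype, h2]; exact Subgroup.one_mem _
  · -- `T ∩ C ≤ O_p(M)`
    intro x hx
    have hxM : x ∈ Subgroup.normalizer ((((T : Subgroup L) ⊓ Subgroup.centralizer (Y : Set L) : Subgroup L)) : Set L) :=
      Subgroup.le_normalizer hx
    refine ⟨⟨x, hxM⟩, ?_, rfl⟩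
    have hnorm : (((T : Subgroup L) ⊓ Subgroup.centralizer (Y : Set L) : Subgroup L).subgroupOf
        (Subgroup.normalizer ((((T : Subgroup L) ⊓ Subgroup.centralizer (Y : Set L) : Subgroup L)) : Set L))).Normal :=
      Subgroup.normal_in_normalizer
    have hpg : IsPGroup p (((T : Subgroup L) ⊓ Subgroup.centralizer (Y : Set L) : Subgroup L).subgroupOf
        (Subgroup.normalizer ((((T : Subgroup L) ⊓ Subgroup.centralizer (Y : Set L) : Subgroup L)) : Set L))) :=
      (T.2.to_le inf_le_left).comap_subtype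
    exact le_pCore _ hnorm hpg (Subgroup.mem_subgroupOf.2 hx)


/-- `Ω₁(Z(T_L))` is a `p`-reduced normal subgroup of `N_L(T_L)`, when it contains `Y`. -/
theorem omegaOne_TL_pReduced (T : Sylow p L) (Y : Subgroup L) (hY : IsPReducedNormal p Y)
    (hYW : Y ≤ omegaOne p (((T : Subgroup L) ⊓ Subgroup.centralizer (Y : Set L)) ⊓
      Subgroup.centralizer ((((T : Subgroup L) ⊓ Subgroup.centralizer (Y : Set L) : Subgroup L)) : Set L))) :
    IsPReducedNormal p ((omegaOne p (((T : Subgroup L) ⊓ Subgroup.centralizer (Y : Set L)) ⊓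
      Subgroup.centralizer ((((T : Subgroup L) ⊓ Subgroup.centralizer (Y : Set L) : Subgroup L)) : Set L))).subgroupOf
        (Subgroup.normalizer ((((T : Subgroup L) ⊓ Subgroup.centralizer (Y : Set L) : Subgroup L)) : Set L))) := by
  have hYn : Y.Normal := hY.1
  haveI := hYn
  haveI hCn : (Subgroup.centralizer (Y : Set L)).Normal := Subgroup.normal_centralizer
  obtain ⟨TL, hTL⟩ : ∃ TL : Subgroup L, TL = (T : Subgroup L) ⊓ Subgroup.centralizer (Y : Set L) := ⟨_, rfl⟩
  rw [← hTL] at hYW ⊢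
  have hWle : omegaOne p (TL ⊓ Subgroup.centralizer (TL : Set L)) ≤ TL ⊓ Subgroup.centralizer (TL : Set L) :=
    omegaOne_le p _
  -- normality
  have hWconj : ∀ a ∈ Subgroup.normalizer (TL : Set L), ∀ x ∈ omegaOne p (TL ⊓ Subgroup.centralizer (TL : Set L)),
      a * x * a⁻¹ ∈ omegaOne p (TL ⊓ Subgroup.centralizer (TL : Set L)) := by
    intro a ha x hx
    apply omegaOne_conj_mem p _ a _ x hx
    intro z hz
    obtain ⟨hz1, hz2⟩ := Subgroup.mem_inf.1 hz
    refine Subgroup.mem_inf.2 ⟨(Subgroup.mem_normalizer_iff.1 ha z).1 hz1, ?_⟩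
    rw [Subgroup.mem_centralizer_iff]
    intro t ht
    have ht' : a⁻¹ * t * a⁻¹⁻¹ ∈ TL := (Subgroup.mem_normalizer_iff.1 (Subgroup.inv_mem _ ha) t).1 ht
    rw [inv_inv] at ht'
    have hcomm := (Subgroup.mem_centralizer_iff.1 hz2) _ ht'
    calc t * (a * z * a⁻¹) = a * ((a⁻¹ * t * a) * z) * a⁻¹ := by group
      _ = a * (z * (a⁻¹ * t * a)) * a⁻¹ := by rw [hcomm]
      _ = a * z * a⁻¹ * t := by group
  have hXn : ((omegaOne p (TL ⊓ Subgroup.centralizer (TL : Set L))).subgroupOf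
      (Subgroup.normalizer (TL : Set L))).Normal := by
    constructor
    intro x hx a
    rw [Subgroup.mem_subgroupOf] at hx ⊢
    simpa using hWconj a a.2 x hx
  -- commutativity
  have hcomm : ∀ a ∈ TL ⊓ Subgroup.centralizer (TL : Set L), ∀ b ∈ TL ⊓ Subgroup.centralizer (TL : Set L),
      a * b = b * a := by
    intro a ha b hb
    exact ((Subgroup.mem_centralizer_iff.1 hb.2) a ha.1)
  have hXe : IsElementaryAbelian p ((omegaOne p (TL ⊓ Subgroup.centralizer (TL : Set L))).subgroupOf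
      (Subgroup.normalizer (TL : Set L))) := by
    refine ⟨⟨⟨?_⟩⟩, ?_⟩
    · rintro ⟨a, ha⟩ ⟨b, hb⟩
      apply Subtype.ext
      apply Subtype.ext
      exact hcomm _ (hWle (Subgroup.mem_subgroupOf.1 ha)) _ (hWle (Subgroup.mem_subgroupOf.1 hb))
    · intro a ha
      apply Subtype.ext
      have := omegaOne_pow_eq_one (p := p) _ hcomm _ (Subgroup.mem_subgroupOf.1 ha)
      simpa using this
  haveI := hXn
  have hCXn : (Subgroup.centralizer (((omegaOne p (TL ⊓ Subgroup.centralizer (TL : Set L))).subgroupOf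
      (Subgroup.normalizer (TL : Set L)) : Subgroup ↥(Subgroup.normalizer (TL : Set L))) : Set ↥(Subgroup.normalizer (TL : Set L)))).Normal := Subgroup.normal_centralizer
  refine ⟨hXn, hXe, hCXn, ?_⟩
  apply pCore_quotient_eq_bot_of
  intro D hD hDp
  -- membership in the centralizer of X, in terms of `L`
  have hmemC : ∀ d : ↥(Subgroup.normalizer (TL : Set L)),
      (∀ w ∈ omegaOne p (TL ⊓ Subgroup.centralizer (TL : Set L)), w * (d : L) = (d : L) * w) →
      d ∈ Subgroup.centralizer (((omegaOne p (TL ⊓ Subgroup.centralizer (TL : Set L))).subgroupOf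
        (Subgroup.normalizer (TL : Set L)) : Subgroup ↥(Subgroup.normalizer (TL : Set L))) : Set ↥(Subgroup.normalizer (TL : Set L))) := by
    intro d hd
    rw [Subgroup.mem_centralizer_iff]
    intro w hw
    apply Subtype.ext
    exact hd w (Subgroup.mem_subgroupOf.1 hw)
  have hmemC' : ∀ d : ↥(Subgroup.normalizer (TL : Set L)),
      d ∈ Subgroup.centralizer (((omegaOne p (TL ⊓ Subgroup.centralizer (TL : Set L))).subgroupOf
        (Subgroup.normalizer (TL : Set L)) : Subgroup ↥(Subgroup.normalizer (TL : Set L))) : Set ↥(Subgroup.normalizer (TL : Set L))) →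
      (∀ w ∈ omegaOne p (TL ⊓ Subgroup.centralizer (TL : Set L)), w * (d : L) = (d : L) * w) := by
    intro d hd w hw
    have hwM : w ∈ Subgroup.normalizer (TL : Set L) := Subgroup.le_normalizer (hWle hw).1
    have := (Subgroup.mem_centralizer_iff.1 hd) ⟨w, hwM⟩ (Subgroup.mem_subgroupOf.2 hw)
    exact congrArg Subtype.val this
  -- `D ≤ C_L(Y)`
  have hDC : D.map (Subgroup.normalizer (TL : Set L)).subtype ≤ Subgroup.centralizer (Y : Set L) := by
    apply le_centralizer_of_normalized T Y hY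
    · rw [← hTL]
      rintro a ha _ ⟨d, hd, rfl⟩
      exact ⟨⟨a, ha⟩ * d * ⟨a, ha⟩⁻¹, hD.conj_mem d hd ⟨a, ha⟩, rfl⟩
    · rintro _ ⟨d, hd, rfl⟩
      obtain ⟨k, hk⟩ := hDp d hd
      refine ⟨k, ?_⟩
      rw [Subgroup.mem_centralizer_iff]
      intro y hy
      have := hmemC' _ hk y (hYW hy)
      simpa using this
  intro d hd
  obtain ⟨t, u, ht, hu, hdtu, htp, hup⟩ := exists_p_decomp' p d
  have htD : t ∈ D := (Subgroup.zpowers_le.2 hd) ht
  have huD : u ∈ D := (Subgroup.zpowers_le.2 hd) hu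
  rw [hdtu]
  apply Subgroup.mul_mem
  · -- the `p`-part lies in `T_L`
    apply hmemC
    have htC : (t : L) ∈ Subgroup.centralizer (Y : Set L) := hDC ⟨t, htD, rfl⟩
    have htp' : ∃ k : ℕ, orderOf (t : L) = p ^ k := by
      obtain ⟨k, hk⟩ := htp
      exact ⟨k, by rw [← hk]; exact (Subgroup.orderOf_coe t)⟩
    subst hTL
    have htM : (t : L) ∈ Subgroup.normalizer ((((T : Subgroup L) ⊓ Subgroup.centralizer (Y : Set L) : Subgroup L)) : Set L) :=
      t.2
    have htTL : (t : L) ∈ (T : Subgroup L) ⊓ Subgroup.centralizer (Y : Set L) :=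
      mem_sylowInf_of_pElement T _ (t : L) htC htM htp'
    intro w hw
    exact (Subgroup.mem_centralizer_iff.1 (hWle hw).2) _ htTL |>.symm
  · -- the `p'`-part
    obtain ⟨k, hk⟩ := hDp u huD
    exact mem_of_pow_mem_of_coprime _ u hup k hk


theorem sylow_le_normalizer_inf_normal (T : Sylow p L) (N : Subgroup L) [hN : N.Normal] :
    (T : Subgroup L) ≤ Subgroup.normalizer ((((T : Subgroup L) ⊓ N : Subgroup L)) : Set L) := by
  intro t ht
  rw [Subgroup.mem_normalizer_iff]
  intro x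
  constructor
  · rintro ⟨hxT, hxC⟩
    exact ⟨Subgroup.mul_mem _ (Subgroup.mul_mem _ ht hxT) (Subgroup.inv_mem _ ht), hN.conj_mem x hxC t⟩
  · rintro ⟨hxT, hxC⟩
    have h1 : t⁻¹ * (t * x * t⁻¹) * t ∈ (T : Subgroup L) :=
      Subgroup.mul_mem _ (Subgroup.mul_mem _ (Subgroup.inv_mem _ ht) hxT) ht
    have h2 := hN.conj_mem _ hxC t⁻¹
    have e1 : t⁻¹ * (t * x * t⁻¹) * t = x := by group
    have e2 : t⁻¹ * (t * x * t⁻¹) * t⁻¹⁻¹ = x := by group
    rw [e1] at h1; rw [e2] at h2
    exact ⟨h1, h2⟩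

/-- The largest `p`-reduced normal subgroup `Y` of a group of characteristic `p` is `Ω₁(Z(C_T(Y)))`. -/
theorem largest_pReduced_eq_omegaOne
    (hchar : Subgroup.centralizer (pCore p L : Set L) ≤ pCore p L) (T : Sylow p L) (Y : Subgroup L)
    (hY : IsPReducedNormal p Y) (hmax : ∀ V : Subgroup L, IsPReducedNormal p V → V ≤ Y) :
    Y = omegaOne p (((T : Subgroup L) ⊓ Subgroup.centralizer (Y : Set L)) ⊓
      Subgroup.centralizer ((((T : Subgroup L) ⊓ Subgroup.centralizer (Y : Set L) : Subgroup L)) : Set L)) := by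
  have hYn : Y.Normal := hY.1
  haveI := hYn
  haveI hCn : (Subgroup.centralizer (Y : Set L)).Normal := Subgroup.normal_centralizer
  have hYcomm : ∀ a ∈ Y, ∀ b ∈ Y, a * b = b * a := by
    intro a ha b hb
    have := hY.2.1.1.is_comm.comm (⟨a, ha⟩ : Y) ⟨b, hb⟩
    exact congrArg Subtype.val this
  have hYW : Y ≤ omegaOne p (((T : Subgroup L) ⊓ Subgroup.centralizer (Y : Set L)) ⊓
      Subgroup.centralizer ((((T : Subgroup L) ⊓ Subgroup.centralizer (Y : Set L) : Subgroup L)) : Set L)) := by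
    intro y hy
    apply Subgroup.subset_closure
    refine ⟨Subgroup.mem_inf.2 ⟨Subgroup.mem_inf.2 ⟨?_, ?_⟩, ?_⟩, hY.2.1.2 y hy⟩
    · exact pCore_le_sylow T (pReduced_le_omegaZCore Y hY hy).1.1
    · rw [Subgroup.mem_centralizer_iff]
      intro y' hy'
      exact hYcomm y' hy' y hy
    · rw [Subgroup.mem_centralizer_iff]
      intro t ht
      exact ((Subgroup.mem_centralizer_iff.1 (Subgroup.mem_inf.1 ht).2) y hy).symm
  apply le_antisymm hYW
  have hX := omegaOne_TL_pReduced T Y hY hYW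
  have hTM := sylow_le_normalizer_inf_normal T (Subgroup.centralizer (Y : Set L))
  have hV := pReducedNormal_normalClosure hchar T _ hTM _ hX
  refine le_trans ?_ (hmax _ hV)
  intro w hw
  apply Subgroup.subset_normalClosure
  have hwM : w ∈ Subgroup.normalizer ((((T : Subgroup L) ⊓ Subgroup.centralizer (Y : Set L) : Subgroup L)) : Set L) :=
    Subgroup.le_normalizer (omegaOne_le p _ hw).1
  exact ⟨⟨w, hwM⟩, Subgroup.mem_subgroupOf.2 hw, rfl⟩

end Cfsg.Agent.Lib.Helper16
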