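import Mathlib
import Cfsg.Prelude.Def_PLocal
import Cfsg.Agent.Lib.Helper16.NilAction
import Cfsg.Agent.Lib.Helper16.Amalgam2
import Cfsg.Agent.Lib.Helper16.PReduced3

set_option autoImplicit false

namespace Cfsg.Agent.Lib.Helper16

open Cfsg

section Trace

variable {C A : Type*} [Group C] [CommGroup A] (ρ : C →* MulAut A) (T₀ : Subgroup C)
  [Fintype (C ⧸ T₀)]

/-- the function `c T₀ ↦ c • b` on cosets, for a `T₀`-fixed `b` -/
def cosetFun (b : A) (hb : ∀ t ∈ T₀, ρ t b = b) : C ⧸ T₀ → A :=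
  Quotient.lift (fun c : C => ρ c b) (by
    intro c₁ c₂ h
    have h' : c₁⁻¹ * c₂ ∈ T₀ := QuotientGroup.leftRel_apply.1 h
    have h2 := hb _ h'
    show ρ c₁ b = ρ c₂ b
    calc ρ c₁ b = ρ c₁ (ρ (c₁⁻¹ * c₂) b) := by rw [h2]
      _ = ρ c₂ b := by rw [← MulAut.mul_apply, ← map_mul]; simp)

theorem cosetFun_mk (b : A) (hb : ∀ t ∈ T₀, ρ t b = b) (c : C) :
    cosetFun ρ T₀ b hb (QuotientGroup.mk c) = ρ c b := rfl

/-- the trace (norm) from `T₀`-fixed points to `C`-fixed points -/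
def trc (b : A) (hb : ∀ t ∈ T₀, ρ t b = b) : A :=
  ∏ q : C ⧸ T₀, cosetFun ρ T₀ b hb q

theorem trc_fixed (b : A) (hb : ∀ t ∈ T₀, ρ t b = b) (d : C) :
    ρ d (trc ρ T₀ b hb) = trc ρ T₀ b hb := by
  unfold trc
  rw [map_prod]
  have h1 : ∀ q : C ⧸ T₀, ρ d (cosetFun ρ T₀ b hb q) = cosetFun ρ T₀ b hb (d • q) := by
    intro q
    induction q using QuotientGroup.induction_on with
    | H c =>
      rw [cosetFun_mk]
      have : d • (QuotientGroup.mk c : C ⧸ T₀) = QuotientGroup.mk (d * c) := rfl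
      rw [this, cosetFun_mk, map_mul, MulAut.mul_apply]
  simp_rw [h1]
  exact Equiv.prod_comp (MulAction.toPerm d) (cosetFun ρ T₀ b hb)

theorem trc_of_fixed (b : A) (hb : ∀ c : C, ρ c b = b) :
    trc ρ T₀ b (fun t _ => hb t) = b ^ Fintype.card (C ⧸ T₀) := by
  unfold trc
  have h1 : ∀ q : C ⧸ T₀, cosetFun ρ T₀ b (fun t _ => hb t) q = b := by
    intro q
    induction q using QuotientGroup.induction_on with
    | H c => rw [cosetFun_mk, hb]
  simp_rw [h1]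
  rw [Finset.prod_const, Finset.card_univ]

theorem trc_mul (b₁ b₂ : A) (hb₁ : ∀ t ∈ T₀, ρ t b₁ = b₁) (hb₂ : ∀ t ∈ T₀, ρ t b₂ = b₂)
    (hb : ∀ t ∈ T₀, ρ t (b₁ * b₂) = b₁ * b₂) :
    trc ρ T₀ (b₁ * b₂) hb = trc ρ T₀ b₁ hb₁ * trc ρ T₀ b₂ hb₂ := by
  unfold trc
  rw [← Finset.prod_mul_distrib]
  refine Finset.prod_congr rfl fun q _ => ?_
  induction q using QuotientGroup.induction_on with
  | H c => simp only [cosetFun_mk, map_mul]

theorem trc_one (hb : ∀ t ∈ T₀, ρ t (1 : A) = 1) : trc ρ T₀ (1 : A) hb = 1 := by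
  unfold trc
  apply Finset.prod_eq_one
  intro q _
  induction q using QuotientGroup.induction_on with
  | H c => simp only [cosetFun_mk, map_one]

theorem trc_inv (b : A) (hb : ∀ t ∈ T₀, ρ t b = b) (hb' : ∀ t ∈ T₀, ρ t b⁻¹ = b⁻¹) :
    trc ρ T₀ b⁻¹ hb' = (trc ρ T₀ b hb)⁻¹ := by
  unfold trc
  rw [← Finset.prod_inv_distrib]
  refine Finset.prod_congr rfl fun q _ => ?_
  induction q using QuotientGroup.induction_on with
  | H c => simp only [cosetFun_mk, map_inv]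

theorem trc_pow (b : A) (hb : ∀ t ∈ T₀, ρ t b = b) (n : ℕ) (hb' : ∀ t ∈ T₀, ρ t (b ^ n) = b ^ n) :
    trc ρ T₀ (b ^ n) hb' = (trc ρ T₀ b hb) ^ n := by
  unfold trc
  rw [← Finset.prod_pow]
  refine Finset.prod_congr rfl fun q _ => ?_
  induction q using QuotientGroup.induction_on with
  | H c => simp only [cosetFun_mk, map_pow]

theorem trc_div_mem (b : A) (hb : ∀ t ∈ T₀, ρ t b = b) (W : Subgroup A)
    (hW : ∀ c : C, ρ c b / b ∈ W) :
    trc ρ T₀ b hb / b ^ Fintype.card (C ⧸ T₀) ∈ W := by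
  unfold trc
  have h1 : (∏ q : C ⧸ T₀, cosetFun ρ T₀ b hb q) / b ^ Fintype.card (C ⧸ T₀)
      = ∏ q : C ⧸ T₀, (cosetFun ρ T₀ b hb q / b) := by
    rw [Finset.prod_div_distrib, Finset.prod_const, Finset.card_univ]
  rw [h1]
  apply Subgroup.prod_mem
  intro q _
  induction q using QuotientGroup.induction_on with
  | H c => rw [cosetFun_mk]; exact hW c

theorem trc_equivariant (φ : C ≃ C)
    (hφ : ∀ c₁ c₂ : C, c₁⁻¹ * c₂ ∈ T₀ ↔ (φ c₁)⁻¹ * φ c₂ ∈ T₀) (ψ : A →* A)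
    (b : A) (hb : ∀ t ∈ T₀, ρ t b = b) (hb' : ∀ t ∈ T₀, ρ t (ψ b) = ψ b)
    (hc : ∀ c : C, ψ (ρ c b) = ρ (φ c) (ψ b)) :
    ψ (trc ρ T₀ b hb) = trc ρ T₀ (ψ b) hb' := by
  unfold trc
  rw [map_prod]
  let φ' : C ⧸ T₀ ≃ C ⧸ T₀ := Quotient.congr φ (by
    intro c₁ c₂
    show QuotientGroup.leftRel T₀ c₁ c₂ ↔ QuotientGroup.leftRel T₀ (φ c₁) (φ c₂)
    rw [QuotientGroup.leftRel_apply, QuotientGroup.leftRel_apply]
    exact hφ c₁ c₂)
  have h1 : ∀ q : C ⧸ T₀, ψ (cosetFun ρ T₀ b hb q) = cosetFun ρ T₀ (ψ b) hb' (φ' q) := by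
    intro q
    induction q using QuotientGroup.induction_on with
    | H c =>
      rw [cosetFun_mk, hc]
      rfl
  simp_rw [h1]
  exact Equiv.prod_comp φ' (cosetFun ρ T₀ (ψ b) hb')

end Trace

section KielerBasic

variable {G : Type*} [Group G] {p : ℕ}

/-- `Ω₁(Z(X))` -/
abbrev oz (p : ℕ) (X : Subgroup G) : Subgroup G :=
  omegaOne p (X ⊓ Subgroup.centralizer (X : Set G))

theorem oz_le (X : Subgroup G) : oz p X ≤ X ⊓ Subgroup.centralizer (X : Set G) :=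
  omegaOne_le p _

theorem inf_centralizer_comm (X : Subgroup G) :
    ∀ a ∈ X ⊓ Subgroup.centralizer (X : Set G), ∀ b ∈ X ⊓ Subgroup.centralizer (X : Set G),
      a * b = b * a := by
  intro a ha b hb
  exact ((Subgroup.mem_centralizer_iff.1 (Subgroup.mem_inf.1 ha).2) b (Subgroup.mem_inf.1 hb).1).symm

theorem oz_comm (X : Subgroup G) : ∀ a ∈ oz p X, ∀ b ∈ oz p X, a * b = b * a := by
  intro a ha b hb
  exact inf_centralizer_comm X a (oz_le X ha) b (oz_le X hb)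

theorem oz_pow (X : Subgroup G) : ∀ x ∈ oz p X, x ^ p = 1 :=
  omegaOne_pow_eq_one _ (inf_centralizer_comm X)

theorem mem_oz {X : Subgroup G} {x : G} (h1 : x ∈ X)
    (h2 : x ∈ Subgroup.centralizer (X : Set G)) (h3 : x ^ p = 1) : x ∈ oz p X :=
  Subgroup.subset_closure ⟨Subgroup.mem_inf.2 ⟨h1, h2⟩, h3⟩

theorem oz_conj_mem (X : Subgroup G) (g : G) (hg : g ∈ Subgroup.normalizer (X : Set G)) (x : G)
    (hx : x ∈ oz p X) : g * x * g⁻¹ ∈ oz p X := by
  apply omegaOne_conj_mem p _ g _ x hx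
  intro a ha
  obtain ⟨ha1, ha2⟩ := Subgroup.mem_inf.1 ha
  refine Subgroup.mem_inf.2 ⟨(Subgroup.mem_normalizer_iff.1 hg a).1 ha1, ?_⟩
  rw [Subgroup.mem_centralizer_iff]
  intro y hy
  have hy' : g⁻¹ * y * g ∈ X := by
    have := (Subgroup.mem_normalizer_iff.1 (Subgroup.inv_mem _ hg) y).1 hy
    simpa using this
  have hc := (Subgroup.mem_centralizer_iff.1 ha2) _ hy'
  calc y * (g * a * g⁻¹) = g * ((g⁻¹ * y * g) * a) * g⁻¹ := by group
    _ = g * (a * (g⁻¹ * y * g)) * g⁻¹ := by rw [hc]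
    _ = g * a * g⁻¹ * y := by group

theorem le_normalizer_of_conj_mem (K Y : Subgroup G) (h : ∀ g ∈ K, ∀ y ∈ Y, g * y * g⁻¹ ∈ Y) :
    K ≤ Subgroup.normalizer (Y : Set G) := by
  intro g hg
  rw [Subgroup.mem_normalizer_iff]
  intro y
  refine ⟨h g hg y, fun hy => ?_⟩
  have := h g⁻¹ (K.inv_mem hg) _ hy
  simpa [mul_assoc] using this

theorem le_normalizer_oz (K X : Subgroup G) (h : K ≤ Subgroup.normalizer (X : Set G)) :
    K ≤ Subgroup.normalizer (oz p X : Set G) :=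
  le_normalizer_of_conj_mem K _ (fun g hg y hy => oz_conj_mem X g (h hg) y hy)

/-- the relative hypotheses: `Q` is a normal `p`-subgroup of `K` with `C_K(Q) ≤ Q`, contained in the
`p`-subgroup `T` of `K`. -/
structure KielerHyp (p : ℕ) (K Q T : Subgroup G) : Prop where
  hQ : IsPGroup p Q
  hT : IsPGroup p T
  hQT : Q ≤ T
  hTK : T ≤ K
  hKQ : K ≤ Subgroup.normalizer (Q : Set G)
  hchar : K ⊓ Subgroup.centralizer (Q : Set G) ≤ Q

theorem KielerHyp.oz_le_oz {K Q T : Subgroup G} (h : KielerHyp p K Q T) : oz p T ≤ oz p Q := by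
  unfold oz omegaOne
  rw [Subgroup.closure_le]
  rintro x ⟨hx, hxp⟩
  obtain ⟨hx1, hx2⟩ := Subgroup.mem_inf.1 hx
  have hxCQ : x ∈ Subgroup.centralizer (Q : Set G) :=
    Subgroup.centralizer_le (by exact_mod_cast h.hQT) hx2
  have hxQ : x ∈ Q := h.hchar (Subgroup.mem_inf.2 ⟨h.hTK hx1, hxCQ⟩)
  exact mem_oz hxQ hxCQ hxp

end KielerBasic

section KielerGe

variable {G : Type*} [Group G] [Finite G] {p : ℕ} [Fact p.Prime]

/-- `C_L(Ω₁Z(T ∩ L)) ≤ C(Ω₁Z(T))` -/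
theorem kieler_ge {K Q T L : Subgroup G} (h : KielerHyp p K Q T) (hLK : L ≤ K)
    (hKL : K ≤ Subgroup.normalizer (L : Set G)) (hSyl : ((T ⊓ L).relIndex L).Coprime p) :
    L ⊓ Subgroup.centralizer (oz p (T ⊓ L) : Set G) ≤ Subgroup.centralizer (oz p T : Set G) := by
  obtain ⟨C, hCdef⟩ : ∃ C, C = L ⊓ Subgroup.centralizer (oz p (T ⊓ L) : Set G) := ⟨_, rfl⟩
  rw [← hCdef]
  have hCL : C ≤ L := hCdef ▸ inf_le_left
  have hCK : C ≤ K := hCL.trans hLK
  obtain ⟨Y, hYdef⟩ : ∃ Y, Y = oz p Q := ⟨_, rfl⟩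
  have hKY : K ≤ Subgroup.normalizer (Y : Set G) := hYdef ▸ le_normalizer_oz K Q h.hKQ
  have hCY : C ≤ Subgroup.normalizer (Y : Set G) := hCK.trans hKY
  have hYQ : Y ≤ Q := hYdef ▸ (oz_le Q).trans inf_le_left
  have hT₀C : T ⊓ L ≤ C := by
    rw [hCdef]
    refine le_inf inf_le_right ?_
    rw [Subgroup.le_centralizer_iff]
    exact (oz_le (T ⊓ L)).trans inf_le_right
  rw [Subgroup.le_centralizer_iff]
  unfold oz omegaOne
  rw [Subgroup.closure_le]
  rintro z ⟨hz, hzp⟩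
  obtain ⟨hzT, hzCT⟩ := Subgroup.mem_inf.1 hz
  have hzY : z ∈ Y := hYdef ▸ h.oz_le_oz (mem_oz hzT hzCT hzp)
  have hzK : z ∈ K := h.hTK hzT
  -- set up the action
  letI : CommGroup ↥Y :=
    { (inferInstance : Group ↥Y) with
      mul_comm := fun a b => Subtype.ext (by
        have := oz_comm (p := p) Q a.1 (hYdef ▸ a.2) b.1 (hYdef ▸ b.2)
        exact this) }
  let ρ : ↥C →* MulAut ↥Y := (Y.normalizerMonoidHom).comp (Subgroup.inclusion hCY)
  have hρ : ∀ (c : ↥C) (y : ↥Y), ((ρ c y : ↥Y) : G) = (c : G) * (y : G) * (c : G)⁻¹ := by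
    intro c y; rfl
  obtain ⟨T₀', hT₀'⟩ : ∃ T₀' : Subgroup ↥C, T₀' = (T ⊓ L).subgroupOf C := ⟨_, rfl⟩
  letI : Fintype (↥C ⧸ T₀') := Fintype.ofFinite _
  have hn : (Fintype.card (↥C ⧸ T₀')).Coprime p := by
    have h1 : Fintype.card (↥C ⧸ T₀') = (T ⊓ L).relIndex C := by
      rw [← Nat.card_eq_fintype_card, ← Subgroup.index_eq_card, hT₀']
      rfl
    rw [h1]
    have h2 : (T ⊓ L).relIndex C ∣ (T ⊓ L).relIndex L :=
      Dvd.intro _ (Subgroup.relIndex_mul_relIndex (T ⊓ L) C L hT₀C hCL)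
    exact Nat.Coprime.coprime_dvd_left h2 hSyl
  obtain ⟨b, hb⟩ : ∃ b : ↥Y, b = ⟨z, hzY⟩ := ⟨_, rfl⟩
  have hbfix : ∀ t ∈ T₀', ρ t b = b := by
    intro t ht
    apply Subtype.ext
    rw [hρ, hb]
    rw [hT₀', Subgroup.mem_subgroupOf] at ht
    have htT : (t : G) ∈ T := (Subgroup.mem_inf.1 ht).1
    have := (Subgroup.mem_centralizer_iff.1 hzCT) _ htT
    show (t : G) * z * (t : G)⁻¹ = z
    rw [this, mul_inv_cancel_right]
  obtain ⟨z', hz'⟩ : ∃ z' : ↥Y, z' = trc ρ T₀' b hbfix := ⟨_, rfl⟩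
  have hz'fix : ∀ d : ↥C, (d : G) * (z' : G) * (d : G)⁻¹ = (z' : G) := by
    intro d
    have := trc_fixed ρ T₀' b hbfix d
    rw [← hz'] at this
    rw [← hρ, this]
  obtain ⟨W, hW⟩ : ∃ W : Subgroup ↥Y, W = L.subgroupOf Y := ⟨_, rfl⟩
  have hWmem : ∀ c : ↥C, ρ c b / b ∈ W := by
    intro c
    rw [hW, Subgroup.mem_subgroupOf]
    have : ((ρ c b / b : ↥Y) : G) = (c : G) * z * (c : G)⁻¹ * z⁻¹ := by
      rw [div_eq_mul_inv]
      show ((ρ c b : ↥Y) : G) * ((b⁻¹ : ↥Y) : G) = _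
      rw [hρ, hb]
      rfl
    rw [this]
    have hcL : (c : G) ∈ L := hCL c.2
    have h2 : z * (c : G)⁻¹ * z⁻¹ ∈ L :=
      (Subgroup.mem_normalizer_iff.1 (hKL hzK) _).1 (L.inv_mem hcL)
    have : (c : G) * z * (c : G)⁻¹ * z⁻¹ = (c : G) * (z * (c : G)⁻¹ * z⁻¹) := by group
    rw [this]
    exact L.mul_mem hcL h2
  obtain ⟨u, hu⟩ : ∃ u : ↥Y, u = z' / b ^ Fintype.card (↥C ⧸ T₀') := ⟨_, rfl⟩
  have huW : u ∈ W := by
    rw [hu, hz']
    exact trc_div_mem ρ T₀' b hbfix W hWmem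
  have huL : (u : G) ∈ L := by
    rw [hW, Subgroup.mem_subgroupOf] at huW
    exact huW
  have huval : (u : G) = (z' : G) * (z ^ Fintype.card (↥C ⧸ T₀'))⁻¹ := by
    rw [hu, div_eq_mul_inv, hb]
    rfl
  have huT₀ : (u : G) ∈ T ⊓ L := Subgroup.mem_inf.2 ⟨h.hQT (hYQ u.2), huL⟩
  have huC : (u : G) ∈ Subgroup.centralizer ((T ⊓ L : Subgroup G) : Set G) := by
    rw [Subgroup.mem_centralizer_iff]
    intro t ht
    have htC : t ∈ C := hT₀C ht
    have h1 := hz'fix ⟨t, htC⟩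
    have h2 : t * z * t⁻¹ = z := by
      have := (Subgroup.mem_centralizer_iff.1 hzCT) _ (Subgroup.mem_inf.1 ht).1
      rw [this, mul_inv_cancel_right]
    have h3 : t * (u : G) * t⁻¹ = (u : G) := by
      rw [huval]
      have : t * ((z' : G) * (z ^ Fintype.card (↥C ⧸ T₀'))⁻¹) * t⁻¹
          = (t * (z' : G) * t⁻¹) * ((t * z * t⁻¹) ^ Fintype.card (↥C ⧸ T₀'))⁻¹ := by
        rw [conj_pow]; group
      rw [this, h2]
      exact congrArg (· * (z ^ Fintype.card (↥C ⧸ T₀'))⁻¹) h1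
    calc t * (u : G) = (t * (u : G) * t⁻¹) * t := by group
      _ = (u : G) * t := by rw [h3]
  have hup : (u : G) ^ p = 1 := oz_pow (p := p) Q _ (hYdef ▸ u.2)
  have huoz : (u : G) ∈ oz p (T ⊓ L) := mem_oz huT₀ huC hup
  -- C centralizes u, hence z ^ n
  have hCu : ∀ d ∈ C, d * (u : G) = (u : G) * d := by
    intro d hd
    have hd' : d ∈ Subgroup.centralizer (oz p (T ⊓ L) : Set G) := by
      rw [hCdef] at hd; exact (Subgroup.mem_inf.1 hd).2
    exact ((Subgroup.mem_centralizer_iff.1 hd') _ huoz).symm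
  have hzn : z ^ Fintype.card (↥C ⧸ T₀') ∈ Subgroup.centralizer (C : Set G) := by
    have hzn_eq : z ^ Fintype.card (↥C ⧸ T₀') = (u : G)⁻¹ * (z' : G) := by
      rw [huval]; group
    rw [hzn_eq, Subgroup.mem_centralizer_iff]
    intro d hd
    have h1 := hz'fix ⟨d, hd⟩
    have h1' : d * (z' : G) = (z' : G) * d := by
      calc d * (z' : G) = (d * (z' : G) * d⁻¹) * d := by group
        _ = (z' : G) * d := by rw [h1]
    have h2 := hCu d hd
    have h2' : d * (u : G)⁻¹ = (u : G)⁻¹ * d := by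
      calc d * (u : G)⁻¹ = (u : G)⁻¹ * ((u : G) * d) * (u : G)⁻¹ := by group
        _ = (u : G)⁻¹ * (d * (u : G)) * (u : G)⁻¹ := by rw [h2]
        _ = (u : G)⁻¹ * d := by group
    calc d * ((u : G)⁻¹ * (z' : G)) = (d * (u : G)⁻¹) * (z' : G) := by group
      _ = ((u : G)⁻¹ * d) * (z' : G) := by rw [h2']
      _ = (u : G)⁻¹ * (d * (z' : G)) := by group
      _ = (u : G)⁻¹ * ((z' : G) * d) := by rw [h1']
      _ = (u : G)⁻¹ * (z' : G) * d := by group
  -- recover z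
  have hordz : orderOf z ∣ p := orderOf_dvd_of_pow_eq_one hzp
  have hcop : (Fintype.card (↥C ⧸ T₀')).Coprime (orderOf z) :=
    Nat.Coprime.coprime_dvd_right hordz hn
  obtain ⟨m, hm⟩ := exists_pow_eq_self_of_coprime hcop
  rw [SetLike.mem_coe, ← hm]
  exact Subgroup.pow_mem _ hzn m

end KielerGe

section KielerCharp

variable {G : Type*} [Group G] [Finite G] {p : ℕ} [Fact p.Prime]

/-- relative version of `isPGroup_of_pprime_centralize` -/
theorem isPGroup_of_pprime_centralize_rel (R K C₁ : Subgroup G)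
    (hR : IsPGroup p R) (hC : K ⊓ Subgroup.centralizer (R : Set G) ≤ R) (hC₁K : C₁ ≤ K)
    (h : ∀ x ∈ C₁, (orderOf x).Coprime p → ∀ r ∈ R, x * r = r * x) : IsPGroup p C₁ := by
  have hp : p.Prime := Fact.out
  have htriv : ∀ x ∈ C₁, (orderOf x).Coprime p → x = 1 := by
    intro x hx hcop
    have hxR : x ∈ R := by
      apply hC
      refine Subgroup.mem_inf.2 ⟨hC₁K hx, ?_⟩
      rw [Subgroup.mem_centralizer_iff]
      intro r hr
      exact (h x hx hcop r hr).symm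
    obtain ⟨k, hk⟩ := (IsPGroup.iff_orderOf.1 hR) ⟨x, hxR⟩
    have hk' : orderOf x = p ^ k := by rw [← hk]; simp
    rw [hk'] at hcop
    rcases Nat.eq_zero_or_pos k with rfl | hkpos
    · rw [pow_zero] at hk'; exact orderOf_eq_one_iff.1 hk'
    · exfalso
      have : p ∣ Nat.gcd (p ^ k) p := Nat.dvd_gcd (dvd_pow_self p hkpos.ne') dvd_rfl
      rw [Nat.Coprime] at hcop
      rw [hcop] at this
      exact hp.one_lt.ne' (Nat.dvd_one.1 this)
  rw [IsPGroup]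
  intro y
  have hy0 : orderOf (y : G) ≠ 0 := (orderOf_pos (y : G)).ne'
  obtain ⟨a, m, hm, hfac⟩ := Nat.exists_eq_pow_mul_and_not_dvd hy0 p hp.ne_one
  refine ⟨a, ?_⟩
  have hx : (y : G) ^ (p ^ a) ∈ C₁ := C₁.pow_mem y.2 _
  have hord : orderOf ((y : G) ^ (p ^ a)) = m := by
    rw [orderOf_pow' _ (pow_ne_zero a hp.ne_zero), hfac, Nat.gcd_eq_right (Dvd.intro _ rfl)]
    exact Nat.mul_div_cancel_left m (pow_pos hp.pos a)
  have hcop : (orderOf ((y : G) ^ (p ^ a))).Coprime p := by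
    rw [hord]; exact ((Nat.Prime.coprime_iff_not_dvd hp).2 hm).symm
  have := htriv _ hx hcop
  exact Subtype.ext (by simpa using this)

theorem centralizer_conj_mem (K X : Subgroup G) (hKX : K ≤ Subgroup.normalizer (X : Set G))
    (g : G) (hg : g ∈ K) (y : G) (hy : y ∈ Subgroup.centralizer (X : Set G)) :
    g * y * g⁻¹ ∈ Subgroup.centralizer (X : Set G) := by
  rw [Subgroup.mem_centralizer_iff]
  intro a ha
  have ha' : g⁻¹ * a * g ∈ X := by
    have := (Subgroup.mem_normalizer_iff.1 (Subgroup.inv_mem _ (hKX hg)) a).1 ha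
    simpa using this
  have hc := (Subgroup.mem_centralizer_iff.1 hy) _ ha'
  calc a * (g * y * g⁻¹) = g * ((g⁻¹ * a * g) * y) * g⁻¹ := by group
    _ = g * (y * (g⁻¹ * a * g)) * g⁻¹ := by rw [hc]
    _ = g * y * g⁻¹ * a := by group

theorem sup_conj_mem (A B : Subgroup G) (g : G) (hA : ∀ y ∈ A, g * y * g⁻¹ ∈ A)
    (hB : ∀ y ∈ B, g * y * g⁻¹ ∈ B) : ∀ y ∈ A ⊔ B, g * y * g⁻¹ ∈ A ⊔ B := by
  have hle : A ⊔ B ≤ (A ⊔ B).comap (MulAut.conj g).toMonoidHom := by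
    apply sup_le
    · intro y hy
      rw [Subgroup.mem_comap]
      exact (le_sup_left : A ≤ A ⊔ B) (by simpa using hA y hy)
    · intro y hy
      rw [Subgroup.mem_comap]
      exact (le_sup_right : B ≤ A ⊔ B) (by simpa using hB y hy)
  intro y hy
  simpa using hle hy

/-- A normal subgroup `L` of `K` inherits the hypotheses. -/
theorem kieler_charp {K Q T L : Subgroup G} (h : KielerHyp p K Q T) (hLK : L ≤ K)
    (hKL : K ≤ Subgroup.normalizer (L : Set G)) (hSyl : ((T ⊓ L).relIndex L).Coprime p) :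
    ∃ QL : Subgroup G, KielerHyp p L QL (T ⊓ L) ∧ K ≤ Subgroup.normalizer (QL : Set G) := by
  have hp : p.Prime := Fact.out
  obtain ⟨C₁, hC₁⟩ : ∃ C₁, C₁ = L ⊓ Subgroup.centralizer ((Q ⊓ L : Subgroup G) : Set G) :=
    ⟨_, rfl⟩
  have hC₁L : C₁ ≤ L := hC₁ ▸ inf_le_left
  have hC₁K : C₁ ≤ K := hC₁L.trans hLK
  have hKQL : K ≤ Subgroup.normalizer ((Q ⊓ L : Subgroup G) : Set G) := by
    apply le_normalizer_of_conj_mem
    intro g hg y hy
    exact Subgroup.mem_inf.2 ⟨(Subgroup.mem_normalizer_iff.1 (h.hKQ hg) y).1 (Subgroup.mem_inf.1 hy).1,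
      (Subgroup.mem_normalizer_iff.1 (hKL hg) y).1 (Subgroup.mem_inf.1 hy).2⟩
  have hKC₁ : K ≤ Subgroup.normalizer (C₁ : Set G) := by
    apply le_normalizer_of_conj_mem
    intro g hg y hy
    rw [hC₁] at hy ⊢
    exact Subgroup.mem_inf.2 ⟨(Subgroup.mem_normalizer_iff.1 (hKL hg) y).1 (Subgroup.mem_inf.1 hy).1,
      centralizer_conj_mem K _ hKQL g hg y (Subgroup.mem_inf.1 hy).2⟩
  -- C₁ is a p-group
  have hC₁p : IsPGroup p C₁ := by
    apply isPGroup_of_pprime_centralize_rel Q K C₁ h.hQ h.hchar hC₁K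
    intro x hx hcop
    have hxL : x ∈ L := hC₁L hx
    have hxK : x ∈ K := hC₁K hx
    have hxC : x ∈ Subgroup.centralizer ((Q ⊓ L : Subgroup G) : Set G) := by
      rw [hC₁] at hx; exact (Subgroup.mem_inf.1 hx).2
    let D : ℕ → Subgroup G := fun i => match i with
      | 0 => Q
      | 1 => Q ⊓ L
      | _ => ⊥
    apply centralizes_of_chain Q h.hQ D 2 rfl rfl _ x hcop
    · intro i r hr
      match i, hr with
      | 0, hr =>
        have hrQ : r ∈ Q := hr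
        show r⁻¹ * x * r * x⁻¹ ∈ Q ⊓ L
        refine Subgroup.mem_inf.2 ⟨?_, ?_⟩
        · have h1 : x * r * x⁻¹ ∈ Q := (Subgroup.mem_normalizer_iff.1 (h.hKQ hxK) r).1 hrQ
          have : r⁻¹ * x * r * x⁻¹ = r⁻¹ * (x * r * x⁻¹) := by group
          rw [this]
          exact Q.mul_mem (Q.inv_mem hrQ) h1
        · have hrK : r ∈ K := h.hTK (h.hQT hrQ)
          have h1 : r⁻¹ * x * r⁻¹⁻¹ ∈ L :=
            (Subgroup.mem_normalizer_iff.1 (Subgroup.inv_mem _ (hKL hrK)) x).1 hxL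
          have : r⁻¹ * x * r * x⁻¹ = (r⁻¹ * x * r⁻¹⁻¹) * x⁻¹ := by group
          rw [this]
          exact L.mul_mem h1 (L.inv_mem hxL)
      | 1, hr =>
        have hr' : r ∈ Q ⊓ L := hr
        show r⁻¹ * x * r * x⁻¹ ∈ (⊥ : Subgroup G)
        rw [Subgroup.mem_bot]
        have := (Subgroup.mem_centralizer_iff.1 hxC) r hr'
        calc r⁻¹ * x * r * x⁻¹ = r⁻¹ * (x * r) * x⁻¹ := by group
          _ = r⁻¹ * (r * x) * x⁻¹ := by rw [this]
          _ = 1 := by group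
      | (k + 2), hr =>
        have hr' : r ∈ (⊥ : Subgroup G) := hr
        rw [Subgroup.mem_bot] at hr'
        show r⁻¹ * x * r * x⁻¹ ∈ (⊥ : Subgroup G)
        rw [Subgroup.mem_bot, hr']
        group
    · intro i
      match i with
      | 0 => exact le_rfl
      | 1 => exact inf_le_left
      | (k + 2) => exact bot_le
  have hQLp : IsPGroup p ((Q ⊓ L : Subgroup G)) := h.hQ.to_le inf_le_left
  obtain ⟨QL, hQLdef⟩ : ∃ QL, QL = C₁ ⊔ (Q ⊓ L) := ⟨_, rfl⟩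
  have hQLpg : IsPGroup p QL := by
    rw [hQLdef]
    exact IsPGroup.to_sup_of_normal_right' hC₁p hQLp (hC₁K.trans hKQL)
  have hQL_L : QL ≤ L := by
    rw [hQLdef]; exact sup_le hC₁L inf_le_right
  have hKQLn : K ≤ Subgroup.normalizer (QL : Set G) := by
    apply le_normalizer_of_conj_mem
    intro g hg y hy
    rw [hQLdef] at hy ⊢
    exact sup_conj_mem _ _ g
      (fun y hy => (Subgroup.mem_normalizer_iff.1 (hKC₁ hg) y).1 hy)
      (fun y hy => (Subgroup.mem_normalizer_iff.1 (hKQL hg) y).1 hy) y hy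
  have hT₀p : IsPGroup p ((T ⊓ L : Subgroup G)) := h.hT.to_le inf_le_left
  -- QL ≤ T ⊓ L
  have hQLT : QL ≤ T ⊓ L := by
    obtain ⟨P, hP⟩ : ∃ P, P = QL ⊔ (T ⊓ L) := ⟨_, rfl⟩
    have hPp : IsPGroup p P := by
      rw [hP]
      exact IsPGroup.to_sup_of_normal_left' hQLpg hT₀p
        ((inf_le_left.trans h.hTK).trans hKQLn)
    have hPL : P ≤ L := by rw [hP]; exact sup_le hQL_L inf_le_right
    have hT₀P : T ⊓ L ≤ P := by rw [hP]; exact le_sup_right
    have h1 : (T ⊓ L).relIndex P ∣ (T ⊓ L).relIndex L :=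
      Dvd.intro _ (Subgroup.relIndex_mul_relIndex (T ⊓ L) P L hT₀P hPL)
    have h2 : (T ⊓ L).relIndex P ∣ Nat.card P := Subgroup.relIndex_dvd_card _ _
    obtain ⟨k, hk⟩ := IsPGroup.iff_card.1 hPp
    rw [hk] at h2
    have h3 : ((T ⊓ L).relIndex P).Coprime (p ^ k) :=
      Nat.Coprime.pow_right k (Nat.Coprime.coprime_dvd_left h1 hSyl)
    have h4 : (T ⊓ L).relIndex P = 1 := Nat.Coprime.eq_one_of_dvd h3 h2
    have h5 : P ≤ T ⊓ L := Subgroup.relIndex_eq_one.1 h4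
    exact (hP ▸ le_sup_left : QL ≤ P).trans h5
  refine ⟨QL, ⟨hQLpg, hT₀p, hQLT, inf_le_right, hLK.trans hKQLn, ?_⟩, hKQLn⟩
  -- L ⊓ C(QL) ≤ QL
  intro x hx
  have hx1 := (Subgroup.mem_inf.1 hx).1
  have hx2 := (Subgroup.mem_inf.1 hx).2
  have hle : ((Q ⊓ L : Subgroup G) : Set G) ⊆ (QL : Set G) := by
    intro y hy
    rw [hQLdef]
    exact (le_sup_right : Q ⊓ L ≤ C₁ ⊔ (Q ⊓ L)) hy
  have hx3 : x ∈ Subgroup.centralizer ((Q ⊓ L : Subgroup G) : Set G) :=
    Subgroup.centralizer_le hle hx2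
  have : x ∈ C₁ := by rw [hC₁]; exact Subgroup.mem_inf.2 ⟨hx1, hx3⟩
  rw [hQLdef]
  exact (le_sup_left : C₁ ≤ C₁ ⊔ (Q ⊓ L)) this

end KielerCharp

section KielerLe

variable {G : Type*} [Group G] [Finite G] {p : ℕ} [Fact p.Prime]

/-- a `p`-group normalizing a nontrivial `p`-group has a nontrivial fixed point -/
theorem exists_fixed_of_pgroup (T N : Subgroup G) (hT : IsPGroup p T) (hN : IsPGroup p N)
    (hTN : T ≤ Subgroup.normalizer (N : Set G)) (hne : N ≠ ⊥) :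
    ∃ b ∈ N, b ≠ 1 ∧ ∀ t ∈ T, t * b * t⁻¹ = b := by
  letI : MulAction ↥T ↥N := MulAction.compHom ↥N (Subgroup.inclusion hTN)
  have hsmul : ∀ (t : ↥T) (b : ↥N), ((t • b : ↥N) : G) = (t : G) * (b : G) * (t : G)⁻¹ := by
    intro t b; rfl
  have hdvd : p ∣ Nat.card N := by
    rcases hN.card_eq_or_dvd with h | h
    · exact absurd ((Subgroup.card_eq_one).mp h) hne
    · exact h
  have h1 : (1 : N) ∈ MulAction.fixedPoints ↥T ↥N := by
    intro t
    apply Subtype.ext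
    rw [hsmul]
    simp
  obtain ⟨b, hb, hb1⟩ := hT.exists_fixed_point_of_prime_dvd_card_of_fixed_point ↥N hdvd h1
  refine ⟨b, b.2, ?_, ?_⟩
  · intro h0
    apply hb1
    exact (Subtype.ext h0).symm
  · intro t ht
    have := hb ⟨t, ht⟩
    rw [← hsmul ⟨t, ht⟩ b, this]

/-- `C_L(Ω₁Z(T)) ≤ C(Ω₁Z(T ∩ L))` -/
theorem kieler_le {K Q T L : Subgroup G} (h : KielerHyp p K Q T) (hLK : L ≤ K)
    (hKL : K ≤ Subgroup.normalizer (L : Set G)) (hSyl : ((T ⊓ L).relIndex L).Coprime p) :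
    L ⊓ Subgroup.centralizer (oz p T : Set G) ≤ Subgroup.centralizer (oz p (T ⊓ L) : Set G) := by
  have hp : p.Prime := Fact.out
  obtain ⟨QL, hL, hKQL⟩ := kieler_charp h hLK hKL hSyl
  obtain ⟨D, hDdef⟩ : ∃ D, D = L ⊓ Subgroup.centralizer (oz p T : Set G) := ⟨_, rfl⟩
  rw [← hDdef]
  have hDL : D ≤ L := hDdef ▸ inf_le_left
  have hDK : D ≤ K := hDL.trans hLK
  obtain ⟨A, hAdef⟩ : ∃ A, A = oz p QL := ⟨_, rfl⟩
  have hKA : K ≤ Subgroup.normalizer (A : Set G) := hAdef ▸ le_normalizer_oz K QL hKQL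
  have hDA : D ≤ Subgroup.normalizer (A : Set G) := hDK.trans hKA
  have hTA : T ≤ Subgroup.normalizer (A : Set G) := h.hTK.trans hKA
  have hAQL : A ≤ QL := hAdef ▸ (oz_le QL).trans inf_le_left
  have hAT : A ≤ T := hAQL.trans (hL.hQT.trans inf_le_left)
  have hAp : ∀ a ∈ A, a ^ p = 1 := fun a ha => oz_pow (p := p) QL a (hAdef ▸ ha)
  have hT₀D : T ⊓ L ≤ D := by
    rw [hDdef]
    refine le_inf inf_le_right (inf_le_left.trans ?_)
    rw [Subgroup.le_centralizer_iff]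
    exact (oz_le T).trans inf_le_right
  -- T normalizes D
  have hTD : ∀ t ∈ T, ∀ d ∈ D, t * d * t⁻¹ ∈ D := by
    intro t ht d hd
    rw [hDdef] at hd ⊢
    refine Subgroup.mem_inf.2 ⟨(Subgroup.mem_normalizer_iff.1 (hKL (h.hTK ht)) d).1
      (Subgroup.mem_inf.1 hd).1, ?_⟩
    exact centralizer_conj_mem T (oz p T) (le_normalizer_oz T T Subgroup.le_normalizer) t ht d
      (Subgroup.mem_inf.1 hd).2
  -- T normalizes T ⊓ L
  have hTT₀ : ∀ t ∈ T, ∀ s ∈ T ⊓ L, t * s * t⁻¹ ∈ T ⊓ L := by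
    intro t ht s hs
    refine Subgroup.mem_inf.2 ⟨T.mul_mem (T.mul_mem ht (Subgroup.mem_inf.1 hs).1) (T.inv_mem ht), ?_⟩
    exact (Subgroup.mem_normalizer_iff.1 (hKL (h.hTK ht)) s).1 (Subgroup.mem_inf.1 hs).2
  -- T-fixed points of A are D-fixed
  have hH : ∀ a ∈ A, (∀ t ∈ T, t * a * t⁻¹ = a) → ∀ d ∈ D, d * a * d⁻¹ = a := by
    intro a ha hfix d hd
    have haC : a ∈ Subgroup.centralizer (T : Set G) := by
      rw [Subgroup.mem_centralizer_iff]
      intro t ht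
      have := hfix t ht
      calc t * a = (t * a * t⁻¹) * t := by group
        _ = a * t := by rw [this]
    have haoz : a ∈ oz p T := mem_oz (hAT ha) haC (hAp a ha)
    have hdC : d ∈ Subgroup.centralizer (oz p T : Set G) := by
      rw [hDdef] at hd; exact (Subgroup.mem_inf.1 hd).2
    have := (Subgroup.mem_centralizer_iff.1 hdC) a haoz
    rw [← this]; group
  rw [Subgroup.le_centralizer_iff]
  unfold oz omegaOne
  rw [Subgroup.closure_le]
  rintro z ⟨hz, hzp⟩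
  obtain ⟨hzT₀, hzCT₀⟩ := Subgroup.mem_inf.1 hz
  have hzA : z ∈ A := hAdef ▸ hL.oz_le_oz (mem_oz hzT₀ hzCT₀ hzp)
  -- the action
  letI : CommGroup ↥A :=
    { (inferInstance : Group ↥A) with
      mul_comm := fun a b => Subtype.ext (by
        have := oz_comm (p := p) QL a.1 (hAdef ▸ a.2) b.1 (hAdef ▸ b.2)
        exact this) }
  let ρ : ↥D →* MulAut ↥A := (A.normalizerMonoidHom).comp (Subgroup.inclusion hDA)
  have hρ : ∀ (c : ↥D) (y : ↥A), ((ρ c y : ↥A) : G) = (c : G) * (y : G) * (c : G)⁻¹ := by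
    intro c y; rfl
  obtain ⟨T₀', hT₀'⟩ : ∃ T₀' : Subgroup ↥D, T₀' = (T ⊓ L).subgroupOf D := ⟨_, rfl⟩
  letI : Fintype (↥D ⧸ T₀') := Fintype.ofFinite _
  obtain ⟨n, hndef⟩ : ∃ n, n = Fintype.card (↥D ⧸ T₀') := ⟨_, rfl⟩
  have hn : n.Coprime p := by
    have h1 : Fintype.card (↥D ⧸ T₀') = (T ⊓ L).relIndex D := by
      rw [← Nat.card_eq_fintype_card, ← Subgroup.index_eq_card, hT₀']
      rfl
    rw [hndef, h1]
    have h2 : (T ⊓ L).relIndex D ∣ (T ⊓ L).relIndex L :=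
      Dvd.intro _ (Subgroup.relIndex_mul_relIndex (T ⊓ L) D L hT₀D hDL)
    exact Nat.Coprime.coprime_dvd_left h2 hSyl
  -- a^n = 1 → a = 1 in A
  have hroot : ∀ a : ↥A, a ^ n = 1 → a = 1 := by
    intro a han
    have h1 : orderOf a ∣ n := orderOf_dvd_of_pow_eq_one han
    have h2 : orderOf a ∣ p := by
      apply orderOf_dvd_of_pow_eq_one
      apply Subtype.ext
      rw [Subgroup.coe_pow]
      exact hAp a.1 a.2
    have h3 : orderOf a ∣ Nat.gcd n p := Nat.dvd_gcd h1 h2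
    rw [hn] at h3
    exact orderOf_eq_one_iff.1 (Nat.dvd_one.1 h3)
  -- the kernel of the trace
  let B₁ : Subgroup ↥A :=
    { carrier := {a | ∃ hfix : ∀ t ∈ T₀', ρ t a = a, trc ρ T₀' a hfix = 1}
      one_mem' := ⟨fun t _ => map_one _, trc_one ρ T₀' _⟩
      mul_mem' := by
        rintro a b ⟨ha, hta⟩ ⟨hb, htb⟩
        have hab : ∀ t ∈ T₀', ρ t (a * b) = a * b := by
          intro t ht
          rw [map_mul, ha t ht, hb t ht]
        refine ⟨hab, ?_⟩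
        rw [trc_mul ρ T₀' a b ha hb hab, hta, htb, one_mul]
      inv_mem' := by
        rintro a ⟨ha, hta⟩
        have hai : ∀ t ∈ T₀', ρ t a⁻¹ = a⁻¹ := by
          intro t ht
          rw [map_inv, ha t ht]
        refine ⟨hai, ?_⟩
        rw [trc_inv ρ T₀' a ha hai, hta, inv_one] }
  have hB₁ : B₁ = ⊥ := by
    by_contra hne
    obtain ⟨N, hN⟩ : ∃ N : Subgroup G, N = B₁.map A.subtype := ⟨_, rfl⟩
    have hNA : N ≤ A := by
      rw [hN]
      rintro _ ⟨a, _, rfl⟩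
      exact a.2
    have hNp : IsPGroup p N := (hL.hQ.to_le hAQL).to_le hNA
    have hNne : N ≠ ⊥ := by
      intro h0
      apply hne
      rw [eq_bot_iff]
      intro a ha
      have : (a : G) ∈ N := by rw [hN]; exact ⟨a, ha, rfl⟩
      rw [h0, Subgroup.mem_bot] at this
      rw [Subgroup.mem_bot]
      exact Subtype.ext this
    have hTN : T ≤ Subgroup.normalizer (N : Set G) := by
      apply le_normalizer_of_conj_mem
      intro t ht y hy
      rw [hN] at hy ⊢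
      obtain ⟨a, ⟨hafix, hatr⟩, rfl⟩ := hy
      -- ψ = conjugation by t on A
      let ψ : ↥A →* ↥A := (A.normalizerMonoidHom ⟨t, hTA ht⟩).toMonoidHom
      have hψ : ∀ y : ↥A, ((ψ y : ↥A) : G) = t * (y : G) * t⁻¹ := fun y => rfl
      let φ : ↥D ≃ ↥D :=
        { toFun := fun d => ⟨t * d * t⁻¹, hTD t ht d d.2⟩
          invFun := fun d => ⟨t⁻¹ * d * t, by
            have := hTD t⁻¹ (T.inv_mem ht) d d.2
            simpa using this⟩
          left_inv := fun d => Subtype.ext (by simp [mul_assoc])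
          right_inv := fun d => Subtype.ext (by simp [mul_assoc]) }
      have hφ : ∀ d : ↥D, ((φ d : ↥D) : G) = t * (d : G) * t⁻¹ := fun d => rfl
      have hφT₀ : ∀ c₁ c₂ : ↥D, c₁⁻¹ * c₂ ∈ T₀' ↔ (φ c₁)⁻¹ * φ c₂ ∈ T₀' := by
        intro c₁ c₂
        rw [hT₀', Subgroup.mem_subgroupOf, Subgroup.mem_subgroupOf]
        have e : (((φ c₁)⁻¹ * φ c₂ : ↥D) : G) = t * ((c₁⁻¹ * c₂ : ↥D) : G) * t⁻¹ := by
          simp only [Subgroup.coe_mul, Subgroup.coe_inv, hφ]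
          group
        rw [e]
        constructor
        · intro hm
          exact hTT₀ t ht _ hm
        · intro hm
          have := hTT₀ t⁻¹ (T.inv_mem ht) _ hm
          simpa [mul_assoc] using this
      have hψfix : ∀ s ∈ T₀', ρ s (ψ a) = ψ a := by
        intro s hs
        apply Subtype.ext
        rw [hρ, hψ]
        -- s t a t⁻¹ s⁻¹ = t (t⁻¹ s t) a (t⁻¹ s t)⁻¹ t⁻¹
        have hs' : t⁻¹ * (s : G) * t ∈ T ⊓ L := by
          rw [hT₀', Subgroup.mem_subgroupOf] at hs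
          have := hTT₀ t⁻¹ (T.inv_mem ht) _ hs
          simpa using this
        have hsD : t⁻¹ * (s : G) * t ∈ D := hT₀D hs'
        have hfix' := hafix ⟨t⁻¹ * (s : G) * t, hsD⟩ (by
          rw [hT₀', Subgroup.mem_subgroupOf]; exact hs')
        have hfix'' := congrArg Subtype.val hfix'
        rw [hρ] at hfix''
        simp only at hfix''
        calc (s : G) * (t * (a : G) * t⁻¹) * (s : G)⁻¹
            = t * ((t⁻¹ * (s : G) * t) * (a : G) * (t⁻¹ * (s : G) * t)⁻¹) * t⁻¹ := by group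
          _ = t * (a : G) * t⁻¹ := by rw [hfix'']
      have hcompat : ∀ c : ↥D, ψ (ρ c a) = ρ (φ c) (ψ a) := by
        intro c
        apply Subtype.ext
        rw [hψ, hρ, hρ, hψ, hφ]
        group
      have heq := trc_equivariant ρ T₀' φ hφT₀ ψ a hafix hψfix hcompat
      rw [hatr, map_one] at heq
      refine ⟨ψ a, ⟨hψfix, heq.symm⟩, ?_⟩
      exact hψ a
    obtain ⟨b, hbN, hb1, hbfix⟩ := exists_fixed_of_pgroup T N h.hT hNp hTN hNne
    rw [hN] at hbN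
    obtain ⟨a, ⟨hafix, hatr⟩, rfl⟩ := hbN
    have hDfix : ∀ c : ↥D, ρ c a = a := by
      intro c
      apply Subtype.ext
      rw [hρ]
      exact hH _ a.2 hbfix c c.2
    have h1 := trc_of_fixed ρ T₀' a hDfix
    rw [hatr] at h1
    apply hb1
    have : a = 1 := hroot a (by rw [hndef]; exact h1.symm)
    rw [this]; rfl
  -- conclude
  obtain ⟨b, hb⟩ : ∃ b : ↥A, b = ⟨z, hzA⟩ := ⟨_, rfl⟩
  have hbfix : ∀ t ∈ T₀', ρ t b = b := by
    intro t ht
    apply Subtype.ext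
    rw [hρ, hb]
    rw [hT₀', Subgroup.mem_subgroupOf] at ht
    have := (Subgroup.mem_centralizer_iff.1 hzCT₀) _ ht
    show (t : G) * z * (t : G)⁻¹ = z
    rw [this, mul_inv_cancel_right]
  have htrfix : ∀ c : ↥D, ρ c (trc ρ T₀' b hbfix) = trc ρ T₀' b hbfix := trc_fixed ρ T₀' b hbfix
  have hbnfix : ∀ t ∈ T₀', ρ t (b ^ n) = b ^ n := by
    intro t ht
    rw [map_pow, hbfix t ht]
  have htrfix' : ∀ t ∈ T₀', ρ t (trc ρ T₀' b hbfix)⁻¹ = (trc ρ T₀' b hbfix)⁻¹ := by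
    intro t _
    rw [map_inv, htrfix t]
  have hefix : ∀ t ∈ T₀', ρ t (b ^ n * (trc ρ T₀' b hbfix)⁻¹) = b ^ n * (trc ρ T₀' b hbfix)⁻¹ := by
    intro t ht
    rw [map_mul, hbnfix t ht, htrfix' t ht]
  have hemem : b ^ n * (trc ρ T₀' b hbfix)⁻¹ ∈ B₁ := by
    refine ⟨hefix, ?_⟩
    rw [trc_mul ρ T₀' _ _ hbnfix htrfix' hefix, trc_pow ρ T₀' b hbfix n hbnfix,
      trc_inv ρ T₀' _ (fun t _ => htrfix t) htrfix', trc_of_fixed ρ T₀' _ htrfix, ← hndef]
    exact mul_inv_cancel _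
  rw [hB₁, Subgroup.mem_bot] at hemem
  have hbn : b ^ n = trc ρ T₀' b hbfix := mul_inv_eq_one.1 hemem
  have hzn : z ^ n ∈ Subgroup.centralizer (D : Set G) := by
    rw [Subgroup.mem_centralizer_iff]
    intro d hd
    have h1 := htrfix ⟨d, hd⟩
    rw [← hbn] at h1
    have h2 := congrArg Subtype.val h1
    rw [hρ, hb] at h2
    have h3 : d * z ^ n * d⁻¹ = z ^ n := h2
    calc d * z ^ n = (d * z ^ n * d⁻¹) * d := by group
      _ = z ^ n * d := by rw [h3]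
  have hordz : orderOf z ∣ p := orderOf_dvd_of_pow_eq_one hzp
  have hcop : n.Coprime (orderOf z) := Nat.Coprime.coprime_dvd_right hordz hn
  obtain ⟨m, hm⟩ := exists_pow_eq_self_of_coprime hcop
  rw [SetLike.mem_coe, ← hm]
  exact Subgroup.pow_mem _ hzn m

end KielerLe

end Cfsg.Agent.Lib.Helper16
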