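import Mathlib
import Cfsg.Agent.Lib.Helper16.G168
import Cfsg.Agent.Lib.Helper4.PSLp2

/-!
# A computable model of `PSL₂(11)` (helper16)

Elements are 2×2 matrices of determinant 1 over `𝔽₁₁` up to sign, coded as numbers
`a + 11 b + 121 c + 1331 d` with the sign normalised.  The group axioms are proved symbolically
through the map to `Matrix (Fin 2) (Fin 2) (ZMod 11)`; the result is an explicit isomorphism
`eqv : M660 ≃* PSL₂(ZMod 11)`.  Facts about `M660` are decidable by kernel computation.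
-/

set_option autoImplicit false
set_option linter.unusedVariables false

namespace Cfsg.Agent.Lib.Helper16.L211

open Cfsg.Agent.Lib.Helper16.G168 (forceNat forceNat_eq)

/-! ### digits -/

def dA (n : ℕ) : ℕ := Nat.mod n 11
def dB (n : ℕ) : ℕ := Nat.mod (Nat.div n 11) 11
def dC (n : ℕ) : ℕ := Nat.mod (Nat.div n 121) 11
def dD (n : ℕ) : ℕ := Nat.mod (Nat.div n 1331) 11

theorem dA_eq (n : ℕ) : dA n = n % 11 := rfl
theorem dB_eq (n : ℕ) : dB n = n / 11 % 11 := rfl
theorem dC_eq (n : ℕ) : dC n = n / 121 % 11 := rfl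
theorem dD_eq (n : ℕ) : dD n = n / 1331 % 11 := rfl

theorem dA_lt (n : ℕ) : dA n < 11 := Nat.mod_lt _ (by norm_num)
theorem dB_lt (n : ℕ) : dB n < 11 := Nat.mod_lt _ (by norm_num)
theorem dC_lt (n : ℕ) : dC n < 11 := Nat.mod_lt _ (by norm_num)
theorem dD_lt (n : ℕ) : dD n < 11 := Nat.mod_lt _ (by norm_num)

def pack (a b c d : ℕ) : ℕ :=
  Nat.add (Nat.add (Nat.add a (Nat.mul 11 b)) (Nat.mul 121 c)) (Nat.mul 1331 d)

theorem pack_eq (a b c d : ℕ) : pack a b c d = a + 11 * b + 121 * c + 1331 * d := rfl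

section
variable {a b c d : ℕ} (ha : a < 11) (hb : b < 11) (hc : c < 11) (hd : d < 11)
include ha hb hc hd
set_option linter.unusedSectionVars false

theorem dA_pack : dA (pack a b c d) = a := by rw [dA_eq, pack_eq]; omega
theorem dB_pack : dB (pack a b c d) = b := by rw [dB_eq, pack_eq]; omega
theorem dC_pack : dC (pack a b c d) = c := by rw [dC_eq, pack_eq]; omega
theorem dD_pack : dD (pack a b c d) = d := by rw [dD_eq, pack_eq]; omega
theorem pack_lt : pack a b c d < 14641 := by rw [pack_eq]; omega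

end

theorem pack_digits {n : ℕ} (h : n < 14641) : pack (dA n) (dB n) (dC n) (dD n) = n := by
  rw [pack_eq, dA_eq, dB_eq, dC_eq, dD_eq]; omega

theorem m11 (x : ℕ) : Nat.mod x 11 < 11 := Nat.mod_lt _ (by norm_num)

/-! ### raw operations -/

def mulRaw (m n : ℕ) : ℕ :=
  pack (Nat.mod (Nat.add (Nat.mul (dA m) (dA n)) (Nat.mul (dB m) (dC n))) 11)
    (Nat.mod (Nat.add (Nat.mul (dA m) (dB n)) (Nat.mul (dB m) (dD n))) 11)
    (Nat.mod (Nat.add (Nat.mul (dC m) (dA n)) (Nat.mul (dD m) (dC n))) 11)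
    (Nat.mod (Nat.add (Nat.mul (dC m) (dB n)) (Nat.mul (dD m) (dD n))) 11)

def negRaw (n : ℕ) : ℕ :=
  pack (Nat.mod (Nat.mul 10 (dA n)) 11) (Nat.mod (Nat.mul 10 (dB n)) 11)
    (Nat.mod (Nat.mul 10 (dC n)) 11) (Nat.mod (Nat.mul 10 (dD n)) 11)

def invRaw (n : ℕ) : ℕ :=
  pack (dD n) (Nat.mod (Nat.mul 10 (dB n)) 11) (Nat.mod (Nat.mul 10 (dC n)) 11) (dA n)

def posAB (a b : ℕ) : Bool :=
  (Nat.ble 1 a && Nat.ble a 5) || (Nat.beq a 0 && (Nat.ble 1 b && Nat.ble b 5))

def isPos (n : ℕ) : Bool := posAB (dA n) (dB n)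

def canon (n : ℕ) : ℕ := bif isPos n then n else negRaw n

def mulc (m n : ℕ) : ℕ := forceNat m fun m' => forceNat n fun n' => forceNat (mulRaw m' n') canon

def invc (n : ℕ) : ℕ := forceNat n fun n' => forceNat (invRaw n') canon

def detOK (n : ℕ) : Bool :=
  Nat.beq (Nat.mod (Nat.add (Nat.mul (dA n) (dD n)) (Nat.mul 10 (Nat.mul (dB n) (dC n)))) 11) 1

def valid (n : ℕ) : Bool := Nat.blt n 14641 && (detOK n && isPos n)

theorem mulc_eq (m n : ℕ) : mulc m n = canon (mulRaw m n) := by
  unfold mulc; simp only [forceNat_eq]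

theorem invc_eq (n : ℕ) : invc n = canon (invRaw n) := by
  unfold invc; simp only [forceNat_eq]

/-! ### the matrix of a code -/

def toMat (n : ℕ) : Matrix (Fin 2) (Fin 2) (ZMod 11) :=
  !![(dA n : ZMod 11), (dB n : ZMod 11); (dC n : ZMod 11), (dD n : ZMod 11)]

theorem toMat_pack {a b c d : ℕ} (ha : a < 11) (hb : b < 11) (hc : c < 11) (hd : d < 11) :
    toMat (pack a b c d) = !![(a : ZMod 11), (b : ZMod 11); (c : ZMod 11), (d : ZMod 11)] := by
  unfold toMat
  rw [dA_pack ha hb hc hd, dB_pack ha hb hc hd, dC_pack ha hb hc hd, dD_pack ha hb hc hd]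

theorem ten_eq : (10 : ZMod 11) = -1 := by decide

theorem modcast (x : ℕ) : ((Nat.mod x 11 : ℕ) : ZMod 11) = (x : ZMod 11) := ZMod.natCast_mod x 11

theorem toMat_mulRaw (m n : ℕ) : toMat (mulRaw m n) = toMat m * toMat n := by
  unfold mulRaw
  rw [toMat_pack (m11 _) (m11 _) (m11 _) (m11 _)]
  unfold toMat
  rw [Matrix.mul_fin_two]
  simp only [modcast]
  simp only [Nat.add_eq, Nat.mul_eq, Nat.cast_add, Nat.cast_mul]

theorem toMat_negRaw (n : ℕ) : toMat (negRaw n) = - toMat n := by
  unfold negRaw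
  rw [toMat_pack (m11 _) (m11 _) (m11 _) (m11 _)]
  unfold toMat
  simp only [modcast]
  simp only [Nat.mul_eq, Nat.cast_mul, Nat.cast_ofNat, ten_eq]
  ext i j
  fin_cases i <;> fin_cases j <;> simp

theorem toMat_invRaw (n : ℕ) : toMat (invRaw n) = Matrix.adjugate (toMat n) := by
  unfold invRaw
  rw [toMat_pack (dD_lt n) (m11 _) (m11 _) (dA_lt n)]
  unfold toMat
  rw [Matrix.adjugate_fin_two_of]
  simp only [modcast]
  simp only [Nat.mul_eq, Nat.cast_mul, Nat.cast_ofNat, ten_eq, neg_one_mul]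

theorem det_toMat (n : ℕ) :
    (toMat n).det = (dA n : ZMod 11) * (dD n : ZMod 11) - (dB n : ZMod 11) * (dC n : ZMod 11) := by
  unfold toMat; rw [Matrix.det_fin_two_of]

theorem det_of_detOK {n : ℕ} (h : detOK n = true) : (toMat n).det = 1 := by
  rw [det_toMat]
  unfold detOK at h
  have h1 : (dA n * dD n + 10 * (dB n * dC n)) % 11 = 1 := Nat.eq_of_beq_eq_true h
  have h2 := congrArg (Nat.cast : ℕ → ZMod 11) h1
  rw [ZMod.natCast_mod] at h2
  push_cast at h2
  rw [ten_eq] at h2
  linear_combination h2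

theorem detOK_of_det {n : ℕ} (h : (toMat n).det = 1) : detOK n = true := by
  rw [det_toMat] at h
  unfold detOK
  have h2 : ((dA n * dD n + 10 * (dB n * dC n) : ℕ) : ZMod 11) = ((1 : ℕ) : ZMod 11) := by
    push_cast
    rw [ten_eq]
    linear_combination h
  rw [ZMod.natCast_eq_natCast_iff'] at h2
  have h3 : (dA n * dD n + 10 * (dB n * dC n)) % 11 = 1 := h2
  change Nat.beq ((dA n * dD n + 10 * (dB n * dC n)) % 11) 1 = true
  rw [h3]
  rfl

/-! ### equality up to sign -/

def PM (A B : Matrix (Fin 2) (Fin 2) (ZMod 11)) : Prop := A = B ∨ A = -B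

theorem PM.refl' (A : Matrix (Fin 2) (Fin 2) (ZMod 11)) : PM A A := Or.inl rfl

theorem PM.symm' {A B : Matrix (Fin 2) (Fin 2) (ZMod 11)} (h : PM A B) : PM B A := by
  rcases h with h | h
  · exact Or.inl h.symm
  · right; rw [h, neg_neg]

theorem PM.trans' {A B C : Matrix (Fin 2) (Fin 2) (ZMod 11)} (h1 : PM A B) (h2 : PM B C) :
    PM A C := by
  rcases h1 with h1 | h1 <;> rcases h2 with h2 | h2
  · left; rw [h1, h2]
  · right; rw [h1, h2]
  · right; rw [h1, h2]
  · left; rw [h1, h2, neg_neg]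

theorem PM.mul' {A A' B B' : Matrix (Fin 2) (Fin 2) (ZMod 11)} (h1 : PM A A') (h2 : PM B B') :
    PM (A * B) (A' * B') := by
  rcases h1 with h1 | h1 <;> rcases h2 with h2 | h2
  · left; rw [h1, h2]
  · right; rw [h1, h2, Matrix.mul_neg]
  · right; rw [h1, h2, Matrix.neg_mul]
  · left; rw [h1, h2, Matrix.neg_mul, Matrix.mul_neg, neg_neg]

theorem toMat_canon (n : ℕ) : PM (toMat (canon n)) (toMat n) := by
  unfold canon
  cases isPos n
  · right; rw [cond_false]; exact toMat_negRaw n
  · left; rw [cond_true]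

/-! ### validity -/

theorem valid_iff (n : ℕ) :
    valid n = true ↔ n < 14641 ∧ detOK n = true ∧ isPos n = true := by
  unfold valid
  rw [Bool.and_eq_true, Bool.and_eq_true, Nat.blt_eq]

theorem pos_aux : ∀ a < 11, ∀ b < 11, ¬ (a = 0 ∧ b = 0) → posAB a b = false →
    posAB (Nat.mod (Nat.mul 10 a) 11) (Nat.mod (Nat.mul 10 b) 11) = true := by decide

theorem pos_excl_aux : ∀ a < 11, ∀ b < 11, posAB a b = true →
    posAB ((11 - a) % 11) ((11 - b) % 11) = true → False := by decide

theorem pos_excl {a b a' b' : ℕ} (ha : a < 11) (hb : b < 11) (ha' : a' < 11) (hb' : b' < 11)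
    (h1 : posAB a b = true) (h2 : posAB a' b' = true) (h3 : (a + a') % 11 = 0)
    (h4 : (b + b') % 11 = 0) : False := by
  have e1 : a' = (11 - a) % 11 := by omega
  have e2 : b' = (11 - b) % 11 := by omega
  rw [e1, e2] at h2
  exact pos_excl_aux a ha b hb h1 h2

theorem det_neg' (A : Matrix (Fin 2) (Fin 2) (ZMod 11)) : (-A).det = A.det := by
  rw [Matrix.det_neg]; simp

theorem one_ne_zero' : (1 : ZMod 11) ≠ 0 := by decide

theorem valid_canon {z : ℕ} (hz : z < 14641) (hd : (toMat z).det = 1) :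
    valid (canon z) = true := by
  unfold canon
  cases hp : isPos z
  · rw [cond_false, valid_iff]
    refine ⟨pack_lt (m11 _) (m11 _) (m11 _) (m11 _), ?_, ?_⟩
    · apply detOK_of_det
      rw [toMat_negRaw, det_neg', hd]
    · unfold isPos negRaw
      rw [dA_pack (m11 _) (m11 _) (m11 _) (m11 _), dB_pack (m11 _) (m11 _) (m11 _) (m11 _)]
      apply pos_aux _ (dA_lt z) _ (dB_lt z) _ hp
      rintro ⟨h1, h2⟩
      rw [det_toMat, h1, h2] at hd
      simp at hd
      exact one_ne_zero' hd.symm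
  · rw [cond_true, valid_iff]
    exact ⟨hz, detOK_of_det hd, hp⟩

theorem valid_mulc {m n : ℕ} (hm : valid m = true) (hn : valid n = true) :
    valid (mulc m n) = true := by
  rw [mulc_eq]
  rw [valid_iff] at hm hn
  apply valid_canon
  · unfold mulRaw; exact pack_lt (m11 _) (m11 _) (m11 _) (m11 _)
  · rw [toMat_mulRaw, Matrix.det_mul, det_of_detOK hm.2.1, det_of_detOK hn.2.1, mul_one]

theorem valid_invc {n : ℕ} (hn : valid n = true) : valid (invc n) = true := by
  rw [invc_eq]
  rw [valid_iff] at hn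
  apply valid_canon
  · unfold invRaw; exact pack_lt (dD_lt n) (m11 _) (m11 _) (dA_lt n)
  · rw [toMat_invRaw, Matrix.det_adjugate, det_of_detOK hn.2.1]
    simp

/-! ### codes are determined by their matrices up to sign -/

theorem cast_inj {a b : ℕ} (ha : a < 11) (hb : b < 11) (h : (a : ZMod 11) = (b : ZMod 11)) :
    a = b := by
  rw [ZMod.natCast_eq_natCast_iff'] at h
  omega

theorem cast_neg {a b : ℕ} (h : (a : ZMod 11) = -(b : ZMod 11)) : (a + b) % 11 = 0 := by
  have h1 : ((a + b : ℕ) : ZMod 11) = 0 := by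
    push_cast; rw [h]; ring
  rw [ZMod.natCast_eq_zero_iff] at h1
  omega

theorem toMat_00 (n : ℕ) : toMat n 0 0 = (dA n : ZMod 11) := by simp [toMat]
theorem toMat_01 (n : ℕ) : toMat n 0 1 = (dB n : ZMod 11) := by simp [toMat]
theorem toMat_10 (n : ℕ) : toMat n 1 0 = (dC n : ZMod 11) := by simp [toMat]
theorem toMat_11 (n : ℕ) : toMat n 1 1 = (dD n : ZMod 11) := by simp [toMat]

theorem eq_of_PM {m n : ℕ} (hm : valid m = true) (hn : valid n = true)
    (h : PM (toMat m) (toMat n)) : m = n := by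
  rw [valid_iff] at hm hn
  rcases h with h | h
  · have h00 := congrFun (congrFun h 0) 0
    have h01 := congrFun (congrFun h 0) 1
    have h10 := congrFun (congrFun h 1) 0
    have h11 := congrFun (congrFun h 1) 1
    rw [toMat_00, toMat_00] at h00
    rw [toMat_01, toMat_01] at h01
    rw [toMat_10, toMat_10] at h10
    rw [toMat_11, toMat_11] at h11
    rw [← pack_digits hm.1, ← pack_digits hn.1, cast_inj (dA_lt m) (dA_lt n) h00,
      cast_inj (dB_lt m) (dB_lt n) h01, cast_inj (dC_lt m) (dC_lt n) h10,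
      cast_inj (dD_lt m) (dD_lt n) h11]
  · exfalso
    have h00 := congrFun (congrFun h 0) 0
    have h01 := congrFun (congrFun h 0) 1
    rw [Matrix.neg_apply, toMat_00, toMat_00] at h00
    rw [Matrix.neg_apply, toMat_01, toMat_01] at h01
    exact pos_excl (dA_lt m) (dB_lt m) (dA_lt n) (dB_lt n) hm.2.2 hn.2.2 (cast_neg h00)
      (cast_neg h01)

/-! ### the group -/

/-- the model of `PSL₂(11)` -/
def M660 : Type := {n : ℕ // valid n = true}

instance : DecidableEq M660 := by unfold M660; infer_instance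

instance : Mul M660 := ⟨fun a b => ⟨mulc a.1 b.1, valid_mulc a.2 b.2⟩⟩

instance : One M660 := ⟨⟨1332, by decide⟩⟩

instance : Inv M660 := ⟨fun a => ⟨invc a.1, valid_invc a.2⟩⟩

theorem val_mul (a b : M660) : (a * b).1 = mulc a.1 b.1 := rfl
theorem val_one : (1 : M660).1 = 1332 := rfl
theorem val_inv (a : M660) : (a⁻¹).1 = invc a.1 := rfl

theorem toMat_mul (a b : M660) : PM (toMat (a * b).1) (toMat a.1 * toMat b.1) := by
  rw [val_mul, mulc_eq, ← toMat_mulRaw]; exact toMat_canon _

theorem toMat_inv (a : M660) : PM (toMat (a⁻¹).1) (Matrix.adjugate (toMat a.1)) := by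
  rw [val_inv, invc_eq, ← toMat_invRaw]; exact toMat_canon _

theorem toMat_one : toMat (1 : M660).1 = 1 := by
  rw [val_one]
  have h1 : dA 1332 = 1 := by decide
  have h2 : dB 1332 = 0 := by decide
  have h3 : dC 1332 = 0 := by decide
  have h4 : dD 1332 = 1 := by decide
  unfold toMat
  rw [h1, h2, h3, h4, Matrix.one_fin_two]
  simp

theorem det_val (a : M660) : (toMat a.1).det = 1 :=
  det_of_detOK ((valid_iff _).mp a.2).2.1

theorem ext_PM {a b : M660} (h : PM (toMat a.1) (toMat b.1)) : a = b :=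
  Subtype.ext (eq_of_PM a.2 b.2 h)

theorem mul_assoc' (a b c : M660) : a * b * c = a * (b * c) := by
  apply ext_PM
  have h1 : PM (toMat (a * b * c).1) (toMat a.1 * toMat b.1 * toMat c.1) :=
    (toMat_mul (a * b) c).trans' ((toMat_mul a b).mul' (PM.refl' _))
  have h2 : PM (toMat (a * (b * c)).1) (toMat a.1 * (toMat b.1 * toMat c.1)) :=
    (toMat_mul a (b * c)).trans' ((PM.refl' _).mul' (toMat_mul b c))
  rw [Matrix.mul_assoc] at h1
  exact h1.trans' h2.symm'

theorem one_mul' (a : M660) : 1 * a = a := by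
  apply ext_PM
  have h1 := toMat_mul 1 a
  rw [toMat_one, Matrix.one_mul] at h1
  exact h1

theorem inv_mul' (a : M660) : a⁻¹ * a = 1 := by
  apply ext_PM
  have h1 : PM (toMat (a⁻¹ * a).1) (Matrix.adjugate (toMat a.1) * toMat a.1) :=
    (toMat_mul a⁻¹ a).trans' ((toMat_inv a).mul' (PM.refl' _))
  rw [Matrix.adjugate_mul, det_val, one_smul] at h1
  rw [toMat_one]
  exact h1

instance : Group M660 := Group.ofLeftAxioms mul_assoc' one_mul' inv_mul'

/-! ### the list of elements -/

/-- the 660 codes -/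
def codes : List ℕ :=
  [232, 233, 234, 235, 236, 297, 298, 299, 300, 301, 302, 441, 442, 443, 444, 445, 573, 574,
   575, 576, 577, 627, 628, 629, 630, 631, 632, 826, 827, 828, 829, 830, 880, 881, 882, 883,
   884, 885, 1012, 1013, 1014, 1015, 1016, 1017, 1156, 1157, 1158, 1159, 1160, 1221, 1222, 1223, 1224, 1225,
   1226, 1332, 1343, 1354, 1365, 1376, 1387, 1398, 1409, 1420, 1431, 1442, 1453, 1465, 1477, 1489, 1501, 1574,
   1587, 1600, 1628, 1641, 1654, 1695, 1709, 1740, 1754, 1785, 1816, 1831, 1850, 1884, 1918, 1937, 1958, 1974,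
   1995, 2016, 2037, 2058, 2081, 2104, 2127, 2150, 2179, 2204, 2211, 2236, 2268, 2293, 2300, 2335, 2343, 2370,
   2378, 2413, 2421, 2468, 2477, 2524, 2533, 2542, 2552, 2623, 2633, 2643, 2653, 2795, 2818, 2841, 2864, 2887,
   2959, 2971, 2983, 2995, 3007, 3019, 3038, 3063, 3070, 3095, 3127, 3180, 3193, 3206, 3247, 3260, 3281, 3289,
   3316, 3324, 3359, 3367, 3411, 3425, 3456, 3470, 3501, 3524, 3533, 3542, 3580, 3589, 3598, 3655, 3674, 3689,
   3708, 3723, 3742, 3767, 3777, 3787, 3797, 3807, 3883, 3899, 3920, 3941, 3962, 3983, 3997, 4008, 4019, 4030,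
   4041, 4052, 4063, 4074, 4085, 4096, 4107, 4118, 4137, 4152, 4171, 4205, 4239, 4247, 4282, 4290, 4317, 4325,
   4360, 4372, 4445, 4457, 4469, 4481, 4502, 4523, 4544, 4581, 4602, 4611, 4620, 4658, 4667, 4676, 4723, 4764,
   4777, 4790, 4831, 4844, 4867, 4873, 4896, 4919, 4942, 4965, 4975, 4985, 4995, 5005, 5076, 5086, 5117, 5131,
   5162, 5193, 5207, 5214, 5239, 5271, 5296, 5303, 5327, 5338, 5349, 5360, 5371, 5382, 5393, 5404, 5415, 5426,
   5437, 5448, 5479, 5493, 5524, 5538, 5569, 5592, 5615, 5621, 5644, 5667, 5690, 5699, 5746, 5755, 5802, 5811,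
   5823, 5835, 5908, 5920, 5932, 5951, 5966, 5985, 6000, 6019, 6053, 6085, 6110, 6117, 6142, 6174, 6184, 6194,
   6204, 6275, 6285, 6295, 6308, 6336, 6349, 6362, 6403, 6416, 6437, 6458, 6495, 6516, 6537, 6545, 6572, 6580,
   6615, 6623, 6803, 6812, 6821, 6868, 6877, 6913, 6920, 6945, 6952, 6977, 7009, 7032, 7053, 7074, 7111, 7132,
   7151, 7165, 7196, 7210, 7241, 7282, 7294, 7306, 7318, 7330, 7342, 7430, 7440, 7450, 7460, 7470, 7527, 7535,
   7562, 7570, 7605, 7613, 7638, 7661, 7667, 7690, 7713, 7736, 7757, 7791, 7825, 7844, 7859, 7876, 7889, 7902,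
   7943, 7956, 7969, 7988, 7999, 8010, 8021, 8032, 8043, 8054, 8065, 8076, 8087, 8098, 8109, 8122, 8163, 8176,
   8189, 8230, 8264, 8283, 8298, 8317, 8332, 8351, 8374, 8397, 8420, 8449, 8472, 8507, 8515, 8550, 8585, 8593,
   8603, 8613, 8684, 8694, 8704, 8714, 8726, 8738, 8750, 8823, 8835, 8849, 8866, 8880, 8911, 8925, 8956, 8977,
   8998, 9014, 9035, 9056, 9077, 9102, 9109, 9134, 9166, 9198, 9207, 9245, 9254, 9263, 9310, 9454, 9462, 9497,
   9505, 9540, 9572, 9593, 9614, 9630, 9651, 9672, 9703, 9716, 9729, 9770, 9783, 9839, 9849, 9859, 9869, 9879,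
   9937, 9944, 9969, 10001, 10026, 10033, 10055, 10070, 10089, 10123, 10157, 10197, 10209, 10221, 10233, 10245, 10257, 10311,
   10320, 10329, 10367, 10376, 10385, 10420, 10443, 10466, 10495, 10518, 10538, 10552, 10583, 10597, 10628, 10642, 10783, 10815,
   10840, 10847, 10872, 10914, 10928, 10945, 10959, 10990, 11004, 11038, 11048, 11058, 11068, 11078, 11145, 11168, 11191, 11214,
   11243, 11275, 11288, 11301, 11342, 11355, 11368, 11390, 11399, 11408, 11455, 11464, 11507, 11528, 11544, 11565, 11586, 11607,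
   11660, 11672, 11684, 11696, 11708, 11720, 11752, 11760, 11795, 11830, 11838, 11869, 11884, 11903, 11918, 11937, 11971, 11984,
   11995, 12006, 12017, 12028, 12039, 12050, 12061, 12072, 12083, 12094, 12105, 12126, 12147, 12168, 12189, 12226, 12236, 12246,
   12256, 12266, 12276, 12347, 12366, 12400, 12434, 12453, 12468, 12477, 12486, 12533, 12542, 12589, 12606, 12620, 12651, 12665,
   12696, 12710, 12718, 12753, 12761, 12796, 12831, 12859, 12872, 12885, 12926, 12939, 12952, 12959, 12984, 12991, 13016, 13048,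
   13073, 13146, 13158, 13170, 13182, 13194, 13200, 13223, 13246, 13269, 13292, 13491, 13501, 13511, 13521, 13531, 13589, 13598,
   13607, 13645, 13654, 13663, 13699, 13707, 13742, 13777, 13785, 13818, 13843, 13850, 13875, 13907, 13931, 13937, 13960, 13983,
   14006, 14029, 14051, 14072, 14093, 14114, 14151, 14171, 14190, 14205, 14224, 14239, 14258, 14291, 14305, 14322, 14336, 14367,
   14381, 14411, 14424, 14437, 14478, 14491, 14531, 14543, 14555, 14567, 14579, 14591]

set_option maxRecDepth 100000 in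
theorem codes_eq : codes = (List.range 14641).filter (fun n => valid n) := by decide +kernel

theorem mem_codes_iff (n : ℕ) : n ∈ codes ↔ valid n = true := by
  rw [codes_eq, List.mem_filter, List.mem_range]
  constructor
  · exact fun h => h.2
  · exact fun h => ⟨((valid_iff n).mp h).1, h⟩

theorem codes_nodup : codes.Nodup := by
  rw [codes_eq]; exact List.Nodup.filter _ List.nodup_range

/-- the list of all elements -/
def elemsList : List M660 := codes.pmap (fun n h => ⟨n, h⟩) (fun n h => (mem_codes_iff n).mp h)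

theorem elemsList_nodup : elemsList.Nodup :=
  List.Nodup.pmap (fun _ _ _ _ h => congrArg Subtype.val h) codes_nodup

theorem mem_elemsList (x : M660) : x ∈ elemsList := by
  exact List.mem_pmap.mpr ⟨x.1, (mem_codes_iff x.1).mpr x.2, rfl⟩

instance : Fintype M660 :=
  ⟨⟨(elemsList : Multiset M660), Multiset.coe_nodup.mpr elemsList_nodup⟩,
    fun x => Multiset.mem_coe.mpr (mem_elemsList x)⟩

set_option maxRecDepth 100000 in
theorem card_M660 : Fintype.card M660 = 660 := by decide +kernel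

theorem card_M660' : Nat.card M660 = 660 := by
  rw [Nat.card_eq_fintype_card]; exact card_M660

/-! ### the isomorphism with `PSL₂(ZMod 11)` -/

/-- the matrix in `SL₂` -/
def toSL (x : M660) : Matrix.SpecialLinearGroup (Fin 2) (ZMod 11) := ⟨toMat x.1, det_val x⟩

theorem coe_toSL (x : M660) :
    ((toSL x : Matrix.SpecialLinearGroup (Fin 2) (ZMod 11)) : Matrix (Fin 2) (Fin 2) (ZMod 11)) =
      toMat x.1 := rfl

theorem mk_eq_of_PM (A B : Matrix.SpecialLinearGroup (Fin 2) (ZMod 11))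
    (h : PM (A : Matrix (Fin 2) (Fin 2) (ZMod 11)) (B : Matrix (Fin 2) (Fin 2) (ZMod 11))) :
    (QuotientGroup.mk A : Matrix.ProjectiveSpecialLinearGroup (Fin 2) (ZMod 11)) =
      QuotientGroup.mk B := by
  rcases h with h | h
  · have : A = B := Subtype.ext h
    rw [this]
  · rw [QuotientGroup.eq, Matrix.SpecialLinearGroup.mem_center_iff]
    refine ⟨-1, by simp, ?_⟩
    have hB : (B : Matrix (Fin 2) (Fin 2) (ZMod 11)) = -(A : Matrix (Fin 2) (Fin 2) (ZMod 11)) := by
      rw [h, neg_neg]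
    rw [Matrix.SpecialLinearGroup.coe_mul, Matrix.SpecialLinearGroup.coe_inv, hB,
      Matrix.mul_neg, Matrix.adjugate_mul, A.det_coe, one_smul, map_neg, map_one]

/-- the homomorphism to `PSL₂(ZMod 11)` -/
noncomputable def phi : M660 →* Matrix.ProjectiveSpecialLinearGroup (Fin 2) (ZMod 11) where
  toFun x := QuotientGroup.mk (toSL x)
  map_one' := by
    have h : toSL 1 = 1 := by
      apply Subtype.ext
      rw [coe_toSL, toMat_one, Matrix.SpecialLinearGroup.coe_one]
    rw [h]; rfl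
  map_mul' x y := by
    have h : (QuotientGroup.mk (toSL (x * y)) :
        Matrix.ProjectiveSpecialLinearGroup (Fin 2) (ZMod 11)) =
        QuotientGroup.mk (toSL x * toSL y) := by
      apply mk_eq_of_PM
      rw [Matrix.SpecialLinearGroup.coe_mul, coe_toSL, coe_toSL, coe_toSL]
      exact toMat_mul x y
    rw [h]; rfl

theorem sq_one_aux : ∀ r : ZMod 11, r ^ 2 = 1 → r = 1 ∨ r = -1 := by decide

theorem phi_injective : Function.Injective phi := by
  intro x y hxy
  have h1 : (QuotientGroup.mk (toSL x) : Matrix.ProjectiveSpecialLinearGroup (Fin 2) (ZMod 11)) =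
      QuotientGroup.mk (toSL y) := hxy
  rw [QuotientGroup.eq, Matrix.SpecialLinearGroup.mem_center_iff] at h1
  obtain ⟨r, hr, hs⟩ := h1
  rw [Fintype.card_fin] at hr
  rw [Matrix.SpecialLinearGroup.coe_mul, Matrix.SpecialLinearGroup.coe_inv, coe_toSL,
    coe_toSL] at hs
  have h2 : toMat y.1 = toMat x.1 * (Matrix.adjugate (toMat x.1) * toMat y.1) := by
    rw [← Matrix.mul_assoc, Matrix.mul_adjugate, det_val, one_smul, Matrix.one_mul]
  apply ext_PM
  apply PM.symm'
  rcases sq_one_aux r hr with h | h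
  · left
    rw [h, map_one] at hs
    rw [h2, ← hs, Matrix.mul_one]
  · right
    rw [h, map_neg, map_one] at hs
    rw [h2, ← hs, Matrix.mul_neg, Matrix.mul_one]

theorem card_PSL : Nat.card (Matrix.ProjectiveSpecialLinearGroup (Fin 2) (ZMod 11)) = 660 := by
  have : Fact (Nat.Prime 11) := ⟨by norm_num⟩
  have h := Cfsg.Agent.Helper4.PSLp.two_mul_card_PSL 11 (by norm_num)
  have h2 : 11 * (11 ^ 2 - 1) = 1320 := by norm_num
  rw [h2] at h
  omega

theorem phi_bijective : Function.Bijective phi := by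
  have : Finite (Matrix.ProjectiveSpecialLinearGroup (Fin 2) (ZMod 11)) :=
    Nat.finite_of_card_ne_zero (by rw [card_PSL]; norm_num)
  apply Function.Injective.bijective_of_nat_card_le phi_injective
  rw [card_PSL, card_M660']

/-- the model is `PSL₂(ZMod 11)` -/
noncomputable def eqv : M660 ≃* Matrix.ProjectiveSpecialLinearGroup (Fin 2) (ZMod 11) :=
  MulEquiv.ofBijective phi phi_bijective

/-- the model is `PSL₂(F)` for every field with 11 elements -/
noncomputable def eqvF (F : Type*) [Field F] [Fintype F] (hF : Fintype.card F = 11) :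
    Matrix.ProjectiveSpecialLinearGroup (Fin 2) F ≃* M660 :=
  (Cfsg.Agent.Lib.Helper3.SLTransport.pslEquivZMod (by norm_num : Nat.Prime 11) hF (Fin 2)).trans
    eqv.symm

end Cfsg.Agent.Lib.Helper16.L211
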