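import Mathlib
import Cfsg.Agent.Lib.Helper16.L211Data

/-!
# `A₅` in `PSL₂(11)`: index 11, 2-transitive, exactly 22 subgroups in two classes (helper16)

Proved in the model `M660` and transported to `PSL₂(F)` for every field with 11 elements.
-/

set_option autoImplicit false
set_option linter.unusedVariables false

namespace Cfsg.Agent.Lib.Helper16.L211

open Cfsg.Agent.Lib.Helper16.A5Recog
open scoped Pointwise

def H0 : Subgroup M660 := subOf maskH okH
def K0 : Subgroup M660 := subOf maskK okK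
def TH0 : Subgroup M660 := subOf maskTH okTH
def TK0 : Subgroup M660 := subOf maskTK okTK

theorem card_H0 : Nat.card H0 = 60 := by unfold H0; rw [card_subOf]; exact cnt_fact.1
theorem card_K0 : Nat.card K0 = 60 := by unfold K0; rw [card_subOf]; exact cnt_fact.2.1
theorem card_TH0 : Nat.card TH0 = 12 := by unfold TH0; rw [card_subOf]; exact cnt_fact.2.2.1
theorem card_TK0 : Nat.card TK0 = 12 := by unfold TK0; rw [card_subOf]; exact cnt_fact.2.2.2

theorem H0_a5 : Nonempty (H0 ≃* alternatingGroup (Fin 5)) := by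
  apply a5_of_sub H0 TH0 card_H0 card_TH0
  · intro x hx; exact (le_fact x).1 hx
  · intro x hx hx1
    obtain ⟨g, hg, hgx⟩ := core_factH x hx hx1
    refine ⟨g, hg, ?_⟩
    intro hmem
    have h1 : mb maskTH (g * x * g⁻¹) = true := hmem
    rw [hgx] at h1
    exact Bool.false_ne_true h1

theorem K0_a5 : Nonempty (K0 ≃* alternatingGroup (Fin 5)) := by
  apply a5_of_sub K0 TK0 card_K0 card_TK0
  · intro x hx; exact (le_fact x).2 hx
  · intro x hx hx1
    obtain ⟨g, hg, hgx⟩ := core_factK x hx hx1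
    refine ⟨g, hg, ?_⟩
    intro hmem
    have h1 : mb maskTK (g * x * g⁻¹) = true := hmem
    rw [hgx] at h1
    exact Bool.false_ne_true h1

/-- base subgroup of index `i` -/
def baseS (i : Fin 22) : Subgroup M660 := if i.val < 11 then H0 else K0

theorem mem_baseS (i : Fin 22) (x : M660) : x ∈ baseS i ↔ mb (baseM i) x = true := by
  unfold baseS baseM
  split_ifs <;> exact Iff.rfl

theorem card_baseS (i : Fin 22) : Nat.card (baseS i) = 60 := by
  unfold baseS
  split_ifs
  · exact card_H0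
  · exact card_K0

theorem baseS_a5 (i : Fin 22) : Nonempty (baseS i ≃* alternatingGroup (Fin 5)) := by
  by_cases h : i.val < 11
  · have e : baseS i = H0 := if_pos h
    rw [e]; exact H0_a5
  · have e : baseS i = K0 := if_neg h
    rw [e]; exact K0_a5

/-- the 22 subgroups -/
def Hs (i : Fin 22) : Subgroup M660 := MulAut.conj (gF i) • baseS i

theorem mem_Hs (i : Fin 22) (x : M660) : x ∈ Hs i ↔ mb (maskF i) x = true := by
  unfold Hs
  rw [Subgroup.mem_pointwise_smul_iff_inv_smul_mem, MulAut.smul_def, MulAut.conj_inv_apply,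
    mem_baseS, conj_fact i x]

theorem card_Hs (i : Fin 22) : Nat.card (Hs i) = 60 := by
  rw [← card_baseS i]
  exact (Nat.card_congr (Subgroup.equivSMul (MulAut.conj (gF i)) (baseS i)).toEquiv).symm

theorem Hs_a5 (i : Fin 22) : Nonempty (Hs i ≃* alternatingGroup (Fin 5)) := by
  obtain ⟨f⟩ := baseS_a5 i
  exact ⟨(Subgroup.equivSMul (MulAut.conj (gF i)) (baseS i)).symm.trans f⟩

theorem Hs_injective : Function.Injective Hs := by
  intro i j hij
  by_contra hne
  obtain ⟨h1, h2, h3⟩ := wit_fact i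
  have e1 : w1F i ∈ Hs j := by rw [← hij]; exact (mem_Hs i _).mpr h1
  have e2 : w2F i ∈ Hs j := by rw [← hij]; exact (mem_Hs i _).mpr h2
  rw [mem_Hs] at e1 e2
  rcases h3 j (fun h => hne h.symm) with h | h
  · rw [h] at e1; exact Bool.false_ne_true e1
  · rw [h] at e2; exact Bool.false_ne_true e2

theorem Hs_zero : Hs 0 = H0 := by
  ext x
  rw [mem_Hs]
  exact Iff.rfl

theorem Hs_eleven : Hs 11 = K0 := by
  ext x
  rw [mem_Hs]
  exact Iff.rfl

set_option maxRecDepth 100000 in
theorem a5_gens : ∃ a b : alternatingGroup (Fin 5), a ≠ 1 ∧ a * a = 1 ∧ b ≠ 1 ∧ b * b * b = 1 ∧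
    a * b ≠ 1 ∧ (a * b) * (a * b) * (a * b) * (a * b) * (a * b) = 1 := by
  refine ⟨⟨Equiv.swap 0 1 * Equiv.swap 2 3, Equiv.Perm.mem_alternatingGroup.mpr (by decide)⟩,
    ⟨Equiv.swap 0 2 * Equiv.swap 2 4, Equiv.Perm.mem_alternatingGroup.mpr (by decide)⟩, ?_⟩
  decide

theorem card_a5 : Nat.card (alternatingGroup (Fin 5)) = 60 := by
  rw [nat_card_alternatingGroup, Nat.card_fin]
  rfl

/-- the standard generators of a group isomorphic to `A₅` -/
theorem exists_gens_of_a5 {L : Type*} [Group L] (e : L ≃* alternatingGroup (Fin 5)) :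
    ∃ X Y : L, X ≠ 1 ∧ X * X = 1 ∧ Y ≠ 1 ∧ Y * Y * Y = 1 ∧ X * Y ≠ 1 ∧
      (X * Y) * (X * Y) * (X * Y) * (X * Y) * (X * Y) = 1 := by
  obtain ⟨a, b, ha1, ha2, hb1, hb3, hab1, hab5⟩ := a5_gens
  refine ⟨e.symm a, e.symm b, ?_, ?_, ?_, ?_, ?_, ?_⟩
  · intro h
    apply ha1
    have := congrArg e h
    rwa [MulEquiv.apply_symm_apply, map_one] at this
  · rw [← map_mul, ha2, map_one]
  · intro h
    apply hb1
    have := congrArg e h
    rwa [MulEquiv.apply_symm_apply, map_one] at this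
  · rw [← map_mul, ← map_mul, hb3, map_one]
  · intro h
    apply hab1
    have := congrArg e h
    rwa [map_mul, MulEquiv.apply_symm_apply, MulEquiv.apply_symm_apply, map_one] at this
  · simp only [← map_mul]
    rw [hab5, map_one]

/-- every subgroup isomorphic to `A₅` is one of the 22 -/
theorem eq_Hs_of_a5 (L : Subgroup M660) (hL : Nonempty (L ≃* alternatingGroup (Fin 5))) :
    ∃ i : Fin 22, L = Hs i := by
  obtain ⟨e⟩ := hL
  have hcardL : Nat.card L = 60 := by rw [Nat.card_congr e.toEquiv, card_a5]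
  obtain ⟨⟨x, hxL⟩, ⟨y, hyL⟩, hX1, hX2, hY1, hY3, hXY1, hXY5⟩ := exists_gens_of_a5 e
  have hx1 : x ≠ 1 := fun h => hX1 (Subtype.ext h)
  have hy1 : y ≠ 1 := fun h => hY1 (Subtype.ext h)
  have hxy1 : x * y ≠ 1 := fun h => hXY1 (Subtype.ext h)
  have hx2 : x * x = 1 := congrArg Subtype.val hX2
  have hy3 : y * y * y = 1 := congrArg Subtype.val hY3
  have hxy5 : (x * y) * (x * y) * (x * y) * (x * y) * (x * y) = 1 := congrArg Subtype.val hXY5
  have hpow : (x * y) ^ 5 = 1 := by
    rw [← hxy5]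
    simp only [pow_succ, pow_zero, one_mul]
  have hpc : pow5c (x * y).1 = 1332 := by
    rw [← pow5_val, hpow]
    rfl
  obtain ⟨i, hi1, hi2⟩ := gen_fact x hx1 hx2 y hy1 hy3 hpc
  refine ⟨i, ?_⟩
  have hxi : x ∈ Hs i := (mem_Hs i x).mpr hi1
  have hyi : y ∈ Hs i := (mem_Hs i y).mpr hi2
  have hCL : Subgroup.closure {x, y} ≤ L := by
    rw [Subgroup.closure_le]
    intro z hz
    rcases hz with rfl | rfl
    · exact hxL
    · exact hyL
  have hCH : Subgroup.closure {x, y} ≤ Hs i := by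
    rw [Subgroup.closure_le]
    intro z hz
    rcases hz with rfl | rfl
    · exact hxi
    · exact hyi
  have hxC : x ∈ Subgroup.closure {x, y} := Subgroup.subset_closure (by simp)
  have hyC : y ∈ Subgroup.closure {x, y} := Subgroup.subset_closure (by simp)
  have h2 : 2 ∣ Nat.card (Subgroup.closure {x, y}) := by
    have ho : orderOf x = 2 := by
      have : Fact (Nat.Prime 2) := ⟨Nat.prime_two⟩
      exact orderOf_eq_prime (by rw [pow_two]; exact hx2) hx1
    rw [← ho]
    exact Subgroup.orderOf_dvd_natCard _ hxC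
  have h3 : 3 ∣ Nat.card (Subgroup.closure {x, y}) := by
    have ho : orderOf y = 3 := by
      have : Fact (Nat.Prime 3) := ⟨Nat.prime_three⟩
      exact orderOf_eq_prime (by simp only [pow_succ, pow_zero, one_mul]; exact hy3) hy1
    rw [← ho]
    exact Subgroup.orderOf_dvd_natCard _ hyC
  have h5 : 5 ∣ Nat.card (Subgroup.closure {x, y}) := by
    have ho : orderOf (x * y) = 5 := by
      have : Fact (Nat.Prime 5) := ⟨by norm_num⟩
      exact orderOf_eq_prime hpow hxy1
    rw [← ho]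
    exact Subgroup.orderOf_dvd_natCard _ (Subgroup.mul_mem _ hxC hyC)
  have h30 : 30 ∣ Nat.card (Subgroup.closure {x, y}) := by
    have h6 : 2 * 3 ∣ Nat.card (Subgroup.closure {x, y}) :=
      Nat.Coprime.mul_dvd_of_dvd_of_dvd (by norm_num) h2 h3
    have h30' : 2 * 3 * 5 ∣ Nat.card (Subgroup.closure {x, y}) :=
      Nat.Coprime.mul_dvd_of_dvd_of_dvd (by norm_num) h6 h5
    exact h30'
  have hd60 : Nat.card (Subgroup.closure {x, y}) ∣ 60 := by
    rw [← hcardL]
    exact Subgroup.card_dvd_of_le hCL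
  have hC : Nat.card (Subgroup.closure {x, y}) = 30 ∨ Nat.card (Subgroup.closure {x, y}) = 60 := by
    obtain ⟨k, hk⟩ := h30
    have hle : Nat.card (Subgroup.closure {x, y}) ≤ 60 := Nat.le_of_dvd (by norm_num) hd60
    have hpos : 0 < Nat.card (Subgroup.closure {x, y}) := Nat.card_pos
    omega
  rcases hC with hC | hC
  · exfalso
    have hsub : Nat.card ((Subgroup.closure {x, y}).subgroupOf L) = 30 := by
      rw [Nat.card_congr (Subgroup.subgroupOfEquivOfLe hCL).toEquiv, hC]
    have hidx : ((Subgroup.closure {x, y}).subgroupOf L).index = 2 := by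
      have h1 := ((Subgroup.closure {x, y}).subgroupOf L).card_mul_index
      rw [hsub, hcardL] at h1
      omega
    have : IsSimpleGroup L := e.isSimpleGroup
    exact Cfsg.Agent.S0493.no_index_two (by rw [hcardL]; norm_num) _ hidx
  · have e1 : Subgroup.closure {x, y} = L :=
      Subgroup.eq_of_le_of_card_ge hCL (by rw [hC, hcardL])
    have e2 : Subgroup.closure {x, y} = Hs i :=
      Subgroup.eq_of_le_of_card_ge hCH (by rw [hC, card_Hs])
    rw [← e1, e2]

/-- conjugates of `H0` and `K0` are never equal -/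
theorem conj_H0_ne_K0 (g : M660) : MulAut.conj g • H0 ≠ K0 := by
  intro h
  obtain ⟨x, hx1, hx2⟩ := nonconj_fact g
  have hx : x ∈ H0 := hx1
  have h1 : g * x * g⁻¹ ∈ MulAut.conj g • H0 := by
    rw [Subgroup.mem_pointwise_smul_iff_inv_smul_mem, MulAut.smul_def, MulAut.conj_inv_apply]
    have : g⁻¹ * (g * x * g⁻¹) * g = x := by group
    rw [this]
    exact hx
  rw [h] at h1
  have h2 : mb maskK (g * x * g⁻¹) = true := h1
  rw [hx2] at h2
  exact Bool.false_ne_true h2

/-- the statement on `A₅`-subgroups, in the model -/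
theorem stmt43_model : Stmt43 M660 := by
  refine ⟨?_, H0, K0, H0_a5, K0_a5, conj_H0_ne_K0, ?_⟩
  · have eqv : Fin 22 ≃ {H : Subgroup M660 // Nonempty (H ≃* alternatingGroup (Fin 5))} :=
      Equiv.ofBijective (fun i => ⟨Hs i, Hs_a5 i⟩)
        ⟨fun i j hij => Hs_injective (congrArg Subtype.val hij),
          fun ⟨L, hL⟩ => by
            obtain ⟨i, hi⟩ := eq_Hs_of_a5 L hL
            exact ⟨i, Subtype.ext hi.symm⟩⟩
    rw [← Nat.card_congr eqv, Nat.card_fin]
  · intro L hL
    obtain ⟨i, hi⟩ := eq_Hs_of_a5 L hL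
    refine ⟨(gF i)⁻¹, ?_⟩
    have h1 : MulAut.conj (gF i)⁻¹ • L = baseS i := by
      rw [hi]
      unfold Hs
      rw [map_inv, inv_smul_smul]
    rw [h1]
    unfold baseS
    split_ifs
    · left; rfl
    · right; rfl

/-- every element outside `H0` lies in the double coset of `u0` -/
theorem dc_u0 (y : M660) (hy : y ∉ H0) : ∃ h ∈ H0, ∃ t ∈ H0, y = h * u0 * t := by
  rcases dc_factB y with h | ⟨s, hs, hys⟩
  · exact (hy h).elim
  · have h1 : s * u0 ∈ H0 := dc_factA s hs
    refine ⟨y * s, hys, (s * u0)⁻¹, H0.inv_mem h1, ?_⟩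
    group

theorem dc_H0 (x y : M660) (hx : x ∉ H0) (hy : y ∉ H0) : ∃ h ∈ H0, ∃ k ∈ H0, y = h * x * k := by
  obtain ⟨h1, hh1, t1, ht1, e1⟩ := dc_u0 x hx
  obtain ⟨h2, hh2, t2, ht2, e2⟩ := dc_u0 y hy
  refine ⟨h2 * h1⁻¹, H0.mul_mem hh2 (H0.inv_mem hh1), t1⁻¹ * t2, H0.mul_mem (H0.inv_mem ht1) ht2, ?_⟩
  rw [e2, e1]
  group

theorem index_H0 : H0.index = 11 := by
  have h1 := H0.card_mul_index
  rw [card_H0, card_M660'] at h1
  omega

/-- the statement on the index 11 subgroup, in any group isomorphic to the model -/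
theorem stmt42_of_equiv {G : Type*} [Group G] (e : G ≃* M660) :
    ∃ H : Subgroup G, H.index = 11 ∧ Nonempty (H ≃* alternatingGroup (Fin 5)) ∧
      MulAction.IsMultiplyPretransitive G (G ⧸ H) 2 := by
  refine ⟨H0.comap e.toMonoidHom, ?_, ?_, ?_⟩
  · rw [Subgroup.index_comap_of_surjective _ e.surjective, index_H0]
  · obtain ⟨f⟩ := H0_a5
    have h1 : (H0.comap e.toMonoidHom).map e.toMonoidHom = H0 :=
      Subgroup.map_comap_eq_self_of_surjective e.surjective H0
    exact ⟨(e.subgroupMap (H0.comap e.toMonoidHom)).trans ((MulEquiv.subgroupCongr h1).trans f)⟩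
  · apply twoTrans_of_dc
    intro x y hx hy
    have hx' : e x ∉ H0 := hx
    have hy' : e y ∉ H0 := hy
    obtain ⟨h, hh, k, hk, hyk⟩ := dc_H0 (e x) (e y) hx' hy'
    refine ⟨e.symm h, ?_, e.symm k, ?_, ?_⟩
    · show e (e.symm h) ∈ H0
      rw [MulEquiv.apply_symm_apply]; exact hh
    · show e (e.symm k) ∈ H0
      rw [MulEquiv.apply_symm_apply]; exact hk
    · apply e.injective
      rw [map_mul, map_mul, MulEquiv.apply_symm_apply, MulEquiv.apply_symm_apply]
      exact hyk

end Cfsg.Agent.Lib.Helper16.L211
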