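import Mathlib
import Cfsg.Agent.Lib.Helper16.FieldCentPSL
import Cfsg.Agent.Lib.Helper16.GraphFieldCoset
import Cfsg.Agent.Lib.Helper6.LocalBalE
import Cfsg.Agent.Lib.Helper6.LocalBalC

/-!
# Local balance for the linear groups, part A: the subfield subgroup in the centraliser of a
field automorphism
-/

set_option autoImplicit false
set_option linter.unusedSectionVars false
set_option linter.unusedVariables false
set_option linter.unusedSimpArgs false
set_option linter.style.haveILetI false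

namespace Cfsg.Agent.Lib.Helper16.LBal

open Matrix Cfsg Cfsg.Agent.Lib.Helper6.AutPSL Cfsg.Agent.Lib.Helper16.H90GL
  Cfsg.Agent.Lib.Helper16.FieldCoset Cfsg.Agent.Lib.Helper16.SplitCount
  Cfsg.Agent.Lib.Helper16.UnitaryDescent Cfsg.Agent.Lib.Helper16.FieldCentPSL
open Cfsg.Agent.Lib.Helper16.GraphFieldCoset (tpow_comm_fP tpow_mul_tP)
open Cfsg.Agent.Lib.Helper6.LocalBal (ringAut_comm comm_of_comm_mul exists_restrict_aut
  mem_zpowers_of_fixed mem_cent_singleton)

variable {F : Type*} [Field F] {n : ℕ}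

local notation "PSLn" => Matrix.ProjectiveSpecialLinearGroup (Fin n) F

theorem cP_eq_one_iff (hn : 2 ≤ n) (g : GL (Fin n) F) :
    (cP g : MulAut PSLn) = 1 ↔ ∃ μ : F, g.1 = μ • (1 : Matrix (Fin n) (Fin n) F) := by
  have := cP_eq_iff hn g 1
  rw [map_one, Units.val_one] at this
  exact this

section dec
variable [Fintype F] {p f : ℕ} [Fact p.Prime] (hF : Fintype.card F = p ^ f) (hf : 1 ≤ f)

include hF hf in
/-- the decomposition of an automorphism, without graph part in dimension two -/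
theorem exists_dec' (hn : 2 ≤ n) (β : MulAut PSLn) :
    ∃ (a : GL (Fin n) F) (τ : RingAut F) (k : ZMod 2), β = cP a * fP τ * tpow k ∧
      (n = 2 → k = 0) := by
  rcases Nat.lt_or_ge n 3 with h | h
  · obtain rfl : n = 2 := by omega
    obtain ⟨g, τ, e⟩ := aut_psl_two hF hf β
    exact ⟨g, τ, 0, by rw [tpow_zero, mul_one, e], fun _ => rfl⟩
  · obtain ⟨m, rfl⟩ : ∃ m, n = m + 3 := ⟨n - 3, by omega⟩
    obtain ⟨τ, k, g, e⟩ := exists_hasDec hF hf m β
    exact ⟨g, τ, k, e, fun h => by omega⟩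

end dec

section field
variable (hn : 2 ≤ n) {F₀ : Type*} [Field F₀] (j : F₀ →+* F) (σ : RingAut F)
  (hj : ∀ a : F, σ a = a ↔ a ∈ Set.range j)

local notation "PSLn₀" => Matrix.ProjectiveSpecialLinearGroup (Fin n) F₀

theorem mapGL_val (x : GL (Fin n) F₀) :
    (Matrix.GeneralLinearGroup.map j x).1 = x.1.map j := rfl

/-- base change composed with the action -/
noncomputable def bcL : GL (Fin n) F₀ →* MulAut PSLn :=
  cP.comp (Matrix.GeneralLinearGroup.map j)

theorem bcL_apply (x : GL (Fin n) F₀) :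
    (bcL j x : MulAut PSLn) = cP (Matrix.GeneralLinearGroup.map j x) := rfl

/-- the homomorphism of the special linear group of the subfield -/
noncomputable def thetaL : Matrix.SpecialLinearGroup (Fin n) F₀ →* MulAut PSLn :=
  (bcL j).comp Matrix.SpecialLinearGroup.toGL

theorem thetaL_apply (s₀ : Matrix.SpecialLinearGroup (Fin n) F₀) :
    (thetaL j s₀ : MulAut PSLn) =
      cP (Matrix.GeneralLinearGroup.map j (Matrix.SpecialLinearGroup.toGL s₀)) := rfl

/-- the subfield subgroup -/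
noncomputable def subL : Subgroup (MulAut PSLn) := (thetaL (n := n) j).range

include hn in
theorem bcL_eq_one_iff (x : GL (Fin n) F₀) :
    (bcL j x : MulAut PSLn) = 1 ↔ ∃ c₀ : F₀, x.1 = c₀ • (1 : Matrix (Fin n) (Fin n) F₀) := by
  have hjinj : Function.Injective j := RingHom.injective j
  rw [bcL_apply, cP_eq_one_iff hn, mapGL_val]
  constructor
  · rintro ⟨μ, hμ⟩
    let i0 : Fin n := ⟨0, by omega⟩
    have hμ0 : j (x.1 i0 i0) = μ := by
      have := congrFun (congrFun hμ i0) i0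
      simpa using this
    refine ⟨x.1 i0 i0, ?_⟩
    ext s t
    apply hjinj
    have hst0 := congrFun (congrFun hμ s) t
    rw [Matrix.map_apply] at hst0
    rw [hst0, Matrix.smul_apply, Matrix.smul_apply, Matrix.one_apply,
      Matrix.one_apply]
    by_cases hst : s = t
    · rw [if_pos hst, if_pos hst, smul_eq_mul, smul_eq_mul, mul_one, mul_one, hμ0]
    · rw [if_neg hst, if_neg hst, smul_zero, smul_zero, map_zero]
  · rintro ⟨c, hc⟩
    refine ⟨j c, ?_⟩
    rw [hc]
    ext s t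
    rw [Matrix.map_apply, Matrix.smul_apply, Matrix.smul_apply, Matrix.one_apply,
      Matrix.one_apply]
    by_cases hst : s = t
    · rw [if_pos hst, if_pos hst, smul_eq_mul, smul_eq_mul, mul_one, mul_one]
    · rw [if_neg hst, if_neg hst, smul_zero, smul_zero, map_zero]

include hn in
/-- the kernel of the homomorphism is the centre -/
theorem thetaL_ker :
    (thetaL (F := F) (n := n) j).ker =
      Subgroup.center (Matrix.SpecialLinearGroup (Fin n) F₀) := by
  ext s₀
  rw [MonoidHom.mem_ker]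
  change (bcL j (Matrix.SpecialLinearGroup.toGL s₀) : MulAut PSLn) = 1 ↔ _
  rw [bcL_eq_one_iff hn j, Matrix.SpecialLinearGroup.mem_center_iff]
  have hv : (Matrix.SpecialLinearGroup.toGL s₀).1 = s₀.1 := rfl
  rw [hv]
  constructor
  · rintro ⟨c₀, hc₀⟩
    refine ⟨c₀, ?_, ?_⟩
    · have := s₀.2
      rw [hc₀, Matrix.det_smul, Matrix.det_one, mul_one] at this
      exact this
    · rw [scalar_eq_smul_one, hc₀]
  · rintro ⟨c₀, -, hc₀⟩
    refine ⟨c₀, ?_⟩
    rw [← hc₀, scalar_eq_smul_one]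

include hn in
/-- the subfield subgroup is the projective special linear group of the subfield -/
theorem subL_equiv : Nonempty (↥(subL (F := F) (n := n) j) ≃* PSLn₀) := by
  have e1 : Matrix.SpecialLinearGroup (Fin n) F₀ ⧸ (thetaL (F := F) (n := n) j).ker ≃*
      ↥(thetaL (F := F) (n := n) j).range :=
    QuotientGroup.quotientKerEquivRange _
  have e2 : PSLn₀ ≃* Matrix.SpecialLinearGroup (Fin n) F₀ ⧸ (thetaL (F := F) (n := n) j).ker :=
    QuotientGroup.quotientMulEquivOfEq (thetaL_ker hn j).symm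
  exact ⟨(e2.trans e1).symm⟩

/-- base change commutes with the entrywise automorphisms -/
theorem sG_mapGL (ρ : RingAut F) (ρ₀ : RingAut F₀) (hρ : ∀ t, ρ (j t) = j (ρ₀ t))
    (x : GL (Fin n) F₀) :
    sG ρ (Matrix.GeneralLinearGroup.map j x) = Matrix.GeneralLinearGroup.map j (sG ρ₀ x) := by
  apply Units.ext
  rw [sG_val, mapGL_val, mapGL_val, sG_val]
  ext s t
  simp only [Matrix.map_apply]
  exact hρ _

/-- **the conjugation relation** -/
theorem conj_thetaL (h₀ : GL (Fin n) F₀) (ρ : RingAut F) (ρ₀ : RingAut F₀)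
    (hρ : ∀ t, ρ (j t) = j (ρ₀ t)) (s₀ : Matrix.SpecialLinearGroup (Fin n) F₀) :
    (bcL j h₀ * fP ρ : MulAut PSLn) * thetaL j s₀ =
      thetaL j (cG h₀ (fA ρ₀ s₀)) * (bcL j h₀ * fP ρ) := by
  rw [thetaL_apply, thetaL_apply, bcL_apply]
  have e1 : (cP (Matrix.GeneralLinearGroup.map j h₀) * fP ρ *
      cP (Matrix.GeneralLinearGroup.map j (Matrix.SpecialLinearGroup.toGL s₀)) : MulAut PSLn) =
      cP (Matrix.GeneralLinearGroup.map j h₀ *
        sG ρ (Matrix.GeneralLinearGroup.map j (Matrix.SpecialLinearGroup.toGL s₀))) * fP ρ := by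
    rw [mul_assoc, rel_fP_cP, ← mul_assoc, ← map_mul]
  rw [e1, ← mul_assoc, ← map_mul]
  congr 2
  rw [sG_mapGL j ρ ρ₀ hρ, ← map_mul, ← map_mul]
  congr 1
  apply Units.ext
  change h₀.1 * (sG ρ₀ (Matrix.SpecialLinearGroup.toGL s₀)).1 =
    (cG h₀ (fA ρ₀ s₀)).1 * h₀.1
  rw [sG_val, cG_val, fA_val, Matrix.mul_assoc, gl_inv_mul, Matrix.mul_one]
  rfl

/-- the conjugation relation for the graph automorphism -/
theorem conj_tP_thetaL (s₀ : Matrix.SpecialLinearGroup (Fin n) F₀) :
    (tP : MulAut PSLn) * thetaL j s₀ = thetaL j (tA s₀) * tP := by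
  rw [thetaL_apply, thetaL_apply, rel_tP_cP]
  congr 2
  apply Units.ext
  rw [gT_val, mapGL_val]
  have h1 : (Matrix.GeneralLinearGroup.map j (Matrix.SpecialLinearGroup.toGL s₀))⁻¹ =
      Matrix.GeneralLinearGroup.map j (Matrix.SpecialLinearGroup.toGL s₀⁻¹) := by
    rw [← map_inv, ← map_inv]
  rw [h1, mapGL_val]
  have h2 : (Matrix.SpecialLinearGroup.toGL (tA s₀)).1 = ((s₀⁻¹).1)ᵀ := rfl
  have h3 : (Matrix.SpecialLinearGroup.toGL s₀⁻¹).1 = (s₀⁻¹).1 := rfl
  rw [h2, h3, Matrix.transpose_map]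

end field

end Cfsg.Agent.Lib.Helper16.LBal
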