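import Mathlib
import Cfsg.Agent.Lib.Helper16.LBalA

/-!
# Local balance for the linear groups, part B: the subfield subgroup is normalised by the
centraliser of the field automorphism, and its centraliser there is generated by the field
automorphism
-/

set_option autoImplicit false
set_option linter.unusedSectionVars false
set_option linter.unusedVariables false
set_option linter.unusedSimpArgs false
set_option linter.style.haveILetI false

namespace Cfsg.Agent.Lib.Helper16.LBal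

open Matrix Cfsg Cfsg.Agent.Lib.Helper6.AutPSL Cfsg.Agent.Lib.Helper16.H90GL
  Cfsg.Agent.Lib.Helper16.FieldCoset Cfsg.Agent.Lib.Helper16.SplitCount
  Cfsg.Agent.Lib.Helper16.UnitaryDescent Cfsg.Agent.Lib.Helper16.FieldCentPSL
open Cfsg.Agent.Lib.Helper16.GraphFieldCoset (tpow_comm_fP tpow_mul_tP)
open Cfsg.Agent.Lib.Helper6.LocalBal (ringAut_comm comm_of_comm_mul exists_restrict_aut
  mem_zpowers_of_fixed mem_cent_singleton)

variable {F : Type*} [Field F] {n : ℕ}

local notation "PSLn" => Matrix.ProjectiveSpecialLinearGroup (Fin n) F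

section field
variable (hn : 2 ≤ n) {F₀ : Type*} [Field F₀] (j : F₀ →+* F) (σ : RingAut F)
  (hj : ∀ a : F, σ a = a ↔ a ∈ Set.range j)

local notation "PSLn₀" => Matrix.ProjectiveSpecialLinearGroup (Fin n) F₀

include hn hj in
/-- descent of a matrix fixed up to a scalar -/
theorem exists_descent_L (g : GL (Fin n) F) (μ : F) (hμ : g.1.map σ = μ • g.1) :
    ∃ g₀ : GL (Fin n) F₀, (cP g : MulAut PSLn) = bcL j g₀ := by
  have hn1 : 1 ≤ n := by omega
  obtain ⟨a, ha0, ha⟩ := exists_fixed_mul hn1 σ g μ hμ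
  have hent : ∀ s t, ∃ b : F₀, j b = (a • g.1) s t := by
    intro s t
    have h1 : σ ((a • g.1) s t) = (a • g.1) s t := by
      have := congrFun (congrFun ha s) t
      rwa [Matrix.map_apply] at this
    obtain ⟨b, hb⟩ := (hj _).mp h1
    exact ⟨b, hb⟩
  choose M₀ hM₀ using hent
  have hM₀' : (Matrix.of M₀).map j = a • g.1 := by
    ext s t
    rw [Matrix.map_apply, Matrix.of_apply, hM₀]
  have hdet : (Matrix.of M₀).det ≠ 0 := by
    intro h0
    have h1 := RingHom.map_det j (Matrix.of M₀)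
    have h2 : j.mapMatrix (Matrix.of M₀) = (Matrix.of M₀).map j := rfl
    rw [h2, hM₀', h0, map_zero, Matrix.det_smul] at h1
    have h3 : g.1.det ≠ 0 := by
      have := (Matrix.GeneralLinearGroup.det g).ne_zero
      rwa [val_det] at this
    exact mul_ne_zero (pow_ne_zero _ ha0) h3 h1.symm
  refine ⟨Matrix.GeneralLinearGroup.mkOfDetNeZero (Matrix.of M₀) hdet, ?_⟩
  rw [bcL_apply]
  symm
  apply cP_eq_of_smul _ _ a
  rw [mapGL_val]
  exact hM₀'

include hn hj in
/-- the base-changed automorphisms commute with the field automorphism -/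
theorem bcL_comm (g₀ : GL (Fin n) F₀) :
    (fP σ * bcL j g₀ : MulAut PSLn) = bcL j g₀ * fP σ := by
  rw [bcL_apply, comm_iff hn]
  refine ⟨1, ?_⟩
  rw [one_smul, mapGL_val]
  ext s t
  rw [Matrix.map_apply, Matrix.map_apply]
  exact (hj _).mpr ⟨_, rfl⟩

/-- the elements of the subfield subgroup are inner -/
theorem thetaL_eq_conj (s₀ : Matrix.SpecialLinearGroup (Fin n) F₀) :
    (thetaL j s₀ : MulAut PSLn) = MulAut.conj (pm (Matrix.SpecialLinearGroup.map j s₀)) := by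
  rw [thetaL_apply, conj_eq_cP]
  congr 1
  apply Units.ext
  rfl

include hn hj in
theorem subL_le :
    subL (F := F) (n := n) j ≤ Cfsg.Inn PSLn ⊓ Subgroup.centralizer {fP σ} := by
  rintro _ ⟨s₀, rfl⟩
  refine ⟨?_, ?_⟩
  · exact ⟨pm (Matrix.SpecialLinearGroup.map j s₀), (thetaL_eq_conj j s₀).symm⟩
  · apply (mem_cent_singleton _ _).mpr
    exact (bcL_comm hn j σ hj (Matrix.SpecialLinearGroup.toGL s₀)).symm

section fin
variable [Fintype F] {p f : ℕ} [Fact p.Prime] (hF : Fintype.card F = p ^ f) (hf : 1 ≤ f)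

include hn hj hF hf in
/-- the centraliser of the field automorphism -/
theorem exists_cent_decomp_L (c : MulAut PSLn) (hc : c * fP σ = fP σ * c) :
    ∃ (g₀ : GL (Fin n) F₀) (ρ : RingAut F) (e : ZMod 2),
      c = bcL j g₀ * fP ρ * tpow e ∧ (n = 2 → e = 0) ∧ ∀ a : F₀, ρ (j a) ∈ Set.range j := by
  obtain ⟨k, ρ, e, hk, he⟩ := exists_dec' hF hf hn c
  have hff : (fP σ * (fP ρ * tpow e) : MulAut PSLn) = fP ρ * tpow e * fP σ := by
    rw [mul_assoc, tpow_comm_fP, ← mul_assoc, ← mul_assoc, ← fP_mul, ← fP_mul, ringAut_comm]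
  have hkc : (fP σ * cP k : MulAut PSLn) = cP k * fP σ := by
    apply comm_of_comm_mul _ _ _ hff
    rw [← mul_assoc, ← hk]
    exact hc
  obtain ⟨μ, hμ⟩ := (comm_iff hn σ k).mp hkc
  obtain ⟨g₀, hg₀⟩ := exists_descent_L hn j σ hj k μ hμ
  refine ⟨g₀, ρ, e, ?_, he, ?_⟩
  · rw [hk, hg₀]
  · intro b
    rw [← hj]
    have h1 : σ (ρ (j b)) = (σ * ρ) (j b) := rfl
    rw [h1, ringAut_comm]
    change ρ (σ (j b)) = _
    rw [(hj _).mpr ⟨b, rfl⟩]

variable [Finite F₀]

include hn hj hF hf in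
/-- the conjugation relation for a general element of the centraliser -/
theorem exists_conj_L (c : MulAut PSLn) (hc : c * fP σ = fP σ * c) :
    ∃ (g₀ : GL (Fin n) F₀) (ρ : RingAut F) (ρ₀ : RingAut F₀) (e : ZMod 2),
      c = bcL j g₀ * fP ρ * tpow e ∧ (n = 2 → e = 0) ∧ (∀ t, j (ρ₀ t) = ρ (j t)) ∧
      ∀ s₀ : Matrix.SpecialLinearGroup (Fin n) F₀,
        c * thetaL j s₀ = thetaL j (cG g₀ (fA ρ₀ (if e = 0 then s₀ else tA s₀))) * c := by
  obtain ⟨g₀, ρ, e, hcd, he, hpres⟩ := exists_cent_decomp_L hn j σ hj hF hf c hc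
  obtain ⟨ρ₀, hρ₀⟩ := exists_restrict_aut j ρ hpres
  refine ⟨g₀, ρ, ρ₀, e, hcd, he, hρ₀, ?_⟩
  intro s₀
  rw [hcd]
  rcases zmod2_cases e with rfl | rfl
  · rw [if_pos rfl, tpow_zero, mul_one]
    exact conj_thetaL j g₀ ρ ρ₀ (fun t => (hρ₀ t).symm) s₀
  · rw [if_neg (by decide), tpow_one]
    calc (bcL j g₀ * fP ρ * tP : MulAut PSLn) * thetaL j s₀
        = bcL j g₀ * fP ρ * (tP * thetaL j s₀) := by rw [mul_assoc]
      _ = bcL j g₀ * fP ρ * (thetaL j (tA s₀) * tP) := by rw [conj_tP_thetaL]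
      _ = (bcL j g₀ * fP ρ * thetaL j (tA s₀)) * tP := by simp only [mul_assoc]
      _ = (thetaL j (cG g₀ (fA ρ₀ (tA s₀))) * (bcL j g₀ * fP ρ)) * tP := by
          rw [conj_thetaL j g₀ ρ ρ₀ (fun t => (hρ₀ t).symm)]
      _ = _ := by simp only [mul_assoc]

include hn hj hF hf in
/-- the centraliser of the field automorphism normalises the subfield subgroup -/
theorem subL_norm (c : MulAut PSLn) (hc : c * fP σ = fP σ * c)
    (k : MulAut PSLn) (hk : k ∈ subL (F := F) (n := n) j) :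
    c * k * c⁻¹ ∈ subL (F := F) (n := n) j := by
  obtain ⟨s₀, rfl⟩ := hk
  obtain ⟨g₀, ρ, ρ₀, e, -, -, -, h1⟩ := exists_conj_L hn j σ hj hF hf c hc
  rw [h1 s₀, mul_inv_cancel_right]
  exact ⟨_, rfl⟩

include hn hj hF hf in
/-- the centraliser of the subfield subgroup in the centraliser of the field automorphism -/
theorem subL_cent (c : MulAut PSLn) (hc : c * fP σ = fP σ * c)
    (hcomm : ∀ k ∈ subL (F := F) (n := n) j, c * k = k * c) :
    c ∈ Subgroup.zpowers (fP σ : MulAut PSLn) := by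
  obtain ⟨g₀, ρ, ρ₀, e, hcd, he, hρ₀, h1⟩ := exists_conj_L hn j σ hj hF hf c hc
  have h2 : 2 ≤ Fintype.card (Fin n) := card_fin_ge hn
  have hn1 : (cP g₀ * fP ρ₀ * tpow e : MulAut PSLn₀) = 1 := by
    ext x
    obtain ⟨s₀, rfl⟩ := pm_surjective x
    have h3 := h1 s₀
    rw [hcomm _ ⟨s₀, rfl⟩] at h3
    have h4 : thetaL (F := F) j s₀ = thetaL j (cG g₀ (fA ρ₀ (if e = 0 then s₀ else tA s₀))) :=
      mul_right_cancel h3
    have h5 : pm (cG g₀ (fA ρ₀ (if e = 0 then s₀ else tA s₀))) = pm s₀ := by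
      rw [eq_comm]
      apply QuotientGroup.eq.mpr
      rw [← thetaL_ker (F := F) hn j, MonoidHom.mem_ker, map_mul, map_inv, ← h4, inv_mul_cancel]
    rw [MulAut.one_apply, MulAut.mul_apply, MulAut.mul_apply]
    rcases zmod2_cases e with rfl | rfl
    · rw [if_pos rfl] at h5
      rw [tpow_zero, MulAut.one_apply, fP_mk, cP_mk]
      exact h5
    · rw [if_neg (by decide)] at h5
      rw [tpow_one, tP_mk, fP_mk, cP_mk]
      exact h5
  have he0 : e = 0 := by
    rcases Nat.lt_or_ge n 3 with h | h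
    · exact he (by omega)
    · have h3 : 3 ≤ Fintype.card (Fin n) := card_fin_ge h
      have hd1 : HasDec (1 : MulAut PSLn₀) ρ₀ e := ⟨g₀, hn1.symm⟩
      have hd2 : HasDec (1 : MulAut PSLn₀) 1 0 :=
        ⟨1, by rw [map_one, fP_one, tpow_zero, one_mul, one_mul]⟩
      exact (HasDec.unique h3 hd1 hd2).2
  subst he0
  rw [tpow_zero, mul_one] at hn1 hcd
  have hn1' : (cP g₀ * fP ρ₀ : MulAut PSLn₀) = cP 1 * fP 1 := by
    rw [hn1, map_one, fP_one, mul_one]
  obtain ⟨hρ₀1, hg₀c⟩ := decomp_unique h2 g₀ 1 ρ₀ 1 hn1'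
  have hb1 : (bcL j g₀ : MulAut PSLn) = 1 := by
    rw [bcL_eq_one_iff hn j]
    rw [inv_one, one_mul, Matrix.GeneralLinearGroup.mem_center_iff_val_mem_range_scalar] at hg₀c
    obtain ⟨a₀, ha₀⟩ := hg₀c
    exact ⟨a₀, by rw [← ha₀, scalar_eq_smul_one]⟩
  haveI : Finite F := Finite.of_fintype F
  have hmem : ρ ∈ Subgroup.zpowers σ := by
    apply mem_zpowers_of_fixed
    intro a ha
    obtain ⟨b, rfl⟩ := (hj a).mp ha
    rw [← hρ₀, hρ₀1]
    rfl
  obtain ⟨i, hi⟩ := Subgroup.mem_zpowers_iff.mp hmem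
  rw [Subgroup.mem_zpowers_iff]
  refine ⟨i, ?_⟩
  rw [hcd, hb1, one_mul, ← hi, ← fPhom_apply, ← fPhom_apply, map_zpow]

end fin

end field

end Cfsg.Agent.Lib.Helper16.LBal
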