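import Mathlib
import Cfsg.Agent.Lib.Helper6.SUThreeTwo

/-!
# Local balance for the unitary groups, part I: `PSU_3(2)` has no nontrivial normal subgroup of
order prime to three
-/

set_option autoImplicit false
set_option linter.unusedSectionVars false
set_option linter.unusedVariables false
set_option linter.unusedSimpArgs false
set_option linter.style.haveILetI false

namespace Cfsg.Agent.Lib.Helper16.UBal

open Cfsg Cfsg.Agent.Lib.Helper6.SUThreeTwo Cfsg.Agent.Lib.Helper6.FFour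

theorem q8_unique_inv (a b : QuaternionGroup 2) (ha : a * a = 1) (ha1 : a ≠ 1) (hb : b * b = 1)
    (hb1 : b ≠ 1) : a = b := by
  revert a b
  decide

/-- transporting the absence of normal `p'`-subgroups along an isomorphism -/
theorem ncore_of_equiv {G K : Type*} [Group G] [Group K] (M : Subgroup G) (e : ↥M ≃* K) (p : ℕ)
    (hK : ∀ N : Subgroup K, N.Normal → (Nat.card N).Coprime p → N = ⊥)
    (N : Subgroup G) (hNM : N ≤ M) (hnorm : ∀ k ∈ M, ∀ n ∈ N, k * n * k⁻¹ ∈ N)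
    (hcop : (Nat.card N).Coprime p) : N = ⊥ := by
  haveI hn : (N.subgroupOf M).Normal := by
    constructor
    intro n hn k
    rw [Subgroup.mem_subgroupOf] at hn ⊢
    exact hnorm k.1 k.2 n.1 hn
  have hn' : ((N.subgroupOf M).map e.toMonoidHom).Normal :=
    Subgroup.Normal.map hn _ e.surjective
  have hc : Nat.card ↥((N.subgroupOf M).map e.toMonoidHom) = Nat.card ↥N := by
    rw [← Nat.card_congr ((N.subgroupOf M).equivMapOfInjective e.toMonoidHom e.injective).toEquiv]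
    exact Nat.card_congr (Subgroup.subgroupOfEquivOfLe hNM).toEquiv
  have h1 := hK _ hn' (by rw [hc]; exact hcop)
  rw [Subgroup.map_eq_bot_iff_of_injective _ e.injective, Subgroup.subgroupOf_eq_bot] at h1
  rw [eq_bot_iff]
  intro n hn
  exact h1.le_bot ⟨hn, hNM hn⟩

/-- simple groups of order divisible by `p` have no nontrivial normal `p'`-subgroups -/
theorem ncore_simple {K : Type*} [Group K] [hs : IsSimpleGroup K] (p : ℕ) (hp : p.Prime)
    (hpK : p ∣ Nat.card K) (N : Subgroup K) (hN : N.Normal) (hcop : (Nat.card N).Coprime p) :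
    N = ⊥ := by
  rcases IsSimpleGroup.eq_bot_or_eq_top_of_normal N hN with h1 | h1
  · exact h1
  · exfalso
    rw [h1, Subgroup.card_top] at hcop
    have h4 : p ∣ Nat.gcd (Nat.card K) p := Nat.dvd_gcd hpK dvd_rfl
    rw [hcop.gcd_eq_one, Nat.dvd_one] at h4
    exact hp.one_lt.ne' h4

/-- **`PSU_3(2)` has no nontrivial normal subgroups of order prime to three** -/
theorem ncore_three_two {F : Type*} [Field F] [Fintype F] (hF4 : Fintype.card F = 4)
    (Nc : Subgroup (Cfsg.PSU 3 F 2)) (hNc : Nc.Normal) (hcop : (Nat.card Nc).Coprime 3) :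
    Nc = ⊥ := by
  classical
  have hF : Fintype.card F = 2 ^ 2 := by rw [hF4]; norm_num
  have h2 := two_eq_zero hF4
  obtain ⟨ω, hω⟩ := exists_omega hF4
  obtain ⟨φ, -⟩ : ∃ φ : K4 →+* F, φ = toF ω hω h2 := ⟨_, rfl⟩
  have hG : Nat.card (Cfsg.PSU 3 F 2) = 72 := (Cfsg.Agent.S0282.result hF4).1
  haveI : Finite (Cfsg.PSU 3 F 2) := Nat.finite_of_card_ne_zero (by rw [hG]; norm_num)
  obtain ⟨N, hN, hcard, hexp, ⟨e⟩⟩ := psu_three_two hF4
  -- the order of `Nc` divides `8`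
  have h8 : Nat.card Nc ∣ 8 := by
    have h1 : Nat.card Nc ∣ Nat.card (Cfsg.PSU 3 F 2) := Subgroup.card_subgroup_dvd_card Nc
    have e89 : (72 : ℕ) = 8 * 9 := by norm_num
    rw [hG, e89] at h1
    have h2 : Nat.card Nc ∣ 8 * 9 := h1
    have h3 : (Nat.card Nc).Coprime 9 := by
      have : (9 : ℕ) = 3 ^ 2 := by norm_num
      rw [this]
      exact Nat.Coprime.pow_right 2 hcop
    exact h3.dvd_of_dvd_mul_right h2
  have hpow8 : ∀ y ∈ Nc, y ^ 8 = 1 := by
    intro y hy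
    have h1 : (⟨y, hy⟩ : ↥Nc) ^ Nat.card Nc = 1 := pow_card_eq_one'
    obtain ⟨k, hk⟩ := h8
    have h2 : (⟨y, hy⟩ : ↥Nc) ^ 8 = 1 := by rw [hk, pow_mul, h1, one_pow]
    have := congrArg Subtype.val h2
    simpa using this
  -- the intersection with `N` is trivial
  have hint : ∀ w, w ∈ Nc → w ∈ N → w = 1 := by
    intro w hw1 hw2
    have h3 := hexp w hw2
    have h8 := hpow8 w hw1
    calc w = (w ^ 3) ^ 3 * (w ^ 8)⁻¹ := by group
      _ = 1 := by rw [h3, h8]; group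
  by_contra hne
  obtain ⟨y, hy1⟩ := (Subgroup.ne_bot_iff_exists_ne_one).mp hne
  have hyNc : (y : Cfsg.PSU 3 F 2) ∈ Nc := y.2
  have hy1' : (y : Cfsg.PSU 3 F 2) ≠ 1 := fun h => hy1 (Subtype.ext h)
  -- an involution in `Nc`
  obtain ⟨z, hzNc, hz1, hz2⟩ : ∃ z ∈ Nc, z ≠ 1 ∧ z * z = 1 := by
    have hy8 := hpow8 _ hyNc
    by_cases h4 : (y : Cfsg.PSU 3 F 2) ^ 4 = 1
    · by_cases h2 : (y : Cfsg.PSU 3 F 2) ^ 2 = 1
      · exact ⟨y, hyNc, hy1', by rw [← pow_two]; exact h2⟩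
      · refine ⟨(y : Cfsg.PSU 3 F 2) ^ 2, Subgroup.pow_mem _ hyNc 2, h2, ?_⟩
        rw [← pow_add]
        exact h4
    · refine ⟨(y : Cfsg.PSU 3 F 2) ^ 4, Subgroup.pow_mem _ hyNc 4, h4, ?_⟩
      rw [← pow_add]
      exact hy8
  -- it commutes with `N`
  have hcomm : ∀ m ∈ N, z * m * z⁻¹ = m := by
    intro m hm
    have h1 : z * m * z⁻¹ * m⁻¹ ∈ Nc := by
      have : z * m * z⁻¹ * m⁻¹ = z * (m * z⁻¹ * m⁻¹) := by group
      rw [this]
      exact Subgroup.mul_mem _ hzNc (hNc.conj_mem _ (Subgroup.inv_mem _ hzNc) m)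
    have h2 : z * m * z⁻¹ * m⁻¹ ∈ N :=
      Subgroup.mul_mem _ (hN.conj_mem _ hm z) (Subgroup.inv_mem _ hm)
    exact mul_inv_eq_one.mp (hint _ h1 h2)
  have hzN : z ∉ N := by
    intro h
    exact hz1 (hint z hzNc h)
  -- the image in the quaternion group
  obtain ⟨f2, hf2⟩ : ∃ f2 : Cfsg.PSU 3 F 2, f2 = f hF φ ^ 2 := ⟨_, rfl⟩
  have hf2sq : f2 * f2 = 1 := by
    rw [hf2, ← pow_add]
    exact f_four hF φ
  have hf2N : f2 ∉ N := by
    intro h
    have h3 := hexp f2 h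
    apply f_sq_ne hF φ
    rw [← hf2]
    calc f2 = f2 ^ 3 * (f2 * f2)⁻¹ := by group
      _ = 1 := by rw [h3, hf2sq]; group
  have hmk1 : ∀ w : Cfsg.PSU 3 F 2, w ∉ N → e (QuotientGroup.mk' N w) ≠ 1 := by
    intro w hw h
    apply hw
    have : QuotientGroup.mk' N w = 1 := by
      apply e.injective
      rw [h, map_one]
    exact (QuotientGroup.eq_one_iff w).mp this
  have hmk2 : ∀ w : Cfsg.PSU 3 F 2, w * w = 1 →
      e (QuotientGroup.mk' N w) * e (QuotientGroup.mk' N w) = 1 := by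
    intro w hw
    rw [← map_mul, ← map_mul, hw, map_one, map_one]
  have heq : QuotientGroup.mk' N z = QuotientGroup.mk' N f2 := by
    apply e.injective
    exact q8_unique_inv _ _ (hmk2 z hz2) (hmk1 z hzN) (hmk2 f2 hf2sq) (hmk1 f2 hf2N)
  have hm : f2⁻¹ * z ∈ N := by
    have := QuotientGroup.eq.mp heq.symm
    exact this
  -- `d` lies in `N`
  have hdN : d hF φ ∈ N := by
    have hq : Nat.card (Cfsg.PSU 3 F 2 ⧸ N) = 8 := by
      rw [Nat.card_congr e.toEquiv, Nat.card_eq_fintype_card, QuaternionGroup.card]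
    rw [← QuotientGroup.eq_one_iff]
    have h3 : ((d hF φ : Cfsg.PSU 3 F 2) : Cfsg.PSU 3 F 2 ⧸ N) ^ 3 = 1 := by
      rw [← QuotientGroup.mk_pow, d_pow]
      rfl
    have h8 : ((d hF φ : Cfsg.PSU 3 F 2) : Cfsg.PSU 3 F 2 ⧸ N) ^ 8 = 1 := by
      rw [← hq]
      exact pow_card_eq_one'
    calc ((d hF φ : Cfsg.PSU 3 F 2) : Cfsg.PSU 3 F 2 ⧸ N)
        = (((d hF φ : Cfsg.PSU 3 F 2) : Cfsg.PSU 3 F 2 ⧸ N) ^ 3) ^ 3 *
          (((d hF φ : Cfsg.PSU 3 F 2) : Cfsg.PSU 3 F 2 ⧸ N) ^ 8)⁻¹ := by group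
      _ = 1 := by rw [h3, h8]; group
  -- `N` is commutative
  haveI : Fact (Nat.Prime 3) := ⟨Nat.prime_three⟩
  have hNcomm : ∀ a b : ↥N, a * b = b * a :=
    IsPGroup.commutative_of_card_eq_prime_sq (p := 3) (by rw [hcard]; norm_num)
  have hmd : (f2⁻¹ * z) * d hF φ = d hF φ * (f2⁻¹ * z) := by
    have := hNcomm ⟨_, hm⟩ ⟨_, hdN⟩
    exact congrArg Subtype.val this
  -- the contradiction
  have h1 : z * d hF φ = d hF φ * z := by
    have := hcomm _ hdN
    rw [mul_inv_eq_iff_eq_mul] at this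
    exact this
  have h2 : f2 * d hF φ = d hF φ * f2 := by
    have hz' : z = f2 * (f2⁻¹ * z) := by group
    have h3 : f2 * (f2⁻¹ * z) * d hF φ = d hF φ * (f2 * (f2⁻¹ * z)) := by
      rw [← hz']; exact h1
    have h4 : f2 * d hF φ * (f2⁻¹ * z) = d hF φ * f2 * (f2⁻¹ * z) := by
      calc f2 * d hF φ * (f2⁻¹ * z) = f2 * (d hF φ * (f2⁻¹ * z)) := by group
        _ = f2 * ((f2⁻¹ * z) * d hF φ) := by rw [hmd]
        _ = f2 * (f2⁻¹ * z) * d hF φ := by group
        _ = d hF φ * (f2 * (f2⁻¹ * z)) := h3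
        _ = d hF φ * f2 * (f2⁻¹ * z) := by group
    exact mul_right_cancel h4
  have h3 : f2 * d hF φ = d hF φ ^ 2 * f2 := by
    rw [hf2, pow_two, mul_assoc, f_d, ← mul_assoc, f_c, mul_assoc]
  have h4 : d hF φ = d hF φ ^ 2 := by
    have : d hF φ * f2 = d hF φ ^ 2 * f2 := by rw [← h2, h3]
    exact mul_right_cancel this
  apply d_ne_one hF φ
  have h5 : d hF φ * 1 = d hF φ * d hF φ := by rw [mul_one, ← pow_two]; exact h4
  exact (mul_left_cancel h5).symm

end Cfsg.Agent.Lib.Helper16.UBal
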