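import Mathlib
import Cfsg.Agent.Lib.Helper16.LBalB
import Cfsg.Agent.Lib.Helper16.UBalI
import Cfsg.Agent.S0243
import Cfsg.Agent.S0249
import Cfsg.Agent.S0250
import Cfsg.Agent.S0251

/-!
# Local balance for the linear groups, part C: the subfield subgroup is good
-/

set_option autoImplicit false
set_option linter.unusedSectionVars false
set_option linter.unusedVariables false
set_option linter.unusedSimpArgs false
set_option linter.style.haveILetI false

namespace Cfsg.Agent.Lib.Helper16.LBal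

open Matrix Cfsg Cfsg.Agent.Lib.Helper6.AutPSL Cfsg.Agent.Lib.Helper16.H90GL
  Cfsg.Agent.Lib.Helper16.FieldCoset Cfsg.Agent.Lib.Helper16.SplitCount
  Cfsg.Agent.Lib.Helper16.UnitaryDescent Cfsg.Agent.Lib.Helper16.FieldCentPSL
open Cfsg.Agent.Lib.Helper16.GraphFieldCoset (tpow_comm_fP tpow_mul_tP)
open Cfsg.Agent.Lib.Helper6.LocalBal (ringAut_comm comm_of_comm_mul exists_restrict_aut
  mem_zpowers_of_fixed mem_cent_singleton Good')
open Cfsg.Agent.Lib.Helper16.UBal (ncore_of_equiv ncore_simple)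

/-! ### small groups -/

set_option maxRecDepth 100000 in
theorem s3_dec : ∀ z : Equiv.Perm (Fin 3), z ≠ 1 → z ^ 2 = 1 →
    ∃ g : Equiv.Perm (Fin 3), (z * (g * z * g⁻¹)) ^ 2 ≠ 1 := by
  decide

set_option maxRecDepth 100000 in
theorem a4_dec : ∀ z : alternatingGroup (Fin 4), z ≠ 1 → z ^ 3 = 1 →
    ∃ g : alternatingGroup (Fin 4), (z * (g * z⁻¹ * g⁻¹)) ^ 3 ≠ 1 := by
  decide

/-- the symmetric group of degree three has no nontrivial normal subgroup of order prime to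
three -/
theorem s3_noCore (N : Subgroup (Equiv.Perm (Fin 3))) (hN : N.Normal)
    (hcop : (Nat.card N).Coprime 3) : N = ⊥ := by
  have h6 : Nat.card (Equiv.Perm (Fin 3)) = 2 * 3 := by
    rw [Nat.card_eq_fintype_card, Fintype.card_perm, Fintype.card_fin]
    rfl
  have h2 : Nat.card N ∣ 2 := by
    have h1 : Nat.card N ∣ 2 * 3 := h6 ▸ Subgroup.card_subgroup_dvd_card N
    exact hcop.dvd_of_dvd_mul_right h1
  have hpow : ∀ y ∈ N, y ^ 2 = 1 := by
    intro y hy
    have h1 : (⟨y, hy⟩ : ↥N) ^ Nat.card N = 1 := pow_card_eq_one'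
    obtain ⟨k, hk⟩ := h2
    have h3 : (⟨y, hy⟩ : ↥N) ^ 2 = 1 := by rw [hk, pow_mul, h1, one_pow]
    have := congrArg Subtype.val h3
    simpa using this
  by_contra hne
  obtain ⟨z, hz1⟩ := (Subgroup.ne_bot_iff_exists_ne_one).mp hne
  have hz1' : (z : Equiv.Perm (Fin 3)) ≠ 1 := fun h => hz1 (Subtype.ext h)
  obtain ⟨g, hg⟩ := s3_dec z hz1' (hpow _ z.2)
  exact hg (hpow _ (N.mul_mem z.2 (hN.conj_mem _ z.2 g)))

/-- the alternating group of degree four has no nontrivial normal subgroup of odd order -/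
theorem a4_noCore (N : Subgroup (alternatingGroup (Fin 4))) (hN : N.Normal)
    (hcop : (Nat.card N).Coprime 2) : N = ⊥ := by
  have h12 : Nat.card (alternatingGroup (Fin 4)) = 3 * 2 ^ 2 := by
    have h1 := two_mul_nat_card_alternatingGroup (α := Fin 4)
    rw [Nat.card_eq_fintype_card (α := Equiv.Perm (Fin 4)), Fintype.card_perm,
      Fintype.card_fin] at h1
    have : (4 : ℕ).factorial = 24 := rfl
    omega
  have h3 : Nat.card N ∣ 3 := by
    have h1 : Nat.card N ∣ 3 * 2 ^ 2 := h12 ▸ Subgroup.card_subgroup_dvd_card N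
    exact (Nat.Coprime.pow_right 2 hcop).dvd_of_dvd_mul_right h1
  have hpow : ∀ y ∈ N, y ^ 3 = 1 := by
    intro y hy
    have h1 : (⟨y, hy⟩ : ↥N) ^ Nat.card N = 1 := pow_card_eq_one'
    obtain ⟨k, hk⟩ := h3
    have h3 : (⟨y, hy⟩ : ↥N) ^ 3 = 1 := by rw [hk, pow_mul, h1, one_pow]
    have := congrArg Subtype.val h3
    simpa using this
  by_contra hne
  obtain ⟨z, hz1⟩ := (Subgroup.ne_bot_iff_exists_ne_one).mp hne
  have hz1' : (z : alternatingGroup (Fin 4)) ≠ 1 := fun h => hz1 (Subtype.ext h)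
  obtain ⟨g, hg⟩ := a4_dec z hz1' (hpow _ z.2)
  exact hg (hpow _ (N.mul_mem z.2 (hN.conj_mem _ (N.inv_mem z.2) g)))

/-- transporting the absence of normal `p'`-subgroups along an isomorphism -/
theorem noCore_of_equiv {K K' : Type*} [Group K] [Group K'] (e : K ≃* K') (p : ℕ)
    (hK : ∀ N : Subgroup K', N.Normal → (Nat.card N).Coprime p → N = ⊥)
    (N : Subgroup K) (hN : N.Normal) (hcop : (Nat.card N).Coprime p) : N = ⊥ := by
  have hn' : (N.map e.toMonoidHom).Normal := Subgroup.Normal.map hN _ e.surjective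
  have hc : Nat.card ↥(N.map e.toMonoidHom) = Nat.card ↥N :=
    (Nat.card_congr (N.equivMapOfInjective e.toMonoidHom e.injective).toEquiv).symm
  have h1 := hK _ hn' (by rw [hc]; exact hcop)
  rwa [Subgroup.map_eq_bot_iff_of_injective _ e.injective] at h1

variable {F : Type*} [Field F] {n : ℕ}

local notation "PSLn" => Matrix.ProjectiveSpecialLinearGroup (Fin n) F

/-- an arithmetic lemma: a prime dividing `gcd(n, q - 1)` divides the order of `PSL_n(q)` -/
theorem prime_dvd_card_PSL {F₀ : Type*} [Field F₀] [Fintype F₀] (n : ℕ) (hn : 2 ≤ n) (p : ℕ)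
    (hp : p.Prime) (hd : p ∣ Nat.gcd n (Fintype.card F₀ - 1)) :
    p ∣ Nat.card (Matrix.ProjectiveSpecialLinearGroup (Fin n) F₀) := by
  obtain ⟨q, hq⟩ : ∃ q, q = Fintype.card F₀ := ⟨_, rfl⟩
  have hq2 : 2 ≤ q := by rw [hq]; exact Fintype.one_lt_card
  rw [← hq] at hd
  have hf := Cfsg.Agent.S0243.result (F := F₀) hq.symm n hn
  obtain ⟨P, hP⟩ : ∃ P, P = Nat.card (Matrix.ProjectiveSpecialLinearGroup (Fin n) F₀) := ⟨_, rfl⟩
  rw [← hP] at hf ⊢
  have hpn : p ∣ n := hd.trans (Nat.gcd_dvd_left _ _)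
  have hpq : p ∣ q - 1 := hd.trans (Nat.gcd_dvd_right _ _)
  obtain ⟨m, rfl⟩ : ∃ m, n = m + 2 := ⟨n - 2, by omega⟩
  rw [Fin.prod_univ_succ, Fin.prod_univ_succ] at hf
  simp only [Fin.val_zero, Fin.val_succ, pow_zero, zero_add, pow_one] at hf
  obtain ⟨R, hR⟩ : ∃ R : ℕ, R = ∏ i : Fin m, (q ^ (m + 2) - q ^ ((i : ℕ) + 1 + 1)) := ⟨_, rfl⟩
  rw [← hR] at hf
  -- the geometric sums
  obtain ⟨S, hS⟩ : ∃ S : ℕ, S = ∑ i ∈ Finset.range (m + 2), q ^ i := ⟨_, rfl⟩
  obtain ⟨S₁, hS₁⟩ : ∃ S₁ : ℕ, S₁ = ∑ i ∈ Finset.range (m + 1), q ^ i := ⟨_, rfl⟩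
  have e1 : q ^ (m + 2) - 1 = S * (q - 1) := by
    rw [hS, geom_sum_mul_of_one_le (by omega)]
  have e2 : q ^ (m + 2) - q = q * (S₁ * (q - 1)) := by
    rw [hS₁, geom_sum_mul_of_one_le (by omega), Nat.mul_sub, mul_one, ← pow_succ']
  have hpS : p ∣ S := by
    haveI : Fact p.Prime := ⟨hp⟩
    rw [← ZMod.natCast_eq_zero_iff, hS, Nat.cast_sum]
    have hq1 : ((q : ℕ) : ZMod p) = 1 := by
      obtain ⟨t, rfl⟩ : ∃ t, q = t + 1 := ⟨q - 1, by omega⟩
      rw [Nat.add_sub_cancel] at hpq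
      rw [Nat.cast_add, (ZMod.natCast_eq_zero_iff t p).mpr hpq, zero_add, Nat.cast_one]
    simp only [Nat.cast_pow, hq1, one_pow, Finset.sum_const, Finset.card_range, nsmul_eq_mul,
      mul_one]
    exact (ZMod.natCast_eq_zero_iff _ p).mpr hpn
  obtain ⟨S', hS'⟩ := hpS
  obtain ⟨t, ht⟩ : Nat.gcd (m + 2) (q - 1) ∣ q - 1 := Nat.gcd_dvd_right _ _
  obtain ⟨d, hd'⟩ : ∃ d, d = Nat.gcd (m + 2) (q - 1) := ⟨_, rfl⟩
  rw [← hd'] at hf ht
  have hd0 : 0 < d := by rw [hd']; exact Nat.gcd_pos_of_pos_left _ (by omega)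
  have hq10 : 0 < q - 1 := by omega
  rw [e1, e2, hS'] at hf
  have h1 : (q - 1) * (d * P) = (q - 1) * (p * (d * t * (S' * q * S₁ * R))) := by
    calc (q - 1) * (d * P) = d * ((q - 1) * P) := by ring
      _ = p * S' * (q - 1) * (q * (S₁ * (q - 1)) * R) := hf
      _ = (q - 1) * (p * ((q - 1) * (S' * q * S₁ * R))) := by ring
      _ = (q - 1) * (p * (d * t * (S' * q * S₁ * R))) := by rw [← ht]
  have h2 := Nat.eq_of_mul_eq_mul_left hq10 h1
  have h3 : d * P = d * (p * (t * (S' * q * S₁ * R))) := by rw [h2]; ring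
  have h4 := Nat.eq_of_mul_eq_mul_left hd0 h3
  exact ⟨_, h4⟩

section field
variable (hn : 2 ≤ n) {F₀ : Type*} [Field F₀] [Fintype F₀] (j : F₀ →+* F) (σ : RingAut F)
  (hj : ∀ a : F, σ a = a ↔ a ∈ Set.range j)

local notation "PSLn₀" => Matrix.ProjectiveSpecialLinearGroup (Fin n) F₀

include hn in
theorem bcL_ker : (bcL (F := F) (n := n) j).ker = Subgroup.center (GL (Fin n) F₀) := by
  ext x
  rw [MonoidHom.mem_ker, bcL_eq_one_iff hn j,
    Matrix.GeneralLinearGroup.mem_center_iff_val_mem_range_scalar]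
  constructor
  · rintro ⟨c₀, hc₀⟩
    exact ⟨c₀, by rw [scalar_eq_smul_one, hc₀]⟩
  · rintro ⟨c₀, hc₀⟩
    exact ⟨c₀, by rw [← hc₀, scalar_eq_smul_one]⟩

include hn in
theorem card_center_GL :
    Nat.card (Subgroup.center (GL (Fin n) F₀)) = Fintype.card F₀ - 1 := by
  rw [Matrix.GeneralLinearGroup.center_eq_range_scalar, ← Nat.card_eq_fintype_card (α := F₀),
    ← Nat.card_units]
  have hinj : Function.Injective (Matrix.GeneralLinearGroup.scalar (Fin n) : F₀ˣ →* _) := by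
    intro u v huv
    apply Units.ext
    have h1 := congrArg Units.val huv
    rw [Matrix.GeneralLinearGroup.coe_scalar, Matrix.GeneralLinearGroup.coe_scalar] at h1
    have := congrFun (congrFun h1 ⟨0, by omega⟩) ⟨0, by omega⟩
    simpa [Matrix.scalar_apply] using this
  exact (Nat.card_congr (MonoidHom.ofInjective hinj).toEquiv).symm

include hn in
theorem card_range_bcL :
    Nat.card ↥(bcL (F := F) (n := n) j).range =
      Nat.gcd n (Fintype.card F₀ - 1) * Nat.card PSLn₀ := by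
  classical
  have h1 := Subgroup.card_mul_index (bcL (F := F) (n := n) j).ker
  rw [Subgroup.index_ker, bcL_ker hn j, card_center_GL hn,
    Cfsg.Agent.Lib.Helper3.CardSL.card_GL_eq_card_SL_mul (F := F₀) n (by omega),
    Nat.card_units, Nat.card_eq_fintype_card (α := F₀), mul_comm] at h1
  have hq : 1 < Fintype.card F₀ := Fintype.one_lt_card
  have h2 : Nat.card ↥(bcL (F := F) (n := n) j).range =
      Nat.card (Matrix.SpecialLinearGroup (Fin n) F₀) :=
    Nat.eq_of_mul_eq_mul_right (by omega) h1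
  have h3 : Nat.card (Subgroup.center (Matrix.SpecialLinearGroup (Fin n) F₀)) =
      Nat.gcd n (Fintype.card F₀ - 1) := by
    rw [Nat.card_congr (Matrix.SpecialLinearGroup.center_equiv_rootsOfUnity
      (n := Fin n) (R := F₀)).toEquiv, Fintype.card_fin, max_eq_left (by omega : 1 ≤ n),
      rootsOfUnity_eq_ker, IsCyclic.card_powMonoidHom_ker, Nat.card_units,
      Nat.card_eq_fintype_card (α := F₀), Nat.gcd_comm]
  rw [h2, ← Cfsg.Agent.Lib.Helper3.CardSL.card_PSL_mul (F := F₀) n, h3, mul_comm]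

theorem inn_le_inndiag' : Cfsg.Inn PSLn ≤ Cfsg.inndiagPSL n F := by
  rw [inndiag_eq_range]
  rintro _ ⟨y, rfl⟩
  obtain ⟨s, rfl⟩ := pm_surjective y
  exact ⟨_, (conj_eq_cP s).symm⟩

include hn hj in
theorem inndiag_cent_le_L :
    Cfsg.inndiagPSL n F ⊓ Subgroup.centralizer {fP σ} ≤ (bcL (F := F) (n := n) j).range := by
  rintro c ⟨hc1, hc2⟩
  have hc1' : c ∈ Cfsg.inndiagPSL n F := hc1
  rw [inndiag_eq_range] at hc1'
  obtain ⟨g, rfl⟩ := hc1'
  have hc2' := (mem_cent_singleton _ _).mp hc2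
  obtain ⟨μ, hμ⟩ := (comm_iff hn σ g).mp hc2'.symm
  obtain ⟨g₀, hg₀⟩ := exists_descent_L hn j σ hj g μ hμ
  exact ⟨g₀, hg₀.symm⟩

include hn hj in
theorem dvd_card_subfield_L (p : ℕ) (hp : p.Prime)
    (hd : p ∣ Nat.card ↥(Cfsg.Inn PSLn ⊓ Subgroup.centralizer {fP σ})) :
    p ∣ Nat.card PSLn₀ := by
  have h1 : Nat.card ↥(Cfsg.Inn PSLn ⊓ Subgroup.centralizer {fP σ}) ∣
      Nat.card ↥(bcL (F := F) (n := n) j).range :=
    Subgroup.card_dvd_of_le ((inf_le_inf_right _ inn_le_inndiag').trans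
      (inndiag_cent_le_L hn j σ hj))
  rw [card_range_bcL hn j] at h1
  rcases (Nat.Prime.dvd_mul hp).mp (hd.trans h1) with h5 | h5
  · exact prime_dvd_card_PSL n hn p hp h5
  · exact h5

end field

end Cfsg.Agent.Lib.Helper16.LBal
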