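import Mathlib
import Cfsg.Agent.Lib.Helper16.LBalC
import Cfsg.Agent.Lib.Helper15.JR3
import Cfsg.Agent.Lib.Helper15.Dk16a

/-!
# Local balance for the linear groups, part D: the field automorphisms
-/

set_option autoImplicit false
set_option linter.unusedSectionVars false
set_option linter.unusedVariables false
set_option linter.unusedSimpArgs false
set_option linter.style.haveILetI false

namespace Cfsg.Agent.Lib.Helper16.LBal

open Matrix Cfsg Cfsg.Agent.Lib.Helper6.AutPSL Cfsg.Agent.Lib.Helper16.H90GL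
  Cfsg.Agent.Lib.Helper16.FieldCoset Cfsg.Agent.Lib.Helper16.SplitCount
  Cfsg.Agent.Lib.Helper16.UnitaryDescent Cfsg.Agent.Lib.Helper16.FieldCentPSL
open Cfsg.Agent.Lib.Helper16.GraphFieldCoset (tpow_comm_fP tpow_mul_tP)
open Cfsg.Agent.Lib.Helper6.LocalBal (ringAut_comm comm_of_comm_mul exists_restrict_aut
  mem_zpowers_of_fixed mem_cent_singleton Good' core_iff' card_inn_cent)
open Cfsg.Agent.Lib.Helper16.UBal (ncore_of_equiv ncore_simple)

variable {F : Type*} [Field F] {n : ℕ}

local notation "PSLn" => Matrix.ProjectiveSpecialLinearGroup (Fin n) F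

/-- `PSL_2(2)` has no nontrivial normal subgroup of order prime to three -/
theorem noCore_PSL22 {F₀ : Type*} [Field F₀] [Fintype F₀] (h2 : Fintype.card F₀ = 2)
    (N : Subgroup (Matrix.ProjectiveSpecialLinearGroup (Fin 2) F₀)) (hN : N.Normal)
    (hcop : (Nat.card N).Coprime 3) : N = ⊥ := by
  obtain ⟨e⟩ := Cfsg.Agent.S0250.result h2
  have h3 : Nat.card (Subgroup.center (Matrix.SpecialLinearGroup (Fin 2) F₀)) = 1 := by
    rw [Nat.card_congr (Matrix.SpecialLinearGroup.center_equiv_rootsOfUnity
      (n := Fin 2) (R := F₀)).toEquiv, Fintype.card_fin, max_eq_left (by omega : 1 ≤ 2),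
      rootsOfUnity_eq_ker, IsCyclic.card_powMonoidHom_ker, Nat.card_units,
      Nat.card_eq_fintype_card (α := F₀), h2]
    rfl
  have h4 : Subgroup.center (Matrix.SpecialLinearGroup (Fin 2) F₀) = ⊥ :=
    Subgroup.card_eq_one.mp h3
  have e1 : Matrix.ProjectiveSpecialLinearGroup (Fin 2) F₀ ≃*
      Matrix.SpecialLinearGroup (Fin 2) F₀ :=
    (QuotientGroup.quotientMulEquivOfEq h4).trans QuotientGroup.quotientBot
  exact noCore_of_equiv (e1.trans e) 3 s3_noCore N hN hcop

/-- `PSL_2(3)` has no nontrivial normal subgroup of odd order -/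
theorem noCore_PSL23 {F₀ : Type*} [Field F₀] [Fintype F₀] (h3 : Fintype.card F₀ = 3)
    (N : Subgroup (Matrix.ProjectiveSpecialLinearGroup (Fin 2) F₀)) (hN : N.Normal)
    (hcop : (Nat.card N).Coprime 2) : N = ⊥ := by
  obtain ⟨e⟩ := Cfsg.Agent.S0251.result h3
  exact noCore_of_equiv e 2 a4_noCore N hN hcop

section field
variable [Fintype F] (r : ℕ) [hr : Fact r.Prime] [hcr : CharP F r] (hn : 2 ≤ n)
  {F₀ : Type*} [Field F₀] [Fintype F₀] (j : F₀ →+* F) (σ : RingAut F)
  (hj : ∀ a : F, σ a = a ↔ a ∈ Set.range j)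

local notation "PSLn₀" => Matrix.ProjectiveSpecialLinearGroup (Fin n) F₀

include hr hcr hn hj in
/-- **the subfield subgroup is good** -/
theorem good_fP {f : ℕ} (hF : Fintype.card F = r ^ f) (hf : 1 ≤ f) (p : ℕ) (hp : p.Prime)
    (hpr : p ≠ r) :
    Good' (Cfsg.Inn PSLn) (fP σ) p (subL (F := F) (n := n) j) := by
  obtain ⟨eM⟩ := subL_equiv (F := F) hn j
  haveI : CharP F₀ r := RingHom.charP j (RingHom.injective j) r
  have hcard₀ : 1 < Fintype.card F₀ := Fintype.one_lt_card
  refine ⟨subL_le hn j σ hj, ?_, ?_, ?_, ?_⟩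
  · intro h0
    have h1 : Nat.card ↥(subL (F := F) (n := n) j) = 1 := by
      rw [h0]
      exact Subgroup.card_bot
    rw [Nat.card_congr eM.toEquiv] at h1
    have h2 := Cfsg.Agent.S0243.result (F := F₀) rfl n hn
    rw [h1, mul_one] at h2
    obtain ⟨m, rfl⟩ : ∃ m, n = m + 2 := ⟨n - 2, by omega⟩
    rw [Fin.prod_univ_succ, Fin.prod_univ_succ] at h2
    simp only [Fin.val_zero, Fin.val_succ, pow_zero, zero_add, pow_one] at h2
    obtain ⟨q, hq⟩ : ∃ q, q = Fintype.card F₀ := ⟨_, rfl⟩
    rw [← hq] at h2 hcard₀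
    -- `gcd * (q - 1) ≤ (q - 1)^2 < (q^n - 1)(q^n - q) ≤ product`
    have hg : Nat.gcd (m + 2) (q - 1) ≤ q - 1 := Nat.le_of_dvd (by omega) (Nat.gcd_dvd_right _ _)
    have hqn : q ^ 2 ≤ q ^ (m + 2) := Nat.pow_le_pow_right (by omega) (by omega)
    have hR : 1 ≤ ∏ i : Fin m, (q ^ (m + 2) - q ^ ((i : ℕ) + 1 + 1)) := by
      apply Finset.one_le_prod'
      intro i _
      have : q ^ ((i : ℕ) + 1 + 1) < q ^ (m + 2) :=
        Nat.pow_lt_pow_right hcard₀ (by have := i.2; omega)
      omega
    have hqq : 2 * q ≤ q ^ 2 := by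
      rw [pow_two]
      exact Nat.mul_le_mul_right q hcard₀
    have h1' : q - 1 < q ^ (m + 2) - 1 := by omega
    have h2' : q - 1 ≤ q ^ (m + 2) - q := by omega
    have h3' : (q - 1) * (q - 1) < (q ^ (m + 2) - 1) * (q ^ (m + 2) - q) :=
      Nat.mul_lt_mul_of_lt_of_le h1' h2' (by omega)
    have h4' : Nat.gcd (m + 2) (q - 1) * (q - 1) ≤ (q - 1) * (q - 1) :=
      Nat.mul_le_mul_right _ hg
    have h5' : (q ^ (m + 2) - 1) * (q ^ (m + 2) - q) ≤
        (q ^ (m + 2) - 1) * ((q ^ (m + 2) - q) *
          ∏ i : Fin m, (q ^ (m + 2) - q ^ ((i : ℕ) + 1 + 1))) := by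
      apply Nat.mul_le_mul_left
      exact Nat.le_mul_of_pos_right _ hR
    omega
  · intro c hc k hk
    exact subL_norm hn j σ hj hF hf c ((mem_cent_singleton _ _).mp hc) k hk
  · intro c hc hcomm
    exact subL_cent hn j σ hj hF hf c ((mem_cent_singleton _ _).mp hc) hcomm
  · intro hd N hNM hnorm hcop
    have hpd := dvd_card_subfield_L hn j σ hj p hp hd
    apply ncore_of_equiv (subL (F := F) (n := n) j) eM p ?_ N hNM hnorm hcop
    by_cases h3 : 3 ≤ n
    · haveI := Cfsg.Agent.S0249.result (F := F₀) n h3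
      intro N' hN' hcop'
      exact ncore_simple p hp hpd N' hN' hcop'
    · obtain rfl : n = 2 := by omega
      by_cases h4 : 4 ≤ Fintype.card F₀
      · haveI := Matrix.ProjectiveSpecialLinearGroup.rank_two_simple (F := F₀)
          (by rw [Nat.card_eq_fintype_card]; exact h4)
        intro N' hN' hcop'
        exact ncore_simple p hp hpd N' hN' hcop'
      · have hf2 := Cfsg.Agent.S0243.result (F := F₀) rfl 2 (le_refl 2)
        rw [Fin.prod_univ_two] at hf2
        simp only [Fin.val_zero, Fin.val_one, pow_zero, pow_one] at hf2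
        have hcases : Fintype.card F₀ = 2 ∨ Fintype.card F₀ = 3 := by omega
        rcases hcases with h2 | h3
        · rw [h2] at hf2
          have hP : Nat.card (Matrix.ProjectiveSpecialLinearGroup (Fin 2) F₀) = 2 * 3 := by
            norm_num at hf2
            omega
          have hr2 : r = 2 := by
            have h1 : ((2 : ℕ) : F₀) = 0 := by
              have := Nat.cast_card_eq_zero F₀
              rwa [h2] at this
            rw [CharP.cast_eq_zero_iff F₀ r] at h1
            exact (Nat.prime_dvd_prime_iff_eq hr.out Nat.prime_two).mp h1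
          rw [hP] at hpd
          have hp3 : p = 3 := by
            rcases (Nat.Prime.dvd_mul hp).mp hpd with h | h
            · exact absurd ((Nat.prime_dvd_prime_iff_eq hp Nat.prime_two).mp h) (hr2 ▸ hpr)
            · exact (Nat.prime_dvd_prime_iff_eq hp Nat.prime_three).mp h
          subst hp3
          exact noCore_PSL22 h2
        · rw [h3] at hf2
          have hP : Nat.card (Matrix.ProjectiveSpecialLinearGroup (Fin 2) F₀) = 2 ^ 2 * 3 := by
            norm_num at hf2
            omega
          have hr3 : r = 3 := by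
            have h1 : ((3 : ℕ) : F₀) = 0 := by
              have := Nat.cast_card_eq_zero F₀
              rwa [h3] at this
            rw [CharP.cast_eq_zero_iff F₀ r] at h1
            exact (Nat.prime_dvd_prime_iff_eq hr.out Nat.prime_three).mp h1
          rw [hP] at hpd
          have hp2 : p = 2 := by
            rcases (Nat.Prime.dvd_mul hp).mp hpd with h | h
            · exact (Nat.prime_dvd_prime_iff_eq hp Nat.prime_two).mp (hp.dvd_of_dvd_pow h)
            · exact absurd ((Nat.prime_dvd_prime_iff_eq hp Nat.prime_three).mp h) (hr3 ▸ hpr)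
          subst hp2
          exact noCore_PSL23 h3

end field

end Cfsg.Agent.Lib.Helper16.LBal
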