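import Mathlib
import Cfsg.Agent.S0280

/-!
# Local balance for the unitary groups, part E: the order of `PSU_n(q)` and the parity of the
number of fixed points of an involution
-/

set_option autoImplicit false
set_option linter.unusedSectionVars false
set_option linter.unusedVariables false
set_option linter.unusedSimpArgs false

namespace Cfsg.Agent.Lib.Helper16.UBal

/-- `q² - 1` divides the order of `PSU_n(q)`, `n ≥ 3` -/
theorem q2m1_dvd_card_PSU {F : Type*} [Field F] [Fintype F] {q : ℕ}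
    (hF : Fintype.card F = q ^ 2) (n : ℕ) (hn : 3 ≤ n) :
    (q ^ 2 - 1) ∣ Nat.card (Cfsg.PSU n F q) := by
  have h1 := Cfsg.Agent.S0280.result hF n (by omega)
  obtain ⟨n', rfl⟩ : ∃ n', n = 3 + n' := ⟨n - 3, by omega⟩
  rw [Finset.prod_range_add] at h1
  have h3 : ∏ i ∈ Finset.range 3, (if Even i then q ^ (i + 1) + 1 else q ^ (i + 1) - 1) =
      (q + 1) * (q ^ 2 - 1) * (q ^ 3 + 1) := by
    rw [Finset.prod_range_succ, Finset.prod_range_succ, Finset.prod_range_one]
    have e0 : Even 0 := by decide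
    have e1 : ¬ Even 1 := by decide
    have e2 : Even 2 := by decide
    rw [if_pos e0, if_neg e1, if_pos e2]
    ring
  rw [h3] at h1
  obtain ⟨R, hR⟩ : ∃ R : ℕ, R = ∏ x ∈ Finset.range n',
      (if Even (3 + x) then q ^ (3 + x + 1) + 1 else q ^ (3 + x + 1) - 1) := ⟨_, rfl⟩
  rw [← hR] at h1
  have hgd : Nat.gcd (3 + n') (q + 1) ∣ q ^ 3 + 1 := by
    have h4 : q + 1 ∣ q ^ 3 + 1 := by
      have := Odd.nat_add_dvd_pow_add_pow q 1 (by decide : Odd 3)
      rwa [one_pow] at this
    exact (Nat.gcd_dvd_right _ _).trans h4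
  obtain ⟨t, ht⟩ := hgd
  have hgpos : 0 < Nat.gcd (3 + n') (q + 1) := Nat.gcd_pos_of_pos_right _ (by omega)
  have h5 : Nat.gcd (3 + n') (q + 1) * (q + 1) * Nat.card (Cfsg.PSU (3 + n') F q) =
      Nat.gcd (3 + n') (q + 1) * (q + 1) *
        (q ^ ((3 + n') * (3 + n' - 1) / 2) * (q ^ 2 - 1) * t * R) := by
    rw [ht] at h1
    calc Nat.gcd (3 + n') (q + 1) * (q + 1) * Nat.card (Cfsg.PSU (3 + n') F q)
        = Nat.gcd (3 + n') (q + 1) * ((q + 1) * Nat.card (Cfsg.PSU (3 + n') F q)) := by ring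
      _ = _ := by rw [h1]; ring
  have h6 := Nat.eq_of_mul_eq_mul_left (Nat.mul_pos hgpos (by omega)) h5
  rw [h6]
  exact ⟨q ^ ((3 + n') * (3 + n' - 1) / 2) * t * R, by ring⟩

/-- an involutory automorphism of a group of even order has an even number of fixed points -/
theorem even_card_fixed {K : Type*} [Group K] [Finite K] (β : MulAut K) (hβ : β * β = 1)
    (hK : 2 ∣ Nat.card K) :
    2 ∣ Nat.card ↥(MonoidHom.eqLocus β.toMonoidHom (MonoidHom.id K)) := by
  classical
  haveI := Fintype.ofFinite K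
  haveI : Fact (Nat.Prime 2) := ⟨Nat.prime_two⟩
  obtain ⟨f, hf⟩ : ∃ f : Function.End K, f = (β : K → K) := ⟨_, rfl⟩
  have hfx : ∀ x, f x = β x := fun x => by rw [hf]
  have hf2 : f ^ 2 ^ 1 = 1 := by
    rw [pow_one, pow_two]
    funext x
    change f (f x) = x
    rw [hfx, hfx]
    change β (β x) = x
    have := DFunLike.congr_fun hβ x
    exact this
  have h1 := Equiv.Perm.card_fixedPoints_modEq (p := 2) (n := 1) hf2
  have h2 : Nat.card ↥(MonoidHom.eqLocus β.toMonoidHom (MonoidHom.id K)) =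
      Fintype.card (Function.fixedPoints f) := by
    rw [← Nat.card_eq_fintype_card]
    apply Nat.card_congr
    refine ⟨fun x => ⟨x.1, ?_⟩, fun x => ⟨x.1, ?_⟩, fun x => rfl, fun x => rfl⟩
    · change f x.1 = x.1
      rw [hfx]
      exact x.2
    · have : f x.1 = x.1 := x.2
      rw [hfx] at this
      exact this
  rw [h2]
  rw [Nat.card_eq_fintype_card] at hK
  exact (Nat.modEq_zero_iff_dvd.mp ((h1.symm.trans (Nat.modEq_zero_iff_dvd.mpr hK))))

end Cfsg.Agent.Lib.Helper16.UBal
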