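import Mathlib
import Cfsg.Agent.Lib.Helper16.LBalA
import Cfsg.Agent.Lib.Helper16.GraphFieldCentPSL
import Cfsg.Agent.Lib.Helper16.GraphInvPSU
import Cfsg.Agent.Lib.Helper16.UBalE
import Cfsg.Agent.Lib.Helper16.UBalI
import Cfsg.Agent.Lib.Helper6.SUSimple

/-!
# Local balance for the linear groups, part E: the unitary subgroup in the centraliser of a
graph-field involution
-/

set_option autoImplicit false
set_option linter.unusedSectionVars false
set_option linter.unusedVariables false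
set_option linter.unusedSimpArgs false
set_option linter.style.haveILetI false

namespace Cfsg.Agent.Lib.Helper16.LBal

open Matrix Cfsg Cfsg.Agent.Lib.Helper6 Cfsg.Agent.Lib.Helper6.AutPSL
  Cfsg.Agent.Lib.Helper6.AutPSU Cfsg.Agent.Lib.Helper16.H90GL
  Cfsg.Agent.Lib.Helper16.FieldCoset Cfsg.Agent.Lib.Helper16.SplitCount
  Cfsg.Agent.Lib.Helper16.UnitaryDescent Cfsg.Agent.Lib.Helper16.FieldCentPSL
  Cfsg.Agent.Lib.Helper16.GraphFieldCoset Cfsg.Agent.Lib.Helper16.GraphFieldCentPSL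
open Cfsg.Agent.Lib.Helper16.FieldCosetPSU (tauA tauA_apply tauA_tauA tauA_ne_one tauA_comm
  pres_of_hs hs_of_pres mem_GU_hs)
open Cfsg.Agent.Lib.Helper16.GraphInvPSU (tauA_mul_self)
open Cfsg.Agent.Lib.Helper6.LocalBal (ringAut_comm comm_of_comm_mul exists_restrict_aut
  mem_zpowers_of_fixed mem_cent_singleton Good')
open Cfsg.Agent.Lib.Helper16.UBal (ncore_of_equiv ncore_simple q2m1_dvd_card_PSU)

variable {F : Type*} [Field F] [Fintype F] {n q₀ : ℕ}

local notation "PSLn" => Matrix.ProjectiveSpecialLinearGroup (Fin n) F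

section gf
variable (r : ℕ) [hr : Fact r.Prime] [hcr : CharP F r] (hF' : Fintype.card F = q₀ ^ 2)
  (hn : 3 ≤ n)

/-- the homomorphism of the special unitary group -/
noncomputable def thetaS : ↥(Cfsg.SU n F q₀) →* MulAut PSLn :=
  (cP.comp Matrix.SpecialLinearGroup.toGL).comp (Cfsg.SU n F q₀).subtype

theorem thetaS_apply (s : ↥(Cfsg.SU n F q₀)) :
    (thetaS s : MulAut PSLn) = cP (Matrix.SpecialLinearGroup.toGL s.1) := rfl

theorem thetaS_eq (s : ↥(Cfsg.SU n F q₀)) :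
    (thetaS s : MulAut PSLn) = cP (suGU s).1 := rfl

/-- the unitary subgroup -/
noncomputable def subS (n q₀ : ℕ) (F : Type*) [Field F] [Fintype F] :
    Subgroup (MulAut (Matrix.ProjectiveSpecialLinearGroup (Fin n) F)) :=
  (thetaS (F := F) (n := n) (q₀ := q₀)).range

include hF' hn in
/-- the kernel of the homomorphism is the centre -/
theorem thetaS_ker :
    (thetaS (F := F) (n := n) (q₀ := q₀)).ker = Subgroup.center ↥(Cfsg.SU n F q₀) := by
  ext s
  rw [MonoidHom.mem_ker, thetaS_apply, cP_eq_one_iff (by omega)]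
  have hv : (Matrix.SpecialLinearGroup.toGL s.1).1 = s.1.1 := rfl
  rw [hv]
  constructor
  · rintro ⟨c, hc⟩
    have h1 : c ^ (q₀ + 1) = 1 := by
      obtain ⟨gs, hgs⟩ : ∃ gs : ↥(Cfsg.GU n F q₀), gs = suGU s := ⟨_, rfl⟩
      have hgs' : gs.1.1 = c • (1 : Matrix (Fin n) (Fin n) F) := by rw [hgs, suGU_val, hc]
      exact scalar_norm hF' hn gs c hgs'
    have h2 : c ^ n = 1 := by
      have := s.1.2
      rw [hc, Matrix.det_smul, Matrix.det_one, mul_one, Fintype.card_fin] at this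
      exact this
    obtain ⟨z, hz, hzv⟩ := Cfsg.Agent.Lib.Helper16.SU_scalar_mem_center (q := q₀) (n := n) c h1 h2
    have : z = s := by
      apply Subtype.ext
      apply Subtype.ext
      rw [hzv, hc]
    rwa [this] at hz
  · intro hz
    obtain ⟨a, -, -, ha⟩ := Cfsg.Agent.Lib.Helper16.SU_center_scalar hF' (by omega) s hz
    exact ⟨a, ha⟩

include hF' hn in
/-- the unitary subgroup is the projective special unitary group -/
theorem subS_equiv : Nonempty (↥(subS n q₀ F) ≃* Cfsg.PSU n F q₀) := by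
  have e1 : ↥(Cfsg.SU n F q₀) ⧸ (thetaS (F := F) (n := n) (q₀ := q₀)).ker ≃*
      ↥(thetaS (F := F) (n := n) (q₀ := q₀)).range :=
    QuotientGroup.quotientKerEquivRange _
  have e2 : Cfsg.PSU n F q₀ ≃* ↥(Cfsg.SU n F q₀) ⧸ (thetaS (F := F) (n := n) (q₀ := q₀)).ker :=
    QuotientGroup.quotientMulEquivOfEq (thetaS_ker hF' hn).symm
  exact ⟨(e2.trans e1).symm⟩

/-- the conjugation relation -/
theorem conj_thetaS (u : ↥(Cfsg.GU n F q₀)) (ρ : RingAut F) (s : ↥(Cfsg.SU n F q₀)) :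
    (cP u.1 * fP ρ : MulAut PSLn) * thetaS s = thetaS (cSU u (fSU ρ s)) * (cP u.1 * fP ρ) := by
  rw [thetaS_apply, thetaS_apply]
  have e1 : (cP u.1 * fP ρ * cP (Matrix.SpecialLinearGroup.toGL s.1) : MulAut PSLn) =
      cP (u.1 * sG ρ (Matrix.SpecialLinearGroup.toGL s.1)) * fP ρ := by
    rw [mul_assoc, rel_fP_cP, ← mul_assoc, ← map_mul]
  rw [e1, ← mul_assoc, ← map_mul]
  congr 2
  apply Units.ext
  change u.1.1 * (sG ρ (Matrix.SpecialLinearGroup.toGL s.1)).1 =
    (cSU u (fSU ρ s)).1.1 * u.1.1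
  rw [sG_val, cSU_val, fSU_val, Matrix.mul_assoc, gl_inv_mul, Matrix.mul_one]
  rfl

include hF' in
/-- the conjugation relation for the graph automorphism: on unitary matrices the inverse
transpose is the field involution -/
theorem conj_tP_thetaS (s : ↥(Cfsg.SU n F q₀)) :
    (tP : MulAut PSLn) * thetaS s = thetaS (fSU (tauA hF') s) * tP := by
  rw [thetaS_apply, thetaS_apply, rel_tP_cP]
  congr 2
  apply Units.ext
  rw [gT_val]
  have h1 : (Matrix.SpecialLinearGroup.toGL (fSU (tauA hF') s).1).1 = s.1.1.map (tauA hF') := rfl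
  rw [h1]
  have h2 := mem_GU_hs hF' (suGU s)
  rw [suGU_val] at h2
  have h3 : ((Matrix.SpecialLinearGroup.toGL s.1)⁻¹).1 = hs (tauA hF') s.1.1 := by
    have hv : (Matrix.SpecialLinearGroup.toGL s.1).1 = s.1.1 := rfl
    calc ((Matrix.SpecialLinearGroup.toGL s.1)⁻¹).1
        = (hs (tauA hF') s.1.1 * s.1.1) * ((Matrix.SpecialLinearGroup.toGL s.1)⁻¹).1 := by
          rw [h2, Matrix.one_mul]
      _ = hs (tauA hF') s.1.1 * ((Matrix.SpecialLinearGroup.toGL s.1).1 *
            ((Matrix.SpecialLinearGroup.toGL s.1)⁻¹).1) := by rw [Matrix.mul_assoc, hv]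
      _ = hs (tauA hF') s.1.1 := by rw [gl_mul_inv, Matrix.mul_one]
  rw [h3]
  unfold hs
  rw [Matrix.transpose_transpose]

include hF' hn in
theorem subS_le :
    subS n q₀ F ≤ Cfsg.Inn PSLn ⊓ Subgroup.centralizer {fP (tauA hF') * tP} := by
  rintro _ ⟨s, rfl⟩
  refine ⟨?_, ?_⟩
  · refine ⟨pm s.1, ?_⟩
    rw [thetaS_apply, conj_eq_cP]
  · apply (mem_cent_singleton _ _).mpr
    rw [thetaS_apply, eq_comm, comm_w_iff (by omega) (tauA hF') (tauA_mul_self hF')]
    refine ⟨1, ?_⟩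
    rw [one_smul]
    exact mem_GU_hs hF' (suGU s)

section fin
variable {f : ℕ} (hF : Fintype.card F = r ^ f) (hf : 1 ≤ f)

include hr hcr hF' hn hF hf in
/-- the centraliser of the graph-field involution -/
theorem exists_cent_decomp_S (c : MulAut PSLn)
    (hc : c * (fP (tauA hF') * tP) = fP (tauA hF') * tP * c) :
    ∃ (u : ↥(Cfsg.GU n F q₀)) (ρ : RingAut F) (e : ZMod 2), c = cP u.1 * fP ρ * tpow e := by
  obtain ⟨k, ρ, e, hk⟩ := exists_dec hF hf (by omega : 2 ≤ n) c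
  have hτc : ∀ ρ : RingAut F, ρ * tauA hF' = tauA hF' * ρ := fun ρ => ringAut_comm _ _
  have hff : ((fP (tauA hF') * tP) * (fP ρ * tpow e) : MulAut PSLn) =
      fP ρ * tpow e * (fP (tauA hF') * tP) := (comm_w (tauA hF') hτc ρ e).symm
  have hkc : ((fP (tauA hF') * tP) * cP k : MulAut PSLn) = cP k * (fP (tauA hF') * tP) := by
    apply comm_of_comm_mul _ _ _ hff
    have hk' : c = cP k * (fP ρ * tpow e) := by rw [hk, mul_assoc]
    rw [← hk']
    exact hc
  obtain ⟨c₀, hc₀⟩ := (comm_w_iff (by omega) (tauA hF') (tauA_mul_self hF') k).mp hkc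
  obtain ⟨ε, hε0, hε⟩ := exists_unitary_mul (tauA hF') (tauA_ne_one hF') (tauA_mul_self hF') k
    (by omega) c₀ hc₀
  obtain ⟨u, hu⟩ := exists_GU_of_pres hF' (ε • k.1) (pres_of_hs hF' _ hε)
  refine ⟨u, ρ, e, ?_⟩
  rw [hk]
  congr 2
  symm
  exact cP_eq_of_smul _ _ ε hu

include hr hcr hF' hn hF hf in
/-- the conjugation relation for a general element of the centraliser -/
theorem exists_conj_S (c : MulAut PSLn)
    (hc : c * (fP (tauA hF') * tP) = fP (tauA hF') * tP * c) :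
    ∃ (u : ↥(Cfsg.GU n F q₀)) (ρ : RingAut F) (e : ZMod 2), c = cP u.1 * fP ρ * tpow e ∧
      ∀ s : ↥(Cfsg.SU n F q₀),
        c * thetaS s = thetaS (cSU u (fSU ρ (if e = 0 then s else fSU (tauA hF') s))) * c := by
  obtain ⟨u, ρ, e, hcd⟩ := exists_cent_decomp_S r hF' hn hF hf c hc
  refine ⟨u, ρ, e, hcd, ?_⟩
  intro s
  rw [hcd]
  rcases zmod2_cases e with rfl | rfl
  · rw [if_pos rfl, tpow_zero, mul_one]
    exact conj_thetaS u ρ s
  · rw [if_neg (by decide), tpow_one]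
    calc (cP u.1 * fP ρ * tP : MulAut PSLn) * thetaS s
        = cP u.1 * fP ρ * (tP * thetaS s) := by rw [mul_assoc]
      _ = cP u.1 * fP ρ * (thetaS (fSU (tauA hF') s) * tP) := by rw [conj_tP_thetaS hF']
      _ = (cP u.1 * fP ρ * thetaS (fSU (tauA hF') s)) * tP := by simp only [mul_assoc]
      _ = (thetaS (cSU u (fSU ρ (fSU (tauA hF') s))) * (cP u.1 * fP ρ)) * tP := by
          rw [conj_thetaS u ρ]
      _ = _ := by simp only [mul_assoc]

include hr hcr hF' hn hF hf in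
theorem subS_norm (c : MulAut PSLn)
    (hc : c * (fP (tauA hF') * tP) = fP (tauA hF') * tP * c)
    (k : MulAut PSLn) (hk : k ∈ subS n q₀ F) : c * k * c⁻¹ ∈ subS n q₀ F := by
  obtain ⟨s, rfl⟩ := hk
  obtain ⟨u, ρ, e, -, h1⟩ := exists_conj_S r hF' hn hF hf c hc
  rw [h1 s, mul_inv_cancel_right]
  exact ⟨_, rfl⟩

include hr hcr hF' hn hF hf in
theorem subS_cent (c : MulAut PSLn)
    (hc : c * (fP (tauA hF') * tP) = fP (tauA hF') * tP * c)
    (hcomm : ∀ k ∈ subS n q₀ F, c * k = k * c) :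
    c ∈ Subgroup.zpowers (fP (tauA hF') * tP : MulAut PSLn) := by
  obtain ⟨u, ρ, e, hcd, h1⟩ := exists_conj_S r hF' hn hF hf c hc
  obtain ⟨ρ', hρ'⟩ : ∃ ρ' : RingAut F, ρ' = if e = 0 then ρ else ρ * tauA hF' := ⟨_, rfl⟩
  have hn1 : (cU u * fU ρ' : MulAut (Cfsg.PSU n F q₀)) = 1 := by
    ext x
    obtain ⟨s, rfl⟩ := pu_surjective x
    have h3 := h1 s
    rw [hcomm _ ⟨s, rfl⟩] at h3
    have h4 : thetaS (F := F) s =
        thetaS (cSU u (fSU ρ (if e = 0 then s else fSU (tauA hF') s))) := mul_right_cancel h3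
    have h5 : pu (cSU u (fSU ρ (if e = 0 then s else fSU (tauA hF') s))) = pu s := by
      rw [eq_comm, pu_eq_iff, ← thetaS_ker (F := F) hF' hn, MonoidHom.mem_ker, map_mul, map_inv,
        ← h4, inv_mul_cancel]
    rw [MulAut.one_apply, MulAut.mul_apply, fU_mk, cU_mk, hρ']
    rcases zmod2_cases e with rfl | rfl
    · rw [if_pos rfl] at h5 ⊢
      exact h5
    · rw [if_neg (by decide)] at h5 ⊢
      have h6 : fSU (ρ * tauA hF') s = fSU ρ (fSU (tauA hF') s) := by
        apply Subtype.ext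
        apply Subtype.ext
        rw [fSU_val, fSU_val, fSU_val, Matrix.map_map]
        rfl
      rw [← h5, h6]
  have hn1' : (cU u * fU ρ' : MulAut (Cfsg.PSU n F q₀)) = cU 1 * fU 1 := by
    rw [hn1, map_one, fU_one, mul_one]
  obtain ⟨hρ1, a₀, ha₀⟩ := decomp_unique r hF' hn u 1 ρ' 1 hn1'
  have hu1 : (cP u.1 : MulAut PSLn) = 1 := by
    rw [cP_eq_one_iff (by omega)]
    rw [inv_one, one_mul] at ha₀
    exact ⟨a₀, ha₀⟩
  rw [hcd, hu1, one_mul, Subgroup.mem_zpowers_iff]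
  rcases zmod2_cases e with rfl | rfl
  · rw [if_pos rfl] at hρ'
    refine ⟨0, ?_⟩
    rw [zpow_zero, tpow_zero, mul_one, ← hρ', hρ1, fP_one]
  · rw [if_neg (by decide)] at hρ'
    refine ⟨1, ?_⟩
    have h6 : ρ = tauA hF' := by
      have h7 : ρ * tauA hF' = 1 := by rw [← hρ', hρ1]
      calc ρ = ρ * (tauA hF' * tauA hF') := by rw [tauA_mul_self, mul_one]
        _ = (ρ * tauA hF') * tauA hF' := by rw [mul_assoc]
        _ = tauA hF' := by rw [h7, one_mul]
    rw [zpow_one, tpow_one, h6]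

include hr hcr hF' hn hF hf in
/-- **the unitary subgroup is good** -/
theorem good_gf (hr2 : r ≠ 2) :
    Good' (Cfsg.Inn PSLn) (fP (tauA hF') * tP) 2 (subS n q₀ F) := by
  obtain ⟨eM⟩ := subS_equiv (F := F) hF' hn
  have hq₀ := two_le_q hF'
  have hq₀odd : q₀ % 2 = 1 := by
    have hoddF : Fintype.card F % 2 = 1 := by
      apply FiniteField.odd_card_of_char_ne_two
      rw [ringChar.eq F r]
      exact hr2
    rw [hF'] at hoddF
    rcases Nat.mod_two_eq_zero_or_one q₀ with h | h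
    · exfalso
      have : q₀ ^ 2 % 2 = 0 := by rw [Nat.pow_mod, h]
      omega
    · exact h
  have h32 : ¬ (n = 3 ∧ q₀ = 2) := by
    rintro ⟨-, rfl⟩
    omega
  have heven : 2 ∣ Nat.card (Cfsg.PSU n F q₀) := by
    refine dvd_trans ?_ (q2m1_dvd_card_PSU hF' n hn)
    have : q₀ ^ 2 % 2 = 1 := by rw [Nat.pow_mod, hq₀odd]
    omega
  refine ⟨subS_le hF' hn, ?_, ?_, ?_, ?_⟩
  · intro h0
    have h1 : Nat.card ↥(subS n q₀ F) = 1 := by
      rw [h0]
      exact Subgroup.card_bot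
    rw [Nat.card_congr eM.toEquiv] at h1
    rw [h1] at heven
    omega
  · intro c hc k hk
    exact subS_norm r hF' hn hF hf c ((mem_cent_singleton _ _).mp hc) k hk
  · intro c hc hcomm
    exact subS_cent r hF' hn hF hf c ((mem_cent_singleton _ _).mp hc) hcomm
  · intro hd N hNM hnorm hcop
    apply ncore_of_equiv (subS n q₀ F) eM 2 ?_ N hNM hnorm hcop
    haveI := SUG.PSU_isSimpleGroup hF' hn h32
    intro N' hN' hcop'
    exact ncore_simple 2 Nat.prime_two heven N' hN' hcop'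

end fin

end gf

end Cfsg.Agent.Lib.Helper16.LBal
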