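import Mathlib

/-!
# Local balance for the minus type orthogonal groups, part A: abstract group lemmas
-/

set_option autoImplicit false
set_option linter.unusedSectionVars false
set_option linter.unusedVariables false
set_option linter.style.haveILetI false

namespace Cfsg.Agent.Lib.Helper16.LocalBalMinus

open scoped commutatorElement

/-- central factors drop out of commutators -/
theorem comm_central_left {P : Type*} [Group P] (a y z : P) (hz : z ∈ Subgroup.center P) :
    ⁅z * a, y⁆ = ⁅a, y⁆ := by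
  rw [Subgroup.mem_center_iff] at hz
  rw [commutatorElement_def, commutatorElement_def, mul_inv_rev]
  calc z * a * y * (a⁻¹ * z⁻¹) * y⁻¹ = z * (a * y * a⁻¹) * z⁻¹ * y⁻¹ := by group
    _ = (a * y * a⁻¹) * z * z⁻¹ * y⁻¹ := by rw [hz (a * y * a⁻¹)]
    _ = a * y * a⁻¹ * y⁻¹ := by group

theorem comm_central_right {P : Type*} [Group P] (a y z : P) (hz : z ∈ Subgroup.center P) :
    ⁅a, z * y⁆ = ⁅a, y⁆ := by
  rw [Subgroup.mem_center_iff] at hz
  rw [commutatorElement_def, commutatorElement_def, mul_inv_rev]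
  calc a * (z * y) * a⁻¹ * (y⁻¹ * z⁻¹) = (a * z) * y * a⁻¹ * y⁻¹ * z⁻¹ := by group
    _ = (z * a) * y * a⁻¹ * y⁻¹ * z⁻¹ := by rw [hz a]
    _ = z * (a * y * a⁻¹ * y⁻¹) * z⁻¹ := by group
    _ = (a * y * a⁻¹ * y⁻¹) * z * z⁻¹ := by rw [hz (a * y * a⁻¹ * y⁻¹)]
    _ = a * y * a⁻¹ * y⁻¹ := by group

theorem comm_central {P : Type*} [Group P] (a b za zb : P) (hza : za ∈ Subgroup.center P)
    (hzb : zb ∈ Subgroup.center P) : ⁅za * a, zb * b⁆ = ⁅a, b⁆ := by
  rw [comm_central_left a _ za hza, comm_central_right a b zb hzb]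

/-- **the centralising lemma**: a subgroup of odd order normalised by, and normalising, the image
of a perfect group which is simple modulo its centre and whose image has elements of even order
centralises that image -/
theorem comm_of_odd_normal {G P : Type*} [Group G] [Group P]
    (hperf : commutator P = ⊤) (hsimple : IsSimpleGroup (P ⧸ Subgroup.center P))
    (f : P →* G) (N : Subgroup G) [Finite N] (hodd : Odd (Nat.card N))
    (hMN : ∀ y : P, ∀ n ∈ N, f y * n * (f y)⁻¹ ∈ N)
    (hNM : ∀ n ∈ N, ∀ y : P, ∃ y' : P, n * f y * n⁻¹ = f y')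
    (y₀ : P) (hy₀ : ∀ k, Odd k → f (y₀ ^ k) ≠ 1) :
    ∀ n ∈ N, ∀ y : P, n * f y = f y * n := by
  classical
  obtain ⟨N₁, hN₁⟩ : ∃ N₁ : Subgroup P, N₁ = N.comap f := ⟨_, rfl⟩
  have hN₁n : N₁.Normal := by
    constructor
    intro a ha y
    rw [hN₁, Subgroup.mem_comap] at ha ⊢
    rw [map_mul, map_mul, map_inv]
    exact hMN y _ ha
  have hmapn : (N₁.map (QuotientGroup.mk' (Subgroup.center P))).Normal :=
    Subgroup.Normal.map hN₁n _ (QuotientGroup.mk'_surjective _)
  rcases hsimple.eq_bot_or_eq_top_of_normal _ hmapn with h0 | h0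
  · -- `N₁` is central
    have hN₁Z : N₁ ≤ Subgroup.center P := by
      intro a ha
      have h1 : QuotientGroup.mk' (Subgroup.center P) a ∈
          N₁.map (QuotientGroup.mk' (Subgroup.center P)) := ⟨a, ha, rfl⟩
      rw [h0, Subgroup.mem_bot] at h1
      exact (QuotientGroup.eq_one_iff a).mp h1
    intro n hn
    -- the elements commuting with `n` form a subgroup containing the commutators
    have hle : commutator P ≤ (Subgroup.centralizer {n}).comap f := by
      rw [commutator_def, Subgroup.commutator_le]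
      intro a _ b _
      rw [Subgroup.mem_comap, Subgroup.mem_centralizer_iff]
      intro m hm
      rw [Set.mem_singleton_iff] at hm
      subst hm
      obtain ⟨a', ha'⟩ := hNM m hn a
      obtain ⟨b', hb'⟩ := hNM m hn b
      have hza : a' * a⁻¹ ∈ Subgroup.center P := by
        apply hN₁Z
        rw [hN₁, Subgroup.mem_comap, map_mul, map_inv, ← ha']
        have := hMN a m⁻¹ (N.inv_mem hn)
        have e : m * f a * m⁻¹ * (f a)⁻¹ = m * (f a * m⁻¹ * (f a)⁻¹) := by group
        rw [e]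
        exact N.mul_mem hn this
      have hzb : b' * b⁻¹ ∈ Subgroup.center P := by
        apply hN₁Z
        rw [hN₁, Subgroup.mem_comap, map_mul, map_inv, ← hb']
        have := hMN b m⁻¹ (N.inv_mem hn)
        have e : m * f b * m⁻¹ * (f b)⁻¹ = m * (f b * m⁻¹ * (f b)⁻¹) := by group
        rw [e]
        exact N.mul_mem hn this
      have h1 : m * f ⁅a, b⁆ * m⁻¹ = f ⁅a, b⁆ := by
        have e1 : m * f ⁅a, b⁆ * m⁻¹ = ⁅m * f a * m⁻¹, m * f b * m⁻¹⁆ := by
          rw [map_commutatorElement, commutatorElement_def, commutatorElement_def]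
          group
        rw [e1, ha', hb', ← map_commutatorElement]
        have e2 : a' = (a' * a⁻¹) * a := by group
        have e3 : b' = (b' * b⁻¹) * b := by group
        rw [e2, e3, comm_central a b _ _ hza hzb]
      calc m * f ⁅a, b⁆ = (m * f ⁅a, b⁆ * m⁻¹) * m := by group
        _ = f ⁅a, b⁆ * m := by rw [h1]
    rw [hperf] at hle
    intro y
    have h1 : y ∈ (Subgroup.centralizer {n}).comap f := hle (Subgroup.mem_top y)
    rw [Subgroup.mem_comap, Subgroup.mem_centralizer_iff] at h1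
    exact h1 n rfl
  · -- `N₁` covers the quotient: impossible
    exfalso
    have hdec : ∀ a : P, ∃ n₁ ∈ N₁, ∃ z ∈ Subgroup.center P, a = z * n₁ := by
      intro a
      have h1 : QuotientGroup.mk' (Subgroup.center P) a ∈
          N₁.map (QuotientGroup.mk' (Subgroup.center P)) := by rw [h0]; exact Subgroup.mem_top _
      obtain ⟨n₁, hn₁, hn₁a⟩ := h1
      refine ⟨n₁, hn₁, a * n₁⁻¹, ?_, by group⟩
      have h2 : QuotientGroup.mk' (Subgroup.center P) (a * n₁⁻¹) = 1 := by
        rw [map_mul, map_inv, hn₁a, mul_inv_cancel]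
      exact (QuotientGroup.eq_one_iff _).mp h2
    have hle : commutator P ≤ N₁ := by
      rw [commutator_def, Subgroup.commutator_le]
      intro a _ b _
      obtain ⟨n₁, hn₁, za, hza, rfl⟩ := hdec a
      obtain ⟨n₂, hn₂, zb, hzb, rfl⟩ := hdec b
      rw [comm_central n₁ n₂ za zb hza hzb, commutatorElement_def]
      exact N₁.mul_mem (N₁.mul_mem (N₁.mul_mem hn₁ hn₂) (N₁.inv_mem hn₁)) (N₁.inv_mem hn₂)
    rw [hperf] at hle
    have h1 : y₀ ∈ N₁ := hle (Subgroup.mem_top y₀)
    rw [hN₁, Subgroup.mem_comap] at h1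
    apply hy₀ (Nat.card N) hodd
    rw [map_pow]
    have h2 : (⟨f y₀, h1⟩ : ↥N) ^ Nat.card N = 1 := pow_card_eq_one'
    have := congrArg Subtype.val h2
    rwa [Subgroup.coe_pow, Subgroup.coe_one] at this

/-- powers of a product with a normalising element -/
theorem mul_pow_mem_of_normalizes {G : Type*} [Group G] (N : Subgroup G) (n ρ : G) (hn : n ∈ N)
    (hρ : ∀ m ∈ N, ρ * m * ρ⁻¹ ∈ N) (k : ℕ) : ∃ n' ∈ N, (n * ρ) ^ k = n' * ρ ^ k := by
  induction k with
  | zero => exact ⟨1, N.one_mem, by simp⟩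
  | succ k ih =>
    obtain ⟨n', hn', e⟩ := ih
    have hρk : ∀ j : ℕ, ∀ m ∈ N, ρ ^ j * m * (ρ ^ j)⁻¹ ∈ N := by
      intro j
      induction j with
      | zero => intro m hm; simpa using hm
      | succ j ihj =>
        intro m hm
        have := hρ _ (ihj m hm)
        have e' : ρ ^ (j + 1) * m * (ρ ^ (j + 1))⁻¹ = ρ * (ρ ^ j * m * (ρ ^ j)⁻¹) * ρ⁻¹ := by
          rw [pow_succ']
          group
        rw [e']
        exact this
    refine ⟨n' * (ρ ^ k * n * (ρ ^ k)⁻¹), N.mul_mem hn' (hρk k n hn), ?_⟩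
    rw [pow_succ, e, pow_succ]
    group

/-- an element of a subgroup of odd order times a normalising element of odd order has odd order -/
theorem exists_odd_pow_eq_one {G : Type*} [Group G] (N : Subgroup G) [Finite N]
    (hodd : Odd (Nat.card N)) (n ρ : G) (hn : n ∈ N) (hρ : ∀ m ∈ N, ρ * m * ρ⁻¹ ∈ N) (r : ℕ)
    (hr : Odd r) (hρr : ρ ^ r = 1) : ∃ k, Odd k ∧ (n * ρ) ^ k = 1 := by
  obtain ⟨n', hn', e⟩ := mul_pow_mem_of_normalizes N n ρ hn hρ r
  rw [hρr, mul_one] at e
  refine ⟨r * Nat.card N, hr.mul hodd, ?_⟩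
  rw [pow_mul, e]
  have h2 : (⟨n', hn'⟩ : ↥N) ^ Nat.card N = 1 := pow_card_eq_one'
  have := congrArg Subtype.val h2
  rwa [Subgroup.coe_pow, Subgroup.coe_one] at this

end Cfsg.Agent.Lib.Helper16.LocalBalMinus
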