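import Mathlib
import Cfsg.Agent.Lib.Helper6.AutOrt17
import Cfsg.Agent.Lib.Helper6.OmegaSimple

/-!
# Local balance for the minus type orthogonal groups, part B: conjugation of isometries by a
semilinear similarity (without the standing assumptions on the form) and the rigidity lemma
-/

set_option autoImplicit false
set_option linter.unusedSectionVars false
set_option linter.unusedVariables false
set_option linter.style.haveILetI false

namespace Cfsg.Agent.Lib.Helper16.LocalBalMinus

open Matrix Cfsg QuadraticMap Module Cfsg.Agent.Lib.Helper6 Cfsg.Agent.Lib.Helper6.AutOrt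
  Cfsg.Agent.Lib.Helper15
open Cfsg.Agent.Lib.Helper6.AutPSL (gl_mul_inv gl_inv_mul)

variable {F : Type*} [Field F] [Fintype F] {ι : Type} [Fintype ι] [DecidableEq ι]
  {Q : QuadraticForm F (ι → F)}

section conj
variable (hnd : (polarBilin Q).Nondegenerate) (Φ : SemiSimO Q)

include hnd in
theorem S_injective' : Function.Injective Φ.S := by
  intro x y hxy
  have h1 : Φ.S (x - y) = 0 := by rw [SemiSimO.S_sub, hxy, sub_self]
  have h2 : x - y = 0 := by
    apply hnd.1
    intro z
    have := Φ.polar_S (x - y) z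
    rw [h1, polar_zero_left] at this
    rcases mul_eq_zero.mp this.symm with h | h
    · exact absurd h Φ.hν
    · exact (map_eq_zero_iff _ Φ.σ.injective).mp h
  exact sub_eq_zero.mp h2

include hnd in
theorem S_surjective' : Function.Surjective Φ.S :=
  Finite.injective_iff_surjective.mp (S_injective' hnd Φ)

include hnd in
theorem exists_gl' : ∃ g : GL ι F, g.1 = Φ.mat := by
  have hunit : IsUnit Φ.mat := by
    rw [← Matrix.mulVec_injective_iff_isUnit]
    intro x y hxy
    rw [SemiSimO.mat_mulVec, SemiSimO.mat_mulVec] at hxy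
    have h1 := S_injective' hnd Φ hxy
    funext i
    have h2 := congrFun h1 i
    exact Φ.σ.symm.injective h2
  exact ⟨hunit.unit, IsUnit.unit_spec hunit⟩

include hnd in
/-- the conjugate of an isometry by a semilinear similarity -/
theorem exists_conj (s : ↥(Cfsg.isometryGroup F ⇑Q)) :
    ∃ s' : ↥(Cfsg.isometryGroup F ⇑Q), ∀ y, gact Q s' (Φ.S y) = Φ.S (gact Q s y) := by
  obtain ⟨G, hG⟩ := exists_gl' hnd Φ
  have hsurj := S_surjective' hnd Φ
  have key : ∀ (t : ↥(Cfsg.isometryGroup F ⇑Q)) (y : ι → F),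
      (G.1 * ((t.1 : GL ι F) : Matrix ι ι F).map Φ.σ * (G⁻¹).1) *ᵥ (Φ.S y) =
        Φ.S (gact Q t y) := by
    intro t y
    have h2 : (G⁻¹).1 *ᵥ (Φ.S y) = fun i => Φ.σ (y i) := by
      rw [← SemiSimO.mat_mulVec' Φ y, ← hG, mulVec_mulVec, gl_inv_mul, one_mulVec]
    rw [← mulVec_mulVec, ← mulVec_mulVec, h2, map_mulVec_apply', hG, SemiSimO.mat_mulVec']
    rfl
  have hmul : ∀ t t' : ↥(Cfsg.isometryGroup F ⇑Q), t * t' = 1 →
      (G.1 * ((t.1 : GL ι F) : Matrix ι ι F).map Φ.σ * (G⁻¹).1) *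
        (G.1 * ((t'.1 : GL ι F) : Matrix ι ι F).map Φ.σ * (G⁻¹).1) = 1 := by
    intro t t' htt'
    apply matrix_ext_mulVec
    intro x
    obtain ⟨y, rfl⟩ := hsurj x
    rw [← mulVec_mulVec, key, key, ← gact_mul, htt', gact_one, one_mulVec]
  refine ⟨mkIso Q _ _ (hmul s s⁻¹ (mul_inv_cancel s)) (hmul s⁻¹ s (inv_mul_cancel s)) ?_, ?_⟩
  · intro x
    obtain ⟨y, rfl⟩ := hsurj x
    rw [key, Φ.form, Q_gact, ← Φ.form]
  · intro y
    rw [gact_mkIso, key]

/-- the conjugate of an isometry by a semilinear similarity -/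
noncomputable def cFun (s : ↥(Cfsg.isometryGroup F ⇑Q)) : ↥(Cfsg.isometryGroup F ⇑Q) :=
  Classical.choose (exists_conj hnd Φ s)

theorem gact_cFun (s : ↥(Cfsg.isometryGroup F ⇑Q)) (y : ι → F) :
    gact Q (cFun hnd Φ s) (Φ.S y) = Φ.S (gact Q s y) :=
  Classical.choose_spec (exists_conj hnd Φ s) y

/-- characterisation of the conjugate -/
theorem cFun_eq (s s' : ↥(Cfsg.isometryGroup F ⇑Q))
    (h : ∀ y, gact Q s' (Φ.S y) = Φ.S (gact Q s y)) : cFun hnd Φ s = s' := by
  apply iso_ext_gact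
  intro x
  obtain ⟨y, rfl⟩ := S_surjective' hnd Φ x
  rw [gact_cFun, h]

/-- conjugation by the semilinear similarity as an endomorphism of the isometry group -/
noncomputable def cHom' : ↥(Cfsg.isometryGroup F ⇑Q) →* ↥(Cfsg.isometryGroup F ⇑Q) where
  toFun := cFun hnd Φ
  map_one' := by
    apply cFun_eq
    intro y
    rw [gact_one, gact_one]
  map_mul' s t := by
    apply cFun_eq
    intro y
    rw [gact_mul, gact_mul, gact_cFun, gact_cFun]

theorem cHom'_apply (s : ↥(Cfsg.isometryGroup F ⇑Q)) : cHom' hnd Φ s = cFun hnd Φ s := rfl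

theorem cHom'_mem_Omega (s : ↥(Cfsg.isometryGroup F ⇑Q)) (hs : s ∈ Cfsg.Omega F ⇑Q) :
    cHom' hnd Φ s ∈ Cfsg.Omega F ⇑Q := by
  have hle : (commutator ↥(Cfsg.isometryGroup F ⇑Q)).map (cHom' hnd Φ) ≤
      commutator ↥(Cfsg.isometryGroup F ⇑Q) := by
    rw [commutator_def, Subgroup.map_commutator]
    exact Subgroup.commutator_mono le_top le_top
  exact hle ⟨s, hs, rfl⟩

/-- conjugation by the semilinear similarity as an endomorphism of `Ω` -/
noncomputable def cOmHom : ↥(Cfsg.Omega F ⇑Q) →* ↥(Cfsg.Omega F ⇑Q) :=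
  MonoidHom.codRestrict ((cHom' hnd Φ).comp (Cfsg.Omega F ⇑Q).subtype) (Cfsg.Omega F ⇑Q)
    (fun s => cHom'_mem_Omega hnd Φ s.1 s.2)

theorem cOmHom_val (s : ↥(Cfsg.Omega F ⇑Q)) : (cOmHom hnd Φ s).1 = cFun hnd Φ s.1 := rfl

end conj

/-! ### the rigidity lemma -/

section rigid
variable (Q) (hnd : (polarBilin Q).Nondegenerate) (h5 : 5 ≤ Fintype.card ι)

include hnd in
/-- double perpendicular of a point -/
theorem mem_span_of_perp_perp' {u x : ι → F} (hu0 : u ≠ 0) (hu : Q u = 0)
    (h : ∀ y, polar (⇑Q) u y = 0 → polar (⇑Q) x y = 0) : ∃ c : F, x = c • u := by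
  obtain ⟨f, hf, huf⟩ := exists_hyperbolic_partner Q hnd u hu0 hu
  refine ⟨polar (⇑Q) x f, ?_⟩
  have h0 : x - polar (⇑Q) x f • u = 0 := by
    apply hnd.1
    intro y
    have h1 := h (y - polar (⇑Q) u y • f) (by rw [polar_sub_right, polar_smul_right, huf]; simp)
    rw [polar_sub_right, polar_smul_right] at h1
    change polar (⇑Q) (x - polar (⇑Q) x f • u) y = 0
    rw [polar_sub_left, polar_smul_left]
    simp only [smul_eq_mul] at h1 ⊢
    linear_combination h1
  exact sub_eq_zero.mp h0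

include hnd h5 in
/-- a vector fixed by all the Siegel transformations attached to `u` is a multiple of `u` -/
theorem fixed_of_sieg {u x : ι → F} (hu0 : u ≠ 0) (hu : Q u = 0)
    (h : ∀ w (huw : polar (⇑Q) u w = 0), gact Q (siegIso Q u w hu huw) x = x) :
    ∃ c : F, x = c • u := by
  have hfin : 5 ≤ Module.finrank F (ι → F) := by
    rw [Module.finrank_fintype_fun_eq_card]; exact h5
  obtain ⟨z, y, hz, hy, hzy, huz, huy⟩ := exists_hyp_pair_perp Q hnd hfin u hu0 hu
  have key : ∀ w, polar (⇑Q) u w = 0 →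
      (polar (⇑Q) w x - Q w * polar (⇑Q) u x) • u + (-(polar (⇑Q) u x)) • w = 0 := by
    intro w hw
    have h1 := h w hw
    rw [gact_siegIso] at h1
    have e : (polar (⇑Q) w x - Q w * polar (⇑Q) u x) • u + (-(polar (⇑Q) u x)) • w
        = (x + (polar (⇑Q) w x - Q w * polar (⇑Q) u x) • u + (-(polar (⇑Q) u x)) • w) - x := by abel
    rw [e, h1, sub_self]
  have hux : polar (⇑Q) u x = 0 := by
    have h1 := congrArg (fun t => polar (⇑Q) t y) (key z huz)
    simp only [polar_add_left, polar_smul_left, huy, hzy, polar_zero_left, smul_eq_mul, mul_zero,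
      zero_add, mul_one] at h1
    linear_combination -h1
  apply mem_span_of_perp_perp' Q hnd hu0 hu
  intro w hw
  have h1 := key w hw
  rw [hux, mul_zero, sub_zero, neg_zero, zero_smul, add_zero] at h1
  rcases smul_eq_zero.mp h1 with h2 | h2
  · rw [polar_comm]; exact h2
  · exact absurd h2 hu0

include hnd h5 in
/-- **rigidity**: an additive map commuting with all the Siegel transformations is a scalar -/
theorem scalar_of_comm_sieg (T : (ι → F) → (ι → F)) (hadd : ∀ x y, T (x + y) = T x + T y)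
    (hcomm : ∀ u w (hu : Q u = 0) (huw : polar (⇑Q) u w = 0) (v : ι → F),
      gact Q (siegIso Q u w hu huw) (T v) = T (gact Q (siegIso Q u w hu huw) v)) :
    ∃ c : F, ∀ v, T v = c • v := by
  have hfin : 5 ≤ Module.finrank F (ι → F) := by
    rw [Module.finrank_fintype_fun_eq_card]; exact h5
  apply scalar_of_fix_sing Q hnd hfin T hadd
  intro u hu
  by_cases hu0 : u = 0
  · refine ⟨0, ?_⟩
    have := hadd 0 0
    rw [add_zero] at this
    rw [hu0, zero_smul]
    exact left_eq_add.mp this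
  obtain ⟨c, hc⟩ := fixed_of_sieg Q hnd h5 (x := T u) hu0 hu (fun w huw => by
    rw [hcomm u w hu huw u]
    congr 1
    rw [gact_siegIso, polar_self, hu, polar_comm, huw]
    simp)
  exact ⟨c, hc⟩

end rigid

end Cfsg.Agent.Lib.Helper16.LocalBalMinus
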