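import Mathlib
import Cfsg.Agent.Lib.Helper16.LocalBalMinusB

/-!
# Local balance for the minus type orthogonal groups, part C: an element of `Ω` interchanging two
singular points
-/

set_option autoImplicit false
set_option linter.unusedSectionVars false
set_option linter.unusedVariables false
set_option linter.style.haveILetI false

namespace Cfsg.Agent.Lib.Helper16.LocalBalMinus

open Matrix Cfsg QuadraticMap Module Cfsg.Agent.Lib.Helper6 Cfsg.Agent.Lib.Helper6.AutOrt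
  Cfsg.Agent.Lib.Helper15

variable {F : Type*} [Field F] [Fintype F] {ι : Type} [Fintype ι] [DecidableEq ι]
  (Q : QuadraticForm F (ι → F))

/-- an element of `Ω` interchanging the points of a hyperbolic pair -/
theorem exists_weyl (hnd : (polarBilin Q).Nondegenerate) (h5 : 5 ≤ Fintype.card ι) :
    ∃ (y₀ : ↥(Cfsg.Omega F ⇑Q)) (e f : ι → F) (c : F), c ≠ 0 ∧ Q e = 0 ∧ Q f = 0 ∧
      polar (⇑Q) e f = 1 ∧ ∀ k, Odd k → gact Q (y₀ ^ k).1 e = c • f := by
  have hfin : 5 ≤ Module.finrank F (ι → F) := by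
    rw [Module.finrank_fintype_fun_eq_card]; exact h5
  obtain ⟨e, he0, he, -, -⟩ := exists_singular_perp Q hfin 0 0
  obtain ⟨f, hf, hef⟩ := exists_hyperbolic_partner Q hnd e he0 he
  obtain ⟨w, hew, hfw, hw⟩ := exists_nonsingular_perp Q hnd hfin e f
  obtain ⟨d, hd⟩ : ∃ d, d = Q w := ⟨_, rfl⟩
  have hd0 : d ≠ 0 := by rw [hd]; exact hw
  have hfe : polar (⇑Q) f e = 1 := by rw [polar_comm, hef]
  have hwe : polar (⇑Q) w e = 0 := by rw [polar_comm, hew]
  have hwf : polar (⇑Q) w f = 0 := by rw [polar_comm, hfw]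
  have hee : polar (⇑Q) e e = 0 := by rw [polar_self, he, smul_zero]
  have hff : polar (⇑Q) f f = 0 := by rw [polar_self, hf, smul_zero]
  have hww : polar (⇑Q) w w = 2 * d := by rw [polar_self, hd]; simp
  have hfw' : polar (⇑Q) f (d⁻¹ • w) = 0 := by rw [polar_smul_right, hfw, smul_zero]
  have hQdw : Q (d⁻¹ • w) = d⁻¹ := by
    rw [Q_smul, ← hd]
    field_simp
  obtain ⟨ρ₁, hρ₁⟩ : ∃ ρ₁, ρ₁ = siegIso Q e w he hew := ⟨_, rfl⟩
  obtain ⟨ρ₂, hρ₂⟩ : ∃ ρ₂, ρ₂ = siegIso Q f (d⁻¹ • w) hf hfw' := ⟨_, rfl⟩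
  have h1e : gact Q ρ₁ e = e := by
    rw [hρ₁, gact_siegIso, hwe, hee]
    simp
  have h1f : gact Q ρ₁ f = f - d • e - w := by
    rw [hρ₁, gact_siegIso, hwf, hef, ← hd]
    module
  have h1w : gact Q ρ₁ w = w + (2 * d) • e := by
    rw [hρ₁, gact_siegIso, hww, hew, ← hd]
    module
  have h2f : gact Q ρ₂ f = f := by
    rw [hρ₂, gact_siegIso, polar_smul_left, hwf, hff]
    simp
  have h2e : gact Q ρ₂ e = e - d⁻¹ • f - d⁻¹ • w := by
    rw [hρ₂, gact_siegIso, polar_smul_left, hwe, hfe, hQdw]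
    module
  have h2w : gact Q ρ₂ w = w + (2 : F) • f := by
    rw [hρ₂, gact_siegIso, polar_smul_left, hww, hfw, hQdw, smul_eq_mul]
    have e1 : d⁻¹ * (2 * d) = 2 := by field_simp
    rw [e1]
    module
  obtain ⟨y, hy⟩ : ∃ y, y = ρ₁ * ρ₂ * ρ₁ := ⟨_, rfl⟩
  have hye : gact Q y e = (-d⁻¹) • f := by
    rw [hy, gact_mul, gact_mul, h1e, h2e, gact_sub, gact_sub, gact_smul, gact_smul, h1e, h1f, h1w]
    have e1 : d⁻¹ • (2 * d) • e = (2 : F) • e := by
      rw [smul_smul]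
      congr 1
      field_simp
    have e2 : d⁻¹ • (f - d • e - w) = d⁻¹ • f - e - d⁻¹ • w := by
      rw [smul_sub, smul_sub, smul_smul, inv_mul_cancel₀ hd0, one_smul]
    rw [smul_add, e1, e2]
    module
  have hyf : gact Q y f = (-d) • e := by
    rw [hy, gact_mul, gact_mul, h1f]
    simp only [gact_sub, gact_add, gact_smul, h2f, h2e, h2w, h1e, h1f, h1w]
    match_scalars <;> field_simp <;> ring
  have hyΩ : y ∈ Cfsg.Omega F ⇑Q := by
    rw [hy, hρ₁, hρ₂]
    exact Subgroup.mul_mem _ (Subgroup.mul_mem _ (siegIso_mem_Omega Q hnd h5 _ _ _ _)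
      (siegIso_mem_Omega Q hnd h5 _ _ _ _)) (siegIso_mem_Omega Q hnd h5 _ _ _ _)
  have hy2f : gact Q (y ^ 2) f = f := by
    rw [pow_two, gact_mul, hyf, gact_smul, hye, smul_smul]
    have : -d * -d⁻¹ = 1 := by field_simp
    rw [this, one_smul]
  have hy2j : ∀ j : ℕ, gact Q ((y ^ 2) ^ j) f = f := by
    intro j
    induction j with
    | zero => rw [pow_zero, gact_one]
    | succ j ih => rw [pow_succ, gact_mul, hy2f, ih]
  refine ⟨⟨y, hyΩ⟩, e, f, -d⁻¹, ?_, he, hf, hef, ?_⟩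
  · exact neg_ne_zero.mpr (inv_ne_zero hd0)
  · rintro k ⟨j, rfl⟩
    rw [Subgroup.coe_pow]
    change gact Q (y ^ (2 * j + 1)) e = _
    rw [pow_succ, pow_mul, gact_mul, hye, gact_smul, hy2j]

end Cfsg.Agent.Lib.Helper16.LocalBalMinus
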