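import Mathlib
import Cfsg.Agent.Lib.Helper16.LocalBalMinusA
import Cfsg.Agent.Lib.Helper16.LocalBalMinusC

/-!
# Local balance for the minus type orthogonal groups, part D: subgroups of odd order normalised by
an embedded orthogonal group
-/

set_option autoImplicit false
set_option linter.unusedSectionVars false
set_option linter.unusedVariables false
set_option linter.style.haveILetI false

namespace Cfsg.Agent.Lib.Helper16.LocalBalMinus

open Matrix Cfsg QuadraticMap Module Cfsg.Agent.Lib.Helper6 Cfsg.Agent.Lib.Helper6.AutOrt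
  Cfsg.Agent.Lib.Helper15

open scoped commutatorElement

variable {F : Type*} [Field F] [Fintype F] {ι : Type} [Fintype ι] [DecidableEq ι]
  {Q : QuadraticForm F (ι → F)} [hS : Std Q]
  {F' : Type*} [Field F'] [Fintype F'] {ι' : Type} [Fintype ι'] [DecidableEq ι']
  (Q' : QuadraticForm F' (ι' → F'))

/-- conjugating an inner automorphism -/
theorem conj_conj {K : Type*} [Group K] (β : MulAut K) (k : K) :
    β * MulAut.conj k * β⁻¹ = MulAut.conj (β k) := by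
  ext y
  simp only [MulAut.mul_apply, MulAut.conj_apply, map_mul, map_inv]
  rw [MulAut.apply_inv_self]

theorem center_POmega' : Subgroup.center (Cfsg.POmega F ⇑Q) = ⊥ := by
  haveI : Group.IsPerfect ↥(Cfsg.Omega F ⇑Q) := ⟨Omega_perfect Q hS.nondeg (five_le Q)⟩
  exact Group.IsPerfect.center_quotient_center_eq_bot ↥(Cfsg.Omega F ⇑Q)

theorem conj_eq_one_iff (k : Cfsg.POmega F ⇑Q) : MulAut.conj k = 1 ↔ k = 1 := by
  constructor
  · intro hk
    have : k ∈ Subgroup.center (Cfsg.POmega F ⇑Q) := by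
      rw [Subgroup.mem_center_iff]
      intro y
      have := congrArg (fun β : MulAut (Cfsg.POmega F ⇑Q) => β y) hk
      simp only [MulAut.conj_apply, MulAut.one_apply] at this
      calc y * k = (k * y * k⁻¹) * k := by rw [this]
        _ = k * y := by group
    rw [center_POmega', Subgroup.mem_bot] at this
    exact this
  · rintro rfl
    exact map_one _

/-- the embedding restricted to `Ω` -/
noncomputable def embOm (emb : ↥(Cfsg.isometryGroup F' ⇑Q') →* ↥(Cfsg.isometryGroup F ⇑Q)) :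
    ↥(Cfsg.Omega F' ⇑Q') →* ↥(Cfsg.Omega F ⇑Q) :=
  MonoidHom.codRestrict (emb.comp (Cfsg.Omega F' ⇑Q').subtype) (Cfsg.Omega F ⇑Q) (fun s => by
    have hle : (commutator ↥(Cfsg.isometryGroup F' ⇑Q')).map emb ≤
        commutator ↥(Cfsg.isometryGroup F ⇑Q) := by
      rw [commutator_def, Subgroup.map_commutator]
      exact Subgroup.commutator_mono le_top le_top
    exact hle ⟨s.1, s.2, rfl⟩)

theorem embOm_val (emb : ↥(Cfsg.isometryGroup F' ⇑Q') →* ↥(Cfsg.isometryGroup F ⇑Q))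
    (s : ↥(Cfsg.Omega F' ⇑Q')) : (embOm Q' emb s).1 = emb s.1 := rfl

/-- the induced map to the inner automorphisms -/
noncomputable def embAut (emb : ↥(Cfsg.isometryGroup F' ⇑Q') →* ↥(Cfsg.isometryGroup F ⇑Q)) :
    ↥(Cfsg.Omega F' ⇑Q') →* MulAut (Cfsg.POmega F ⇑Q) :=
  (MulAut.conj).comp ((pu : ↥(Cfsg.Omega F ⇑Q) →* Cfsg.POmega F ⇑Q).comp (embOm Q' emb))

theorem embAut_apply (emb : ↥(Cfsg.isometryGroup F' ⇑Q') →* ↥(Cfsg.isometryGroup F ⇑Q))
    (s : ↥(Cfsg.Omega F' ⇑Q')) : embAut Q' emb s = MulAut.conj (pu (embOm Q' emb s)) := rfl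

section main
variable (hnd' : (polarBilin Q').Nondegenerate) (h5' : 5 ≤ Fintype.card ι')
  (emb : ↥(Cfsg.isometryGroup F' ⇑Q') →* ↥(Cfsg.isometryGroup F ⇑Q))
  (Θ : (ι' → F') → (ι → F)) (hΘadd : ∀ a b, Θ (a + b) = Θ a + Θ b)
  (hΘinj : Function.Injective Θ)
  (W : AddSubgroup (ι → F))
  (hE1 : ∀ h v', gact Q (emb h) (Θ v') = Θ (gact Q' h v'))
  (hE2 : ∀ h, ∀ w ∈ W, gact Q (emb h) w = w)
  (hE3 : ∀ v : ι → F, ∃ v' w, w ∈ W ∧ v = Θ v' + w)

/-- compatibility of a semilinear similarity of the big space with one of the small space -/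
def Compat (Φ : SemiSimO Q) (Φ' : SemiSimO Q') : Prop :=
  (∀ v', Φ.S (Θ v') = Θ (Φ'.S v')) ∧ ∀ w ∈ W, Φ.S w ∈ W

include hΘadd in
theorem Θ_zero : Θ 0 = 0 := by
  have := hΘadd 0 0
  rw [add_zero] at this
  exact left_eq_add.mp this

include hΘadd in
theorem Θ_neg (v : ι' → F') : Θ (-v) = -Θ v := by
  have := hΘadd v (-v)
  rw [add_neg_cancel, Θ_zero Θ hΘadd] at this
  exact eq_neg_of_add_eq_zero_right this.symm

include hE1 hE2 hE3 in
/-- conjugating the embedded group by compatible semilinear similarities -/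
theorem cOm_embOm (Φ : SemiSimO Q) (Φ' : SemiSimO Q') (hc : Compat Q' Θ W Φ Φ')
    (ω : ↥(Cfsg.Omega F' ⇑Q')) :
    Φ.cOm (embOm Q' emb ω) = embOm Q' emb (cOmHom hnd' Φ' ω) := by
  apply Subtype.ext
  rw [SemiSimO.cOm_val, embOm_val, embOm_val, cOmHom_val]
  apply iso_ext_gact
  intro x
  obtain ⟨y, rfl⟩ := Φ.S_surjective x
  obtain ⟨v', w, hw, rfl⟩ := hE3 y
  rw [SemiSimO.gact_cIsoFun, gact_add, hE1, hE2 _ w hw, Φ.add, Φ.add, hc.1, hc.1, gact_add, hE1,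
    hE2 _ _ (hc.2 w hw), gact_cFun]

include hE1 hE2 hE3 in
theorem conj_embAut (Φ : SemiSimO Q) (Φ' : SemiSimO Q') (hc : Compat Q' Θ W Φ Φ')
    (ω : ↥(Cfsg.Omega F' ⇑Q')) :
    Φ.gam * embAut Q' emb ω * Φ.gam⁻¹ = embAut Q' emb (cOmHom hnd' Φ' ω) := by
  rw [embAut_apply, embAut_apply, conj_conj, SemiSimO.gam_pu,
    cOm_embOm Q' hnd' emb Θ W hE1 hE2 hE3 Φ Φ' hc ω]

include hΘadd hΘinj hE1 in
/-- the kernel consists of scalars `±1` -/
theorem ker_embAut (ω : ↥(Cfsg.Omega F' ⇑Q')) (h : embAut Q' emb ω = 1) :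
    (∀ v', gact Q' ω.1 v' = v') ∨ (∀ v', gact Q' ω.1 v' = -v') := by
  rw [embAut_apply, conj_eq_one_iff, pu_eq_one_iff] at h
  rcases av_center _ h with h1 | h1
  · left
    intro v'
    apply hΘinj
    rw [← hE1]
    exact h1 (Θ v')
  · right
    intro v'
    apply hΘinj
    rw [← hE1, Θ_neg Θ hΘadd]
    exact h1 (Θ v')

include hnd' h5' hΘadd hΘinj hE1 hE2 hE3 in
/-- **a subgroup of odd order normalised by the embedded `Ω` acts by scalars on the small space** -/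
theorem scalar_of_odd_normal (N : Subgroup (MulAut (Cfsg.POmega F ⇑Q))) [Finite N]
    (hodd : Odd (Nat.card N))
    (hMN : ∀ ω : ↥(Cfsg.Omega F' ⇑Q'), ∀ n ∈ N, embAut Q' emb ω * n * (embAut Q' emb ω)⁻¹ ∈ N)
    (hpre : ∀ n ∈ N, ∃ (Φ : SemiSimO Q) (Φ' : SemiSimO Q'), Φ.gam = n ∧ Compat Q' Θ W Φ Φ')
    (Φ : SemiSimO Q) (Φ' : SemiSimO Q') (hΦ : Φ.gam ∈ N) (hc : Compat Q' Θ W Φ Φ') :
    ∃ c : F', ∀ v', Φ'.S v' = c • v' := by
  classical
  have hperf := Omega_perfect Q' hnd' h5'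
  have hsimple : IsSimpleGroup (↥(Cfsg.Omega F' ⇑Q') ⧸ Subgroup.center ↥(Cfsg.Omega F' ⇑Q')) :=
    POmega_isSimpleGroup Q' hnd' h5'
  obtain ⟨y₀, e, f, c₀, hc₀, he, hf, hef, hy₀⟩ := exists_weyl Q' hnd' h5'
  have hNM : ∀ n ∈ N, ∀ ω : ↥(Cfsg.Omega F' ⇑Q'), ∃ ω' : ↥(Cfsg.Omega F' ⇑Q'),
      n * embAut Q' emb ω * n⁻¹ = embAut Q' emb ω' := by
    intro n hn ω
    obtain ⟨Ψ, Ψ', rfl, hcΨ⟩ := hpre n hn
    exact ⟨_, conj_embAut Q' hnd' emb Θ W hE1 hE2 hE3 Ψ Ψ' hcΨ ω⟩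
  have hy₀' : ∀ k, Odd k → embAut Q' emb (y₀ ^ k) ≠ 1 := by
    intro k hk h1
    have h2 := hy₀ k hk
    have hpol : polar (⇑Q') e (c₀ • f) = c₀ := by rw [polar_smul_right, hef, smul_eq_mul, mul_one]
    rcases ker_embAut Q' emb Θ hΘadd hΘinj hE1 _ h1 with h3 | h3
    · rw [h3] at h2
      rw [← h2, polar_self, he, smul_zero] at hpol
      exact hc₀ hpol.symm
    · rw [h3] at h2
      rw [← h2, polar_neg_right, polar_self, he, smul_zero, neg_zero] at hpol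
      exact hc₀ hpol.symm
  have hcomm := comm_of_odd_normal hperf hsimple (embAut Q' emb) N hodd hMN hNM y₀ hy₀' _ hΦ
  -- the twisted conjugation is the identity on `Ω`
  have hz : ∀ ω : ↥(Cfsg.Omega F' ⇑Q'),
      cOmHom hnd' Φ' ω * ω⁻¹ ∈ Subgroup.center ↥(Cfsg.Omega F' ⇑Q') := by
    intro ω
    have h1 : embAut Q' emb (cOmHom hnd' Φ' ω * ω⁻¹) = 1 := by
      rw [map_mul, map_inv, ← conj_embAut Q' hnd' emb Θ W hE1 hE2 hE3 Φ Φ' hc ω, hcomm ω]
      group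
    obtain ⟨z, hz⟩ : ∃ z, z = cOmHom hnd' Φ' ω * ω⁻¹ := ⟨_, rfl⟩
    rw [← hz] at h1 ⊢
    rw [Subgroup.mem_center_iff]
    intro t
    apply Subtype.ext
    rw [Subgroup.coe_mul, Subgroup.coe_mul]
    apply iso_ext_gact
    intro v
    rw [gact_mul, gact_mul]
    rcases ker_embAut Q' emb Θ hΘadd hΘinj hE1 _ h1 with h3 | h3
    · rw [h3, h3]
    · rw [h3, h3, gact_neg]
  have hid : ∀ ω : ↥(Cfsg.Omega F' ⇑Q'), cOmHom hnd' Φ' ω = ω := by
    have hle : commutator ↥(Cfsg.Omega F' ⇑Q') ≤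
        (cOmHom hnd' Φ').eqLocus (MonoidHom.id _) := by
      rw [commutator_def, Subgroup.commutator_le]
      intro a _ b _
      change cOmHom hnd' Φ' ⁅a, b⁆ = ⁅a, b⁆
      rw [map_commutatorElement]
      have e2 : cOmHom hnd' Φ' a = (cOmHom hnd' Φ' a * a⁻¹) * a := by group
      have e3 : cOmHom hnd' Φ' b = (cOmHom hnd' Φ' b * b⁻¹) * b := by group
      rw [e2, e3, comm_central a b _ _ (hz a) (hz b)]
    rw [hperf] at hle
    intro ω
    exact hle (Subgroup.mem_top ω)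
  apply scalar_of_comm_sieg Q' hnd' h5' Φ'.S Φ'.add
  intro u w hu huw v
  have h1 := hid ⟨siegIso Q' u w hu huw, siegIso_mem_Omega Q' hnd' h5' u w hu huw⟩
  have h2 := congrArg Subtype.val h1
  rw [cOmHom_val] at h2
  have h3 := gact_cFun hnd' Φ' (siegIso Q' u w hu huw) v
  rw [h2] at h3
  exact h3

end main

end Cfsg.Agent.Lib.Helper16.LocalBalMinus
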