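import Mathlib
import Cfsg.Agent.Lib.Helper16.LocalBalMinusD
import Cfsg.Agent.Lib.Helper16.FieldCentOrth

/-!
# Local balance for the minus type orthogonal groups, part E: semilinear similarities inducing
automorphisms which commute with a similarity
-/

set_option autoImplicit false
set_option linter.unusedSectionVars false
set_option linter.unusedVariables false
set_option linter.style.haveILetI false

namespace Cfsg.Agent.Lib.Helper16.LocalBalMinus

open Matrix Cfsg QuadraticMap Module Cfsg.Agent.Lib.Helper6 Cfsg.Agent.Lib.Helper6.AutOrt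
  Cfsg.Agent.Lib.Helper6.SimAut
  Cfsg.Agent.Lib.Helper15 Cfsg.Agent.Lib.Helper16.FieldCosetOrth
  Cfsg.Agent.Lib.Helper16.FieldCentOrth

variable {F : Type*} [Field F] [Fintype F] {ι : Type} [Fintype ι] [DecidableEq ι]
  {Q : QuadraticForm F (ι → F)} [hS : Std Q] (p : ℕ) [hp : Fact p.Prime] [hcp : CharP F p]

theorem exists_ne_zero_vec (Q : QuadraticForm F (ι → F)) [hS : Std Q] : ∃ y : ι → F, y ≠ 0 := by
  haveI := nonempty_idx Q
  refine ⟨fun _ => 1, fun h => ?_⟩
  have := congrFun h (Classical.arbitrary ι)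
  simp at this

include hp hcp in
/-- semilinear similarities inducing the same automorphism are proportional -/
theorem smul_of_gam_eq (Φ Ψ : SemiSimO Q) (h : Φ.gam = Ψ.gam) :
    ∃ c : F, c ≠ 0 ∧ ∀ y, Φ.S y = c • Ψ.S y := by
  have h1 : (Φ.comp Ψ.symm).gam = 1 := by
    rw [SemiSimO.gam_comp, SemiSimO.gam_symm, h, mul_inv_cancel]
  obtain ⟨-, c, hc⟩ := scalar_of_gam_eq_one p _ h1
  have hcy : ∀ y, Φ.S y = c • Ψ.S y := by
    intro y
    have := hc (Ψ.S y)
    rw [SemiSimO.comp_S, SemiSimO.symm_S, SemiSimO.Sinv_S] at this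
    exact this
  refine ⟨c, ?_, hcy⟩
  rintro rfl
  obtain ⟨y, hy⟩ := exists_ne_zero_vec Q
  have h2 := hcy y
  rw [zero_smul, ← Φ.S_zero] at h2
  exact hy (Φ.S_injective h2)

include hp hcp in
/-- semilinear similarities inducing commuting automorphisms commute up to a scalar -/
theorem comm_S (Φ Ψ : SemiSimO Q) (h : Φ.gam * Ψ.gam = Ψ.gam * Φ.gam) :
    ∃ c : F, c ≠ 0 ∧ ∀ y, Φ.S (Ψ.S y) = c • Ψ.S (Φ.S y) := by
  have h1 : (Φ.comp Ψ).gam = (Ψ.comp Φ).gam := by
    rw [SemiSimO.gam_comp, SemiSimO.gam_comp, h]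
  exact smul_of_gam_eq p _ _ h1

include hp hcp in
/-- commuting with the automorphism of a similarity -/
theorem comm_fGO (Φ : SemiSimO Q) (g : ↥(GO Q)) (h : Φ.gam * fGO Q g = fGO Q g * Φ.gam) :
    ∃ c : F, c ≠ 0 ∧ ∀ y, Φ.S ((g.1 : Matrix ι ι F) *ᵥ y) = c • ((g.1 : Matrix ι ι F) *ᵥ Φ.S y) := by
  rw [fGO_eq_gam] at h
  exact comm_S p Φ (simGO g) h

/-- iterating a relation of commutation up to a sign -/
theorem powS_comm_sign (Φ : SemiSimO Q) (M : Matrix ι ι F) (c : F) (hc : c = 1 ∨ c = -1)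
    (h : ∀ y, Φ.S (M *ᵥ y) = c • (M *ᵥ Φ.S y)) (k : ℕ) (y : ι → F) :
    (powS Φ k).S (M *ᵥ y) = c ^ k • (M *ᵥ (powS Φ k).S y) := by
  have hσc : Φ.σ (c ^ k) = c ^ k := by
    rcases hc with rfl | rfl
    · rw [one_pow, map_one]
    · rw [map_pow, map_neg, map_one]
  induction k with
  | zero =>
    change M *ᵥ y = _
    rw [pow_zero, one_smul]
    rfl
  | succ k ih =>
    have hσck : Φ.σ (c ^ k) = c ^ k := by
      rcases hc with rfl | rfl
      · rw [one_pow, map_one]
      · rw [map_pow, map_neg, map_one]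
    change Φ.S ((powS Φ k).S (M *ᵥ y)) = c ^ (k + 1) • (M *ᵥ Φ.S ((powS Φ k).S y))
    rw [ih hσck, Φ.smul, hσck, h, smul_smul, pow_succ]

include hp hcp in
/-- an automorphism of odd order commuting with the automorphism of an involutory matrix: the
semilinear similarity commutes with the matrix -/
theorem comm_of_odd (h2 : (2 : F) ≠ 0) (Φ : SemiSimO Q) (g : ↥(GO Q))
    (hM : (g.1 : Matrix ι ι F) * (g.1 : Matrix ι ι F) = 1)
    (h : Φ.gam * fGO Q g = fGO Q g * Φ.gam) (k : ℕ) (hk : Odd k) (hΦk : Φ.gam ^ k = 1) :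
    ∀ y, Φ.S ((g.1 : Matrix ι ι F) *ᵥ y) = (g.1 : Matrix ι ι F) *ᵥ Φ.S y := by
  obtain ⟨M, hMdef⟩ : ∃ M : Matrix ι ι F, M = (g.1 : Matrix ι ι F) := ⟨_, rfl⟩
  rw [← hMdef] at hM ⊢
  obtain ⟨c, hc0, hc⟩ := comm_fGO p Φ g h
  rw [← hMdef] at hc
  have hMM : ∀ v, M *ᵥ (M *ᵥ v) = v := by
    intro v
    rw [Matrix.mulVec_mulVec, hM, Matrix.one_mulVec]
  obtain ⟨y₀, hy₀⟩ := exists_ne_zero_vec Q
  have hcc : c * c = 1 := by
    have h1 := hc (M *ᵥ y₀)
    rw [hMM, hc, Matrix.mulVec_smul, hMM, smul_smul] at h1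
    have h3 : (c * c - 1) • Φ.S y₀ = 0 := by rw [sub_smul, one_smul, ← h1, sub_self]
    rcases smul_eq_zero.mp h3 with h4 | h4
    · linear_combination h4
    · exfalso
      rw [← Φ.S_zero] at h4
      exact hy₀ (Φ.S_injective h4)
  have hc1 : c = 1 ∨ c = -1 := by
    have : (c - 1) * (c + 1) = 0 := by linear_combination hcc
    rcases mul_eq_zero.mp this with h' | h'
    · left; linear_combination h'
    · right; linear_combination h'
  have hgam : (powS Φ k).gam = 1 := by rw [gam_powS, hΦk]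
  obtain ⟨-, d, hd⟩ := scalar_of_gam_eq_one p _ hgam
  have hd0 : d ≠ 0 := by
    rintro rfl
    have h1 := hd y₀
    rw [zero_smul, ← (powS Φ k).S_zero] at h1
    exact hy₀ ((powS Φ k).S_injective h1)
  have hck : c ^ k = 1 := by
    have h1 := powS_comm_sign Φ M c hc1 hc k y₀
    rw [hd, hd, Matrix.mulVec_smul, smul_smul] at h1
    have hMy : M *ᵥ y₀ ≠ 0 := by
      intro h0
      have := hMM y₀
      rw [h0, Matrix.mulVec_zero] at this
      exact hy₀ this.symm
    have h3 : (d - c ^ k * d) • (M *ᵥ y₀) = 0 := by rw [sub_smul, ← h1, sub_self]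
    rcases smul_eq_zero.mp h3 with h4 | h4
    · have h5 : d * (1 - c ^ k) = 0 := by linear_combination h4
      rcases mul_eq_zero.mp h5 with h6 | h6
      · exact absurd h6 hd0
      · linear_combination -h6
    · exact absurd h4 hMy
  have hc' : c = 1 := by
    rcases hc1 with h' | h'
    · exact h'
    · exfalso
      rw [h', hk.neg_one_pow] at hck
      apply h2
      linear_combination -hck
  intro y
  rw [hc, hc', one_smul]

/-- the inner automorphism of an element of `Ω` commuting with a similarity commutes with its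
automorphism -/
theorem conj_comm_fGO (s : ↥(Cfsg.Omega F ⇑Q)) (g : ↥(GO Q))
    (h : ∀ y, av s ((g.1 : Matrix ι ι F) *ᵥ y) = (g.1 : Matrix ι ι F) *ᵥ av s y) :
    MulAut.conj (pu s) * fGO Q g = fGO Q g * MulAut.conj (pu s) := by
  rw [fGO_eq_gam, ← SemiSimO.gam_ofOm, ← SemiSimO.gam_comp, ← SemiSimO.gam_comp]
  apply SemiSimO.gam_eq_of_S_eq
  intro y
  exact h y

end Cfsg.Agent.Lib.Helper16.LocalBalMinus
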