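import Mathlib
import Cfsg.Agent.Lib.Helper16.LocalBalMinusE
import Cfsg.Agent.Lib.Helper6.OrthSum
import Cfsg.Agent.Lib.Helper14.OrthoTransfer

/-!
# Local balance for the minus type orthogonal groups, part F: coordinates adapted to an involutory
isometry and the embedded orthogonal group of an eigenspace
-/

set_option autoImplicit false
set_option linter.unusedSectionVars false
set_option linter.unusedVariables false
set_option linter.style.haveILetI false

namespace Cfsg.Agent.Lib.Helper16.LocalBalMinus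

open Matrix Cfsg QuadraticMap Module Cfsg.Agent.Lib.Helper6 Cfsg.Agent.Lib.Helper6.AutOrt
  Cfsg.Agent.Lib.Helper6.SimAut Cfsg.Agent.Lib.Helper14
  Cfsg.Agent.Lib.Helper15 Cfsg.Agent.Lib.Helper16.FieldCosetOrth
  Cfsg.Agent.Lib.Helper16.FieldCentOrth

variable {F : Type*} [Field F]

/-- the inclusion of the first block -/
def elimL₁ (α β : Type) : (α → F) →ₗ[F] (α ⊕ β → F) where
  toFun a := Sum.elim a (0 : β → F)
  map_add' a b := by funext i; rcases i with i | i <;> simp
  map_smul' c a := by funext i; rcases i with i | i <;> simp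

/-- the inclusion of the second block -/
def elimL₂ (α β : Type) : (β → F) →ₗ[F] (α ⊕ β → F) where
  toFun b := Sum.elim (0 : α → F) b
  map_add' a b := by funext i; rcases i with i | i <;> simp
  map_smul' c a := by funext i; rcases i with i | i <;> simp

theorem elimL₁_apply (α β : Type) (a : α → F) :
    elimL₁ (F := F) α β a = Sum.elim a (0 : β → F) := rfl

theorem elimL₂_apply (α β : Type) (b : β → F) :
    elimL₂ (F := F) α β b = Sum.elim (0 : α → F) b := rfl

theorem elim_add_elim {α β : Type} (a : α → F) (b : β → F) :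
    (Sum.elim a (0 : β → F) + Sum.elim (0 : α → F) b : α ⊕ β → F) = Sum.elim a b := by
  funext i; rcases i with i | i <;> simp

section coords
variable {ι : Type} [Fintype ι] [DecidableEq ι]

/-- coordinates adapted to an involutory matrix -/
theorem exists_eigen_coords (h2 : (2 : F) ≠ 0) (M : Matrix ι ι F) (hM : M * M = 1) :
    ∃ (d₁ d₂ : ℕ) (L : ((Fin d₁ ⊕ Fin d₂) → F) ≃ₗ[F] (ι → F)),
      ∀ (a : Fin d₁ → F) (b : Fin d₂ → F), M *ᵥ L (Sum.elim a b) = L (Sum.elim a (-b)) := by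
  obtain ⟨E₁, hE₁⟩ : ∃ E₁ : Submodule F (ι → F), E₁ = LinearMap.ker (Matrix.toLin' M - 1) :=
    ⟨_, rfl⟩
  obtain ⟨E₂, hE₂⟩ : ∃ E₂ : Submodule F (ι → F), E₂ = LinearMap.ker (Matrix.toLin' M + 1) :=
    ⟨_, rfl⟩
  have hMM : ∀ v, M *ᵥ (M *ᵥ v) = v := by
    intro v
    rw [Matrix.mulVec_mulVec, hM, Matrix.one_mulVec]
  have hmem₁ : ∀ v, v ∈ E₁ ↔ M *ᵥ v = v := by
    intro v
    rw [hE₁, LinearMap.mem_ker, LinearMap.sub_apply, Matrix.toLin'_apply, Module.End.one_apply,
      sub_eq_zero]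
  have hmem₂ : ∀ v, v ∈ E₂ ↔ M *ᵥ v = -v := by
    intro v
    rw [hE₂, LinearMap.mem_ker, LinearMap.add_apply, Matrix.toLin'_apply, Module.End.one_apply,
      add_eq_zero_iff_eq_neg]
  have hcompl : IsCompl E₁ E₂ := by
    constructor
    · rw [Submodule.disjoint_def]
      intro v hv₁ hv₂
      rw [hmem₁] at hv₁
      rw [hmem₂] at hv₂
      have h3 : (2 : F) • v = 0 := by
        rw [two_smul]
        nth_rewrite 1 [← hv₁]
        rw [hv₂, neg_add_cancel]
      rcases smul_eq_zero.mp h3 with h4 | h4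
      · exact absurd h4 h2
      · exact h4
    · rw [codisjoint_iff, eq_top_iff]
      intro v _
      have e : v = (2 : F)⁻¹ • (v + M *ᵥ v) + (2 : F)⁻¹ • (v - M *ᵥ v) := by
        rw [← smul_add]
        have : v + M *ᵥ v + (v - M *ᵥ v) = (2 : F) • v := by rw [two_smul]; abel
        rw [this, smul_smul, inv_mul_cancel₀ h2, one_smul]
      rw [e]
      apply Submodule.add_mem_sup
      · apply Submodule.smul_mem
        rw [hmem₁, Matrix.mulVec_add, hMM, add_comm]
      · apply Submodule.smul_mem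
        rw [hmem₂, Matrix.mulVec_sub, hMM]
        abel
  obtain ⟨b₁, hb₁⟩ : ∃ b₁, b₁ = Module.finBasis F E₁ := ⟨_, rfl⟩
  obtain ⟨b₂, hb₂⟩ : ∃ b₂, b₂ = Module.finBasis F E₂ := ⟨_, rfl⟩
  refine ⟨Module.finrank F E₁, Module.finrank F E₂,
    (LinearEquiv.sumArrowLequivProdArrow (Fin (Module.finrank F E₁)) (Fin (Module.finrank F E₂))
      F F).trans ((b₁.equivFun.symm.prodCongr b₂.equivFun.symm).trans
        (Submodule.prodEquivOfIsCompl E₁ E₂ hcompl)), ?_⟩
  intro a b
  have e1 : ∀ (a' : Fin (Module.finrank F E₁) → F) (b' : Fin (Module.finrank F E₂) → F),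
      ((LinearEquiv.sumArrowLequivProdArrow (Fin (Module.finrank F E₁))
        (Fin (Module.finrank F E₂)) F F).trans ((b₁.equivFun.symm.prodCongr
          b₂.equivFun.symm).trans (Submodule.prodEquivOfIsCompl E₁ E₂ hcompl)))
        (Sum.elim a' b') = (b₁.equivFun.symm a' : ι → F) + (b₂.equivFun.symm b' : ι → F) := by
    intro a' b'
    rfl
  rw [e1, e1, Matrix.mulVec_add, (hmem₁ _).mp (b₁.equivFun.symm a).2,
    (hmem₂ _).mp (b₂.equivFun.symm b).2, map_neg]
  rfl

end coords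

section forms
variable [Fintype F] {ι : Type} [Fintype ι] [DecidableEq ι] (Q : QuadraticForm F (ι → F))
  {α β : Type} [Fintype α] [DecidableEq α] [Fintype β] [DecidableEq β]
  (L : (α ⊕ β → F) ≃ₗ[F] (ι → F))

/-- the form on the first block -/
def Qblk₁ : QuadraticForm F (α → F) := Q.comp (L.toLinearMap ∘ₗ elimL₁ α β)

/-- the form on the second block -/
def Qblk₂ : QuadraticForm F (β → F) := Q.comp (L.toLinearMap ∘ₗ elimL₂ α β)

theorem Qblk₁_apply (a : α → F) : Qblk₁ Q L a = Q (L (Sum.elim a 0)) := rfl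

theorem Qblk₂_apply (b : β → F) : Qblk₂ Q L b = Q (L (Sum.elim 0 b)) := rfl

theorem polar_Qblk₁ (a a' : α → F) :
    polar (⇑(Qblk₁ Q L)) a a' = polar (⇑Q) (L (Sum.elim a 0)) (L (Sum.elim a' 0)) := by
  unfold polar
  rw [Qblk₁_apply, Qblk₁_apply, Qblk₁_apply, ← elimL₁_apply, ← elimL₁_apply, ← elimL₁_apply,
    map_add, map_add]

theorem polar_Qblk₂ (b b' : β → F) :
    polar (⇑(Qblk₂ Q L)) b b' = polar (⇑Q) (L (Sum.elim 0 b)) (L (Sum.elim 0 b')) := by
  unfold polar
  rw [Qblk₂_apply, Qblk₂_apply, Qblk₂_apply, ← elimL₂_apply, ← elimL₂_apply, ← elimL₂_apply,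
    map_add, map_add]

variable (M : Matrix ι ι F)
  (hL : ∀ (a : α → F) (b : β → F), M *ᵥ L (Sum.elim a b) = L (Sum.elim a (-b)))
  (hiso : ∀ v, Q (M *ᵥ v) = Q v) (h2 : (2 : F) ≠ 0)

include hL hiso h2 in
/-- the two blocks are perpendicular -/
theorem polar_blocks (a : α → F) (b : β → F) :
    polar (⇑Q) (L (Sum.elim a 0)) (L (Sum.elim 0 b)) = 0 := by
  have h1 : polar (⇑Q) (M *ᵥ L (Sum.elim a 0)) (M *ᵥ L (Sum.elim 0 b)) =
      polar (⇑Q) (L (Sum.elim a 0)) (L (Sum.elim 0 b)) := by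
    unfold polar
    rw [← Matrix.mulVec_add, hiso, hiso, hiso]
  rw [hL, hL, neg_zero] at h1
  have e : (Sum.elim (0 : α → F) (-b) : α ⊕ β → F) = -Sum.elim (0 : α → F) b := by
    funext i; rcases i with i | i <;> simp
  rw [e, map_neg, polar_neg_right] at h1
  have h3 : (2 : F) * polar (⇑Q) (L (Sum.elim a 0)) (L (Sum.elim 0 b)) = 0 := by
    linear_combination -h1
  rcases mul_eq_zero.mp h3 with h4 | h4
  · exact absurd h4 h2
  · exact h4

include hL hiso h2 in
theorem Q_L_elim (a : α → F) (b : β → F) :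
    Q (L (Sum.elim a b)) = Qblk₁ Q L a + Qblk₂ Q L b := by
  rw [← elim_add_elim, map_add, Q_add, polar_blocks Q L M hL hiso h2, add_zero]
  rfl

include hL hiso h2 in
theorem Q_L (y : α ⊕ β → F) : Q (L y) = Qsum (Qblk₁ Q L) (Qblk₂ Q L) y := by
  have e : y = Sum.elim (y ∘ Sum.inl) (y ∘ Sum.inr) := by
    funext i; rcases i with i | i <;> rfl
  rw [Qsum_apply]
  nth_rewrite 1 [e]
  exact Q_L_elim Q L M hL hiso h2 _ _

include hL hiso h2 in
theorem polar_L_elim (a a' : α → F) (b b' : β → F) :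
    polar (⇑Q) (L (Sum.elim a b)) (L (Sum.elim a' b')) =
      polar (⇑(Qblk₁ Q L)) a a' + polar (⇑(Qblk₂ Q L)) b b' := by
  have e : (Sum.elim a b + Sum.elim a' b' : α ⊕ β → F) = Sum.elim (a + a') (b + b') := by
    funext i; rcases i with i | i <;> simp
  unfold polar
  rw [← map_add, e, Q_L_elim Q L M hL hiso h2, Q_L_elim Q L M hL hiso h2,
    Q_L_elim Q L M hL hiso h2]
  ring

include hL hiso h2 in
/-- the form on the first block is nondegenerate -/
theorem nondeg_Qblk₁ (hnd : (polarBilin Q).Nondegenerate) :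
    (polarBilin (Qblk₁ Q L)).Nondegenerate := by
  have hleft : ∀ a : α → F, (∀ a', polar (⇑(Qblk₁ Q L)) a a' = 0) → a = 0 := by
    intro a ha
    have h1 : L (Sum.elim a 0) = 0 := by
      apply hnd.1
      intro z
      obtain ⟨y, rfl⟩ := L.surjective z
      have e : y = Sum.elim (y ∘ Sum.inl) (y ∘ Sum.inr) := by
        funext i; rcases i with i | i <;> rfl
      rw [e]
      change polar (⇑Q) _ _ = 0
      rw [polar_L_elim Q L M hL hiso h2, ha, polar_zero_left, add_zero]
    have h3 : (Sum.elim a 0 : α ⊕ β → F) = 0 := by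
      apply L.injective
      rw [h1, map_zero]
    funext i
    have := congrFun h3 (Sum.inl i)
    simpa using this
  constructor
  · intro a ha
    exact hleft a ha
  · intro a ha
    apply hleft
    intro a'
    have := ha a'
    rw [polarBilin_apply_apply] at this
    rw [polar_comm]
    exact this

/-- the embedding of the orthogonal group of the first block -/
noncomputable def embA :
    ↥(Cfsg.isometryGroup F ⇑(Qblk₁ Q L)) →* ↥(Cfsg.isometryGroup F ⇑Q) :=
  (isoCongr ⇑(Qsum (Qblk₁ Q L) (Qblk₂ Q L)) ⇑Q L 1 (fun w => by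
    rw [one_mul]; exact Q_L Q L M hL hiso h2 w)).comp (sumHom (Qblk₁ Q L) (Qblk₂ Q L))

theorem gact_embA (h : ↥(Cfsg.isometryGroup F ⇑(Qblk₁ Q L))) (a : α → F) (b : β → F) :
    gact Q (embA Q L M hL hiso h2 h) (L (Sum.elim a b)) =
      L (Sum.elim (gact (Qblk₁ Q L) h a) b) := by
  change ((glCongr L (sumHom (Qblk₁ Q L) (Qblk₂ Q L) h).1 : GL ι F) : Matrix ι ι F) *ᵥ
    L (Sum.elim a b) = _
  rw [glCongr_mulVec]
  congr 1
  change fromBlocks ((h.1 : GL α F) : Matrix α α F) 0 0 1 *ᵥ Sum.elim a b = _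
  rw [fromBlocks_mulVec]
  simp only [Matrix.zero_mulVec, add_zero, zero_add, Matrix.one_mulVec]
  rfl

end forms

end Cfsg.Agent.Lib.Helper16.LocalBalMinus
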