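import Mathlib
import Cfsg.Agent.Lib.Helper16.LocalBalMinusF

/-!
# Local balance for the minus type orthogonal groups, part G: a subgroup of odd order normalised by
the centraliser of an involutory isometry acts by scalars on the large eigenspaces
-/

set_option autoImplicit false
set_option linter.unusedSectionVars false
set_option linter.unusedVariables false
set_option linter.style.haveILetI false

namespace Cfsg.Agent.Lib.Helper16.LocalBalMinus

open Matrix Cfsg QuadraticMap Module Cfsg.Agent.Lib.Helper6 Cfsg.Agent.Lib.Helper6.AutOrt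
  Cfsg.Agent.Lib.Helper6.SimAut Cfsg.Agent.Lib.Helper14
  Cfsg.Agent.Lib.Helper15 Cfsg.Agent.Lib.Helper16.FieldCosetOrth
  Cfsg.Agent.Lib.Helper16.FieldCentOrth

variable {F : Type*} [Field F] [Fintype F] {ι : Type} [Fintype ι] [DecidableEq ι]
  (Q : QuadraticForm F (ι → F))
  {α β : Type} [Fintype α] [DecidableEq α] [Fintype β] [DecidableEq β]
  (L : (α ⊕ β → F) ≃ₗ[F] (ι → F)) (M : Matrix ι ι F)
  (hL : ∀ (a : α → F) (b : β → F), M *ᵥ L (Sum.elim a b) = L (Sum.elim a (-b)))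
  (hiso : ∀ v, Q (M *ᵥ v) = Q v) (h2 : (2 : F) ≠ 0)

/-- the second block, as an additive subgroup -/
def blkW : AddSubgroup (ι → F) := (LinearMap.range (L.toLinearMap ∘ₗ elimL₂ α β)).toAddSubgroup

theorem mem_blkW (w : ι → F) : w ∈ blkW L ↔ ∃ b : β → F, L (Sum.elim (0 : α → F) b) = w := by
  unfold blkW
  rw [Submodule.mem_toAddSubgroup, LinearMap.mem_range]
  rfl

include hL h2 in
theorem fix_block₁ (v : ι → F) (hv : M *ᵥ v = v) : ∃ a : α → F, v = L (Sum.elim a (0 : β → F)) := by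
  obtain ⟨y, rfl⟩ := L.surjective v
  have e : y = Sum.elim (y ∘ Sum.inl) (y ∘ Sum.inr) := by
    funext i; rcases i with i | i <;> rfl
  rw [e, hL] at hv
  have h1 := L.injective hv
  have h3 : y ∘ Sum.inr = 0 := by
    funext i
    have := congrFun h1 (Sum.inr i)
    simp only [Sum.elim_inr, Pi.neg_apply, Function.comp_apply] at this
    have h4 : (2 : F) * y (Sum.inr i) = 0 := by linear_combination -this
    rcases mul_eq_zero.mp h4 with h5 | h5
    · exact absurd h5 h2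
    · exact h5
  refine ⟨y ∘ Sum.inl, ?_⟩
  rw [e, h3]
  rfl

include hL h2 in
theorem fix_block₂ (v : ι → F) (hv : M *ᵥ v = -v) : ∃ b : β → F, v = L (Sum.elim (0 : α → F) b) := by
  obtain ⟨y, rfl⟩ := L.surjective v
  have e : y = Sum.elim (y ∘ Sum.inl) (y ∘ Sum.inr) := by
    funext i; rcases i with i | i <;> rfl
  rw [e, hL, ← map_neg] at hv
  have h1 := L.injective hv
  have h3 : y ∘ Sum.inl = 0 := by
    funext i
    have := congrFun h1 (Sum.inl i)
    simp only [Sum.elim_inl, Pi.neg_apply, Function.comp_apply] at this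
    have h4 : (2 : F) * y (Sum.inl i) = 0 := by linear_combination this
    rcases mul_eq_zero.mp h4 with h5 | h5
    · exact absurd h5 h2
    · exact h5
  refine ⟨y ∘ Sum.inr, ?_⟩
  rw [e, h3]
  rfl

include hL hiso h2 in
/-- a semilinear similarity commuting with the involution restricts to the first block -/
theorem exists_compat (Φ : SemiSimO Q) (hΦM : ∀ y, Φ.S (M *ᵥ y) = M *ᵥ Φ.S y) :
    ∃ Φ' : SemiSimO (Qblk₁ Q L), Φ'.σ = Φ.σ ∧ Φ'.ν = Φ.ν ∧
      Compat (Qblk₁ Q L) (fun a : α → F => L (Sum.elim a (0 : β → F))) (blkW L) Φ Φ' := by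
  have hfix : ∀ a : α → F, ∃ a' : α → F, Φ.S (L (Sum.elim a (0 : β → F))) =
      L (Sum.elim a' (0 : β → F)) := by
    intro a
    apply fix_block₁ L M hL h2
    rw [← hΦM, hL, neg_zero]
  choose S' hS' using hfix
  have hinj : ∀ a a' : α → F, L (Sum.elim a (0 : β → F)) = L (Sum.elim a' (0 : β → F)) →
      a = a' := by
    intro a a' h
    have h1 := L.injective h
    funext i
    have := congrFun h1 (Sum.inl i)
    simpa using this
  refine ⟨{ S := S'
            σ := Φ.σ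
            ν := Φ.ν
            hν := Φ.hν
            add := ?_
            smul := ?_
            form := ?_ }, rfl, rfl, ⟨fun a => hS' a, ?_⟩⟩
  · intro a a'
    apply hinj
    rw [← hS', ← elimL₁_apply, map_add, map_add, Φ.add, elimL₁_apply, elimL₁_apply, hS', hS',
      ← elimL₁_apply, ← elimL₁_apply, ← elimL₁_apply, ← map_add, ← map_add]
  · intro c a
    apply hinj
    rw [← hS', ← elimL₁_apply, map_smul, map_smul, Φ.smul, elimL₁_apply, hS',
      ← elimL₁_apply, ← elimL₁_apply, ← map_smul, ← map_smul]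
  · intro a
    rw [Qblk₁_apply, ← hS', Φ.form, Qblk₁_apply]
  · intro w hw
    rw [mem_blkW] at hw ⊢
    obtain ⟨b, rfl⟩ := hw
    obtain ⟨b', hb'⟩ := fix_block₂ L M hL h2 (Φ.S (L (Sum.elim (0 : α → F) b))) (by
      rw [← hΦM, hL]
      have e : (Sum.elim (0 : α → F) (-b) : α ⊕ β → F) = (-1 : F) • Sum.elim (0 : α → F) b := by
        funext i; rcases i with i | i <;> simp
      rw [e, map_smul, Φ.smul, map_neg, map_one]
      module)
    exact ⟨b', hb'.symm⟩

section main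
variable [hS : Std Q] (p : ℕ) [hp : Fact p.Prime] [hcp : CharP F p] (hP : HP Q)

include hp hcp hP hL hiso h2 in
/-- **the large eigenspace**: a subgroup of odd order of the centraliser of the automorphism of an
involutory isometry, normalised by the inner automorphisms in this centraliser, acts by scalars on an
eigenspace of dimension at least five -/
theorem eigen_scalar (g : ↥(GO Q)) (hg : (g.1 : Matrix ι ι F) = M) (hM : M * M = 1)
    (h5 : 5 ≤ Fintype.card α)
    (N : Subgroup (MulAut (Cfsg.POmega F ⇑Q))) [Finite N] (hodd : Odd (Nat.card N))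
    (hNx : ∀ n ∈ N, n * fGO Q g = fGO Q g * n)
    (hNn : ∀ c ∈ Cfsg.Inn (Cfsg.POmega F ⇑Q), c * fGO Q g = fGO Q g * c →
      ∀ n ∈ N, c * n * c⁻¹ ∈ N)
    (Φ : SemiSimO Q) (hΦ : Φ.gam ∈ N) :
    ∃ c : F, ∀ a : α → F, Φ.S (L (Sum.elim a (0 : β → F))) = c • L (Sum.elim a (0 : β → F)) := by
  classical
  have hnd₁ := nondeg_Qblk₁ Q L M hL hiso h2 hS.nondeg
  have hcommM : ∀ Ψ : SemiSimO Q, Ψ.gam ∈ N → ∀ y, Ψ.S (M *ᵥ y) = M *ᵥ Ψ.S y := by
    intro Ψ hΨ
    have hk : Ψ.gam ^ Nat.card N = 1 := by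
      have h2' : (⟨Ψ.gam, hΨ⟩ : ↥N) ^ Nat.card N = 1 := pow_card_eq_one'
      have := congrArg Subtype.val h2'
      rwa [Subgroup.coe_pow, Subgroup.coe_one] at this
    have := comm_of_odd p h2 Ψ g (by rw [hg]; exact hM) (hNx _ hΨ) (Nat.card N) hodd hk
    rw [hg] at this
    exact this
  have hpre : ∀ n ∈ N, ∃ (Ψ : SemiSimO Q) (Ψ' : SemiSimO (Qblk₁ Q L)), Ψ.gam = n ∧
      Compat (Qblk₁ Q L) (fun a : α → F => L (Sum.elim a (0 : β → F))) (blkW L) Ψ Ψ' := by
    intro n hn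
    obtain ⟨Ψ, rfl⟩ := exists_semi p hP n
    obtain ⟨Ψ', -, -, hΨ'⟩ := exists_compat Q L M hL hiso h2 Ψ (hcommM Ψ hn)
    exact ⟨Ψ, Ψ', rfl, hΨ'⟩
  obtain ⟨Φ', -, -, hΦ'⟩ := exists_compat Q L M hL hiso h2 Φ (hcommM Φ hΦ)
  have hE1 : ∀ (h : ↥(Cfsg.isometryGroup F ⇑(Qblk₁ Q L))) (v' : α → F),
      gact Q (embA Q L M hL hiso h2 h) (L (Sum.elim v' (0 : β → F))) =
        L (Sum.elim (gact (Qblk₁ Q L) h v') (0 : β → F)) := fun h v' =>
    gact_embA Q L M hL hiso h2 h v' 0
  have hE2 : ∀ (h : ↥(Cfsg.isometryGroup F ⇑(Qblk₁ Q L))), ∀ w ∈ blkW L,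
      gact Q (embA Q L M hL hiso h2 h) w = w := by
    intro h w hw
    rw [mem_blkW] at hw
    obtain ⟨b, rfl⟩ := hw
    rw [gact_embA, gact_zero]
  have hE3 : ∀ v : ι → F, ∃ (v' : α → F) (w : ι → F), w ∈ blkW L ∧
      v = L (Sum.elim v' (0 : β → F)) + w := by
    intro v
    obtain ⟨y, rfl⟩ := L.surjective v
    refine ⟨y ∘ Sum.inl, L (Sum.elim (0 : α → F) (y ∘ Sum.inr)), (mem_blkW L _).mpr ⟨_, rfl⟩, ?_⟩
    rw [← map_add, elim_add_elim]
    congr 1
    funext i; rcases i with i | i <;> rfl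
  have hMN : ∀ ω : ↥(Cfsg.Omega F ⇑(Qblk₁ Q L)), ∀ n ∈ N,
      embAut (Qblk₁ Q L) (embA Q L M hL hiso h2) ω * n *
        (embAut (Qblk₁ Q L) (embA Q L M hL hiso h2) ω)⁻¹ ∈ N := by
    intro ω n hn
    apply hNn _ ⟨_, rfl⟩ _ n hn
    change MulAut.conj (pu (embOm (Qblk₁ Q L) (embA Q L M hL hiso h2) ω)) * _ = _
    apply conj_comm_fGO
    intro y
    obtain ⟨z, rfl⟩ := L.surjective y
    have e : z = Sum.elim (z ∘ Sum.inl) (z ∘ Sum.inr) := by
      funext i; rcases i with i | i <;> rfl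
    rw [hg, e, hL]
    change gact Q (embA Q L M hL hiso h2 ω.1) _ = M *ᵥ gact Q (embA Q L M hL hiso h2 ω.1) _
    rw [gact_embA, gact_embA, hL]
  have hΘadd : ∀ a b : α → F, L (Sum.elim (a + b) (0 : β → F)) =
      L (Sum.elim a (0 : β → F)) + L (Sum.elim b (0 : β → F)) := by
    intro a b
    rw [← elimL₁_apply, ← elimL₁_apply, ← elimL₁_apply, map_add, map_add]
  have hΘinj : Function.Injective (fun a : α → F => L (Sum.elim a (0 : β → F))) := by
    intro a a' h
    have h1 := L.injective h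
    funext i
    have := congrFun h1 (Sum.inl i)
    simpa using this
  obtain ⟨c, hc⟩ := scalar_of_odd_normal (Qblk₁ Q L) hnd₁ h5 (embA Q L M hL hiso h2)
    (fun a : α → F => L (Sum.elim a (0 : β → F))) hΘadd hΘinj (blkW L) hE1 hE2 hE3 N hodd hMN hpre
    Φ Φ' hΦ hΦ'
  refine ⟨c, fun a => ?_⟩
  have h1 := hΦ'.1 a
  simp only at h1
  rw [h1, hc, ← elimL₁_apply, ← elimL₁_apply, map_smul, map_smul]

end main

end Cfsg.Agent.Lib.Helper16.LocalBalMinus
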