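import Mathlib
import Cfsg.Agent.Lib.Helper15.Witt2
import Cfsg.Agent.Lib.Helper6.Quad

/-!
# Local balance for the minus type orthogonal groups, part H: nondegenerate ternary forms
-/

set_option autoImplicit false
set_option linter.unusedSectionVars false
set_option linter.unusedVariables false
set_option linter.style.haveILetI false

namespace Cfsg.Agent.Lib.Helper16.LocalBalMinus

open Matrix QuadraticMap Module Cfsg.Agent.Lib.Helper6 Cfsg.Agent.Lib.Helper15

variable {F : Type*} [Field F] [Fintype F] {β : Type} [Fintype β] [DecidableEq β]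
  (Q₂ : QuadraticForm F (β → F))

/-- the structure of a nondegenerate ternary form around a singular vector -/
theorem ternary_struct (h2 : (2 : F) ≠ 0) (hnd : (polarBilin Q₂).Nondegenerate)
    (h3 : Fintype.card β = 3) (e : β → F) (he0 : e ≠ 0) (he : Q₂ e = 0) :
    ∃ (f w₀ : β → F), Q₂ f = 0 ∧ polar (⇑Q₂) e f = 1 ∧ polar (⇑Q₂) e w₀ = 0 ∧
      polar (⇑Q₂) f w₀ = 0 ∧ Q₂ w₀ ≠ 0 ∧
      ∀ v : β → F, v = polar (⇑Q₂) v f • e + polar (⇑Q₂) v e • f +
        (polar (⇑Q₂) v w₀ * (2 * Q₂ w₀)⁻¹) • w₀ := by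
  obtain ⟨f, hf, hef⟩ := exists_hyperbolic_partner Q₂ hnd e he0 he
  have hfr := finrank_perpPair Q₂ e f hf he hef
  rw [Module.finrank_fintype_fun_eq_card, h3] at hfr
  have hfr1 : finrank F ↥(perpPair Q₂ e f) = 1 := by omega
  have hndP := nondegenerate_perpPair Q₂ hnd e f hf he hef
  obtain ⟨w, hw0, hwspan⟩ := finrank_eq_one_iff'.mp hfr1
  obtain ⟨hew, hfw⟩ := (mem_perpPair Q₂ e f w).mp w.2
  have hQw : Q₂ (w : β → F) ≠ 0 := by
    intro h0
    apply hw0
    apply hndP.1
    intro z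
    obtain ⟨c, hc⟩ := hwspan z
    rw [polarBilin_apply_apply, polar_comp_subtype, ← hc]
    change polar (⇑Q₂) (w : β → F) ((c • w : ↥(perpPair Q₂ e f)) : β → F) = 0
    rw [Submodule.coe_smul, polar_smul_right, polar_self, h0]
    simp
  refine ⟨f, (w : β → F), hf, hef, hew, hfw, hQw, ?_⟩
  intro v
  have hmem : v - polar (⇑Q₂) v f • e - polar (⇑Q₂) v e • f ∈ perpPair Q₂ e f := by
    rw [mem_perpPair]
    constructor
    · rw [polar_sub_right, polar_sub_right, polar_smul_right, polar_smul_right, polar_self, he,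
        hef, polar_comm (⇑Q₂) e v]
      simp
    · rw [polar_sub_right, polar_sub_right, polar_smul_right, polar_smul_right, polar_self, hf,
        polar_comm (⇑Q₂) f e, hef, polar_comm (⇑Q₂) f v]
      simp
  obtain ⟨c, hc⟩ := hwspan ⟨_, hmem⟩
  have hc' : c • (w : β → F) = v - polar (⇑Q₂) v f • e - polar (⇑Q₂) v e • f := by
    have := congrArg Subtype.val hc
    simpa using this
  have hcval : polar (⇑Q₂) v (w : β → F) = c * (2 * Q₂ (w : β → F)) := by
    have h1 := congrArg (fun t => polar (⇑Q₂) t (w : β → F)) hc'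
    simp only [polar_sub_left, polar_smul_left, hew, hfw, smul_eq_mul, mul_zero, sub_zero,
      polar_self] at h1
    rw [← h1]
    simp
  have h2Q : (2 : F) * Q₂ (w : β → F) ≠ 0 := mul_ne_zero h2 hQw
  rw [hcval, mul_assoc, mul_inv_cancel₀ h2Q, mul_one, hc']
  abel

/-- in a nondegenerate ternary form a singular vector perpendicular to a singular vector is
proportional to it -/
theorem ternary_perp (h2 : (2 : F) ≠ 0) (hnd : (polarBilin Q₂).Nondegenerate)
    (h3 : Fintype.card β = 3) (e f₁ : β → F) (he0 : e ≠ 0) (he : Q₂ e = 0) (hf₁ : Q₂ f₁ = 0)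
    (hef₁ : polar (⇑Q₂) e f₁ = 0) : ∃ c : F, f₁ = c • e := by
  obtain ⟨f, w₀, hf, hef, hew, hfw, hQw, hdec⟩ := ternary_struct Q₂ h2 hnd h3 e he0 he
  have h1 := hdec f₁
  rw [polar_comm (⇑Q₂) f₁ e, hef₁, zero_smul, add_zero] at h1
  obtain ⟨t, ht⟩ : ∃ t, t = polar (⇑Q₂) f₁ w₀ * (2 * Q₂ w₀)⁻¹ := ⟨_, rfl⟩
  rw [← ht] at h1
  have h4 : Q₂ f₁ = t * t * Q₂ w₀ := by
    rw [h1, Q_add, Q_smul, Q_smul, he, polar_smul_left, polar_smul_right, hew]
    simp
  rw [hf₁] at h4
  have ht0 : t = 0 := by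
    rcases mul_eq_zero.mp h4.symm with h5 | h5
    · exact mul_self_eq_zero.mp h5
    · exact absurd h5 hQw
  rw [ht0, zero_smul, add_zero] at h1
  exact ⟨_, h1⟩

/-- a linear map of a nondegenerate ternary space fixing all singular points is a scalar -/
theorem ternary_scalar (h2 : (2 : F) ≠ 0) (hnd : (polarBilin Q₂).Nondegenerate)
    (h3 : Fintype.card β = 3) (T : (β → F) → (β → F)) (hadd : ∀ x y, T (x + y) = T x + T y)
    (hsmul : ∀ (c : F) x, T (c • x) = c • T x)
    (hfix : ∀ e, Q₂ e = 0 → ∃ c : F, T e = c • e) : ∃ c : F, ∀ b, T b = c • b := by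
  have hfr : 3 ≤ finrank F (β → F) := by rw [Module.finrank_fintype_fun_eq_card, h3]
  obtain ⟨e, he0, he⟩ := exists_singular_of_three_le_finrank Q₂ hfr
  obtain ⟨f, w₀, hf, hef, hew, hfw, hQw, hdec⟩ := ternary_struct Q₂ h2 hnd h3 e he0 he
  obtain ⟨d, hd⟩ : ∃ d, d = Q₂ w₀ := ⟨_, rfl⟩
  have hfe : polar (⇑Q₂) f e = 1 := by rw [polar_comm, hef]
  have hwe : polar (⇑Q₂) w₀ e = 0 := by rw [polar_comm, hew]
  have hwf : polar (⇑Q₂) w₀ f = 0 := by rw [polar_comm, hfw]
  have hee : polar (⇑Q₂) e e = 0 := by rw [polar_self, he, smul_zero]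
  have hff : polar (⇑Q₂) f f = 0 := by rw [polar_self, hf, smul_zero]
  have hww : polar (⇑Q₂) w₀ w₀ = 2 * d := by rw [polar_self, hd]; simp
  have hT0 : T 0 = 0 := by
    have := hsmul 0 0
    rwa [zero_smul, zero_smul] at this
  have hTneg : ∀ x, T (-x) = -T x := by
    intro x
    have := hsmul (-1) x
    rwa [neg_one_smul, neg_one_smul] at this
  have hTsub : ∀ x y, T (x - y) = T x - T y := by
    intro x y
    rw [sub_eq_add_neg, hadd, hTneg, ← sub_eq_add_neg]
  obtain ⟨vp, hvp⟩ : ∃ vp, vp = e - d • f + w₀ := ⟨_, rfl⟩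
  obtain ⟨vm, hvm⟩ : ∃ vm, vm = e - d • f - w₀ := ⟨_, rfl⟩
  have hQvp : Q₂ vp = 0 := by
    rw [hvp, Q_add, Q_sub, Q_smul, he, hf, polar_smul_right, hef, polar_sub_left, polar_smul_left,
      hew, hfw, ← hd]
    simp
  have hQvm : Q₂ vm = 0 := by
    rw [hvm, Q_sub, Q_sub, Q_smul, he, hf, polar_smul_right, hef, polar_sub_left, polar_smul_left,
      hew, hfw, ← hd]
    simp
  obtain ⟨α, hα⟩ := hfix e he
  obtain ⟨γ, hγ⟩ := hfix f hf
  obtain ⟨cp, hcp⟩ := hfix vp hQvp
  obtain ⟨cm, hcm⟩ := hfix vm hQvm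
  have hsum : vp + vm = (2 : F) • e - (2 * d) • f := by rw [hvp, hvm]; module
  have hdiff : vp - vm = (2 : F) • w₀ := by rw [hvp, hvm]; module
  have h1 : cp • vp + cm • vm = (2 * α) • e - (2 * d * γ) • f := by
    rw [← hcp, ← hcm, ← hadd, hsum, hTsub, hsmul, hsmul, hα, hγ, smul_smul, smul_smul]
  have h2d : (2 : F) * d ≠ 0 := mul_ne_zero h2 (by rw [hd]; exact hQw)
  -- pair with `w₀`, `f`, `e`
  have e1 := congrArg (fun t => polar (⇑Q₂) t w₀) h1
  have e2 := congrArg (fun t => polar (⇑Q₂) t f) h1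
  have e3 := congrArg (fun t => polar (⇑Q₂) t e) h1
  simp only [hvp, hvm, polar_add_left, polar_sub_left, polar_smul_left, hew, hfw, hww, hef, hff,
    hwf, hee, hfe, hwe, smul_eq_mul] at e1 e2 e3
  have hc1 : cp = cm := by
    have : (cp - cm) * (2 * d) = 0 := by linear_combination e1
    rcases mul_eq_zero.mp this with h | h
    · linear_combination h
    · exact absurd h h2d
  have hα' : α = cp := by
    have : (2 : F) * (α - cp) = 0 := by rw [hc1] at e2 ⊢; linear_combination -e2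
    rcases mul_eq_zero.mp this with h | h
    · exact absurd h h2
    · linear_combination h
  have hγ' : γ = cp := by
    have : (2 * d) * (γ - cp) = 0 := by rw [hc1] at e3 ⊢; linear_combination e3
    rcases mul_eq_zero.mp this with h | h
    · exact absurd h h2d
    · linear_combination h
  have hw : T w₀ = cp • w₀ := by
    have h5 : T ((2 : F) • w₀) = (2 : F) • (cp • w₀) := by
      rw [← hdiff, hTsub, hcp, hcm, ← hc1, ← smul_sub, hdiff, smul_comm]
    rw [hsmul] at h5
    have h6 : (2 : F) • (T w₀ - cp • w₀) = 0 := by rw [smul_sub, h5, sub_self]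
    rcases smul_eq_zero.mp h6 with h | h
    · exact absurd h h2
    · exact sub_eq_zero.mp h
  refine ⟨cp, fun b => ?_⟩
  rw [hdec b, hadd, hadd, hsmul, hsmul, hsmul, hα, hγ, hw, hα', hγ']
  module

end Cfsg.Agent.Lib.Helper16.LocalBalMinus
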