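import Mathlib
import Cfsg.Agent.Lib.Helper16.LocalBalMinusG
import Cfsg.Agent.Lib.Helper16.LocalBalMinusH
import Cfsg.Agent.Lib.Helper6.MinusSim

/-!
# Local balance for the minus type orthogonal groups, part I: a subgroup of odd order normalised by
the centraliser of an involutory isometry of determinant `-1` is trivial
-/

set_option autoImplicit false
set_option linter.unusedSectionVars false
set_option linter.unusedVariables false
set_option linter.style.haveILetI false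

namespace Cfsg.Agent.Lib.Helper16.LocalBalMinus

open Matrix Cfsg QuadraticMap Module Cfsg.Agent.Lib.Helper6 Cfsg.Agent.Lib.Helper6.AutOrt
  Cfsg.Agent.Lib.Helper6.SimAut Cfsg.Agent.Lib.Helper14
  Cfsg.Agent.Lib.Helper15 Cfsg.Agent.Lib.Helper16.FieldCosetOrth
  Cfsg.Agent.Lib.Helper16.FieldCentOrth

/-- the variant of `exists_odd_pow_eq_one` with the factors in the other order -/
theorem exists_odd_pow_eq_one' {G : Type*} [Group G] (N : Subgroup G) [Finite N]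
    (hodd : Odd (Nat.card N)) (n ρ : G) (hn : n ∈ N) (hρ : ∀ m ∈ N, ρ * m * ρ⁻¹ ∈ N) (r : ℕ)
    (hr : Odd r) (hρr : ρ ^ r = 1) : ∃ k, Odd k ∧ (ρ * n) ^ k = 1 := by
  obtain ⟨k, hk, h⟩ := exists_odd_pow_eq_one N hodd n ρ hn hρ r hr hρr
  refine ⟨k, hk, ?_⟩
  have e : ρ * n = ρ * (n * ρ) * ρ⁻¹ := by group
  rw [e, conj_pow, h]
  group

variable {F : Type*} [Field F] [Fintype F] {ι : Type} [Fintype ι] [DecidableEq ι]
  (Q : QuadraticForm F (ι → F))
  {α β : Type} [Fintype α] [DecidableEq α] [Fintype β] [DecidableEq β]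
  (L : (α ⊕ β → F) ≃ₗ[F] (ι → F)) (M : Matrix ι ι F)
  (hL : ∀ (a : α → F) (b : β → F), M *ᵥ L (Sum.elim a b) = L (Sum.elim a (-b)))
  (hiso : ∀ v, Q (M *ᵥ v) = Q v) (h2 : (2 : F) ≠ 0)

/-! ### interchanging the two blocks -/

/-- the coordinates with the two blocks interchanged -/
def swapL : (β ⊕ α → F) ≃ₗ[F] (ι → F) :=
  (LinearEquiv.funCongrLeft F F (Equiv.sumComm α β)).trans L

theorem swapL_apply (a : α → F) (b : β → F) : swapL L (Sum.elim b a) = L (Sum.elim a b) := by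
  change L ((Sum.elim b a) ∘ (Equiv.sumComm α β)) = _
  congr 1
  funext i
  rcases i with i | i <;> rfl

include hL in
theorem hL_swap (b : β → F) (a : α → F) :
    (-M) *ᵥ swapL L (Sum.elim b a) = swapL L (Sum.elim b (-a)) := by
  rw [swapL_apply, swapL_apply, Matrix.neg_mulVec, hL, ← map_neg]
  congr 1
  funext i
  rcases i with i | i <;> simp

include hiso in
theorem hiso_swap (v : ι → F) : Q ((-M) *ᵥ v) = Q v := by
  rw [Matrix.neg_mulVec, QuadraticMap.map_neg, hiso]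

/-- the similarity with the opposite matrix -/
noncomputable def negGO (hnd : (polarBilin Q).Nondegenerate) : ↥(GO Q) :=
  simOfMatrix Q hnd (-M) 1 (fun v => by
    rw [Matrix.neg_mulVec, QuadraticMap.map_neg, hiso, Units.val_one, one_mul])

theorem negGO_val (hnd : (polarBilin Q).Nondegenerate) :
    ((negGO Q M hiso hnd).1 : Matrix ι ι F) = -M := rfl

theorem fGO_negGO [hS : Std Q] (g : ↥(GO Q)) (hg : (g.1 : Matrix ι ι F) = M) :
    fGO Q (negGO Q M hiso hS.nondeg) = fGO Q g := by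
  apply fGO_eq_of_smul g _ (-1) (by simp)
  rw [negGO_val, hg]
  simp

/-! ### general lemmas -/

theorem exists_nonsing_of_nondeg {γ : Type} [Fintype γ] [DecidableEq γ] [Nonempty γ]
    (Q' : QuadraticForm F (γ → F)) (hnd : (polarBilin Q').Nondegenerate) : ∃ a, Q' a ≠ 0 := by
  by_contra hno
  push Not at hno
  have h1 : (fun _ : γ => (1 : F)) = 0 := by
    apply hnd.1
    intro z
    change polar (⇑Q') _ _ = 0
    unfold polar
    rw [hno, hno, hno]
    simp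
  have := congrFun h1 (Classical.arbitrary γ)
  simp at this

theorem scalar_of_card_one {γ : Type} [Fintype γ] [DecidableEq γ] (h1 : Fintype.card γ = 1)
    (T : (γ → F) → (γ → F)) (hsmul : ∀ (c : F) x, T (c • x) = c • T x) :
    ∃ c : F, ∀ a, T a = c • a := by
  obtain ⟨i₀, hi₀⟩ := Fintype.card_eq_one_iff.mp h1
  have e : ∀ a : γ → F, a = a i₀ • (fun _ : γ => (1 : F)) := by
    intro a
    funext i
    rw [hi₀ i]
    simp
  refine ⟨T (fun _ => 1) i₀, fun a => ?_⟩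
  have h3 := e a
  rw [h3, hsmul, e (T fun _ => 1)]
  funext i
  simp only [Pi.smul_apply, smul_eq_mul]
  ring

theorem block₁_injective :
    Function.Injective (fun a : α → F => L (Sum.elim a (0 : β → F))) := by
  intro a a' h
  have h1 := L.injective h
  funext i
  have := congrFun h1 (Sum.inl i)
  simpa using this

theorem block₁_smul (c : F) (a : α → F) :
    L (Sum.elim (c • a) (0 : β → F)) = c • L (Sum.elim a (0 : β → F)) := by
  rw [← elimL₁_apply, ← elimL₁_apply, map_smul, map_smul]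

theorem block₁_add (a a' : α → F) :
    L (Sum.elim (a + a') (0 : β → F)) = L (Sum.elim a (0 : β → F)) + L (Sum.elim a' (0 : β → F)) := by
  rw [← elimL₁_apply, ← elimL₁_apply, ← elimL₁_apply, map_add, map_add]

theorem block₂_smul (c : F) (b : β → F) :
    L (Sum.elim (0 : α → F) (c • b)) = c • L (Sum.elim (0 : α → F) b) := by
  rw [← elimL₂_apply, ← elimL₂_apply, map_smul, map_smul]

include hL in
/-- the determinant of an involutory matrix in adapted coordinates -/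
theorem det_of_eigen_coords : M.det = (-1) ^ Fintype.card β ∧
    Fintype.card α + Fintype.card β = Fintype.card ι := by
  constructor
  · obtain ⟨d, hd⟩ : ∃ d : α ⊕ β → F, d = Sum.elim (fun _ => 1) (fun _ => -1) := ⟨_, rfl⟩
    have hdiag : ∀ (a : α → F) (b : β → F), Matrix.diagonal d *ᵥ Sum.elim a b = Sum.elim a (-b) := by
      intro a b
      funext i
      rw [Matrix.mulVec_diagonal, hd]
      rcases i with i | i <;> simp
    have e1 : Matrix.toLin' M = (L : (α ⊕ β → F) →ₗ[F] (ι → F)) ∘ₗ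
        Matrix.toLin' (Matrix.diagonal d) ∘ₗ (L.symm : (ι → F) →ₗ[F] (α ⊕ β → F)) := by
      apply LinearMap.ext
      intro v
      obtain ⟨y, rfl⟩ := L.surjective v
      have e : y = Sum.elim (y ∘ Sum.inl) (y ∘ Sum.inr) := by
        funext i; rcases i with i | i <;> rfl
      rw [Matrix.toLin'_apply, LinearMap.comp_apply, LinearMap.comp_apply, LinearEquiv.coe_coe,
        LinearEquiv.coe_coe, LinearEquiv.symm_apply_apply, Matrix.toLin'_apply]
      rw [e, hL, hdiag]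
    rw [← LinearMap.det_toLin', e1, LinearMap.det_conj, LinearMap.det_toLin', Matrix.det_diagonal,
      Fintype.prod_sum_type, hd]
    simp
  · have := L.finrank_eq
    rw [Module.finrank_fintype_fun_eq_card, Module.finrank_fintype_fun_eq_card,
      Fintype.card_sum] at this
    exact this

section main
variable [hS : Std Q] (p : ℕ) [hp : Fact p.Prime] [hcp : CharP F p] (hP : HP Q)

/-- a semilinear similarity acting as a scalar on a non-zero block is linear -/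
theorem sigma_refl_of_block [Nonempty α] (Φ : SemiSimO Q) (c : F)
    (hc : ∀ a : α → F, Φ.S (L (Sum.elim a (0 : β → F))) = c • L (Sum.elim a (0 : β → F))) :
    c ≠ 0 ∧ Φ.σ = RingEquiv.refl F := by
  obtain ⟨a₀, ha₀⟩ : ∃ a₀ : α → F, a₀ = fun _ => 1 := ⟨_, rfl⟩
  have hv₀ : L (Sum.elim a₀ (0 : β → F)) ≠ 0 := by
    intro h
    have h1 : (Sum.elim a₀ (0 : β → F) : α ⊕ β → F) = 0 := by
      apply L.injective
      rw [h, map_zero]
    have := congrFun h1 (Sum.inl (Classical.arbitrary α))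
    rw [ha₀] at this
    simp at this
  have hc0 : c ≠ 0 := by
    rintro rfl
    have h1 := hc a₀
    rw [zero_smul, ← Φ.S_zero] at h1
    exact hv₀ (Φ.S_injective h1)
  refine ⟨hc0, ?_⟩
  ext t
  have h1 := hc (t • a₀)
  rw [block₁_smul, Φ.smul, hc, smul_smul, smul_smul] at h1
  have h3 : (Φ.σ t * c - c * t) • L (Sum.elim a₀ (0 : β → F)) = 0 := by
    rw [sub_smul, h1, sub_self]
  rcases smul_eq_zero.mp h3 with h4 | h4
  · have h5 : c * (Φ.σ t - t) = 0 := by linear_combination h4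
    rcases mul_eq_zero.mp h5 with h6 | h6
    · exact absurd h6 hc0
    · change Φ.σ t = t
      linear_combination h6
  · exact absurd h4 hv₀

include hp hcp h2 in
/-- the semilinear similarities of a subgroup of odd order centralising the automorphism of an
involutory matrix commute with this matrix -/
theorem comm_M_of_mem (g : ↥(GO Q)) (hg : (g.1 : Matrix ι ι F) = M) (hM : M * M = 1)
    (N : Subgroup (MulAut (Cfsg.POmega F ⇑Q))) [Finite N] (hodd : Odd (Nat.card N))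
    (hNx : ∀ n ∈ N, n * fGO Q g = fGO Q g * n) (Ψ : SemiSimO Q) (hΨ : Ψ.gam ∈ N) :
    ∀ y, Ψ.S (M *ᵥ y) = M *ᵥ Ψ.S y := by
  have hk : Ψ.gam ^ Nat.card N = 1 := by
    have h2' : (⟨Ψ.gam, hΨ⟩ : ↥N) ^ Nat.card N = 1 := pow_card_eq_one'
    have := congrArg Subtype.val h2'
    rwa [Subgroup.coe_pow, Subgroup.coe_one] at this
  have := comm_of_odd p h2 Ψ g (by rw [hg]; exact hM) (hNx _ hΨ) (Nat.card N) hodd hk
  rw [hg] at this
  exact this

include hL hiso h2 in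
/-- a linear similarity acting as a scalar on each of the two blocks induces the trivial
automorphism or the automorphism of the involution -/
theorem gam_of_two_scalars [Nonempty α] [Nonempty β] (g : ↥(GO Q))
    (hg : (g.1 : Matrix ι ι F) = M) (Φ : SemiSimO Q)
    (hσ : Φ.σ = RingEquiv.refl F) (c₁ c₂ : F)
    (hc₁ : ∀ a : α → F, Φ.S (L (Sum.elim a (0 : β → F))) = c₁ • L (Sum.elim a (0 : β → F)))
    (hc₂ : ∀ b : β → F, Φ.S (L (Sum.elim (0 : α → F) b)) = c₂ • L (Sum.elim (0 : α → F) b)) :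
    Φ.gam = 1 ∨ Φ.gam = fGO Q g := by
  have hnd₁ := nondeg_Qblk₁ Q L M hL hiso h2 hS.nondeg
  have hnd₂ := nondeg_Qblk₁ Q (swapL L) (-M) (hL_swap L M hL) (hiso_swap Q M hiso) h2 hS.nondeg
  obtain ⟨a, ha⟩ := exists_nonsing_of_nondeg _ hnd₁
  obtain ⟨b, hb⟩ := exists_nonsing_of_nondeg _ hnd₂
  rw [Qblk₁_apply] at ha hb
  rw [swapL_apply] at hb
  have hc₁0 := (sigma_refl_of_block Q L Φ c₁ hc₁).1
  have e1 : c₁ * c₁ = Φ.ν := by
    have h1 := Φ.form (L (Sum.elim a (0 : β → F)))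
    rw [hc₁, hσ, Q_smul] at h1
    have h3 : (c₁ * c₁ - Φ.ν) * Q (L (Sum.elim a (0 : β → F))) = 0 := by
      simp only [RingEquiv.refl_apply] at h1
      linear_combination h1
    rcases mul_eq_zero.mp h3 with h4 | h4
    · linear_combination h4
    · exact absurd h4 ha
  have e2 : c₂ * c₂ = Φ.ν := by
    have h1 := Φ.form (L (Sum.elim (0 : α → F) b))
    rw [hc₂, hσ, Q_smul] at h1
    have h3 : (c₂ * c₂ - Φ.ν) * Q (L (Sum.elim (0 : α → F) b)) = 0 := by
      simp only [RingEquiv.refl_apply] at h1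
      linear_combination h1
    rcases mul_eq_zero.mp h3 with h4 | h4
    · linear_combination h4
    · exact absurd h4 hb
  have hS : ∀ (a : α → F) (b : β → F), Φ.S (L (Sum.elim a b)) =
      c₁ • L (Sum.elim a (0 : β → F)) + c₂ • L (Sum.elim (0 : α → F) b) := by
    intro a b
    rw [← elim_add_elim, map_add, Φ.add, hc₁, hc₂]
  have h3 : (c₂ - c₁) * (c₂ + c₁) = 0 := by linear_combination e2 - e1
  rcases mul_eq_zero.mp h3 with h4 | h4
  · left
    have h5 : c₂ = c₁ := by linear_combination h4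
    apply SemiSimO.gam_eq_one_of_smul _ c₁
    intro v
    obtain ⟨y, rfl⟩ := L.surjective v
    have e : y = Sum.elim (y ∘ Sum.inl) (y ∘ Sum.inr) := by
      funext i; rcases i with i | i <;> rfl
    rw [e, hS, h5, ← smul_add, ← map_add, elim_add_elim]
  · right
    have h5 : c₂ = -c₁ := by linear_combination h4
    rw [fGO_eq_gam]
    apply gam_eq_of_S_smul _ _ c₁ hc₁0
    intro v
    obtain ⟨y, rfl⟩ := L.surjective v
    have e : y = Sum.elim (y ∘ Sum.inl) (y ∘ Sum.inr) := by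
      funext i; rcases i with i | i <;> rfl
    rw [simGO_S, hg, e, hS, hL, h5, ← elim_add_elim (y ∘ Sum.inl) (-(y ∘ Sum.inr)), map_add,
      smul_add]
    congr 1
    have e' : (Sum.elim (0 : α → F) (-(y ∘ Sum.inr)) : α ⊕ β → F) =
        (-1 : F) • Sum.elim (0 : α → F) (y ∘ Sum.inr) := by
      funext i; rcases i with i | i <;> simp
    rw [e', map_smul]
    module

include hL hiso h2 in
/-- a block of dimension one -/
theorem eigen_scalar_one (h1 : Fintype.card α = 1) (Φ : SemiSimO Q)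
    (hσ : Φ.σ = RingEquiv.refl F) (hΦM : ∀ y, Φ.S (M *ᵥ y) = M *ᵥ Φ.S y) :
    ∃ c : F, ∀ a : α → F, Φ.S (L (Sum.elim a (0 : β → F))) = c • L (Sum.elim a (0 : β → F)) := by
  obtain ⟨Φ', hσ', -, hΦ'⟩ := exists_compat Q L M hL hiso h2 Φ hΦM
  obtain ⟨c, hc⟩ := scalar_of_card_one h1 Φ'.S (fun c x => by
    rw [Φ'.smul, hσ', hσ]; rfl)
  refine ⟨c, fun a => ?_⟩
  have h3 := hΦ'.1 a
  simp only at h3
  rw [h3, hc, block₁_smul]

/-- the powers of a semilinear similarity interchanging two lines -/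
theorem powS_swap (y : SemiSimO Q) (E F₁ : ι → F) (t : F) (ht : t ≠ 0) (h1 : y.S E = F₁)
    (h2 : y.S F₁ = t • E) (k : ℕ) :
    (Even k → ∃ c : F, c ≠ 0 ∧ (powS y k).S E = c • E) ∧
      (Odd k → ∃ c : F, c ≠ 0 ∧ (powS y k).S E = c • F₁) := by
  induction k with
  | zero =>
    refine ⟨fun _ => ⟨1, one_ne_zero, ?_⟩, fun h => absurd h (by decide)⟩
    rw [one_smul]
    rfl
  | succ k ih =>
    have e : (powS y (k + 1)).S E = y.S ((powS y k).S E) := rfl
    constructor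
    · intro hk
      rw [Nat.even_add_one, Nat.not_even_iff_odd] at hk
      obtain ⟨c, hc0, hc⟩ := ih.2 hk
      refine ⟨y.σ c * t, mul_ne_zero ((map_ne_zero _).mpr hc0) ht, ?_⟩
      rw [e, hc, y.smul, h2, smul_smul]
    · intro hk
      rw [Nat.odd_add_one, Nat.not_odd_iff_even] at hk
      obtain ⟨c, hc0, hc⟩ := ih.1 hk
      refine ⟨y.σ c, (map_ne_zero _).mpr hc0, ?_⟩
      rw [e, hc, y.smul, h1]

/-- the Siegel transformation used to interchange two singular lines -/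
theorem sieg_swap (E F₁ G : ι → F) (hE : Q E = 0) (hF₁ : Q F₁ = 0) (hG : Q G = 0)
    (ha' : polar (⇑Q) E F₁ ≠ 0) (ha₀ : polar (⇑Q) F₁ G ≠ 0) :
    ∃ w : ι → F, w = (polar (⇑Q) F₁ G)⁻¹ • G - (polar (⇑Q) E F₁)⁻¹ • E ∧
      polar (⇑Q) F₁ w = 0 ∧ av (sg Q F₁ w) F₁ = F₁ ∧
      av (sg Q F₁ w) G = (polar (⇑Q) F₁ G * (polar (⇑Q) E F₁)⁻¹) • E := by
  obtain ⟨a', hadef⟩ : ∃ a', a' = polar (⇑Q) E F₁ := ⟨_, rfl⟩
  obtain ⟨a₀, ha₀def⟩ : ∃ a₀, a₀ = polar (⇑Q) F₁ G := ⟨_, rfl⟩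
  rw [← hadef] at ha'
  rw [← ha₀def] at ha₀
  rw [← hadef, ← ha₀def]
  have hF₁E : polar (⇑Q) F₁ E = a' := by rw [polar_comm, hadef]
  refine ⟨a₀⁻¹ • G - a'⁻¹ • E, rfl, ?_⟩
  have hw : polar (⇑Q) F₁ (a₀⁻¹ • G - a'⁻¹ • E) = 0 := by
    rw [polar_sub_right, polar_smul_right, polar_smul_right, ← ha₀def, hF₁E, smul_eq_mul,
      smul_eq_mul, inv_mul_cancel₀ ha₀, inv_mul_cancel₀ ha', sub_self]
  refine ⟨hw, ?_, ?_⟩
  · rw [av_sg hF₁ hw, B_self_of_sing hF₁, polar_comm, hw]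
    simp
  · have h1 := av_sg hF₁ hw G
    rw [← ha₀def] at h1
    obtain ⟨s, hs⟩ : ∃ s, s = polar (⇑Q) (a₀⁻¹ • G - a'⁻¹ • E) G -
        Q (a₀⁻¹ • G - a'⁻¹ • E) * a₀ := ⟨_, rfl⟩
    rw [← hs] at h1
    have h3 : av (sg Q F₁ (a₀⁻¹ • G - a'⁻¹ • E)) G = (a₀ * a'⁻¹) • E + s • F₁ := by
      rw [h1, smul_sub, smul_smul, smul_smul, neg_mul, mul_inv_cancel₀ ha₀]
      module
    have h4 : Q (av (sg Q F₁ (a₀⁻¹ • G - a'⁻¹ • E)) G) = 0 := by rw [Q_av, hG]
    rw [h3, Q_add, Q_smul, Q_smul, hE, hF₁, polar_smul_left, polar_smul_right, ← hadef] at h4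
    have h5 : a₀ * s = 0 := by
      have : a₀ * a'⁻¹ * a' = a₀ := by rw [mul_assoc, inv_mul_cancel₀ ha', mul_one]
      simp only [smul_eq_mul, mul_zero, zero_add] at h4
      rw [← this]
      linear_combination h4
    rcases mul_eq_zero.mp h5 with h6 | h6
    · exact absurd h6 ha₀
    · rw [h3, h6, zero_smul, add_zero]

include hiso in
theorem polar_M (x y : ι → F) : polar (⇑Q) (M *ᵥ x) (M *ᵥ y) = polar (⇑Q) x y := by
  unfold polar
  rw [← Matrix.mulVec_add, hiso, hiso, hiso]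

include hiso in
/-- a Siegel transformation with parameters fixed by an isometry commutes with it -/
theorem sieg_comm_M (u w : ι → F) (hu : Q u = 0) (huw : polar (⇑Q) u w = 0)
    (hMu : M *ᵥ u = u) (hMw : M *ᵥ w = w) (y : ι → F) :
    av (sg Q u w) (M *ᵥ y) = M *ᵥ av (sg Q u w) y := by
  have h1 : polar (⇑Q) u (M *ᵥ y) = polar (⇑Q) u y := by
    nth_rewrite 1 [← hMu]
    exact polar_M Q M hiso u y
  have h3 : polar (⇑Q) w (M *ᵥ y) = polar (⇑Q) w y := by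
    nth_rewrite 1 [← hMw]
    exact polar_M Q M hiso w y
  rw [av_sg hu huw, av_sg hu huw, h1, h3, Matrix.mulVec_add, Matrix.mulVec_add, Matrix.mulVec_smul,
    Matrix.mulVec_smul, hMu, hMw]

include hp hcp hL hiso h2 in
/-- a block of dimension three -/
theorem eigen_scalar_three (g : ↥(GO Q)) (hg : (g.1 : Matrix ι ι F) = M) (hM : M * M = 1)
    (h3 : Fintype.card α = 3)
    (N : Subgroup (MulAut (Cfsg.POmega F ⇑Q))) [Finite N] (hodd : Odd (Nat.card N))
    (hNx : ∀ n ∈ N, n * fGO Q g = fGO Q g * n)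
    (hNn : ∀ c ∈ Cfsg.Inn (Cfsg.POmega F ⇑Q), c * fGO Q g = fGO Q g * c →
      ∀ n ∈ N, c * n * c⁻¹ ∈ N)
    (Φ : SemiSimO Q) (hΦ : Φ.gam ∈ N) (hσ : Φ.σ = RingEquiv.refl F) :
    ∃ c : F, ∀ a : α → F, Φ.S (L (Sum.elim a (0 : β → F))) = c • L (Sum.elim a (0 : β → F)) := by
  classical
  have hΦM := comm_M_of_mem Q M h2 p g hg hM N hodd hNx Φ hΦ
  obtain ⟨Φ', hσ', hν', hΦ'⟩ := exists_compat Q L M hL hiso h2 Φ hΦM
  have hnd₁ := nondeg_Qblk₁ Q L M hL hiso h2 hS.nondeg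
  have hσ'' : Φ'.σ = RingEquiv.refl F := by rw [hσ', hσ]
  have hcompat : ∀ a : α → F, Φ.S (L (Sum.elim a (0 : β → F))) =
      L (Sum.elim (Φ'.S a) (0 : β → F)) := fun a => hΦ'.1 a
  have hpodd : Odd p := by
    rcases hp.out.eq_two_or_odd' with h | h
    · exfalso
      apply h2
      have := CharP.cast_eq_zero F p
      rw [h] at this
      exact_mod_cast this
    · exact h
  have hMblk : ∀ a : α → F, M *ᵥ L (Sum.elim a (0 : β → F)) = L (Sum.elim a (0 : β → F)) := by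
    intro a
    rw [hL, neg_zero]
  obtain ⟨c, hc⟩ := ternary_scalar (Qblk₁ Q L) h2 hnd₁ h3 Φ'.S Φ'.add (fun c x => by
    rw [Φ'.smul, hσ'']; rfl) (by
    intro e he
    by_cases he0 : e = 0
    · refine ⟨0, ?_⟩
      rw [he0, Φ'.S_zero, zero_smul]
    by_contra hno
    obtain ⟨f₁, hf₁def⟩ : ∃ f₁, f₁ = Φ'.S e := ⟨_, rfl⟩
    obtain ⟨G₂, hG₂def⟩ : ∃ G₂, G₂ = Φ'.S f₁ := ⟨_, rfl⟩
    rw [← hf₁def] at hno
    have hf₁ : Qblk₁ Q L f₁ = 0 := by rw [hf₁def, Φ'.form, he, map_zero, mul_zero]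
    have hG₂ : Qblk₁ Q L G₂ = 0 := by rw [hG₂def, Φ'.form, hf₁, map_zero, mul_zero]
    have ha' : polar (⇑(Qblk₁ Q L)) e f₁ ≠ 0 := by
      intro h0
      exact hno (ternary_perp (Qblk₁ Q L) h2 hnd₁ h3 e f₁ he0 he hf₁ h0)
    have ha₀ : polar (⇑(Qblk₁ Q L)) f₁ G₂ ≠ 0 := by
      have e1 : polar (⇑(Qblk₁ Q L)) f₁ G₂ = Φ'.ν * Φ'.σ (polar (⇑(Qblk₁ Q L)) e f₁) := by
        rw [hG₂def, ← Φ'.polar_S, ← hf₁def]
      rw [e1]
      exact mul_ne_zero Φ'.hν ((map_ne_zero _).mpr ha')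
    rw [polar_Qblk₁] at ha' ha₀
    rw [Qblk₁_apply] at he hf₁ hG₂
    obtain ⟨E, hEdef⟩ : ∃ E, E = L (Sum.elim e (0 : β → F)) := ⟨_, rfl⟩
    obtain ⟨F₁, hF₁def⟩ : ∃ F₁, F₁ = L (Sum.elim f₁ (0 : β → F)) := ⟨_, rfl⟩
    obtain ⟨G, hGdef⟩ : ∃ G, G = L (Sum.elim G₂ (0 : β → F)) := ⟨_, rfl⟩
    rw [← hEdef, ← hF₁def] at ha'
    rw [← hF₁def, ← hGdef] at ha₀
    rw [← hEdef] at he
    rw [← hF₁def] at hf₁
    rw [← hGdef] at hG₂
    have hΦE : Φ.S E = F₁ := by rw [hEdef, hcompat, ← hf₁def, hF₁def]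
    have hΦF₁ : Φ.S F₁ = G := by rw [hF₁def, hcompat, ← hG₂def, hGdef]
    have hME : M *ᵥ E = E := by rw [hEdef, hMblk]
    have hMF₁ : M *ᵥ F₁ = F₁ := by rw [hF₁def, hMblk]
    have hMG : M *ᵥ G = G := by rw [hGdef, hMblk]
    obtain ⟨w, hwdef, hw, hρF₁, hρG⟩ := sieg_swap Q E F₁ G he hf₁ hG₂ ha' ha₀
    have hMw : M *ᵥ w = w := by
      rw [hwdef, Matrix.mulVec_sub, Matrix.mulVec_smul, Matrix.mulVec_smul, hME, hMG]
    obtain ⟨ρ, hρdef⟩ : ∃ ρ, ρ = sg Q F₁ w := ⟨_, rfl⟩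
    rw [← hρdef] at hρF₁ hρG
    obtain ⟨t, htdef⟩ : ∃ t, t = polar (⇑Q) F₁ G * (polar (⇑Q) E F₁)⁻¹ := ⟨_, rfl⟩
    rw [← htdef] at hρG
    have ht0 : t ≠ 0 := by
      rw [htdef]
      exact mul_ne_zero ha₀ (inv_ne_zero ha')
    obtain ⟨y, hydef⟩ : ∃ y, y = (SemiSimO.ofOm ρ).comp Φ := ⟨_, rfl⟩
    have hyE : y.S E = F₁ := by
      rw [hydef, SemiSimO.comp_S, hΦE]
      exact hρF₁
    have hyF₁ : y.S F₁ = t • E := by
      rw [hydef, SemiSimO.comp_S, hΦF₁]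
      exact hρG
    have hygam : y.gam = MulAut.conj (pu ρ) * Φ.gam := by
      rw [hydef, SemiSimO.gam_comp, SemiSimO.gam_ofOm]
    have hρN : ∀ m ∈ N, MulAut.conj (pu ρ) * m * (MulAut.conj (pu ρ))⁻¹ ∈ N := by
      intro m hm
      apply hNn _ ⟨_, rfl⟩ _ m hm
      apply conj_comm_fGO
      intro z
      rw [hg, hρdef]
      exact sieg_comm_M Q M hiso F₁ w hf₁ hw hMF₁ hMw z
    have hρp : (MulAut.conj (pu ρ)) ^ p = 1 := by
      rw [← map_pow, ← map_pow, hρdef, sg_pow_char p hf₁ hw, map_one, map_one]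
    obtain ⟨k, hk, hyk⟩ := exists_odd_pow_eq_one' N hodd Φ.gam (MulAut.conj (pu ρ)) hΦ hρN p hpodd
      hρp
    rw [← hygam, ← gam_powS] at hyk
    obtain ⟨-, d, hd⟩ := scalar_of_gam_eq_one p _ hyk
    obtain ⟨c, hc0, hc⟩ := (powS_swap Q y E F₁ t ht0 hyE hyF₁ k).2 hk
    rw [hd] at hc
    apply hno
    refine ⟨c⁻¹ * d, ?_⟩
    apply block₁_injective (β := β) L
    change L (Sum.elim f₁ (0 : β → F)) = L (Sum.elim ((c⁻¹ * d) • e) (0 : β → F))
    rw [block₁_smul, ← hEdef, ← hF₁def, mul_smul, hc, smul_smul, inv_mul_cancel₀ hc0, one_smul])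
  refine ⟨c, fun a => ?_⟩
  rw [hcompat, hc, block₁_smul]

include hp hcp hP hL hiso h2 in
/-- the main step, for adapted coordinates whose first block is large -/
theorem odd_normal_trivial_aux (g : ↥(GO Q)) (hg : (g.1 : Matrix ι ι F) = M) (hM : M * M = 1)
    (h5 : 5 ≤ Fintype.card α)
    (hβ : Fintype.card β = 1 ∨ Fintype.card β = 3 ∨ 5 ≤ Fintype.card β)
    (N : Subgroup (MulAut (Cfsg.POmega F ⇑Q))) [Finite N] (hodd : Odd (Nat.card N))
    (hNx : ∀ n ∈ N, n * fGO Q g = fGO Q g * n)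
    (hNn : ∀ c ∈ Cfsg.Inn (Cfsg.POmega F ⇑Q), c * fGO Q g = fGO Q g * c →
      ∀ n ∈ N, c * n * c⁻¹ ∈ N) : ∀ n ∈ N, n = 1 := by
  intro n hn
  obtain ⟨Φ, rfl⟩ := exists_semi p hP n
  haveI : Nonempty α := Fintype.card_pos_iff.mp (by omega)
  haveI : Nonempty β := Fintype.card_pos_iff.mp (by omega)
  obtain ⟨c₁, hc₁⟩ := eigen_scalar Q L M hL hiso h2 p hP g hg hM h5 N hodd hNx hNn Φ hn
  obtain ⟨hc₁0, hσ⟩ := sigma_refl_of_block Q L Φ c₁ hc₁
  have hΦM := comm_M_of_mem Q M h2 p g hg hM N hodd hNx Φ hn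
  obtain ⟨g', hg'def⟩ : ∃ g', g' = negGO Q M hiso hS.nondeg := ⟨_, rfl⟩
  have hg' : ((g'.1 : GL ι F) : Matrix ι ι F) = -M := by rw [hg'def]; rfl
  have hfg' : fGO Q g' = fGO Q g := by rw [hg'def]; exact fGO_negGO Q M hiso g hg
  have hM' : (-M) * (-M) = 1 := by rw [neg_mul_neg, hM]
  have hNx' : ∀ n ∈ N, n * fGO Q g' = fGO Q g' * n := by rw [hfg']; exact hNx
  have hNn' : ∀ c ∈ Cfsg.Inn (Cfsg.POmega F ⇑Q), c * fGO Q g' = fGO Q g' * c →
      ∀ n ∈ N, c * n * c⁻¹ ∈ N := by rw [hfg']; exact hNn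
  have hΦM' : ∀ y, Φ.S ((-M) *ᵥ y) = (-M) *ᵥ Φ.S y := by
    intro y
    have h1 : Φ.S (-(M *ᵥ y)) = -Φ.S (M *ᵥ y) := by
      have := Φ.S_sub 0 (M *ᵥ y)
      rwa [zero_sub, Φ.S_zero, zero_sub] at this
    rw [Matrix.neg_mulVec, Matrix.neg_mulVec, h1, hΦM]
  have hc₂' : ∃ c₂ : F, ∀ b : β → F, Φ.S (swapL L (Sum.elim b (0 : α → F))) =
      c₂ • swapL L (Sum.elim b (0 : α → F)) := by
    rcases hβ with h | h | h
    · exact eigen_scalar_one Q (swapL L) (-M) (hL_swap L M hL) (hiso_swap Q M hiso) h2 h Φ hσ hΦM'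
    · exact eigen_scalar_three Q (swapL L) (-M) (hL_swap L M hL) (hiso_swap Q M hiso) h2 p g' hg'
        hM' h N hodd hNx' hNn' Φ hn hσ
    · exact eigen_scalar Q (swapL L) (-M) (hL_swap L M hL) (hiso_swap Q M hiso) h2 p hP g' hg'
        hM' h N hodd hNx' hNn' Φ hn
  obtain ⟨c₂, hc₂'⟩ := hc₂'
  have hc₂ : ∀ b : β → F, Φ.S (L (Sum.elim (0 : α → F) b)) = c₂ • L (Sum.elim (0 : α → F) b) := by
    intro b
    have := hc₂' b
    rwa [swapL_apply] at this
  rcases gam_of_two_scalars Q L M hL hiso h2 g hg Φ hσ c₁ c₂ hc₁ hc₂ with h | h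
  · exact h
  · have hgg : g * g = 1 := by
      apply Subtype.ext
      apply Units.ext
      change ((g.1 : GL ι F) : Matrix ι ι F) * ((g.1 : GL ι F) : Matrix ι ι F) = 1
      rw [hg]
      exact hM
    have hsq : fGO Q g ^ 2 = 1 := by rw [pow_two, ← map_mul, hgg, map_one]
    have hk : Φ.gam ^ Nat.card N = 1 := by
      have h2' : (⟨Φ.gam, hn⟩ : ↥N) ^ Nat.card N = 1 := pow_card_eq_one'
      have := congrArg Subtype.val h2'
      rwa [Subgroup.coe_pow, Subgroup.coe_one] at this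
    obtain ⟨j, hj⟩ := hodd
    rw [hj, h, pow_succ, pow_mul, hsq, one_pow, one_mul] at hk
    rw [h, hk]

end main

end Cfsg.Agent.Lib.Helper16.LocalBalMinus

namespace Cfsg.Agent.Lib.Helper16.LocalBalMinus

open Matrix Cfsg QuadraticMap Module Cfsg.Agent.Lib.Helper6 Cfsg.Agent.Lib.Helper6.AutOrt
  Cfsg.Agent.Lib.Helper6.SimAut Cfsg.Agent.Lib.Helper14
  Cfsg.Agent.Lib.Helper15 Cfsg.Agent.Lib.Helper16.FieldCosetOrth
  Cfsg.Agent.Lib.Helper16.FieldCentOrth

variable {F : Type*} [Field F] [Fintype F] {ι : Type} [Fintype ι] [DecidableEq ι]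
  (Q : QuadraticForm F (ι → F)) [hS : Std Q] (p : ℕ) [hp : Fact p.Prime] [hcp : CharP F p]
  (hP : HP Q) (h2 : (2 : F) ≠ 0)

include hp hcp hP h2 in
/-- **case (a)**: a subgroup of odd order of the centraliser of the automorphism of an involutory
isometry of determinant `-1`, normalised by the inner automorphisms in this centraliser, is trivial -/
theorem odd_normal_trivial_of_invol (heven : Even (Fintype.card ι)) (g : ↥(GO Q))
    (hM : ((g.1 : GL ι F) : Matrix ι ι F) * ((g.1 : GL ι F) : Matrix ι ι F) = 1)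
    (hiso : ∀ v, Q (((g.1 : GL ι F) : Matrix ι ι F) *ᵥ v) = Q v)
    (hdet : ((g.1 : GL ι F) : Matrix ι ι F).det = -1)
    (N : Subgroup (MulAut (Cfsg.POmega F ⇑Q))) [Finite N] (hodd : Odd (Nat.card N))
    (hNx : ∀ n ∈ N, n * fGO Q g = fGO Q g * n)
    (hNn : ∀ c ∈ Cfsg.Inn (Cfsg.POmega F ⇑Q), c * fGO Q g = fGO Q g * c →
      ∀ n ∈ N, c * n * c⁻¹ ∈ N) : ∀ n ∈ N, n = 1 := by
  obtain ⟨M, hg⟩ : ∃ M : Matrix ι ι F, ((g.1 : GL ι F) : Matrix ι ι F) = M := ⟨_, rfl⟩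
  rw [hg] at hM hiso hdet
  obtain ⟨d₁, d₂, L, hL⟩ := exists_eigen_coords h2 M hM
  obtain ⟨hdetM, hsum⟩ := det_of_eigen_coords L M hL
  rw [Fintype.card_fin] at hdetM
  rw [Fintype.card_fin, Fintype.card_fin] at hsum
  have h7 := hS.seven
  have hd₂ : Odd d₂ := by
    rw [← Nat.not_even_iff_odd]
    intro he
    rw [hdetM, he.neg_one_pow] at hdet
    apply h2
    linear_combination hdet
  have hd₁ : Odd d₁ := by
    rw [← Nat.not_even_iff_odd]
    intro he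
    have : Odd (d₁ + d₂) := he.add_odd hd₂
    rw [hsum, ← Nat.not_even_iff_odd] at this
    exact this heven
  obtain ⟨j₁, hj₁⟩ := hd₁
  obtain ⟨j₂, hj₂⟩ := hd₂
  by_cases h5 : 5 ≤ d₁
  · apply odd_normal_trivial_aux Q L M hL hiso h2 p hP g hg hM (by rw [Fintype.card_fin]; exact h5)
      (by rw [Fintype.card_fin]; omega) N hodd hNx hNn
  · obtain ⟨g', hg'def⟩ : ∃ g', g' = negGO Q M hiso hS.nondeg := ⟨_, rfl⟩
    have hg' : ((g'.1 : GL ι F) : Matrix ι ι F) = -M := by rw [hg'def]; rfl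
    have hfg' : fGO Q g' = fGO Q g := by rw [hg'def]; exact fGO_negGO Q M hiso g hg
    have hM' : (-M) * (-M) = 1 := by rw [neg_mul_neg, hM]
    have hNx' : ∀ n ∈ N, n * fGO Q g' = fGO Q g' * n := by rw [hfg']; exact hNx
    have hNn' : ∀ c ∈ Cfsg.Inn (Cfsg.POmega F ⇑Q), c * fGO Q g' = fGO Q g' * c →
        ∀ n ∈ N, c * n * c⁻¹ ∈ N := by rw [hfg']; exact hNn
    apply odd_normal_trivial_aux Q (swapL L) (-M) (hL_swap L M hL) (hiso_swap Q M hiso) h2 p hP g'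
      hg' hM' (by rw [Fintype.card_fin]; omega) (by rw [Fintype.card_fin]; omega) N hodd hNx' hNn'

end Cfsg.Agent.Lib.Helper16.LocalBalMinus
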