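import Mathlib
import Cfsg.Agent.Lib.Helper16.LocalBalMinusD

/-!
# Local balance for the minus type orthogonal groups, part J: automorphisms centralising an embedded
orthogonal group act by scalars of the small field
-/

set_option autoImplicit false
set_option linter.unusedSectionVars false
set_option linter.unusedVariables false
set_option linter.style.haveILetI false

namespace Cfsg.Agent.Lib.Helper16.LocalBalMinus

open Matrix Cfsg QuadraticMap Module Cfsg.Agent.Lib.Helper6 Cfsg.Agent.Lib.Helper6.AutOrt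
  Cfsg.Agent.Lib.Helper15

open scoped commutatorElement

variable {F : Type*} [Field F] [Fintype F] {ι : Type} [Fintype ι] [DecidableEq ι]
  {Q : QuadraticForm F (ι → F)} [hS : Std Q]
  {F' : Type*} [Field F'] [Fintype F'] {ι' : Type} [Fintype ι'] [DecidableEq ι']
  (Q' : QuadraticForm F' (ι' → F'))
  (hnd' : (polarBilin Q').Nondegenerate) (h5' : 5 ≤ Fintype.card ι')
  (emb : ↥(Cfsg.isometryGroup F' ⇑Q') →* ↥(Cfsg.isometryGroup F ⇑Q))
  (Θ : (ι' → F') → (ι → F)) (hΘadd : ∀ a b, Θ (a + b) = Θ a + Θ b)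
  (hΘinj : Function.Injective Θ)
  (hE1 : ∀ h v', gact Q (emb h) (Θ v') = Θ (gact Q' h v'))

include hnd' h5' hΘadd hΘinj hE1 in
/-- a semilinear similarity whose automorphism centralises the embedded `Ω` acts on the small space
by a scalar -/
theorem scalar_of_comm_embAut (Φ : SemiSimO Q) (T : (ι' → F') → (ι' → F'))
    (hT : ∀ v', Φ.S (Θ v') = Θ (T v'))
    (hcomm : ∀ ω : ↥(Cfsg.Omega F' ⇑Q'), Φ.gam * embAut Q' emb ω = embAut Q' emb ω * Φ.gam) :
    ∃ c : F', ∀ v', T v' = c • v' := by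
  classical
  have hperf := Omega_perfect Q' hnd' h5'
  have hTadd : ∀ x y, T (x + y) = T x + T y := by
    intro x y
    apply hΘinj
    rw [← hT, hΘadd, Φ.add, hT, hT, hΘadd]
  have hz : ∀ ω : ↥(Cfsg.Omega F' ⇑Q'),
      Φ.cOm (embOm Q' emb ω) * (embOm Q' emb ω)⁻¹ ∈ Subgroup.center ↥(Cfsg.Omega F ⇑Q) := by
    intro ω
    have h1 : Φ.gam * embAut Q' emb ω * Φ.gam⁻¹ = embAut Q' emb ω := by
      rw [hcomm ω, mul_inv_cancel_right]
    rw [embAut_apply, conj_conj, SemiSimO.gam_pu] at h1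
    rw [← pu_eq_one_iff, map_mul, map_inv, ← conj_eq_one_iff, map_mul, map_inv, h1,
      mul_inv_cancel]
  have hid : ∀ ω : ↥(Cfsg.Omega F' ⇑Q'), Φ.cOm (embOm Q' emb ω) = embOm Q' emb ω := by
    have hle : commutator ↥(Cfsg.Omega F' ⇑Q') ≤
        ((Φ.cOm.toMonoidHom).comp (embOm Q' emb)).eqLocus (embOm Q' emb) := by
      rw [commutator_def, Subgroup.commutator_le]
      intro a _ b _
      change Φ.cOm (embOm Q' emb ⁅a, b⁆) = embOm Q' emb ⁅a, b⁆
      rw [map_commutatorElement, map_commutatorElement]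
      have e2 : Φ.cOm (embOm Q' emb a) =
          (Φ.cOm (embOm Q' emb a) * (embOm Q' emb a)⁻¹) * embOm Q' emb a := by group
      have e3 : Φ.cOm (embOm Q' emb b) =
          (Φ.cOm (embOm Q' emb b) * (embOm Q' emb b)⁻¹) * embOm Q' emb b := by group
      rw [e2, e3, comm_central _ _ _ _ (hz a) (hz b)]
    rw [hperf] at hle
    intro ω
    exact hle (Subgroup.mem_top ω)
  apply scalar_of_comm_sieg Q' hnd' h5' T hTadd
  intro u w hu huw v
  apply hΘinj
  obtain ⟨ω, hω⟩ : ∃ ω : ↥(Cfsg.Omega F' ⇑Q'), ω =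
      ⟨siegIso Q' u w hu huw, siegIso_mem_Omega Q' hnd' h5' u w hu huw⟩ := ⟨_, rfl⟩
  have h1 := Φ.av_cOm (embOm Q' emb ω) (Θ v)
  rw [hid ω] at h1
  change gact Q (emb ω.1) (Φ.S (Θ v)) = Φ.S (gact Q (emb ω.1) (Θ v)) at h1
  rw [hE1, hT, hT, hE1, hω] at h1
  exact h1

end Cfsg.Agent.Lib.Helper16.LocalBalMinus
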