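import Mathlib
import Cfsg.Agent.Lib.Helper16.LocalBalMinusJ

/-!
# Local balance for the minus type orthogonal groups, part K: the structure over the quadratic
extension attached to a similarity whose square is a non-square scalar
-/

set_option autoImplicit false
set_option linter.unusedSectionVars false
set_option linter.unusedVariables false
set_option linter.style.haveILetI false

namespace Cfsg.Agent.Lib.Helper16.LocalBalMinus

open Matrix Cfsg QuadraticMap Module Cfsg.Agent.Lib.Helper6 Cfsg.Agent.Lib.Helper6.AutOrt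
  Cfsg.Agent.Lib.Helper15

variable {F : Type*} [Field F] {ι : Type} [Fintype ι] [DecidableEq ι]

theorem fact_of_nonsquare (μ : F) (hμ : ¬ IsSquare μ) : Fact (∀ r : F, r ^ 2 ≠ μ + 0 * r) :=
  ⟨fun r h => hμ ⟨r, by linear_combination -h⟩⟩

/-- the quadratic extension is finite -/
@[instance_reducible] noncomputable def fintypeQA [Fintype F] (μ : F) :
    Fintype (QuadraticAlgebra F μ 0) :=
  Fintype.ofEquiv _ (QuadraticAlgebra.equivProd μ 0).symm

theorem card_QA [Fintype F] (μ : F) :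
    @Fintype.card (QuadraticAlgebra F μ 0) (fintypeQA μ) = Fintype.card F * Fintype.card F := by
  rw [@Fintype.card_congr _ _ (fintypeQA μ) _ (QuadraticAlgebra.equivProd μ 0), Fintype.card_prod]

/-- coordinates over the quadratic extension -/
theorem exists_K_coords [Finite F] (μ : F) [Fact (∀ r : F, r ^ 2 ≠ μ + 0 * r)] (M : Matrix ι ι F)
    (hMM : M * M = μ • (1 : Matrix ι ι F)) :
    ∃ (n : ℕ) (Θ : (Fin n → QuadraticAlgebra F μ 0) ≃+ (ι → F)),
      ∀ (c : QuadraticAlgebra F μ 0) (y : Fin n → QuadraticAlgebra F μ 0),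
        Θ (c • y) = c.re • Θ y + c.im • (M *ᵥ Θ y) := by
  obtain ⟨u, hu⟩ : ∃ u : Module.End F (ι → F), u = Matrix.toLin' M := ⟨_, rfl⟩
  have huu : u * u = μ • (1 : Module.End F (ι → F)) + (0 : F) • u := by
    rw [zero_smul, add_zero, hu, Module.End.mul_eq_comp, ← Matrix.toLin'_mul, hMM, map_smul,
      Matrix.toLin'_one]
    rfl
  obtain ⟨f, hf⟩ : ∃ f : QuadraticAlgebra F μ 0 →ₐ[F] Module.End F (ι → F),
      f = QuadraticAlgebra.lift ⟨u, huu⟩ := ⟨_, rfl⟩
  letI : Module (QuadraticAlgebra F μ 0) (ι → F) := Module.compHom (ι → F) f.toRingHom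
  have hsmul : ∀ (c : QuadraticAlgebra F μ 0) (v : ι → F), c • v = c.re • v + c.im • (M *ᵥ v) := by
    intro c v
    change f c v = _
    rw [hf, QuadraticAlgebra.lift_apply_apply, LinearMap.add_apply, LinearMap.smul_apply,
      LinearMap.smul_apply]
    change c.re • v + c.im • u v = _
    rw [hu, Matrix.toLin'_apply]
  haveI : Module.Finite (QuadraticAlgebra F μ 0) (ι → F) := Module.Finite.of_finite
  obtain ⟨b, hb⟩ : ∃ b, b = Module.finBasis (QuadraticAlgebra F μ 0) (ι → F) := ⟨_, rfl⟩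
  refine ⟨Module.finrank (QuadraticAlgebra F μ 0) (ι → F), b.equivFun.symm.toAddEquiv, ?_⟩
  intro c y
  change b.equivFun.symm (c • y) = c.re • b.equivFun.symm y + c.im • (M *ᵥ b.equivFun.symm y)
  rw [map_smul, hsmul]

section ext
variable [Fintype F] (μ : F) [hfact : Fact (∀ r : F, r ^ 2 ≠ μ + 0 * r)] (M : Matrix ι ι F)
  (hMM : M * M = μ • (1 : Matrix ι ι F)) (Q : QuadraticForm F (ι → F))
  (hsim : ∀ v, Q (M *ᵥ v) = μ * Q v) (h2 : (2 : F) ≠ 0)
  {n : ℕ} (Θ : (Fin n → QuadraticAlgebra F μ 0) ≃+ (ι → F))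
  (hΘ : ∀ (c : QuadraticAlgebra F μ 0) (y : Fin n → QuadraticAlgebra F μ 0),
    Θ (c • y) = c.re • Θ y + c.im • (M *ᵥ Θ y))

include hfact in
theorem mu_ne_zero : μ ≠ 0 := by
  intro h
  have := hfact.out 0
  rw [h] at this
  simp at this

include hMM in
theorem MM_apply (v : ι → F) : M *ᵥ (M *ᵥ v) = μ • v := by
  rw [Matrix.mulVec_mulVec, hMM, Matrix.smul_mulVec, Matrix.one_mulVec]

include hsim in
theorem polar_MM (v v' : ι → F) :
    polar (⇑Q) (M *ᵥ v) (M *ᵥ v') = μ * polar (⇑Q) v v' := by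
  unfold polar
  rw [← Matrix.mulVec_add, hsim, hsim, hsim]
  ring

include hfact hMM hsim in
theorem polar_M_adj (v v' : ι → F) :
    polar (⇑Q) (M *ᵥ v) v' = polar (⇑Q) v (M *ᵥ v') := by
  have hμ0 := mu_ne_zero μ
  have e : v' = μ⁻¹ • (M *ᵥ (M *ᵥ v')) := by
    rw [MM_apply μ M hMM, smul_smul, inv_mul_cancel₀ hμ0, one_smul]
  nth_rewrite 1 [e]
  rw [polar_smul_right, polar_MM μ M Q hsim, smul_eq_mul, ← mul_assoc, inv_mul_cancel₀ hμ0, one_mul]

include hfact hMM hsim hΘ h2 in
/-- the bilinear form over the quadratic extension -/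
noncomputable def extBilin :
    LinearMap.BilinMap (QuadraticAlgebra F μ 0) (Fin n → QuadraticAlgebra F μ 0)
      (QuadraticAlgebra F μ 0) :=
  LinearMap.mk₂ (QuadraticAlgebra F μ 0)
    (fun y y' => ⟨2⁻¹ * polar (⇑Q) (Θ y) (Θ y'), (2 * μ)⁻¹ * polar (⇑Q) (M *ᵥ Θ y) (Θ y')⟩)
    (by
      intro y₁ y₂ y'
      ext
      · simp only [map_add, polar_add_left, QuadraticAlgebra.re_add]
        ring
      · simp only [map_add, Matrix.mulVec_add, polar_add_left, QuadraticAlgebra.im_add]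
        ring)
    (by
      intro c y y'
      have hμ0 := mu_ne_zero μ
      ext
      · simp only [hΘ, polar_add_left, polar_smul_left, smul_eq_mul, QuadraticAlgebra.re_mul]
        field_simp
      · simp only [hΘ, Matrix.mulVec_add, Matrix.mulVec_smul, MM_apply μ M hMM, polar_add_left,
          polar_smul_left, smul_eq_mul, QuadraticAlgebra.im_mul]
        field_simp
        ring)
    (by
      intro y y₁ y₂
      ext
      · simp only [map_add, polar_add_right, QuadraticAlgebra.re_add]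
        ring
      · simp only [map_add, polar_add_right, QuadraticAlgebra.im_add]
        ring)
    (by
      intro c y y'
      have hμ0 := mu_ne_zero μ
      ext
      · simp only [hΘ, polar_add_right, polar_smul_right, smul_eq_mul, QuadraticAlgebra.re_mul,
          ← polar_M_adj μ M hMM Q hsim]
        field_simp
      · simp only [hΘ, polar_add_right, polar_smul_right, smul_eq_mul, QuadraticAlgebra.im_mul,
          polar_MM μ M Q hsim]
        field_simp
        ring)

theorem extBilin_apply (y y' : Fin n → QuadraticAlgebra F μ 0) :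
    extBilin μ M hMM Q hsim h2 Θ hΘ y y' =
      ⟨2⁻¹ * polar (⇑Q) (Θ y) (Θ y'), (2 * μ)⁻¹ * polar (⇑Q) (M *ᵥ Θ y) (Θ y')⟩ := rfl

/-- the quadratic form over the quadratic extension -/
noncomputable def extQ : QuadraticForm (QuadraticAlgebra F μ 0) (Fin n → QuadraticAlgebra F μ 0) :=
  (extBilin μ M hMM Q hsim h2 Θ hΘ).toQuadraticMap

theorem re_extQ (y : Fin n → QuadraticAlgebra F μ 0) :
    (extQ μ M hMM Q hsim h2 Θ hΘ y).re = Q (Θ y) := by
  change (extBilin μ M hMM Q hsim h2 Θ hΘ y y).re = _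
  rw [extBilin_apply, polar_self, two_smul]
  field_simp
  ring

theorem re_polar_extQ (y y' : Fin n → QuadraticAlgebra F μ 0) :
    (polar (⇑(extQ μ M hMM Q hsim h2 Θ hΘ)) y y').re = polar (⇑Q) (Θ y) (Θ y') := by
  unfold polar
  rw [QuadraticAlgebra.re_sub, QuadraticAlgebra.re_sub, re_extQ μ M hMM Q hsim h2 Θ hΘ,
    re_extQ μ M hMM Q hsim h2 Θ hΘ, re_extQ μ M hMM Q hsim h2 Θ hΘ, map_add]

theorem nondeg_extQ (hnd : (polarBilin Q).Nondegenerate) :
    (polarBilin (extQ μ M hMM Q hsim h2 Θ hΘ)).Nondegenerate := by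
  have hleft : ∀ y : Fin n → QuadraticAlgebra F μ 0,
      (∀ y', polar (⇑(extQ μ M hMM Q hsim h2 Θ hΘ)) y y' = 0) → y = 0 := by
    intro y hy
    have h1 : Θ y = 0 := by
      apply hnd.1
      intro z
      obtain ⟨y', rfl⟩ := Θ.surjective z
      change polar (⇑Q) _ _ = 0
      rw [← re_polar_extQ μ M hMM Q hsim h2 Θ hΘ, hy]
      rfl
    apply Θ.injective
    rw [h1, map_zero]
  constructor
  · intro y hy
    exact hleft y hy
  · intro y hy
    apply hleft
    intro y'
    have := hy y'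
    rw [polarBilin_apply_apply] at this
    rw [polar_comm]
    exact this

/-! ### restriction of scalars for matrices -/

include hΘ in
theorem Θ_smul (a : F) (y : Fin n → QuadraticAlgebra F μ 0) : Θ (a • y) = a • Θ y := by
  have e : a • y = (algebraMap F (QuadraticAlgebra F μ 0) a) • y :=
    (algebraMap_smul (QuadraticAlgebra F μ 0) a y).symm
  rw [e, hΘ, QuadraticAlgebra.algebraMap_re, QuadraticAlgebra.algebraMap_im, zero_smul, add_zero]

/-- the coordinates as a linear equivalence over the small field -/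
noncomputable def ΘF : (Fin n → QuadraticAlgebra F μ 0) ≃ₗ[F] (ι → F) :=
  { Θ with map_smul' := fun a y => Θ_smul μ M Θ hΘ a y }

theorem ΘF_apply (y : Fin n → QuadraticAlgebra F μ 0) : ΘF μ M Θ hΘ y = Θ y := rfl

/-- restriction of scalars of a matrix -/
noncomputable def resMat (h : Matrix (Fin n) (Fin n) (QuadraticAlgebra F μ 0)) : Matrix ι ι F :=
  LinearMap.toMatrix' ((ΘF μ M Θ hΘ).toLinearMap ∘ₗ ((Matrix.toLin' h).restrictScalars F) ∘ₗ
    (ΘF μ M Θ hΘ).symm.toLinearMap)

theorem resMat_mulVec (h : Matrix (Fin n) (Fin n) (QuadraticAlgebra F μ 0))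
    (y : Fin n → QuadraticAlgebra F μ 0) : resMat μ M Θ hΘ h *ᵥ Θ y = Θ (h *ᵥ y) := by
  unfold resMat
  rw [← Matrix.toLin'_apply, Matrix.toLin'_toMatrix', LinearMap.comp_apply, LinearMap.comp_apply,
    LinearEquiv.coe_coe, LinearEquiv.coe_coe, ← ΘF_apply μ M Θ hΘ y, LinearEquiv.symm_apply_apply,
    LinearMap.restrictScalars_apply, Matrix.toLin'_apply]
  rfl

theorem resMat_mul (h h' : Matrix (Fin n) (Fin n) (QuadraticAlgebra F μ 0)) :
    resMat μ M Θ hΘ (h * h') = resMat μ M Θ hΘ h * resMat μ M Θ hΘ h' := by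
  apply matrix_ext_mulVec
  intro x
  obtain ⟨y, rfl⟩ := Θ.surjective x
  rw [resMat_mulVec, ← Matrix.mulVec_mulVec, ← Matrix.mulVec_mulVec, resMat_mulVec, resMat_mulVec]

theorem resMat_one : resMat μ M Θ hΘ 1 = 1 := by
  apply matrix_ext_mulVec
  intro x
  obtain ⟨y, rfl⟩ := Θ.surjective x
  rw [resMat_mulVec, Matrix.one_mulVec, Matrix.one_mulVec]

/-- the embedding of the isometry group over the quadratic extension -/
noncomputable def embK :
    ↥(Cfsg.isometryGroup (QuadraticAlgebra F μ 0) ⇑(extQ μ M hMM Q hsim h2 Θ hΘ)) →*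
      ↥(Cfsg.isometryGroup F ⇑Q) where
  toFun h := mkIso Q (resMat μ M Θ hΘ ((h.1 : GL (Fin n) (QuadraticAlgebra F μ 0)) :
        Matrix (Fin n) (Fin n) (QuadraticAlgebra F μ 0)))
      (resMat μ M Θ hΘ (((h.1)⁻¹ : GL (Fin n) (QuadraticAlgebra F μ 0)) :
        Matrix (Fin n) (Fin n) (QuadraticAlgebra F μ 0)))
      (by rw [← resMat_mul, Units.mul_inv, resMat_one])
      (by rw [← resMat_mul, Units.inv_mul, resMat_one])
      (fun x => by
        obtain ⟨y, rfl⟩ := Θ.surjective x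
        rw [resMat_mulVec, ← re_extQ μ M hMM Q hsim h2 Θ hΘ, ← re_extQ μ M hMM Q hsim h2 Θ hΘ]
        congr 1
        exact Q_gact (extQ μ M hMM Q hsim h2 Θ hΘ) h y)
  map_one' := by
    apply iso_ext_gact
    intro x
    obtain ⟨y, rfl⟩ := Θ.surjective x
    rw [gact_mkIso, gact_one]
    change resMat μ M Θ hΘ 1 *ᵥ Θ y = Θ y
    rw [resMat_one, Matrix.one_mulVec]
  map_mul' h h' := by
    apply iso_ext_gact
    intro x
    rw [gact_mul, gact_mkIso, gact_mkIso, gact_mkIso, Matrix.mulVec_mulVec, ← resMat_mul]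
    rfl

theorem gact_embK (h : ↥(Cfsg.isometryGroup (QuadraticAlgebra F μ 0)
    ⇑(extQ μ M hMM Q hsim h2 Θ hΘ))) (y : Fin n → QuadraticAlgebra F μ 0) :
    gact Q (embK μ M hMM Q hsim h2 Θ hΘ h) (Θ y) =
      Θ (gact (extQ μ M hMM Q hsim h2 Θ hΘ) h y) := by
  change resMat μ M Θ hΘ _ *ᵥ Θ y = _
  rw [resMat_mulVec]
  rfl

/-- a linear similarity commuting with `M`, over the quadratic extension -/
noncomputable def extSemi (Φ : SemiSimO Q) (hσ : Φ.σ = RingEquiv.refl F)
    (hΦM : ∀ v, Φ.S (M *ᵥ v) = M *ᵥ Φ.S v) : SemiSimO (extQ μ M hMM Q hsim h2 Θ hΘ) where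
  S y := Θ.symm (Φ.S (Θ y))
  σ := RingEquiv.refl _
  ν := algebraMap F (QuadraticAlgebra F μ 0) Φ.ν
  hν := by
    intro h
    have := congrArg QuadraticAlgebra.re h
    rw [QuadraticAlgebra.algebraMap_re] at this
    exact Φ.hν this
  add y y' := by
    apply Θ.injective
    rw [AddEquiv.apply_symm_apply, map_add, map_add, Φ.add, AddEquiv.apply_symm_apply,
      AddEquiv.apply_symm_apply]
  smul c y := by
    apply Θ.injective
    rw [AddEquiv.apply_symm_apply, hΘ, Φ.add, Φ.smul, Φ.smul, hσ, hΦM, RingEquiv.refl_apply,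
      RingEquiv.refl_apply, RingEquiv.refl_apply, hΘ, AddEquiv.apply_symm_apply]
  form y := by
    change extBilin μ M hMM Q hsim h2 Θ hΘ _ _ = _ * extBilin μ M hMM Q hsim h2 Θ hΘ y y
    rw [extBilin_apply, extBilin_apply, AddEquiv.apply_symm_apply, ← hΦM, Φ.polar_S, Φ.polar_S, hσ]
    ext
    · simp only [RingEquiv.refl_apply, QuadraticAlgebra.re_mul, QuadraticAlgebra.algebraMap_re,
        QuadraticAlgebra.algebraMap_im]
      ring
    · simp only [RingEquiv.refl_apply, QuadraticAlgebra.im_mul, QuadraticAlgebra.algebraMap_re,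
        QuadraticAlgebra.algebraMap_im]
      ring

theorem extSemi_S (Φ : SemiSimO Q) (hσ : Φ.σ = RingEquiv.refl F)
    (hΦM : ∀ v, Φ.S (M *ᵥ v) = M *ᵥ Φ.S v) (y : Fin n → QuadraticAlgebra F μ 0) :
    Φ.S (Θ y) = Θ ((extSemi μ M hMM Q hsim h2 Θ hΘ Φ hσ hΦM).S y) :=
  (Θ.apply_symm_apply _).symm

include Θ in
theorem two_mul_dim : 2 * n = Fintype.card ι := by
  letI := fintypeQA μ
  have h1 := Fintype.card_congr Θ.toEquiv
  rw [Fintype.card_fun, Fintype.card_fun, Fintype.card_fin, card_QA, ← pow_two, ← pow_mul] at h1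
  exact Nat.pow_right_injective Fintype.one_lt_card h1

end ext

end Cfsg.Agent.Lib.Helper16.LocalBalMinus
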