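import Mathlib
import Cfsg.Agent.Lib.Helper16.LocalBalMinusK
import Cfsg.Agent.Lib.Helper16.LocalBalMinusE

/-!
# Local balance for the minus type orthogonal groups, part L: a subgroup of odd order normalised by
the centraliser of a similarity whose square is a non-square scalar is trivial
-/

set_option autoImplicit false
set_option linter.unusedSectionVars false
set_option linter.unusedVariables false
set_option linter.style.haveILetI false

namespace Cfsg.Agent.Lib.Helper16.LocalBalMinus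

open Matrix Cfsg QuadraticMap Module Cfsg.Agent.Lib.Helper6 Cfsg.Agent.Lib.Helper6.AutOrt
  Cfsg.Agent.Lib.Helper6.SimAut
  Cfsg.Agent.Lib.Helper15 Cfsg.Agent.Lib.Helper16.FieldCosetOrth
  Cfsg.Agent.Lib.Helper16.FieldCentOrth

variable {F : Type*} [Field F] [Fintype F] {ι : Type} [Fintype ι] [DecidableEq ι]
  {Q : QuadraticForm F (ι → F)} [hS : Std Q] (p : ℕ) [hp : Fact p.Prime] [hcp : CharP F p]

include hp hcp in
/-- a linear similarity of odd projective order commuting projectively with a similarity whose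
square is a scalar commutes with it -/
theorem comm_of_odd_nonsq (Φ : SemiSimO Q) (hσ : Φ.σ = RingEquiv.refl F) (g : ↥(GO Q)) (μ : F)
    (hμ0 : μ ≠ 0) (h2 : (2 : F) ≠ 0)
    (hMM : (g.1 : Matrix ι ι F) * (g.1 : Matrix ι ι F) = μ • (1 : Matrix ι ι F))
    (h : Φ.gam * fGO Q g = fGO Q g * Φ.gam) (k : ℕ) (hk : Odd k) (hΦk : Φ.gam ^ k = 1) :
    ∀ y, Φ.S ((g.1 : Matrix ι ι F) *ᵥ y) = (g.1 : Matrix ι ι F) *ᵥ Φ.S y := by
  obtain ⟨M, hMdef⟩ : ∃ M : Matrix ι ι F, M = (g.1 : Matrix ι ι F) := ⟨_, rfl⟩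
  rw [← hMdef] at hMM ⊢
  obtain ⟨c, hc0, hc⟩ := comm_fGO p Φ g h
  rw [← hMdef] at hc
  have hMMv : ∀ v, M *ᵥ (M *ᵥ v) = μ • v := by
    intro v
    rw [Matrix.mulVec_mulVec, hMM, Matrix.smul_mulVec, Matrix.one_mulVec]
  obtain ⟨y₀, hy₀⟩ := exists_ne_zero_vec Q
  have hcc : c * c = 1 := by
    have h1 := hc (M *ᵥ y₀)
    rw [hMMv, hc, Matrix.mulVec_smul, hMMv, Φ.smul, hσ, smul_smul, smul_smul] at h1
    have h3 : ((c * c - 1) * μ) • Φ.S y₀ = 0 := by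
      rw [sub_mul, sub_smul, one_mul, ← h1]
      simp
    rcases smul_eq_zero.mp h3 with h4 | h4
    · rcases mul_eq_zero.mp h4 with h5 | h5
      · linear_combination h5
      · exact absurd h5 hμ0
    · exfalso
      rw [← Φ.S_zero] at h4
      exact hy₀ (Φ.S_injective h4)
  have hc1 : c = 1 ∨ c = -1 := by
    have : (c - 1) * (c + 1) = 0 := by linear_combination hcc
    rcases mul_eq_zero.mp this with h' | h'
    · left; linear_combination h'
    · right; linear_combination h'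
  have hgam : (powS Φ k).gam = 1 := by rw [gam_powS, hΦk]
  obtain ⟨-, d, hd⟩ := scalar_of_gam_eq_one p _ hgam
  have hd0 : d ≠ 0 := by
    rintro rfl
    have h1 := hd y₀
    rw [zero_smul, ← (powS Φ k).S_zero] at h1
    exact hy₀ ((powS Φ k).S_injective h1)
  have hck : c ^ k = 1 := by
    have h1 := powS_comm_sign Φ M c hc1 hc k y₀
    rw [hd, hd, Matrix.mulVec_smul, smul_smul] at h1
    have hMy : M *ᵥ y₀ ≠ 0 := by
      intro h0
      have := hMMv y₀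
      rw [h0, Matrix.mulVec_zero] at this
      rcases smul_eq_zero.mp this.symm with h5 | h5
      · exact hμ0 h5
      · exact hy₀ h5
    have h3 : (d - c ^ k * d) • (M *ᵥ y₀) = 0 := by rw [sub_smul, ← h1, sub_self]
    rcases smul_eq_zero.mp h3 with h4 | h4
    · have h5 : d * (1 - c ^ k) = 0 := by linear_combination h4
      rcases mul_eq_zero.mp h5 with h6 | h6
      · exact absurd h6 hd0
      · linear_combination -h6
    · exact absurd h4 hMy
  have hc' : c = 1 := by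
    rcases hc1 with h' | h'
    · exact h'
    · exfalso
      rw [h', hk.neg_one_pow] at hck
      apply h2
      linear_combination -hck
  intro y
  rw [hc, hc', one_smul]

include hp hcp in
/-- a linear similarity of the shape `a + b M`, `M² = μ` a non-square, induces the trivial
automorphism or the automorphism of `M` -/
theorem gam_of_re_im (Φ : SemiSimO Q) (hσ : Φ.σ = RingEquiv.refl F) (g : ↥(GO Q)) (μ : F)
    (hμ : ¬ IsSquare μ) (h2 : (2 : F) ≠ 0)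
    (hMM : (g.1 : Matrix ι ι F) * (g.1 : Matrix ι ι F) = μ • (1 : Matrix ι ι F))
    (hsim : ∀ v, Q ((g.1 : Matrix ι ι F) *ᵥ v) = μ * Q v) (a b : F)
    (hab : ∀ v, Φ.S v = a • v + b • ((g.1 : Matrix ι ι F) *ᵥ v)) :
    Φ.gam = 1 ∨ Φ.gam = fGO Q g := by
  haveI := fact_of_nonsquare μ hμ
  obtain ⟨M, hMdef⟩ : ∃ M : Matrix ι ι F, M = (g.1 : Matrix ι ι F) := ⟨_, rfl⟩
  rw [← hMdef] at hMM hsim hab
  have hMMv : ∀ v, M *ᵥ (M *ᵥ v) = μ • v := MM_apply μ M hMM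
  obtain ⟨y₀, hy₀⟩ := exists_ne_zero_vec Q
  have hprod : a * b = 0 := by
    by_contra hne
    apply hμ
    have key : ∀ v v', (2 * (a * b)) * polar (⇑Q) v (M *ᵥ v') =
        (Φ.ν - a * a - μ * (b * b)) * polar (⇑Q) v v' := by
      intro v v'
      have h1 := Φ.polar_S v v'
      rw [hab, hab, hσ] at h1
      simp only [polar_add_left, polar_add_right, polar_smul_left, polar_smul_right,
        polar_MM μ M Q hsim, polar_M_adj μ M hMM Q hsim, smul_eq_mul, RingEquiv.refl_apply] at h1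
      linear_combination h1
    have h3 : ∀ v', (2 * (a * b)) • (M *ᵥ v') = (Φ.ν - a * a - μ * (b * b)) • v' := by
      intro v'
      have h0 : (2 * (a * b)) • (M *ᵥ v') - (Φ.ν - a * a - μ * (b * b)) • v' = 0 := by
        apply hS.nondeg.2
        intro v
        rw [polarBilin_apply_apply, polar_sub_right, polar_smul_right, polar_smul_right, smul_eq_mul,
          smul_eq_mul, key, sub_self]
      exact sub_eq_zero.mp h0
    have h2ab : (2 * (a * b)) ≠ 0 := mul_ne_zero h2 hne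
    obtain ⟨t, ht⟩ : ∃ t, t = (2 * (a * b))⁻¹ * (Φ.ν - a * a - μ * (b * b)) := ⟨_, rfl⟩
    have h4 : ∀ v', M *ᵥ v' = t • v' := by
      intro v'
      rw [ht, mul_smul, ← h3, smul_smul, inv_mul_cancel₀ h2ab, one_smul]
    refine ⟨t, ?_⟩
    have h5 := hMMv y₀
    rw [h4, h4, smul_smul] at h5
    have h6 : (t * t - μ) • y₀ = 0 := by rw [sub_smul, h5, sub_self]
    rcases smul_eq_zero.mp h6 with h7 | h7
    · linear_combination -h7
    · exact absurd h7 hy₀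
  rcases mul_eq_zero.mp hprod with ha | hb
  · right
    have hb0 : b ≠ 0 := by
      rintro rfl
      have h1 := hab y₀
      rw [ha, zero_smul, zero_smul, add_zero, ← Φ.S_zero] at h1
      exact hy₀ (Φ.S_injective h1)
    rw [fGO_eq_gam]
    apply gam_eq_of_S_smul _ _ b hb0
    intro v
    rw [hab, ha, zero_smul, zero_add, simGO_S, hMdef]
  · left
    apply SemiSimO.gam_eq_one_of_smul _ a
    intro v
    rw [hab, hb, zero_smul, add_zero]

include hp hcp in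
/-- **case (b)**: a subgroup of odd order of the centraliser of the automorphism of a similarity
whose square is a non-square scalar, normalised by the inner automorphisms in this centraliser, is
trivial -/
theorem odd_normal_trivial_of_nonsquare (hP : HP Q) (h2 : (2 : F) ≠ 0) (g : ↥(GO Q)) (μ : F)
    (hμ : ¬ IsSquare μ)
    (hMM : (g.1 : Matrix ι ι F) * (g.1 : Matrix ι ι F) = μ • (1 : Matrix ι ι F))
    (hsim : ∀ v, Q ((g.1 : Matrix ι ι F) *ᵥ v) = μ * Q v) (h10 : 10 ≤ Fintype.card ι)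
    (N : Subgroup (MulAut (Cfsg.POmega F ⇑Q))) [Finite N] (hodd : Odd (Nat.card N))
    (hNx : ∀ n ∈ N, n * fGO Q g = fGO Q g * n)
    (hNn : ∀ c ∈ Cfsg.Inn (Cfsg.POmega F ⇑Q), c * fGO Q g = fGO Q g * c →
      ∀ n ∈ N, c * n * c⁻¹ ∈ N) : ∀ n ∈ N, n = 1 := by
  classical
  haveI hfact := fact_of_nonsquare μ hμ
  letI := fintypeQA μ
  have hμ0 : μ ≠ 0 := mu_ne_zero μ
  obtain ⟨M, hMdef⟩ : ∃ M : Matrix ι ι F, M = (g.1 : Matrix ι ι F) := ⟨_, rfl⟩
  obtain ⟨n', Θ, hΘ⟩ := exists_K_coords μ (g.1 : Matrix ι ι F) hMM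
  have hdim := two_mul_dim μ Θ
  have h5' : 5 ≤ Fintype.card (Fin n') := by rw [Fintype.card_fin]; omega
  obtain ⟨Q', hQ'⟩ : ∃ Q', Q' = extQ μ (g.1 : Matrix ι ι F) hMM Q hsim h2 Θ hΘ := ⟨_, rfl⟩
  have hnd' : (polarBilin Q').Nondegenerate := by
    rw [hQ']; exact nondeg_extQ μ _ hMM Q hsim h2 Θ hΘ hS.nondeg
  obtain ⟨emb, hemb⟩ : ∃ emb : ↥(Cfsg.isometryGroup (QuadraticAlgebra F μ 0) ⇑Q') →*
      ↥(Cfsg.isometryGroup F ⇑Q), ∀ h y, gact Q (emb h) (Θ y) = Θ (gact Q' h y) := by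
    subst hQ'
    exact ⟨embK μ _ hMM Q hsim h2 Θ hΘ, gact_embK μ _ hMM Q hsim h2 Θ hΘ⟩
  have hΘadd : ∀ a b, Θ (a + b) = Θ a + Θ b := map_add Θ
  have hΘinj : Function.Injective Θ := Θ.injective
  -- the embedded group centralises the automorphism
  have hMΘ : ∀ y, (g.1 : Matrix ι ι F) *ᵥ Θ y = Θ ((QuadraticAlgebra.omega : QuadraticAlgebra F μ 0) • y) := by
    intro y
    rw [hΘ, QuadraticAlgebra.omega_re, QuadraticAlgebra.omega_im, zero_smul, one_smul, zero_add]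
  have hembM : ∀ (h : ↥(Cfsg.isometryGroup (QuadraticAlgebra F μ 0) ⇑Q')) (x : ι → F),
      gact Q (emb h) ((g.1 : Matrix ι ι F) *ᵥ x) = (g.1 : Matrix ι ι F) *ᵥ gact Q (emb h) x := by
    intro h x
    obtain ⟨y, rfl⟩ := Θ.surjective x
    rw [hMΘ, hemb, gact_smul, ← hMΘ, hemb]
  have hcx : ∀ ω : ↥(Cfsg.Omega (QuadraticAlgebra F μ 0) ⇑Q'),
      embAut Q' emb ω * fGO Q g = fGO Q g * embAut Q' emb ω := by
    intro ω
    rw [embAut_apply]
    apply conj_comm_fGO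
    intro y
    exact hembM ω.1 y
  have hcI : ∀ ω : ↥(Cfsg.Omega (QuadraticAlgebra F μ 0) ⇑Q'),
      embAut Q' emb ω ∈ Cfsg.Inn (Cfsg.POmega F ⇑Q) := fun ω => ⟨_, rfl⟩
  have hpgoN := pgo_normal p hP
  have hpow : ∀ n ∈ N, n ^ Nat.card N = 1 := by
    intro n hn
    have h2' : (⟨n, hn⟩ : ↥N) ^ Nat.card N = 1 := pow_card_eq_one'
    have := congrArg Subtype.val h2'
    rwa [Subgroup.coe_pow, Subgroup.coe_one] at this
  have hgsq : fGO Q g ^ 2 = 1 := by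
    rw [pow_two, ← map_mul, fGO_eq_one_iff' p]
    exact ⟨μ, hMM⟩
  have hxN : fGO Q g ∈ N → fGO Q g = 1 := by
    intro hmem
    have hk := hpow _ hmem
    obtain ⟨j, hj⟩ := hodd
    rw [hj, pow_succ, pow_mul, hgsq, one_pow, one_mul] at hk
    exact hk
  have hshape : ∀ (Φ : SemiSimO Q) (c : QuadraticAlgebra F μ 0),
      (∀ y, Φ.S (Θ y) = Θ (c • y)) →
      ∀ v, Φ.S v = c.re • v + c.im • ((g.1 : Matrix ι ι F) *ᵥ v) := by
    intro Φ c hc v
    obtain ⟨y, rfl⟩ := Θ.surjective v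
    rw [hc, hΘ]
  -- step 1: the part induced by similarities
  have step1 : ∀ n ∈ N, n ∈ Cfsg.pgoAut F ⇑Q → n = 1 := by
    obtain ⟨N₀, hN₀⟩ : ∃ N₀ : Subgroup (MulAut (Cfsg.POmega F ⇑Q)), N₀ = N ⊓ Cfsg.pgoAut F ⇑Q :=
      ⟨_, rfl⟩
    have hle : N₀ ≤ N := by rw [hN₀]; exact inf_le_left
    haveI : Finite ↥N₀ :=
      Finite.of_injective (Subgroup.inclusion hle) (Subgroup.inclusion_injective hle)
    have hodd₀ : Odd (Nat.card ↥N₀) := Odd.of_dvd_nat hodd (Subgroup.card_dvd_of_le hle)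
    have hMN₀ : ∀ ω : ↥(Cfsg.Omega (QuadraticAlgebra F μ 0) ⇑Q'), ∀ n ∈ N₀,
        embAut Q' emb ω * n * (embAut Q' emb ω)⁻¹ ∈ N₀ := by
      intro ω n hn
      rw [hN₀] at hn ⊢
      exact ⟨hNn _ (hcI ω) (hcx ω) n hn.1, hpgoN.conj_mem n hn.2 _⟩
    have hlin : ∀ n ∈ N₀, ∃ Φ : SemiSimO Q, Φ.gam = n ∧ Φ.σ = RingEquiv.refl F ∧
        ∀ y, Φ.S ((g.1 : Matrix ι ι F) *ᵥ y) = (g.1 : Matrix ι ι F) *ᵥ Φ.S y := by
      intro n hn
      rw [hN₀] at hn
      have h1 := hn.2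
      rw [pgoAut_eq_range] at h1
      obtain ⟨h, rfl⟩ := h1
      refine ⟨simGO h, (fGO_eq_gam h).symm, rfl, ?_⟩
      apply comm_of_odd_nonsq p (simGO h) rfl g μ hμ0 h2 hMM _ (Nat.card N) hodd
      · rw [← fGO_eq_gam]; exact hpow _ hn.1
      · rw [← fGO_eq_gam]; exact hNx _ hn.1
    have hE2 : ∀ (h : ↥(Cfsg.isometryGroup (QuadraticAlgebra F μ 0) ⇑Q')),
        ∀ w ∈ (⊥ : AddSubgroup (ι → F)), gact Q (emb h) w = w := by
      intro h w hw
      rw [AddSubgroup.mem_bot] at hw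
      rw [hw, gact_zero]
    have hE3 : ∀ v : ι → F, ∃ (v' : Fin n' → QuadraticAlgebra F μ 0) (w : ι → F),
        w ∈ (⊥ : AddSubgroup (ι → F)) ∧ v = Θ v' + w := by
      intro v
      obtain ⟨y, rfl⟩ := Θ.surjective v
      exact ⟨y, 0, AddSubgroup.zero_mem _, (add_zero _).symm⟩
    have hcompat : ∀ (Φ : SemiSimO Q), Φ.σ = RingEquiv.refl F →
        (∀ y, Φ.S ((g.1 : Matrix ι ι F) *ᵥ y) = (g.1 : Matrix ι ι F) *ᵥ Φ.S y) →
        ∃ Φ' : SemiSimO Q', Compat Q' Θ (⊥ : AddSubgroup (ι → F)) Φ Φ' := by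
      intro Φ hσ hΦM
      subst hQ'
      refine ⟨extSemi μ _ hMM Q hsim h2 Θ hΘ Φ hσ hΦM, extSemi_S μ _ hMM Q hsim h2 Θ hΘ Φ hσ hΦM,
        ?_⟩
      intro w hw
      rw [AddSubgroup.mem_bot] at hw ⊢
      rw [hw, Φ.S_zero]
    have hpre : ∀ n ∈ N₀, ∃ (Φ : SemiSimO Q) (Φ' : SemiSimO Q'), Φ.gam = n ∧
        Compat Q' Θ (⊥ : AddSubgroup (ι → F)) Φ Φ' := by
      intro n hn
      obtain ⟨Φ, hΦn, hσ, hΦM⟩ := hlin n hn
      obtain ⟨Φ', hΦ'⟩ := hcompat Φ hσ hΦM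
      exact ⟨Φ, Φ', hΦn, hΦ'⟩
    intro n hn hnp
    have hn₀ : n ∈ N₀ := by rw [hN₀]; exact ⟨hn, hnp⟩
    obtain ⟨Φ, rfl, hσ, hΦM⟩ := hlin n hn₀
    obtain ⟨Φ', hΦ'⟩ := hcompat Φ hσ hΦM
    obtain ⟨c, hc⟩ := scalar_of_odd_normal Q' hnd' h5' emb Θ hΘadd hΘinj ⊥ hemb hE2 hE3 N₀ hodd₀
      hMN₀ hpre Φ Φ' hn₀ hΦ'
    have hshape' := hshape Φ c (fun y => by
      have := hΦ'.1 y
      rw [this, hc])
    rcases gam_of_re_im p Φ hσ g μ hμ h2 hMM hsim c.re c.im hshape' with h | h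
    · exact h
    · rw [h] at hn ⊢
      exact hxN hn
  -- step 2: the general case
  intro n hn
  obtain ⟨Φ, rfl⟩ := exists_semi p hP n
  have hcomm : ∀ ω : ↥(Cfsg.Omega (QuadraticAlgebra F μ 0) ⇑Q'),
      Φ.gam * embAut Q' emb ω = embAut Q' emb ω * Φ.gam := by
    intro ω
    obtain ⟨c, hcdef⟩ : ∃ c, c = embAut Q' emb ω := ⟨_, rfl⟩
    rw [← hcdef]
    have hcN : c * Φ.gam * c⁻¹ ∈ N := by rw [hcdef]; exact hNn _ (hcI ω) (hcx ω) _ hn
    have hd : c * Φ.gam * c⁻¹ * Φ.gam⁻¹ ∈ N := N.mul_mem hcN (N.inv_mem hn)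
    have hcp' : c ∈ Cfsg.pgoAut F ⇑Q := by rw [hcdef]; exact Inn_le_pgoAut Q (hcI ω)
    have hdp : c * Φ.gam * c⁻¹ * Φ.gam⁻¹ ∈ Cfsg.pgoAut F ⇑Q := by
      have e : c * Φ.gam * c⁻¹ * Φ.gam⁻¹ = c * (Φ.gam * c⁻¹ * Φ.gam⁻¹) := by group
      rw [e]
      exact (Cfsg.pgoAut F ⇑Q).mul_mem hcp'
        (hpgoN.conj_mem _ ((Cfsg.pgoAut F ⇑Q).inv_mem hcp') _)
    have h1 := step1 _ hd hdp
    calc Φ.gam * c = (c * Φ.gam * c⁻¹ * Φ.gam⁻¹)⁻¹ * (c * Φ.gam) := by group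
      _ = c * Φ.gam := by rw [h1, inv_one, one_mul]
  obtain ⟨c, hc⟩ := scalar_of_comm_embAut Q' hnd' h5' emb Θ hΘadd hΘinj hemb Φ
    (fun y => Θ.symm (Φ.S (Θ y))) (fun y => (Θ.apply_symm_apply _).symm) hcomm
  have hshape' := hshape Φ c (fun y => by
    have := hc y
    rw [← this, AddEquiv.apply_symm_apply])
  have hσ : Φ.σ = RingEquiv.refl F := by
    obtain ⟨y₀, hy₀⟩ := exists_ne_zero_vec Q
    have hS0 : Φ.S y₀ ≠ 0 := by
      intro h0
      rw [← Φ.S_zero] at h0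
      exact hy₀ (Φ.S_injective h0)
    ext t
    have h1 := Φ.smul t y₀
    rw [hshape' (t • y₀), Matrix.mulVec_smul, hshape' y₀] at h1
    have h3 : (Φ.σ t - t) • Φ.S y₀ = 0 := by
      rw [sub_smul, hshape' y₀, ← h1]
      module
    rcases smul_eq_zero.mp h3 with h4 | h4
    · change Φ.σ t = t
      linear_combination h4
    · exact absurd h4 hS0
  apply step1 _ hn
  rw [← psiO_ker p hP, MonoidHom.mem_ker, psiO_gam, hσ]
  rfl

end Cfsg.Agent.Lib.Helper16.LocalBalMinus
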