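import Mathlib
import Cfsg.Agent.Lib.Helper16.LocalBalMinusI
import Cfsg.Agent.Lib.Helper16.LocalBalMinusL
import Cfsg.Agent.Lib.Helper16.GraphSplitOrth6

/-!
# Local balance for the minus type orthogonal groups, part M: the automorphisms induced by
similarities which are not inner-diagonal
-/

set_option autoImplicit false
set_option linter.unusedSectionVars false
set_option linter.unusedVariables false
set_option linter.style.haveILetI false

namespace Cfsg.Agent.Lib.Helper16.LocalBalMinus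

open Matrix Cfsg QuadraticMap Module Cfsg.Agent.Lib.Helper6 Cfsg.Agent.Lib.Helper6.AutOrt
  Cfsg.Agent.Lib.Helper6.SimAut Cfsg.Agent.Lib.Helper6.Inndiag Cfsg.Agent.Lib.Helper6.OmegaAut
  Cfsg.Agent.Lib.Helper15 Cfsg.Agent.Lib.Helper16.FieldCosetOrth
  Cfsg.Agent.Lib.Helper16.FieldCentOrth Cfsg.Agent.Lib.Helper16.GraphSplitOrth

variable {F : Type*} [Field F] [Fintype F] [DecidableEq F] {ι : Type} [Fintype ι] [DecidableEq ι]
  (Q : QuadraticForm F (ι → F))

/-- squares of similarities lie in the subgroup `KK` -/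
theorem sq_mem_KK (hQ : (polarBilin Q).Nondegenerate) (v₀ : ι → F) (hv₀ : Q v₀ ≠ 0) (n' : ℕ)
    (hcard : Fintype.card ι = 2 * n') (g : ↥(GO Q)) : g * g ∈ KK Q v₀ hv₀ n' := by
  unfold KK
  rw [MonoidHom.mem_ker, map_mul, ← pow_two, dHom_sq Q hQ v₀ hv₀ n' hcard]

/-- an automorphism of prime order induced by a similarity outside `KK` is an involution -/
theorem two_of_not_mem (hQ : (polarBilin Q).Nondegenerate) (v₀ : ι → F) (hv₀ : Q v₀ ≠ 0) (n' : ℕ)
    (hcard : Fintype.card ι = 2 * n') (g : ↥(GO Q))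
    (hx : fGO Q g ∉ (KK Q v₀ hv₀ n').map (fGO Q)) {p : ℕ} (hp : p.Prime)
    (hord : orderOf (fGO Q g) = p) : p = 2 := by
  rcases hp.eq_two_or_odd' with h | h
  · exact h
  · exfalso
    obtain ⟨j, hj⟩ := h
    apply hx
    refine ⟨(g * g) ^ (j + 1), (KK Q v₀ hv₀ n').pow_mem (sq_mem_KK Q hQ v₀ hv₀ n' hcard g) _, ?_⟩
    rw [map_pow, map_mul, ← pow_two, ← pow_mul]
    have e : 2 * (j + 1) = p + 1 := by omega
    rw [e, pow_succ, ← hord, pow_orderOf_eq_one, one_mul]

section scale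
variable [hS : Std Q] (p : ℕ) [hp : Fact p.Prime] [hcp : CharP F p]

include hp hcp in
/-- the automorphisms of order two induced by similarities outside `KK`: the subgroups of odd
order normalised by the centraliser are trivial -/
theorem odd_normal_trivial_graph (hP : HP Q) (h2 : (2 : F) ≠ 0) (v₀ : ι → F) (hv₀ : Q v₀ ≠ 0)
    (n' : ℕ) (hcard : Fintype.card ι = 2 * n') (h4 : 4 ≤ n') (g : ↥(GO Q))
    (hg : g ∉ KK Q v₀ hv₀ n') (hγ2 : orderOf (fGO Q g) = 2)
    (N : Subgroup (MulAut (Cfsg.POmega F ⇑Q))) [Finite N] (hodd : Odd (Nat.card N))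
    (hNx : ∀ n ∈ N, n * fGO Q g = fGO Q g * n)
    (hNn : ∀ c ∈ Cfsg.Inn (Cfsg.POmega F ⇑Q), c * fGO Q g = fGO Q g * c →
      ∀ n ∈ N, c * n * c⁻¹ ∈ N) : ∀ n ∈ N, n = 1 := by
  obtain ⟨T⟩ := hS.triple
  have hQ := hS.nondeg
  have h5 := five_le Q
  obtain ⟨μ, hμ⟩ := sq_scalar_of_order_two Q h2 hQ h5 T g hγ2
  obtain ⟨hmul, hμ0⟩ := mulr_eq_of_not_mem Q h2 hQ v₀ hv₀ n' hcard g hg μ hμ
  have hsim : ∀ v, Q (((g.1 : GL ι F) : Matrix ι ι F) *ᵥ v) = μ * Q v := by
    intro v
    rw [mulr_spec, hmul]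
  have hgdet : ((g.1 : GL ι F) : Matrix ι ι F).det ≠ μ ^ n' := by
    intro h
    apply hg
    rw [mem_KK_iff, hmul]
    exact h
  by_cases hsq : IsSquare μ
  · -- scale to an involutory isometry
    obtain ⟨s, hs⟩ := hsq
    have hs0 : s ≠ 0 := by
      rintro rfl
      apply hμ0
      rw [hs, mul_zero]
    obtain ⟨M', hM'⟩ : ∃ M' : Matrix ι ι F, M' = s⁻¹ • ((g.1 : GL ι F) : Matrix ι ι F) := ⟨_, rfl⟩
    have hiso' : ∀ v, Q (M' *ᵥ v) = ((1 : Fˣ) : F) * Q v := by
      intro v
      rw [hM', Matrix.smul_mulVec, Q_smul, hsim, hs, Units.val_one]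
      field_simp
    obtain ⟨g', hg'def⟩ : ∃ g', g' = simOfMatrix Q hQ M' 1 hiso' := ⟨_, rfl⟩
    have hg'val : ((g'.1 : GL ι F) : Matrix ι ι F) = M' := by rw [hg'def]; rfl
    have hfg' : fGO Q g' = fGO Q g := by
      apply fGO_eq_of_smul g g' s⁻¹ (inv_ne_zero hs0)
      rw [hg'val, hM']
    have hM'M' : M' * M' = 1 := by
      rw [hM', Matrix.smul_mul, Matrix.mul_smul, hμ, smul_smul, smul_smul, hs]
      have : s⁻¹ * s⁻¹ * (s * s) = 1 := by field_simp
      rw [this, one_smul]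
    have hdet' : M'.det = -1 := by
      have h1 : M'.det ^ 2 = 1 := by
        have := det_sq_of_similarity Q hQ M' 1 (fun v => by
          have := hiso' v
          rwa [Units.val_one] at this)
        rw [this, one_pow]
      have h3 : M'.det ≠ 1 := by
        intro h1'
        apply hgdet
        have h4' : M'.det = (s⁻¹) ^ Fintype.card ι * ((g.1 : GL ι F) : Matrix ι ι F).det := by
          rw [hM', Matrix.det_smul]
        rw [h1', hcard] at h4'
        have h5' : ((g.1 : GL ι F) : Matrix ι ι F).det = s ^ (2 * n') := by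
          have : (s⁻¹) ^ (2 * n') * s ^ (2 * n') = 1 := by
            rw [← mul_pow, inv_mul_cancel₀ hs0, one_pow]
          calc ((g.1 : GL ι F) : Matrix ι ι F).det
              = ((s⁻¹) ^ (2 * n') * ((g.1 : GL ι F) : Matrix ι ι F).det) * s ^ (2 * n') := by
                rw [mul_comm ((s⁻¹) ^ (2 * n')), mul_assoc, this, mul_one]
            _ = s ^ (2 * n') := by rw [← h4', one_mul]
        rw [h5', hs, ← pow_two, ← pow_mul]
      have h6 : (M'.det - 1) * (M'.det + 1) = 0 := by linear_combination h1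
      rcases mul_eq_zero.mp h6 with h7 | h7
      · exact absurd (by linear_combination h7) h3
      · linear_combination h7
    have heven : Even (Fintype.card ι) := ⟨n', by rw [hcard]; ring⟩
    rw [← hfg'] at hNx hNn
    exact odd_normal_trivial_of_invol Q p hP h2 heven g' (by rw [hg'val]; exact hM'M')
      (fun v => by
        have := hiso' v
        rwa [Units.val_one, one_mul, ← hg'val] at this)
      (by rw [hg'val]; exact hdet') N hodd hNx hNn
  · -- the square is a non-square scalar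
    have hdet := det_of_nonsquare ((g.1 : GL ι F) : Matrix ι ι F) μ hμ hsq n' hcard
    have hn'odd : Odd n' := by
      rw [← Nat.not_even_iff_odd]
      intro he
      apply hgdet
      rw [hdet, neg_pow, he.neg_one_pow, one_mul]
    have h10 : 10 ≤ Fintype.card ι := by
      obtain ⟨j, hj⟩ := hn'odd
      rw [hcard]
      omega
    exact odd_normal_trivial_of_nonsquare p hP h2 g μ hsq hμ hsim h10 N hodd hNx hNn

end scale

/-- abstract: the `2'`-core of a centraliser is trivial when the subgroups of odd order normalised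
by the centraliser are trivial -/
theorem pPrimeCore_two_eq_bot {G : Type*} [Group G] [Finite G] (I A : Subgroup G) (hIA : I ≤ A)
    (x : G)
    (H : ∀ (N : Subgroup G) [Finite N], Odd (Nat.card N) → (∀ n ∈ N, n * x = x * n) →
      (∀ c ∈ I, c * x = x * c → ∀ n ∈ N, c * n * c⁻¹ ∈ N) → ∀ n ∈ N, n = 1) :
    Cfsg.pPrimeCore 2 ↥(A ⊓ Subgroup.centralizer {x}) = ⊥ := by
  unfold Cfsg.pPrimeCore
  rw [sSup_eq_bot]
  rintro N' ⟨hNn, hNc⟩
  obtain ⟨N, hN⟩ : ∃ N : Subgroup G, N = N'.map (A ⊓ Subgroup.centralizer {x}).subtype :=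
    ⟨_, rfl⟩
  have hcard : Nat.card N = Nat.card N' := by
    rw [hN]
    exact (Nat.card_congr (N'.equivMapOfInjective _ (Subgroup.subtype_injective _)).toEquiv).symm
  have hodd : Odd (Nat.card N) := by
    rw [hcard, ← Nat.not_even_iff_odd, even_iff_two_dvd]
    intro h2
    have := Nat.dvd_gcd h2 (dvd_refl 2)
    rw [hNc.gcd_eq_one] at this
    omega
  have key := H N hodd (by
    intro n hn
    rw [hN] at hn
    obtain ⟨n', hn', rfl⟩ := hn
    have h1 : n'.1 ∈ Subgroup.centralizer {x} := n'.2.2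
    rw [Subgroup.mem_centralizer_iff] at h1
    exact (h1 x rfl).symm) (by
    intro c hc hcx n hn
    rw [hN] at hn ⊢
    obtain ⟨n', hn', rfl⟩ := hn
    have hc' : c ∈ A ⊓ Subgroup.centralizer {x} := by
      refine ⟨hIA hc, ?_⟩
      change c ∈ Subgroup.centralizer {x}
      rw [Subgroup.mem_centralizer_iff]
      intro y hy
      rw [Set.mem_singleton_iff] at hy
      rw [hy, hcx]
    exact ⟨⟨c, hc'⟩ * n' * (⟨c, hc'⟩ : ↥(A ⊓ Subgroup.centralizer {x}))⁻¹,
      hNn.conj_mem n' hn' ⟨c, hc'⟩, rfl⟩)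
  rw [Subgroup.eq_bot_iff_forall]
  intro n' hn'
  apply Subtype.ext
  exact key n'.1 (by rw [hN]; exact ⟨n', hn', rfl⟩)

end Cfsg.Agent.Lib.Helper16.LocalBalMinus
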