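import Mathlib
import Cfsg.Agent.Lib.Helper15.Witt1

/-!
# Local balance for the unitary groups, part A: rigidity of the Siegel transformations

An abstract geometric statement over a field of odd characteristic: a family of semilinear
similarities of a nondegenerate symmetric or alternating form, closed under squaring and under
commutators with Siegel transformations, whose products with Siegel transformations have odd order
modulo scalars, consists of scalars.
-/

set_option autoImplicit false
set_option linter.unusedSectionVars false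
set_option linter.unusedVariables false
set_option linter.unusedSimpArgs false

namespace Cfsg.Agent.Lib.Helper16.UBal
open Module

variable {k : Type*} [Field k] {V : Type*} [AddCommGroup V] [Module k V]

structure EpsForm (B : LinearMap.BilinForm k V) (ε : k) : Prop where
  eps : ε = 1 ∨ ε = -1
  symm : ∀ x y, B y x = ε * B x y
  nondeg : B.Nondegenerate
  two : (2 : k) ≠ 0

noncomputable def sieg (B : LinearMap.BilinForm k V) (ε : k) (u w : V) : V →ₗ[k] V :=
  LinearMap.id + (B.flip w).smulRight u - ε • (B.flip u).smulRight w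
    - ((2:k)⁻¹ * B w w) • (B.flip u).smulRight u

variable {B : LinearMap.BilinForm k V} {ε : k}

theorem sieg_apply (u w x : V) :
    sieg B ε u w x = x + B x w • u - (ε * B x u) • w - (2⁻¹ * B w w * B x u) • u := by
  simp [sieg, smul_smul]

namespace EpsForm
variable (h : EpsForm B ε)
include h

theorem eps_mul_self : ε * ε = 1 := by
  rcases h.eps with rfl | rfl <;> ring

theorem eps_ne_zero : ε ≠ 0 := by
  intro h0
  have := h.eps_mul_self
  rw [h0, mul_zero] at this
  exact zero_ne_one this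

theorem refl {x y : V} (hxy : B x y = 0) : B y x = 0 := by
  rw [h.symm, hxy, mul_zero]

/-- in the alternating case all vectors are isotropic -/
theorem self_of_neg (hε : ε = -1) (x : V) : B x x = 0 := by
  have h1 := h.symm x x
  rw [hε] at h1
  have h2 : (2 : k) * B x x = 0 := by linear_combination h1
  rcases mul_eq_zero.mp h2 with h3 | h3
  · exact absurd h3 h.two
  · exact h3

/-- the defect term vanishes -/
theorem defect (x : V) : (1 - 2⁻¹ * (1 + ε)) * B x x = 0 := by
  rcases h.eps with hε | hε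
  · rw [hε]
    have : (1 : k) - 2⁻¹ * (1 + 1) = 0 := by
      have := h.two
      field_simp
      ring
    rw [this, zero_mul]
  · rw [h.self_of_neg hε, mul_zero]

theorem sieg_self (u w : V) (hu : B u u = 0) (hwu : B w u = 0) : sieg B ε u w u = u := by
  rw [sieg_apply, hu, h.refl hwu]
  simp

theorem sieg_isom (u w : V) (hu : B u u = 0) (hwu : B w u = 0) (x y : V) :
    B (sieg B ε u w x) (sieg B ε u w y) = B x y := by
  have huw := h.refl hwu
  have e1 : B u y = ε * B y u := h.symm y u
  have e2 : B w y = ε * B y w := h.symm y w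
  have hd := h.defect w
  have hee := h.eps_mul_self
  rw [sieg_apply, sieg_apply]
  simp only [map_add, map_sub, map_smul, LinearMap.add_apply, LinearMap.sub_apply,
    LinearMap.smul_apply, smul_eq_mul, hu, huw, hwu, e1, e2, mul_zero, add_zero, sub_zero]
  linear_combination (B x u * B y u) * hd + (B w w * B x u * B y u - B y w * B x u) * hee

theorem sieg_zero (u x : V) : sieg B ε u 0 x = x := by
  rw [sieg_apply]
  simp

/-- composition of Siegel transformations along a line -/
theorem sieg_comp (u w : V) (hu : B u u = 0) (hwu : B w u = 0) (a b : k) (x : V) :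
    sieg B ε u (a • w) (sieg B ε u (b • w) x) = sieg B ε u ((a + b) • w) x := by
  have huw := h.refl hwu
  have hd := h.defect w
  have hee := h.eps_mul_self
  obtain ⟨t, ht⟩ : ∃ t : k, t = 2⁻¹ := ⟨_, rfl⟩
  have h2t : 2 * t = 1 := by rw [ht]; exact mul_inv_cancel₀ h.two
  rw [← ht] at hd
  simp only [sieg_apply, map_add, map_sub, map_smul, LinearMap.add_apply, LinearMap.sub_apply,
    LinearMap.smul_apply, smul_eq_mul, hu, huw, hwu, mul_zero, add_zero, sub_zero, zero_mul, ← ht]
  match_scalars
  · ring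
  · linear_combination (2 * a * b * B x u) * hd +
      (a * b * B x u * B w w * (1 + ε) + a * b * B x u * B w w) * h2t
  · ring

theorem sieg_neg (u w : V) (hu : B u u = 0) (hwu : B w u = 0) (x : V) :
    sieg B ε u (-w) (sieg B ε u w x) = x := by
  have := h.sieg_comp u w hu hwu (-1) 1 x
  rw [neg_one_smul, one_smul, neg_add_cancel, zero_smul, h.sieg_zero] at this
  exact this

theorem sieg_neg' (u w : V) (hu : B u u = 0) (hwu : B w u = 0) (x : V) :
    sieg B ε u w (sieg B ε u (-w) x) = x := by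
  have hwu' : B (-w) u = 0 := by rw [map_neg, LinearMap.neg_apply, hwu, neg_zero]
  have := h.sieg_neg u (-w) hu hwu' x
  rwa [neg_neg] at this

theorem sieg_iterate (u w : V) (hu : B u u = 0) (hwu : B w u = 0) (m : ℕ) (x : V) :
    (sieg B ε u w)^[m] x = sieg B ε u ((m : k) • w) x := by
  induction m with
  | zero => rw [Function.iterate_zero, id, Nat.cast_zero, zero_smul, h.sieg_zero]
  | succ m ih =>
    rw [Function.iterate_succ_apply', ih]
    have := h.sieg_comp u w hu hwu 1 (m : k) x
    rw [one_smul] at this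
    rw [this, Nat.cast_succ, add_comm]

/-- moving a point off `u^⊥` to another one by a Siegel transformation centred at `u` -/
theorem sieg_move (u e g : V) (hu : B u u = 0) (he : B e e = 0) (hg : B g g = 0)
    (heu : B e u ≠ 0) (hgu : B g u ≠ 0) :
    ∃ w : V, B w u = 0 ∧ ∃ t : k, t ≠ 0 ∧ sieg B ε u w g = t • e := by
  obtain ⟨e', he'⟩ : ∃ e' : V, e' = (B e u)⁻¹ • e := ⟨_, rfl⟩
  obtain ⟨g', hg'⟩ : ∃ g' : V, g' = (B g u)⁻¹ • g := ⟨_, rfl⟩
  have he'u : B e' u = 1 := by
    rw [he', map_smul, LinearMap.smul_apply, smul_eq_mul, inv_mul_cancel₀ heu]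
  have hg'u : B g' u = 1 := by
    rw [hg', map_smul, LinearMap.smul_apply, smul_eq_mul, inv_mul_cancel₀ hgu]
  have he'e' : B e' e' = 0 := by
    rw [he']
    simp [he]
  have hg'g' : B g' g' = 0 := by
    rw [hg']
    simp [hg]
  have hge : g = B g u • g' := by rw [hg', smul_smul, mul_inv_cancel₀ hgu, one_smul]
  have hee' : e' = (B e u)⁻¹ • e := he'
  obtain ⟨t, ht⟩ : ∃ t : k, t = 2⁻¹ := ⟨_, rfl⟩
  have h2t : 2 * t = 1 := by rw [ht]; exact mul_inv_cancel₀ h.two
  have huu' : B u e' = ε * B e' u := h.symm e' u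
  have hug' : B u g' = ε * B g' u := h.symm g' u
  have heg' : B e' g' = ε * B g' e' := h.symm g' e'
  suffices hsuff : ∃ w : V, B w u = 0 ∧ sieg B ε u w g' = e' by
    obtain ⟨w, hw, hs⟩ := hsuff
    refine ⟨w, hw, B g u * (B e u)⁻¹, mul_ne_zero hgu (inv_ne_zero heu), ?_⟩
    calc sieg B ε u w g = sieg B ε u w (B g u • g') := by rw [← hge]
      _ = (B g u * (B e u)⁻¹) • e := by rw [map_smul, hs, hee', smul_smul]
  rcases h.eps with hε | hε
  · refine ⟨g' - e', ?_, ?_⟩
    · rw [map_sub, LinearMap.sub_apply, he'u, hg'u, sub_self]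
    · rw [sieg_apply]
      simp only [map_sub, LinearMap.sub_apply, hg'g', he'e', hg'u, he'u, heg', hε, ← ht]
      match_scalars <;>
        first | ring1 | linear_combination (B g' e') * h2t | linear_combination (-(B g' e')) * h2t
  · refine ⟨e' - g' - (t * B g' e') • u, ?_, ?_⟩
    · rw [map_sub, map_sub, map_smul, LinearMap.sub_apply, LinearMap.sub_apply,
        LinearMap.smul_apply, he'u, hg'u, hu]
      simp
    · rw [sieg_apply]
      simp only [map_sub, map_smul, LinearMap.sub_apply, LinearMap.smul_apply, smul_eq_mul,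
        hg'g', he'e', hg'u, he'u, heg', huu', hug', hu, hε, ← ht]
      match_scalars <;>
        first | ring1 | linear_combination (B g' e') * h2t | linear_combination (-(B g' e')) * h2t

end EpsForm

/-- semilinear similarities of the form -/
structure Semi (B : LinearMap.BilinForm k V) (Ψ : V → V) where
  σ : k ≃+* k
  ν : k
  hν : ν ≠ 0
  add : ∀ x y, Ψ (x + y) = Ψ x + Ψ y
  smul : ∀ (a : k) x, Ψ (a • x) = σ a • Ψ x
  form : ∀ x y, B (Ψ x) (Ψ y) = ν * σ (B x y)

namespace Semi
variable {Ψ : V → V} (S : Semi B Ψ)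
include S

theorem map_zero : Ψ 0 = 0 := by
  have := S.smul 0 0
  rwa [zero_smul, _root_.map_zero, zero_smul] at this

theorem map_neg (x : V) : Ψ (-x) = -Ψ x := by
  have := S.smul (-1) x
  rwa [neg_one_smul, _root_.map_neg, _root_.map_one, neg_one_smul] at this

theorem map_sub (x y : V) : Ψ (x - y) = Ψ x - Ψ y := by
  rw [sub_eq_add_neg, S.add, S.map_neg, ← sub_eq_add_neg]

theorem form_zero {x y : V} (hxy : B x y = 0) : B (Ψ x) (Ψ y) = 0 := by
  rw [S.form, hxy, _root_.map_zero, mul_zero]

theorem form_ne_zero {x y : V} (hxy : B x y ≠ 0) : B (Ψ x) (Ψ y) ≠ 0 := by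
  rw [S.form]
  exact mul_ne_zero S.hν ((map_ne_zero _).mpr hxy)

theorem zero_of_form {x y : V} (hxy : B (Ψ x) (Ψ y) = 0) : B x y = 0 := by
  by_contra h0
  exact S.form_ne_zero h0 hxy

theorem eq_zero (h : EpsForm B ε) {x : V} (hx : Ψ x = 0) : x = 0 := by
  apply h.nondeg.1
  intro y
  apply S.zero_of_form
  rw [hx, _root_.map_zero, LinearMap.zero_apply]

theorem injective (h : EpsForm B ε) : Function.Injective Ψ := by
  intro x y hxy
  have : Ψ (x - y) = 0 := by rw [S.map_sub, hxy, sub_self]
  exact sub_eq_zero.mp (S.eq_zero h this)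

end Semi

/-- a semilinear map with an odd iterate scalar cannot interchange two points -/
theorem no_swap (T : V → V) (τ : k ≃+* k) (hT : ∀ (a : k) x, T (a • x) = τ a • T x) (K : ℕ)
    (hK : Odd K) (c : k) (hc : c ≠ 0) (hiter : ∀ x, T^[K] x = c • x) (x y : V) (t : k)
    (ht : t ≠ 0) (h1 : T x = y) (h2 : T y = t • x) : ∃ d : k, y = d • x := by
  have key : ∀ m : ℕ, ∃ cm : k, cm ≠ 0 ∧ (Even m → T^[m] x = cm • x) ∧
      (Odd m → T^[m] x = cm • y) := by
    intro m
    induction m with
    | zero =>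
      refine ⟨1, one_ne_zero, fun _ => by rw [Function.iterate_zero, id, one_smul], fun h => ?_⟩
      exact absurd h (by decide)
    | succ m ih =>
      obtain ⟨cm, hcm, he, ho⟩ := ih
      rcases Nat.even_or_odd m with hm | hm
      · refine ⟨τ cm, (map_ne_zero _).mpr hcm, fun h => ?_, fun _ => ?_⟩
        · exact absurd hm (Nat.even_add_one.mp h)
        · rw [Function.iterate_succ_apply', he hm, hT, h1]
      · refine ⟨τ cm * t, mul_ne_zero ((map_ne_zero _).mpr hcm) ht, fun _ => ?_, fun h => ?_⟩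
        · rw [Function.iterate_succ_apply', ho hm, hT, h2, smul_smul]
        · exact absurd hm (Nat.odd_add_one.mp h)
  obtain ⟨cK, hcK, -, ho⟩ := key K
  have h3 := ho hK
  rw [hiter] at h3
  refine ⟨cK⁻¹ * c, ?_⟩
  rw [← smul_smul, h3, smul_smul, inv_mul_cancel₀ hcK, one_smul]

section findim
variable [FiniteDimensional k V]

namespace EpsForm
variable (h : EpsForm B ε)
include h

/-- a vector perpendicular to `e` with product one with `f` -/
theorem exists_perp_one (e f : V) (hf : f ∉ Submodule.span k {e}) :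
    ∃ z : V, B z e = 0 ∧ B z f = 1 := by
  obtain ⟨φ, hφf, hφ⟩ := Submodule.exists_le_ker_of_notMem hf
  obtain ⟨z₀, hz₀⟩ : ∃ z₀ : V, z₀ = (B.toDual h.nondeg).symm φ := ⟨_, rfl⟩
  have hz : ∀ v, B z₀ v = φ v := fun v => by
    rw [hz₀]; exact LinearMap.BilinForm.apply_toDual_symm_apply φ v
  refine ⟨(φ f)⁻¹ • z₀, ?_, ?_⟩
  · rw [map_smul, LinearMap.smul_apply, hz, smul_eq_mul]
    have : φ e = 0 := LinearMap.mem_ker.mp (hφ (Submodule.mem_span_singleton_self e))
    rw [this, mul_zero]
  · rw [map_smul, LinearMap.smul_apply, hz, smul_eq_mul, inv_mul_cancel₀ hφf]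

theorem exists_one (e : V) (he : e ≠ 0) : ∃ z : V, B z e = 1 := by
  have : e ∉ Submodule.span k {(0 : V)} := by
    rw [Submodule.span_zero_singleton, Submodule.mem_bot]
    exact he
  obtain ⟨z, -, hz⟩ := h.exists_perp_one 0 e this
  exact ⟨z, hz⟩

/-- totally isotropic subspaces have at most half the dimension -/
theorem ti_dim (W : Submodule k V) (hW : ∀ x ∈ W, ∀ y ∈ W, B x y = 0) :
    2 * finrank k W ≤ finrank k V := by
  have h1 : W ≤ B.orthogonal W := by
    intro x hx
    rw [LinearMap.BilinForm.mem_orthogonal_iff]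
    intro y hy
    exact hW y hy x hx
  have h2 := LinearMap.BilinForm.finrank_orthogonal h.nondeg W
  have h3 := Submodule.finrank_mono h1
  have h4 : finrank k W ≤ finrank k V := Submodule.finrank_le W
  omega

/-- polarisation -/
theorem polar (hε : ε = 1) (x y : V) : B (x + y) (x + y) = B x x + 2 * B x y + B y y := by
  have := h.symm x y
  rw [hε, one_mul] at this
  simp only [map_add, LinearMap.add_apply, this]
  ring

/-- in dimension at least five there are nonisotropic vectors perpendicular to two given ones -/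
theorem exists_aniso_perp (hε : ε = 1) (h5 : 5 ≤ finrank k V) (e u : V) :
    ∃ w : V, B w e = 0 ∧ B w u = 0 ∧ B w w ≠ 0 := by
  by_contra hcon
  push Not at hcon
  obtain ⟨W, hWdef⟩ : ∃ W : Submodule k V, W = B.orthogonal (Submodule.span k {e, u}) := ⟨_, rfl⟩
  have hmem : ∀ w ∈ W, B w e = 0 ∧ B w u = 0 := by
    intro w hw
    rw [hWdef, LinearMap.BilinForm.mem_orthogonal_iff] at hw
    exact ⟨h.refl (hw e (Submodule.subset_span (by simp))),
      h.refl (hw u (Submodule.subset_span (by simp)))⟩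
  have hiso : ∀ w ∈ W, B w w = 0 := fun w hw => hcon w (hmem w hw).1 (hmem w hw).2
  have hti : ∀ x ∈ W, ∀ y ∈ W, B x y = 0 := by
    intro x hx y hy
    have h1 := h.polar hε x y
    rw [hiso x hx, hiso y hy, hiso (x + y) (W.add_mem hx hy)] at h1
    have h2 : (2 : k) * B x y = 0 := by linear_combination -h1
    rcases mul_eq_zero.mp h2 with h3 | h3
    · exact absurd h3 h.two
    · exact h3
  have h1 := h.ti_dim W hti
  have h2 : finrank k W = finrank k V - finrank k (Submodule.span k {e, u}) := by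
    rw [hWdef]; exact LinearMap.BilinForm.finrank_orthogonal h.nondeg _
  have h3 : finrank k (Submodule.span k ({e, u} : Set V)) ≤ 2 := by
    classical
    have := finrank_span_finset_le_card (R := k) ({e, u} : Finset V)
    have h4 : (({e, u} : Finset V) : Set V) = {e, u} := by simp
    rw [h4] at this
    exact this.trans Finset.card_le_two
  omega

/-- in dimension at most four a third isotropic vector perpendicular to a totally isotropic plane
lies in it -/
theorem mem_span_of_ti (h4 : finrank k V ≤ 4) (e f g : V)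
    (hf : f ∉ Submodule.span k {e}) (he0 : e ≠ 0)
    (hti : ∀ x ∈ ({e, f, g} : Set V), ∀ y ∈ ({e, f, g} : Set V), B x y = 0) :
    ∃ a b : k, g = a • e + b • f := by
  obtain ⟨W, hWdef⟩ : ∃ W : Submodule k V, W = Submodule.span k {e, f, g} := ⟨_, rfl⟩
  have hW : ∀ x ∈ W, ∀ y ∈ W, B x y = 0 := by
    intro x hx y hy
    rw [hWdef] at hx hy
    induction hx using Submodule.span_induction with
    | mem x hx =>
      induction hy using Submodule.span_induction with
      | mem y hy => exact hti x hx y hy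
      | zero => simp
      | add y z _ _ hy hz => rw [map_add, hy, hz, add_zero]
      | smul a y _ hy => rw [map_smul, hy, smul_zero]
    | zero => simp
    | add x z _ _ hx hz => rw [map_add, LinearMap.add_apply, hx, hz, add_zero]
    | smul a x _ hx => rw [map_smul, LinearMap.smul_apply, hx, smul_zero]
  have h1 := h.ti_dim W hW
  have hli : LinearIndependent k ![e, f] := by
    rw [LinearIndependent.pair_iff' he0]
    intro a ha
    apply hf
    rw [Submodule.mem_span_singleton]
    exact ⟨a, ha⟩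
  obtain ⟨W₂, hW₂def⟩ : ∃ W₂ : Submodule k V, W₂ = Submodule.span k (Set.range ![e, f]) :=
    ⟨_, rfl⟩
  have h2 : finrank k W₂ = 2 := by
    rw [hW₂def, finrank_span_eq_card hli, Fintype.card_fin]
  have hle : W₂ ≤ W := by
    rw [hW₂def, hWdef]
    apply Submodule.span_mono
    rintro _ ⟨i, rfl⟩
    fin_cases i <;> simp
  have heq : W₂ = W := Submodule.eq_of_le_of_finrank_le hle (by omega)
  have hg : g ∈ W₂ := by
    rw [heq, hWdef]
    exact Submodule.subset_span (by simp)
  rw [hW₂def, Matrix.range_cons, Matrix.range_cons, Matrix.range_empty, Set.union_empty,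
    Set.singleton_union] at hg
  obtain ⟨a, b, hab⟩ := Submodule.mem_span_pair.mp hg
  exact ⟨a, b, hab.symm⟩

end EpsForm

section main
variable (h : EpsForm B ε) (𝒩 : Set (V → V))
  (hsemi : ∀ Ψ ∈ 𝒩, Nonempty (Semi B Ψ))
  (hsq : ∀ Ψ ∈ 𝒩, (fun x => Ψ (Ψ x)) ∈ 𝒩)
  (hodd : ∀ Ψ ∈ 𝒩, ∀ u w : V, B u u = 0 → B w u = 0 →
    ∃ K : ℕ, Odd K ∧ ∃ c : k, c ≠ 0 ∧ ∀ x, (fun y => sieg B ε u w (Ψ y))^[K] x = c • x)
  (hcomm : ∀ Ψ ∈ 𝒩, ∀ u w : V, B u u = 0 → B w u = 0 →
    ∃ Ψ' ∈ 𝒩, ∃ c : k, c ≠ 0 ∧ ∀ x, Ψ (Ψ' x) = c • sieg B ε u w (Ψ (sieg B ε u (-w) x)))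

include h hsemi hodd in
/-- no isotropic point is moved off its perpendicular space -/
theorem step_one (Ψ : V → V) (hΨ : Ψ ∈ 𝒩) (e : V) (he : B e e = 0) : B e (Ψ e) = 0 := by
  obtain ⟨S⟩ := hsemi Ψ hΨ
  by_contra hne
  obtain ⟨f₁, hf₁⟩ : ∃ f₁, f₁ = Ψ e := ⟨_, rfl⟩
  obtain ⟨g, hg⟩ : ∃ g, g = Ψ f₁ := ⟨_, rfl⟩
  rw [← hf₁] at hne
  have hf₁f₁ : B f₁ f₁ = 0 := by rw [hf₁]; exact S.form_zero he
  have hgg : B g g = 0 := by rw [hg]; exact S.form_zero hf₁f₁
  have hf₁g : B f₁ g ≠ 0 := by
    have := S.form_ne_zero hne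
    rwa [← hf₁, ← hg] at this
  have hgf₁ : B g f₁ ≠ 0 := by
    rw [h.symm]; exact mul_ne_zero h.eps_ne_zero hf₁g
  obtain ⟨w, hw, t, ht, hs⟩ := h.sieg_move f₁ e g hf₁f₁ he hgg hne hgf₁
  obtain ⟨K, hK, c, hc, hiter⟩ := hodd Ψ hΨ f₁ w hf₁f₁ hw
  obtain ⟨d, hd⟩ := no_swap (fun y => sieg B ε f₁ w (Ψ y)) S.σ
    (fun a x => by simp only [S.smul, map_smul]) K hK c hc hiter e f₁ t ht
    (by rw [← hf₁, h.sieg_self f₁ w hf₁f₁ hw])
    (by rw [← hg, hs])
  apply hne
  rw [hd, map_smul, smul_eq_mul, he, mul_zero]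

include h hsemi hsq hodd hcomm in
/-- every isotropic point is fixed -/
theorem step_two (Ψ : V → V) (hΨ : Ψ ∈ 𝒩) (e : V) (he : B e e = 0) : ∃ l : k, Ψ e = l • e := by
  obtain ⟨S⟩ := hsemi Ψ hΨ
  by_contra hcon
  push Not at hcon
  obtain ⟨f₁, hf₁⟩ : ∃ f₁, f₁ = Ψ e := ⟨_, rfl⟩
  rw [← hf₁] at hcon
  have he0 : e ≠ 0 := by
    rintro rfl
    exact hcon 0 (by rw [hf₁, S.map_zero, smul_zero])
  have hfspan : f₁ ∉ Submodule.span k {e} := by
    rw [Submodule.mem_span_singleton]
    rintro ⟨a, ha⟩
    exact hcon a ha.symm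
  have hef₁ : B e f₁ = 0 := by rw [hf₁]; exact step_one h 𝒩 hsemi hodd Ψ hΨ e he
  have hf₁e : B f₁ e = 0 := h.refl hef₁
  have hf₁f₁ : B f₁ f₁ = 0 := by rw [hf₁]; exact S.form_zero he
  obtain ⟨t, ht⟩ : ∃ t : k, t = 2⁻¹ := ⟨_, rfl⟩
  have h2t : 2 * t = 1 := by rw [ht]; exact mul_inv_cancel₀ h.two
  have fin : ∀ u w : V, B u u = 0 → B w u = 0 → B e u = 0 → B e w = 0 →
      B f₁ (sieg B ε u w f₁) ≠ 0 → False := by
    intro u w hu hwu heu hew hne
    obtain ⟨Ψ', hΨ', c, hc, hrel⟩ := hcomm Ψ hΨ u w hu hwu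
    have h1 : sieg B ε u (-w) e = e := by
      rw [sieg_apply]
      simp [heu, hew]
    have h2 := hrel e
    rw [h1, ← hf₁] at h2
    have h3 := step_one h 𝒩 hsemi hodd Ψ' hΨ' e he
    have h4 := S.form_zero h3
    rw [← hf₁, h2, map_smul, smul_eq_mul] at h4
    rcases mul_eq_zero.mp h4 with h5 | h5
    · exact hc h5
    · exact hne h5
  rcases h.eps with hε | hε
  · -- the symmetric case
    have hsym : ∀ x y : V, B y x = B x y := fun x y => by rw [h.symm x y, hε, one_mul]
    by_cases h5 : 5 ≤ finrank k V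
    · obtain ⟨h', hh'e, hh'f⟩ := h.exists_perp_one e f₁ hfspan
      obtain ⟨u, hu⟩ : ∃ u : V, u = h' - (t * B h' h') • f₁ := ⟨_, rfl⟩
      have hf₁h' : B f₁ h' = 1 := by rw [hsym, hh'f]
      have huu : B u u = 0 := by
        rw [hu]
        simp only [map_sub, map_smul, LinearMap.sub_apply, LinearMap.smul_apply, smul_eq_mul,
          hh'f, hf₁h', hf₁f₁]
        linear_combination (-(B h' h')) * h2t
      have heu : B e u = 0 := by
        rw [hu, map_sub, map_smul, hef₁, hsym, hh'e]
        simp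
      have hf₁u : B f₁ u = 1 := by
        rw [hu, map_sub, map_smul, hf₁f₁, hf₁h']
        simp
      obtain ⟨w, hwe, hwu, hww⟩ := h.exists_aniso_perp hε h5 e u
      apply fin u w huu hwu heu (h.refl hwe)
      rw [sieg_apply]
      simp only [map_sub, map_add, map_smul, smul_eq_mul, hf₁f₁, hf₁u, hε, ← ht]
      intro h0
      apply hww
      have : t * B w w = 0 := by linear_combination -h0
      rcases mul_eq_zero.mp this with h6 | h6
      · exfalso
        rw [h6, mul_zero] at h2t
        exact zero_ne_one h2t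
      · exact h6
    · -- small dimension
      obtain ⟨g, hg⟩ : ∃ g, g = Ψ f₁ := ⟨_, rfl⟩
      have hf₁g : B f₁ g = 0 := by
        rw [hg]; exact step_one h 𝒩 hsemi hodd Ψ hΨ f₁ hf₁f₁
      have heg : B e g = 0 := by
        have := step_one h 𝒩 hsemi hodd _ (hsq Ψ hΨ) e he
        rwa [← hf₁, ← hg] at this
      have hgg : B g g = 0 := by rw [hg]; exact S.form_zero hf₁f₁
      have hti : ∀ x ∈ ({e, f₁, g} : Set V), ∀ y ∈ ({e, f₁, g} : Set V), B x y = 0 := by
        have hgf₁ := h.refl hf₁g
        have hge := h.refl heg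
        intro x hx y hy
        simp only [Set.mem_insert_iff, Set.mem_singleton_iff] at hx hy
        rcases hx with rfl | rfl | rfl <;> rcases hy with rfl | rfl | rfl <;> assumption
      obtain ⟨a, b, hab⟩ := h.mem_span_of_ti (by omega) e f₁ g hfspan he0 hti
      have ha : a ≠ 0 := by
        rintro rfl
        rw [zero_smul, zero_add] at hab
        apply hcon (S.σ.symm b)
        apply S.injective h
        rw [S.smul, RingEquiv.apply_symm_apply, ← hf₁, ← hg, hab]
      have hespan : e ∉ Submodule.span k {f₁} := by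
        rw [Submodule.mem_span_singleton]
        rintro ⟨c, hc⟩
        have hc0 : c ≠ 0 := by
          rintro rfl
          rw [zero_smul] at hc
          exact he0 hc.symm
        apply hcon c⁻¹
        rw [← hc, smul_smul, inv_mul_cancel₀ hc0, one_smul]
      obtain ⟨z, hzf, hze⟩ := h.exists_perp_one f₁ e hespan
      obtain ⟨w, hw⟩ : ∃ w : V, w = (-b / a) • z := ⟨_, rfl⟩
      have hwf : B w f₁ = 0 := by
        rw [hw, map_smul, LinearMap.smul_apply, hzf, smul_zero]
      have hgf₁ := h.refl hf₁g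
      have hgw : B g w = -b := by
        rw [hab, hw]
        simp only [map_add, map_smul, LinearMap.add_apply, LinearMap.smul_apply, smul_eq_mul,
          hsym z e, hsym z f₁, hze, hzf]
        field_simp
        ring
      have hs : sieg B ε f₁ w g = a • e := by
        rw [sieg_apply, hgw, hgf₁, hab]
        simp only [mul_zero, zero_smul, sub_zero]
        module
      obtain ⟨K, hK, c, hc, hiter⟩ := hodd Ψ hΨ f₁ w hf₁f₁ hwf
      obtain ⟨d, hd⟩ := no_swap (fun y => sieg B ε f₁ w (Ψ y)) S.σ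
        (fun a x => by simp only [S.smul, map_smul]) K hK c hc hiter e f₁ a ha
        (by rw [← hf₁, h.sieg_self f₁ w hf₁f₁ hwf])
        (by rw [← hg, hs])
      exact hcon d hd
  · -- the alternating case
    obtain ⟨u, hue, huf⟩ := h.exists_perp_one e f₁ hfspan
    have huu := h.self_of_neg hε u
    have heu : B e u = 0 := h.refl hue
    apply fin u u huu huu heu heu
    have hf₁u : B f₁ u = -1 := by rw [h.symm u f₁, huf, hε, mul_one]
    rw [sieg_apply]
    simp only [map_sub, map_add, map_smul, smul_eq_mul, hf₁f₁, hf₁u, hε, huu]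
    intro h0
    apply h.two
    linear_combination h0

end main

/-- an additive map with all vectors eigenvectors is a scalar -/
theorem scalar_of_eigen (h3 : 3 ≤ finrank k V) (Ψ : V → V) (hadd : ∀ x y, Ψ (x + y) = Ψ x + Ψ y)
    (heig : ∀ x, ∃ l : k, Ψ x = l • x) : ∃ c : k, ∀ x, Ψ x = c • x := by
  haveI : Nontrivial V := Module.nontrivial_of_finrank_pos (R := k) (by omega)
  obtain ⟨e₀, he₀⟩ := exists_ne (0 : V)
  obtain ⟨c, hc⟩ := heig e₀
  refine ⟨c, ?_⟩
  have hA : ∀ x, x ∉ Submodule.span k {e₀} → Ψ x = c • x := by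
    intro x hx
    obtain ⟨l, hl⟩ := heig x
    obtain ⟨m, hm⟩ := heig (x + e₀)
    have hli : LinearIndependent k ![e₀, x] := by
      rw [LinearIndependent.pair_iff' he₀]
      intro a ha
      apply hx
      rw [Submodule.mem_span_singleton]
      exact ⟨a, ha⟩
    rw [LinearIndependent.pair_iff] at hli
    have h1 : (m - c) • e₀ + (m - l) • x = 0 := by
      have : m • (x + e₀) = l • x + c • e₀ := by rw [← hm, hadd, hl, hc]
      rw [sub_smul, sub_smul]
      rw [smul_add] at this
      have e1 : m • x = l • x + c • e₀ - m • e₀ := by rw [← this]; abel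
      rw [e1]
      abel
    obtain ⟨h2, h3⟩ := hli _ _ h1
    have : l = c := by
      rw [sub_eq_zero] at h2 h3
      rw [← h3, h2]
    rw [hl, this]
  have hlt : Submodule.span k {e₀} < ⊤ := by
    rw [lt_top_iff_ne_top]
    intro h0
    have h1 : finrank k (Submodule.span k ({e₀} : Set V)) ≤ 1 := by
      have := finrank_span_le_card (R := k) ({e₀} : Set V)
      simpa using this
    rw [h0, finrank_top] at h1
    omega
  obtain ⟨y, -, hy⟩ := SetLike.exists_of_lt hlt
  intro x
  by_cases hx : x ∈ Submodule.span k {e₀}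
  · have hxy : x + y ∉ Submodule.span k {e₀} := by
      intro h0
      apply hy
      have := Submodule.sub_mem _ h0 hx
      rwa [add_sub_cancel_left] at this
    have h1 := hA _ hxy
    have h2 := hA _ hy
    rw [hadd, h2, smul_add] at h1
    exact add_right_cancel h1
  · exact hA x hx

section final
variable (h : EpsForm B ε) (𝒩 : Set (V → V))
  (hsemi : ∀ Ψ ∈ 𝒩, Nonempty (Semi B Ψ))
  (hsq : ∀ Ψ ∈ 𝒩, (fun x => Ψ (Ψ x)) ∈ 𝒩)
  (hodd : ∀ Ψ ∈ 𝒩, ∀ u w : V, B u u = 0 → B w u = 0 →
    ∃ K : ℕ, Odd K ∧ ∃ c : k, c ≠ 0 ∧ ∀ x, (fun y => sieg B ε u w (Ψ y))^[K] x = c • x)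
  (hcomm : ∀ Ψ ∈ 𝒩, ∀ u w : V, B u u = 0 → B w u = 0 →
    ∃ Ψ' ∈ 𝒩, ∃ c : k, c ≠ 0 ∧ ∀ x, Ψ (Ψ' x) = c • sieg B ε u w (Ψ (sieg B ε u (-w) x)))

include h in
/-- a semilinear similarity of a symmetric form fixing all isotropic points is a scalar -/
theorem scalar_of_fix_iso [Finite k] (hε : ε = 1) (h3 : 3 ≤ finrank k V) (Ψ : V → V)
    (S : Semi B Ψ) (hfix : ∀ e : V, B e e = 0 → ∃ l : k, Ψ e = l • e) :
    ∃ c : k, ∀ x, Ψ x = c • x := by
  have hsym : ∀ x y : V, B y x = B x y := fun x y => by rw [h.symm x y, hε, one_mul]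
  obtain ⟨t, ht⟩ : ∃ t : k, t = 2⁻¹ := ⟨_, rfl⟩
  have h2t : 2 * t = 1 := by rw [ht]; exact mul_inv_cancel₀ h.two
  obtain ⟨e, he0, hee⟩ := Cfsg.Agent.Lib.Helper15.exists_singular_of_three_le_finrank
    (LinearMap.BilinMap.toQuadraticMap B) h3
  rw [LinearMap.BilinMap.toQuadraticMap_apply] at hee
  obtain ⟨z₁, hz₁⟩ := h.exists_one e he0
  obtain ⟨f, hf⟩ : ∃ f : V, f = z₁ - (t * B z₁ z₁) • e := ⟨_, rfl⟩
  have hez₁ : B e z₁ = 1 := by rw [hsym, hz₁]
  have hfe : B f e = 1 := by
    rw [hf, map_sub, map_smul, LinearMap.sub_apply, LinearMap.smul_apply, hz₁, hee]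
    simp
  have hef : B e f = 1 := by rw [hsym, hfe]
  have hff : B f f = 0 := by
    rw [hf]
    simp only [map_sub, map_smul, LinearMap.sub_apply, LinearMap.smul_apply, smul_eq_mul,
      hz₁, hez₁, hee]
    linear_combination (-(B z₁ z₁)) * h2t
  have hf0 : f ≠ 0 := by
    rintro rfl
    rw [map_zero] at hef
    exact zero_ne_one hef
  obtain ⟨a, ha⟩ := hfix e hee
  obtain ⟨b, hb⟩ := hfix f hff
  have ha0 : a ≠ 0 := by
    rintro rfl
    rw [zero_smul] at ha
    exact he0 (S.eq_zero h ha)
  have hb0 : b ≠ 0 := by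
    rintro rfl
    rw [zero_smul] at hb
    exact hf0 (S.eq_zero h hb)
  -- the perpendicular space of the hyperbolic pair
  have key : ∀ z : V, B z e = 0 → B z f = 0 →
      Ψ z = a • z ∧ S.σ (t * B z z) * b = a * (t * B z z) := by
    intro z hze hzf
    have hez : B e z = 0 := h.refl hze
    have hfz : B f z = 0 := h.refl hzf
    obtain ⟨x, hx⟩ : ∃ x : V, x = e + z - (t * B z z) • f := ⟨_, rfl⟩
    have hxx : B x x = 0 := by
      rw [hx]
      simp only [map_sub, map_add, map_smul, LinearMap.sub_apply, LinearMap.add_apply,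
        LinearMap.smul_apply, smul_eq_mul, hee, hez, hze, hzf, hfz, hef, hfe, hff]
      linear_combination (-(B z z)) * h2t
    obtain ⟨l, hl⟩ := hfix x hxx
    have hΨx : Ψ x = a • e + Ψ z - (S.σ (t * B z z) * b) • f := by
      rw [hx, S.map_sub, S.add, S.smul, ha, hb, smul_smul]
    have hΨz : Ψ z = l • x - a • e + (S.σ (t * B z z) * b) • f := by
      rw [← hl, hΨx]
      abel
    have h1 : B (Ψ z) f = 0 := by
      have := S.form_zero hzf
      rw [hb, map_smul, smul_eq_mul] at this
      exact (mul_eq_zero.mp this).resolve_left hb0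
    have h2 : B (Ψ z) e = 0 := by
      have := S.form_zero hze
      rw [ha, map_smul, smul_eq_mul] at this
      exact (mul_eq_zero.mp this).resolve_left ha0
    have hla : l = a := by
      rw [hΨz, hx] at h1
      simp only [map_sub, map_add, map_smul, LinearMap.sub_apply, LinearMap.add_apply,
        LinearMap.smul_apply, smul_eq_mul, hef, hzf, hff] at h1
      linear_combination h1
    have hrel : S.σ (t * B z z) * b = a * (t * B z z) := by
      rw [hΨz, hx] at h2
      simp only [map_sub, map_add, map_smul, LinearMap.sub_apply, LinearMap.add_apply,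
        LinearMap.smul_apply, smul_eq_mul, hee, hze, hfe] at h2
      rw [hla] at h2
      linear_combination h2
    refine ⟨?_, hrel⟩
    rw [hΨz, hrel, hla, hx]
    module
  -- the projection onto the perpendicular space
  have hP : ∀ x : V, B (x - B x f • e - B x e • f) e = 0 ∧ B (x - B x f • e - B x e • f) f = 0 := by
    intro x
    constructor
    · simp only [map_sub, map_smul, LinearMap.sub_apply, LinearMap.smul_apply, smul_eq_mul, hee,
        hfe]
      ring
    · simp only [map_sub, map_smul, LinearMap.sub_apply, LinearMap.smul_apply, smul_eq_mul, hef,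
        hff]
      ring
  -- a nonisotropic vector in the perpendicular space
  have hex : ∃ z₀ : V, B z₀ e = 0 ∧ B z₀ f = 0 ∧ B z₀ z₀ ≠ 0 := by
    by_contra hcon
    push Not at hcon
    have hlt : Submodule.span k {e, f} < ⊤ := by
      rw [lt_top_iff_ne_top]
      intro h0
      have h1 : finrank k (Submodule.span k ({e, f} : Set V)) ≤ 2 := by
        classical
        have := finrank_span_finset_le_card (R := k) ({e, f} : Finset V)
        have h4 : (({e, f} : Finset V) : Set V) = {e, f} := by simp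
        rw [h4] at this
        exact this.trans Finset.card_le_two
      rw [h0, finrank_top] at h1
      omega
    obtain ⟨v, -, hv⟩ := SetLike.exists_of_lt hlt
    obtain ⟨z, hz⟩ : ∃ z : V, z = v - B v f • e - B v e • f := ⟨_, rfl⟩
    have hz0 : z ≠ 0 := by
      intro h0
      apply hv
      have hv2 : v = B v f • e + B v e • f := by
        rw [h0] at hz
        have h6 := sub_eq_zero.mp hz.symm
        rw [sub_eq_iff_eq_add] at h6
        calc v = B v e • f + B v f • e := h6
          _ = B v f • e + B v e • f := add_comm _ _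
      rw [hv2]
      exact Submodule.add_mem _ (Submodule.smul_mem _ _ (Submodule.subset_span (by simp)))
        (Submodule.smul_mem _ _ (Submodule.subset_span (by simp)))
    obtain ⟨hze, hzf⟩ : B z e = 0 ∧ B z f = 0 := by rw [hz]; exact hP v
    have hzy : ∃ y : V, B z y ≠ 0 := by
      by_contra h0
      push Not at h0
      exact hz0 (h.nondeg.1 z h0)
    obtain ⟨y, hy⟩ := hzy
    obtain ⟨y', hy'⟩ : ∃ y' : V, y' = y - B y f • e - B y e • f := ⟨_, rfl⟩
    obtain ⟨hy'e, hy'f⟩ : B y' e = 0 ∧ B y' f = 0 := by rw [hy']; exact hP y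
    have hzy' : B z y' = B z y := by
      rw [hy']
      simp only [map_sub, map_smul, smul_eq_mul, hze, hzf]
      ring
    have h1 := h.polar hε z y'
    have hzy'e : B (z + y') e = 0 := by rw [map_add, LinearMap.add_apply, hze, hy'e, add_zero]
    have hzy'f : B (z + y') f = 0 := by rw [map_add, LinearMap.add_apply, hzf, hy'f, add_zero]
    rw [hcon z hze hzf, hcon y' hy'e hy'f, hcon (z + y') hzy'e hzy'f, hzy'] at h1
    apply hy
    have h2 : (2 : k) * B z y = 0 := by linear_combination -h1
    exact (mul_eq_zero.mp h2).resolve_left h.two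
  obtain ⟨z₀, hz₀e, hz₀f, hz₀⟩ := hex
  have hz₀0 : z₀ ≠ 0 := by
    rintro rfl
    apply hz₀
    rw [map_zero]
  -- the field automorphism is trivial
  have hσ : ∀ s : k, S.σ s = s := by
    intro s
    have h1 : B (s • z₀) e = 0 := by rw [map_smul, LinearMap.smul_apply, hz₀e, smul_zero]
    have h2 : B (s • z₀) f = 0 := by rw [map_smul, LinearMap.smul_apply, hz₀f, smul_zero]
    have h3 := (key (s • z₀) h1 h2).1
    rw [S.smul, (key z₀ hz₀e hz₀f).1, smul_smul, smul_smul] at h3
    have h4 : (S.σ s * a - a * s) • z₀ = 0 := by rw [sub_smul, h3, sub_self]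
    rcases smul_eq_zero.mp h4 with h5 | h5
    · have h6 : a * (S.σ s - s) = 0 := by linear_combination h5
      have := (mul_eq_zero.mp h6).resolve_left ha0
      exact sub_eq_zero.mp this
    · exact absurd h5 hz₀0
  have hab : b = a := by
    have h1 := (key z₀ hz₀e hz₀f).2
    rw [hσ] at h1
    have h2 : (t * B z₀ z₀) * (b - a) = 0 := by linear_combination h1
    have ht0 : t ≠ 0 := by
      rintro rfl
      rw [mul_zero] at h2t
      exact zero_ne_one h2t
    have := (mul_eq_zero.mp h2).resolve_left (mul_ne_zero ht0 hz₀)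
    exact sub_eq_zero.mp this
  refine ⟨a, fun x => ?_⟩
  obtain ⟨hPe, hPf⟩ := hP x
  have h1 := (key _ hPe hPf).1
  have h2 : x = (x - B x f • e - B x e • f) + B x f • e + B x e • f := by abel
  rw [h2, S.add, S.add, h1, S.smul, S.smul, ha, hb, hσ, hσ, hab]
  module

include h hsemi hsq hodd hcomm in
/-- **rigidity**: all members of the family are scalars -/
theorem all_scalar [Finite k] (h3 : 3 ≤ finrank k V) (Ψ : V → V) (hΨ : Ψ ∈ 𝒩) :
    ∃ c : k, ∀ x, Ψ x = c • x := by
  obtain ⟨S⟩ := hsemi Ψ hΨ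
  have hfix := fun e he => step_two h 𝒩 hsemi hsq hodd hcomm Ψ hΨ e he
  rcases h.eps with hε | hε
  · exact scalar_of_fix_iso h hε h3 Ψ S hfix
  · exact scalar_of_eigen h3 Ψ S.add (fun x => hfix x (h.self_of_neg hε x))

end final

end findim

end Cfsg.Agent.Lib.Helper16.UBal
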