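import Mathlib
import Cfsg.Agent.Lib.Helper16.UBalA

/-!
# Local balance for the unitary groups, part B: the Siegel transformations and the semilinear
similarities of a form given by a matrix
-/

set_option autoImplicit false
set_option linter.unusedSectionVars false
set_option linter.unusedVariables false
set_option linter.unusedSimpArgs false

namespace Cfsg.Agent.Lib.Helper16.UBal
open Module Matrix

variable {k : Type*} [Field k] {ι : Type*} [Fintype ι] [DecidableEq ι]

/-- the form of a matrix with `Sᵀ = ±S` -/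
theorem epsForm_of_matrix (S : Matrix ι ι k) (ε : k) (hε : ε = 1 ∨ ε = -1) (hS : Sᵀ = ε • S)
    (hdet : S.det ≠ 0) (h2 : (2 : k) ≠ 0) : EpsForm (Matrix.toBilin' S) ε := by
  refine ⟨hε, ?_, LinearMap.BilinForm.nondegenerate_toBilin'_iff_det_ne_zero.mpr hdet, h2⟩
  intro x y
  rw [Matrix.toBilin'_apply', Matrix.toBilin'_apply']
  calc y ⬝ᵥ S *ᵥ x = (S *ᵥ x) ⬝ᵥ y := dotProduct_comm _ _
    _ = (x ᵥ* Sᵀ) ⬝ᵥ y := by rw [Matrix.vecMul_transpose]
    _ = x ⬝ᵥ Sᵀ *ᵥ y := (Matrix.dotProduct_mulVec _ _ _).symm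
    _ = ε * (x ⬝ᵥ S *ᵥ y) := by rw [hS, Matrix.smul_mulVec, dotProduct_smul, smul_eq_mul]

variable (S : Matrix ι ι k) (ε : k)

/-- the matrix of a Siegel transformation -/
noncomputable def siegM (u w : ι → k) : Matrix ι ι k :=
  LinearMap.toMatrixAlgEquiv' (sieg (Matrix.toBilin' S) ε u w)

theorem siegM_mulVec (u w x : ι → k) :
    siegM S ε u w *ᵥ x = sieg (Matrix.toBilin' S) ε u w x := by
  unfold siegM
  rw [← Matrix.toLinAlgEquiv'_apply, Matrix.toLinAlgEquiv'_toMatrixAlgEquiv']

theorem matrix_ext_mulVec' {M N : Matrix ι ι k} (h : ∀ x, M *ᵥ x = N *ᵥ x) : M = N := by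
  ext i j
  have := congrFun (h (Pi.single j (1 : k))) i
  rw [Matrix.mulVec_single_one, Matrix.mulVec_single_one] at this
  exact this

/-- the form on the images under a matrix -/
theorem bil_mulVec (S A : Matrix ι ι k) (a b : ι → k) :
    (A *ᵥ a) ⬝ᵥ S *ᵥ (A *ᵥ b) = a ⬝ᵥ (Aᵀ * S * A) *ᵥ b := by
  rw [Matrix.mulVec_mulVec, dotProduct_comm, Matrix.dotProduct_mulVec, ← Matrix.mulVec_transpose,
    dotProduct_comm, Matrix.mulVec_mulVec, ← Matrix.mul_assoc]

section sieg
variable (h : EpsForm (Matrix.toBilin' S) ε) (u w : ι → k)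
  (hu : Matrix.toBilin' S u u = 0) (hwu : Matrix.toBilin' S w u = 0)

include h hu hwu in
theorem siegM_isom : (siegM S ε u w)ᵀ * S * siegM S ε u w = S := by
  ext i j
  have := h.sieg_isom u w hu hwu (Pi.single i 1) (Pi.single j 1)
  rw [Matrix.toBilin'_single, ← siegM_mulVec, ← siegM_mulVec, Matrix.toBilin'_apply',
    bil_mulVec, ← Matrix.toBilin'_apply', Matrix.toBilin'_single] at this
  exact this

include h hu hwu in
theorem siegM_mul_neg : siegM S ε u w * siegM S ε u (-w) = 1 := by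
  apply matrix_ext_mulVec'
  intro x
  rw [← Matrix.mulVec_mulVec, siegM_mulVec, siegM_mulVec, h.sieg_neg' u w hu hwu,
    Matrix.one_mulVec]

include h hu hwu in
theorem siegM_neg_mul : siegM S ε u (-w) * siegM S ε u w = 1 := by
  apply matrix_ext_mulVec'
  intro x
  rw [← Matrix.mulVec_mulVec, siegM_mulVec, siegM_mulVec, h.sieg_neg u w hu hwu,
    Matrix.one_mulVec]

include h hu hwu in
theorem siegM_pow (r : ℕ) [CharP k r] : siegM S ε u w ^ r = 1 := by
  unfold siegM
  rw [← map_pow]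
  have : sieg (Matrix.toBilin' S) ε u w ^ r = 1 := by
    apply LinearMap.ext
    intro x
    rw [Module.End.pow_apply, h.sieg_iterate u w hu hwu, CharP.cast_eq_zero, zero_smul,
      h.sieg_zero]
    rfl
  rw [this, map_one]

include h hu hwu in
theorem siegM_det (r : ℕ) [hr : Fact r.Prime] [CharP k r] : (siegM S ε u w).det = 1 := by
  have h1 := congrArg Matrix.det (siegM_pow S ε h u w hu hwu r)
  rw [Matrix.det_pow, Matrix.det_one] at h1
  have h2 : ((siegM S ε u w).det - 1) ^ r = 0 := by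
    rw [sub_pow_char, h1, one_pow, sub_self]
  exact sub_eq_zero.mp (pow_eq_zero_iff (hr.out.ne_zero) |>.mp h2)

end sieg

/-- the semilinear map of a matrix and a field automorphism -/
def semiFun (M : Matrix ι ι k) (ρ : k ≃+* k) (v : ι → k) : ι → k := M *ᵥ fun i => ρ (v i)

theorem semiFun_comp (M M' : Matrix ι ι k) (ρ ρ' : k ≃+* k) (v : ι → k) :
    semiFun M ρ (semiFun M' ρ' v) = semiFun (M * M'.map ρ) (ρ'.trans ρ) v := by
  unfold semiFun
  rw [← Matrix.mulVec_mulVec]
  congr 1
  funext i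
  exact RingHom.map_mulVec (ρ : k →+* k) M' _ i

theorem semiFun_one_refl (v : ι → k) : semiFun (1 : Matrix ι ι k) (RingEquiv.refl k) v = v := by
  unfold semiFun
  rw [Matrix.one_mulVec]
  rfl

/-- the semilinear map is a similarity -/
noncomputable def semiOfMatrix (M : Matrix ι ι k) (ρ : k ≃+* k) (ν : k) (hν : ν ≠ 0)
    (hM : Mᵀ * S * M = ν • S.map ρ) : Semi (Matrix.toBilin' S) (semiFun M ρ) where
  σ := ρ
  ν := ν
  hν := hν
  add x y := by
    unfold semiFun
    rw [← Matrix.mulVec_add]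
    congr 1
    funext i
    simp
  smul a x := by
    unfold semiFun
    rw [← Matrix.mulVec_smul]
    congr 1
    funext i
    simp
  form x y := by
    unfold semiFun
    rw [Matrix.toBilin'_apply', Matrix.toBilin'_apply', bil_mulVec, hM,
      Matrix.smul_mulVec, dotProduct_smul, smul_eq_mul]
    congr 1
    have e1 := RingHom.map_dotProduct (ρ : k →+* k) x (S *ᵥ y)
    have e2 : ((ρ : k →+* k) ∘ (S *ᵥ y)) = S.map ρ *ᵥ fun i => ρ (y i) := by
      funext i
      exact RingHom.map_mulVec (ρ : k →+* k) S y i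
    rw [e2] at e1
    exact e1.symm

end Cfsg.Agent.Lib.Helper16.UBal
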