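import Mathlib
import Cfsg.Agent.Lib.Helper16.LBalA
import Cfsg.Agent.Lib.Helper16.UBalB
import Cfsg.Agent.Lib.Helper16.GraphInvPSL
import Cfsg.Agent.Lib.Helper16.LocalBalMinusM

/-!
# Local balance for the linear groups, part F: the subgroups of odd order normalised by the
centraliser of an involutory graph automorphism
-/

set_option autoImplicit false
set_option linter.unusedSectionVars false
set_option linter.unusedVariables false
set_option linter.unusedSimpArgs false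
set_option linter.style.haveILetI false

namespace Cfsg.Agent.Lib.Helper16.LBal

open Matrix Cfsg Cfsg.Agent.Lib.Helper6.AutPSL Cfsg.Agent.Lib.Helper16.H90GL
  Cfsg.Agent.Lib.Helper16.FieldCoset Cfsg.Agent.Lib.Helper16.SplitCount
  Cfsg.Agent.Lib.Helper16.UnitaryDescent Cfsg.Agent.Lib.Helper16.FieldCentPSL
  Cfsg.Agent.Lib.Helper16.GraphInvPSL
open Cfsg.Agent.Lib.Helper16.GraphFieldCoset (tpow_comm_fP tpow_mul_tP)
open Cfsg.Agent.Lib.Helper16.UBal (EpsForm sieg Semi semiFun semiFun_comp semiFun_one_refl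
  semiOfMatrix siegM siegM_mulVec siegM_isom siegM_mul_neg siegM_neg_mul siegM_pow siegM_det
  epsForm_of_matrix all_scalar)
open Cfsg.Agent.Lib.Helper16.LocalBalMinus (exists_odd_pow_eq_one' pPrimeCore_two_eq_bot)

variable {F : Type*} [Field F] {n : ℕ}

local notation "PSLn" => Matrix.ProjectiveSpecialLinearGroup (Fin n) F

/-- representation of an automorphism induced by a semilinear map -/
def RepL (m : MulAut PSLn) (Ψ : (Fin n → F) → (Fin n → F)) : Prop :=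
  ∃ (h : GL (Fin n) F) (ρ : RingAut F), m = cP h * fP ρ ∧ Ψ = semiFun h.1 ρ

theorem repL_one : RepL (1 : MulAut PSLn) (fun v => v) := by
  refine ⟨1, 1, by rw [map_one, fP_one, mul_one], ?_⟩
  funext v
  exact (semiFun_one_refl v).symm

theorem repL_comp (m m' : MulAut PSLn) (Ψ Ψ' : (Fin n → F) → (Fin n → F))
    (h1 : RepL m Ψ) (h2 : RepL m' Ψ') : RepL (m * m') (fun v => Ψ (Ψ' v)) := by
  obtain ⟨h, ρ, rfl, rfl⟩ := h1
  obtain ⟨h', ρ', rfl, rfl⟩ := h2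
  refine ⟨h * sG ρ h', ρ * ρ', ?_, ?_⟩
  · rw [map_mul, fP_mul]
    calc cP h * fP ρ * (cP h' * fP ρ') = cP h * (fP ρ * cP h') * fP ρ' := by group
      _ = cP h * (cP (sG ρ h') * fP ρ) * fP ρ' := by rw [rel_fP_cP]
      _ = _ := by group
  · funext v
    rw [semiFun_comp]
    rfl

theorem repL_pow (m : MulAut PSLn) (Ψ : (Fin n → F) → (Fin n → F)) (h1 : RepL m Ψ) (K : ℕ) :
    RepL (m ^ K) (Ψ^[K]) := by
  induction K with
  | zero =>
    rw [pow_zero]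
    exact repL_one
  | succ K ih =>
    rw [pow_succ']
    have := repL_comp m (m ^ K) Ψ (Ψ^[K]) h1 ih
    have e : (fun v => Ψ (Ψ^[K] v)) = Ψ^[K + 1] := by
      funext v
      rw [Function.iterate_succ_apply']
    rwa [e] at this

theorem semiFun_smul (c : F) (M : Matrix (Fin n) (Fin n) F) (ρ : RingAut F) (v : Fin n → F) :
    semiFun (c • M) ρ v = c • semiFun M ρ v := by
  unfold semiFun
  rw [Matrix.smul_mulVec]

/-- the representations of the same automorphism are proportional -/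
theorem repL_unique (hn : 2 ≤ n) (m : MulAut PSLn) (Ψ Ψ' : (Fin n → F) → (Fin n → F))
    (h1 : RepL m Ψ) (h2 : RepL m Ψ') : ∃ c : F, c ≠ 0 ∧ ∀ v, Ψ v = c • Ψ' v := by
  obtain ⟨h, ρ, rfl, rfl⟩ := h1
  obtain ⟨h', ρ', e, rfl⟩ := h2
  obtain ⟨rfl, hc⟩ := decomp_unique (card_fin_ge hn) h h' ρ ρ' e
  obtain ⟨lam, hlam⟩ := Matrix.GeneralLinearGroup.mem_center_iff_val_mem_range_scalar.mp hc
  rw [scalar_eq_smul_one, Units.val_mul] at hlam
  have hh : h.1 = lam • h'.1 := by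
    calc h.1 = h'.1 * ((h'⁻¹).1 * h.1) := by
          rw [← Matrix.mul_assoc, gl_mul_inv, Matrix.one_mul]
      _ = lam • h'.1 := by rw [← hlam, Matrix.mul_smul, Matrix.mul_one]
  have hlam0 : lam ≠ 0 := by
    rintro rfl
    rw [zero_smul] at hh
    exact gl_val_ne_zero (by omega) h hh
  refine ⟨lam, hlam0, fun v => ?_⟩
  rw [hh, semiFun_smul]

theorem repL_one_scalar (hn : 2 ≤ n) (Ψ : (Fin n → F) → (Fin n → F))
    (h1 : RepL (1 : MulAut PSLn) Ψ) : ∃ c : F, c ≠ 0 ∧ ∀ v, Ψ v = c • v :=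
  repL_unique hn 1 Ψ (fun v => v) h1 repL_one

/-- an automorphism represented by a scalar is trivial -/
theorem repL_final (hn : 2 ≤ n) (m : MulAut PSLn) (Ψ : (Fin n → F) → (Fin n → F))
    (h1 : RepL m Ψ) (c₀ : F) (hc₀ : ∀ v, Ψ v = c₀ • v) : m = 1 := by
  obtain ⟨h, ρ, rfl, rfl⟩ := h1
  have hsingle : ∀ (t : Fin n) (s : F), (fun i => ρ ((s • (Pi.single t 1 : Fin n → F)) i)) =
      ρ s • (Pi.single t 1 : Fin n → F) := by
    intro t s
    funext i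
    by_cases hit : i = t
    · subst hit
      simp
    · simp [Pi.single_apply, hit]
  have hk₀ : h.1 = c₀ • (1 : Matrix (Fin n) (Fin n) F) := by
    ext s t
    have := congrFun (hc₀ (Pi.single t 1)) s
    unfold semiFun at this
    have e := hsingle t 1
    rw [one_smul, map_one, one_smul] at e
    rw [e, Matrix.mulVec_single_one] at this
    rw [Matrix.smul_apply, Matrix.one_apply, smul_eq_mul]
    simp only [Matrix.col_apply, Pi.smul_apply, Pi.single_apply, smul_eq_mul] at this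
    rw [this]
  have hc₀0 : c₀ ≠ 0 := by
    rintro rfl
    rw [zero_smul] at hk₀
    exact gl_val_ne_zero (by omega) h hk₀
  let i0 : Fin n := ⟨0, by omega⟩
  have hρ : ∀ s : F, ρ s = s := by
    intro s
    have := congrFun (hc₀ (s • (Pi.single i0 1 : Fin n → F))) i0
    unfold semiFun at this
    rw [hsingle, hk₀, Matrix.smul_mulVec, Matrix.one_mulVec] at this
    simp only [Pi.smul_apply, Pi.single_eq_same, smul_eq_mul, mul_one] at this
    exact mul_left_cancel₀ hc₀0 this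
  have hρ1 : ρ = 1 := RingEquiv.ext hρ
  rw [hρ1, fP_one, mul_one, cP_eq_one_iff hn]
  exact ⟨c₀, hk₀⟩

/-- powers of a decomposition -/
theorem hasDec_pow {β : MulAut PSLn} {τ : RingAut F} {k : ZMod 2} (h : HasDec β τ k) (K : ℕ) :
    HasDec (β ^ K) (τ ^ K) ((K : ZMod 2) * k) := by
  induction K with
  | zero =>
    rw [pow_zero, pow_zero, Nat.cast_zero, zero_mul]
    exact ⟨1, by rw [map_one, fP_one, tpow_zero, one_mul, one_mul]⟩
  | succ K ih =>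
    rw [pow_succ, pow_succ, Nat.cast_succ, add_mul, one_mul]
    exact ih.mul h

section graph
variable [Fintype F] (r : ℕ) [hr : Fact r.Prime] [hcr : CharP F r] (hn : 3 ≤ n)
  (g : GL (Fin n) F) (ε : F) (hε : ε = 1 ∨ ε = -1) (hg : (g.1)ᵀ = ε • g.1)

include hn in
/-- automorphisms of odd order have a representation -/
theorem repL_exists {f : ℕ} (hF : Fintype.card F = r ^ f) (hf : 1 ≤ f) (m : MulAut PSLn)
    (K : ℕ) (hK : Odd K) (hmK : m ^ K = 1) : ∃ Ψ, RepL m Ψ := by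
  obtain ⟨h, ρ, e, hm⟩ := exists_dec hF hf (by omega : 2 ≤ n) m
  have hd : HasDec m ρ e := ⟨h, hm⟩
  have hd1 := hasDec_pow hd K
  rw [hmK] at hd1
  have hd2 : HasDec (1 : MulAut PSLn) 1 0 :=
    ⟨1, by rw [map_one, fP_one, tpow_zero, one_mul, one_mul]⟩
  have he := (HasDec.unique (card_fin_ge hn) hd1 hd2).2
  have hK1 : (K : ZMod 2) = 1 := by
    obtain ⟨t, rfl⟩ := hK
    rw [Nat.cast_add, Nat.cast_mul, Nat.cast_one]
    have : ((2 : ℕ) : ZMod 2) = 0 := by decide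
    rw [this, zero_mul, zero_add]
  rw [hK1, one_mul] at he
  subst he
  rw [tpow_zero, mul_one] at hm
  exact ⟨_, h, ρ, hm, rfl⟩

include hn hε hg in
theorem inv_transpose : ((g⁻¹).1)ᵀ = ε • (g⁻¹).1 := by
  have h1 : ((g⁻¹).1)ᵀ * (g.1)ᵀ = 1 := transpose_inv_mul g
  have hεε : ε * ε = 1 := by rcases hε with rfl | rfl <;> ring
  rw [hg, Matrix.mul_smul] at h1
  calc ((g⁻¹).1)ᵀ = (ε * ε) • ((g⁻¹).1)ᵀ := by rw [hεε, one_smul]
    _ = ε • ((ε • (((g⁻¹).1)ᵀ * g.1)) * (g⁻¹).1) := by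
        rw [Matrix.smul_mul, Matrix.mul_assoc, gl_mul_inv, Matrix.mul_one, smul_smul]
    _ = ε • (g⁻¹).1 := by rw [h1, Matrix.one_mul]

include hn in
/-- the representing maps of the automorphisms commuting with the graph automorphism are
semilinear similarities -/
theorem repL_semi (m : MulAut PSLn) (Ψ : (Fin n → F) → (Fin n → F)) (h1 : RepL m Ψ)
    (hm : m * (cP g * tP) = cP g * tP * m) :
    Nonempty (Semi (Matrix.toBilin' (g⁻¹).1) Ψ) := by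
  obtain ⟨h, ρ, rfl, rfl⟩ := h1
  have e1 : (cP h * fP ρ : MulAut PSLn) * (cP g * tP) = cP (h * sG ρ g) * (fP ρ * tP) := by
    calc (cP h * fP ρ : MulAut PSLn) * (cP g * tP) = cP h * (fP ρ * cP g) * tP := by
          simp only [mul_assoc]
      _ = cP h * (cP (sG ρ g) * fP ρ) * tP := by rw [rel_fP_cP]
      _ = _ := by rw [map_mul]; simp only [mul_assoc]
  have e2 : (cP g * tP : MulAut PSLn) * (cP h * fP ρ) = cP (g * gT h) * (fP ρ * tP) := by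
    calc (cP g * tP : MulAut PSLn) * (cP h * fP ρ) = cP g * (tP * cP h) * fP ρ := by
          simp only [mul_assoc]
      _ = cP g * (cP (gT h) * tP) * fP ρ := by rw [rel_tP_cP]
      _ = cP g * cP (gT h) * (tP * fP ρ) := by simp only [mul_assoc]
      _ = _ := by rw [rel_tP_fP, map_mul]
  rw [e1, e2, mul_left_inj, cP_eq_iff (by omega)] at hm
  obtain ⟨μ, hμ⟩ := hm
  rw [Units.val_mul, Units.val_mul, sG_val, gT_val] at hμ
  have hμ0 : μ ≠ 0 := by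
    rintro rfl
    rw [zero_smul] at hμ
    have : (h * sG ρ g).1 = 0 := by rw [Units.val_mul, sG_val]; exact hμ
    exact gl_val_ne_zero (by omega) _ this
  have hρg : (g⁻¹).1.map ρ * g.1.map ρ = 1 := by
    have h1 : ((g⁻¹).1 * g.1).map ρ = (1 : Matrix (Fin n) (Fin n) F).map ρ := by rw [gl_inv_mul]
    rw [Matrix.map_mul] at h1
    rw [h1]
    exact Matrix.map_one _ (map_zero ρ) (map_one ρ)
  have hρg' : g.1.map ρ * (g⁻¹).1.map ρ = 1 := mul_eq_one_comm.mp hρg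
  have key : (h.1)ᵀ * (g⁻¹).1 * h.1 = μ • (g⁻¹).1.map ρ := by
    have k1 : (h.1)ᵀ * (g⁻¹).1 * h.1 * g.1.map ρ = μ • (1 : Matrix (Fin n) (Fin n) F) := by
      calc (h.1)ᵀ * (g⁻¹).1 * h.1 * g.1.map ρ = (h.1)ᵀ * (g⁻¹).1 * (h.1 * g.1.map ρ) := by
            simp only [Matrix.mul_assoc]
        _ = (h.1)ᵀ * (g⁻¹).1 * (μ • (g.1 * ((h⁻¹).1)ᵀ)) := by rw [hμ]
        _ = μ • ((h.1)ᵀ * ((g⁻¹).1 * g.1) * ((h⁻¹).1)ᵀ) := by
            rw [Matrix.mul_smul]; simp only [Matrix.mul_assoc]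
        _ = μ • 1 := by rw [gl_inv_mul, Matrix.mul_one, transpose_mul_inv]
    calc (h.1)ᵀ * (g⁻¹).1 * h.1 = (h.1)ᵀ * (g⁻¹).1 * h.1 * (g.1.map ρ * (g⁻¹).1.map ρ) := by
          rw [hρg', Matrix.mul_one]
      _ = ((h.1)ᵀ * (g⁻¹).1 * h.1 * g.1.map ρ) * (g⁻¹).1.map ρ := by
          simp only [Matrix.mul_assoc]
      _ = μ • (g⁻¹).1.map ρ := by rw [k1, Matrix.smul_mul, Matrix.one_mul]
  exact ⟨semiOfMatrix (g⁻¹).1 h.1 ρ μ hμ0 key⟩

include hr hcr hn hε hg in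
/-- the Siegel transformations give inner automorphisms commuting with the graph automorphism -/
theorem repL_sieg (h2 : (2 : F) ≠ 0) (u w : Fin n → F)
    (hu : Matrix.toBilin' (g⁻¹).1 u u = 0) (hwu : Matrix.toBilin' (g⁻¹).1 w u = 0) :
    ∃ ρ' : MulAut PSLn, ρ' ∈ Cfsg.Inn PSLn ∧ ρ' * (cP g * tP) = cP g * tP * ρ' ∧ ρ' ^ r = 1 ∧
      RepL ρ' (fun v => sieg (Matrix.toBilin' (g⁻¹).1) ε u w v) ∧
      RepL ρ'⁻¹ (fun v => sieg (Matrix.toBilin' (g⁻¹).1) ε u (-w) v) := by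
  have hdet : (g⁻¹).1.det ≠ 0 := by
    have := (Matrix.GeneralLinearGroup.det g⁻¹).ne_zero
    rwa [val_det] at this
  have hE := epsForm_of_matrix (g⁻¹).1 ε hε (inv_transpose hn g ε hε hg) hdet h2
  obtain ⟨X, hX⟩ : ∃ X, X = siegM (g⁻¹).1 ε u w := ⟨_, rfl⟩
  obtain ⟨X', hX'⟩ : ∃ X', X' = siegM (g⁻¹).1 ε u (-w) := ⟨_, rfl⟩
  have hXX' : X * X' = 1 := by rw [hX, hX']; exact siegM_mul_neg _ ε hE u w hu hwu
  have hX'X : X' * X = 1 := by rw [hX, hX']; exact siegM_neg_mul _ ε hE u w hu hwu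
  have hXdet : X.det = 1 := by rw [hX]; exact siegM_det _ ε hE u w hu hwu r
  have hX'det : X'.det = 1 := by
    have := congrArg Matrix.det hXX'
    rw [Matrix.det_mul, hXdet, one_mul, Matrix.det_one] at this
    exact this
  have hXiso : Xᵀ * (g⁻¹).1 * X = (g⁻¹).1 := by rw [hX]; exact siegM_isom _ ε hE u w hu hwu
  have hXpow : X ^ r = 1 := by rw [hX]; exact siegM_pow _ ε hE u w hu hwu r
  obtain ⟨sX, hsX⟩ : ∃ sX : Matrix.SpecialLinearGroup (Fin n) F, sX.1 = X := ⟨⟨X, hXdet⟩, rfl⟩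
  obtain ⟨sX', hsX'⟩ : ∃ sX' : Matrix.SpecialLinearGroup (Fin n) F, sX'.1 = X' :=
    ⟨⟨X', hX'det⟩, rfl⟩
  have hinv : sX' = sX⁻¹ := by
    apply eq_inv_of_mul_eq_one_left
    apply Subtype.ext
    rw [Matrix.SpecialLinearGroup.coe_mul, hsX, hsX', hX'X]
    rfl
  have hval : (Matrix.SpecialLinearGroup.toGL sX).1 = X := hsX
  have hval' : (Matrix.SpecialLinearGroup.toGL sX').1 = X' := hsX'
  -- `X g Xᵀ = g`
  have hXg : X * g.1 * Xᵀ = g.1 := by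
    have k1 : Xᵀ * (g⁻¹).1 = (g⁻¹).1 * X' := by
      calc Xᵀ * (g⁻¹).1 = Xᵀ * (g⁻¹).1 * (X * X') := by rw [hXX', Matrix.mul_one]
        _ = (Xᵀ * (g⁻¹).1 * X) * X' := by simp only [Matrix.mul_assoc]
        _ = (g⁻¹).1 * X' := by rw [hXiso]
    have k2 : g.1 * Xᵀ = X' * g.1 := by
      calc g.1 * Xᵀ = g.1 * (Xᵀ * (g⁻¹).1) * g.1 := by
            rw [Matrix.mul_assoc, Matrix.mul_assoc, gl_inv_mul, Matrix.mul_one]
        _ = g.1 * ((g⁻¹).1 * X') * g.1 := by rw [k1]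
        _ = X' * g.1 := by rw [← Matrix.mul_assoc, gl_mul_inv, Matrix.one_mul]
    rw [Matrix.mul_assoc, k2, ← Matrix.mul_assoc, hXX', Matrix.one_mul]
  refine ⟨cP (Matrix.SpecialLinearGroup.toGL sX), ?_, ?_, ?_, ?_, ?_⟩
  · exact ⟨pm sX, conj_eq_cP sX⟩
  · rw [comm_gtP_iff (by omega)]
    refine ⟨1, ?_⟩
    rw [hval, one_smul]
    exact hXg
  · rw [← map_pow]
    have : (Matrix.SpecialLinearGroup.toGL sX) ^ r = 1 := by
      apply Units.ext
      rw [Units.val_pow_eq_pow_val, hval, hXpow]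
      rfl
    rw [this, map_one]
  · refine ⟨Matrix.SpecialLinearGroup.toGL sX, 1, by rw [fP_one, mul_one], ?_⟩
    funext v
    rw [hval, hX, ← siegM_mulVec]
    rfl
  · refine ⟨Matrix.SpecialLinearGroup.toGL sX', 1, ?_, ?_⟩
    · rw [fP_one, mul_one, hinv, map_inv, map_inv]
    · funext v
      rw [hval', hX', ← siegM_mulVec]
      rfl

include hr hcr hn hε hg in
/-- **the subgroups of odd order commuting with an involutory graph automorphism and normalised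
by its centraliser in the inner automorphisms are trivial** -/
theorem odd_normal_trivial_L {f : ℕ} (hF : Fintype.card F = r ^ f) (hf : 1 ≤ f) (hr2 : r ≠ 2)
    (N : Subgroup (MulAut PSLn)) [Finite N] (hodd : Odd (Nat.card N))
    (hNx : ∀ m ∈ N, m * (cP g * tP) = cP g * tP * m)
    (hNn : ∀ c ∈ Cfsg.Inn PSLn, c * (cP g * tP) = cP g * tP * c → ∀ m ∈ N, c * m * c⁻¹ ∈ N) :
    ∀ m ∈ N, m = 1 := by
  have hn2 : 2 ≤ n := by omega
  have h2 : (2 : F) ≠ 0 := by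
    intro h0
    have h1 : ((2 : ℕ) : F) = 0 := by exact_mod_cast h0
    rw [CharP.cast_eq_zero_iff F r] at h1
    exact hr2 ((Nat.prime_dvd_prime_iff_eq hr.out Nat.prime_two).mp h1)
  have hrodd : Odd r := hr.out.odd_of_ne_two hr2
  have hdet : (g⁻¹).1.det ≠ 0 := by
    have := (Matrix.GeneralLinearGroup.det g⁻¹).ne_zero
    rwa [val_det] at this
  have hE := epsForm_of_matrix (g⁻¹).1 ε hε (inv_transpose hn g ε hε hg) hdet h2
  have hex : ∀ m ∈ N, ∃ Ψ, RepL m Ψ := by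
    intro m hmN
    have h4 : (⟨m, hmN⟩ : ↥N) ^ Nat.card N = 1 := pow_card_eq_one'
    have h5 := congrArg Subtype.val h4
    rw [Subgroup.coe_pow, Subgroup.coe_one] at h5
    exact repL_exists r hn hF hf m (Nat.card N) hodd h5
  obtain ⟨𝒩, h𝒩⟩ : ∃ 𝒩 : Set ((Fin n → F) → (Fin n → F)),
      𝒩 = {Ψ | ∃ m ∈ N, RepL m Ψ} := ⟨_, rfl⟩
  have hsemi : ∀ Ψ ∈ 𝒩, Nonempty (Semi (Matrix.toBilin' (g⁻¹).1) Ψ) := by
    intro Ψ hΨ
    rw [h𝒩] at hΨ
    obtain ⟨m, hmN, hm⟩ := hΨ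
    exact repL_semi hn g m Ψ hm (hNx m hmN)
  have hsq : ∀ Ψ ∈ 𝒩, (fun x => Ψ (Ψ x)) ∈ 𝒩 := by
    intro Ψ hΨ
    rw [h𝒩] at hΨ ⊢
    obtain ⟨m, hmN, hm⟩ := hΨ
    exact ⟨m * m, N.mul_mem hmN hmN, repL_comp m m Ψ Ψ hm hm⟩
  have hoddK : ∀ Ψ ∈ 𝒩, ∀ u w : Fin n → F, Matrix.toBilin' (g⁻¹).1 u u = 0 →
      Matrix.toBilin' (g⁻¹).1 w u = 0 → ∃ K : ℕ, Odd K ∧ ∃ c : F, c ≠ 0 ∧
        ∀ x, (fun y => sieg (Matrix.toBilin' (g⁻¹).1) ε u w (Ψ y))^[K] x = c • x := by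
    intro Ψ hΨ u w hu hwu
    rw [h𝒩] at hΨ
    obtain ⟨m, hmN, hm⟩ := hΨ
    obtain ⟨ρ', hinn, hcomm, hpow, hrep, -⟩ := repL_sieg r hn g ε hε hg h2 u w hu hwu
    obtain ⟨K, hK, hKpow⟩ := exists_odd_pow_eq_one' N hodd m ρ' hmN (hNn ρ' hinn hcomm) r hrodd
      hpow
    refine ⟨K, hK, ?_⟩
    have h1 := repL_pow _ _ (repL_comp ρ' m _ Ψ hrep hm) K
    rw [hKpow] at h1
    exact repL_one_scalar hn2 _ h1
  have hcommK : ∀ Ψ ∈ 𝒩, ∀ u w : Fin n → F, Matrix.toBilin' (g⁻¹).1 u u = 0 →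
      Matrix.toBilin' (g⁻¹).1 w u = 0 → ∃ Ψ' ∈ 𝒩, ∃ c : F, c ≠ 0 ∧ ∀ x, Ψ (Ψ' x) =
        c • sieg (Matrix.toBilin' (g⁻¹).1) ε u w (Ψ (sieg (Matrix.toBilin' (g⁻¹).1) ε u (-w) x)) := by
    intro Ψ hΨ u w hu hwu
    rw [h𝒩] at hΨ
    obtain ⟨m, hmN, hm⟩ := hΨ
    obtain ⟨ρ', hinn, hcomm, hpow, hrep, hrep'⟩ := repL_sieg r hn g ε hε hg h2 u w hu hwu
    have hm'N : m⁻¹ * (ρ' * m * ρ'⁻¹) ∈ N :=
      N.mul_mem (N.inv_mem hmN) (hNn ρ' hinn hcomm m hmN)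
    obtain ⟨Ψ', hΨ'⟩ := hex _ hm'N
    refine ⟨Ψ', by rw [h𝒩]; exact ⟨_, hm'N, hΨ'⟩, ?_⟩
    have h1 := repL_comp m _ Ψ Ψ' hm hΨ'
    have e : m * (m⁻¹ * (ρ' * m * ρ'⁻¹)) = ρ' * m * ρ'⁻¹ := by group
    rw [e] at h1
    have h2' := repL_comp _ _ _ _ (repL_comp ρ' m _ Ψ hrep hm) hrep'
    exact repL_unique hn2 _ _ _ h1 h2'
  have h3 : 3 ≤ Module.finrank F (Fin n → F) := by
    rw [Module.finrank_fin_fun]
    exact hn
  intro m hmN
  obtain ⟨Ψ₀, hΨ₀⟩ := hex m hmN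
  have hmem : Ψ₀ ∈ 𝒩 := by rw [h𝒩]; exact ⟨m, hmN, hΨ₀⟩
  obtain ⟨c₀, hc₀⟩ := all_scalar hE 𝒩 hsemi hsq hoddK hcommK h3 Ψ₀ hmem
  exact repL_final hn2 m Ψ₀ hΨ₀ c₀ hc₀

end graph

end Cfsg.Agent.Lib.Helper16.LBal
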