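import Mathlib
import Cfsg.Agent.Lib.Helper16.LBalD
import Cfsg.Agent.Lib.Helper16.LBalE
import Cfsg.Agent.Lib.Helper16.LBalF

/-!
# Local balance for the linear groups, part G: the main theorem
-/

set_option autoImplicit false
set_option linter.unusedSectionVars false
set_option linter.unusedVariables false
set_option linter.unusedSimpArgs false
set_option linter.style.haveILetI false

namespace Cfsg.Agent.Lib.Helper16.LBal

open Matrix Cfsg Cfsg.Agent.Lib.Helper6 Cfsg.Agent.Lib.Helper6.AutPSL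
  Cfsg.Agent.Lib.Helper16.H90GL
  Cfsg.Agent.Lib.Helper16.FieldCoset Cfsg.Agent.Lib.Helper16.SplitCount
  Cfsg.Agent.Lib.Helper16.UnitaryDescent Cfsg.Agent.Lib.Helper16.FieldCentPSL
  Cfsg.Agent.Lib.Helper16.GraphInvPSL
open Cfsg.Agent.Lib.Helper16.GraphFieldCoset (tpow_comm_fP tpow_mul_tP core_gf)
open Cfsg.Agent.Lib.Helper16.FieldCosetPSU (tauA)
open Cfsg.Agent.Lib.Helper6.LocalBal (ringAut_comm comm_of_comm_mul exists_restrict_aut
  mem_zpowers_of_fixed mem_cent_singleton Good' core_iff' card_inn_cent)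
open Cfsg.Agent.Lib.Helper16.UBal (q2m1_dvd_card_PSU)
open Cfsg.Agent.Lib.Helper16.LocalBalMinus (pPrimeCore_two_eq_bot)

variable {F : Type*} [Field F] [Fintype F] {n : ℕ}

local notation "PSLn" => Matrix.ProjectiveSpecialLinearGroup (Fin n) F

theorem zmod2_one_ne_zero : ¬ ((1 : ZMod 2) = 0) := by decide

/-- the centre of a simple `PSL_n(F)` is trivial -/
theorem center_PSL (hn : 2 ≤ n) (hK : IsSimpleGroup PSLn) : Subgroup.center PSLn = ⊥ := by
  rcases Nat.lt_or_ge n 3 with h | h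
  · obtain rfl : n = 2 := by omega
    exact Cfsg.Agent.Lib.Helper15.JR.center_eq_bot_of_simple
      (Cfsg.Agent.Lib.Helper15.Dk.not_comm_PSL2 (F := F))
  · haveI : Group.IsPerfect (Matrix.SpecialLinearGroup (Fin n) F) :=
      ⟨Cfsg.Agent.S0249.SL_commutator_eq_top h⟩
    exact Group.IsPerfect.center_quotient_center_eq_bot (Matrix.SpecialLinearGroup (Fin n) F)

theorem inn_conj_iff (h : GL (Fin n) F) (k : MulAut PSLn) :
    k ∈ Cfsg.Inn PSLn ↔ MulAut.conj (cP h : MulAut PSLn) k ∈ Cfsg.Inn PSLn := by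
  rw [MulAut.conj_apply]
  constructor
  · intro hk
    exact (Cfsg.innNormal _).conj_mem k hk _
  · intro hk
    have := (Cfsg.innNormal _).conj_mem _ hk (cP h)⁻¹
    have e : (cP h : MulAut PSLn)⁻¹ * (cP h * k * (cP h)⁻¹) * ((cP h)⁻¹)⁻¹ = k := by group
    rwa [e] at this

section main
variable (r : ℕ) [hr : Fact r.Prime] [hcr : CharP F r] (hn : 2 ≤ n)

include hr hcr hn in
/-- the field case -/
theorem main_field {f : ℕ} (hF : Fintype.card F = r ^ f) (hf : 1 ≤ f)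
    (hK : IsSimpleGroup PSLn) (𝒢 : Subgroup (MulAut PSLn))
    (hinn : ∀ k : PSLn, MulAut.conj k ∈ 𝒢) (p : ℕ) [hpf : Fact p.Prime] (hpr : p ≠ r)
    (a : GL (Fin n) F) (τ : RingAut F) (hβ : cP a * fP τ ∈ 𝒢)
    (hord : orderOf (cP a * fP τ : MulAut PSLn) = p)
    (hnot : ¬ Cfsg.IsInnerDiagonalAutPSL (cP a * fP τ : MulAut PSLn)) :
    Cfsg.pPrimeCore p ↥(𝒢 ⊓ Subgroup.centralizer {(cP a * fP τ : MulAut PSLn)}) ≠ ⊥ ↔
      Nat.Coprime p (Nat.card ↥(MonoidHom.eqLocus (cP a * fP τ : MulAut PSLn).toMonoidHom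
        (MonoidHom.id PSLn))) := by
  classical
  have hp : p.Prime := hpf.out
  obtain ⟨β, hβdef⟩ : ∃ β : MulAut PSLn, β = cP a * fP τ := ⟨_, rfl⟩
  rw [← hβdef] at hβ hord hnot ⊢
  have hxp : β ^ p = 1 := by rw [← hord]; exact pow_orderOf_eq_one β
  have hτ1 : τ ≠ 1 := by
    intro h
    apply hnot
    rw [hβdef, h, fP_one, mul_one]
    exact isInnerDiag_cP a
  have hτp : τ ^ p = 1 := by
    have h1 := hxp
    rw [hβdef, pow_cP_fP] at h1
    have e : (cP (Nrm τ a p) * fP (τ ^ p : RingAut F) : MulAut PSLn) = cP 1 * fP 1 := by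
      rw [h1, map_one, fP_one, mul_one]
    exact (decomp_unique (card_fin_ge hn) _ 1 _ _ e).1
  have hτord : orderOf τ = p := by
    rcases (Nat.dvd_prime hp).mp (orderOf_dvd_of_pow_eq_one hτp) with h | h
    · exact absurd (orderOf_eq_one_iff.mp h) hτ1
    · exact h
  have hφord : orderOf (fP τ : MulAut PSLn) = p := by
    rw [← fPhom_apply, orderOf_injective fPhom (fPhom_injective hn) τ, hτord]
  obtain ⟨h, hh⟩ := core_field hn τ p hp.pos hφord a (by rw [← hβdef]; exact hord)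
  have hxh : β = cP h * fP τ * (cP h)⁻¹ := by rw [hβdef]; exact hh
  -- the fixed field
  haveI : Fintype ↥(fixK τ) := Fintype.ofFinite _
  obtain ⟨j, hjdef⟩ : ∃ j : ↥(fixK τ) →+* F, j = (fixK τ).subtype := ⟨_, rfl⟩
  have hj : ∀ b : F, τ b = b ↔ b ∈ Set.range j := by
    intro b
    rw [hjdef]
    constructor
    · intro hb
      exact ⟨⟨b, hb⟩, rfl⟩
    · rintro ⟨c, rfl⟩
      exact c.2
  obtain ⟨M, hM⟩ : ∃ M : Subgroup (MulAut PSLn), M = subL (F := F) (n := n) j := ⟨_, rfl⟩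
  have hgood : Good' (Cfsg.Inn PSLn) (fP τ) p M := by
    rw [hM]
    exact good_fP r hn j τ hj hF hf p hp hpr
  have hgood' : Good' (Cfsg.Inn PSLn) β p
      (M.map (MulAut.conj (cP h : MulAut PSLn)).toMonoidHom) := by
    have e : MulAut.conj (cP h : MulAut PSLn) (fP τ) = β := hxh.symm
    exact hgood.map' (MulAut.conj (cP h)) (inn_conj_iff h) β e
  have hIA : Cfsg.Inn PSLn ≤ 𝒢 := by
    rintro _ ⟨k, rfl⟩
    exact hinn k
  have hZ := center_PSL hn hK
  rw [core_iff' (Cfsg.Inn PSLn) 𝒢 hIA β hβ p hxp _ hgood', card_inn_cent hZ β]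

include hr hcr hn in
/-- the graph and graph-field cases -/
theorem main_graph {f : ℕ} (hF : Fintype.card F = r ^ f) (hf : 1 ≤ f) (hn3 : 3 ≤ n)
    (hK : IsSimpleGroup PSLn) (𝒢 : Subgroup (MulAut PSLn))
    (hinn : ∀ k : PSLn, MulAut.conj k ∈ 𝒢) (hr2 : r ≠ 2)
    (a : GL (Fin n) F) (τ : RingAut F) (hβ : cP a * fP τ * tP ∈ 𝒢)
    (hord : orderOf (cP a * fP τ * tP : MulAut PSLn) = 2) :
    Cfsg.pPrimeCore 2 ↥(𝒢 ⊓ Subgroup.centralizer {(cP a * fP τ * tP : MulAut PSLn)}) = ⊥ := by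
  classical
  have h3 : 3 ≤ Fintype.card (Fin n) := card_fin_ge hn3
  have hIA : Cfsg.Inn PSLn ≤ 𝒢 := by
    rintro _ ⟨k, rfl⟩
    exact hinn k
  obtain ⟨β, hβdef⟩ : ∃ β : MulAut PSLn, β = cP a * fP τ * tP := ⟨_, rfl⟩
  rw [← hβdef] at hβ hord ⊢
  have hxp : β ^ 2 = 1 := by rw [← hord]; exact pow_orderOf_eq_one β
  have hd : HasDec β τ 1 := ⟨a, by rw [tpow_one, hβdef]⟩
  have hd1 := hasDec_pow hd 2
  rw [hxp] at hd1
  have hd2 : HasDec (1 : MulAut PSLn) 1 0 :=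
    ⟨1, by rw [map_one, fP_one, tpow_zero, one_mul, one_mul]⟩
  have hτ2 : τ ^ 2 = 1 := (HasDec.unique h3 hd1 hd2).1
  by_cases hτ1 : τ = 1
  · -- the graph involutions
    subst hτ1
    rw [fP_one, mul_one] at hβdef
    rw [hβdef] at hord ⊢
    obtain ⟨ε, hε, hg⟩ : ∃ ε : F, (ε = 1 ∨ ε = -1) ∧ (a.1)ᵀ = ε • a.1 := by
      rcases (orderOf_gtP hn3 a).mp hord with h | h
      · exact ⟨1, Or.inl rfl, by rw [h, one_smul]⟩
      · exact ⟨-1, Or.inr rfl, by rw [h, neg_smul, one_smul]⟩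
    apply pPrimeCore_two_eq_bot (Cfsg.Inn PSLn) 𝒢 hIA
    intro N _ hodd hNx hNn
    exact odd_normal_trivial_L r hn3 a ε hε hg hF hf hr2 N hodd hNx hNn
  · -- the graph-field involutions
    have hτ2' : τ * τ = 1 := by rw [← pow_two]; exact hτ2
    have hτord : orderOf τ = 2 := orderOf_eq_prime hτ2 hτ1
    obtain ⟨hdvd2, hcard₀⟩ := fixed_field_card hF τ 2 hτord (by norm_num)
    obtain ⟨q₀, hq₀⟩ : ∃ q₀ : ℕ, q₀ = r ^ (f / 2) := ⟨_, rfl⟩
    have hF' : Fintype.card F = q₀ ^ 2 := by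
      rw [hF, hq₀, ← pow_mul, Nat.div_mul_cancel hdvd2]
    have hτA : τ = tauA hF' := Cfsg.Agent.Lib.Helper16.GraphInvPSU.eq_tauA r hF' τ hτ2' hτ1
    have hβdef' : β = cP a * (fP τ * tP) := by rw [hβdef, mul_assoc]
    have hw1 : (fP τ * tP : MulAut PSLn) ≠ 1 := by
      intro h
      have hd3 : HasDec (1 : MulAut PSLn) τ 1 :=
        ⟨1, by rw [map_one, one_mul, tpow_one, h]⟩
      have := (HasDec.unique h3 hd3 hd2).2
      exact absurd this (by decide)
    have hw2 : (fP τ * tP : MulAut PSLn) ^ 2 = 1 := by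
      rw [pow_two]
      calc (fP τ * tP : MulAut PSLn) * (fP τ * tP) = fP τ * (tP * fP τ) * tP := by
            simp only [mul_assoc]
        _ = fP τ * (fP τ * tP) * tP := by rw [rel_tP_fP]
        _ = (fP τ * fP τ) * (tP * tP) := by simp only [mul_assoc]
        _ = 1 := by rw [← fP_mul, hτ2', fP_one, tP_mul_tP, mul_one]
    have hword : orderOf (fP τ * tP : MulAut PSLn) = 2 := orderOf_eq_prime hw2 hw1
    obtain ⟨h, hh⟩ := core_gf hn3 τ hτ1 2 Nat.prime_two hword a (by rw [← hβdef']; exact hord)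
    have hxh : β = cP h * (fP τ * tP) * (cP h)⁻¹ := by rw [hβdef']; exact hh
    have hgood : Good' (Cfsg.Inn PSLn) (fP τ * tP) 2 (subS n q₀ F) := by
      rw [hτA]
      exact good_gf r hF' hn3 hF hf hr2
    have hgood' : Good' (Cfsg.Inn PSLn) β 2
        ((subS n q₀ F).map (MulAut.conj (cP h : MulAut PSLn)).toMonoidHom) := by
      have e : MulAut.conj (cP h : MulAut PSLn) (fP τ * tP) = β := hxh.symm
      exact hgood.map' (MulAut.conj (cP h)) (inn_conj_iff h) β e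
    have hiff := core_iff' (Cfsg.Inn PSLn) 𝒢 hIA β hβ 2 hxp _ hgood'
    by_contra hne
    have hcop := hiff.mp hne
    -- the order of the unitary subgroup is even
    have hq₀odd : q₀ % 2 = 1 := by
      have hoddF : Fintype.card F % 2 = 1 := by
        apply FiniteField.odd_card_of_char_ne_two
        rw [ringChar.eq F r]
        exact hr2
      rw [hF'] at hoddF
      rcases Nat.mod_two_eq_zero_or_one q₀ with h | h
      · exfalso
        have : q₀ ^ 2 % 2 = 0 := by rw [Nat.pow_mod, h]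
        omega
      · exact h
    have heven : 2 ∣ Nat.card (Cfsg.PSU n F q₀) := by
      refine dvd_trans ?_ (q2m1_dvd_card_PSU hF' n hn3)
      have : q₀ ^ 2 % 2 = 1 := by rw [Nat.pow_mod, hq₀odd]
      omega
    obtain ⟨eM⟩ := subS_equiv (F := F) hF' hn3
    have hcardM : Nat.card ↥((subS n q₀ F).map (MulAut.conj (cP h : MulAut PSLn)).toMonoidHom) =
        Nat.card (Cfsg.PSU n F q₀) := by
      rw [← Nat.card_congr eM.toEquiv]
      exact (Nat.card_congr ((subS n q₀ F).equivMapOfInjective _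
        (MulAut.conj (cP h : MulAut PSLn)).injective).toEquiv).symm
    have h2dvd : 2 ∣ Nat.card ↥(Cfsg.Inn PSLn ⊓ Subgroup.centralizer {β}) := by
      refine dvd_trans ?_ (Subgroup.card_dvd_of_le hgood'.le)
      rw [hcardM]
      exact heven
    have h4 : 2 ∣ Nat.gcd 2 (Nat.card ↥(Cfsg.Inn PSLn ⊓ Subgroup.centralizer {β})) :=
      Nat.dvd_gcd dvd_rfl h2dvd
    rw [Nat.Coprime] at hcop
    rw [hcop] at h4
    omega

include hr hcr hn in
/-- **local balance for the automorphisms of prime order of `PSL_n(q)` which are not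
inner-diagonal** -/
theorem main_L (hK : IsSimpleGroup PSLn) (𝒢 : Subgroup (MulAut PSLn))
    (hinn : ∀ k : PSLn, MulAut.conj k ∈ 𝒢) (p : ℕ) [hpf : Fact p.Prime] (hpr : p ≠ r)
    (β : MulAut PSLn) (hβ : β ∈ 𝒢) (hord : orderOf β = p)
    (hnot : ¬ Cfsg.IsInnerDiagonalAutPSL β) :
    Cfsg.pPrimeCore p ↥(𝒢 ⊓ Subgroup.centralizer {β}) ≠ ⊥ ↔
      ((∃ γ φ : MulAut PSLn, Cfsg.IsInnerDiagonalAutPSL γ ∧ Cfsg.IsFieldAutPSL φ ∧
          β = φ.trans γ) ∧
        Nat.Coprime p (Nat.card ↥(MonoidHom.eqLocus β.toMonoidHom (MonoidHom.id PSLn)))) := by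
  have hp : p.Prime := hpf.out
  obtain ⟨f, -, hF⟩ := FiniteField.card F r
  have hf : 1 ≤ (f : ℕ) := f.2
  obtain ⟨a, τ, k, hβd, hk2⟩ := exists_dec' hF hf hn β
  rcases zmod2_cases k with rfl | rfl
  · rw [tpow_zero, mul_one] at hβd
    subst hβd
    have hfirst : ∃ γ φ : MulAut PSLn, Cfsg.IsInnerDiagonalAutPSL γ ∧ Cfsg.IsFieldAutPSL φ ∧
        (cP a * fP τ : MulAut PSLn) = φ.trans γ :=
      ⟨cP a, fP τ, isInnerDiag_cP a, ⟨τ, isStdField_fP τ⟩, rfl⟩
    rw [main_field r hn hF hf hK 𝒢 hinn p hpr a τ hβ hord hnot]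
    exact ⟨fun hc => ⟨hfirst, hc⟩, fun hc => hc.2⟩
  · have hn3 : 3 ≤ n := by
      by_contra h
      have : n = 2 := by omega
      exact absurd (hk2 this) zmod2_one_ne_zero
    have h3 : 3 ≤ Fintype.card (Fin n) := card_fin_ge hn3
    rw [tpow_one] at hβd
    have hd : HasDec β τ 1 := ⟨a, by rw [tpow_one, hβd]⟩
    have hd2 : HasDec (1 : MulAut PSLn) 1 0 :=
      ⟨1, by rw [map_one, fP_one, tpow_zero, one_mul, one_mul]⟩
    -- `p = 2`
    have hp2 : p = 2 := by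
      have hxp : β ^ p = 1 := by rw [← hord]; exact pow_orderOf_eq_one β
      have hd1 := hasDec_pow hd p
      rw [hxp, mul_one] at hd1
      have h0 : (p : ZMod 2) = 0 := (HasDec.unique h3 hd1 hd2).2
      have hdvd : 2 ∣ p := (ZMod.natCast_eq_zero_iff p 2).mp h0
      exact ((Nat.prime_dvd_prime_iff_eq Nat.prime_two hp).mp hdvd).symm
    subst hp2
    have hfirst : ¬ ∃ γ φ : MulAut PSLn, Cfsg.IsInnerDiagonalAutPSL γ ∧ Cfsg.IsFieldAutPSL φ ∧
        β = φ.trans γ := by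
      rintro ⟨γ, φ, hγ, ⟨σ, hφ⟩, e⟩
      obtain ⟨g', rfl⟩ := (isInnerDiag_iff γ).mp hγ
      have hφ' : φ = fP σ := eq_fP_of_isStd σ φ hφ
      subst hφ'
      have hd3 : HasDec β σ 0 := ⟨g', by rw [tpow_zero, mul_one, e]; rfl⟩
      exact absurd (HasDec.unique h3 hd hd3).2 zmod2_one_ne_zero
    have hcore : Cfsg.pPrimeCore 2 ↥(𝒢 ⊓ Subgroup.centralizer {β}) = ⊥ := by
      subst hβd
      exact main_graph r hn hF hf hn3 hK 𝒢 hinn (fun h => hpr h.symm) a τ hβ hord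
    constructor
    · intro h
      exact absurd hcore h
    · rintro ⟨h, -⟩
      exact absurd h hfirst

end main

end Cfsg.Agent.Lib.Helper16.LBal
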