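import Mathlib

set_option autoImplicit false

/-! Lang's theorem for `GL_n`, linear-algebra form: an injective `φ`-semilinear endomorphism of a
finite-dimensional vector space over an algebraically closed field, `φ a = a ^ q` with `q ≥ 2`, has a
linearly independent family of `dim V` fixed vectors. -/

namespace Cfsg.Agent.Lib.Helper16

open Polynomial Module

section Lang

universe u v

variable {K : Type u} [Field K] [IsAlgClosed K] (φ : K →+* K) (q : ℕ)

/-- the additive polynomials of the cyclic computation -/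
noncomputable def langPoly (a : ℕ → K) (q : ℕ) : ℕ → K[X]
  | 0 => C (a 0) * X
  | (i + 1) => (langPoly a q i) ^ q + C (a (i + 1)) * X

theorem langPoly_eval_zero (a : ℕ → K) (hq : 1 ≤ q) (i : ℕ) : (langPoly a q i).eval 0 = 0 := by
  induction i with
  | zero => simp [langPoly]
  | succ i ih =>
    simp only [langPoly, eval_add, eval_pow, ih, eval_mul, eval_C, eval_X, mul_zero, add_zero]
    exact zero_pow (by omega)

theorem langPoly_natDegree (a : ℕ → K) (hq : 2 ≤ q) (ha : a 0 ≠ 0) (i : ℕ) :
    (langPoly a q i).natDegree = q ^ i := by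
  induction i with
  | zero => simp [langPoly, natDegree_C_mul_X _ ha]
  | succ i ih =>
    have h1 : ((langPoly a q i) ^ q).natDegree = q ^ (i + 1) := by
      rw [natDegree_pow, ih, pow_succ, mul_comm]
    have h2 : (C (a (i + 1)) * X : K[X]).natDegree ≤ 1 := by
      refine (natDegree_C_mul_le _ _).trans ?_
      simp
    have h3 : 1 < q ^ (i + 1) := by
      calc 1 < q := by omega
        _ = q ^ 1 := (pow_one q).symm
        _ ≤ q ^ (i + 1) := Nat.pow_le_pow_right (by omega) (by omega)
    show ((langPoly a q i) ^ q + C (a (i + 1)) * X).natDegree = q ^ (i + 1)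
    rw [natDegree_add_eq_left_of_natDegree_lt (by rw [h1]; omega), h1]

/-- a nonzero root of `P ^ q - X` where `P` is the last additive polynomial -/
theorem exists_root_langPoly (a : ℕ → K) (hq : 2 ≤ q) (ha : a 0 ≠ 0) (i : ℕ) :
    ∃ t : K, t ≠ 0 ∧ ((langPoly a q i).eval t) ^ q = t := by
  obtain ⟨P', hP'⟩ : X ∣ langPoly a q i := by
    rw [X_dvd_iff, coeff_zero_eq_eval_zero]
    exact langPoly_eval_zero q a (by omega) i
  have hP'0 : P' ≠ 0 := by
    rintro rfl
    have := langPoly_natDegree q a hq ha i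
    rw [hP', mul_zero, natDegree_zero] at this
    exact (pow_pos (by omega : 0 < q) i).ne this
  obtain ⟨S, hS⟩ : ∃ S : K[X], S = X ^ (q - 1) * P' ^ q - C 1 := ⟨_, rfl⟩
  have hdeg : 0 < (X ^ (q - 1) * P' ^ q : K[X]).degree := by
    rw [degree_mul, degree_X_pow]
    have h1 : (0 : WithBot ℕ) ≤ (P' ^ q).degree :=
      zero_le_degree_iff.2 (pow_ne_zero q hP'0)
    have h2 : (0 : WithBot ℕ) < ((q - 1 : ℕ) : WithBot ℕ) := by
      exact_mod_cast (by omega : 0 < q - 1)
    calc (0 : WithBot ℕ) < ((q - 1 : ℕ) : WithBot ℕ) := h2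
      _ = ((q - 1 : ℕ) : WithBot ℕ) + 0 := (add_zero _).symm
      _ ≤ ((q - 1 : ℕ) : WithBot ℕ) + (P' ^ q).degree := by gcongr
  have hSdeg : S.degree ≠ 0 := by
    rw [hS, degree_sub_C hdeg]
    exact hdeg.ne'
  obtain ⟨t, ht⟩ := IsAlgClosed.exists_root S hSdeg
  have ht' : t ^ (q - 1) * (P'.eval t) ^ q = 1 := by
    rw [IsRoot.def, hS] at ht
    simp only [eval_sub, eval_mul, eval_pow, eval_X, eval_C] at ht
    exact sub_eq_zero.1 ht
  have ht0 : t ≠ 0 := by
    rintro rfl
    rw [zero_pow (by omega), zero_mul] at ht'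
    exact zero_ne_one ht'
  refine ⟨t, ht0, ?_⟩
  rw [hP', eval_mul, eval_X, mul_pow]
  have : t ^ q = t * t ^ (q - 1) := by
    rw [← pow_succ']; congr 1; omega
  rw [this, mul_assoc, ht', mul_one]

end Lang

section Fixed

universe u v

variable {K : Type u} [Field K] [IsAlgClosed K] (φ : K →+* K) (q : ℕ)
variable {V : Type v} [AddCommGroup V] [Module K V] [FiniteDimensional K V]

theorem exists_fixed_ne_zero (hq : 2 ≤ q) (hφ : ∀ a, φ a = a ^ q) (Φ : V →ₛₗ[φ] V)
    (hinj : Function.Injective Φ) [Nontrivial V] : ∃ w : V, w ≠ 0 ∧ Φ w = w := by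
  classical
  obtain ⟨v, hv⟩ := exists_ne (0 : V)
  obtain ⟨vs, hvs⟩ : ∃ vs : ℕ → V, vs = fun i => (⇑Φ)^[i] v := ⟨_, rfl⟩
  have hvs0 : vs 0 = v := by rw [hvs]; rfl
  have hvs_succ : ∀ i, vs (i + 1) = Φ (vs i) := by
    intro i; rw [hvs]; exact Function.iterate_succ_apply' _ _ _
  have hex : ∃ m, ¬ LinearIndependent K (fun i : Fin m => vs i) := by
    refine ⟨finrank K V + 1, fun h => ?_⟩
    have := h.fintype_card_le_finrank
    simp at this
  have hk : ¬ LinearIndependent K (fun i : Fin (Nat.find hex) => vs i) := Nat.find_spec hex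
  have hkmin : ∀ j < Nat.find hex, LinearIndependent K (fun i : Fin j => vs i) :=
    fun j hj => not_not.1 (Nat.find_min hex hj)
  obtain ⟨k, hkdef⟩ : ∃ k, k = Nat.find hex := ⟨_, rfl⟩
  rw [← hkdef] at hk hkmin
  have hk0 : k ≠ 0 := by
    intro h0; apply hk; rw [h0]; exact linearIndependent_empty_type
  have hk1 : k ≠ 1 := by
    intro h1; apply hk; rw [h1]
    rw [linearIndependent_unique_iff]
    show vs ((default : Fin 1) : ℕ) ≠ 0
    have : ((default : Fin 1) : ℕ) = 0 := rfl
    rw [this, hvs0]; exact hv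
  obtain ⟨m', hm'⟩ : ∃ m', k = m' + 2 := ⟨k - 2, by omega⟩
  have hind : LinearIndependent K (fun i : Fin (m' + 1) => vs i) := hkmin _ (by omega)
  have hdep : ¬ LinearIndependent K (fun i : Fin (m' + 2) => vs i) := hm' ▸ hk
  have hsnoc : ∀ n : ℕ, (fun i : Fin (n + 1) => vs i)
      = Fin.snoc (fun i : Fin n => vs i) (vs n) := by
    intro n
    funext i
    refine Fin.lastCases ?_ (fun j => ?_) i
    · simp
    · simp
  rw [hsnoc (m' + 1), linearIndependent_finSnoc] at hdep
  have hmem : vs (m' + 1) ∈ Submodule.span K (Set.range (fun i : Fin (m' + 1) => vs i)) := by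
    by_contra h; exact hdep ⟨hind, h⟩
  obtain ⟨a, ha⟩ := (Submodule.mem_span_range_iff_exists_fun K).1 hmem
  rw [Fin.sum_univ_succ] at ha
  simp only [Fin.val_zero, Fin.val_succ] at ha
  -- a 0 ≠ 0
  have ha0 : a 0 ≠ 0 := by
    intro h0
    rw [h0, zero_smul, zero_add] at ha
    choose b hb using fun j : Fin m' => IsAlgClosed.exists_pow_nat_eq (a j.succ) (by omega : 0 < q)
    have h1 : Φ (∑ j : Fin m', b j • vs j) = Φ (vs m') := by
      rw [map_sum, ← hvs_succ, ← ha]
      refine Finset.sum_congr rfl fun j _ => ?_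
      rw [map_smulₛₗ, hφ, hb, hvs_succ]
    have h2 := hinj h1
    have h3 : vs m' ∈ Submodule.span K (Set.range (fun i : Fin m' => vs i)) := by
      rw [Submodule.mem_span_range_iff_exists_fun]
      exact ⟨b, h2⟩
    rw [hsnoc m', linearIndependent_finSnoc] at hind
    exact hind.2 h3
  -- extend a to ℕ
  obtain ⟨a', ha'⟩ : ∃ a' : ℕ → K, a' = fun i => if h : i < m' + 1 then a ⟨i, h⟩ else 0 := ⟨_, rfl⟩
  have ha'0 : a' 0 = a 0 := by
    rw [ha']; simp
  have ha's : ∀ j : Fin m', a' ((j : ℕ) + 1) = a j.succ := by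
    intro j
    rw [ha']
    have : (j : ℕ) + 1 < m' + 1 := by omega
    simp only [this, dif_pos]
    rfl
  obtain ⟨t, ht0, ht⟩ := exists_root_langPoly q a' hq (ha'0 ▸ ha0) m'
  obtain ⟨c, hc⟩ : ∃ c : ℕ → K, c = fun i => (langPoly a' q i).eval t := ⟨_, rfl⟩
  have hc0 : c 0 = a 0 * t := by
    rw [hc]; simp [langPoly, ha'0]
  have hcs : ∀ i, c (i + 1) = (c i) ^ q + a' (i + 1) * t := by
    intro i
    rw [hc]; simp [langPoly]
  have hct : (c m') ^ q = t := by rw [hc]; exact ht
  refine ⟨∑ i : Fin (m' + 1), c i • vs i, ?_, ?_⟩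
  · intro hw
    have hall := Fintype.linearIndependent_iff.1 hind (fun i => c i) hw (Fin.last m')
    simp only [Fin.val_last] at hall
    rw [hall, zero_pow (by omega)] at hct
    exact ht0 hct.symm
  · have hΦ : Φ (∑ i : Fin (m' + 1), c i • vs i) = ∑ i : Fin (m' + 1), (c i) ^ q • vs ((i : ℕ) + 1) := by
      rw [map_sum]
      refine Finset.sum_congr rfl fun i _ => ?_
      rw [map_smulₛₗ, hφ, hvs_succ]
    rw [hΦ, Fin.sum_univ_castSucc, Fin.sum_univ_succ (fun i : Fin (m' + 1) => c i • vs i)]
    simp only [Fin.val_castSucc, Fin.val_last, Fin.val_zero, Fin.val_succ]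
    rw [hct, ← ha, smul_add, Finset.smul_sum, hc0, add_left_comm, ← Finset.sum_add_distrib,
      mul_comm, mul_smul]
    congr 1
    refine Finset.sum_congr rfl fun j _ => ?_
    rw [hcs, ha's, add_smul, mul_comm, mul_smul]

/-- An injective `φ`-semilinear endomorphism (`φ a = a ^ q`, `q ≥ 2`, `K` algebraically closed) has a
linearly independent family of `dim V` fixed vectors. -/
theorem exists_fixed_family (hq : 2 ≤ q) (hφ : ∀ a, φ a = a ^ q) (n : ℕ) :
    ∀ {V : Type v} [AddCommGroup V] [Module K V] [FiniteDimensional K V] (Φ : V →ₛₗ[φ] V),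
      Function.Injective Φ → finrank K V = n →
      ∃ b : Fin n → V, LinearIndependent K b ∧ ∀ i, Φ (b i) = b i := by
  induction n with
  | zero =>
    intro V _ _ _ Φ _ _
    exact ⟨Fin.elim0, linearIndependent_empty_type, fun i => i.elim0⟩
  | succ n ih =>
    intro V _ _ _ Φ hinj hn
    haveI : Nontrivial V := by
      apply Module.nontrivial_of_finrank_pos (R := K)
      rw [hn]; omega
    obtain ⟨w, hw0, hw⟩ := exists_fixed_ne_zero φ q hq hφ Φ hinj
    obtain ⟨U, hUdef⟩ : ∃ U : Submodule K V, U = K ∙ w := ⟨_, rfl⟩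
    have hwU : w ∈ U := hUdef ▸ Submodule.mem_span_singleton_self w
    have hUmem : ∀ u, u ∈ U ↔ ∃ a : K, a • w = u := by
      intro u; rw [hUdef]; exact Submodule.mem_span_singleton
    have hU : U ≤ U.comap Φ := by
      intro u hu
      obtain ⟨a, rfl⟩ := (hUmem u).1 hu
      rw [Submodule.mem_comap, map_smulₛₗ, hw]
      exact U.smul_mem _ hwU
    obtain ⟨Ψ, hΨ⟩ : ∃ Ψ : (V ⧸ U) →ₛₗ[φ] (V ⧸ U), Ψ = U.mapQ U Φ hU := ⟨_, rfl⟩
    have hΨmk : ∀ x : V, Ψ (Submodule.Quotient.mk x) = Submodule.Quotient.mk (Φ x) := by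
      intro x; rw [hΨ]; rfl
    have hΨinj : Function.Injective Ψ := by
      rw [injective_iff_map_eq_zero]
      intro x hx
      induction x using Submodule.Quotient.induction_on with
      | H x =>
        rw [hΨmk, Submodule.Quotient.mk_eq_zero] at hx
        obtain ⟨a, ha⟩ := (hUmem _).1 hx
        obtain ⟨b, hb⟩ := IsAlgClosed.exists_pow_nat_eq a (by omega : 0 < q)
        have h1 : Φ (b • w) = Φ x := by
          rw [map_smulₛₗ, hφ, hb, hw, ha]
        have h2 := hinj h1
        rw [Submodule.Quotient.mk_eq_zero, ← h2]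
        exact U.smul_mem _ hwU
    have hfr : finrank K (V ⧸ U) = n := by
      have h1 := Submodule.finrank_quotient_add_finrank U
      have h2 : finrank K U = 1 := by rw [hUdef]; exact finrank_span_singleton hw0
      omega
    obtain ⟨bq, hbq_ind, hbq_fix⟩ := ih Ψ hΨinj hfr
    -- lift
    choose v hv using fun i : Fin n => Submodule.Quotient.mk_surjective U (bq i)
    have hdiff : ∀ i, ∃ a : K, a • w = Φ (v i) - v i := by
      intro i
      rw [← hUmem, ← Submodule.Quotient.mk_eq_zero, Submodule.Quotient.mk_sub, ← hΨmk, hv,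
        hbq_fix, sub_self]
    choose a ha using hdiff
    have hroot : ∀ i, ∃ β : K, β ^ q - β + a i = 0 := by
      intro i
      have hdeg : (X ^ q - X + C (a i) : K[X]).degree ≠ 0 := by
        have h1 : (X ^ q - X : K[X]).degree = (q : WithBot ℕ) := by
          rw [degree_sub_eq_left_of_degree_lt, degree_X_pow]
          rw [degree_X, degree_X_pow]
          exact_mod_cast (by omega : 1 < q)
        have h2 : (0 : WithBot ℕ) < (X ^ q - X : K[X]).degree := by
          rw [h1]; exact_mod_cast (by omega : 0 < q)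
        rw [degree_add_C h2, h1]
        exact_mod_cast (by omega : q ≠ 0)
      obtain ⟨β, hβ⟩ := IsAlgClosed.exists_root _ hdeg
      refine ⟨β, ?_⟩
      simpa using hβ
    choose β hβ using hroot
    obtain ⟨v', hv'⟩ : ∃ v' : Fin n → V, v' = fun i => v i + β i • w := ⟨_, rfl⟩
    have hv'fix : ∀ i, Φ (v' i) = v' i := by
      intro i
      rw [hv']
      simp only
      rw [map_add, map_smulₛₗ, hφ, hw]
      have h1 : Φ (v i) = v i + a i • w := by rw [ha i]; abel
      rw [h1]
      have h2 : a i + β i ^ q = β i := by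
        have := hβ i
        linear_combination this
      rw [add_assoc, ← add_smul, h2]
    have hv'mk : ∀ i, (Submodule.Quotient.mk (v' i) : V ⧸ U) = bq i := by
      intro i
      rw [hv']
      simp only
      rw [Submodule.Quotient.mk_add, hv, Submodule.Quotient.mk_smul,
        (Submodule.Quotient.mk_eq_zero U).2 hwU, smul_zero, add_zero]
    have hv'ind : LinearIndependent K v' := by
      apply LinearIndependent.of_comp U.mkQ
      have : ⇑U.mkQ ∘ v' = bq := by
        funext i
        exact hv'mk i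
      rw [this]; exact hbq_ind
    refine ⟨Fin.cons w v', ?_, ?_⟩
    · rw [linearIndependent_finCons]
      refine ⟨hv'ind, fun hmem => ?_⟩
      obtain ⟨c, hc⟩ := (Submodule.mem_span_range_iff_exists_fun K).1 hmem
      have h1 : (∑ i, c i • bq i) = 0 := by
        have := congrArg (Submodule.Quotient.mk (p := U)) hc
        rw [(Submodule.Quotient.mk_eq_zero U).2 hwU] at this
        rw [← this]
        simp only [← hv'mk]
        rw [← Submodule.mkQ_apply, map_sum]
        rfl
      have hc0 : ∀ i, c i = 0 := Fintype.linearIndependent_iff.1 hbq_ind c h1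
      apply hw0
      rw [← hc]
      simp [hc0]
    · intro i
      refine Fin.cases ?_ (fun j => ?_) i
      · simpa using hw
      · simpa using hv'fix j

end Fixed

end Cfsg.Agent.Lib.Helper16
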