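import Mathlib

set_option autoImplicit false

namespace Cfsg.Agent.Lib.Helper16

open Matrix

section Lat

variable (B : Matrix (Fin 24) (Fin 24) ℤ)

theorem lat_bil_symm (hsymm : B.IsSymm) (x y : Fin 24 → ℤ) :
    x ⬝ᵥ (B *ᵥ y) = y ⬝ᵥ (B *ᵥ x) := by
  rw [Matrix.dotProduct_mulVec, dotProduct_comm, ← Matrix.mulVec_transpose, hsymm.eq]

theorem lat_q_add (hsymm : B.IsSymm) (x y : Fin 24 → ℤ) :
    (x + y) ⬝ᵥ (B *ᵥ (x + y)) = x ⬝ᵥ (B *ᵥ x) + 2 * (x ⬝ᵥ (B *ᵥ y)) + y ⬝ᵥ (B *ᵥ y) := by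
  rw [Matrix.mulVec_add, dotProduct_add, add_dotProduct, add_dotProduct, lat_bil_symm B hsymm y x]
  ring

theorem lat_q_sub (hsymm : B.IsSymm) (x y : Fin 24 → ℤ) :
    (x - y) ⬝ᵥ (B *ᵥ (x - y)) = x ⬝ᵥ (B *ᵥ x) - 2 * (x ⬝ᵥ (B *ᵥ y)) + y ⬝ᵥ (B *ᵥ y) := by
  rw [Matrix.mulVec_sub, dotProduct_sub, sub_dotProduct, sub_dotProduct, lat_bil_symm B hsymm y x]
  ring

theorem lat_q_two_smul (z : Fin 24 → ℤ) :
    ((2 : ℤ) • z) ⬝ᵥ (B *ᵥ ((2 : ℤ) • z)) = 4 * (z ⬝ᵥ (B *ᵥ z)) := by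
  rw [Matrix.mulVec_smul, dotProduct_smul, smul_dotProduct]
  simp only [smul_eq_mul]
  ring

theorem lat_q_neg (x : Fin 24 → ℤ) : (-x) ⬝ᵥ (B *ᵥ (-x)) = x ⬝ᵥ (B *ᵥ x) := by
  rw [Matrix.mulVec_neg, dotProduct_neg, neg_dotProduct, neg_neg]

variable (hsymm : B.IsSymm) (hpos : ∀ x : Fin 24 → ℤ, x ≠ 0 → 0 < x ⬝ᵥ (B *ᵥ x))
  (heven : ∀ x : Fin 24 → ℤ, (2 : ℤ) ∣ x ⬝ᵥ (B *ᵥ x)) (h2 : ∀ x : Fin 24 → ℤ, x ⬝ᵥ (B *ᵥ x) ≠ 2)

include hpos heven h2 in
theorem lat_four_le (w : Fin 24 → ℤ) (hw : w ≠ 0) : 4 ≤ w ⬝ᵥ (B *ᵥ w) := by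
  have h1 := hpos w hw
  obtain ⟨k, hk⟩ := heven w
  have h3 := h2 w
  omega

include hsymm hpos heven h2 in
/-- two vectors of norm at most 8 congruent modulo `2L` -/
theorem lat_short_congr (x y : Fin 24 → ℤ) (hx : x ⬝ᵥ (B *ᵥ x) ≤ 8) (hy : y ⬝ᵥ (B *ᵥ y) ≤ 8)
    (hc : ∀ i, (2 : ℤ) ∣ (x - y) i) :
    y = x ∨ y = -x ∨
      (x ⬝ᵥ (B *ᵥ x) = 8 ∧ y ⬝ᵥ (B *ᵥ y) = 8 ∧ x ⬝ᵥ (B *ᵥ y) = 0) := by
  choose z hz using hc
  have hxy : x - y = (2 : ℤ) • z := by
    funext i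
    rw [hz i]; simp
  have hxy' : x + y = (2 : ℤ) • (z + y) := by
    have : x + y = (x - y) + (2 : ℤ) • y := by
      funext i; simp; ring
    rw [this, hxy, smul_add]
  by_cases hz0 : z = 0
  · left
    rw [hz0, smul_zero, sub_eq_zero] at hxy
    exact hxy.symm
  by_cases hz1 : z + y = 0
  · right; left
    rw [hz1, smul_zero] at hxy'
    exact (eq_neg_of_add_eq_zero_right hxy')
  right; right
  have e1 := lat_q_sub B hsymm x y
  have e2 := lat_q_add B hsymm x y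
  rw [hxy, lat_q_two_smul] at e1
  rw [hxy', lat_q_two_smul] at e2
  have g1 := lat_four_le B hpos heven h2 z hz0
  have g2 := lat_four_le B hpos heven h2 (z + y) hz1
  refine ⟨?_, ?_, ?_⟩ <;> omega

/-- an orthogonal family of anisotropic vectors has at most 24 members -/
theorem lat_orth_card (G : Finset (Fin 24 → ℤ)) (hne : ∀ a ∈ G, a ⬝ᵥ (B *ᵥ a) ≠ 0)
    (horth : ∀ a ∈ G, ∀ b ∈ G, a ≠ b → a ⬝ᵥ (B *ᵥ b) = 0) : G.card ≤ 24 := by
  have hli : LinearIndependent ℤ (fun x => x : G → (Fin 24 → ℤ)) := by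
    rw [linearIndependent_iff']
    intro s c hsum i hi
    have h1 : (∑ j ∈ s, c j • (j : Fin 24 → ℤ)) ⬝ᵥ (B *ᵥ (i : Fin 24 → ℤ)) = 0 := by
      rw [hsum, zero_dotProduct]
    rw [sum_dotProduct] at h1
    simp only [smul_dotProduct, smul_eq_mul] at h1
    rw [Finset.sum_eq_single i] at h1
    · exact (mul_eq_zero.1 h1).resolve_right (hne i i.2)
    · intro j _ hji
      rw [horth j j.2 i i.2 (fun h => hji (Subtype.ext h)), mul_zero]
    · intro h
      exact absurd hi h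
  have := hli.finset_card_le_finrank
  rwa [Module.finrank_fin_fun] at this

include hsymm in
/-- a family of anisotropic vectors, pairwise equal, opposite or orthogonal, has at most 48
members -/
theorem lat_frame_card (F : Finset (Fin 24 → ℤ)) (hne : ∀ a ∈ F, a ⬝ᵥ (B *ᵥ a) ≠ 0)
    (hpair : ∀ x ∈ F, ∀ y ∈ F, y = x ∨ y = -x ∨ x ⬝ᵥ (B *ᵥ y) = 0) : F.card ≤ 48 := by
  classical
  let P : Finset (Fin 24 → ℤ) → Prop := fun G =>
    ∀ a ∈ G, ∀ b ∈ G, a ≠ b → a ⬝ᵥ (B *ᵥ b) = 0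
  have hne' : (F.powerset.filter P).Nonempty :=
    ⟨∅, by simp [P]⟩
  obtain ⟨G, hG, hmax⟩ := Finset.exists_max_image (F.powerset.filter P) Finset.card hne'
  rw [Finset.mem_filter, Finset.mem_powerset] at hG
  obtain ⟨hGF, hGP⟩ := hG
  have hG24 : G.card ≤ 24 := lat_orth_card B G (fun a ha => hne a (hGF ha)) hGP
  have hsub : F ⊆ G ∪ G.image (fun g => -g) := by
    intro y hy
    by_contra hcon
    rw [Finset.mem_union, not_or] at hcon
    obtain ⟨hyG, hyN⟩ := hcon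
    have hP' : P (insert y G) := by
      intro a ha b hb hab
      rw [Finset.mem_insert] at ha hb
      rcases ha with rfl | ha <;> rcases hb with rfl | hb
      · exact absurd rfl hab
      · rcases hpair b (hGF hb) a hy with h | h | h
        · exact absurd (h ▸ hb) hyG
        · exact absurd (Finset.mem_image.2 ⟨b, hb, h.symm⟩) hyN
        · rw [lat_bil_symm B hsymm]; exact h
      · rcases hpair a (hGF ha) b hy with h | h | h
        · exact absurd (h ▸ ha) hyG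
        · exact absurd (Finset.mem_image.2 ⟨a, ha, h.symm⟩) hyN
        · exact h
      · exact hGP a ha b hb hab
    have h1 : insert y G ∈ F.powerset.filter P := by
      rw [Finset.mem_filter, Finset.mem_powerset]
      exact ⟨Finset.insert_subset hy hGF, hP'⟩
    have h2 := hmax _ h1
    rw [Finset.card_insert_of_notMem hyG] at h2
    omega
  have h3 := Finset.card_le_card hsub
  have h4 := Finset.card_union_le G (G.image fun g => -g)
  have h5 : (G.image fun g => -g).card ≤ G.card := Finset.card_image_le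
  omega


/-- reduction modulo 2 -/
def latRed (x : Fin 24 → ℤ) : Fin 24 → ZMod 2 := fun i => (x i : ZMod 2)

theorem latRed_eq_iff (x y : Fin 24 → ℤ) :
    latRed x = latRed y ↔ ∀ i, (2 : ℤ) ∣ (x - y) i := by
  constructor
  · intro h i
    have h1 : ((x i : ℤ) : ZMod 2) = ((y i : ℤ) : ZMod 2) := congrFun h i
    rw [ZMod.intCast_eq_intCast_iff_dvd_sub] at h1
    rw [Pi.sub_apply, ← dvd_neg, neg_sub]
    exact_mod_cast h1
  · intro h
    funext i
    show ((x i : ℤ) : ZMod 2) = ((y i : ℤ) : ZMod 2)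
    rw [ZMod.intCast_eq_intCast_iff_dvd_sub]
    have := h i
    rw [Pi.sub_apply, ← dvd_neg, neg_sub] at this
    exact_mod_cast this

/-- the weight of a short vector, by its norm -/
def latWt (q : ℤ) : ℕ := if q = 0 then 48 else if q = 8 then 1 else 24

include hsymm hpos heven h2 in
theorem lat_class_le (T : Finset (Fin 24 → ℤ)) (hT : ∀ y ∈ T, y ⬝ᵥ (B *ᵥ y) ≤ 8)
    (c : Fin 24 → ZMod 2) :
    ∑ y ∈ T.filter (fun y => latRed y = c), latWt (y ⬝ᵥ (B *ᵥ y)) ≤ 48 := by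
  classical
  by_cases h : ∃ y0 ∈ T.filter (fun y => latRed y = c), y0 ⬝ᵥ (B *ᵥ y0) ≠ 8
  · obtain ⟨y0, hy0, hq0⟩ := h
    rw [Finset.mem_filter] at hy0
    have hsub : T.filter (fun y => latRed y = c) ⊆ {y0, -y0} := by
      intro y hy
      rw [Finset.mem_filter] at hy
      rw [Finset.mem_insert, Finset.mem_singleton]
      have hc : ∀ i, (2 : ℤ) ∣ (y0 - y) i := (latRed_eq_iff y0 y).1 (hy0.2.trans hy.2.symm)
      rcases lat_short_congr B hsymm hpos heven h2 y0 y (hT _ hy0.1) (hT _ hy.1) hc with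
        h | h | h
      · left; exact h
      · right; exact h
      · exact absurd h.1 hq0
    refine (Finset.sum_le_sum_of_subset hsub).trans ?_
    by_cases h0 : y0 = 0
    · subst h0
      simp [latWt]
    · have hne : y0 ≠ -y0 := by
        intro h
        apply h0
        funext i
        have := congrFun h i
        simp only [Pi.neg_apply, Pi.zero_apply] at this ⊢
        omega
      rw [Finset.sum_pair hne, lat_q_neg]
      have hq : y0 ⬝ᵥ (B *ᵥ y0) ≠ 0 := (hpos y0 h0).ne'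
      simp [latWt, hq, hq0]
  · push Not at h
    rw [Finset.sum_congr rfl (g := fun _ => 1) (fun y hy => by simp [latWt, h y hy])]
    rw [Finset.sum_const, smul_eq_mul, mul_one]
    apply lat_frame_card B hsymm
    · intro a ha
      rw [h a ha]
      norm_num
    · intro x hx y hy
      rw [Finset.mem_filter] at hx hy
      have hc : ∀ i, (2 : ℤ) ∣ (x - y) i := (latRed_eq_iff x y).1 (hx.2.trans hy.2.symm)
      rcases lat_short_congr B hsymm hpos heven h2 x y (hT _ hx.1) (hT _ hy.1) hc with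
        h | h | h
      · left; exact h
      · right; left; exact h
      · right; right; exact h.2.2

include hsymm hpos heven h2 in
theorem lat_main
    (h4 : {x : Fin 24 → ℤ | x ⬝ᵥ (B *ᵥ x) = 4}.ncard = 196560)
    (h6 : {x : Fin 24 → ℤ | x ⬝ᵥ (B *ᵥ x) = 6}.ncard = 16773120)
    (h8 : {x : Fin 24 → ℤ | x ⬝ᵥ (B *ᵥ x) = 8}.ncard = 398034000)
    (x : Fin 24 → ℤ) (hx : x ⬝ᵥ (B *ᵥ x) = 8) :
    {y : Fin 24 → ℤ | y ⬝ᵥ (B *ᵥ y) = 8 ∧ ∀ i, (2 : ℤ) ∣ (x - y) i}.ncard = 48 := by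
  classical
  have hf4 : {x : Fin 24 → ℤ | x ⬝ᵥ (B *ᵥ x) = 4}.Finite :=
    Set.finite_of_ncard_ne_zero (by rw [h4]; norm_num)
  have hf6 : {x : Fin 24 → ℤ | x ⬝ᵥ (B *ᵥ x) = 6}.Finite :=
    Set.finite_of_ncard_ne_zero (by rw [h6]; norm_num)
  have hf8 : {x : Fin 24 → ℤ | x ⬝ᵥ (B *ᵥ x) = 8}.Finite :=
    Set.finite_of_ncard_ne_zero (by rw [h8]; norm_num)
  have c4 : hf4.toFinset.card = 196560 := by rw [← Set.ncard_eq_toFinset_card _ hf4, h4]
  have c6 : hf6.toFinset.card = 16773120 := by rw [← Set.ncard_eq_toFinset_card _ hf6, h6]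
  have c8 : hf8.toFinset.card = 398034000 := by rw [← Set.ncard_eq_toFinset_card _ hf8, h8]
  have m4 : ∀ y, y ∈ hf4.toFinset ↔ y ⬝ᵥ (B *ᵥ y) = 4 := fun y => Set.Finite.mem_toFinset hf4
  have m6 : ∀ y, y ∈ hf6.toFinset ↔ y ⬝ᵥ (B *ᵥ y) = 6 := fun y => Set.Finite.mem_toFinset hf6
  have m8 : ∀ y, y ∈ hf8.toFinset ↔ y ⬝ᵥ (B *ᵥ y) = 8 := fun y => Set.Finite.mem_toFinset hf8
  have q0 : (0 : Fin 24 → ℤ) ⬝ᵥ (B *ᵥ 0) = 0 := by simp
  set T : Finset (Fin 24 → ℤ) :=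
    {0} ∪ (hf4.toFinset ∪ (hf6.toFinset ∪ hf8.toFinset)) with hTdef
  have hT : ∀ y ∈ T, y ⬝ᵥ (B *ᵥ y) ≤ 8 := by
    intro y hy
    simp only [hTdef, Finset.mem_union, Finset.mem_singleton, m4, m6, m8] at hy
    rcases hy with rfl | h | h | h
    · rw [q0]; norm_num
    · omega
    · omega
    · omega
  have hT' : ∀ y, y ⬝ᵥ (B *ᵥ y) = 8 → y ∈ T := by
    intro y hy
    simp only [hTdef, Finset.mem_union, Finset.mem_singleton, m4, m6, m8]
    right; right; right; exact hy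
  -- total weight
  have hd1 : Disjoint hf6.toFinset hf8.toFinset := by
    rw [Finset.disjoint_left]
    intro y h h'
    rw [m6] at h
    rw [m8] at h'
    omega
  have hd2 : Disjoint hf4.toFinset (hf6.toFinset ∪ hf8.toFinset) := by
    rw [Finset.disjoint_left]
    intro y h h'
    rw [m4] at h
    rw [Finset.mem_union, m6, m8] at h'
    omega
  have hd3 : Disjoint ({0} : Finset (Fin 24 → ℤ))
      (hf4.toFinset ∪ (hf6.toFinset ∪ hf8.toFinset)) := by
    rw [Finset.disjoint_left]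
    intro y h h'
    rw [Finset.mem_singleton] at h
    subst h
    rw [Finset.mem_union, Finset.mem_union, m4, m6, m8, q0] at h'
    omega
  have s4 : ∑ y ∈ hf4.toFinset, latWt (y ⬝ᵥ (B *ᵥ y)) = 196560 * 24 := by
    rw [Finset.sum_congr rfl (g := fun _ => 24) (fun y hy => by
      rw [m4] at hy; rw [hy]; rfl), Finset.sum_const, c4, smul_eq_mul]
  have s6 : ∑ y ∈ hf6.toFinset, latWt (y ⬝ᵥ (B *ᵥ y)) = 16773120 * 24 := by
    rw [Finset.sum_congr rfl (g := fun _ => 24) (fun y hy => by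
      rw [m6] at hy; rw [hy]; rfl), Finset.sum_const, c6, smul_eq_mul]
  have s8 : ∑ y ∈ hf8.toFinset, latWt (y ⬝ᵥ (B *ᵥ y)) = 398034000 * 1 := by
    rw [Finset.sum_congr rfl (g := fun _ => 1) (fun y hy => by
      rw [m8] at hy; rw [hy]; rfl), Finset.sum_const, c8, smul_eq_mul]
  have htotal : ∑ y ∈ T, latWt (y ⬝ᵥ (B *ᵥ y)) = 48 * 16777216 := by
    rw [hTdef, Finset.sum_union hd3, Finset.sum_union hd2, Finset.sum_union hd1,
      Finset.sum_singleton, q0, s4, s6, s8]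
    rfl
  have hfib := Finset.sum_fiberwise T latRed (fun y => latWt (y ⬝ᵥ (B *ᵥ y)))
  rw [htotal] at hfib
  have hle := lat_class_le B hsymm hpos heven h2 T hT
  have hcard : Fintype.card (Fin 24 → ZMod 2) = 16777216 := by
    rw [Fintype.card_fun, ZMod.card, Fintype.card_fin]
    norm_num
  have hW : ∑ y ∈ T.filter (fun y => latRed y = latRed x), latWt (y ⬝ᵥ (B *ᵥ y)) = 48 := by
    by_contra hne
    have hlt : ∑ y ∈ T.filter (fun y => latRed y = latRed x), latWt (y ⬝ᵥ (B *ᵥ y)) < 48 :=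
      lt_of_le_of_ne (hle _) hne
    have := Finset.sum_lt_sum (s := Finset.univ) (fun c _ => hle c)
      ⟨latRed x, Finset.mem_univ _, hlt⟩
    rw [hfib, Finset.sum_const, Finset.card_univ, hcard, smul_eq_mul] at this
    omega
  have hall8 : ∀ y ∈ T.filter (fun y => latRed y = latRed x), y ⬝ᵥ (B *ᵥ y) = 8 := by
    intro y hy
    rw [Finset.mem_filter] at hy
    have hc : ∀ i, (2 : ℤ) ∣ (x - y) i := (latRed_eq_iff x y).1 hy.2.symm
    rcases lat_short_congr B hsymm hpos heven h2 x y (by omega) (hT _ hy.1) hc with h | h | h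
    · rw [h]; exact hx
    · rw [h, lat_q_neg]; exact hx
    · exact h.2.1
  have hset : {y : Fin 24 → ℤ | y ⬝ᵥ (B *ᵥ y) = 8 ∧ ∀ i, (2 : ℤ) ∣ (x - y) i} =
      ↑(T.filter (fun y => latRed y = latRed x)) := by
    ext y
    simp only [Set.mem_ofPred_eq, Finset.coe_filter]
    constructor
    · rintro ⟨h1, h2'⟩
      exact ⟨hT' y h1, ((latRed_eq_iff x y).2 h2').symm⟩
    · rintro ⟨h1, h2'⟩
      exact ⟨hall8 y (Finset.mem_filter.2 ⟨h1, h2'⟩), (latRed_eq_iff x y).1 h2'.symm⟩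
  rw [hset, Set.ncard_coe_finset]
  rw [Finset.sum_congr rfl (g := fun _ => 1) (fun y hy => by
    rw [hall8 y hy]; rfl)] at hW
  simpa using hW

end Lat

end Cfsg.Agent.Lib.Helper16
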