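import Cfsg.Agent.Lib.Helper29.Law.Defs

/-!
# S2355 farm (helper29), piece [P1] `exists_alt_to_SL` (helper16): even permutation matrices.
-/

set_option autoImplicit false

namespace Cfsg.Agent.Lib.Helper29.Law

open Matrix

/-- [P1] even permutation matrices. -/
theorem exists_alt_to_SL (F : Type*) [Field F] (n : ℕ) :
    ∃ φ : alternatingGroup (Fin n) →* Matrix.SpecialLinearGroup (Fin n) F, Function.Injective φ ∧
      ∀ σ, ∃ τ : Equiv.Perm (Fin n), (φ σ : Matrix (Fin n) (Fin n) F) = τ.permMatrix F := by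
  classical
  have hdet : ∀ σ : alternatingGroup (Fin n),
      (((σ : Equiv.Perm (Fin n))⁻¹).permMatrix F).det = 1 := by
    intro σ
    rw [Matrix.det_permutation]
    have h1 : Equiv.Perm.sign (σ : Equiv.Perm (Fin n))⁻¹ = 1 := by
      rw [Equiv.Perm.sign_inv]
      exact Equiv.Perm.mem_alternatingGroup.mp σ.2
    rw [h1]
    simp
  refine ⟨{ toFun := fun σ => ⟨((σ : Equiv.Perm (Fin n))⁻¹).permMatrix F, hdet σ⟩
            map_one' := ?_
            map_mul' := ?_ }, ?_, ?_⟩
  · apply Subtype.ext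
    simp
  · intro σ τ
    apply Subtype.ext
    show (((σ * τ : alternatingGroup (Fin n)) : Equiv.Perm (Fin n))⁻¹).permMatrix F
      = ((σ : Equiv.Perm (Fin n))⁻¹).permMatrix F * ((τ : Equiv.Perm (Fin n))⁻¹).permMatrix F
    rw [Subgroup.coe_mul, _root_.mul_inv_rev, Matrix.permMatrix_mul]
  · intro σ τ h
    have h1 : ((σ : Equiv.Perm (Fin n))⁻¹).permMatrix F = ((τ : Equiv.Perm (Fin n))⁻¹).permMatrix F :=
      congrArg Subtype.val h
    have h2 : ((σ : Equiv.Perm (Fin n))⁻¹).toPEquiv = ((τ : Equiv.Perm (Fin n))⁻¹).toPEquiv :=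
      PEquiv.toMatrix_injective h1
    have h3 : (σ : Equiv.Perm (Fin n))⁻¹ = (τ : Equiv.Perm (Fin n))⁻¹ := by
      ext i
      have h4 := congrArg (fun e : PEquiv (Fin n) (Fin n) => e i) h2
      simp only [Equiv.toPEquiv_apply] at h4
      exact congrArg Fin.val (Option.some.inj h4)
    exact Subtype.ext (inv_injective h3)
  · intro σ
    exact ⟨(σ : Equiv.Perm (Fin n))⁻¹, rfl⟩

end Cfsg.Agent.Lib.Helper29.Law
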