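import Cfsg.Agent.Lib.Helper29.Law.Defs
import Cfsg.Prelude.Def_Classical

/-!
# S2355 farm (helper29), piece [UA] `permMatrix_mem_SU` (helper16).
-/

set_option autoImplicit false

namespace Cfsg.Agent.Lib.Helper29.Law

open Matrix

/-- [UA] a permutation matrix of determinant 1 lies in `SU`. -/
theorem permMatrix_mem_SU (F : Type*) [Field F] (n q : ℕ) (g : Matrix.SpecialLinearGroup (Fin n) F)
    (τ : Equiv.Perm (Fin n)) (h : (g : Matrix (Fin n) (Fin n) F) = τ.permMatrix F) :
    g ∈ Cfsg.SU n F q := by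
  intro u v
  have hg : (Cfsg.slToMat n F g : Matrix (Fin n) (Fin n) F) = τ.permMatrix F := by
    rw [← h]; rfl
  rw [hg, Matrix.permMatrix_mulVec, Matrix.permMatrix_mulVec]
  unfold Cfsg.hermForm
  exact Equiv.sum_comp τ (fun i => u i * v i ^ q)

end Cfsg.Agent.Lib.Helper29.Law
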