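import Mathlib
import Cfsg.Agent.Lib.Helper16.LocalBalMinusM
import Cfsg.Agent.Lib.Helper16.FieldCosetMinus
import Cfsg.Agent.Lib.Helper16.MinusPSC2

/-!
# Local balance for the minus type orthogonal groups, part N: the case of an automorphism induced
by a similarity
-/

set_option autoImplicit false
set_option linter.unusedSectionVars false
set_option linter.unusedVariables false
set_option linter.style.haveILetI false

namespace Cfsg.Agent.Lib.Helper16.LocalBalMinus

open Matrix Cfsg QuadraticMap Module Cfsg.Agent.Lib.Helper6 Cfsg.Agent.Lib.Helper6.AutOrt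
  Cfsg.Agent.Lib.Helper6.SimAut Cfsg.Agent.Lib.Helper6.Inndiag Cfsg.Agent.Lib.Helper6.OmegaAut
  Cfsg.Agent.Lib.Helper6.ExtQuad Cfsg.Agent.Lib.Helper6.AutInduced
  Cfsg.Agent.Lib.Helper15 Cfsg.Agent.Lib.Helper16.FieldCosetOrth
  Cfsg.Agent.Lib.Helper16.FieldCentOrth Cfsg.Agent.Lib.Helper16.GraphSplitOrth
  Cfsg.Agent.Lib.Helper16.FieldCosetMinus Cfsg.Agent.Lib.Helper16.MinusPSC2

variable {F : Type*} [Field F] [Fintype F] {m : ℕ} (a b : F)
  (hab : ∀ z₁ z₂ : F, z₁ ^ 2 + a * z₁ * z₂ + b * z₂ ^ 2 = 0 → z₁ = 0 ∧ z₂ = 0)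

include hab in
/-- the automorphism of a similarity is induced by it -/
theorem induced_fGO (g : ↥(GO (Qgen m (binForm a b)))) :
    Cfsg.IsInducedBySemilinearPOmega (⇑(Qgen m (binForm a b)))
      (g.1 : GL ((Fin m ⊕ Fin m) ⊕ Fin 2) F) (RingEquiv.refl F) (fGO (Qgen m (binForm a b)) g) := by
  rw [isInduced_iff, isInd_iff _ ⟨g.1, GO_le_normalizer (Qgen m (binForm a b)) g.2⟩]
  exact fGO_apply (Qgen m (binForm a b)) g

include hab in
/-- **the case of an automorphism induced by a similarity**: both sides of the criterion fail -/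
theorem nonfield_minus {r : ℕ} [hr : Fact r.Prime] [hcr : CharP F r] (hm : 3 ≤ m)
    (A : Subgroup (MulAut (Cfsg.POmega F ⇑(Qgen m (binForm a b)))))
    (hinn : ∀ k : Cfsg.POmega F ⇑(Qgen m (binForm a b)), MulAut.conj k ∈ A) {p : ℕ}
    [hpf : Fact p.Prime] (hpr : p ≠ r) (x : MulAut (Cfsg.POmega F ⇑(Qgen m (binForm a b))))
    (hord : orderOf x = p)
    (hnot : ¬ ∃ g : GL ((Fin m ⊕ Fin m) ⊕ Fin 2) F,
      g ∈ Cfsg.Geo.quadSimilarityGroup (F := F) ⇑(Qgen m (binForm a b)) ∧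
      Cfsg.PreservesSingularClassesMinus m a b
        (g : Matrix ((Fin m ⊕ Fin m) ⊕ Fin 2) ((Fin m ⊕ Fin m) ⊕ Fin 2) F) ∧
      Cfsg.IsInducedBySemilinearPOmega ⇑(Qgen m (binForm a b)) g (RingEquiv.refl F) x)
    (hx : x ∈ Cfsg.pgoAut F ⇑(Qgen m (binForm a b))) :
    Cfsg.pPrimeCore p ↥(A ⊓ Subgroup.centralizer {x}) = ⊥ := by
  classical
  haveI hS := std_minus a b hab hm
  have hP := HP_minus a b hab hm
  have hQ := nondegenerate_Qgen m (binForm a b) (nondegenerate_binForm a b hab)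
  have hcardι : Fintype.card ((Fin m ⊕ Fin m) ⊕ Fin 2) = 2 * (m + 1) := by
    rw [card_JJ]; ring
  have hx' := hx
  rw [pgoAut_eq_range] at hx'
  obtain ⟨g, rfl⟩ := hx'
  by_cases h2 : (2 : F) = 0
  · -- characteristic two: impossible
    exfalso
    have hr2 : r = 2 := by
      have h3 : ((2 : ℕ) : F) = 0 := by exact_mod_cast h2
      have h4 := (CharP.cast_eq_zero_iff F r 2).mp h3
      exact (Nat.prime_dvd_prime_iff_eq hr.out Nat.prime_two).mp h4
    have hpodd : ¬ 2 ∣ p := by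
      intro h
      apply hpr
      rw [hr2]
      exact ((Nat.prime_dvd_prime_iff_eq Nat.prime_two hpf.out).mp h).symm
    have hI := odd_order_mem_Inn a b hab hm _ hx p hpodd (by rw [← hord]; exact pow_orderOf_eq_one _)
    apply hnot
    exact ⟨g.1, g.2, (pscMinus_iff_two a b hab r h2 hm g).mpr hI, induced_fGO a b hab g⟩
  · have hodd : Odd (Fintype.card F) := by
      rw [Nat.odd_iff]
      apply FiniteField.odd_card_of_char_ne_two
      intro hch
      apply h2
      haveI : CharP F 2 := by rw [← hch]; exact ringChar.charP F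
      exact CharTwo.two_eq_zero
    obtain ⟨T, hT⟩ : ∃ T, T = minusTriple' F m (binForm a b) hm := ⟨_, rfl⟩
    have hv₀ := T_nonsingular _ T
    have hpsc : ∀ g : ↥(GO (Qgen m (binForm a b))),
        Cfsg.PreservesSingularClassesMinus m a b
          ((g.1 : GL ((Fin m ⊕ Fin m) ⊕ Fin 2) F) :
            Matrix ((Fin m ⊕ Fin m) ⊕ Fin 2) ((Fin m ⊕ Fin m) ⊕ Fin 2) F) ↔
        g ∈ KK (Qgen m (binForm a b)) _ hv₀ (m + 1) := by
      intro g
      rw [mem_KK_iff]
      exact pscMinus_iff m a b hodd hab g.1 (mulr _ g) (Units.ne_zero _) (mulr_spec _ g)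
    have hxK : fGO (Qgen m (binForm a b)) g ∉
        (KK (Qgen m (binForm a b)) _ hv₀ (m + 1)).map (fGO (Qgen m (binForm a b))) := by
      rintro ⟨g', hg', hgg'⟩
      apply hnot
      refine ⟨g'.1, g'.2, (hpsc g').mpr hg', ?_⟩
      rw [← hgg']
      exact induced_fGO a b hab g'
    have hgK : g ∉ KK (Qgen m (binForm a b)) _ hv₀ (m + 1) := fun h => hxK ⟨g, h, rfl⟩
    have hp2 : p = 2 := two_of_not_mem _ hQ _ hv₀ (m + 1) hcardι g hxK hpf.out hord
    subst hp2
    apply pPrimeCore_two_eq_bot (Cfsg.Inn (Cfsg.POmega F ⇑(Qgen m (binForm a b)))) A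
      (by rintro _ ⟨k, rfl⟩; exact hinn k)
    intro N _ hoddN hNx hNn
    exact odd_normal_trivial_graph _ r hP h2 _ hv₀ (m + 1) hcardι (by omega) g hgK hord N hoddN
      hNx hNn

end Cfsg.Agent.Lib.Helper16.LocalBalMinus
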