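import Mathlib
import Cfsg.Agent.Lib.Helper16.FieldCentMinus
import Cfsg.Agent.Lib.Helper16.LocalBalMinusE
import Cfsg.Agent.Lib.Helper6.LocalBalC

/-!
# Local balance for the minus type orthogonal groups, part O: descent of the semilinear
similarities centralising a semilinear similarity with a frame
-/

set_option autoImplicit false
set_option linter.unusedSectionVars false
set_option linter.unusedVariables false
set_option linter.style.haveILetI false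

namespace Cfsg.Agent.Lib.Helper16.LocalBalMinus

open Matrix Cfsg QuadraticMap Cfsg.Agent.Lib.Helper6 Cfsg.Agent.Lib.Helper6.AutOrt
  Cfsg.Agent.Lib.Helper6.OmegaAut Cfsg.Agent.Lib.Helper6.SimAut
  Cfsg.Agent.Lib.Helper6.LocalBal
  Cfsg.Agent.Lib.Helper16.FieldCosetOrth Cfsg.Agent.Lib.Helper16.OrthDescent
  Cfsg.Agent.Lib.Helper16.FieldCentOrth Cfsg.Agent.Lib.Helper16.QuadExt
  Cfsg.Agent.Lib.Helper16.FieldCentMinus
open Cfsg.Agent.Lib.Helper6.AutPSL (sG sG_val gl_mul_inv gl_inv_mul)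

variable {F : Type*} [Field F] [Fintype F] {ι : Type} [Fintype ι] [DecidableEq ι]

/-- two semilinear similarities with the same companion automorphism which agree on the points of
a frame over a subfield are equal -/
theorem ext_on_frame {F₀ : Type*} [Field F₀] (j : F₀ →+* F) {Q : QuadraticForm F (ι → F)}
    (B : GL ι F) (Ψ₁ Ψ₂ : SemiSimO Q) (hσ : Ψ₁.σ = Ψ₂.σ)
    (h : ∀ w : ι → F₀, Ψ₁.S (B.1 *ᵥ fun i => j (w i)) = Ψ₂.S (B.1 *ᵥ fun i => j (w i)))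
    (x : ι → F) : Ψ₁.S x = Ψ₂.S x := by
  have hmat : Ψ₁.mat * B.1.map Ψ₁.σ = Ψ₂.mat * B.1.map Ψ₁.σ := by
    ext s t
    have h1 := congrFun (h (Pi.single t 1)) s
    rw [← Ψ₁.mat_mulVec', ← Ψ₂.mat_mulVec', ← hσ, ← map_mulVec_apply' Ψ₁.σ B.1,
      Matrix.mulVec_mulVec, Matrix.mulVec_mulVec] at h1
    have e : (fun i => Ψ₁.σ ((fun i => j ((Pi.single t (1 : F₀) : ι → F₀) i)) i)) =
        (Pi.single t (1 : F) : ι → F) := by
      funext i
      by_cases hi : i = t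
      · subst hi; simp
      · simp [Pi.single_eq_of_ne hi]
    rw [e, Matrix.mulVec_single_one, Matrix.mulVec_single_one] at h1
    exact h1
  have hm : Ψ₁.mat = Ψ₂.mat := by
    have h1 := congrArg (fun M => M * (B⁻¹).1.map Ψ₁.σ) hmat
    simp only [Matrix.mul_assoc, FieldCentMinus.map_mul_inv, Matrix.mul_one] at h1
    exact h1
  rw [← Ψ₁.mat_mulVec', ← Ψ₂.mat_mulVec', hm, hσ]

section cent
variable {F₀ : Type*} [Field F₀] [Fintype F₀] (j : F₀ →+* F) (Q₀ : QuadraticForm F₀ (ι → F₀))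
  (Q : QuadraticForm F (ι → F)) [hS : Std Q] [hS₀ : Std Q₀] (B : GL ι F) (c : F) (hc : c ≠ 0)
  (hB : ∀ v : ι → F₀, j (Q₀ v) = c * Q (B.1 *ᵥ fun i => j (v i)))
  (Φ : SemiSimO Q) (μ : F) (hμ : μ ≠ 0) (hΦB : Φ.mat * B.1.map Φ.σ = μ • B.1)
  (p : ℕ) [hp : Fact p.Prime] [hcp : CharP F p]

include hp hcp hc hB hμ hΦB in
/-- **semilinear descent**: a semilinear similarity whose automorphism commutes with that of a
semilinear similarity with a frame preserves, up to a scalar, the points of the frame over the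
fixed field -/
theorem semi_descent (hj : ∀ a : F, Φ.σ a = a ↔ a ∈ Set.range j) (Ψ : SemiSimO Q)
    (hcomm : Φ.gam * Ψ.gam = Ψ.gam * Φ.gam) :
    ∃ (Ψ₀ : SemiSimO Q₀) (y : F), y ≠ 0 ∧ (∀ a, j (Ψ₀.σ a) = Ψ.σ (j a)) ∧
      ∀ w : ι → F₀, Ψ.S (B.1 *ᵥ fun i => j (w i)) = y • (B.1 *ᵥ fun i => j (Ψ₀.S w i)) := by
  classical
  haveI := nonempty_idx Q
  have hjinj : Function.Injective j := RingHom.injective j
  obtain ⟨lam, hlam0, hlam⟩ := comm_S p Φ Ψ hcomm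
  have hστ : ∀ a : F, Φ.σ (Ψ.σ a) = Ψ.σ (Φ.σ a) := by
    intro a
    have := ringAut_comm (Φ.σ : RingAut F) (Ψ.σ : RingAut F)
    exact congrArg (fun e : RingAut F => e a) this
  -- the matrix identity
  have hmat : Φ.mat * Ψ.mat.map Φ.σ = lam • (Ψ.mat * Φ.mat.map Ψ.σ) := by
    apply matrix_ext_mulVec
    intro z
    obtain ⟨x, rfl⟩ : ∃ x : ι → F, z = fun i => Φ.σ (Ψ.σ (x i)) :=
      ⟨fun i => Ψ.σ.symm (Φ.σ.symm (z i)), by funext i; simp⟩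
    have h1 := hlam x
    rw [← Φ.mat_mulVec', ← Ψ.mat_mulVec', ← map_mulVec_apply' Φ.σ Ψ.mat,
      Matrix.mulVec_mulVec, ← Ψ.mat_mulVec' (Φ.S x), ← Φ.mat_mulVec' x,
      ← map_mulVec_apply' Ψ.σ Φ.mat, Matrix.mulVec_mulVec] at h1
    have e : (fun i => Ψ.σ ((fun i => Φ.σ (x i)) i)) = fun i => Φ.σ (Ψ.σ (x i)) := by
      funext i
      exact (hστ (x i)).symm
    rw [e] at h1
    rw [h1, Matrix.smul_mulVec]
  -- the matrix in the frame
  obtain ⟨Y, hY⟩ : ∃ Y : Matrix ι ι F, Y = (B⁻¹).1 * Ψ.mat * B.1.map Ψ.σ := ⟨_, rfl⟩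
  have hBστ : (B.1.map Ψ.σ).map Φ.σ = (B.1.map Φ.σ).map Ψ.σ := by
    ext s t
    simp only [Matrix.map_apply]
    exact hστ _
  have hΦBρ : Φ.mat.map Ψ.σ * (B.1.map Φ.σ).map Ψ.σ = Ψ.σ μ • B.1.map Ψ.σ := by
    rw [← Matrix.map_mul, hΦB]
    ext s t
    simp only [Matrix.map_apply, Matrix.smul_apply, smul_eq_mul, map_mul]
  have hYτ : Y.map Φ.σ = (μ⁻¹ * (lam * Ψ.σ μ)) • Y := by
    have e1 : μ • Y.map Φ.σ = (lam * Ψ.σ μ) • Y := by
      rw [hY, Matrix.map_mul, Matrix.map_mul, ← Matrix.smul_mul, ← Matrix.smul_mul,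
        ← inv_mul_mat Q B Φ μ hΦB, Matrix.mul_assoc (B⁻¹).1, hmat, hBστ]
      simp only [Matrix.mul_smul, Matrix.smul_mul, Matrix.mul_assoc, hΦBρ, smul_smul]
    rw [mul_smul, ← e1, smul_smul, inv_mul_cancel₀ hμ, one_smul]
  have hY0 : Y ≠ 0 := by
    intro h0
    have h1 : Ψ.mat = B.1 * Y * (B⁻¹).1.map Ψ.σ := by
      rw [hY]
      simp only [Matrix.mul_assoc]
      rw [FieldCentMinus.map_mul_inv, Matrix.mul_one, ← Matrix.mul_assoc, gl_mul_inv,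
        Matrix.one_mul]
    rw [h0, Matrix.mul_zero, Matrix.zero_mul, ← Ψ.gl_val] at h1
    exact gl_ne_zero' Ψ.gl h1
  obtain ⟨a, ha0, ha⟩ := exists_fixed_smul Φ.σ Y hY0 _ hYτ
  have hent : ∀ s t, ∃ b : F₀, j b = (a • Y) s t := by
    intro s t
    have h1 : Φ.σ ((a • Y) s t) = (a • Y) s t := by
      have := congrFun (congrFun ha s) t
      rwa [Matrix.map_apply] at this
    obtain ⟨b, hb⟩ := (hj _).mp h1
    exact ⟨b, hb⟩
  choose M₀ hM₀ using hent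
  have hM₀' : (Matrix.of M₀).map j = a • Y := by
    ext s t
    rw [Matrix.map_apply, Matrix.of_apply, hM₀]
  have hBM : B.1 * (Matrix.of M₀).map j = a • (Ψ.mat * B.1.map Ψ.σ) := by
    rw [hM₀', hY, Matrix.mul_smul]
    congr 1
    rw [← Matrix.mul_assoc, ← Matrix.mul_assoc, gl_mul_inv, Matrix.one_mul]
  -- the restricted automorphism
  have hpres : ∀ a' : F₀, Ψ.σ (j a') ∈ Set.range j := by
    intro a'
    rw [← hj, hστ, (hj _).mpr ⟨a', rfl⟩]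
  obtain ⟨ρ₀, hρ₀⟩ := exists_restrict_aut j Ψ.σ hpres
  -- the action on the points of the frame
  have hact : ∀ w : ι → F₀, Ψ.S (B.1 *ᵥ fun i => j (w i)) =
      a⁻¹ • (B.1 *ᵥ fun i => j ((Matrix.of M₀ *ᵥ fun k => ρ₀ (w k)) i)) := by
    intro w
    have e1 : (fun i => j ((Matrix.of M₀ *ᵥ fun k => ρ₀ (w k)) i)) =
        (Matrix.of M₀).map j *ᵥ (fun i => j (ρ₀ (w i))) := by
      funext i
      exact RingHom.map_mulVec j (Matrix.of M₀) _ i
    rw [e1, Matrix.mulVec_mulVec, hBM, Matrix.smul_mulVec, smul_smul, inv_mul_cancel₀ ha0,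
      one_smul, ← Ψ.mat_mulVec', ← map_mulVec_apply' Ψ.σ B.1, Matrix.mulVec_mulVec]
    congr 1
    funext i
    exact (hρ₀ (w i)).symm
  have hQM : ∀ w : ι → F₀, j (Q₀ (Matrix.of M₀ *ᵥ fun k => ρ₀ (w k))) =
      (c * (a * a) * Ψ.ν * (Ψ.σ c)⁻¹) * j (ρ₀ (Q₀ w)) := by
    intro w
    have h1 := hact w
    have h3 : B.1 *ᵥ (fun i => j ((Matrix.of M₀ *ᵥ fun k => ρ₀ (w k)) i)) =
        a • Ψ.S (B.1 *ᵥ fun i => j (w i)) := by
      rw [h1, smul_smul, mul_inv_cancel₀ ha0, one_smul]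
    rw [hB, h3, Q_smul, Ψ.form, hρ₀, hB, map_mul]
    have hσc : Ψ.σ c ≠ 0 := (map_ne_zero _).mpr hc
    field_simp
  obtain ⟨w₁, hw₁⟩ := SemiSimO.exists_Q_ne_zero (Q := Q₀)
  obtain ⟨ν₀, hν₀⟩ : ∃ ν₀ : F₀, ν₀ = Q₀ (Matrix.of M₀ *ᵥ fun k => ρ₀ (w₁ k)) / ρ₀ (Q₀ w₁) :=
    ⟨_, rfl⟩
  have hρw₁ : ρ₀ (Q₀ w₁) ≠ 0 := (map_ne_zero _).mpr hw₁
  have hjν₀ : j ν₀ = c * (a * a) * Ψ.ν * (Ψ.σ c)⁻¹ := by
    rw [hν₀, map_div₀, hQM w₁]
    have : j (ρ₀ (Q₀ w₁)) ≠ 0 := (map_ne_zero j).mpr hρw₁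
    field_simp
  have hν₀0 : ν₀ ≠ 0 := by
    intro h0
    rw [h0, map_zero] at hjν₀
    have hσc : (Ψ.σ c)⁻¹ ≠ 0 := inv_ne_zero ((map_ne_zero _).mpr hc)
    exact mul_ne_zero (mul_ne_zero (mul_ne_zero hc (mul_ne_zero ha0 ha0)) Ψ.hν) hσc hjν₀.symm
  refine ⟨{ S := fun w => Matrix.of M₀ *ᵥ fun k => ρ₀ (w k)
            σ := ρ₀
            ν := ν₀
            hν := hν₀0
            add := ?_
            smul := ?_
            form := ?_ }, a⁻¹, inv_ne_zero ha0, hρ₀, hact⟩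
  · intro x y
    rw [← Matrix.mulVec_add]
    congr 1
    funext k
    simp
  · intro t x
    rw [← Matrix.mulVec_smul]
    congr 1
    funext k
    simp
  · intro w
    apply hjinj
    rw [hQM, map_mul, hjν₀]

end cent

end Cfsg.Agent.Lib.Helper16.LocalBalMinus
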