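import Mathlib
import Cfsg.Agent.Lib.Helper16.LocalBalMinusO
import Cfsg.Agent.Lib.Helper16.FieldCentOmegaOdd

/-!
# Local balance for the minus type orthogonal groups, part P: the subfield subgroup in the
centraliser of a semilinear similarity with a frame
-/

set_option autoImplicit false
set_option linter.unusedSectionVars false
set_option linter.unusedVariables false
set_option linter.style.haveILetI false

namespace Cfsg.Agent.Lib.Helper16.LocalBalMinus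

open Matrix Cfsg QuadraticMap Cfsg.Agent.Lib.Helper6 Cfsg.Agent.Lib.Helper6.AutOrt
  Cfsg.Agent.Lib.Helper6.OmegaAut Cfsg.Agent.Lib.Helper6.SimAut
  Cfsg.Agent.Lib.Helper6.LocalBal
  Cfsg.Agent.Lib.Helper16.FieldCosetOrth Cfsg.Agent.Lib.Helper16.OrthDescent
  Cfsg.Agent.Lib.Helper16.FieldCentOrth Cfsg.Agent.Lib.Helper16.QuadExt
  Cfsg.Agent.Lib.Helper16.FieldCentMinus Cfsg.Agent.Lib.Helper16.FieldCentOmegaOdd
open Cfsg.Agent.Lib.Helper6.AutPSL (sG sG_val gl_mul_inv gl_inv_mul)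

variable {F : Type*} [Field F] [Fintype F] {ι : Type} [Fintype ι] [DecidableEq ι]

theorem powS_σ {Q : QuadraticForm F (ι → F)} [hS : Std Q] (Φ : SemiSimO Q) (k : ℕ) :
    ((powS Φ k).σ : RingAut F) = (Φ.σ : RingAut F) ^ k := by
  induction k with
  | zero => rfl
  | succ k ih =>
    rw [pow_succ', ← ih]
    rfl

section iso
variable {F₀ : Type*} [Field F₀] (j : F₀ →+* F) (Q₀ : QuadraticForm F₀ (ι → F₀))
  (Q : QuadraticForm F (ι → F)) (B : GL ι F) (c : F) (hc : c ≠ 0)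
  (hB : ∀ v : ι → F₀, j (Q₀ v) = c * Q (B.1 *ᵥ fun i => j (v i)))

include hc hB in
theorem mapIso'_mem (g₀ : ↥(Cfsg.isometryGroup F₀ ⇑Q₀)) :
    (MulAut.conj B) (Matrix.GeneralLinearGroup.map j g₀.1) ∈ Cfsg.isometryGroup F ⇑Q := by
  rw [mem_isometryGroup_iff]
  intro u
  have := sim_conj j Q₀ Q B c hc hB (g₀.1 : Matrix ι ι F₀) 1
    (fun v => by rw [one_mul]; exact (mem_isometryGroup_iff Q₀ g₀.1).mp g₀.2 v) u
  rw [map_one, one_mul] at this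
  exact this

/-- conjugated base change of isometries -/
noncomputable def mapIso' : ↥(Cfsg.isometryGroup F₀ ⇑Q₀) →* ↥(Cfsg.isometryGroup F ⇑Q) :=
  MonoidHom.codRestrict
    (((MulAut.conj B).toMonoidHom.comp (Matrix.GeneralLinearGroup.map j)).comp
      (Cfsg.isometryGroup F₀ ⇑Q₀).subtype)
    (Cfsg.isometryGroup F ⇑Q) (fun g₀ => mapIso'_mem j Q₀ Q B c hc hB g₀)

theorem mapIso'_val (g₀ : ↥(Cfsg.isometryGroup F₀ ⇑Q₀)) :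
    (((mapIso' j Q₀ Q B c hc hB g₀).1 : GL ι F) : Matrix ι ι F) =
      B.1 * ((g₀.1 : GL ι F₀) : Matrix ι ι F₀).map j * (B⁻¹).1 := rfl

theorem mapIso'_mem_Omega (ω₀ : ↥(Cfsg.isometryGroup F₀ ⇑Q₀))
    (h : ω₀ ∈ Cfsg.Omega F₀ ⇑Q₀) : mapIso' j Q₀ Q B c hc hB ω₀ ∈ Cfsg.Omega F ⇑Q := by
  have hle : (commutator ↥(Cfsg.isometryGroup F₀ ⇑Q₀)).map (mapIso' j Q₀ Q B c hc hB) ≤
      commutator ↥(Cfsg.isometryGroup F ⇑Q) := by
    rw [commutator_def, commutator_def, Subgroup.map_commutator]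
    exact Subgroup.commutator_mono le_top le_top
  exact hle ⟨ω₀, h, rfl⟩

end iso

section cent
variable {F₀ : Type*} [Field F₀] [Fintype F₀] (j : F₀ →+* F) (Q₀ : QuadraticForm F₀ (ι → F₀))
  (Q : QuadraticForm F (ι → F)) [hS : Std Q] [hS₀ : Std Q₀] (B : GL ι F) (c : F) (hc : c ≠ 0)
  (hB : ∀ v : ι → F₀, j (Q₀ v) = c * Q (B.1 *ᵥ fun i => j (v i)))
  (Φ : SemiSimO Q) (μ : F) (hμ : μ ≠ 0) (hΦB : Φ.mat * B.1.map Φ.σ = μ • B.1)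
  (p : ℕ) [hp : Fact p.Prime] [hcp : CharP F p] [hcp₀ : CharP F₀ p]

/-- conjugated base change composed with the action -/
noncomputable def bcM : ↥(GO Q₀) →* MulAut (Cfsg.POmega F ⇑Q) :=
  (fGO Q).comp (mapGO' j Q₀ Q B c hc hB)

theorem bcM_apply (g₀ : ↥(GO Q₀)) :
    bcM j Q₀ Q B c hc hB g₀ = fGO Q (mapGO' j Q₀ Q B c hc hB g₀) := rfl

/-- the conjugated base change on the points of the frame -/
theorem mapGO'_frame (g₀ : ↥(GO Q₀)) (w : ι → F₀) :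
    ((mapGO' j Q₀ Q B c hc hB g₀).1 : Matrix ι ι F) *ᵥ (B.1 *ᵥ fun i => j (w i)) =
      B.1 *ᵥ fun i => j (((g₀.1 : Matrix ι ι F₀) *ᵥ w) i) := by
  rw [mapGO'_val, Matrix.mulVec_mulVec, Matrix.mul_assoc, gl_inv_mul, Matrix.mul_one,
    ← Matrix.mulVec_mulVec]
  congr 1
  funext i
  exact (RingHom.map_mulVec j _ w i).symm

include hp hcp hcp₀ in
theorem bcM_ker : (bcM j Q₀ Q B c hc hB).ker = (fGO Q₀).ker := by
  ext g₀
  rw [MonoidHom.mem_ker, MonoidHom.mem_ker, bcM_apply]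
  exact mapGO'_ker j Q₀ Q B c hc hB p g₀

include hp hcp hcp₀ in
theorem bcM_eq_iff (a b : ↥(GO Q₀)) :
    bcM j Q₀ Q B c hc hB a = bcM j Q₀ Q B c hc hB b ↔ fGO Q₀ a = fGO Q₀ b := by
  rw [← mul_inv_eq_one, ← map_inv, ← map_mul, ← MonoidHom.mem_ker, bcM_ker j Q₀ Q B c hc hB p,
    MonoidHom.mem_ker, map_mul, map_inv, mul_inv_eq_one]

include hΦB in
/-- the frame on a point of the subfield -/
theorem frame_S (w : ι → F₀) (hjfix : ∀ a : F₀, Φ.σ (j a) = j a) :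
    Φ.S (B.1 *ᵥ fun i => j (w i)) = μ • (B.1 *ᵥ fun i => j (w i)) := by
  rw [← Φ.mat_mulVec', ← map_mulVec_apply' Φ.σ B.1, Matrix.mulVec_mulVec, hΦB, Matrix.smul_mulVec]
  congr 2
  funext i
  exact hjfix (w i)

include hp hcp₀ in
/-- **conjugation of conjugated base changes by a descended semilinear similarity** -/
theorem conj_bcM (Ψ : SemiSimO Q) (Ψ₀ : SemiSimO Q₀) (y : F) (hy : y ≠ 0)
    (hσ : ∀ a, j (Ψ₀.σ a) = Ψ.σ (j a))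
    (hact : ∀ w : ι → F₀, Ψ.S (B.1 *ᵥ fun i => j (w i)) = y • (B.1 *ᵥ fun i => j (Ψ₀.S w i)))
    (s₀ s₀' : ↥(GO Q₀)) (h : Ψ₀.gam * fGO Q₀ s₀ = fGO Q₀ s₀' * Ψ₀.gam) :
    Ψ.gam * bcM j Q₀ Q B c hc hB s₀ = bcM j Q₀ Q B c hc hB s₀' * Ψ.gam := by
  rw [fGO_eq_gam, fGO_eq_gam, ← SemiSimO.gam_comp, ← SemiSimO.gam_comp] at h
  obtain ⟨d₀, hd₀, hd⟩ := S_smul_of_gam_eq p _ _ h
  have hjd : j d₀ ≠ 0 := (map_ne_zero j).mpr hd₀
  rw [bcM_apply, bcM_apply, fGO_eq_gam, fGO_eq_gam, ← SemiSimO.gam_comp, ← SemiSimO.gam_comp]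
  apply gam_eq_of_S_smul _ _ (j d₀) hjd
  intro x
  have key := ext_on_frame j B (Ψ.comp (simGO (mapGO' j Q₀ Q B c hc hB s₀)))
    ((SemiSimO.scal (Q := Q) (j d₀) hjd).comp ((simGO (mapGO' j Q₀ Q B c hc hB s₀')).comp Ψ))
    ?_ ?_ x
  · exact key
  · rw [SemiSimO.comp_σ, SemiSimO.comp_σ, SemiSimO.comp_σ, simGO_σ, simGO_σ]
    rfl
  · intro w
    change Ψ.S (((mapGO' j Q₀ Q B c hc hB s₀).1 : Matrix ι ι F) *ᵥ (B.1 *ᵥ fun i => j (w i))) =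
      j d₀ • (((mapGO' j Q₀ Q B c hc hB s₀').1 : Matrix ι ι F) *ᵥ
        Ψ.S (B.1 *ᵥ fun i => j (w i)))
    rw [mapGO'_frame, hact, hact, Matrix.mulVec_smul, mapGO'_frame]
    have h1 := hd w
    change Ψ₀.S ((s₀.1 : Matrix ι ι F₀) *ᵥ w) = d₀ • ((s₀'.1 : Matrix ι ι F₀) *ᵥ Ψ₀.S w) at h1
    have e : (fun i => j ((d₀ • ((s₀'.1 : Matrix ι ι F₀) *ᵥ Ψ₀.S w)) i)) =
        j d₀ • fun i => j (((s₀'.1 : Matrix ι ι F₀) *ᵥ Ψ₀.S w) i) := by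
      funext i
      simp
    rw [h1, e, Matrix.mulVec_smul, smul_comm]

include hp hcp hcp₀ in
/-- conjugated base change maps inner automorphisms to inner automorphisms -/
theorem bcM_mem_Inn (s₀ : ↥(GO Q₀)) (h : fGO Q₀ s₀ ∈ Cfsg.Inn (Cfsg.POmega F₀ ⇑Q₀)) :
    bcM j Q₀ Q B c hc hB s₀ ∈ Cfsg.Inn (Cfsg.POmega F ⇑Q) := by
  rw [bcM_apply]
  rw [fGO_mem_Inn_iff p] at h ⊢
  obtain ⟨c₀, ω₀, hω₀, e⟩ := h
  refine ⟨j c₀, mapIso' j Q₀ Q B c hc hB ω₀, mapIso'_mem_Omega j Q₀ Q B c hc hB ω₀ hω₀, ?_⟩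
  rw [mapGO'_val, mapIso'_val, e]
  have e1 : (c₀ • ((ω₀.1 : GL ι F₀) : Matrix ι ι F₀)).map j =
      j c₀ • ((ω₀.1 : GL ι F₀) : Matrix ι ι F₀).map j := by
    ext a b
    simp
  rw [e1, Matrix.mul_smul, Matrix.smul_mul]

/-- the subfield subgroup -/
noncomputable def subM' : Subgroup (MulAut (Cfsg.POmega F ⇑Q)) :=
  ((Cfsg.Inn (Cfsg.POmega F₀ ⇑Q₀)).comap (fGO Q₀)).map (bcM j Q₀ Q B c hc hB)

include hp hcp hcp₀ in
theorem subM'_equiv : Nonempty (↥(subM' j Q₀ Q B c hc hB) ≃* Cfsg.POmega F₀ ⇑Q₀) := by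
  classical
  obtain ⟨e1⟩ := map_equiv_of_ker_eq (bcM j Q₀ Q B c hc hB) (fGO Q₀) (bcM_ker j Q₀ Q B c hc hB p)
    ((Cfsg.Inn (Cfsg.POmega F₀ ⇑Q₀)).comap (fGO Q₀))
  have e2 : ((Cfsg.Inn (Cfsg.POmega F₀ ⇑Q₀)).comap (fGO Q₀)).map (fGO Q₀) =
      Cfsg.Inn (Cfsg.POmega F₀ ⇑Q₀) := by
    rw [Subgroup.map_comap_eq, ← pgoAut_eq_range]
    exact inf_eq_right.mpr (Inn_le_pgoAut Q₀)
  obtain ⟨e3⟩ := inn_equiv (center_POmega Q₀)
  exact ⟨e1.trans ((MulEquiv.subgroupCongr e2).trans e3.symm)⟩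

section good
variable (hP : HP Q) (hP₀ : HP Q₀)

include hμ hΦB in
/-- the powers of the semilinear similarity on the points of the frame -/
theorem frame_powS (hjfix : ∀ a : F₀, Φ.σ (j a) = j a) (k : ℕ) :
    ∃ mk : F, mk ≠ 0 ∧ ∀ w : ι → F₀,
      (powS Φ k).S (B.1 *ᵥ fun i => j (w i)) = mk • (B.1 *ᵥ fun i => j (w i)) := by
  induction k with
  | zero => exact ⟨1, one_ne_zero, fun w => by rw [one_smul]; rfl⟩
  | succ k ih =>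
    obtain ⟨mk, hmk, h⟩ := ih
    refine ⟨Φ.σ mk * μ, mul_ne_zero ((map_ne_zero _).mpr hmk) hμ, fun w => ?_⟩
    change Φ.S ((powS Φ k).S _) = _
    rw [h, Φ.smul, frame_S j Q B Φ μ hΦB w hjfix, smul_smul]

include hp hcp hcp₀ hμ hΦB hP in
/-- **the subfield subgroup is a good subgroup of the centraliser of a semilinear similarity with
a frame** -/
theorem good_frame (hj : ∀ a : F, Φ.σ a = a ↔ a ∈ Set.range j) (p' : ℕ) (hp' : p'.Prime)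
    (hdvd₀ : p' ∣ Nat.card (Cfsg.pgoAut F₀ ⇑Q₀) → p' ∣ Nat.card (Cfsg.POmega F₀ ⇑Q₀)) :
    Good (Cfsg.Inn (Cfsg.POmega F ⇑Q)) Φ.gam p' (subM' j Q₀ Q B c hc hB) := by
  classical
  have hjfix : ∀ a : F₀, Φ.σ (j a) = j a := fun a => (hj _).mpr ⟨a, rfl⟩
  obtain ⟨eM⟩ := subM'_equiv j Q₀ Q B c hc hB p
  have key : ∀ c' ∈ Subgroup.centralizer {Φ.gam}, ∃ (Ψ : SemiSimO Q) (Ψ₀ : SemiSimO Q₀) (y : F),
      Ψ.gam = c' ∧ y ≠ 0 ∧ (∀ a, j (Ψ₀.σ a) = Ψ.σ (j a)) ∧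
      ∀ w : ι → F₀, Ψ.S (B.1 *ᵥ fun i => j (w i)) = y • (B.1 *ᵥ fun i => j (Ψ₀.S w i)) := by
    intro c' hc'
    rw [mem_cent_singleton] at hc'
    obtain ⟨Ψ, rfl⟩ := exists_semi p hP c'
    obtain ⟨Ψ₀, y, hy, hσ, hact⟩ := semi_descent j Q₀ Q B c hc hB Φ μ hμ hΦB p hj Ψ hc'.symm
    exact ⟨Ψ, Ψ₀, y, rfl, hy, hσ, hact⟩
  have tw : ∀ (Ψ₀ : SemiSimO Q₀) (s₀ : ↥(GO Q₀)),
      fGO Q₀ s₀ ∈ Cfsg.Inn (Cfsg.POmega F₀ ⇑Q₀) →
      ∃ s₀' : ↥(GO Q₀), fGO Q₀ s₀' ∈ Cfsg.Inn (Cfsg.POmega F₀ ⇑Q₀) ∧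
        Ψ₀.gam * fGO Q₀ s₀ = fGO Q₀ s₀' * Ψ₀.gam := by
    intro Ψ₀ s₀ hs₀
    have h1 : Ψ₀.gam * fGO Q₀ s₀ * Ψ₀.gam⁻¹ ∈ Cfsg.Inn (Cfsg.POmega F₀ ⇑Q₀) :=
      (Cfsg.innNormal _).conj_mem _ hs₀ _
    have h2 : Ψ₀.gam * fGO Q₀ s₀ * Ψ₀.gam⁻¹ ∈ (fGO Q₀).range := by
      rw [← pgoAut_eq_range]
      exact Inn_le_pgoAut Q₀ h1
    obtain ⟨s₀', hs₀'⟩ := h2
    refine ⟨s₀', by rw [hs₀']; exact h1, ?_⟩
    rw [hs₀', inv_mul_cancel_right]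
  refine ⟨?_, ?_, ?_, ?_, ?_⟩
  · -- le
    rintro _ ⟨s₀, hs₀, rfl⟩
    exact ⟨bcM_mem_Inn j Q₀ Q B c hc hB p s₀ hs₀,
      (mem_cent_singleton _ _).mpr (mapGO'_comm j Q₀ Q B c hc hB Φ μ hΦB hjfix s₀).symm⟩
  · -- simple
    haveI := POmega_isSimpleGroup Q₀ hS₀.nondeg (five_le Q₀)
    exact MulEquiv.isSimpleGroup eM
  · -- norm
    rintro c' hc' _ ⟨s₀, hs₀, rfl⟩
    obtain ⟨Ψ, Ψ₀, y, rfl, hy, hσ, hact⟩ := key c' hc'
    obtain ⟨s₀', hs₀', htw⟩ := tw Ψ₀ s₀ hs₀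
    have h1 := conj_bcM j Q₀ Q B c hc hB p Ψ Ψ₀ y hy hσ hact s₀ s₀' htw
    rw [h1, mul_inv_cancel_right]
    exact ⟨s₀', hs₀', rfl⟩
  · -- dvd
    intro hd
    rw [Nat.card_congr eM.toEquiv]
    apply hdvd₀
    have h1 : Nat.card ↥(Cfsg.Inn (Cfsg.POmega F ⇑Q) ⊓ Subgroup.centralizer {Φ.gam}) ∣
        Nat.card ↥(Cfsg.pgoAut F ⇑Q ⊓ Subgroup.centralizer {Φ.gam}) :=
      Subgroup.card_dvd_of_le (inf_le_inf_right _ (Inn_le_pgoAut Q))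
    obtain ⟨e⟩ := cent_iso_sub j Q₀ Q B c hc hB Φ μ hμ hΦB p hj ⊤ ⊤
      (fun _ _ _ _ _ _ => Subgroup.mem_top _)
      (fun _ => ⟨fun _ => Subgroup.mem_top _, fun _ => Subgroup.mem_top _⟩)
    rw [← MonoidHom.range_eq_map, ← MonoidHom.range_eq_map, ← pgoAut_eq_range,
      ← pgoAut_eq_range] at e
    rw [Nat.card_congr e.toEquiv] at h1
    exact hd.trans h1
  · -- cent
    intro c' hc' hcomm
    obtain ⟨Ψ, Ψ₀, y, rfl, hy, hσ, hact⟩ := key c' hc'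
    have hn1 : Ψ₀.gam = 1 := by
      apply eq_one_of_comm_inn (center_POmega Q₀)
      intro k
      have hk : MulAut.conj k ∈ (fGO Q₀).range := by
        rw [← pgoAut_eq_range]
        exact Inn_le_pgoAut Q₀ ⟨k, rfl⟩
      obtain ⟨s₀, hs₀⟩ := hk
      have hs₀S : fGO Q₀ s₀ ∈ Cfsg.Inn (Cfsg.POmega F₀ ⇑Q₀) := by rw [hs₀]; exact ⟨k, rfl⟩
      obtain ⟨s₀', hs₀', htw⟩ := tw Ψ₀ s₀ hs₀S
      have h1 := hcomm _ ⟨s₀, hs₀S, rfl⟩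
      have h2 := conj_bcM j Q₀ Q B c hc hB p Ψ Ψ₀ y hy hσ hact s₀ s₀' htw
      rw [h1] at h2
      have h3 := mul_right_cancel h2
      rw [bcM_eq_iff j Q₀ Q B c hc hB p] at h3
      rw [← hs₀, htw, ← h3]
    obtain ⟨hσ₀, c₀, hc₀⟩ := scalar_of_gam_eq_one p Ψ₀ hn1
    have hc₀0 : c₀ ≠ 0 := by
      intro h0
      obtain ⟨x, hx⟩ := SemiSimO.exists_Q_ne_zero (Q := Q₀)
      apply hx
      have h2 := hc₀ x
      rw [h0, zero_smul, ← Ψ₀.S_zero] at h2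
      rw [Ψ₀.S_injective h2, map_zero]
    haveI : Finite (RingAut F) := Finite.of_injective (fun e : RingAut F => (e : F → F))
      (fun a b hab => RingEquiv.ext (congrFun hab))
    have hmem : (Ψ.σ : RingAut F) ∈ Subgroup.zpowers (Φ.σ : RingAut F) := by
      apply mem_zpowers_of_fixed
      intro a ha
      obtain ⟨b, rfl⟩ := (hj a).mp ha
      rw [← hσ, hσ₀]
      rfl
    rw [← mem_powers_iff_mem_zpowers, Submonoid.mem_powers_iff] at hmem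
    obtain ⟨i, hi⟩ := hmem
    obtain ⟨mi, hmi, hpow⟩ := frame_powS j Q B Φ μ hμ hΦB hjfix i
    have ht : y * j c₀ * mi⁻¹ ≠ 0 :=
      mul_ne_zero (mul_ne_zero hy ((map_ne_zero j).mpr hc₀0)) (inv_ne_zero hmi)
    have hΨ : ∀ x, Ψ.S x =
        ((SemiSimO.scal (Q := Q) (y * j c₀ * mi⁻¹) ht).comp (powS Φ i)).S x := by
      apply ext_on_frame j B
      · rw [SemiSimO.comp_σ]
        have h1 : ((powS Φ i).σ : RingAut F) = (Ψ.σ : RingAut F) := by rw [powS_σ, hi]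
        apply RingEquiv.ext
        intro a
        change Ψ.σ a = (powS Φ i).σ a
        rw [h1]
      · intro w
        change _ = (y * j c₀ * mi⁻¹) • (powS Φ i).S _
        rw [hpow, hact, hc₀, smul_smul, inv_mul_cancel_right₀ hmi, mul_smul]
        congr 2
        rw [← Matrix.mulVec_smul]
        congr 1
        funext i
        simp
    have hgam : Ψ.gam = Φ.gam ^ i := by
      rw [SemiSimO.gam_eq_of_S_eq _ _ hΨ, SemiSimO.gam_comp, SemiSimO.gam_scal, one_mul, gam_powS]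
    rw [Subgroup.mem_zpowers_iff]
    exact ⟨(i : ℤ), by rw [zpow_natCast, hgam]⟩

end good

end cent

end Cfsg.Agent.Lib.Helper16.LocalBalMinus
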