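import Mathlib
import Cfsg.Agent.Lib.Helper16.LocalBalMinusP

/-!
# Local balance for the minus type orthogonal groups, part Q: transfer along a similarity of forms,
the standard field automorphism in the coordinates of a frame, anisotropy of similar forms
-/

set_option autoImplicit false
set_option linter.unusedSectionVars false
set_option linter.unusedVariables false
set_option linter.style.haveILetI false

namespace Cfsg.Agent.Lib.Helper16.LocalBalMinus

open Matrix Cfsg QuadraticMap Cfsg.Agent.Lib.Helper6 Cfsg.Agent.Lib.Helper6.AutOrt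
  Cfsg.Agent.Lib.Helper6.OmegaAut Cfsg.Agent.Lib.Helper6.SimAut
  Cfsg.Agent.Lib.Helper6.LocalBal
  Cfsg.Agent.Lib.Helper16.FieldCosetOrth Cfsg.Agent.Lib.Helper16.OrthDescent
  Cfsg.Agent.Lib.Helper16.FieldCentOrth Cfsg.Agent.Lib.Helper16.QuadExt
  Cfsg.Agent.Lib.Helper16.FieldCentMinus Cfsg.Agent.Lib.Helper16.FieldCentOmegaOdd
open Cfsg.Agent.Lib.Helper15 (Qgen Qgen_apply binForm binForm_apply nondegenerate_Qgen
  nondegenerate_binForm)
open Cfsg.Agent.Lib.Helper6.AutPSL (sG sG_val gl_mul_inv gl_inv_mul)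

section grp
variable {G H : Type*} [Group G] [Group H]

/-- an isomorphism of groups restricts to the commutator subgroups -/
noncomputable def commCongr (e : G ≃* H) : ↥(commutator G) ≃* ↥(commutator H) :=
  (e.subgroupMap (commutator G)).trans (MulEquiv.subgroupCongr (by
    rw [commutator_def, commutator_def, Subgroup.map_commutator,
      Subgroup.map_top_of_surjective _ e.surjective]))

theorem commCongr_val (e : G ≃* H) (s : ↥(commutator G)) : ((commCongr e s : ↥(commutator H)) : H) = e s.1 :=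
  rfl

theorem map_center_equiv {A B : Type*} [Group A] [Group B] (e : A ≃* B) :
    (Subgroup.center A).map e.toMonoidHom = Subgroup.center B := by
  ext y
  constructor
  · rintro ⟨x, hx, rfl⟩
    rw [SetLike.mem_coe] at hx
    rw [Subgroup.mem_center_iff] at hx ⊢
    intro g
    obtain ⟨g', rfl⟩ := e.surjective g
    change e g' * e x = e x * e g'
    rw [← map_mul, ← map_mul, hx g']
  · intro hy
    rw [Subgroup.mem_center_iff] at hy
    refine ⟨e.symm y, ?_, e.apply_symm_apply y⟩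
    rw [SetLike.mem_coe, Subgroup.mem_center_iff]
    intro g
    apply e.injective
    rw [map_mul, map_mul, e.apply_symm_apply]
    exact hy (e g)

/-- an isomorphism of groups induces an isomorphism of the central quotients of the commutator
subgroups -/
noncomputable def commCenterCongr (e : G ≃* H) :
    (↥(commutator G) ⧸ Subgroup.center ↥(commutator G)) ≃*
      (↥(commutator H) ⧸ Subgroup.center ↥(commutator H)) :=
  QuotientGroup.congr _ _ (commCongr e) (map_center_equiv (commCongr e))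

theorem commCenterCongr_mk (e : G ≃* H) (s : ↥(commutator G)) :
    commCenterCongr e (QuotientGroup.mk s) = QuotientGroup.mk (commCongr e s) := rfl

end grp

variable {F : Type*} [Field F] [Fintype F] {ι : Type} [Fintype ι] [DecidableEq ι]

section transfer
variable (Q' Q : QuadraticForm F (ι → F)) (B : GL ι F) (c : F) (hc : c ≠ 0)
  (hB : ∀ v : ι → F, Q' v = c * Q (B.1 *ᵥ v))

include hc hB in
theorem conj_mem_iso (g : ↥(Cfsg.isometryGroup F ⇑Q')) :
    B * g.1 * B⁻¹ ∈ Cfsg.isometryGroup F ⇑Q := by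
  rw [mem_isometryGroup_iff]
  intro u
  have h1 : ((B * g.1 * B⁻¹ : GL ι F) : Matrix ι ι F) *ᵥ u =
      B.1 *ᵥ ((g.1 : Matrix ι ι F) *ᵥ ((B⁻¹).1 *ᵥ u)) := by
    rw [Matrix.mulVec_mulVec, Matrix.mulVec_mulVec]
    rfl
  have h2 := hB ((g.1 : Matrix ι ι F) *ᵥ ((B⁻¹).1 *ᵥ u))
  rw [(mem_isometryGroup_iff Q' g.1).mp g.2, hB, Matrix.mulVec_mulVec, gl_mul_inv,
    Matrix.one_mulVec] at h2
  rw [h1]
  exact (mul_left_cancel₀ hc h2).symm

include hc hB in
theorem conj_mem_iso' (g : ↥(Cfsg.isometryGroup F ⇑Q)) :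
    B⁻¹ * g.1 * B ∈ Cfsg.isometryGroup F ⇑Q' := by
  rw [mem_isometryGroup_iff]
  intro u
  have h1 : B.1 *ᵥ (((B⁻¹ * g.1 * B : GL ι F) : Matrix ι ι F) *ᵥ u) =
      (g.1 : Matrix ι ι F) *ᵥ (B.1 *ᵥ u) := by
    rw [Matrix.mulVec_mulVec, Matrix.mulVec_mulVec]
    congr 1
    change B.1 * ((B⁻¹).1 * (g.1 : Matrix ι ι F) * B.1) = _
    rw [← Matrix.mul_assoc, ← Matrix.mul_assoc, gl_mul_inv, Matrix.one_mul]
  rw [hB, h1, (mem_isometryGroup_iff Q g.1).mp g.2, ← hB]

/-- conjugation by the frame as an isomorphism of the isometry groups -/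
noncomputable def isoEquiv : ↥(Cfsg.isometryGroup F ⇑Q') ≃* ↥(Cfsg.isometryGroup F ⇑Q) where
  toFun g := ⟨B * g.1 * B⁻¹, conj_mem_iso Q' Q B c hc hB g⟩
  invFun g := ⟨B⁻¹ * g.1 * B, conj_mem_iso' Q' Q B c hc hB g⟩
  left_inv g := Subtype.ext (by
    change B⁻¹ * (B * g.1 * B⁻¹) * B = g.1
    group)
  right_inv g := Subtype.ext (by
    change B * (B⁻¹ * g.1 * B) * B⁻¹ = g.1
    group)
  map_mul' g h := Subtype.ext (by
    change B * (g.1 * h.1) * B⁻¹ = (B * g.1 * B⁻¹) * (B * h.1 * B⁻¹)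
    group)

theorem isoEquiv_val (g : ↥(Cfsg.isometryGroup F ⇑Q')) :
    (((isoEquiv Q' Q B c hc hB g).1 : GL ι F) : Matrix ι ι F) =
      B.1 * ((g.1 : GL ι F) : Matrix ι ι F) * (B⁻¹).1 := rfl

/-- the induced isomorphism of the simple groups -/
noncomputable def pomEquiv : Cfsg.POmega F ⇑Q' ≃* Cfsg.POmega F ⇑Q :=
  commCenterCongr (isoEquiv Q' Q B c hc hB)

/-- **a semilinear similarity with a frame becomes a standard field automorphism in the
coordinates of the frame** -/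
theorem isFieldAut_of_frame [hS : Std Q] (Φ : SemiSimO Q) (μ : F)
    (hΦB : Φ.mat * B.1.map Φ.σ = μ • B.1) :
    Cfsg.IsFieldAutPOmegaOf ⇑Q' Φ.σ
      (((pomEquiv Q' Q B c hc hB).trans Φ.gam).trans (pomEquiv Q' Q B c hc hB).symm) := by
  intro s s' h
  change (pomEquiv Q' Q B c hc hB).symm (Φ.gam (pomEquiv Q' Q B c hc hB (QuotientGroup.mk s))) =
    QuotientGroup.mk s'
  rw [MulEquiv.symm_apply_eq]
  change Φ.gam (pu (commCongr (isoEquiv Q' Q B c hc hB) s)) =
    pu (commCongr (isoEquiv Q' Q B c hc hB) s')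
  apply Φ.gam_eq_of
  intro y
  change (((isoEquiv Q' Q B c hc hB s'.1).1 : GL ι F) : Matrix ι ι F) *ᵥ Φ.S y =
    Φ.S ((((isoEquiv Q' Q B c hc hB s.1).1 : GL ι F) : Matrix ι ι F) *ᵥ y)
  rw [isoEquiv_val, isoEquiv_val, h, ← Φ.mat_mulVec', ← Φ.mat_mulVec', ← map_mulVec_apply' Φ.σ _ y,
    Matrix.mulVec_mulVec, Matrix.mulVec_mulVec]
  congr 1
  rw [Matrix.map_mul, Matrix.map_mul]
  obtain ⟨G, hG⟩ : ∃ G : Matrix ι ι F, G = (((s.1 : ↥(Cfsg.isometryGroup F ⇑Q')) : GL ι F) :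
    Matrix ι ι F).map Φ.σ := ⟨_, rfl⟩
  rw [← hG]
  calc B.1 * G * (B⁻¹).1 * Φ.mat = B.1 * G * ((B⁻¹).1 * Φ.mat) := by
        simp only [Matrix.mul_assoc]
    _ = B.1 * G * (μ • (B⁻¹).1.map Φ.σ) := by rw [inv_mul_mat Q B Φ μ hΦB]
    _ = (μ • B.1) * G * (B⁻¹).1.map Φ.σ := by
        rw [Matrix.mul_smul, Matrix.smul_mul, Matrix.smul_mul]
    _ = Φ.mat * (B.1.map Φ.σ * G * (B⁻¹).1.map Φ.σ) := by
        rw [← hΦB]
        simp only [Matrix.mul_assoc]

end transfer

section aniso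
variable {m : ℕ} (a b a' b' : F)

/-- the totally singular subspace of a standard form with isotropic binary part -/
def tsMap (m : ℕ) (z₁ z₂ : F) : (Fin (m + 1) → F) →ₗ[F] ((Fin m ⊕ Fin m) ⊕ Fin 2 → F) where
  toFun d := Sum.elim (Sum.elim (fun i => d i.castSucc) (fun _ => (0 : F)))
    (fun t => d (Fin.last m) * ![z₁, z₂] t)
  map_add' x y := by
    funext i
    rcases i with (i | i) | i <;> simp [add_mul]
  map_smul' r x := by
    funext i
    rcases i with (i | i) | i <;> simp [mul_assoc]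

theorem tsMap_injective (m : ℕ) (z₁ z₂ : F) (hz : ¬ (z₁ = 0 ∧ z₂ = 0)) :
    Function.Injective (tsMap (F := F) m z₁ z₂) := by
  intro x y hxy
  funext i
  refine Fin.lastCases ?_ (fun i => ?_) i
  · by_cases h1 : z₁ = 0
    · have h2 : z₂ ≠ 0 := fun h => hz ⟨h1, h⟩
      have := congrFun hxy (Sum.inr 1)
      change x (Fin.last m) * ![z₁, z₂] 1 = y (Fin.last m) * ![z₁, z₂] 1 at this
      simp only [Matrix.cons_val_one, Matrix.cons_val_fin_one] at this
      exact mul_right_cancel₀ h2 this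
    · have := congrFun hxy (Sum.inr 0)
      change x (Fin.last m) * ![z₁, z₂] 0 = y (Fin.last m) * ![z₁, z₂] 0 at this
      simp only [Matrix.cons_val_zero] at this
      exact mul_right_cancel₀ h1 this
  · exact congrFun hxy (Sum.inl (Sum.inl i))

theorem Q_tsMap (m : ℕ) (z₁ z₂ : F) (hz : z₁ ^ 2 + a' * z₁ * z₂ + b' * z₂ ^ 2 = 0)
    (d : Fin (m + 1) → F) : Qgen m (binForm a' b') (tsMap m z₁ z₂ d) = 0 := by
  rw [Qgen_apply, binForm_apply]
  have h1 : ∀ i : Fin m, tsMap m z₁ z₂ d (Sum.inl (Sum.inr i)) = 0 := fun i => rfl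
  have h2 : tsMap m z₁ z₂ d (Sum.inr 0) = d (Fin.last m) * z₁ := rfl
  have h3 : tsMap m z₁ z₂ d (Sum.inr 1) = d (Fin.last m) * z₂ := rfl
  simp only [h1, h2, h3, mul_zero, Finset.sum_const_zero, zero_add]
  linear_combination (d (Fin.last m)) ^ 2 * hz

/-- a standard form similar to a minus type form has an anisotropic binary part -/
theorem aniso_of_similar
    (hab : ∀ z₁ z₂ : F, z₁ ^ 2 + a * z₁ * z₂ + b * z₂ ^ 2 = 0 → z₁ = 0 ∧ z₂ = 0)
    (B : GL ((Fin m ⊕ Fin m) ⊕ Fin 2) F) (c : F) (hc : c ≠ 0)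
    (hB : ∀ v, Qgen m (binForm a' b') v = c * Qgen m (binForm a b) (B.1 *ᵥ v)) :
    ∀ z₁ z₂ : F, z₁ ^ 2 + a' * z₁ * z₂ + b' * z₂ ^ 2 = 0 → z₁ = 0 ∧ z₂ = 0 := by
  classical
  intro z₁ z₂ hz
  by_contra hne
  obtain ⟨M, hM⟩ : ∃ M : (Fin (m + 1) → F) →ₗ[F] ((Fin m ⊕ Fin m) ⊕ Fin 2 → F),
      M = (Matrix.toLin' B.1) ∘ₗ tsMap m z₁ z₂ := ⟨_, rfl⟩
  have hinj : Function.Injective M := by
    rw [hM]
    intro x y hxy
    apply tsMap_injective m z₁ z₂ hne
    have h1 := congrArg (fun v => (B⁻¹).1 *ᵥ v) hxy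
    simp only [LinearMap.coe_comp, Function.comp_apply, Matrix.toLin'_apply,
      Matrix.mulVec_mulVec, gl_inv_mul, Matrix.one_mulVec] at h1
    exact h1
  have hE : ∀ x ∈ LinearMap.range M, Qgen m (binForm a b) x = 0 := by
    rintro x ⟨d, rfl⟩
    have h1 := hB (tsMap m z₁ z₂ d)
    rw [Q_tsMap a' b' m z₁ z₂ hz d] at h1
    rw [hM]
    simp only [LinearMap.coe_comp, Function.comp_apply, Matrix.toLin'_apply]
    rcases mul_eq_zero.mp h1.symm with h3 | h3
    · exact absurd h3 hc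
    · exact h3
  have hfr : Module.finrank F (LinearMap.range M) = m + 1 := by
    rw [LinearMap.finrank_range_of_inj hinj, Module.finrank_fintype_fun_eq_card, Fintype.card_fin]
  exact no_ts_Qgen m (binForm a b) (binForm_aniso a b hab)
    (nondegenerate_Qgen m (binForm a b) (nondegenerate_binForm a b hab)) _ hE
    (by rw [hfr, Module.finrank_fintype_fun_eq_card, card_JJ]; ring) (by rw [hfr]; omega)

end aniso

end Cfsg.Agent.Lib.Helper16.LocalBalMinus
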