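import Mathlib
import Cfsg.Agent.Lib.Helper16.LocalBalMinusN
import Cfsg.Agent.Lib.Helper16.LocalBalMinusQ
import Cfsg.Agent.Lib.Helper16.FieldCentMinus2
import Cfsg.Agent.Lib.Helper6.LocalBalD

/-!
# Local balance for the minus type orthogonal groups, part R: the criterion
-/

set_option autoImplicit false
set_option linter.unusedSectionVars false
set_option linter.unusedVariables false
set_option linter.style.haveILetI false

namespace Cfsg.Agent.Lib.Helper16.LocalBalMinus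

open Matrix Cfsg QuadraticMap Cfsg.Agent.Lib.Helper6 Cfsg.Agent.Lib.Helper6.AutOrt
  Cfsg.Agent.Lib.Helper6.OmegaAut Cfsg.Agent.Lib.Helper6.SimAut
  Cfsg.Agent.Lib.Helper6.LocalBal
  Cfsg.Agent.Lib.Helper16.FieldCosetOrth Cfsg.Agent.Lib.Helper16.OrthDescent
  Cfsg.Agent.Lib.Helper16.FieldCentOrth Cfsg.Agent.Lib.Helper16.QuadExt
  Cfsg.Agent.Lib.Helper16.FieldCentMinus Cfsg.Agent.Lib.Helper16.FieldCentOmegaOdd
  Cfsg.Agent.Lib.Helper16.FieldCosetMinus Cfsg.Agent.Lib.Helper16.UnitaryDescent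
open Cfsg.Agent.Lib.Helper15 (Qgen Qgen_apply binForm binForm_apply nondegenerate_Qgen
  nondegenerate_binForm)
open Cfsg.Agent.Lib.Helper6.AutPSL (sG sG_val gl_mul_inv gl_inv_mul)

universe u
variable {F : Type u} [Field F] [Fintype F] {m : ℕ}

theorem quadFormMinus_eq (a b : F) : Cfsg.quadFormMinus m F a b = ⇑(Qgen m (binForm a b)) := by
  funext v
  rw [Qgen_apply, binForm_apply]
  rfl

/-- the standard form over a subfield, on the points of the subfield -/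
theorem Qgen_map {F₀ : Type*} [Field F₀] (j : F₀ →+* F) (a₀ b₀ : F₀)
    (v : (Fin m ⊕ Fin m) ⊕ Fin 2 → F₀) :
    Qgen m (binForm (j a₀) (j b₀)) (fun i => j (v i)) = j (Qgen m (binForm a₀ b₀) v) := by
  rw [Qgen_apply, Qgen_apply, binForm_apply, binForm_apply]
  simp only [map_add, map_sum, map_mul, map_pow]

/-- an odd prime dividing the order of the image of the similarity group divides the order of
the simple group -/
theorem dvd_card_POmega_minus (a b : F)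
    (hab : ∀ z₁ z₂ : F, z₁ ^ 2 + a * z₁ * z₂ + b * z₂ ^ 2 = 0 → z₁ = 0 ∧ z₂ = 0) (hm : 3 ≤ m)
    (p : ℕ) (hp : p.Prime) (hp2 : ¬ 2 ∣ p)
    (h : p ∣ Nat.card (Cfsg.pgoAut F ⇑(Qgen m (binForm a b)))) :
    p ∣ Nat.card (Cfsg.POmega F ⇑(Qgen m (binForm a b))) := by
  classical
  have hnd := nondegenerate_Qgen m (binForm a b) (nondegenerate_binForm a b hab)
  have h5 : 5 ≤ Fintype.card ((Fin m ⊕ Fin m) ⊕ Fin 2) := by rw [card_JJ]; omega
  have hcop : Nat.Coprime p 2 := by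
    rw [Nat.coprime_comm]
    exact (Nat.Prime.coprime_iff_not_dvd Nat.prime_two).mpr hp2
  by_cases h2 : (2 : F) = 0
  · obtain ⟨T⟩ := (std_minus a b hab hm).triple
    rw [card_pgoAut_two (Qgen m (binForm a b)) h2 hnd h5 T] at h
    exact hcop.dvd_of_dvd_mul_left h
  · have hodd : Odd (Fintype.card F) := by
      rw [Nat.odd_iff]
      apply FiniteField.odd_card_of_char_ne_two
      intro hch
      apply h2
      haveI : CharP F 2 := by rw [← hch]; exact ringChar.charP F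
      exact CharTwo.two_eq_zero
    rw [card_pgoAut_minus_odd a b hab hodd hm] at h
    split_ifs at h with hcase
    · have h8 : Nat.Coprime p 8 := by
        have := Nat.Coprime.pow_right 3 hcop
        norm_num at this
        exact this
      exact h8.dvd_of_dvd_mul_left h
    · have h4 : Nat.Coprime p 4 := by
        have := Nat.Coprime.pow_right 2 hcop
        norm_num at this
        exact this
      exact h4.dvd_of_dvd_mul_left h

set_option maxHeartbeats 1600000 in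
/-- **local balance for non-inner-diagonal automorphisms of prime order of `PΩ⁻_{2m+2}(q)`** -/
theorem main_minus {r : ℕ} [hr : Fact r.Prime] [hcr : CharP F r] (hm : 3 ≤ m) (a b : F)
    (hab : ∀ z₁ z₂ : F, z₁ ^ 2 + a * z₁ * z₂ + b * z₂ ^ 2 = 0 → z₁ = 0 ∧ z₂ = 0)
    (q : ((Fin m ⊕ Fin m) ⊕ Fin 2 → F) → F) (hq : q = ⇑(Qgen m (binForm a b)))
    (A : Subgroup (MulAut (Cfsg.POmega F q)))
    (hinn : ∀ k : Cfsg.POmega F q, MulAut.conj k ∈ A) {p : ℕ} [hpf : Fact p.Prime] (hpr : p ≠ r)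
    (x : MulAut (Cfsg.POmega F q)) (hxA : x ∈ A) (hord : orderOf x = p)
    (hnot : ¬ ∃ g : GL ((Fin m ⊕ Fin m) ⊕ Fin 2) F,
      g ∈ Cfsg.Geo.quadSimilarityGroup (F := F) q ∧
      Cfsg.PreservesSingularClassesMinus m a b
        (g : Matrix ((Fin m ⊕ Fin m) ⊕ Fin 2) ((Fin m ⊕ Fin m) ⊕ Fin 2) F) ∧
      Cfsg.IsInducedBySemilinearPOmega q g (RingEquiv.refl F) x) :
    Cfsg.pPrimeCore p ↥(A ⊓ Subgroup.centralizer {x}) ≠ ⊥ ↔
      ((∃ (a' b' : F) (ψ : Cfsg.POmega F q ≃* Cfsg.POmega F (Cfsg.quadFormMinus m F a' b'))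
        (σ : F ≃+* F),
        (∀ z₁ z₂ : F, z₁ ^ 2 + a' * z₁ * z₂ + b' * z₂ ^ 2 = 0 → z₁ = 0 ∧ z₂ = 0) ∧
        σ ≠ RingEquiv.refl F ∧ σ a' = a' ∧ σ b' = b' ∧
        Cfsg.IsFieldAutPOmegaOf (Cfsg.quadFormMinus m F a' b') σ ((ψ.symm.trans x).trans ψ)) ∧
      Nat.Coprime p (Nat.card
        ↥(MonoidHom.eqLocus x.toMonoidHom (MonoidHom.id (Cfsg.POmega F q))))) := by
  classical
  subst hq
  have hp : p.Prime := hpf.out
  haveI hS := std_minus a b hab hm
  have hP := HP_minus a b hab hm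
  by_cases hx : x ∈ Cfsg.pgoAut F ⇑(Qgen m (binForm a b))
  · -- the automorphism is induced by a similarity: both sides fail
    have h1 := nonfield_minus a b hab hm A hinn hpr x hord hnot hx
    constructor
    · intro h
      exact absurd h1 h
    · rintro ⟨⟨a', b', ψ, σ, hab', hσ, ha', hb', hφ⟩, -⟩
      exfalso
      revert ψ hφ
      rw [quadFormMinus_eq a' b']
      intro ψ hφ
      haveI hS' := std_minus a' b' hab' hm
      have hP' := HP_minus a' b' hab' hm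
      have h2 := psiO_order r hm a b a' b' hab hab' hP hP' ψ σ hσ ha' hb' x hφ hp hord
      have h3 : psiO r hP x = 1 := by
        rw [← MonoidHom.mem_ker, psiO_ker]
        exact hx
      rw [h3, orderOf_one] at h2
      exact hp.one_lt.ne h2
  · -- the field case
    obtain ⟨Φ, rfl⟩ := exists_semi r hP x
    have hτ1 : (Φ.σ : RingAut F) ≠ 1 := by
      intro h
      apply hx
      rw [← psiO_ker r hP, MonoidHom.mem_ker, psiO_gam, h]
    have hpow : Φ.gam ^ p = 1 := by rw [← hord]; exact pow_orderOf_eq_one _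
    have hτx : orderOf (Φ.σ : RingAut F) = p := by
      have h1 : (Φ.σ : RingAut F) ^ p = 1 := by
        rw [← psiO_gam r hP Φ, ← map_pow, hpow, map_one]
      rcases (Nat.dvd_prime hp).mp (orderOf_dvd_of_pow_eq_one h1) with h | h
      · exact absurd (orderOf_eq_one_iff.mp h) hτ1
      · exact h
    obtain ⟨b₁, μ, hμ, hb₁⟩ := Cfsg.Agent.Lib.Helper16.SemiFrame.exists_frame r Φ p hτx hp.pos hpow
    -- the fixed field
    haveI : Fintype ↥(fixK (Φ.σ : RingAut F)) := Fintype.ofFinite _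
    obtain ⟨j, hjdef⟩ : ∃ j : ↥(fixK (Φ.σ : RingAut F)) →+* F,
        j = (fixK (Φ.σ : RingAut F)).subtype := ⟨_, rfl⟩
    have hj : ∀ t : F, Φ.σ t = t ↔ t ∈ Set.range j := by
      intro t
      rw [hjdef]
      constructor
      · intro ht
        exact ⟨⟨t, ht⟩, rfl⟩
      · rintro ⟨s, rfl⟩
        exact s.2
    have hjfix : ∀ t : ↥(fixK (Φ.σ : RingAut F)), Φ.σ (j t) = j t := fun t => (hj _).mpr ⟨t, rfl⟩
    haveI : CharP ↥(fixK (Φ.σ : RingAut F)) r := RingHom.charP j (RingHom.injective j) r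
    obtain ⟨Q₁, c₁, hc₁, hQ₁, h₁⟩ :=
      Cfsg.Agent.Lib.Helper16.SemiFrame.exists_descended j Φ hj b₁ μ hμ hb₁
    obtain ⟨a₀, b₀, k, hab₀, hk⟩ :=
      Cfsg.Agent.Lib.Helper16.MinusType.exists_std j a b hab Q₁ hQ₁ b₁ c₁ hc₁ h₁
    obtain ⟨B, hBdef⟩ : ∃ B : GL ((Fin m ⊕ Fin m) ⊕ Fin 2) F,
        B = b₁ * Matrix.GeneralLinearGroup.map j k := ⟨_, rfl⟩
    have hBval : (B : Matrix ((Fin m ⊕ Fin m) ⊕ Fin 2) ((Fin m ⊕ Fin m) ⊕ Fin 2) F) =
        b₁.1 * (k : Matrix ((Fin m ⊕ Fin m) ⊕ Fin 2) ((Fin m ⊕ Fin m) ⊕ Fin 2)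
          ↥(fixK (Φ.σ : RingAut F))).map j := by
      rw [hBdef]; rfl
    have hB : ∀ v : (Fin m ⊕ Fin m) ⊕ Fin 2 → ↥(fixK (Φ.σ : RingAut F)),
        j (Qgen m (binForm a₀ b₀) v) =
        c₁ * Qgen m (binForm a b) (B.1 *ᵥ fun i => j (v i)) := by
      intro v
      rw [← hk v, h₁, hBval, ← Matrix.mulVec_mulVec]
      congr 3
      funext i
      exact RingHom.map_mulVec j _ v i
    have hΦB : Φ.mat * B.1.map Φ.σ = μ • B.1 := by
      have hkσ : ((k : Matrix ((Fin m ⊕ Fin m) ⊕ Fin 2) ((Fin m ⊕ Fin m) ⊕ Fin 2)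
          ↥(fixK (Φ.σ : RingAut F))).map j).map Φ.σ =
          (k : Matrix ((Fin m ⊕ Fin m) ⊕ Fin 2) ((Fin m ⊕ Fin m) ⊕ Fin 2)
            ↥(fixK (Φ.σ : RingAut F))).map j := by
        ext s t
        rw [Matrix.map_apply, Matrix.map_apply, hjfix]
      rw [hBval, Matrix.map_mul, hkσ, ← Matrix.mul_assoc, hb₁, Matrix.smul_mul]
    haveI hS₀ := std_minus a₀ b₀ hab₀ hm
    have hP₀ := HP_minus a₀ b₀ hab₀ hm
    -- the form in the coordinates of the frame
    have hB' : ∀ w : (Fin m ⊕ Fin m) ⊕ Fin 2 → F, Qgen m (binForm (j a₀) (j b₀)) w =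
        c₁ * Qgen m (binForm a b) (B.1 *ᵥ w) := by
      intro w
      have := qf_ext j (Qgen m (binForm (j a₀) (j b₀)))
        (c₁ • (Qgen m (binForm a b)).comp (Matrix.toLin' B.1)) (fun v => ?_) w
      · rwa [_root_.smul_apply, comp_toLin_apply', smul_eq_mul] at this
      · rw [_root_.smul_apply, comp_toLin_apply', smul_eq_mul, Qgen_map, hB]
    have hab' := aniso_of_similar a b (j a₀) (j b₀) hab B c₁ hc₁ hB'
    have hσ : Φ.σ ≠ RingEquiv.refl F := fun h => hτ1 h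
    have hpodd : ¬ 2 ∣ p :=
      Cfsg.Agent.Lib.Helper16.MinusField.not_two_dvd_of_aniso_fixed (Φ.σ : RingAut F) p hτx hp.pos
        (j a₀) (j b₀) (hjfix a₀) (hjfix b₀) hab'
    have hclass : ∃ (a' b' : F) (ψ : Cfsg.POmega F ⇑(Qgen m (binForm a b)) ≃*
        Cfsg.POmega F (Cfsg.quadFormMinus m F a' b')) (σ : F ≃+* F),
        (∀ z₁ z₂ : F, z₁ ^ 2 + a' * z₁ * z₂ + b' * z₂ ^ 2 = 0 → z₁ = 0 ∧ z₂ = 0) ∧
        σ ≠ RingEquiv.refl F ∧ σ a' = a' ∧ σ b' = b' ∧
        Cfsg.IsFieldAutPOmegaOf (Cfsg.quadFormMinus m F a' b') σ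
          ((ψ.symm.trans Φ.gam).trans ψ) := by
      refine ⟨j a₀, j b₀, ?_⟩
      rw [quadFormMinus_eq (j a₀) (j b₀)]
      exact ⟨(pomEquiv (Qgen m (binForm (j a₀) (j b₀))) (Qgen m (binForm a b)) B c₁ hc₁ hB').symm,
        Φ.σ, hab', hσ, hjfix a₀, hjfix b₀,
        isFieldAut_of_frame (Qgen m (binForm (j a₀) (j b₀))) (Qgen m (binForm a b)) B c₁ hc₁ hB'
          Φ μ hΦB⟩
    have hgood := good_frame j (Qgen m (binForm a₀ b₀)) (Qgen m (binForm a b)) B c₁ hc₁ hB Φ μ hμ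
      hΦB r hP hj p hp (dvd_card_POmega_minus a₀ b₀ hab₀ hm p hp hpodd)
    have hIA : Cfsg.Inn (Cfsg.POmega F ⇑(Qgen m (binForm a b))) ≤ A := by
      rintro _ ⟨k, rfl⟩
      exact hinn k
    rw [core_iff (Cfsg.Inn (Cfsg.POmega F ⇑(Qgen m (binForm a b)))) A hIA Φ.gam hxA p hpow _ hgood,
      card_inn_cent (center_POmega (Qgen m (binForm a b))) Φ.gam]
    exact ⟨fun hc => ⟨hclass, hc⟩, fun hc => hc.2⟩

end Cfsg.Agent.Lib.Helper16.LocalBalMinus
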