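import Mathlib
import Cfsg.Prelude.Def_SporadicCombinatorics

/-!
# Monomial maps preserving a subspace of `α → K` (helper16 library)

Generic version of the theory in `HexacodeMon`: composition, inverses, the subgroup of permutation
parts, reduction to a spanning set.
-/

set_option autoImplicit false

namespace Cfsg.Agent.Lib.Helper16.MonG

open Cfsg Equiv

variable {α : Type*} {K : Type*} [Field K]

theorem apply' (σ : Perm α) (c : α → Kˣ) (x : α → K) (i : α) :
    monomialMap σ c x i = (c i : K) * x (σ.symm i) := rfl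

/-- the monomial map as a linear map -/
def lin (σ : Perm α) (c : α → Kˣ) : (α → K) →ₗ[K] (α → K) where
  toFun := monomialMap σ c
  map_add' x y := by
    funext i
    simp only [apply', Pi.add_apply, mul_add]
  map_smul' a x := by
    funext i
    simp only [apply', Pi.smul_apply, smul_eq_mul, RingHom.id_apply, mul_left_comm]

theorem lin_apply (σ : Perm α) (c : α → Kˣ) (x : α → K) : lin σ c x = monomialMap σ c x := rfl

theorem comp (σ τ : Perm α) (c d : α → Kˣ) (x : α → K) :
    monomialMap σ c (monomialMap τ d x) =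
      monomialMap (σ * τ) (fun i => c i * d (σ.symm i)) x := by
  funext i
  simp only [apply', Units.val_mul, mul_assoc]
  rfl

theorem one_one (x : α → K) : monomialMap (1 : Perm α) (fun _ => (1 : Kˣ)) x = x := by
  funext i
  show ((1 : Kˣ) : K) * x i = x i
  rw [Units.val_one, one_mul]

theorem injective (σ : Perm α) (c : α → Kˣ) : Function.Injective (monomialMap (F := K) σ c) := by
  intro x y h
  funext j
  have := congrFun h (σ j)
  simp only [apply', Equiv.symm_apply_apply] at this
  exact (c (σ j)).isUnit.mul_left_cancel this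

/-- `(σ, c)` preserves the subspace `C` -/
def Valid (C : Submodule K (α → K)) (σ : Perm α) (c : α → Kˣ) : Prop :=
  ∀ x ∈ C, monomialMap σ c x ∈ C

variable {C : Submodule K (α → K)}

theorem Valid.mul {σ τ : Perm α} {c d : α → Kˣ} (h1 : Valid C σ c) (h2 : Valid C τ d) :
    Valid C (σ * τ) (fun i => c i * d (σ.symm i)) := fun x hx => by
  rw [← comp]
  exact h1 _ (h2 x hx)

theorem valid_one (C : Submodule K (α → K)) : Valid C 1 (fun _ => 1) := fun x hx => by
  rw [one_one]
  exact hx

theorem Valid.surj [Finite α] [Finite K] {σ : Perm α} {c : α → Kˣ} (h : Valid C σ c) :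
    ∀ y ∈ C, ∃ x ∈ C, monomialMap σ c x = y := by
  have hinj : Function.Injective (fun x : ↥C => (⟨monomialMap σ c x, h x x.2⟩ : ↥C)) := by
    intro x y hxy
    exact Subtype.ext (injective σ c (congrArg Subtype.val hxy))
  have hsurj := Finite.injective_iff_surjective.1 hinj
  intro y hy
  obtain ⟨x, hx⟩ := hsurj ⟨y, hy⟩
  exact ⟨x, x.2, congrArg Subtype.val hx⟩

theorem Valid.inv [Finite α] [Finite K] {σ : Perm α} {c : α → Kˣ} (h : Valid C σ c) :
    Valid C σ⁻¹ (fun i => (c (σ i))⁻¹) := by
  intro y hy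
  obtain ⟨x, hx, rfl⟩ := h.surj y hy
  have e : monomialMap σ⁻¹ (fun i => (c (σ i))⁻¹) (monomialMap σ c x) = x := by
    funext i
    show (((c (σ i))⁻¹ : Kˣ) : K) * ((c (σ i) : K) * x (σ.symm (σ i))) = x i
    rw [← mul_assoc, ← Units.val_mul, inv_mul_cancel, Units.val_one, one_mul,
      Equiv.symm_apply_apply]
  rw [e]
  exact hx

theorem Valid.smul {σ : Perm α} {c : α → Kˣ} (h : Valid C σ c) (l : Kˣ) :
    Valid C σ (fun i => l * c i) := by
  intro x hx
  have : monomialMap σ (fun i => l * c i) x = (l : K) • monomialMap σ c x := by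
    funext i
    simp only [apply', Units.val_mul, Pi.smul_apply, smul_eq_mul, mul_assoc]
  rw [this]
  exact C.smul_mem _ (h x hx)

theorem Valid.div [Finite α] [Finite K] {σ : Perm α} {c c0 : α → Kˣ} (h : Valid C σ c)
    (h0 : Valid C σ c0) : Valid C 1 (fun i => c i * (c0 i)⁻¹) := by
  intro y hy
  obtain ⟨x, hx, rfl⟩ := h0.surj y hy
  have e : monomialMap 1 (fun i => c i * (c0 i)⁻¹) (monomialMap σ c0 x) = monomialMap σ c x := by
    funext i
    show ((c i * (c0 i)⁻¹ : Kˣ) : K) * ((c0 i : K) * x (σ.symm i)) = (c i : K) * x (σ.symm i)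
    rw [← mul_assoc, ← Units.val_mul, inv_mul_cancel_right]
  rw [e]
  exact h x hx

/-- the group of permutation parts of the monomial automorphisms of `C` -/
def validSubgroup [Finite α] [Finite K] (C : Submodule K (α → K)) : Subgroup (Perm α) where
  carrier := {σ | ∃ c, Valid C σ c}
  mul_mem' := by
    rintro σ τ ⟨c, h1⟩ ⟨d, h2⟩
    exact ⟨_, h1.mul h2⟩
  one_mem' := ⟨_, valid_one C⟩
  inv_mem' := by
    rintro σ ⟨c, h⟩
    exact ⟨_, h.inv⟩

theorem mem_validSubgroup [Finite α] [Finite K] {σ : Perm α} :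
    σ ∈ validSubgroup C ↔ ∃ c, Valid C σ c := Iff.rfl

theorem valid_span_iff (S : Set (α → K)) (σ : Perm α) (c : α → Kˣ) :
    Valid (Submodule.span K S) σ c ↔ ∀ g ∈ S, monomialMap σ c g ∈ Submodule.span K S := by
  constructor
  · intro h g hg
    exact h g (Submodule.subset_span hg)
  · intro h x hx
    have := (Submodule.map_span_le (lin σ c) S (Submodule.span K S)).2 (fun m hm => h m hm)
    exact this ⟨x, hx, rfl⟩

/-- the number of monomial automorphisms, given that the diagonal ones are the scalars -/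
theorem card_valid [Finite α] [Finite K] [Nonempty α] (C : Submodule K (α → K))
    (hdiag : ∀ c : α → Kˣ, Valid C 1 c → ∀ i j, c i = c j) :
    Nat.card {f : Perm α × (α → Kˣ) // Valid C f.1 f.2} =
      Nat.card ↥(validSubgroup C) * Nat.card Kˣ := by
  classical
  obtain ⟨i0⟩ := ‹Nonempty α›
  let c0 : ↥(validSubgroup C) → (α → Kˣ) := fun σ => Classical.choose σ.2
  have hc0 : ∀ σ : ↥(validSubgroup C), Valid C σ.1 (c0 σ) := fun σ => Classical.choose_spec σ.2
  let Φ : ↥(validSubgroup C) × Kˣ → {f : Perm α × (α → Kˣ) // Valid C f.1 f.2} :=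
    fun p => ⟨(p.1.1, fun i => p.2 * c0 p.1 i), (hc0 p.1).smul p.2⟩
  have hbij : Function.Bijective Φ := by
    constructor
    · rintro ⟨σ, l⟩ ⟨σ', l'⟩ h
      have h1 : σ.1 = σ'.1 := congrArg (fun f => f.1.1) h
      have h1' : σ = σ' := Subtype.ext h1
      subst h1'
      have h2 : (fun i => l * c0 σ i) = fun i => l' * c0 σ i := congrArg (fun f => f.1.2) h
      have h3 := congrFun h2 i0
      rw [mul_right_cancel h3]
    · rintro ⟨⟨σ, c⟩, hf⟩
      have hσ : σ ∈ validSubgroup C := ⟨c, hf⟩
      have hdiv := Valid.div hf (hc0 ⟨σ, hσ⟩)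
      have hconst := hdiag _ hdiv
      refine ⟨(⟨σ, hσ⟩, c i0 * (c0 ⟨σ, hσ⟩ i0)⁻¹), ?_⟩
      apply Subtype.ext
      show (σ, fun i => c i0 * (c0 ⟨σ, hσ⟩ i0)⁻¹ * c0 ⟨σ, hσ⟩ i) = (σ, c)
      congr 1
      funext i
      rw [← hconst i i0, inv_mul_cancel_right]
  rw [← Nat.card_congr (Equiv.ofBijective Φ hbij), Nat.card_prod]

end Cfsg.Agent.Lib.Helper16.MonG
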