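import Mathlib
import Cfsg.Prelude.Def_SporadicCombinatorics

set_option autoImplicit false

namespace Cfsg.Agent.Lib.Helper16

open Cfsg

/-!
# The length-12 ternary code (helper16 library)

A 6-parameter parametrization `tgWord` of `Cfsg.ternaryGolayCode`, its cardinality `729`, weight
distribution and self-orthogonality.
-/

/-- the word of the length-12 ternary code with parameters `a0 a1 a2 a3 u v` -/
def tgWord (a0 a1 a2 a3 u v : ZMod 3) : ArrayPt → ZMod 3 := fun p =>
  ![a0, a1, a2, a3] p.1 + ![v, u, u + v, u + 2 * v] p.1 * p.2 + (a0 + a1 + a2 + a3) * p.2 ^ 2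

set_option maxRecDepth 1000000 in
theorem tgWord_col : ∀ a0 a1 a2 a3 u v : ZMod 3, ∀ i : Fin 4,
    ∑ r : ZMod 3, tgWord a0 a1 a2 a3 u v (i, r) = -(a0 + a1 + a2 + a3) := by decide

set_option maxRecDepth 1000000 in
theorem tgWord_tet : ∀ a0 a1 a2 a3 u v α β : ZMod 3,
    ∑ i : Fin 4, tgWord a0 a1 a2 a3 u v (i, (α • ![0, 1, 1, 1] + β • ![1, 0, 1, 2] : Fin 4 → ZMod 3) i) =
      a0 + a1 + a2 + a3 := by decide

theorem tgWord_mem (a0 a1 a2 a3 u v : ZMod 3) : tgWord a0 a1 a2 a3 u v ∈ ternaryGolayCode := by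
  refine ⟨a0 + a1 + a2 + a3, tgWord_col a0 a1 a2 a3 u v, fun t ht => ?_⟩
  obtain ⟨α, β, rfl⟩ := Submodule.mem_span_pair.1 ht
  exact tgWord_tet a0 a1 a2 a3 u v α β

theorem exists_tgWord_of_mem {x : ArrayPt → ZMod 3} (hx : x ∈ ternaryGolayCode) :
    x = tgWord (x (0, 0)) (x (1, 0)) (x (2, 0)) (x (3, 0)) (x (1, 2) - x (1, 1))
      (x (0, 2) - x (0, 1)) := by
  obtain ⟨s, hcol, htet⟩ := hx
  have h3 : (3 : ZMod 3) = 0 := by decide
  have hsum : ∀ f : ZMod 3 → ZMod 3, ∑ r : ZMod 3, f r = f 0 + f 1 + f 2 := fun f =>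
    Fin.sum_univ_three f
  have C0 := hcol 0
  have C1 := hcol 1
  have C2 := hcol 2
  have C3 := hcol 3
  rw [hsum] at C0 C1 C2 C3
  have T00 := htet 0 (zero_mem _)
  have T10 := htet ![0, 1, 1, 1] (Submodule.subset_span (by simp))
  have T01 := htet ![1, 0, 1, 2] (Submodule.subset_span (by simp))
  simp only [Fin.sum_univ_four, Pi.zero_apply] at T00
  simp [Fin.sum_univ_four] at T10 T01
  funext ⟨i, r⟩
  have hi : i = 0 ∨ i = 1 ∨ i = 2 ∨ i = 3 := by revert i; decide
  have hr : r = 0 ∨ r = 1 ∨ r = 2 := by revert r; decide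
  rcases hi with rfl | rfl | rfl | rfl <;> rcases hr with rfl | rfl | rfl <;> simp [tgWord]
  · linear_combination (-1) * C0 + (-1) * T00 + ((1) * x (0, 1)) * h3
  · linear_combination (-1) * C0 + (-1) * T00 + ((-1) * x (0, 0) + (1) * x (0, 1) + (-1) * x (1, 0) + (-1) * x (2, 0) + (-1) * x (3, 0)) * h3
  · linear_combination (-1) * C1 + (-1) * T00 + ((1) * x (1, 1)) * h3
  · linear_combination (-1) * C1 + (-1) * T00 + ((-1) * x (0, 0) + (-1) * x (1, 0) + (1) * x (1, 1) + (-1) * x (2, 0) + (-1) * x (3, 0)) * h3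
  · linear_combination (-1) * C0 + (-1) * C1 + (1) * C3 + (1) * T00 + (-1) * T10 + (-1) * T01 + ((1) * x (0, 1) + (1) * x (1, 1) + (-1) * x (2, 0) + (1) * x (2, 1) + (-1) * x (3, 0)) * h3
  · linear_combination (1) * C0 + (1) * C1 + (1) * C2 + (-1) * C3 + (1) * T10 + (1) * T01 + ((-2) * x (0, 0) + (-1) * x (0, 2) + (-2) * x (1, 0) + (-1) * x (1, 2) + (-2) * x (2, 0) + (-1) * x (2, 1) + (-1) * x (3, 0)) * h3
  · linear_combination (1) * C0 + (-1) * C1 + (-1) * C3 + (-1) * T00 + (-1) * T10 + (1) * T01 + ((-1) * x (0, 2) + (1) * x (1, 1) + (1) * x (3, 1)) * h3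
  · linear_combination (-1) * C0 + (1) * C1 + (-1) * C3 + (-1) * T00 + (1) * T10 + (-1) * T01 + ((-1) * x (0, 0) + (2) * x (0, 1) + (-1) * x (0, 2) + (-1) * x (1, 0) + (-1) * x (1, 2) + (-1) * x (2, 0) + (-1) * x (3, 0) + (1) * x (3, 2)) * h3


theorem mem_ternaryGolayCode_iff {x : ArrayPt → ZMod 3} :
    x ∈ ternaryGolayCode ↔ ∃ a0 a1 a2 a3 u v : ZMod 3, x = tgWord a0 a1 a2 a3 u v := by
  constructor
  · intro hx
    exact ⟨_, _, _, _, _, _, exists_tgWord_of_mem hx⟩
  · rintro ⟨a0, a1, a2, a3, u, v, rfl⟩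
    exact tgWord_mem a0 a1 a2 a3 u v

/-- parameter space -/
abbrev TG6 : Type := ZMod 3 × ZMod 3 × ZMod 3 × ZMod 3 × ZMod 3 × ZMod 3

/-- uncurried `tgWord` -/
def tgWordT (A : TG6) : ArrayPt → ZMod 3 :=
  tgWord A.1 A.2.1 A.2.2.1 A.2.2.2.1 A.2.2.2.2.1 A.2.2.2.2.2

/-- recover the parameters of a code word -/
def tgRecover (x : ArrayPt → ZMod 3) : TG6 :=
  (x (0, 0), x (1, 0), x (2, 0), x (3, 0), x (1, 2) - x (1, 1), x (0, 2) - x (0, 1))

set_option maxRecDepth 1000000 in
theorem tgRecover_tgWordT : ∀ A : TG6, tgRecover (tgWordT A) = A := by decide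

theorem tgWordT_tgRecover {x : ArrayPt → ZMod 3} (hx : x ∈ ternaryGolayCode) :
    tgWordT (tgRecover x) = x := (exists_tgWord_of_mem hx).symm

theorem tgWordT_mem (A : TG6) : tgWordT A ∈ ternaryGolayCode := tgWord_mem _ _ _ _ _ _

theorem tgWordT_injective : Function.Injective tgWordT := fun A B h => by
  rw [← tgRecover_tgWordT A, h, tgRecover_tgWordT]

/-- the code is in bijection with the parameter space -/
def tgEquiv : TG6 ≃ ↥ternaryGolayCode where
  toFun A := ⟨tgWordT A, tgWordT_mem A⟩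
  invFun x := tgRecover x.1
  left_inv A := tgRecover_tgWordT A
  right_inv x := Subtype.ext (tgWordT_tgRecover x.2)

theorem card_ternaryGolayCode : Nat.card ↥ternaryGolayCode = 729 := by
  rw [← Nat.card_congr tgEquiv, Nat.card_eq_fintype_card]
  simp only [Fintype.card_prod, ZMod.card]

set_option maxRecDepth 1000000 in
theorem tgWordT_weight : ∀ A : TG6, (ternarySupport (tgWordT A)).card = 0 ∨
    (ternarySupport (tgWordT A)).card = 6 ∨ (ternarySupport (tgWordT A)).card = 9 ∨
    (ternarySupport (tgWordT A)).card = 12 := by decide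

theorem ternarySupport_card_eq_zero {x : ArrayPt → ZMod 3} :
    (ternarySupport x).card = 0 ↔ x = 0 := by
  rw [Finset.card_eq_zero, ternarySupport, Finset.filter_eq_empty_iff]
  constructor
  · intro h
    funext p
    have := h (Finset.mem_univ p)
    simpa using this
  · rintro rfl p _
    simp

theorem weight_of_mem {x : ArrayPt → ZMod 3} (hx : x ∈ ternaryGolayCode) :
    (ternarySupport x).card = 0 ∨ (ternarySupport x).card = 6 ∨ (ternarySupport x).card = 9 ∨
      (ternarySupport x).card = 12 := by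
  rw [← tgWordT_tgRecover hx]
  exact tgWordT_weight _

theorem weight_of_mem_of_ne {x : ArrayPt → ZMod 3} (hx : x ∈ ternaryGolayCode) (h0 : x ≠ 0) :
    (ternarySupport x).card = 6 ∨ (ternarySupport x).card = 9 ∨
      (ternarySupport x).card = 12 := by
  rcases weight_of_mem hx with h | h
  · exact absurd (ternarySupport_card_eq_zero.1 h) h0
  · exact h

/-- the words of weight `k`, as the image of a finset of parameters -/
theorem setOf_weight_eq (k : ℕ) :
    {x : ArrayPt → ZMod 3 | x ∈ ternaryGolayCode ∧ (ternarySupport x).card = k} =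
      ↑((Finset.univ.filter fun A : TG6 => (ternarySupport (tgWordT A)).card = k).image tgWordT) := by
  ext x
  simp only [Set.mem_setOf_eq, Finset.coe_image, Finset.coe_filter, Finset.mem_univ, true_and,
    Set.mem_image]
  constructor
  · rintro ⟨hx, hk⟩
    exact ⟨tgRecover x, by rw [tgWordT_tgRecover hx]; exact hk, tgWordT_tgRecover hx⟩
  · rintro ⟨A, hA, rfl⟩
    exact ⟨tgWordT_mem A, hA⟩

theorem ncard_weight_eq (k : ℕ) :
    {x : ArrayPt → ZMod 3 | x ∈ ternaryGolayCode ∧ (ternarySupport x).card = k}.ncard =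
      (Finset.univ.filter fun A : TG6 => (ternarySupport (tgWordT A)).card = k).card := by
  rw [setOf_weight_eq, Set.ncard_coe_finset, Finset.card_image_of_injective _ tgWordT_injective]

set_option maxRecDepth 1000000 in
theorem card_weight_six :
    (Finset.univ.filter fun A : TG6 => (ternarySupport (tgWordT A)).card = 6).card = 264 := by
  decide

set_option maxRecDepth 1000000 in
theorem card_weight_nine :
    (Finset.univ.filter fun A : TG6 => (ternarySupport (tgWordT A)).card = 9).card = 440 := by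
  decide

set_option maxRecDepth 1000000 in
theorem card_weight_twelve :
    (Finset.univ.filter fun A : TG6 => (ternarySupport (tgWordT A)).card = 12).card = 24 := by
  decide

/-! ### self-orthogonality -/

set_option maxRecDepth 1000000 in
theorem tgWordT_sq : ∀ A : TG6, ∑ p : ArrayPt, tgWordT A p * tgWordT A p = 0 := by decide

theorem sum_sq_of_mem {x : ArrayPt → ZMod 3} (hx : x ∈ ternaryGolayCode) :
    ∑ p : ArrayPt, x p * x p = 0 := by
  rw [← tgWordT_tgRecover hx]
  exact tgWordT_sq _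

theorem sum_mul_of_mem {x y : ArrayPt → ZMod 3} (hx : x ∈ ternaryGolayCode)
    (hy : y ∈ ternaryGolayCode) : ∑ p : ArrayPt, x p * y p = 0 := by
  have h1 := sum_sq_of_mem (ternaryGolayCode.add_mem hx hy)
  have h2 := sum_sq_of_mem hx
  have h3 := sum_sq_of_mem hy
  have h4 : ∑ p : ArrayPt, (x + y) p * (x + y) p =
      ∑ p : ArrayPt, x p * x p + 2 * ∑ p : ArrayPt, x p * y p + ∑ p : ArrayPt, y p * y p := by
    rw [Finset.mul_sum, ← Finset.sum_add_distrib, ← Finset.sum_add_distrib]
    refine Finset.sum_congr rfl fun p _ => ?_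
    simp only [Pi.add_apply]
    ring
  rw [h4, h2, h3, zero_add, add_zero] at h1
  have h5 : ∀ t : ZMod 3, 2 * t = 0 → t = 0 := by decide
  exact h5 _ h1

end Cfsg.Agent.Lib.Helper16
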