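import Mathlib
import Cfsg.Agent.Lib.Helper16.TernaryGolay
import Cfsg.Agent.Lib.Helper16.MonGeneric

/-!
# Explicit monomial automorphisms of the length-12 ternary code (helper16 library)

A basis of the code, a decidable membership test, and a transversal table of explicit monomial
automorphisms witnessing that the group of permutation parts is 5-transitive.
-/

set_option autoImplicit false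

namespace Cfsg.Agent.Lib.Helper16

open Cfsg Equiv

/-- index of a point of the 4 × 3 array -/
def tgIdx (p : ArrayPt) : Fin 12 := finProdFinEquiv (m := 4) (n := 3) (p.1, p.2)

/-- the point with a given index -/
def tgPt (k : Fin 12) : ArrayPt :=
  (((finProdFinEquiv (m := 4) (n := 3)).symm k).1, ((finProdFinEquiv (m := 4) (n := 3)).symm k).2)

theorem tgPt_tgIdx : ∀ p : ArrayPt, tgPt (tgIdx p) = p := by decide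

theorem tgIdx_tgPt : ∀ k : Fin 12, tgIdx (tgPt k) = k := by decide

/-- the unit parameter vectors -/
def tgUnit (j : Fin 6) : TG6 :=
  ![(1, 0, 0, 0, 0, 0), (0, 1, 0, 0, 0, 0), (0, 0, 1, 0, 0, 0), (0, 0, 0, 1, 0, 0),
    (0, 0, 0, 0, 1, 0), (0, 0, 0, 0, 0, 1)] j

/-- a basis of the code -/
def tgBasis (j : Fin 6) : ArrayPt → ZMod 3 := tgWordT (tgUnit j)

theorem tgWordT_lin : ∀ A : TG6, tgWordT A =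
    A.1 • tgBasis 0 + A.2.1 • tgBasis 1 + A.2.2.1 • tgBasis 2 + A.2.2.2.1 • tgBasis 3 +
      A.2.2.2.2.1 • tgBasis 4 + A.2.2.2.2.2 • tgBasis 5 := by decide +kernel

theorem ternaryGolayCode_eq_span :
    ternaryGolayCode = Submodule.span (ZMod 3) (Set.range tgBasis) := by
  apply le_antisymm
  · intro x hx
    rw [← tgWordT_tgRecover hx, tgWordT_lin]
    have hb : ∀ j, tgBasis j ∈ Submodule.span (ZMod 3) (Set.range tgBasis) :=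
      fun j => Submodule.subset_span ⟨j, rfl⟩
    exact Submodule.add_mem _ (Submodule.add_mem _ (Submodule.add_mem _ (Submodule.add_mem _
      (Submodule.add_mem _ (Submodule.smul_mem _ _ (hb 0)) (Submodule.smul_mem _ _ (hb 1)))
      (Submodule.smul_mem _ _ (hb 2))) (Submodule.smul_mem _ _ (hb 3)))
      (Submodule.smul_mem _ _ (hb 4))) (Submodule.smul_mem _ _ (hb 5))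
  · rw [Submodule.span_le]
    rintro _ ⟨j, rfl⟩
    exact tgWordT_mem _

/-- decidable membership test -/
def tgMem (w : ArrayPt → ZMod 3) : Prop := tgWordT (tgRecover w) = w

instance : DecidablePred tgMem := fun w => inferInstanceAs (Decidable (tgWordT (tgRecover w) = w))

theorem tgMem_iff (w : ArrayPt → ZMod 3) : tgMem w ↔ w ∈ ternaryGolayCode := by
  constructor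
  · intro h
    rw [← h]
    exact tgWordT_mem _
  · intro h
    exact tgWordT_tgRecover h

/-- data of a monomial map, in index form -/
structure MonDat where
  /-- the permutation -/
  f : Fin 12 → Fin 12
  /-- its inverse -/
  g : Fin 12 → Fin 12
  /-- the signs -/
  s : Fin 12 → ZMod 3

/-- the data describe a monomial automorphism of the code -/
def MonDat.Good (d : MonDat) : Prop :=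
  (∀ k, d.g (d.f k) = k) ∧ (∀ k, d.f (d.g k) = k) ∧ (∀ k, d.s k ≠ 0) ∧
    ∀ j : Fin 6, tgMem (fun p => d.s (tgIdx p) * tgBasis j (tgPt (d.g (tgIdx p))))

instance (d : MonDat) : Decidable d.Good :=
  inferInstanceAs (Decidable ((∀ k, d.g (d.f k) = k) ∧ (∀ k, d.f (d.g k) = k) ∧
    (∀ k, d.s k ≠ 0) ∧
    ∀ j : Fin 6, tgMem (fun p => d.s (tgIdx p) * tgBasis j (tgPt (d.g (tgIdx p))))))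

/-- the permutation of the data -/
def MonDat.perm (d : MonDat) (h : d.Good) : Perm ArrayPt where
  toFun p := tgPt (d.f (tgIdx p))
  invFun p := tgPt (d.g (tgIdx p))
  left_inv p := by
    show tgPt (d.g (tgIdx (tgPt (d.f (tgIdx p))))) = p
    rw [tgIdx_tgPt, h.1, tgPt_tgIdx]
  right_inv p := by
    show tgPt (d.f (tgIdx (tgPt (d.g (tgIdx p))))) = p
    rw [tgIdx_tgPt, h.2.1, tgPt_tgIdx]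

/-- the signs of the data -/
def MonDat.sign (d : MonDat) (h : d.Good) : ArrayPt → (ZMod 3)ˣ :=
  fun p => Units.mk0 (d.s (tgIdx p)) (h.2.2.1 _)

theorem MonDat.valid (d : MonDat) (h : d.Good) :
    MonG.Valid ternaryGolayCode (d.perm h) (d.sign h) := by
  rw [ternaryGolayCode_eq_span, MonG.valid_span_iff]
  rintro _ ⟨j, rfl⟩
  rw [← ternaryGolayCode_eq_span, ← tgMem_iff]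
  exact h.2.2.2 j

theorem MonDat.perm_apply (d : MonDat) (h : d.Good) (k : Fin 12) :
    d.perm h (tgPt k) = tgPt (d.f k) := by
  show tgPt (d.f (tgIdx (tgPt k))) = tgPt (d.f k)
  rw [tgIdx_tgPt]

/-- the base points -/
def tgBase (i : Fin 5) : Fin 12 := ![0, 1, 2, 3, 4] i

def tgTrans (k : Fin 5) (y : Fin 12) : MonDat :=
  ![
  ![⟨![0, 1, 2, 3, 4, 5, 6, 7, 8, 9, 10, 11], ![0, 1, 2, 3, 4, 5, 6, 7, 8, 9, 10, 11], ![1, 1, 1, 1, 1, 1, 1, 1, 1, 1, 1, 1]⟩,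
    ⟨![1, 0, 2, 3, 4, 5, 11, 9, 10, 7, 8, 6], ![1, 0, 2, 3, 4, 5, 11, 9, 10, 7, 8, 6], ![1, 1, 1, 1, 1, 1, 1, 1, 1, 1, 1, 1]⟩,
    ⟨![2, 0, 1, 3, 4, 5, 8, 6, 7, 10, 11, 9], ![1, 2, 0, 3, 4, 5, 7, 8, 6, 11, 9, 10], ![1, 1, 1, 1, 1, 1, 1, 1, 1, 1, 1, 1]⟩,
    ⟨![3, 0, 1, 2, 4, 5, 10, 7, 6, 8, 9, 11], ![1, 2, 3, 0, 4, 5, 8, 7, 9, 10, 6, 11], ![1, 1, 2, 2, 1, 1, 2, 2, 1, 2, 1, 2]⟩,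
    ⟨![4, 0, 1, 2, 3, 5, 6, 9, 10, 11, 7, 8], ![1, 2, 3, 4, 0, 5, 6, 10, 11, 7, 8, 9], ![1, 1, 2, 1, 2, 1, 1, 2, 2, 2, 2, 1]⟩,
    ⟨![5, 0, 1, 2, 3, 4, 9, 6, 8, 7, 11, 10], ![1, 2, 3, 4, 5, 0, 7, 9, 8, 6, 11, 10], ![1, 1, 2, 1, 1, 2, 2, 1, 2, 1, 2, 2]⟩,
    ⟨![6, 0, 1, 2, 3, 9, 5, 4, 7, 10, 8, 11], ![1, 2, 3, 4, 7, 6, 0, 8, 10, 5, 9, 11], ![1, 2, 1, 1, 2, 1, 2, 2, 2, 1, 1, 2]⟩,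
    ⟨![7, 0, 1, 2, 3, 11, 10, 8, 9, 4, 5, 6], ![1, 2, 3, 4, 9, 10, 11, 0, 7, 8, 6, 5], ![1, 2, 2, 2, 2, 1, 1, 1, 1, 1, 2, 2]⟩,
    ⟨![8, 0, 1, 2, 3, 10, 7, 11, 4, 6, 9, 5], ![1, 2, 3, 4, 8, 11, 9, 6, 0, 10, 5, 7], ![1, 1, 1, 2, 1, 1, 2, 2, 1, 1, 2, 1]⟩,
    ⟨![9, 0, 1, 2, 3, 6, 4, 5, 11, 8, 10, 7], ![1, 2, 3, 4, 6, 7, 5, 11, 9, 0, 10, 8], ![1, 2, 1, 1, 1, 2, 1, 2, 1, 2, 2, 2]⟩,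
    ⟨![10, 0, 1, 2, 3, 8, 11, 7, 5, 9, 6, 4], ![1, 2, 3, 4, 11, 8, 10, 7, 5, 9, 0, 6], ![1, 1, 1, 2, 1, 1, 1, 1, 2, 2, 1, 2]⟩,
    ⟨![11, 0, 1, 2, 3, 7, 8, 10, 6, 5, 4, 9], ![1, 2, 3, 4, 10, 9, 8, 5, 6, 11, 7, 0], ![1, 2, 2, 2, 1, 2, 1, 2, 2, 1, 1, 1]⟩],
  ![⟨![0, 1, 2, 3, 4, 5, 6, 7, 8, 9, 10, 11], ![0, 1, 2, 3, 4, 5, 6, 7, 8, 9, 10, 11], ![1, 1, 1, 1, 1, 1, 1, 1, 1, 1, 1, 1]⟩,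
    ⟨![0, 1, 2, 3, 4, 5, 6, 7, 8, 9, 10, 11], ![0, 1, 2, 3, 4, 5, 6, 7, 8, 9, 10, 11], ![1, 1, 1, 1, 1, 1, 1, 1, 1, 1, 1, 1]⟩,
    ⟨![0, 2, 1, 3, 4, 5, 9, 10, 11, 6, 7, 8], ![0, 2, 1, 3, 4, 5, 9, 10, 11, 6, 7, 8], ![1, 1, 1, 1, 1, 1, 1, 1, 1, 1, 1, 1]⟩,
    ⟨![0, 3, 1, 2, 4, 5, 11, 8, 9, 7, 6, 10], ![0, 2, 3, 1, 4, 5, 10, 9, 7, 8, 11, 6], ![1, 1, 2, 2, 1, 1, 2, 2, 1, 2, 1, 2]⟩,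
    ⟨![0, 4, 1, 2, 3, 5, 8, 11, 7, 9, 10, 6], ![0, 2, 3, 4, 1, 5, 11, 8, 6, 9, 10, 7], ![1, 1, 2, 1, 2, 1, 1, 2, 2, 2, 2, 1]⟩,
    ⟨![0, 5, 1, 2, 3, 4, 10, 7, 11, 6, 8, 9], ![0, 2, 3, 4, 5, 1, 9, 7, 10, 11, 6, 8], ![1, 1, 2, 1, 1, 2, 2, 1, 2, 1, 2, 2]⟩,
    ⟨![0, 6, 1, 2, 3, 9, 11, 10, 8, 4, 7, 5], ![0, 2, 3, 4, 9, 11, 1, 10, 8, 5, 7, 6], ![1, 2, 1, 1, 2, 1, 2, 2, 2, 1, 1, 2]⟩,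
    ⟨![0, 7, 1, 2, 3, 11, 6, 4, 5, 8, 9, 10], ![0, 2, 3, 4, 7, 8, 6, 1, 9, 10, 11, 5], ![1, 2, 2, 2, 2, 1, 1, 1, 1, 1, 2, 2]⟩,
    ⟨![0, 8, 1, 2, 3, 10, 5, 6, 9, 11, 4, 7], ![0, 2, 3, 4, 10, 6, 7, 11, 1, 8, 5, 9], ![1, 1, 1, 2, 1, 1, 2, 2, 1, 1, 2, 1]⟩,
    ⟨![0, 9, 1, 2, 3, 6, 7, 8, 10, 5, 11, 4], ![0, 2, 3, 4, 11, 9, 5, 6, 7, 1, 8, 10], ![1, 2, 1, 1, 1, 2, 1, 2, 1, 2, 2, 2]⟩,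
    ⟨![0, 10, 1, 2, 3, 8, 4, 9, 6, 7, 5, 11], ![0, 2, 3, 4, 6, 10, 8, 9, 5, 7, 1, 11], ![1, 1, 1, 2, 1, 1, 1, 1, 2, 2, 1, 2]⟩,
    ⟨![0, 11, 1, 2, 3, 7, 9, 5, 4, 10, 6, 8], ![0, 2, 3, 4, 8, 7, 10, 5, 11, 6, 9, 1], ![1, 2, 2, 2, 1, 2, 1, 2, 2, 1, 1, 1]⟩],
  ![⟨![0, 1, 2, 3, 4, 5, 6, 7, 8, 9, 10, 11], ![0, 1, 2, 3, 4, 5, 6, 7, 8, 9, 10, 11], ![1, 1, 1, 1, 1, 1, 1, 1, 1, 1, 1, 1]⟩,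
    ⟨![0, 1, 2, 3, 4, 5, 6, 7, 8, 9, 10, 11], ![0, 1, 2, 3, 4, 5, 6, 7, 8, 9, 10, 11], ![1, 1, 1, 1, 1, 1, 1, 1, 1, 1, 1, 1]⟩,
    ⟨![0, 1, 2, 3, 4, 5, 6, 7, 8, 9, 10, 11], ![0, 1, 2, 3, 4, 5, 6, 7, 8, 9, 10, 11], ![1, 1, 1, 1, 1, 1, 1, 1, 1, 1, 1, 1]⟩,
    ⟨![0, 1, 3, 2, 4, 5, 7, 6, 10, 11, 8, 9], ![0, 1, 3, 2, 4, 5, 7, 6, 10, 11, 8, 9], ![1, 1, 2, 2, 1, 1, 2, 2, 1, 2, 1, 2]⟩,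
    ⟨![0, 1, 4, 2, 3, 5, 9, 10, 6, 8, 11, 7], ![0, 1, 3, 4, 2, 5, 8, 11, 9, 6, 7, 10], ![1, 1, 2, 1, 2, 1, 1, 2, 2, 2, 2, 1]⟩,
    ⟨![0, 1, 5, 2, 3, 4, 6, 8, 9, 10, 7, 11], ![0, 1, 3, 4, 5, 2, 6, 10, 7, 8, 9, 11], ![1, 1, 2, 1, 1, 2, 2, 1, 2, 1, 2, 2]⟩,
    ⟨![0, 1, 6, 2, 3, 9, 4, 7, 5, 11, 10, 8], ![0, 1, 3, 4, 6, 8, 2, 7, 11, 5, 10, 9], ![1, 2, 1, 1, 2, 1, 2, 2, 2, 1, 1, 2]⟩,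
    ⟨![0, 1, 7, 2, 3, 11, 8, 9, 10, 6, 4, 5], ![0, 1, 3, 4, 10, 11, 9, 2, 6, 7, 8, 5], ![1, 2, 2, 2, 2, 1, 1, 1, 1, 1, 2, 2]⟩,
    ⟨![0, 1, 8, 2, 3, 10, 11, 4, 7, 5, 6, 9], ![0, 1, 3, 4, 7, 9, 10, 8, 2, 11, 5, 6], ![1, 1, 1, 2, 1, 1, 2, 2, 1, 1, 2, 1]⟩,
    ⟨![0, 1, 9, 2, 3, 6, 5, 11, 4, 7, 8, 10], ![0, 1, 3, 4, 8, 6, 5, 9, 10, 2, 11, 7], ![1, 2, 1, 1, 1, 2, 1, 2, 1, 2, 2, 2]⟩,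
    ⟨![0, 1, 10, 2, 3, 8, 7, 5, 11, 4, 9, 6], ![0, 1, 3, 4, 9, 7, 11, 6, 5, 10, 2, 8], ![1, 1, 1, 2, 1, 1, 1, 1, 2, 2, 1, 2]⟩,
    ⟨![0, 1, 11, 2, 3, 7, 10, 6, 8, 9, 5, 4], ![0, 1, 3, 4, 11, 10, 7, 5, 8, 9, 6, 2], ![1, 2, 2, 2, 1, 2, 1, 2, 2, 1, 1, 1]⟩],
  ![⟨![0, 1, 2, 3, 4, 5, 6, 7, 8, 9, 10, 11], ![0, 1, 2, 3, 4, 5, 6, 7, 8, 9, 10, 11], ![1, 1, 1, 1, 1, 1, 1, 1, 1, 1, 1, 1]⟩,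
    ⟨![0, 1, 2, 3, 4, 5, 6, 7, 8, 9, 10, 11], ![0, 1, 2, 3, 4, 5, 6, 7, 8, 9, 10, 11], ![1, 1, 1, 1, 1, 1, 1, 1, 1, 1, 1, 1]⟩,
    ⟨![0, 1, 2, 3, 4, 5, 6, 7, 8, 9, 10, 11], ![0, 1, 2, 3, 4, 5, 6, 7, 8, 9, 10, 11], ![1, 1, 1, 1, 1, 1, 1, 1, 1, 1, 1, 1]⟩,
    ⟨![0, 1, 2, 3, 4, 5, 6, 7, 8, 9, 10, 11], ![0, 1, 2, 3, 4, 5, 6, 7, 8, 9, 10, 11], ![1, 1, 1, 1, 1, 1, 1, 1, 1, 1, 1, 1]⟩,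
    ⟨![0, 1, 2, 4, 3, 5, 10, 9, 11, 7, 6, 8], ![0, 1, 2, 4, 3, 5, 10, 9, 11, 7, 6, 8], ![1, 1, 1, 1, 1, 1, 1, 1, 1, 1, 1, 1]⟩,
    ⟨![0, 1, 2, 5, 3, 4, 8, 6, 7, 11, 9, 10], ![0, 1, 2, 4, 5, 3, 7, 8, 6, 10, 11, 9], ![1, 1, 1, 1, 1, 1, 1, 1, 1, 1, 1, 1]⟩,
    ⟨![0, 1, 2, 6, 3, 9, 7, 4, 10, 8, 5, 11], ![0, 1, 2, 4, 7, 10, 3, 6, 9, 5, 8, 11], ![1, 2, 2, 1, 1, 1, 1, 1, 1, 1, 1, 1]⟩,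
    ⟨![0, 1, 2, 7, 3, 11, 9, 8, 4, 5, 10, 6], ![0, 1, 2, 4, 8, 9, 11, 3, 7, 6, 10, 5], ![1, 2, 1, 2, 2, 2, 2, 2, 2, 2, 2, 2]⟩,
    ⟨![0, 1, 2, 8, 3, 10, 4, 11, 6, 9, 7, 5], ![0, 1, 2, 4, 6, 11, 8, 10, 3, 9, 5, 7], ![1, 1, 2, 2, 2, 2, 2, 2, 2, 2, 2, 2]⟩,
    ⟨![0, 1, 2, 9, 3, 6, 11, 5, 8, 10, 4, 7], ![0, 1, 2, 4, 10, 7, 5, 11, 8, 3, 9, 6], ![1, 2, 2, 1, 1, 1, 1, 1, 1, 1, 1, 1]⟩,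
    ⟨![0, 1, 2, 10, 3, 8, 5, 7, 9, 6, 11, 4], ![0, 1, 2, 4, 11, 6, 9, 7, 5, 8, 3, 10], ![1, 1, 2, 2, 2, 2, 2, 2, 2, 2, 2, 2]⟩,
    ⟨![0, 1, 2, 11, 3, 7, 6, 10, 5, 4, 8, 9], ![0, 1, 2, 4, 9, 8, 6, 5, 10, 11, 7, 3], ![1, 2, 1, 2, 2, 2, 2, 2, 2, 2, 2, 2]⟩],
  ![⟨![0, 1, 2, 3, 4, 5, 6, 7, 8, 9, 10, 11], ![0, 1, 2, 3, 4, 5, 6, 7, 8, 9, 10, 11], ![1, 1, 1, 1, 1, 1, 1, 1, 1, 1, 1, 1]⟩,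
    ⟨![0, 1, 2, 3, 4, 5, 6, 7, 8, 9, 10, 11], ![0, 1, 2, 3, 4, 5, 6, 7, 8, 9, 10, 11], ![1, 1, 1, 1, 1, 1, 1, 1, 1, 1, 1, 1]⟩,
    ⟨![0, 1, 2, 3, 4, 5, 6, 7, 8, 9, 10, 11], ![0, 1, 2, 3, 4, 5, 6, 7, 8, 9, 10, 11], ![1, 1, 1, 1, 1, 1, 1, 1, 1, 1, 1, 1]⟩,
    ⟨![0, 1, 2, 3, 4, 5, 6, 7, 8, 9, 10, 11], ![0, 1, 2, 3, 4, 5, 6, 7, 8, 9, 10, 11], ![1, 1, 1, 1, 1, 1, 1, 1, 1, 1, 1, 1]⟩,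
    ⟨![0, 1, 2, 3, 4, 5, 6, 7, 8, 9, 10, 11], ![0, 1, 2, 3, 4, 5, 6, 7, 8, 9, 10, 11], ![1, 1, 1, 1, 1, 1, 1, 1, 1, 1, 1, 1]⟩,
    ⟨![0, 1, 2, 3, 5, 4, 9, 11, 10, 6, 8, 7], ![0, 1, 2, 3, 5, 4, 9, 11, 10, 6, 8, 7], ![1, 1, 1, 1, 1, 1, 1, 1, 1, 1, 1, 1]⟩,
    ⟨![0, 1, 2, 3, 6, 9, 5, 8, 11, 4, 7, 10], ![0, 1, 2, 3, 9, 6, 4, 10, 7, 5, 11, 8], ![1, 2, 2, 1, 1, 1, 1, 1, 1, 1, 1, 1]⟩,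
    ⟨![0, 1, 2, 3, 7, 11, 10, 5, 6, 8, 9, 4], ![0, 1, 2, 3, 11, 7, 8, 4, 9, 10, 6, 5], ![1, 2, 1, 2, 2, 2, 2, 2, 2, 2, 2, 2]⟩,
    ⟨![0, 1, 2, 3, 8, 10, 7, 9, 5, 11, 4, 6], ![0, 1, 2, 3, 10, 8, 11, 6, 4, 7, 5, 9], ![1, 1, 2, 2, 2, 2, 2, 2, 2, 2, 2, 2]⟩,
    ⟨![0, 1, 2, 3, 9, 6, 4, 10, 7, 5, 11, 8], ![0, 1, 2, 3, 6, 9, 5, 8, 11, 4, 7, 10], ![1, 2, 2, 1, 1, 1, 1, 1, 1, 1, 1, 1]⟩,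
    ⟨![0, 1, 2, 3, 10, 8, 11, 6, 4, 7, 5, 9], ![0, 1, 2, 3, 8, 10, 7, 9, 5, 11, 4, 6], ![1, 1, 2, 2, 2, 2, 2, 2, 2, 2, 2, 2]⟩,
    ⟨![0, 1, 2, 3, 11, 7, 8, 4, 9, 10, 6, 5], ![0, 1, 2, 3, 7, 11, 10, 5, 6, 8, 9, 4], ![1, 2, 1, 2, 2, 2, 2, 2, 2, 2, 2, 2]⟩]] k y



theorem tgTrans_good : ∀ (k : Fin 5) (y : Fin 12), (tgTrans k y).Good := by decide +kernel

theorem tgTrans_spec : ∀ (k : Fin 5) (y : Fin 12), (∀ i : Fin 5, i < k → y ≠ tgBase i) →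
    (∀ i : Fin 5, i < k → (tgTrans k y).f (tgBase i) = tgBase i) ∧
      (tgTrans k y).f (tgBase k) = y := by decide +kernel

end Cfsg.Agent.Lib.Helper16
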