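import Mathlib
import Cfsg.Agent.Lib.Helper16.TernaryGolay

set_option autoImplicit false

namespace Cfsg.Agent.Lib.Helper16

open Cfsg

/-- a word constant on columns, with column values `w` summing to zero, is in the code -/
theorem colWord_mem (w : Fin 4 → ZMod 3) (hw : w 0 + w 1 + w 2 + w 3 = 0) :
    (fun p : ArrayPt => w p.1) ∈ ternaryGolayCode := by
  have : (fun p : ArrayPt => w p.1) = tgWord (w 0) (w 1) (w 2) (w 3) 0 0 := by
    funext ⟨i, r⟩
    have hi : i = 0 ∨ i = 1 ∨ i = 2 ∨ i = 3 := by revert i; decide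
    rcases hi with rfl | rfl | rfl | rfl <;> simp [tgWord, hw]
  rw [this]
  exact tgWord_mem _ _ _ _ _ _

theorem diag_tet (c : ArrayPt → (ZMod 3)ˣ)
    (h : ∀ x ∈ ternaryGolayCode, monomialMap 1 c x ∈ ternaryGolayCode)
    (w : Fin 4 → ZMod 3) (hw : w 0 + w 1 + w 2 + w 3 = 0) (k : Fin 4) (hk : w k = 0)
    (α β : ZMod 3) :
    (c (0, β) : ZMod 3) * w 0 + (c (1, α) : ZMod 3) * w 1 + (c (2, α + β) : ZMod 3) * w 2 +
      (c (3, α + β * 2) : ZMod 3) * w 3 = 0 := by
  obtain ⟨s, hcol, htet⟩ := h _ (colWord_mem w hw)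
  have hs : s = 0 := by
    have := hcol k
    have h0 : ∀ r : ZMod 3, monomialMap 1 c (fun p : ArrayPt => w p.1) (k, r) = 0 := by
      intro r
      show (c (k, r) : ZMod 3) * w k = 0
      rw [hk, mul_zero]
    simp only [h0, Finset.sum_const_zero] at this
    exact neg_eq_zero.1 this.symm
  have ht := htet (α • ![0, 1, 1, 1] + β • ![1, 0, 1, 2])
    (Submodule.mem_span_pair.2 ⟨α, β, rfl⟩)
  rw [hs, Fin.sum_univ_four] at ht
  have e : ∀ i : Fin 4, ∀ r : ZMod 3,
      monomialMap 1 c (fun p : ArrayPt => w p.1) (i, r) = (c (i, r) : ZMod 3) * w i :=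
    fun i r => rfl
  simp only [e] at ht
  simpa using ht

theorem diag_const (c : ArrayPt → (ZMod 3)ˣ)
    (h : ∀ x ∈ ternaryGolayCode, monomialMap 1 c x ∈ ternaryGolayCode) :
    (∀ p, c p = 1) ∨ (∀ p, c p = -1) := by
  have key : ∀ a b : (ZMod 3)ˣ, (a : ZMod 3) * 1 + (b : ZMod 3) * 2 = 0 → a = b := by decide
  have h01 : ∀ α β : ZMod 3, c (0, β) = c (1, α) := by
    intro α β
    have := diag_tet c h ![1, 2, 0, 0] (by decide) 2 (by simp) α β
    simp at this
    exact key _ _ (by simpa using this)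
  have h12 : ∀ α γ : ZMod 3, c (1, α) = c (2, γ) := by
    intro α γ
    have := diag_tet c h ![0, 1, 2, 0] (by decide) 0 (by simp) α (γ - α)
    simp at this
    exact key _ _ (by simpa using this)
  have h23 : ∀ γ δ : ZMod 3, c (2, γ) = c (3, δ) := by
    intro γ δ
    have := diag_tet c h ![0, 0, 1, 2] (by decide) 0 (by simp) (2 * γ - δ) (δ - γ)
    have e1 : 2 * γ - δ + (δ - γ) = γ := by ring
    have e2 : 2 * γ - δ + (δ - γ) * 2 = δ := by ring
    rw [e1, e2] at this
    simp at this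
    exact key _ _ (by simpa using this)
  have hall : ∀ p : ArrayPt, c p = c (0, 0) := by
    rintro ⟨i, r⟩
    have hi : i = 0 ∨ i = 1 ∨ i = 2 ∨ i = 3 := by revert i; decide
    rcases hi with rfl | rfl | rfl | rfl
    · rw [h01 0 r, h01 0 0]
    · exact (h01 r 0).symm
    · rw [← h12 0 r]; exact (h01 0 0).symm
    · rw [← h23 0 r, ← h12 0 0]; exact (h01 0 0).symm
  have h2 : ∀ a : (ZMod 3)ˣ, a = 1 ∨ a = -1 := by decide
  rcases h2 (c (0, 0)) with h1 | h1
  · left; intro p; rw [hall p, h1]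
  · right; intro p; rw [hall p, h1]

end Cfsg.Agent.Lib.Helper16
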