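import Mathlib
import Cfsg.Agent.Lib.Helper16.TernaryGolay

set_option autoImplicit false

namespace Cfsg.Agent.Lib.Helper16

open Cfsg

theorem mem_ternarySupport {x : ArrayPt → ZMod 3} {p : ArrayPt} :
    p ∈ ternarySupport x ↔ x p ≠ 0 := by
  simp [ternarySupport]

/-- two weight-6 words whose supports share 5 points are equal or opposite -/
theorem eq_or_eq_neg_of_common {x y : ArrayPt → ZMod 3} (hx : x ∈ ternaryGolayCode)
    (hy : y ∈ ternaryGolayCode) (hwx : (ternarySupport x).card = 6)
    (hwy : (ternarySupport y).card = 6) (s : Finset ArrayPt) (hsx : s ⊆ ternarySupport x)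
    (hsy : s ⊆ ternarySupport y) (hs : 5 ≤ s.card) : x = y ∨ x = -y := by
  classical
  have hU : (ternarySupport x ∪ ternarySupport y).card ≤ 7 := by
    have h1 := Finset.card_union_add_card_inter (ternarySupport x) (ternarySupport y)
    have h2 : s.card ≤ (ternarySupport x ∩ ternarySupport y).card :=
      Finset.card_le_card (Finset.subset_inter hsx hsy)
    omega
  have hpart := Finset.card_filter_add_card_filter_not (s := s) (fun p => x p = y p)
  have small : ∀ z ∈ ternaryGolayCode, ∀ P : Finset ArrayPt,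
      P ⊆ ternarySupport x ∪ ternarySupport y → 3 ≤ P.card →
      ternarySupport z ⊆ (ternarySupport x ∪ ternarySupport y) \ P → z = 0 := by
    intro z hz P hPU hP hzs
    have h1 := Finset.card_le_card hzs
    rw [Finset.card_sdiff_of_subset hPU] at h1
    rcases weight_of_mem hz with h | h | h | h
    · exact ternarySupport_card_eq_zero.1 h
    all_goals omega
  have hsU : s ⊆ ternarySupport x ∪ ternarySupport y := hsx.trans Finset.subset_union_left
  have hmemU : ∀ (z : ArrayPt → ZMod 3) (p : ArrayPt), (x p = 0 → y p = 0 → z p = 0) →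
      z p ≠ 0 → p ∈ ternarySupport x ∪ ternarySupport y := by
    intro z p hz hzp
    rw [Finset.mem_union, mem_ternarySupport, mem_ternarySupport]
    by_contra hcon
    push Not at hcon
    exact hzp (hz hcon.1 hcon.2)
  by_cases hP : 3 ≤ (s.filter fun p => x p = y p).card
  · left
    have hz := small (x - y) (ternaryGolayCode.sub_mem hx hy) _
      ((Finset.filter_subset _ _).trans hsU) hP ?_
    · exact sub_eq_zero.1 hz
    · intro p hp
      rw [mem_ternarySupport] at hp
      rw [Finset.mem_sdiff]
      refine ⟨hmemU (x - y) p (fun h1 h2 => by simp [h1, h2]) hp, fun hpP => ?_⟩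
      rw [Finset.mem_filter] at hpP
      exact hp (by simp [hpP.2])
  · right
    have hN : 3 ≤ (s.filter fun p => ¬ x p = y p).card := by omega
    have hz := small (x + y) (ternaryGolayCode.add_mem hx hy) _
      ((Finset.filter_subset _ _).trans hsU) hN ?_
    · exact eq_neg_of_add_eq_zero_left hz
    · intro p hp
      rw [mem_ternarySupport] at hp
      rw [Finset.mem_sdiff]
      refine ⟨hmemU (x + y) p (fun h1 h2 => by simp [h1, h2]) hp, fun hpP => ?_⟩
      rw [Finset.mem_filter] at hpP
      have h1 := mem_ternarySupport.1 (hsx hpP.1)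
      have h2 := mem_ternarySupport.1 (hsy hpP.1)
      have key : ∀ a b : ZMod 3, a ≠ 0 → b ≠ 0 → ¬ a = b → a + b = 0 := by decide
      exact hp (key _ _ h1 h2 hpP.2)


theorem ternarySupport_neg (x : ArrayPt → ZMod 3) : ternarySupport (-x) = ternarySupport x := by
  ext p
  simp [mem_ternarySupport]

/-- the weight-6 parameters -/
def tgW6 : Finset TG6 := Finset.univ.filter fun A : TG6 => (ternarySupport (tgWordT A)).card = 6

theorem mem_tgW6 {A : TG6} : A ∈ tgW6 ↔ (ternarySupport (tgWordT A)).card = 6 := by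
  simp [tgW6]

/-- the supports of the weight-6 words -/
def tgBlocks : Finset (Finset ArrayPt) := tgW6.image fun A => ternarySupport (tgWordT A)

theorem mem_tgBlocks {b : Finset ArrayPt} :
    b ∈ tgBlocks ↔ ∃ x ∈ ternaryGolayCode, ternarySupport x = b ∧ b.card = 6 := by
  simp only [tgBlocks, Finset.mem_image, mem_tgW6]
  constructor
  · rintro ⟨A, hA, rfl⟩
    exact ⟨tgWordT A, tgWordT_mem A, rfl, hA⟩
  · rintro ⟨x, hx, rfl, h6⟩
    exact ⟨tgRecover x, by rw [tgWordT_tgRecover hx]; exact h6, by rw [tgWordT_tgRecover hx]⟩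

theorem card_of_mem_tgBlocks {b : Finset ArrayPt} (hb : b ∈ tgBlocks) : b.card = 6 := by
  obtain ⟨x, -, -, h⟩ := mem_tgBlocks.1 hb
  exact h

/-- two blocks sharing 5 points are equal -/
theorem tgBlocks_unique {b b' s : Finset ArrayPt} (hb : b ∈ tgBlocks) (hb' : b' ∈ tgBlocks)
    (hs : 5 ≤ s.card) (hsb : s ⊆ b) (hsb' : s ⊆ b') : b = b' := by
  obtain ⟨x, hx, rfl, h6⟩ := mem_tgBlocks.1 hb
  obtain ⟨y, hy, rfl, h6'⟩ := mem_tgBlocks.1 hb'
  rcases eq_or_eq_neg_of_common hx hy h6 h6' s hsb hsb' hs with h | h
  · rw [h]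
  · rw [h, ternarySupport_neg]

theorem card_tgBlocks : tgBlocks.card = 132 := by
  classical
  have hfib : ∀ b ∈ tgBlocks,
      (tgW6.filter fun A => ternarySupport (tgWordT A) = b).card = 2 := by
    intro b hb
    obtain ⟨A0, hA0, rfl⟩ := Finset.mem_image.1 hb
    have h6 := mem_tgW6.1 hA0
    have hneg : -tgWordT A0 ∈ ternaryGolayCode := ternaryGolayCode.neg_mem (tgWordT_mem A0)
    have hA1 : tgWordT (tgRecover (-tgWordT A0)) = -tgWordT A0 := tgWordT_tgRecover hneg
    have hne : A0 ≠ tgRecover (-tgWordT A0) := by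
      intro h
      have h1 : tgWordT A0 = -tgWordT A0 := by
        conv_lhs => rw [h]
        exact hA1
      have h2 : tgWordT A0 = 0 := by
        funext p
        have := congrFun h1 p
        have key : ∀ a : ZMod 3, a = -a → a = 0 := by decide
        exact key _ this
      rw [h2] at h6
      have := ternarySupport_card_eq_zero.2 (rfl : (0 : ArrayPt → ZMod 3) = 0)
      omega
    have : (tgW6.filter fun A => ternarySupport (tgWordT A) = ternarySupport (tgWordT A0)) =
        {A0, tgRecover (-tgWordT A0)} := by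
      ext A
      simp only [Finset.mem_filter, Finset.mem_insert, Finset.mem_singleton, mem_tgW6]
      constructor
      · rintro ⟨hA6, hAs⟩
        rcases eq_or_eq_neg_of_common (tgWordT_mem A) (tgWordT_mem A0) hA6 h6
          (ternarySupport (tgWordT A0)) (by rw [hAs]) (Finset.Subset.refl _) (by omega) with h | h
        · left; exact tgWordT_injective h
        · right; exact tgWordT_injective (by rw [h, hA1])
      · rintro (rfl | rfl)
        · exact ⟨h6, rfl⟩
        · rw [hA1, ternarySupport_neg]
          exact ⟨h6, rfl⟩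
    rw [this, Finset.card_pair hne]
  have h1 := Finset.card_eq_sum_card_fiberwise (s := tgW6) (t := tgBlocks)
    (f := fun A => ternarySupport (tgWordT A)) (fun A hA => Finset.mem_image_of_mem _ hA)
  rw [Finset.sum_congr rfl hfib] at h1
  have h2 : tgW6.card = 264 := card_weight_six
  simp only [Finset.sum_const, smul_eq_mul] at h1
  omega

theorem tgBlocks_steiner : IsSteinerSystem 5 6 (↑tgBlocks : Set (Finset ArrayPt)) := by
  classical
  refine ⟨fun b hb => card_of_mem_tgBlocks (Finset.mem_coe.1 hb), fun s hs => ?_⟩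
  have hdc := Finset.sum_card_bipartiteAbove_eq_sum_card_bipartiteBelow
    (s := (Finset.univ : Finset ArrayPt).powersetCard 5) (t := tgBlocks)
    (fun (T : Finset ArrayPt) (b : Finset ArrayPt) => T ⊆ b)
  have hR : ∀ b ∈ tgBlocks, (((Finset.univ : Finset ArrayPt).powersetCard 5).bipartiteBelow
      (fun (T : Finset ArrayPt) (b : Finset ArrayPt) => T ⊆ b) b).card = 6 := by
    intro b hb
    have : ((Finset.univ : Finset ArrayPt).powersetCard 5).bipartiteBelow
        (fun (T : Finset ArrayPt) (b : Finset ArrayPt) => T ⊆ b) b = b.powersetCard 5 := by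
      ext T
      simp only [Finset.bipartiteBelow, Finset.mem_filter, Finset.mem_powersetCard,
        Finset.subset_univ, true_and]
      exact and_comm
    rw [this, Finset.card_powersetCard, card_of_mem_tgBlocks hb]
    decide
  rw [Finset.sum_congr rfl hR, Finset.sum_const, card_tgBlocks, smul_eq_mul] at hdc
  have hle : ∀ T ∈ (Finset.univ : Finset ArrayPt).powersetCard 5,
      (tgBlocks.bipartiteAbove (fun (T : Finset ArrayPt) (b : Finset ArrayPt) => T ⊆ b) T).card
        ≤ 1 := by
    intro T hT
    rw [Finset.mem_powersetCard] at hT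
    rw [Finset.card_le_one]
    intro b hb b' hb'
    simp only [Finset.bipartiteAbove, Finset.mem_filter] at hb hb'
    exact tgBlocks_unique hb.1 hb'.1 (by omega) hb.2 hb'.2
  have hsT : s ∈ (Finset.univ : Finset ArrayPt).powersetCard 5 := by
    rw [Finset.mem_powersetCard]
    exact ⟨Finset.subset_univ _, hs⟩
  have hex : ∃ b ∈ tgBlocks, s ⊆ b := by
    by_contra hcon
    push Not at hcon
    have h0 : (tgBlocks.bipartiteAbove (fun (T : Finset ArrayPt) (b : Finset ArrayPt) => T ⊆ b)
        s).card < 1 := by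
      rw [Nat.lt_one_iff, Finset.card_eq_zero, Finset.bipartiteAbove, Finset.filter_eq_empty_iff]
      intro b hb
      exact hcon b hb
    have hlt := Finset.sum_lt_sum hle ⟨s, hsT, h0⟩
    rw [hdc, Finset.sum_const, Finset.card_powersetCard, Finset.card_univ] at hlt
    simp only [Fintype.card_prod, Fintype.card_fin, ZMod.card, smul_eq_mul, mul_one] at hlt
    revert hlt
    decide
  obtain ⟨b, hb, hsb⟩ := hex
  refine ⟨b, ⟨Finset.mem_coe.2 hb, hsb⟩, ?_⟩
  rintro b' ⟨hb', hsb'⟩
  exact tgBlocks_unique (Finset.mem_coe.1 hb') hb (by omega) hsb' hsb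

theorem tg_steiner_main :
    IsSteinerSystem 5 6 {h : Finset ArrayPt | ∃ x ∈ ternaryGolayCode,
      ternarySupport x = h ∧ h.card = 6} ∧
    {h : Finset ArrayPt | ∃ x ∈ ternaryGolayCode,
      ternarySupport x = h ∧ h.card = 6}.ncard = 132 := by
  have : {h : Finset ArrayPt | ∃ x ∈ ternaryGolayCode, ternarySupport x = h ∧ h.card = 6} =
      (↑tgBlocks : Set (Finset ArrayPt)) := by
    ext h
    rw [Set.mem_ofPred_eq, Finset.mem_coe, mem_tgBlocks]
  rw [this, Set.ncard_coe_finset]
  exact ⟨tgBlocks_steiner, card_tgBlocks⟩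

end Cfsg.Agent.Lib.Helper16
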