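import Mathlib
import Cfsg.Agent.Lib.Helper16.TernaryGolaySteiner
import Cfsg.Agent.Lib.Helper16.TGMonData
import Cfsg.Agent.Lib.Helper16.TernaryGolayDiag

set_option autoImplicit false

namespace Cfsg.Agent.Lib.Helper16

open Cfsg Equiv
open scoped Pointwise

/-! ### rigidity of the hexad system -/

theorem tgBlk (A : TG6) (h : Finset ArrayPt) (e : ternarySupport (tgWordT A) = h)
    (c : h.card = 6) : h ∈ tgBlocks :=
  mem_tgBlocks.2 ⟨tgWordT A, tgWordT_mem A, e, c⟩

theorem tg_smul_finset (σ : Perm ArrayPt) (h : Finset ArrayPt) : σ • h = h.image σ := rfl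

theorem tg_mem_smul (σ : Perm ArrayPt) (h : Finset ArrayPt) (p : ArrayPt) (hp : p ∈ h) :
    σ p ∈ σ • h := by
  rw [tg_smul_finset]
  exact Finset.mem_image_of_mem _ hp

/-- a fixed-point set does not receive outside points -/
theorem tg_fix_notMem {σ : Perm ArrayPt} {F : Finset ArrayPt} (hF : ∀ s ∈ F, σ s = s)
    {q : ArrayPt} (hq : q ∉ F) : σ q ∉ F := by
  intro h
  have := hF _ h
  exact hq (σ.injective this ▸ h)

theorem tg_L5 {σ : Perm ArrayPt} (hσ : ∀ h ∈ tgBlocks, σ • h ∈ tgBlocks) {h : Finset ArrayPt}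
    (hh : h ∈ tgBlocks) {F : Finset ArrayPt} (hF : ∀ s ∈ F, σ s = s) (a : ArrayPt) (ha : a ∈ h)
    (hsub : h.erase a ⊆ F) : σ a = a := by
  have h6 : h.card = 6 := card_of_mem_tgBlocks hh
  have h1 : h.erase a ⊆ σ • h := by
    intro s hs
    have := tg_mem_smul σ h s (Finset.mem_of_mem_erase hs)
    rwa [hF s (hsub hs)] at this
  have h2 : σ • h = h :=
    tgBlocks_unique (hσ h hh) hh (s := h.erase a)
      (by rw [Finset.card_erase_of_mem ha, h6]) h1 (Finset.erase_subset _ _)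
  have h3 : σ a ∈ h := by
    have := tg_mem_smul σ h a ha
    rwa [h2] at this
  by_contra hne
  have h4 : σ a ∈ h.erase a := Finset.mem_erase.2 ⟨hne, h3⟩
  have h5 := hF _ (hsub h4)
  exact hne (σ.injective h5)

theorem tg_L4 {σ : Perm ArrayPt} (hσ : ∀ h ∈ tgBlocks, σ • h ∈ tgBlocks) {F : Finset ArrayPt}
    (hF : ∀ s ∈ F, σ s = s) (T : Finset ArrayPt) (hT : T ⊆ F) (q r y s : ArrayPt)
    (hr : r ∉ F) (hqr : r ≠ q) (hy : σ q = y)
    (hB : insert q (insert r T) ∈ tgBlocks) (hB' : insert y (insert s T) ∈ tgBlocks)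
    (c : 4 ≤ T.card) (hyT : y ∉ T) : σ r = s := by
  have h1 : insert y T ⊆ σ • (insert q (insert r T)) := by
    intro p hp
    rw [Finset.mem_insert] at hp
    rcases hp with rfl | hp
    · rw [← hy]
      exact tg_mem_smul σ _ q (Finset.mem_insert_self _ _)
    · have := tg_mem_smul σ (insert q (insert r T)) p
        (Finset.mem_insert_of_mem (Finset.mem_insert_of_mem hp))
      rwa [hF p (hT hp)] at this
  have h2 : insert y T ⊆ insert y (insert s T) := by
    intro p hp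
    rw [Finset.mem_insert] at hp ⊢
    rcases hp with h | h
    · left; exact h
    · right; exact Finset.mem_insert_of_mem h
  have h3 : σ • (insert q (insert r T)) = insert y (insert s T) :=
    tgBlocks_unique (hσ _ hB) hB' (s := insert y T)
      (by rw [Finset.card_insert_of_notMem hyT]; omega) h1 h2
  have h4 : σ r ∈ insert y (insert s T) := by
    rw [← h3]
    exact tg_mem_smul σ _ r (Finset.mem_insert_of_mem (Finset.mem_insert_self _ _))
  rw [Finset.mem_insert, Finset.mem_insert] at h4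
  rcases h4 with h | h | h
  · exact absurd (σ.injective (h.trans hy.symm)) hqr
  · exact h
  · exfalso
    have := hF _ (hT h)
    exact hr (hT (σ.injective this ▸ h))

theorem tg_L4x {σ : Perm ArrayPt} (hσ : ∀ h ∈ tgBlocks, σ • h ∈ tgBlocks) {F : Finset ArrayPt}
    (hF : ∀ s ∈ F, σ s = s) (T1 T2 : Finset ArrayPt) (hT1 : T1 ⊆ F) (hT2 : T2 ⊆ F)
    (q r y s1 s2 : ArrayPt) (hr : r ∉ F) (hqr : r ≠ q) (hs : s1 ≠ s2) (hy : σ q = y)
    (hB1 : insert q (insert r T1) ∈ tgBlocks) (hB2 : insert q (insert r T2) ∈ tgBlocks)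
    (hB1' : insert y (insert s1 T1) ∈ tgBlocks) (hB2' : insert y (insert s2 T2) ∈ tgBlocks)
    (c1 : 4 ≤ T1.card) (c2 : 4 ≤ T2.card) (hyT1 : y ∉ T1) (hyT2 : y ∉ T2) : False := by
  have e1 := tg_L4 hσ hF T1 hT1 q r y s1 hr hqr hy hB1 hB1' c1 hyT1
  have e2 := tg_L4 hσ hF T2 hT2 q r y s2 hr hqr hy hB2 hB2' c2 hyT2
  exact hs (e1.symm.trans e2)

theorem tg_outer : ∀ p : ArrayPt, p ∉ ({tgPt 0, tgPt 1, tgPt 2, tgPt 3, tgPt 4, tgPt 5} :
    Finset ArrayPt) → p = tgPt 6 ∨ p = tgPt 7 ∨ p = tgPt 8 ∨ p = tgPt 9 ∨ p = tgPt 10 ∨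
      p = tgPt 11 := by decide

theorem tg_all : ∀ p : ArrayPt, p ∈ ({tgPt 0, tgPt 1, tgPt 2, tgPt 3, tgPt 4, tgPt 5, tgPt 6,
    tgPt 7, tgPt 8, tgPt 9, tgPt 10, tgPt 11} : Finset ArrayPt) := by decide

/-- an automorphism of the hexad system fixing five base points is trivial -/
theorem tg_rigid {σ : Perm ArrayPt} (hσ : ∀ h ∈ tgBlocks, σ • h ∈ tgBlocks)
    (h0 : σ (tgPt 0) = tgPt 0) (h1 : σ (tgPt 1) = tgPt 1) (h2 : σ (tgPt 2) = tgPt 2)
    (h3 : σ (tgPt 3) = tgPt 3) (h4 : σ (tgPt 4) = tgPt 4) : σ = 1 := by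
  have hF5 : ∀ s ∈ ({tgPt 0, tgPt 1, tgPt 2, tgPt 3, tgPt 4} : Finset ArrayPt), σ s = s := by
    intro s hs
    simp only [Finset.mem_insert, Finset.mem_singleton] at hs
    rcases hs with rfl | rfl | rfl | rfl | rfl <;> assumption
  have h5 : σ (tgPt 5) = tgPt 5 :=
    tg_L5 hσ (tgBlk (1, 2, 0, 0, 0, 0) ({tgPt 0, tgPt 1, tgPt 2, tgPt 3, tgPt 4, tgPt 5} : Finset ArrayPt) (by decide) (by decide)) hF5 (tgPt 5) (by decide) (by decide)
  have hF0 : ∀ s ∈ ({tgPt 0, tgPt 1, tgPt 2, tgPt 3, tgPt 4, tgPt 5} : Finset ArrayPt),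
      σ s = s := by
    intro s hs
    simp only [Finset.mem_insert, Finset.mem_singleton] at hs
    rcases hs with rfl | rfl | rfl | rfl | rfl | rfl <;> assumption
  have h6 : σ (tgPt 6) = tgPt 6 := by
    have hout := tg_outer _ (tg_fix_notMem hF0 (q := tgPt 6) (by decide))
    obtain ⟨y, hy⟩ : ∃ y, σ (tgPt 6) = y := ⟨_, rfl⟩
    rw [hy] at hout
    rcases hout with rfl | rfl | rfl | rfl | rfl | rfl
    · exact hy
    all_goals exfalso
    · -- σ (tgPt 6) = tgPt 7
      exact tg_L4x hσ hF0 {tgPt 0, tgPt 1, tgPt 3, tgPt 4} {tgPt 0, tgPt 2, tgPt 4, tgPt 5} (by decide) (by decide) (tgPt 6) (tgPt 8) (tgPt 7)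
        (tgPt 9) (tgPt 11) (by decide) (by decide) (by decide) hy
        (tgBlk (1, 1, 1, 0, 1, 1) _ (by decide) (by decide))
        (tgBlk (1, 0, 2, 0, 2, 2) _ (by decide) (by decide))
        (tgBlk (1, 1, 0, 2, 2, 2) _ (by decide) (by decide))
        (tgBlk (1, 0, 0, 0, 0, 1) _ (by decide) (by decide))
        (by decide) (by decide) (by decide) (by decide)
    · -- σ (tgPt 6) = tgPt 8
      exact tg_L4x hσ hF0 {tgPt 0, tgPt 1, tgPt 4, tgPt 5} {tgPt 0, tgPt 2, tgPt 3, tgPt 5} (by decide) (by decide) (tgPt 6) (tgPt 7) (tgPt 8)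
        (tgPt 10) (tgPt 9) (by decide) (by decide) (by decide) hy
        (tgBlk (1, 0, 2, 0, 1, 1) _ (by decide) (by decide))
        (tgBlk (1, 1, 1, 0, 2, 2) _ (by decide) (by decide))
        (tgBlk (1, 0, 0, 0, 0, 2) _ (by decide) (by decide))
        (tgBlk (1, 1, 0, 2, 1, 1) _ (by decide) (by decide))
        (by decide) (by decide) (by decide) (by decide)
    · -- σ (tgPt 6) = tgPt 9
      exact tg_L4x hσ hF0 {tgPt 0, tgPt 1, tgPt 4, tgPt 5} {tgPt 0, tgPt 2, tgPt 3, tgPt 5} (by decide) (by decide) (tgPt 6) (tgPt 7) (tgPt 9)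
        (tgPt 11) (tgPt 8) (by decide) (by decide) (by decide) hy
        (tgBlk (1, 0, 2, 0, 1, 1) _ (by decide) (by decide))
        (tgBlk (1, 1, 1, 0, 2, 2) _ (by decide) (by decide))
        (tgBlk (1, 0, 0, 2, 2, 1) _ (by decide) (by decide))
        (tgBlk (1, 1, 0, 2, 1, 1) _ (by decide) (by decide))
        (by decide) (by decide) (by decide) (by decide)
    · -- σ (tgPt 6) = tgPt 10
      exact tg_L4x hσ hF0 {tgPt 0, tgPt 1, tgPt 4, tgPt 5} {tgPt 0, tgPt 2, tgPt 3, tgPt 5} (by decide) (by decide) (tgPt 6) (tgPt 7) (tgPt 10)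
        (tgPt 8) (tgPt 11) (by decide) (by decide) (by decide) hy
        (tgBlk (1, 0, 2, 0, 1, 1) _ (by decide) (by decide))
        (tgBlk (1, 1, 1, 0, 2, 2) _ (by decide) (by decide))
        (tgBlk (1, 0, 0, 0, 0, 2) _ (by decide) (by decide))
        (tgBlk (1, 2, 0, 0, 1, 2) _ (by decide) (by decide))
        (by decide) (by decide) (by decide) (by decide)
    · -- σ (tgPt 6) = tgPt 11
      exact tg_L4x hσ hF0 {tgPt 0, tgPt 1, tgPt 4, tgPt 5} {tgPt 0, tgPt 2, tgPt 3, tgPt 5} (by decide) (by decide) (tgPt 6) (tgPt 7) (tgPt 11)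
        (tgPt 9) (tgPt 10) (by decide) (by decide) (by decide) hy
        (tgBlk (1, 0, 2, 0, 1, 1) _ (by decide) (by decide))
        (tgBlk (1, 1, 1, 0, 2, 2) _ (by decide) (by decide))
        (tgBlk (1, 0, 0, 2, 2, 1) _ (by decide) (by decide))
        (tgBlk (1, 2, 0, 0, 1, 2) _ (by decide) (by decide))
        (by decide) (by decide) (by decide) (by decide)
  have hF1 : ∀ s ∈ ({tgPt 0, tgPt 1, tgPt 2, tgPt 3, tgPt 4, tgPt 5, tgPt 6} :
      Finset ArrayPt), σ s = s := by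
    intro s hs
    simp only [Finset.mem_insert, Finset.mem_singleton] at hs
    rcases hs with rfl | rfl | rfl | rfl | rfl | rfl | rfl <;> assumption
  have h7 : σ (tgPt 7) = tgPt 7 :=
    tg_L5 hσ (tgBlk (1, 0, 2, 0, 1, 1) ({tgPt 0, tgPt 1, tgPt 4, tgPt 5, tgPt 6, tgPt 7} : Finset ArrayPt) (by decide) (by decide)) hF1 (tgPt 7) (by decide) (by decide)
  have h8 : σ (tgPt 8) = tgPt 8 :=
    tg_L5 hσ (tgBlk (1, 1, 1, 0, 1, 1) ({tgPt 0, tgPt 1, tgPt 3, tgPt 4, tgPt 6, tgPt 8} : Finset ArrayPt) (by decide) (by decide)) hF1 (tgPt 8) (by decide) (by decide)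
  have h9 : σ (tgPt 9) = tgPt 9 :=
    tg_L5 hσ (tgBlk (1, 2, 2, 2, 0, 0) ({tgPt 0, tgPt 1, tgPt 2, tgPt 3, tgPt 6, tgPt 9} : Finset ArrayPt) (by decide) (by decide)) hF1 (tgPt 9) (by decide) (by decide)
  have h10 : σ (tgPt 10) = tgPt 10 :=
    tg_L5 hσ (tgBlk (1, 0, 1, 0, 1, 2) ({tgPt 0, tgPt 1, tgPt 2, tgPt 5, tgPt 6, tgPt 10} : Finset ArrayPt) (by decide) (by decide)) hF1 (tgPt 10) (by decide) (by decide)
  have h11 : σ (tgPt 11) = tgPt 11 :=
    tg_L5 hσ (tgBlk (1, 0, 1, 0, 2, 1) ({tgPt 0, tgPt 1, tgPt 2, tgPt 4, tgPt 6, tgPt 11} : Finset ArrayPt) (by decide) (by decide)) hF1 (tgPt 11) (by decide) (by decide)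
  ext p : 1
  have hp := tg_all p
  simp only [Finset.mem_insert, Finset.mem_singleton] at hp
  rcases hp with rfl | rfl | rfl | rfl | rfl | rfl | rfl | rfl | rfl | rfl | rfl | rfl <;>
    simpa using (by assumption)


/-! ### monomial automorphisms act on the hexads -/

theorem tg_support_monomial (σ : Perm ArrayPt) (c : ArrayPt → (ZMod 3)ˣ)
    (x : ArrayPt → ZMod 3) : ternarySupport (monomialMap σ c x) = σ • ternarySupport x := by
  ext p
  rw [tg_smul_finset, mem_ternarySupport, Finset.mem_image]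
  constructor
  · intro h
    refine ⟨σ.symm p, ?_, σ.apply_symm_apply p⟩
    rw [mem_ternarySupport]
    intro h0
    apply h
    show (c p : ZMod 3) * x (σ.symm p) = 0
    rw [h0, mul_zero]
  · rintro ⟨q, hq, rfl⟩
    rw [mem_ternarySupport] at hq
    show (c (σ q) : ZMod 3) * x (σ.symm (σ q)) ≠ 0
    rw [σ.symm_apply_apply]
    exact mul_ne_zero (c (σ q)).ne_zero hq

theorem tg_valid_preserves {σ : Perm ArrayPt} {c : ArrayPt → (ZMod 3)ˣ}
    (h : MonG.Valid ternaryGolayCode σ c) : ∀ b ∈ tgBlocks, σ • b ∈ tgBlocks := by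
  intro b hb
  obtain ⟨x, hx, rfl, h6⟩ := mem_tgBlocks.1 hb
  refine mem_tgBlocks.2 ⟨monomialMap σ c x, h x hx, tg_support_monomial σ c x, ?_⟩
  rw [tg_smul_finset, Finset.card_image_of_injective _ σ.injective]
  exact h6

theorem tgBlockSet_eq : {h : Finset ArrayPt | ∃ x ∈ ternaryGolayCode,
    ternarySupport x = h ∧ h.card = 6} = (↑tgBlocks : Set (Finset ArrayPt)) := by
  ext h
  rw [Set.mem_ofPred_eq, Finset.mem_coe, mem_tgBlocks]

theorem tg_mem_aut_iff (σ : Perm ArrayPt) :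
    σ ∈ setSystemAut (↑tgBlocks : Set (Finset ArrayPt)) ↔ ∀ b ∈ tgBlocks, σ • b ∈ tgBlocks := by
  unfold setSystemAut
  rw [MulAction.mem_stabilizer_set' (Finset.finite_toSet tgBlocks)]
  simp only [Finset.mem_coe]

/-! ### a stabiliser chain gives multiple transitivity -/

theorem chain_trans {α : Type*} (V : Subgroup (Perm α)) (b : Fin 5 → α)
    (H : ∀ (k : Fin 5) (y : α), (∀ i : Fin 5, i < k → y ≠ b i) →
      ∃ w ∈ V, (∀ i : Fin 5, i < k → w (b i) = b i) ∧ w (b k) = y)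
    (x : Fin 5 → α) (hx : Function.Injective x) : ∃ v ∈ V, ∀ i, v (b i) = x i := by
  have key : ∀ m : ℕ, m ≤ 5 → ∃ v ∈ V, ∀ i : Fin 5, i.val < m → v (b i) = x i := by
    intro m
    induction m with
    | zero =>
      intro _
      exact ⟨1, V.one_mem, fun i hi => absurd hi (Nat.not_lt_zero _)⟩
    | succ m ih =>
      intro hm
      obtain ⟨v, hv, hvx⟩ := ih (by omega)
      let k : Fin 5 := ⟨m, by omega⟩
      have hy : ∀ i : Fin 5, i < k → v.symm (x k) ≠ b i := by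
        intro i hi h
        have h1 : x k = v (b i) := by rw [← h, Equiv.apply_symm_apply]
        rw [hvx i hi] at h1
        have := hx h1
        rw [this] at hi
        exact lt_irrefl _ hi
      obtain ⟨w, hw, hwfix, hwk⟩ := H k (v.symm (x k)) hy
      refine ⟨v * w, V.mul_mem hv hw, fun i hi => ?_⟩
      rw [Perm.mul_apply]
      by_cases hik : i = k
      · rw [hik, hwk, Equiv.apply_symm_apply]
      · have hlt : i < k := by
          rw [Fin.lt_def]
          have : i.val ≠ m := fun h => hik (Fin.ext h)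
          show i.val < m
          omega
        rw [hwfix i hlt, hvx i hlt]
  obtain ⟨v, hv, hvx⟩ := key 5 le_rfl
  exact ⟨v, hv, fun i => hvx i i.isLt⟩

theorem card_of_sharp {α : Type*} [Fintype α] [DecidableEq α] (V : Subgroup (Perm α))
    (b : Fin 5 → α) (hb : Function.Injective b)
    (htrans : ∀ x : Fin 5 → α, Function.Injective x → ∃ v ∈ V, ∀ i, v (b i) = x i)
    (hfree : ∀ v ∈ V, (∀ i, v (b i) = b i) → v = 1) :
    Nat.card ↥V = (Fintype.card α).descFactorial 5 := by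
  let Φ : ↥V → (Fin 5 ↪ α) := fun v =>
    ⟨fun i => v.1 (b i), fun i j h => hb (v.1.injective h)⟩
  have hbij : Function.Bijective Φ := by
    constructor
    · intro v v' h
      have h1 : ∀ i, v.1 (b i) = v'.1 (b i) := fun i => congrFun (congrArg (fun e => e.1) h) i
      have h2 : v'.1⁻¹ * v.1 = 1 := by
        apply hfree _ (V.mul_mem (V.inv_mem v'.2) v.2)
        intro i
        rw [Perm.mul_apply, h1 i, Perm.inv_def, Equiv.symm_apply_apply]
      apply Subtype.ext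
      have := congrArg (fun t => v'.1 * t) h2
      simpa using this
    · intro e
      obtain ⟨v, hv, hve⟩ := htrans e e.injective
      refine ⟨⟨v, hv⟩, ?_⟩
      ext i
      exact hve i
  rw [Nat.card_congr (Equiv.ofBijective Φ hbij), Nat.card_eq_fintype_card,
    Fintype.card_embedding_eq, Fintype.card_fin]

/-! ### the group of the code -/

theorem tg_trans_H (k : Fin 5) (y : ArrayPt)
    (hy : ∀ i : Fin 5, i < k → y ≠ tgPt (tgBase i)) :
    ∃ w ∈ MonG.validSubgroup ternaryGolayCode,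
      (∀ i : Fin 5, i < k → w (tgPt (tgBase i)) = tgPt (tgBase i)) ∧ w (tgPt (tgBase k)) = y := by
  have hg := tgTrans_good k (tgIdx y)
  have hspec := tgTrans_spec k (tgIdx y) (fun i hi h => hy i hi (by rw [← h, tgPt_tgIdx]))
  refine ⟨(tgTrans k (tgIdx y)).perm hg, ⟨_, (tgTrans k (tgIdx y)).valid hg⟩, ?_, ?_⟩
  · intro i hi
    rw [MonDat.perm_apply, hspec.1 i hi]
  · rw [MonDat.perm_apply, hspec.2, tgPt_tgIdx]

theorem tgBase_injective : Function.Injective (fun i : Fin 5 => tgPt (tgBase i)) := by decide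

theorem tg_valid_le_aut :
    MonG.validSubgroup ternaryGolayCode ≤ setSystemAut (↑tgBlocks : Set (Finset ArrayPt)) := by
  rintro σ ⟨c, hc⟩
  exact (tg_mem_aut_iff σ).2 (tg_valid_preserves hc)

theorem tg_aut_free (σ : Perm ArrayPt)
    (hσ : σ ∈ setSystemAut (↑tgBlocks : Set (Finset ArrayPt)))
    (hfix : ∀ i : Fin 5, σ (tgPt (tgBase i)) = tgPt (tgBase i)) : σ = 1 :=
  tg_rigid ((tg_mem_aut_iff σ).1 hσ) (hfix 0) (hfix 1) (hfix 2) (hfix 3) (hfix 4)

theorem tg_valid_trans (x : Fin 5 → ArrayPt) (hx : Function.Injective x) :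
    ∃ v ∈ MonG.validSubgroup ternaryGolayCode, ∀ i, v (tgPt (tgBase i)) = x i :=
  chain_trans _ (fun i => tgPt (tgBase i)) tg_trans_H x hx

theorem tg_valid_eq_aut :
    MonG.validSubgroup ternaryGolayCode = setSystemAut (↑tgBlocks : Set (Finset ArrayPt)) := by
  apply le_antisymm tg_valid_le_aut
  intro σ hσ
  obtain ⟨v, hv, hvx⟩ := tg_valid_trans (fun i => σ (tgPt (tgBase i)))
    (fun i j h => tgBase_injective (σ.injective h))
  have h1 : v⁻¹ * σ = 1 := by
    apply tg_aut_free _ (Subgroup.mul_mem _ (Subgroup.inv_mem _ (tg_valid_le_aut hv)) hσ)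
    intro i
    rw [Perm.mul_apply, ← hvx i, Perm.inv_def, Equiv.symm_apply_apply]
  have h2 : σ = v := by
    have := congrArg (fun t => v * t) h1
    simpa using this
  rw [h2]
  exact hv

theorem tg_card_valid : Nat.card ↥(MonG.validSubgroup ternaryGolayCode) = 95040 := by
  rw [card_of_sharp _ (fun i => tgPt (tgBase i)) tgBase_injective tg_valid_trans
    (fun v hv hfix => tg_aut_free v (tg_valid_le_aut hv) hfix)]
  simp only [Fintype.card_prod, Fintype.card_fin, ZMod.card]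
  decide


theorem tg_mon_main :
    Nat.card {f : Equiv.Perm Cfsg.ArrayPt × (Cfsg.ArrayPt → (ZMod 3)ˣ) //
      (∀ x ∈ Cfsg.ternaryGolayCode, Cfsg.monomialMap f.1 f.2 x ∈ Cfsg.ternaryGolayCode)} =
        190080 ∧
    {σ : Equiv.Perm Cfsg.ArrayPt | ∃ c : Cfsg.ArrayPt → (ZMod 3)ˣ,
      (∀ x ∈ Cfsg.ternaryGolayCode, Cfsg.monomialMap σ c x ∈ Cfsg.ternaryGolayCode)} =
      (Cfsg.setSystemAut {h : Finset Cfsg.ArrayPt | ∃ x ∈ Cfsg.ternaryGolayCode,
        Cfsg.ternarySupport x = h ∧ h.card = 6} : Set (Equiv.Perm Cfsg.ArrayPt)) := by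
  constructor
  · have hdiag : ∀ c : ArrayPt → (ZMod 3)ˣ, MonG.Valid ternaryGolayCode 1 c →
        ∀ i j, c i = c j := by
      intro c h i j
      rcases diag_const c h with h1 | h1
      · rw [h1 i, h1 j]
      · rw [h1 i, h1 j]
    have h2 : Nat.card (ZMod 3)ˣ = 2 := by
      rw [Nat.card_eq_fintype_card, ZMod.card_units_eq_totient]
      decide
    have := MonG.card_valid ternaryGolayCode hdiag
    rw [tg_card_valid, h2] at this
    exact this
  · rw [tgBlockSet_eq, ← tg_valid_eq_aut]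
    rfl

end Cfsg.Agent.Lib.Helper16
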