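import Mathlib
import Cfsg.Agent.Lib.Helper16.TGAut

/-!
# Explicit generators of `M₁₂` and `M₁₁` on 12 points (helper16 library)

The eight permutations are conjugated into the automorphism group of the hexad system of the
length-12 ternary code, which is sharply 5-transitive of order 95040.
-/

set_option autoImplicit false

namespace Cfsg.Agent.Lib.Helper16

open Cfsg Equiv

/-- generator `s` -/
def m12s : Perm (Fin 12) := Equiv.swap (3 : Fin 12) 5 * Equiv.swap (3 : Fin 12) 4 * Equiv.swap (6 : Fin 12) 8 * Equiv.swap (6 : Fin 12) 7 * Equiv.swap (9 : Fin 12) 11 * Equiv.swap (9 : Fin 12) 10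
/-- generator `t` -/
def m12t : Perm (Fin 12) := Equiv.swap (3 : Fin 12) 9 * Equiv.swap (3 : Fin 12) 6 * Equiv.swap (4 : Fin 12) 10 * Equiv.swap (4 : Fin 12) 7 * Equiv.swap (5 : Fin 12) 11 * Equiv.swap (5 : Fin 12) 8
/-- generator `u` -/
def m12u : Perm (Fin 12) := Equiv.swap (4 : Fin 12) 9 * Equiv.swap (4 : Fin 12) 5 * Equiv.swap (4 : Fin 12) 6 * Equiv.swap (7 : Fin 12) 10 * Equiv.swap (7 : Fin 12) 11 * Equiv.swap (7 : Fin 12) 8
/-- generator `v` -/
def m12v : Perm (Fin 12) := Equiv.swap (4 : Fin 12) 11 * Equiv.swap (4 : Fin 12) 5 * Equiv.swap (4 : Fin 12) 7 * Equiv.swap (6 : Fin 12) 8 * Equiv.swap (6 : Fin 12) 9 * Equiv.swap (6 : Fin 12) 10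
/-- generator `w` -/
def m12w : Perm (Fin 12) := Equiv.swap (4 : Fin 12) 8 * Equiv.swap (4 : Fin 12) 5 * Equiv.swap (4 : Fin 12) 10 * Equiv.swap (6 : Fin 12) 7 * Equiv.swap (6 : Fin 12) 9 * Equiv.swap (6 : Fin 12) 11
/-- generator `x₁` -/
def m12x1 : Perm (Fin 12) := Equiv.swap (0 : Fin 12) 3 * Equiv.swap (6 : Fin 12) 7 * Equiv.swap (8 : Fin 12) 10 * Equiv.swap (9 : Fin 12) 11
/-- generator `x₂` -/
def m12x2 : Perm (Fin 12) := Equiv.swap (0 : Fin 12) 1 * Equiv.swap (6 : Fin 12) 9 * Equiv.swap (7 : Fin 12) 10 * Equiv.swap (8 : Fin 12) 11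
/-- generator `x₃` -/
def m12x3 : Perm (Fin 12) := Equiv.swap (1 : Fin 12) 2 * Equiv.swap (6 : Fin 12) 11 * Equiv.swap (7 : Fin 12) 9 * Equiv.swap (8 : Fin 12) 10

/-- the generators as a family -/
def m12Gen (j : Fin 8) : Perm (Fin 12) := ![m12s, m12t, m12u, m12v, m12w, m12x1, m12x2, m12x3] j

/-- the group generated by all eight -/
def m12Grp : Subgroup (Perm (Fin 12)) :=
  Subgroup.closure {m12s, m12t, m12u, m12v, m12w, m12x1, m12x2, m12x3}

/-- the group generated by the first seven -/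
def m11Grp : Subgroup (Perm (Fin 12)) :=
  Subgroup.closure {m12s, m12t, m12u, m12v, m12w, m12x1, m12x2}

theorem m12Gen_mem (j : Fin 8) : m12Gen j ∈ m12Grp := by
  apply Subgroup.subset_closure
  fin_cases j <;> simp [m12Gen]

theorem m12Gen_mem11 (j : Fin 8) (hj : j.val < 7) : m12Gen j ∈ m11Grp := by
  apply Subgroup.subset_closure
  fin_cases j <;> first | (simp [m12Gen]; done) | (exfalso; revert hj; decide)

theorem m11_le_m12 : m11Grp ≤ m12Grp := by
  apply Subgroup.closure_mono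
  intro x hx
  simp only [Set.mem_insert_iff, Set.mem_singleton_iff] at hx ⊢
  rcases hx with h | h | h | h | h | h | h
  · exact Or.inl h
  · exact Or.inr (Or.inl h)
  · exact Or.inr (Or.inr (Or.inl h))
  · exact Or.inr (Or.inr (Or.inr (Or.inl h)))
  · exact Or.inr (Or.inr (Or.inr (Or.inr (Or.inl h))))
  · exact Or.inr (Or.inr (Or.inr (Or.inr (Or.inr (Or.inl h)))))
  · exact Or.inr (Or.inr (Or.inr (Or.inr (Or.inr (Or.inr (Or.inl h))))))

/-- evaluate a word in the generators -/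
def m12Eval (l : List (Fin 8)) : Perm (Fin 12) := (l.map m12Gen).prod

theorem m12Eval_mem (l : List (Fin 8)) : m12Eval l ∈ m12Grp := by
  apply Subgroup.list_prod_mem
  intro x hx
  obtain ⟨j, -, rfl⟩ := List.mem_map.1 hx
  exact m12Gen_mem j

theorem m12Eval_mem11 (l : List (Fin 8)) (hl : ∀ j ∈ l, j.val < 7) : m12Eval l ∈ m11Grp := by
  apply Subgroup.list_prod_mem
  intro x hx
  obtain ⟨j, hj, rfl⟩ := List.mem_map.1 hx
  exact m12Gen_mem11 j (hl j hj)

/-- base points -/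
def m12Base (i : Fin 5) : Fin 12 := ![2, 0, 1, 3, 4] i

def m12Word (k : Fin 5) (y : Fin 12) : List (Fin 8) :=
  ![
  ![[6, 7], [7], [], [5, 6, 7], [0, 5, 6, 7], [0, 0, 5, 6, 7], [1, 5, 6, 7], [1, 0, 5, 6, 7], [1, 0, 0, 5, 6, 7], [1, 1, 5, 6, 7], [4, 0, 5, 6, 7], [4, 1, 5, 6, 7]],
  ![[], [6], [], [5], [0, 5], [0, 0, 5], [1, 5], [1, 0, 5], [1, 0, 0, 5], [1, 1, 5], [4, 0, 5], [4, 1, 5]],
  ![[], [], [], [5, 6, 5], [0, 5, 6, 5], [0, 0, 5, 6, 5], [1, 5, 6, 5], [1, 0, 5, 6, 5], [6, 4, 1, 5, 6], [6, 1, 5, 6], [4, 0, 5, 6, 5], [4, 1, 5, 6, 5]],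
  ![[], [], [], [], [0], [0, 0], [1], [1, 0], [1, 0, 0], [1, 1], [4, 0], [4, 1]],
  ![[], [], [], [], [], [2, 2], [2], [3], [2, 3], [3, 4], [4], [4, 2]]] k y

theorem m12Word_spec : ∀ (k : Fin 5) (y : Fin 12), (∀ i : Fin 5, i < k → y ≠ m12Base i) →
    (∀ i : Fin 5, i < k → m12Eval (m12Word k y) (m12Base i) = m12Base i) ∧
      m12Eval (m12Word k y) (m12Base k) = y := by decide +kernel

theorem m12Word_lt : ∀ (k : Fin 5), 1 ≤ k.val → ∀ (y : Fin 12), ∀ j ∈ m12Word k y, j.val < 7 := by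
  decide +kernel

/-- the identification of the 12 points with the 4 × 3 array -/
def m12Pi (p : Fin 12) : Fin 12 := ![0, 1, 2, 3, 4, 5, 10, 11, 9, 8, 6, 7] p

theorem m12Pi_invol : ∀ p, m12Pi (m12Pi p) = p := by decide

/-- the identification as an equivalence -/
def m12E : Fin 12 ≃ ArrayPt where
  toFun p := tgPt (m12Pi p)
  invFun q := m12Pi (tgIdx q)
  left_inv p := by
    show m12Pi (tgIdx (tgPt (m12Pi p))) = p
    rw [tgIdx_tgPt, m12Pi_invol]
  right_inv q := by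
    show tgPt (m12Pi (m12Pi (tgIdx q))) = q
    rw [m12Pi_invol, tgPt_tgIdx]

/-- the conjugated generators as monomial data -/
def m12Dat (j : Fin 8) : MonDat :=
  ![⟨![0, 1, 2, 4, 5, 3, 7, 8, 6, 10, 11, 9], ![0, 1, 2, 5, 3, 4, 8, 6, 7, 11, 9, 10], ![1, 1, 1, 1, 1, 1, 1, 1, 1, 1, 1, 1]⟩,
    ⟨![0, 1, 2, 10, 11, 9, 4, 5, 3, 7, 8, 6], ![0, 1, 2, 8, 6, 7, 11, 9, 10, 5, 3, 4], ![1, 1, 1, 1, 1, 1, 1, 1, 1, 1, 1, 1]⟩,
    ⟨![0, 1, 2, 3, 10, 8, 11, 6, 4, 7, 5, 9], ![0, 1, 2, 3, 8, 10, 7, 9, 5, 11, 4, 6], ![1, 1, 2, 2, 2, 2, 2, 2, 2, 2, 2, 2]⟩,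
    ⟨![0, 1, 2, 3, 11, 7, 8, 4, 9, 10, 6, 5], ![0, 1, 2, 3, 7, 11, 10, 5, 6, 8, 9, 4], ![1, 2, 1, 2, 2, 2, 2, 2, 2, 2, 2, 2]⟩,
    ⟨![0, 1, 2, 3, 6, 9, 5, 8, 11, 4, 7, 10], ![0, 1, 2, 3, 9, 6, 4, 10, 7, 5, 11, 8], ![1, 2, 2, 1, 1, 1, 1, 1, 1, 1, 1, 1]⟩,
    ⟨![3, 1, 2, 0, 4, 5, 9, 8, 7, 6, 11, 10], ![3, 1, 2, 0, 4, 5, 9, 8, 7, 6, 11, 10], ![1, 2, 2, 1, 2, 2, 2, 1, 1, 2, 1, 1]⟩,
    ⟨![1, 0, 2, 3, 4, 5, 11, 9, 10, 7, 8, 6], ![1, 0, 2, 3, 4, 5, 11, 9, 10, 7, 8, 6], ![1, 1, 1, 1, 1, 1, 1, 1, 1, 1, 1, 1]⟩,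
    ⟨![0, 2, 1, 3, 4, 5, 9, 10, 11, 6, 7, 8], ![0, 2, 1, 3, 4, 5, 9, 10, 11, 6, 7, 8], ![1, 1, 1, 1, 1, 1, 1, 1, 1, 1, 1, 1]⟩] j

theorem m12Dat_good : ∀ j, (m12Dat j).Good := by decide +kernel

theorem m12_conj : ∀ (j : Fin 8) (p : ArrayPt),
    m12E (m12Gen j (m12E.symm p)) = tgPt ((m12Dat j).f (tgIdx p)) := by decide +kernel


/-- a stabiliser chain starting at level `m0` -/
theorem chain_from {α : Type*} (V : Subgroup (Perm α)) (b : Fin 5 → α) (m0 : ℕ)
    (H : ∀ (k : Fin 5) (y : α), m0 ≤ k.val → (∀ i : Fin 5, i < k → y ≠ b i) →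
      ∃ w ∈ V, (∀ i : Fin 5, i < k → w (b i) = b i) ∧ w (b k) = y)
    (x : Fin 5 → α) (hx : Function.Injective x) (hx0 : ∀ i : Fin 5, i.val < m0 → x i = b i) :
    ∃ v ∈ V, ∀ i, v (b i) = x i := by
  by_cases h5 : m0 ≤ 5
  · have key : ∀ m : ℕ, m0 ≤ m → m ≤ 5 → ∃ v ∈ V, ∀ i : Fin 5, i.val < m → v (b i) = x i := by
      intro m hm
      induction m, hm using Nat.le_induction with
      | base =>
        intro _
        exact ⟨1, V.one_mem, fun i hi => (hx0 i hi).symm⟩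
      | succ m hm0 ih =>
        intro hm
        obtain ⟨v, hv, hvx⟩ := ih (by omega)
        let k : Fin 5 := ⟨m, by omega⟩
        have hy : ∀ i : Fin 5, i < k → v.symm (x k) ≠ b i := by
          intro i hi h
          have h1 : x k = v (b i) := by rw [← h, Equiv.apply_symm_apply]
          rw [hvx i hi] at h1
          have := hx h1
          rw [this] at hi
          exact lt_irrefl _ hi
        obtain ⟨w, hw, hwfix, hwk⟩ := H k (v.symm (x k)) hm0 hy
        refine ⟨v * w, V.mul_mem hv hw, fun i hi => ?_⟩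
        rw [Perm.mul_apply]
        by_cases hik : i = k
        · rw [hik, hwk, Equiv.apply_symm_apply]
        · have hlt : i < k := by
            rw [Fin.lt_def]
            have : i.val ≠ m := fun h => hik (Fin.ext h)
            show i.val < m
            omega
          rw [hwfix i hlt, hvx i hlt]
    obtain ⟨v, hv, hvx⟩ := key 5 h5 le_rfl
    exact ⟨v, hv, fun i => hvx i i.isLt⟩
  · exact ⟨1, V.one_mem, fun i => (hx0 i (by have := i.isLt; omega)).symm⟩

theorem m12_conj_gen (j : Fin 8) :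
    m12E.permCongrHom (m12Gen j) = (m12Dat j).perm (m12Dat_good j) := by
  ext p : 1
  exact m12_conj j p

theorem m12_conj_mem (g : Perm (Fin 12)) (hg : g ∈ m12Grp) :
    m12E.permCongrHom g ∈ MonG.validSubgroup ternaryGolayCode := by
  unfold m12Grp at hg
  induction hg using Subgroup.closure_induction with
  | mem x hx =>
    have hj : ∃ j, x = m12Gen j := by
      simp only [Set.mem_insert_iff, Set.mem_singleton_iff] at hx
      rcases hx with h | h | h | h | h | h | h | h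
      · exact ⟨0, h⟩
      · exact ⟨1, h⟩
      · exact ⟨2, h⟩
      · exact ⟨3, h⟩
      · exact ⟨4, h⟩
      · exact ⟨5, h⟩
      · exact ⟨6, h⟩
      · exact ⟨7, h⟩
    obtain ⟨j, rfl⟩ := hj
    rw [m12_conj_gen]
    exact ⟨_, (m12Dat j).valid (m12Dat_good j)⟩
  | one =>
    rw [map_one]
    exact Subgroup.one_mem _
  | mul x y _ _ hx hy =>
    rw [map_mul]
    exact Subgroup.mul_mem _ hx hy
  | inv x _ hx =>
    rw [map_inv]
    exact Subgroup.inv_mem _ hx

theorem m12_base_corr : ∀ i : Fin 5, ∃ i' : Fin 5, m12E.symm (tgPt (tgBase i)) = m12Base i' := by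
  decide

theorem m12_free (g : Perm (Fin 12)) (hg : g ∈ m12Grp)
    (hfix : ∀ i, g (m12Base i) = m12Base i) : g = 1 := by
  have hV := m12_conj_mem g hg
  have h1 : m12E.permCongrHom g = 1 := by
    apply tg_aut_free _ (tg_valid_le_aut hV)
    intro i
    obtain ⟨i', hi'⟩ := m12_base_corr i
    show m12E (g (m12E.symm (tgPt (tgBase i)))) = tgPt (tgBase i)
    rw [hi', hfix i', ← hi', Equiv.apply_symm_apply]
  exact (MulEquiv.map_eq_one_iff _).1 h1

theorem m12Base_injective : Function.Injective m12Base := by decide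

theorem m12_trans (x : Fin 5 → Fin 12) (hx : Function.Injective x) :
    ∃ v ∈ m12Grp, ∀ i, v (m12Base i) = x i :=
  chain_from m12Grp m12Base 0
    (fun k y _ hy => ⟨m12Eval (m12Word k y), m12Eval_mem _, m12Word_spec k y hy⟩) x hx
    (fun i hi => absurd hi (Nat.not_lt_zero _))

theorem m11_trans (x : Fin 5 → Fin 12) (hx : Function.Injective x) (h0 : x 0 = 2) :
    ∃ v ∈ m11Grp, ∀ i, v (m12Base i) = x i :=
  chain_from m11Grp m12Base 1
    (fun k y hk hy => ⟨m12Eval (m12Word k y), m12Eval_mem11 _ (m12Word_lt k hk y),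
      m12Word_spec k y hy⟩) x hx
    (fun i hi => by
      have : i = 0 := Fin.ext (by omega)
      subst this
      exact h0)

theorem m12_card : Nat.card ↥m12Grp = 95040 := by
  rw [card_of_sharp m12Grp m12Base m12Base_injective m12_trans m12_free, Fintype.card_fin]
  decide

theorem m11_gen_fix : ∀ j : Fin 8, j.val < 7 → m12Gen j 2 = 2 := by decide

theorem m11_eq : m11Grp = m12Grp ⊓ MulAction.stabilizer (Perm (Fin 12)) (2 : Fin 12) := by
  apply le_antisymm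
  · apply le_inf m11_le_m12
    unfold m11Grp
    rw [Subgroup.closure_le]
    intro x hx
    have hj : ∃ j : Fin 8, j.val < 7 ∧ x = m12Gen j := by
      simp only [Set.mem_insert_iff, Set.mem_singleton_iff] at hx
      rcases hx with h | h | h | h | h | h | h
      · exact ⟨0, by decide, h⟩
      · exact ⟨1, by decide, h⟩
      · exact ⟨2, by decide, h⟩
      · exact ⟨3, by decide, h⟩
      · exact ⟨4, by decide, h⟩
      · exact ⟨5, by decide, h⟩
      · exact ⟨6, by decide, h⟩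
    obtain ⟨j, hj7, rfl⟩ := hj
    rw [SetLike.mem_coe, MulAction.mem_stabilizer_iff, Perm.smul_def]
    exact m11_gen_fix j hj7
  · intro g hgg
    rw [Subgroup.mem_inf, MulAction.mem_stabilizer_iff, Perm.smul_def] at hgg
    obtain ⟨hg, hg2⟩ := hgg
    obtain ⟨m, hm, hmx⟩ := m11_trans (fun i => g (m12Base i))
      (fun i j h => m12Base_injective (g.injective h)) hg2
    have h1 : m⁻¹ * g = 1 := by
      apply m12_free _ (Subgroup.mul_mem _ (Subgroup.inv_mem _ (m11_le_m12 hm)) hg)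
      intro i
      rw [Perm.mul_apply, ← hmx i, Perm.inv_def, Equiv.symm_apply_apply]
    have h2 : g = m := by
      have := congrArg (fun t => m * t) h1
      simpa using this
    rw [h2]
    exact hm

theorem m12_pretrans : MulAction.IsPretransitive ↥m12Grp (Fin 12) := by
  constructor
  intro a b
  have ha := (m12Word_spec 0 a (fun i hi => absurd hi (Fin.not_lt_zero i))).2
  have hb := (m12Word_spec 0 b (fun i hi => absurd hi (Fin.not_lt_zero i))).2
  refine ⟨⟨m12Eval (m12Word 0 b) * (m12Eval (m12Word 0 a))⁻¹,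
    Subgroup.mul_mem _ (m12Eval_mem _) (Subgroup.inv_mem _ (m12Eval_mem _))⟩, ?_⟩
  show (m12Eval (m12Word 0 b) * (m12Eval (m12Word 0 a))⁻¹) a = b
  have h1 : (m12Eval (m12Word 0 a))⁻¹ a = m12Base 0 := by
    rw [Perm.inv_def, Equiv.symm_apply_eq]
    exact ha.symm
  rw [Perm.mul_apply, h1, hb]

theorem m11_card : Nat.card ↥m11Grp = 7920 := by
  have := m12_pretrans
  have h1 : m11Grp.subgroupOf m12Grp = MulAction.stabilizer ↥m12Grp (2 : Fin 12) := by
    ext ⟨g, hg⟩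
    rw [Subgroup.mem_subgroupOf, MulAction.mem_stabilizer_iff]
    show g ∈ m11Grp ↔ g (2 : Fin 12) = 2
    rw [m11_eq, Subgroup.mem_inf, MulAction.mem_stabilizer_iff, Perm.smul_def]
    exact ⟨fun h => h.2, fun h => ⟨hg, h⟩⟩
  have h2 := MulAction.index_stabilizer_of_transitive ↥m12Grp (2 : Fin 12)
  have h3 := Subgroup.card_mul_index (m11Grp.subgroupOf m12Grp)
  rw [h1, h2, m12_card, Nat.card_eq_fintype_card (α := Fin 12), Fintype.card_fin, ← h1,
    Nat.card_congr (Subgroup.subgroupOfEquivOfLe m11_le_m12).toEquiv] at h3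
  omega

theorem m12_main :
    MulAction.IsMultiplyPretransitive ↥m12Grp (Fin 12) 5 ∧
    (∀ y : Fin 5 ↪ Fin 12, MulAction.stabilizer ↥m12Grp y = ⊥) ∧
    Nat.card ↥m12Grp = 95040 ∧ Nat.card ↥m11Grp = 7920 ∧
    m11Grp = m12Grp ⊓ MulAction.stabilizer (Equiv.Perm (Fin 12)) (2 : Fin 12) := by
  refine ⟨?_, ?_, m12_card, m11_card, m11_eq⟩
  · rw [MulAction.isMultiplyPretransitive_iff]
    intro x y
    obtain ⟨vx, hvx, hx⟩ := m12_trans x x.injective
    obtain ⟨vy, hvy, hy⟩ := m12_trans y y.injective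
    refine ⟨⟨vy * vx⁻¹, Subgroup.mul_mem _ hvy (Subgroup.inv_mem _ hvx)⟩, ?_⟩
    ext i : 1
    show (vy * vx⁻¹) (x i) = y i
    rw [Perm.mul_apply, ← hx i, Perm.inv_def, Equiv.symm_apply_apply, hy i]
  · intro y
    rw [eq_bot_iff]
    rintro ⟨g, hg⟩ hgy
    rw [MulAction.mem_stabilizer_iff] at hgy
    have hfix : ∀ i, g (y i) = y i := fun i => by
      have := congrArg (fun e : Fin 5 ↪ Fin 12 => e i) hgy
      exact this
    obtain ⟨v, hv, hvy⟩ := m12_trans y y.injective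
    have h1 : v⁻¹ * g * v = 1 := by
      apply m12_free _ (Subgroup.mul_mem _ (Subgroup.mul_mem _ (Subgroup.inv_mem _ hv) hg) hv)
      intro i
      rw [Perm.mul_apply, Perm.mul_apply, hvy i, hfix i, ← hvy i, Perm.inv_def,
        Equiv.symm_apply_apply]
    have h2 : g = 1 := by
      have := congrArg (fun t => v * t * v⁻¹) h1
      simpa [mul_assoc] using this
    rw [Subgroup.mem_bot]
    exact Subtype.ext h2

end Cfsg.Agent.Lib.Helper16
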