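import Mathlib
import Cfsg.Agent.Lib.Helper16.LBalA

/-!
# Element orders in `Aut(PSL_d(q))`, part A: twisted powers
-/

set_option autoImplicit false
set_option linter.unusedSectionVars false
set_option linter.unusedVariables false

namespace Cfsg.Agent.Lib.Helper16.MeoL

open Matrix Cfsg.Agent.Lib.Helper6.AutPSL

section abstract

variable {G H : Type*} [Group G] [Group H]

/-- twisted partial norms: `a · θ a · ... · θ^(n-1) a` -/
def twNorm (θ : H → H) (a : H) : ℕ → H
  | 0 => 1
  | n + 1 => twNorm θ a n * θ^[n] a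

theorem twNorm_zero (θ : H → H) (a : H) : twNorm θ a 0 = 1 := rfl

theorem twNorm_succ (θ : H → H) (a : H) (n : ℕ) :
    twNorm θ a (n + 1) = twNorm θ a n * θ^[n] a := rfl

theorem twNorm_one (θ : H → H) (a : H) : twNorm θ a 1 = a := by
  rw [twNorm_succ, twNorm_zero, one_mul, Function.iterate_zero, id]

theorem conj_iterate (c : H →* G) (θ : H → H) (Θ : G) (hΘ : ∀ g, Θ * c g = c (θ g) * Θ)
    (n : ℕ) (g : H) : Θ ^ n * c g = c (θ^[n] g) * Θ ^ n := by
  induction n generalizing g with
  | zero => rw [pow_zero, one_mul, mul_one, Function.iterate_zero, id]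
  | succ n ih =>
    rw [pow_succ, mul_assoc, hΘ, ← mul_assoc, ih, mul_assoc, Function.iterate_succ_apply]

theorem twisted_pow (c : H →* G) (θ : H → H) (Θ : G) (hΘ : ∀ g, Θ * c g = c (θ g) * Θ)
    (a : H) (n : ℕ) : (c a * Θ) ^ n = c (twNorm θ a n) * Θ ^ n := by
  induction n with
  | zero => rw [pow_zero, pow_zero, twNorm_zero, map_one, mul_one]
  | succ n ih =>
    rw [pow_succ, ih, twNorm_succ, map_mul]
    calc c (twNorm θ a n) * Θ ^ n * (c a * Θ)
        = c (twNorm θ a n) * (Θ ^ n * c a) * Θ := by simp only [mul_assoc]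
      _ = c (twNorm θ a n) * (c (θ^[n] a) * Θ ^ n) * Θ := by rw [conj_iterate c θ Θ hΘ]
      _ = c (twNorm θ a n) * c (θ^[n] a) * Θ ^ (n + 1) := by
          rw [pow_succ]; simp only [mul_assoc]

/-- if `θ` is multiplicative and `θ^E = id` then `θ` moves the norm to a conjugate -/
theorem theta_twNorm (θ : H →* H) (a : H) (E : ℕ) (hE : θ^[E] a = a) :
    θ (twNorm θ a E) = a⁻¹ * twNorm θ a E * a := by
  have key : ∀ n : ℕ, a * θ (twNorm θ a n) = twNorm θ a n * θ^[n] a := by
    intro n
    induction n with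
    | zero => rw [twNorm_zero, map_one, mul_one, one_mul, Function.iterate_zero, id]
    | succ n ih =>
      rw [twNorm_succ, map_mul, ← mul_assoc, ih, mul_assoc, mul_assoc]
      congr 2
      rw [← Function.iterate_succ_apply' θ n a]
  have h := key E
  rw [hE] at h
  rw [mul_assoc, ← h, ← mul_assoc, inv_mul_cancel, one_mul]

/-- the order bound -/
theorem orderOf_dvd_of_pow (c : H →* G) (θ : H → H) (Θ : G)
    (hΘ : ∀ g, Θ * c g = c (θ g) * Θ) (a : H) (E K : ℕ) (hΘE : Θ ^ E = 1)
    (hK : c (twNorm θ a E ^ K) = 1) : orderOf (c a * Θ) ∣ E * K := by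
  apply orderOf_dvd_of_pow_eq_one
  rw [pow_mul, twisted_pow c θ Θ hΘ, hΘE, mul_one, ← map_pow, hK]

end abstract

end Cfsg.Agent.Lib.Helper16.MeoL
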