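import Mathlib
import Cfsg.Agent.Lib.Helper16.UnitaryDescent

/-!
# Element orders in `Aut(PSL_d(q))`, part B: matrices whose characteristic polynomial is defined
over a subfield
-/

set_option autoImplicit false
set_option linter.unusedSectionVars false
set_option linter.unusedVariables false
set_option linter.style.haveILetI false

namespace Cfsg.Agent.Lib.Helper16.MeoL

open Matrix Polynomial Cfsg.Agent.Lib.Helper16.UnitaryDescent

variable {F : Type*} [Field F]

/-- powers of a matrix as combinations of the first `d` powers with coefficients in the fixed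
field -/
theorem pow_eq_sum_fixed {d : ℕ} (hd : 1 ≤ d) (ρ : RingAut F) (M : Matrix (Fin d) (Fin d) F)
    (hχ : M.charpoly.map (ρ : F →+* F) = M.charpoly) (i : ℕ) :
    ∃ v : Fin d → ↥(fixK ρ), M ^ i = ∑ j : Fin d, ((v j : ↥(fixK ρ)) : F) • M ^ (j : ℕ) := by
  classical
  have hmonic : M.charpoly.Monic := Matrix.charpoly_monic M
  have hdeg : M.charpoly.natDegree = d := by simp [Matrix.charpoly_natDegree_eq_dim M]
  have hne1 : M.charpoly ≠ 1 := by
    intro h
    rw [h, natDegree_one] at hdeg
    omega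
  obtain ⟨r, hr⟩ : ∃ r : F[X], r = (X ^ i : F[X]) %ₘ M.charpoly := ⟨_, rfl⟩
  have h1 : aeval M r = M ^ i := by
    rw [hr]
    have := congrArg (aeval M) (Polynomial.modByMonic_add_div (X ^ i : F[X]) M.charpoly)
    simpa [Matrix.aeval_self_charpoly] using this
  have h2 : r.natDegree < d := by
    rw [hr]
    have := Polynomial.natDegree_modByMonic_lt (X ^ i : F[X]) hmonic hne1
    omega
  have h3 : r.map (ρ : F →+* F) = r := by
    rw [hr, Polynomial.map_modByMonic _ hmonic, hχ, Polynomial.map_pow, Polynomial.map_X]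
  have h4 : ∀ j, r.coeff j ∈ fixK ρ := by
    intro j
    rw [mem_fixK]
    have := congrArg (fun p : F[X] => p.coeff j) h3
    simpa [Polynomial.coeff_map] using this
  refine ⟨fun j => ⟨r.coeff j, h4 j⟩, ?_⟩
  rw [← h1, Polynomial.aeval_eq_sum_range' h2]
  exact (Fin.sum_univ_eq_sum_range (fun j => r.coeff j • M ^ j) d).symm

/-- the order modulo scalars of a matrix whose characteristic polynomial is defined over the
fixed field of `ρ` -/
theorem descent_bound [Fintype F] {d : ℕ} (hd : 1 ≤ d) (ρ : RingAut F) (N : GL (Fin d) F)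
    (hχ : N.1.charpoly.map (ρ : F →+* F) = N.1.charpoly) :
    ∃ K : ℕ, 1 ≤ K ∧ (∃ μ : F, N.1 ^ K = μ • (1 : Matrix (Fin d) (Fin d) F)) ∧
      (Nat.card ↥(fixK ρ) - 1) * K ≤ Nat.card ↥(fixK ρ) ^ d - 1 := by
  classical
  haveI : NeZero d := ⟨by omega⟩
  haveI : Fintype ↥(fixK ρ) := Fintype.ofFinite _
  set S := fixK ρ with hS
  set k := orderOf (QuotientGroup.mk N : GL (Fin d) F ⧸ Subgroup.center (GL (Fin d) F)) with hk
  have hkpos : 0 < k := orderOf_pos _
  set M : Matrix (Fin d) (Fin d) F := N.1 with hM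
  refine ⟨k, hkpos, ?_, ?_⟩
  · have h1 : (QuotientGroup.mk N : GL (Fin d) F ⧸ Subgroup.center (GL (Fin d) F)) ^ k = 1 :=
      pow_orderOf_eq_one _
    rw [← QuotientGroup.mk_pow, QuotientGroup.eq_one_iff,
      Matrix.GeneralLinearGroup.mem_center_iff_val_mem_range_scalar] at h1
    obtain ⟨c, hc⟩ := h1
    refine ⟨c, ?_⟩
    rw [Units.val_pow_eq_pow_val] at hc
    rw [← hc, Matrix.scalar_apply, Matrix.smul_eq_diagonal_mul, Matrix.mul_one]
  · let φ : (↥S)ˣ × Fin k → Matrix (Fin d) (Fin d) F := fun x => ((x.1 : ↥S) : F) • M ^ (x.2 : ℕ)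
    let ψ : (Fin d → ↥S) → Matrix (Fin d) (Fin d) F :=
      fun v => ∑ j : Fin d, ((v j : ↥S) : F) • M ^ (j : ℕ)
    have hunit : ∀ c : (↥S)ˣ, ((c : ↥S) : F) ≠ 0 := by
      intro c h
      have : (c : ↥S) = 0 := Subtype.ext h
      exact c.ne_zero this
    have hscal : ∀ c : Fˣ, (QuotientGroup.mk (Matrix.GeneralLinearGroup.scalar (Fin d) c) :
        GL (Fin d) F ⧸ Subgroup.center (GL (Fin d) F)) = 1 := by
      intro c
      rw [QuotientGroup.eq_one_iff, Matrix.GeneralLinearGroup.center_eq_range_scalar]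
      exact ⟨c, rfl⟩
    have hφval : ∀ x : (↥S)ˣ × Fin k, φ x =
        (Matrix.GeneralLinearGroup.scalar (Fin d) (Units.mk0 _ (hunit x.1)) * N ^ (x.2 : ℕ) :
          GL (Fin d) F).val := by
      intro x
      rw [Units.val_mul, Matrix.GeneralLinearGroup.coe_scalar, Units.val_pow_eq_pow_val]
      simp [φ, hM, Matrix.scalar_apply, Matrix.smul_eq_diagonal_mul]
    have hφinj : Function.Injective φ := by
      intro x y hxy
      rw [hφval, hφval] at hxy
      have hxy' := Units.ext hxy
      have h1 := congrArg (QuotientGroup.mk (s := Subgroup.center (GL (Fin d) F))) hxy'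
      rw [QuotientGroup.mk_mul, QuotientGroup.mk_mul, hscal, hscal, one_mul, one_mul,
        QuotientGroup.mk_pow, QuotientGroup.mk_pow] at h1
      have h2 : (x.2 : ℕ) = y.2 := by
        have := pow_injOn_Iio_orderOf (x := (QuotientGroup.mk N :
          GL (Fin d) F ⧸ Subgroup.center (GL (Fin d) F))) (Set.mem_Iio.mpr x.2.2)
          (Set.mem_Iio.mpr y.2.2) h1
        exact this
      rw [h2] at hxy'
      have h3 := mul_right_cancel hxy'
      have h4 : ((x.1 : ↥S) : F) = ((y.1 : ↥S) : F) := by
        have := congrArg (fun A : GL (Fin d) F => A.val 0 0) h3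
        simpa [Matrix.GeneralLinearGroup.coe_scalar] using this
      exact Prod.ext (Units.ext (Subtype.ext h4)) (Fin.ext h2)
    have hsub : Finset.univ.image φ ⊆ (Finset.univ.image ψ).erase 0 := by
      intro A hA
      obtain ⟨x, -, rfl⟩ := Finset.mem_image.mp hA
      rw [Finset.mem_erase]
      constructor
      · rw [hφval]
        exact (Units.isUnit _).ne_zero
      · obtain ⟨v, hv⟩ := pow_eq_sum_fixed hd ρ M hχ (x.2 : ℕ)
        rw [Finset.mem_image]
        refine ⟨fun j => x.1 * v j, Finset.mem_univ _, ?_⟩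
        change ∑ j : Fin d, (((x.1 : ↥S) * v j : ↥S) : F) • M ^ (j : ℕ) = ((x.1 : ↥S) : F) • M ^ (x.2 : ℕ)
        rw [hv, Finset.smul_sum]
        apply Finset.sum_congr rfl
        intro j _
        rw [smul_smul]
        rfl
    have hzero : (0 : Matrix (Fin d) (Fin d) F) ∈ Finset.univ.image ψ := by
      rw [Finset.mem_image]
      refine ⟨fun _ => 0, Finset.mem_univ _, ?_⟩
      simp [ψ]
    have hc1 : (Finset.univ.image φ).card = (Fintype.card ↥S - 1) * k := by
      rw [Finset.card_image_of_injective _ hφinj, Finset.card_univ, Fintype.card_prod,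
        Fintype.card_units, Fintype.card_fin]
    have hc2 : ((Finset.univ.image ψ).erase 0).card ≤ Fintype.card ↥S ^ d - 1 := by
      rw [Finset.card_erase_of_mem hzero]
      have : (Finset.univ.image ψ).card ≤ Fintype.card ↥S ^ d := by
        calc (Finset.univ.image ψ).card ≤ (Finset.univ : Finset (Fin d → ↥S)).card :=
              Finset.card_image_le
          _ = Fintype.card ↥S ^ d := by
              rw [Finset.card_univ, Fintype.card_fun, Fintype.card_fin]
      omega
    have := Finset.card_le_card hsub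
    rw [hc1] at this
    rw [Nat.card_eq_fintype_card]
    exact this.trans hc2

end Cfsg.Agent.Lib.Helper16.MeoL
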