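import Mathlib
import Cfsg.Agent.Lib.Helper16.MeoLA
import Cfsg.Agent.Lib.Helper14.OrthOrd1
import Cfsg.Agent.Lib.Helper14.ElemOrd5

/-!
# Element orders in `Aut(PSL_d(q))`, part C: the twisting automorphisms of `GL_d(F)`
-/

set_option autoImplicit false
set_option linter.unusedSectionVars false
set_option linter.unusedVariables false

namespace Cfsg.Agent.Lib.Helper16.MeoL

open Matrix Polynomial Cfsg.Agent.Lib.Helper6.AutPSL Cfsg.Agent.Lib.Helper14.ElemOrd

variable {ι : Type*} [Fintype ι] [DecidableEq ι] {F : Type*} [Field F]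

theorem gT_one : gT (1 : GL ι F) = 1 := by
  apply Units.ext
  rw [gT_val, inv_one, Units.val_one, Matrix.transpose_one]

theorem gT_mul (g h : GL ι F) : gT (g * h) = gT g * gT h := by
  apply Units.ext
  rw [gT_val, Units.val_mul, gT_val, gT_val, _root_.mul_inv_rev, Units.val_mul,
    Matrix.transpose_mul]

/-- inverse transpose as a homomorphism -/
def gTHom : GL ι F →* GL ι F where
  toFun := gT
  map_one' := gT_one
  map_mul' := gT_mul

theorem gTHom_apply (g : GL ι F) : gTHom g = gT g := rfl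

theorem gT_gT (g : GL ι F) : gT (gT g) = g := by
  apply Units.ext
  have h : (gT g)⁻¹ = ⟨(g.1)ᵀ, ((g⁻¹).1)ᵀ, by
      rw [← Matrix.transpose_mul, gl_inv_mul, Matrix.transpose_one], by
      rw [← Matrix.transpose_mul, gl_mul_inv, Matrix.transpose_one]⟩ := by
    apply Units.ext
    rw [gT_inv_val]
  rw [gT_val, h, Matrix.transpose_transpose]

/-- a field automorphism as a homomorphism of `GL` -/
def sGHom (τ : RingAut F) : GL ι F →* GL ι F := Matrix.GeneralLinearGroup.map (τ : F →+* F)

theorem sGHom_apply (τ : RingAut F) (g : GL ι F) : sGHom τ g = sG τ g := rfl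

theorem sG_sG (τ σ : RingAut F) (g : GL ι F) : sG τ (sG σ g) = sG (τ * σ) g := by
  apply Units.ext
  rw [sG_val, sG_val, sG_val, Matrix.map_map]
  rfl

theorem sG_one (g : GL ι F) : sG (1 : RingAut F) g = g := by
  apply Units.ext
  rw [sG_val]
  ext i j
  rfl

theorem sG_gT (τ : RingAut F) (g : GL ι F) : sG τ (gT g) = gT (sG τ g) := by
  apply Units.ext
  rw [sG_val, gT_val, gT_val, sG_inv_val, Matrix.transpose_map]

theorem sG_pow_iterate (τ : RingAut F) (n : ℕ) (g : GL ι F) :
    (sG τ)^[n] g = sG (τ ^ n) g := by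
  induction n generalizing g with
  | zero => rw [Function.iterate_zero, id, pow_zero, sG_one]
  | succ n ih => rw [Function.iterate_succ_apply', ih, sG_sG, pow_succ']

/-- the automorphism of `GL` induced by `fP τ * tpow k` -/
def thetaG (τ : RingAut F) (k : ZMod 2) : GL ι F →* GL ι F :=
  if k = 0 then sGHom τ else (sGHom τ).comp gTHom

theorem thetaG_zero (τ : RingAut F) (g : GL ι F) : thetaG τ 0 g = sG τ g := by
  unfold thetaG
  rw [if_pos rfl]
  rfl

theorem thetaG_one (τ : RingAut F) (g : GL ι F) : thetaG τ 1 g = sG τ (gT g) := by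
  unfold thetaG
  rw [if_neg (by decide)]
  rfl

/-- the field-graph part of an automorphism -/
noncomputable def ThetaP (τ : RingAut F) (k : ZMod 2) :
    MulAut (Matrix.ProjectiveSpecialLinearGroup ι F) := fP τ * tpow k

theorem ThetaP_cP (τ : RingAut F) (k : ZMod 2) (g : GL ι F) :
    ThetaP τ k * cP g = cP (thetaG τ k g) * ThetaP τ k := by
  unfold ThetaP
  rcases zmod2_cases k with rfl | rfl
  · rw [tpow_zero, mul_one, thetaG_zero, rel_fP_cP]
  · rw [tpow_one, thetaG_one, mul_assoc, rel_tP_cP, ← mul_assoc, rel_fP_cP, mul_assoc]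

theorem tP_pow_even (E : ℕ) (hE : Even E) :
    (tP : MulAut (Matrix.ProjectiveSpecialLinearGroup ι F)) ^ E = 1 := by
  obtain ⟨m, rfl⟩ := hE
  rw [← two_mul, pow_mul, pow_two, tP_mul_tP, one_pow]

theorem ThetaP_pow (τ : RingAut F) (k : ZMod 2) (E : ℕ) (hτ : τ ^ E = 1)
    (hk : k = 1 → Even E) : (ThetaP τ k : MulAut (Matrix.ProjectiveSpecialLinearGroup ι F)) ^ E = 1 := by
  unfold ThetaP
  have hcomm : Commute (fP τ : MulAut (Matrix.ProjectiveSpecialLinearGroup ι F)) (tpow k) := by
    rcases zmod2_cases k with rfl | rfl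
    · rw [tpow_zero]; exact Commute.one_right _
    · rw [tpow_one]; exact (rel_tP_fP τ).symm
  rw [hcomm.mul_pow]
  have h1 : (fP τ : MulAut (Matrix.ProjectiveSpecialLinearGroup ι F)) ^ E = 1 := by
    have := map_pow (fPhom : RingAut F →* MulAut (Matrix.ProjectiveSpecialLinearGroup ι F)) τ E
    rw [hτ, map_one] at this
    exact this.symm
  have h2 : (tpow k : MulAut (Matrix.ProjectiveSpecialLinearGroup ι F)) ^ E = 1 := by
    rcases zmod2_cases k with rfl | rfl
    · rw [tpow_zero, one_pow]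
    · rw [tpow_one]; exact tP_pow_even E (hk rfl)
  rw [h1, h2, one_mul]

theorem thetaG_one_sq (τ : RingAut F) (g : GL ι F) :
    thetaG τ 1 (thetaG τ 1 g) = sG (τ * τ) g := by
  rw [thetaG_one, thetaG_one, ← sG_gT, gT_gT, sG_sG]

theorem thetaG_iterate (τ : RingAut F) (k : ZMod 2) (E : ℕ) (hτ : τ ^ E = 1)
    (hk : k = 1 → Even E) (a : GL ι F) : (thetaG τ k)^[E] a = a := by
  rcases zmod2_cases k with rfl | rfl
  · have h : (thetaG τ 0 : GL ι F → GL ι F) = sG τ := by
      funext g; exact thetaG_zero τ g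
    rw [h, sG_pow_iterate, hτ, sG_one]
  · obtain ⟨m, rfl⟩ := hk rfl
    have h : ((thetaG τ 1 : GL ι F → GL ι F))^[2] = sG (τ * τ) := by
      funext g
      rw [Function.iterate_succ_apply, Function.iterate_one]
      exact thetaG_one_sq τ g
    rw [← two_mul, Function.iterate_mul, h, sG_pow_iterate, ← pow_two, ← pow_mul, two_mul, hτ,
      sG_one]

/-! ### characteristic polynomials -/

theorem charpoly_sG (τ : RingAut F) (g : GL ι F) :
    (sG τ g).1.charpoly = g.1.charpoly.map (τ : F →+* F) := by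
  rw [sG_val]
  exact Matrix.charpoly_map g.1 (τ : F →+* F)

theorem charpoly_gT (g : GL ι F) : (gT g).1.charpoly = rd g.1.charpoly := by
  rw [gT_val, Matrix.charpoly_transpose]
  have h := Cfsg.Agent.Lib.Helper14.OrthOrd.dual_refl_charpoly g.1 (Units.isUnit g)
  have h2 : (g⁻¹).1 = (g.1)⁻¹ := Matrix.coe_units_inv g
  rw [h2]
  exact h.symm

theorem charpoly_conj (a N : GL ι F) : (a⁻¹ * N * a).1.charpoly = N.1.charpoly := by
  have h := Matrix.charpoly_units_conj' a N.1
  rw [Units.val_mul, Units.val_mul, Matrix.coe_units_inv]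
  exact h

end Cfsg.Agent.Lib.Helper16.MeoL
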