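import Mathlib

/-!
# Element orders in `Aut(PSL_d(q))`, part D: numerical inequalities
-/

set_option autoImplicit false
set_option linter.unusedSectionVars false
set_option linter.unusedVariables false

namespace Cfsg.Agent.Lib.Helper16.MeoL

/-- geometric sums -/
def gsum (x n : ℕ) : ℕ := ∑ i ∈ Finset.range n, x ^ i

theorem gsum_zero (x : ℕ) : gsum x 0 = 0 := by
  unfold gsum; rw [Finset.sum_range_zero]

theorem gsum_succ (x n : ℕ) : gsum x (n + 1) = gsum x n + x ^ n := by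
  unfold gsum; rw [Finset.sum_range_succ]

theorem gsum_mul (x n : ℕ) (hx : 1 ≤ x) : (x - 1) * gsum x n + 1 = x ^ n := by
  induction n with
  | zero => rw [gsum_zero, mul_zero, pow_zero, zero_add]
  | succ n ih =>
    rw [gsum_succ, mul_add, pow_succ]
    obtain ⟨y, rfl⟩ : ∃ y, x = y + 1 := ⟨x - 1, by omega⟩
    rw [Nat.add_sub_cancel] at ih ⊢
    nlinarith [ih]

theorem gsum_mul' (x n : ℕ) (hx : 1 ≤ x) : (x - 1) * gsum x n = x ^ n - 1 := by
  have := gsum_mul x n hx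
  omega

theorem gsum_mono {x y : ℕ} (h : x ≤ y) (n : ℕ) : gsum x n ≤ gsum y n := by
  unfold gsum
  exact Finset.sum_le_sum (fun i _ => Nat.pow_le_pow_left h i)

theorem gsum_lt_pow (x n : ℕ) (hx : 2 ≤ x) : gsum x n < x ^ n := by
  have h := gsum_mul x n (by omega)
  have h2 : gsum x n ≤ (x - 1) * gsum x n := Nat.le_mul_of_pos_left _ (by omega)
  omega

theorem add_two_le_two_pow (e : ℕ) (he : 2 ≤ e) : e + 2 ≤ 2 ^ e := by
  induction e, he using Nat.le_induction with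
  | base => norm_num
  | succ n hn ih => rw [pow_succ]; omega

theorem add_two_le_pow (x e : ℕ) (hx : 2 ≤ x) (he : 2 ≤ e) : e + 2 ≤ x ^ e :=
  (add_two_le_two_pow e he).trans (Nat.pow_le_pow_left hx e)

/-- the inductive step for `e · G(x, e) ≤ G(x², e)` -/
theorem step_sq (x e : ℕ) (hx : 2 ≤ x) (he : 2 ≤ e) (ih : e * gsum x e ≤ gsum (x ^ 2) e) :
    (e + 1) * gsum x (e + 1) ≤ gsum (x ^ 2) (e + 1) := by
  rw [gsum_succ, gsum_succ]
  have h1 := gsum_lt_pow x e hx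
  have h2 := add_two_le_pow x e hx he
  have h3 : (x ^ 2) ^ e = x ^ e * x ^ e := by rw [← pow_mul, two_mul, pow_add]
  rw [h3]
  have h4 : (e + 2) * x ^ e ≤ x ^ e * x ^ e := Nat.mul_le_mul_right _ h2
  nlinarith [ih, h1, h4]

theorem sq_bound_ge3 (x e : ℕ) (hx : 3 ≤ x) (he : 2 ≤ e) : e * gsum x e ≤ gsum (x ^ 2) e := by
  induction e, he using Nat.le_induction with
  | base =>
    have h : gsum x 2 = 1 + x := by
      rw [gsum_succ, gsum_succ, gsum_zero, pow_zero, pow_one, zero_add]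
    have h' : gsum (x ^ 2) 2 = 1 + x ^ 2 := by
      rw [gsum_succ, gsum_succ, gsum_zero, pow_zero, pow_one, zero_add]
    rw [h, h']
    nlinarith
  | succ n hn ih => exact step_sq x n (by omega) hn ih

theorem sq_bound_two (e : ℕ) (he : 3 ≤ e) : e * gsum 2 e ≤ gsum (2 ^ 2) e := by
  induction e, he using Nat.le_induction with
  | base =>
    have h : gsum 2 3 = 7 := by
      rw [gsum_succ, gsum_succ, gsum_succ, gsum_zero]; norm_num
    have h' : gsum (2 ^ 2) 3 = 21 := by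
      rw [gsum_succ, gsum_succ, gsum_succ, gsum_zero]; norm_num
    rw [h, h']
  | succ n hn ih => exact step_sq 2 n le_rfl (by omega) ih

/-- `e · G(x, e) ≤ G(x^d, e)` -/
theorem gsum_bound_field (x d e : ℕ) (hx : 2 ≤ x) (hd : 2 ≤ d) (he : 2 ≤ e)
    (hex : ¬ (d = 2 ∧ x = 2 ∧ e = 2)) : e * gsum x e ≤ gsum (x ^ d) e := by
  have hmono : gsum (x ^ 2) e ≤ gsum (x ^ d) e :=
    gsum_mono (Nat.pow_le_pow_right (by omega) hd) e
  rcases Nat.lt_or_ge x 3 with hx3 | hx3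
  · obtain rfl : x = 2 := by omega
    rcases Nat.lt_or_ge e 3 with he3 | he3
    · obtain rfl : e = 2 := by omega
      have hd3 : 3 ≤ d := by
        by_contra h
        exact hex ⟨by omega, rfl, rfl⟩
      have h : gsum 2 2 = 3 := by
        rw [gsum_succ, gsum_succ, gsum_zero]; norm_num
      have h' : gsum (2 ^ d) 2 = 1 + 2 ^ d := by
        rw [gsum_succ, gsum_succ, gsum_zero, pow_zero, pow_one, zero_add]
      rw [h, h']
      have : 2 ^ 3 ≤ 2 ^ d := Nat.pow_le_pow_right (by norm_num) hd3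
      omega
    · exact (sq_bound_two e he3).trans hmono
  · exact (sq_bound_ge3 x e hx3 he).trans hmono

/-- the numerical inequality for the field case -/
theorem num_field (q₀ d e K : ℕ) (hq : 2 ≤ q₀) (hd : 2 ≤ d) (he : 2 ≤ e)
    (hex : ¬ (d = 2 ∧ q₀ = 2 ∧ e = 2)) (hK : (q₀ - 1) * K ≤ q₀ ^ d - 1) :
    ((q₀ ^ e) - 1) * (e * K) ≤ (q₀ ^ e) ^ d - 1 := by
  have h1 := gsum_mul' q₀ e (by omega)
  have hQ : 1 ≤ q₀ ^ d := Nat.one_le_pow _ _ (by omega)
  have h2 := gsum_mul' (q₀ ^ d) e hQ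
  have h3 := gsum_bound_field q₀ d e hq hd he hex
  have h4 : (q₀ ^ e) ^ d = (q₀ ^ d) ^ e := by rw [← pow_mul, ← pow_mul, mul_comm]
  rw [h4, ← h1, ← h2]
  calc (q₀ - 1) * gsum q₀ e * (e * K) = (e * gsum q₀ e) * ((q₀ - 1) * K) := by ring
    _ ≤ gsum (q₀ ^ d) e * (q₀ ^ d - 1) := Nat.mul_le_mul h3 hK
    _ = (q₀ ^ d - 1) * gsum (q₀ ^ d) e := by ring

/-- the inductive step for `2e · G(x, e) ≤ G(x³, e)` -/
theorem step_cube (x e : ℕ) (hx : 2 ≤ x) (he : 2 ≤ e)
    (ih : 2 * e * gsum x e ≤ gsum (x ^ 3) e) :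
    2 * (e + 1) * gsum x (e + 1) ≤ gsum (x ^ 3) (e + 1) := by
  rw [gsum_succ, gsum_succ]
  have h1 := gsum_lt_pow x e hx
  have h2 := add_two_le_pow x e hx he
  have h3 : (x ^ 3) ^ e = x ^ e * x ^ e * x ^ e := by
    rw [← pow_mul, show 3 * e = e + e + e by ring, pow_add, pow_add]
  rw [h3]
  have hx2 : 2 ≤ x ^ e := by
    calc 2 ≤ x := hx
      _ = x ^ 1 := (pow_one x).symm
      _ ≤ x ^ e := Nat.pow_le_pow_right (by omega) (by omega)
  have h4 : (e + 2) * x ^ e ≤ x ^ e * x ^ e := Nat.mul_le_mul_right _ h2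
  have h5 : 2 * (x ^ e * x ^ e) ≤ x ^ e * x ^ e * x ^ e := by
    calc 2 * (x ^ e * x ^ e) = x ^ e * x ^ e * 2 := by ring
      _ ≤ x ^ e * x ^ e * x ^ e := Nat.mul_le_mul_left _ hx2
  nlinarith [ih, h1, h4, h5]

theorem cube_bound_ge3 (x e : ℕ) (hx : 3 ≤ x) (he : 2 ≤ e) :
    2 * e * gsum x e ≤ gsum (x ^ 3) e := by
  induction e, he using Nat.le_induction with
  | base =>
    have h : gsum x 2 = 1 + x := by
      rw [gsum_succ, gsum_succ, gsum_zero, pow_zero, pow_one, zero_add]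
    have h' : gsum (x ^ 3) 2 = 1 + x ^ 3 := by
      rw [gsum_succ, gsum_succ, gsum_zero, pow_zero, pow_one, zero_add]
    rw [h, h']
    nlinarith [sq_nonneg x, mul_le_mul hx hx (by omega) (by omega)]
  | succ n hn ih => exact step_cube x n (by omega) hn ih

theorem cube_bound_two (e : ℕ) (he : 3 ≤ e) : 2 * e * gsum 2 e ≤ gsum (2 ^ 3) e := by
  induction e, he using Nat.le_induction with
  | base =>
    have h : gsum 2 3 = 7 := by
      rw [gsum_succ, gsum_succ, gsum_succ, gsum_zero]; norm_num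
    have h' : gsum (2 ^ 3) 3 = 73 := by
      rw [gsum_succ, gsum_succ, gsum_succ, gsum_zero]; norm_num
    rw [h, h']
    norm_num
  | succ n hn ih => exact step_cube 2 n le_rfl (by omega) ih

theorem gsum_bound_graph (x d e : ℕ) (hx : 2 ≤ x) (hd : 3 ≤ d) (he : 2 ≤ e)
    (hex : 3 ≤ e ∨ 3 ≤ x) : 2 * e * gsum x e ≤ gsum (x ^ d) e := by
  have hmono : gsum (x ^ 3) e ≤ gsum (x ^ d) e :=
    gsum_mono (Nat.pow_le_pow_right (by omega) hd) e
  rcases Nat.lt_or_ge x 3 with hx3 | hx3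
  · obtain rfl : x = 2 := by omega
    have he3 : 3 ≤ e := by
      rcases hex with h | h
      · exact h
      · omega
    exact (cube_bound_two e he3).trans hmono
  · exact (cube_bound_ge3 x e hx3 he).trans hmono

/-- the numerical inequality for the graph-field case with a field part of order at least `3` -/
theorem num_graph (q' d e K : ℕ) (hq : 2 ≤ q') (hd : 3 ≤ d) (he : 2 ≤ e)
    (hex : 3 ≤ e ∨ 3 ≤ q') (hK : (q' - 1) * K ≤ q' ^ d - 1) :
    ((q' ^ e) - 1) * (2 * e * K) ≤ (q' ^ e) ^ d - 1 := by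
  have h1 := gsum_mul' q' e (by omega)
  have hQ : 1 ≤ q' ^ d := Nat.one_le_pow _ _ (by omega)
  have h2 := gsum_mul' (q' ^ d) e hQ
  have h3 := gsum_bound_graph q' d e hq hd he hex
  have h4 : (q' ^ e) ^ d = (q' ^ d) ^ e := by rw [← pow_mul, ← pow_mul, mul_comm]
  rw [h4, ← h1, ← h2]
  calc (q' - 1) * gsum q' e * (2 * e * K) = (2 * e * gsum q' e) * ((q' - 1) * K) := by ring
    _ ≤ gsum (q' ^ d) e * (q' ^ d - 1) := Nat.mul_le_mul h3 hK
    _ = (q' ^ d - 1) * gsum (q' ^ d) e := by ring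

end Cfsg.Agent.Lib.Helper16.MeoL
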