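import Mathlib
import Cfsg.Agent.Lib.Helper16.MeoLB
import Cfsg.Agent.Lib.Helper16.MeoLC
import Cfsg.Agent.Lib.Helper16.MeoLD
import Cfsg.Agent.Lib.Helper16.FieldAutGL

/-!
# Element orders in `Aut(PSL_d(q))`, part E: the linear and field cases, and the graph-field case
with a field part of order at least three
-/

set_option autoImplicit false
set_option linter.unusedSectionVars false
set_option linter.unusedVariables false
set_option linter.style.haveILetI false

namespace Cfsg.Agent.Lib.Helper16.MeoL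

open Matrix Polynomial Cfsg.Agent.Lib.Helper6.AutPSL Cfsg.Agent.Lib.Helper16.UnitaryDescent
  Cfsg.Agent.Lib.Helper16.FieldCentPSL

variable {F : Type*} [Field F]

theorem finite_ringAut [Finite F] : Finite (RingAut F) :=
  Finite.of_injective (fun σ : RingAut F => (σ : F → F)) DFunLike.coe_injective

/-- the order of a finite field in terms of the fixed field of an automorphism -/
theorem card_eq_fixK_pow [Fintype F] (σ : RingAut F) :
    Fintype.card F = Nat.card ↥(fixK σ) ^ orderOf σ := by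
  classical
  haveI : Finite (RingAut F) := finite_ringAut
  have hfin : IsOfFinOrder σ := isOfFinOrder_of_finite σ
  haveI : Finite (Subgroup.zpowers σ) := (finite_zpowers (a := σ)).2 hfin
  cases nonempty_fintype (Subgroup.zpowers σ)
  have h1 := FixedPoints.finrank_eq_card (Subgroup.zpowers σ) F
  have h2 : Fintype.card (Subgroup.zpowers σ) = orderOf σ := by
    rw [← Nat.card_eq_fintype_card, Nat.card_zpowers]
  rw [h2] at h1
  have h3 := Module.card_eq_pow_finrank (K := FixedPoints.subfield (Subgroup.zpowers σ) F) (V := F)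
  rw [h1] at h3
  have h4 : Nat.card ↥(FixedPoints.subfield (Subgroup.zpowers σ) F) = Nat.card ↥(fixK σ) := by
    apply Nat.card_congr
    exact Equiv.subtypeEquivRight (fun a => by
      rw [Cfsg.Agent.Lib.Helper16.mem_fixed_zpowers_iff, mem_fixK])
  rw [← h4, Nat.card_eq_fintype_card]
  exact h3

theorem two_le_card_fixK [Finite F] (σ : RingAut F) : 2 ≤ Nat.card ↥(fixK σ) := by
  haveI : Fintype ↥(fixK σ) := Fintype.ofFinite _
  rw [Nat.card_eq_fintype_card]
  exact Fintype.one_lt_card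

section main
variable [Fintype F] {d : ℕ}

local notation "PSLd" => Matrix.ProjectiveSpecialLinearGroup (Fin d) F

theorem cP_pow_eq_one (hd : 2 ≤ d) (N : GL (Fin d) F) (K : ℕ)
    (h : ∃ μ : F, N.1 ^ K = μ • (1 : Matrix (Fin d) (Fin d) F)) :
    (cP (N ^ K) : MulAut PSLd) = 1 := by
  rw [Cfsg.Agent.Lib.Helper16.LBal.cP_eq_one_iff hd, Units.val_pow_eq_pow_val]
  exact h

/-- the generic bound: if the characteristic polynomial of the twisted norm is defined over the
fixed field of `ρ`, the order of the automorphism is at most `E · K` -/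
theorem order_le_of_descent (hd : 2 ≤ d) (a : GL (Fin d) F) (τ : RingAut F) (k : ZMod 2)
    (E : ℕ) (hτ : τ ^ E = 1) (hk : k = 1 → Even E) (ρ : RingAut F)
    (hχ : (twNorm (thetaG τ k) a E).1.charpoly.map (ρ : F →+* F) =
      (twNorm (thetaG τ k) a E).1.charpoly) :
    ∃ K : ℕ, 1 ≤ K ∧ orderOf (cP a * ThetaP τ k : MulAut PSLd) ∣ E * K ∧
      (Nat.card ↥(fixK ρ) - 1) * K ≤ Nat.card ↥(fixK ρ) ^ d - 1 := by
  obtain ⟨K, hK1, hK2, hK3⟩ := descent_bound (by omega : 1 ≤ d) ρ _ hχ
  refine ⟨K, hK1, ?_, hK3⟩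
  exact orderOf_dvd_of_pow cP (thetaG τ k) (ThetaP τ k) (ThetaP_cP τ k) a E K
    (ThetaP_pow τ k E hτ hk) (cP_pow_eq_one hd _ K hK2)

/-- the characteristic polynomial of the twisted norm is invariant under the twist -/
theorem charpoly_theta_twNorm (a : GL (Fin d) F) (τ : RingAut F) (k : ZMod 2)
    (E : ℕ) (hτ : τ ^ E = 1) (hk : k = 1 → Even E) :
    (thetaG τ k (twNorm (thetaG τ k) a E)).1.charpoly =
      (twNorm (thetaG τ k) a E).1.charpoly := by
  rw [theta_twNorm (thetaG τ k) a E (thetaG_iterate τ k E hτ hk a)]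
  exact charpoly_conj a _

/-- the linear and field cases -/
theorem bound_field (hd : 2 ≤ d) (h24 : ¬ (d = 2 ∧ Fintype.card F = 4)) (a : GL (Fin d) F)
    (τ : RingAut F) :
    (Fintype.card F - 1) * orderOf (cP a * fP τ : MulAut PSLd) ≤ Fintype.card F ^ d - 1 := by
  have hTheta : (cP a * fP τ : MulAut PSLd) = cP a * ThetaP τ 0 := by
    unfold ThetaP; rw [tpow_zero, mul_one]
  rw [hTheta]
  haveI : Finite (RingAut F) := finite_ringAut
  set e := orderOf τ with he
  have hepos : 0 < e := orderOf_pos τ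
  have hτe : τ ^ e = 1 := pow_orderOf_eq_one τ
  have hχ : (twNorm (thetaG τ 0) a e).1.charpoly.map (τ : F →+* F) =
      (twNorm (thetaG τ 0) a e).1.charpoly := by
    have h := charpoly_theta_twNorm a τ 0 e hτe (fun h => absurd h (by decide))
    rw [thetaG_zero, charpoly_sG] at h
    exact h
  obtain ⟨K, hK1, hK2, hK3⟩ := order_le_of_descent hd a τ 0 e hτe
    (fun h => absurd h (by decide)) τ hχ
  have hq := card_eq_fixK_pow τ
  rw [← he] at hq
  set q₀ := Nat.card ↥(fixK τ) with hq₀
  have hq₀2 : 2 ≤ q₀ := two_le_card_fixK τ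
  have hle : orderOf (cP a * ThetaP τ 0 : MulAut PSLd) ≤ e * K :=
    Nat.le_of_dvd (Nat.mul_pos hepos hK1) hK2
  rcases Nat.lt_or_ge e 2 with he2 | he2
  · have he1 : e = 1 := by omega
    rw [he1, pow_one] at hq
    rw [he1, one_mul] at hle
    rw [hq]
    calc (q₀ - 1) * orderOf (cP a * ThetaP τ 0 : MulAut PSLd) ≤ (q₀ - 1) * K :=
          Nat.mul_le_mul_left _ hle
      _ ≤ q₀ ^ d - 1 := hK3
  · have hex : ¬ (d = 2 ∧ q₀ = 2 ∧ e = 2) := by
      rintro ⟨h1, h2, h3⟩
      apply h24
      refine ⟨h1, ?_⟩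
      rw [hq, h2, h3]
      norm_num
    have hnum := num_field q₀ d e K hq₀2 hd he2 hex hK3
    rw [hq]
    calc (q₀ ^ e - 1) * orderOf (cP a * ThetaP τ 0 : MulAut PSLd) ≤ (q₀ ^ e - 1) * (e * K) :=
          Nat.mul_le_mul_left _ hle
      _ ≤ (q₀ ^ e) ^ d - 1 := hnum

end main

end Cfsg.Agent.Lib.Helper16.MeoL
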