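import Mathlib
import Cfsg.Agent.Lib.Helper16.MeoLE

/-!
# Element orders in `Aut(PSL_d(q))`, part F: graph-field automorphisms with a field part of order
at least three
-/

set_option autoImplicit false
set_option linter.unusedSectionVars false
set_option linter.unusedVariables false
set_option linter.style.haveILetI false

namespace Cfsg.Agent.Lib.Helper16.MeoL

open Matrix Polynomial Cfsg.Agent.Lib.Helper6.AutPSL Cfsg.Agent.Lib.Helper16.UnitaryDescent
  Cfsg.Agent.Lib.Helper16.FieldCentPSL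

variable {F : Type*} [Field F] [Fintype F] {d : ℕ}

local notation "PSLd" => Matrix.ProjectiveSpecialLinearGroup (Fin d) F

theorem graph_eq_Theta (a : GL (Fin d) F) (τ : RingAut F) :
    (cP a * fP τ * tP : MulAut PSLd) = cP a * ThetaP τ 1 := by
  unfold ThetaP
  rw [tpow_one, mul_assoc]

/-- the square of the twist moves the norm to a conjugate -/
theorem charpoly_sq_twNorm (a : GL (Fin d) F) (τ : RingAut F) (E : ℕ) (hτ : τ ^ E = 1)
    (hE : Even E) :
    (twNorm (thetaG τ 1) a E).1.charpoly.map ((τ * τ : RingAut F) : F →+* F) =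
      (twNorm (thetaG τ 1) a E).1.charpoly := by
  obtain ⟨N, hN⟩ : ∃ N, N = twNorm (thetaG τ 1) a E := ⟨_, rfl⟩
  rw [← hN]
  have h1 : thetaG τ 1 N = a⁻¹ * N * a := by
    rw [hN]
    exact theta_twNorm (thetaG τ 1) a E (thetaG_iterate τ 1 E hτ (fun _ => hE) a)
  have h2 : thetaG τ 1 (thetaG τ 1 N) = (a * thetaG τ 1 a)⁻¹ * N * (a * thetaG τ 1 a) := by
    rw [h1, map_mul, map_mul, map_inv, h1]
    group
  rw [thetaG_one_sq] at h2
  rw [← charpoly_sG, h2]
  exact charpoly_conj _ N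

theorem bound_graph_big (hd : 3 ≤ d) (a : GL (Fin d) F) (τ : RingAut F)
    (hτ3 : 3 ≤ orderOf τ) :
    (Fintype.card F - 1) * orderOf (cP a * fP τ * tP : MulAut PSLd) ≤ Fintype.card F ^ d - 1 := by
  haveI : Finite (RingAut F) := finite_ringAut
  rw [graph_eq_Theta]
  obtain ⟨ρ, hρ⟩ : ∃ ρ : RingAut F, ρ = τ * τ := ⟨_, rfl⟩
  set e' := orderOf ρ with he'
  have he'pos : 0 < e' := orderOf_pos ρ
  have hρe : ρ ^ e' = 1 := pow_orderOf_eq_one ρ
  have hτE : τ ^ (2 * e') = 1 := by rw [pow_mul, pow_two, ← hρ, hρe]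
  have hχ := charpoly_sq_twNorm a τ (2 * e') hτE (even_two_mul e')
  rw [← hρ] at hχ
  obtain ⟨K, hK1, hK2, hK3⟩ := order_le_of_descent (by omega : 2 ≤ d) a τ 1 (2 * e') hτE
    (fun _ => even_two_mul e') ρ hχ
  have hq := card_eq_fixK_pow ρ
  rw [← he'] at hq
  set q' := Nat.card ↥(fixK ρ) with hq'
  have hq'2 : 2 ≤ q' := two_le_card_fixK ρ
  have hle : orderOf (cP a * ThetaP τ 1 : MulAut PSLd) ≤ 2 * e' * K :=
    Nat.le_of_dvd (Nat.mul_pos (by omega) hK1) hK2
  have he'2 : 2 ≤ e' := by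
    by_contra h
    have h1 : e' = 1 := by omega
    rw [h1, pow_one] at hρe
    have h2 : τ ^ 2 = 1 := by rw [pow_two, ← hρ, hρe]
    have h3 := orderOf_dvd_of_pow_eq_one h2
    have := Nat.le_of_dvd (by norm_num) h3
    omega
  have hex : 3 ≤ e' ∨ 3 ≤ q' := by
    by_cases h : 3 ≤ e'
    · exact Or.inl h
    · right
      have h1 : e' = 2 := by omega
      have h2 : τ ^ 4 = 1 := by
        have := hτE
        rw [h1] at this
        exact this
      have h3 := orderOf_dvd_of_pow_eq_one h2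
      have h4 : orderOf τ = 4 := by
        have h5 := Nat.le_of_dvd (by norm_num) h3
        interval_cases (orderOf τ)
        · norm_num at h3
        · rfl
      have hq0 := card_eq_fixK_pow τ
      rw [h4] at hq0
      rw [h1] at hq
      have h6 : q' ^ 2 = (Nat.card ↥(fixK τ) ^ 2) ^ 2 := by
        rw [← hq, hq0, ← pow_mul]
      have h7 : q' = Nat.card ↥(fixK τ) ^ 2 := Nat.pow_left_injective (by norm_num) h6
      have h8 : 2 ≤ Nat.card ↥(fixK τ) := two_le_card_fixK τ
      rw [h7]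
      nlinarith
  have hnum := num_graph q' d e' K hq'2 hd he'2 hex hK3
  rw [hq]
  calc (q' ^ e' - 1) * orderOf (cP a * ThetaP τ 1 : MulAut PSLd)
      ≤ (q' ^ e' - 1) * (2 * e' * K) := Nat.mul_le_mul_left _ hle
    _ ≤ (q' ^ e') ^ d - 1 := hnum

end Cfsg.Agent.Lib.Helper16.MeoL
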