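import Mathlib
import Cfsg.Agent.Lib.Helper16.MeoLE
import Cfsg.Agent.Lib.Helper14.ElemOrd5

/-!
# Element orders in `Aut(PSL_d(q))`, part G: twisted self-reciprocal polynomials (the case of a
field part of order two), generic bound
-/

set_option autoImplicit false
set_option linter.unusedSectionVars false
set_option linter.unusedVariables false
set_option linter.style.haveILetI false

namespace Cfsg.Agent.Lib.Helper16.MeoL

open Matrix Polynomial Cfsg.Agent.Lib.Helper16.UnitaryDescent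
  Cfsg.Agent.Lib.Helper14.ElemOrd

/-- `rd` commutes with field homomorphisms -/
theorem rd_map {F F' : Type*} [Field F] [Field F'] (φ : F →+* F') (f : F[X]) :
    rd (f.map φ) = (rd f).map φ := by
  have h0 : (φ (f.coeff 0))⁻¹ = φ ((f.coeff 0)⁻¹) := (map_inv₀ φ _).symm
  rw [rd_def, rd_def, Polynomial.map_mul, Polynomial.map_C, coeff_map, h0]
  congr 1
  have h1 : (f.map φ).reverse = reflect (f.map φ).natDegree (f.map φ) := rfl
  have h2 : f.reverse = reflect f.natDegree f := rfl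
  rw [h1, h2, reflect_map, Polynomial.natDegree_map]

theorem num_unitary (q₀ d N : ℕ) (hq : 2 ≤ q₀) (hd : 3 ≤ d) (hex : ¬ (d = 3 ∧ q₀ = 2))
    (hN : (q₀ - 1) * N ≤ q₀ ^ (d + 1)) : 2 * N * (q₀ ^ 2 - 1) ≤ (q₀ ^ 2) ^ d - 1 := by
  obtain ⟨A, hA⟩ : ∃ A, A = q₀ ^ (d + 1) := ⟨_, rfl⟩
  obtain ⟨B, hB⟩ : ∃ B, B = q₀ ^ (d - 1) := ⟨_, rfl⟩
  have hAB : (q₀ ^ 2) ^ d = A * B := by
    rw [hA, hB, ← pow_mul, ← pow_add]
    congr 1
    omega
  have hA1 : 1 ≤ A := by rw [hA]; exact Nat.one_le_pow _ _ (by omega)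
  have hBge : 2 * q₀ + 3 ≤ B := by
    rw [hB]
    rcases Nat.lt_or_ge d 4 with h4 | h4
    · have hd3 : d = 3 := by omega
      have hq3 : 3 ≤ q₀ := by
        by_contra h
        exact hex ⟨hd3, by omega⟩
      rw [hd3]
      norm_num
      nlinarith
    · have h1 : q₀ ^ 3 ≤ q₀ ^ (d - 1) := Nat.pow_le_pow_right (by omega) (by omega)
      have h2 : 2 * q₀ + 3 ≤ q₀ ^ 3 := by
        have : 4 * q₀ ≤ q₀ ^ 3 := by nlinarith [mul_le_mul hq hq (by omega) (by omega)]
        rcases Nat.lt_or_ge q₀ 3 with h | h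
        · obtain rfl : q₀ = 2 := by omega
          norm_num
        · omega
      omega
  have hsq : q₀ ^ 2 - 1 = (q₀ - 1) * (q₀ + 1) := by
    obtain ⟨y, rfl⟩ : ∃ y, q₀ = y + 1 := ⟨q₀ - 1, by omega⟩
    rw [Nat.add_sub_cancel]
    have : (y + 1) ^ 2 = y * (y + 1 + 1) + 1 := by ring
    rw [this, Nat.add_sub_cancel]
  rw [hsq, hAB]
  have h1 : 2 * N * ((q₀ - 1) * (q₀ + 1)) = 2 * (q₀ + 1) * ((q₀ - 1) * N) := by ring
  rw [h1]
  have h2 : 2 * (q₀ + 1) * ((q₀ - 1) * N) ≤ 2 * (q₀ + 1) * A := by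
    rw [hA]; exact Nat.mul_le_mul_left _ hN
  have h3 : 2 * (q₀ + 1) * A + A ≤ A * B := by
    calc 2 * (q₀ + 1) * A + A = A * (2 * q₀ + 3) := by ring
      _ ≤ A * B := Nat.mul_le_mul_left _ hBge
  omega

variable {F : Type*} [Field F] [Fintype F]

/-- the generic bound for twisted self-reciprocal polynomials -/
theorem unitary_poly_bound (τ : RingAut F) (hτ2 : orderOf τ = 2) (d : ℕ) (hd : 3 ≤ d)
    (h34 : ¬ (d = 3 ∧ Fintype.card F = 4)) (χ : F[X]) (hm : χ.Monic) (hdeg : χ.natDegree = d)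
    (hdual : (rd χ).map (τ : F →+* F) = χ) :
    ∃ K : ℕ, 1 ≤ K ∧ 2 * K * (Fintype.card F - 1) ≤ Fintype.card F ^ d - 1 ∧
      (χ ∣ X ^ K - 1 ∨ χ ∣ X ^ K + 1) := by
  classical
  obtain ⟨p, hp⟩ := CharP.exists F
  haveI : Fact p.Prime := ⟨CharP.char_is_prime F p⟩
  set S := fixK τ with hS
  haveI : Fintype ↥S := Fintype.ofFinite _
  obtain ⟨j, hj⟩ : ∃ j : ↥S →+* F, j = S.subtype := ⟨_, rfl⟩
  have hjinj : Function.Injective j := by rw [hj]; exact Subtype.val_injective
  haveI : CharP ↥S p := RingHom.charP j hjinj p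
  have hq := card_eq_fixK_pow τ
  rw [hτ2] at hq
  have hq₀2 : 2 ≤ Nat.card ↥S := two_le_card_fixK τ
  have hτsq : τ ^ 2 = 1 := by rw [← hτ2]; exact pow_orderOf_eq_one τ
  have hττ : ∀ a, τ (τ a) = a := by
    intro a
    have := DFunLike.congr_fun hτsq a
    rwa [pow_two] at this
  have hcomp : ((τ : F →+* F)).comp (τ : F →+* F) = RingHom.id F := by
    ext a; exact hττ a
  -- the relations between `χ` and its conjugate
  have h1 : rd χ = χ.map (τ : F →+* F) := by
    have := congrArg (Polynomial.map (τ : F →+* F)) hdual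
    rw [Polynomial.map_map, hcomp, Polynomial.map_id] at this
    exact this
  have h2 : rd (χ.map (τ : F →+* F)) = χ := by rw [rd_map, hdual]
  obtain ⟨g, hg⟩ : ∃ g : F[X], g = χ * χ.map (τ : F →+* F) := ⟨_, rfl⟩
  have hgτ : g.map (τ : F →+* F) = g := by
    rw [hg, Polynomial.map_mul, Polynomial.map_map, hcomp, Polynomial.map_id, mul_comm]
  have hgm : g.Monic := by rw [hg]; exact hm.mul (hm.map _)
  have hgdeg : g.natDegree = 2 * d := by
    rw [hg, Polynomial.Monic.natDegree_mul hm (hm.map _), Polynomial.natDegree_map, hdeg, two_mul]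
  have hgrd : rd g = g := by rw [hg, rd_mul, h1, h2, mul_comm]
  have hc0 : χ.coeff 0 * τ (χ.coeff 0) = 1 := by
    have h3 := congrArg (fun f : F[X] => f.coeff 0) hdual
    simp only [coeff_map] at h3
    rw [rd_def, mul_coeff_zero, coeff_C_zero, coeff_zero_reverse, hm.leadingCoeff, mul_one] at h3
    have h4 : χ.coeff 0 ≠ 0 := by
      intro h0
      have h6 : rd χ = 0 := by
        rw [rd_def, h0, _root_.inv_zero, C_0, zero_mul]
      rw [h6, Polynomial.map_zero] at hdual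
      exact hm.ne_zero hdual.symm
    have h5 : τ ((χ.coeff 0)⁻¹) = χ.coeff 0 := h3
    calc χ.coeff 0 * τ (χ.coeff 0) = τ ((χ.coeff 0)⁻¹) * τ (χ.coeff 0) := by rw [h5]
      _ = τ ((χ.coeff 0)⁻¹ * χ.coeff 0) := (map_mul τ _ _).symm
      _ = 1 := by rw [inv_mul_cancel₀ h4, map_one]
  have hg0 : g.coeff 0 = 1 := by
    rw [hg, mul_coeff_zero, coeff_map]
    exact hc0
  -- descent to the fixed field
  have hlift : g ∈ Polynomial.lifts j := by
    rw [Polynomial.lifts_iff_coeff_lifts]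
    intro n
    have h3 := congrArg (fun f : F[X] => f.coeff n) hgτ
    simp only [coeff_map] at h3
    exact ⟨⟨g.coeff n, h3⟩, by rw [hj]; rfl⟩
  obtain ⟨g₀, hg₀map, hg₀deg, hg₀m⟩ := Polynomial.lifts_and_natDegree_eq_and_monic hlift hgm
  have hmapinj : Function.Injective (Polynomial.map j) := Polynomial.map_injective j hjinj
  have hg₀rd : rd g₀ = g₀ := by
    apply hmapinj
    rw [← rd_map, hg₀map, hgrd]
  have hg₀0 : g₀.coeff 0 = 1 := by
    apply hjinj
    rw [← coeff_map, hg₀map, hg0, map_one]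
  obtain ⟨N, hN1, hN2, hN3⟩ := even_bound (F := ↥S) p g₀ d (by omega) hg₀m
    (by rw [hg₀deg, hgdeg]) hg₀rd hg₀0
  have hχg : χ ∣ g := by rw [hg]; exact dvd_mul_right _ _
  refine ⟨N, hN1, ?_, ?_⟩
  · rw [hq]
    rw [← Nat.card_eq_fintype_card] at hN2
    have hex : ¬ (d = 3 ∧ Nat.card ↥S = 2) := by
      rintro ⟨h3, h4⟩
      apply h34
      refine ⟨h3, ?_⟩
      rw [hq, h4]
      norm_num
    exact num_unitary _ d N hq₀2 hd hex hN2
  · rcases hN3 with h | h
    · left
      have := Polynomial.map_dvd j h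
      rw [hg₀map, Polynomial.map_sub, Polynomial.map_pow, Polynomial.map_X, Polynomial.map_one] at this
      exact hχg.trans this
    · right
      have := Polynomial.map_dvd j h
      rw [hg₀map, Polynomial.map_add, Polynomial.map_pow, Polynomial.map_X, Polynomial.map_one] at this
      exact hχg.trans this

end Cfsg.Agent.Lib.Helper16.MeoL
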