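import Mathlib
import Cfsg.Agent.Lib.Helper16.MeoLF

/-!
# Element orders in `Aut(PSL_d(q))`, part H: graph-field automorphisms with a field part of order
at most two, reduced to a statement on twisted self-reciprocal polynomials
-/

set_option autoImplicit false
set_option linter.unusedSectionVars false
set_option linter.unusedVariables false
set_option linter.style.haveILetI false

namespace Cfsg.Agent.Lib.Helper16.MeoL

open Matrix Polynomial Cfsg.Agent.Lib.Helper6.AutPSL Cfsg.Agent.Lib.Helper16.UnitaryDescent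
  Cfsg.Agent.Lib.Helper16.FieldCentPSL Cfsg.Agent.Lib.Helper14.ElemOrd

variable {F : Type*} [Field F] [Fintype F] {d : ℕ}

local notation "PSLd" => Matrix.ProjectiveSpecialLinearGroup (Fin d) F

/-- the polynomial statement behind the graph-field automorphisms with a field part of order at
most two -/
def PolyBound (F : Type*) [Field F] [Fintype F] (d : ℕ) (τ : RingAut F) : Prop :=
  ∀ χ : F[X], χ.Monic → χ.natDegree = d → (rd χ).map (τ : F →+* F) = χ →
    (τ = 1 → χ.coeff 0 = (-1) ^ d) →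
    ∃ K : ℕ, 1 ≤ K ∧ 2 * K * (Fintype.card F - 1) ≤ Fintype.card F ^ d - 1 ∧
      ∃ c : F, χ ∣ X ^ K - C c

/-- a power of a matrix is scalar if its characteristic polynomial divides `X ^ K - c` -/
theorem pow_scalar_of_charpoly_dvd (A : Matrix (Fin d) (Fin d) F) (K : ℕ) (c : F)
    (h : A.charpoly ∣ X ^ K - C c) : A ^ K = c • (1 : Matrix (Fin d) (Fin d) F) := by
  have hCH : aeval A A.charpoly = 0 := Matrix.aeval_self_charpoly A
  obtain ⟨Q, hQ⟩ := h
  have h1 : aeval A (X ^ K - C c : F[X]) = 0 := by rw [hQ, map_mul, hCH, zero_mul]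
  rw [map_sub, map_pow, aeval_X, aeval_C] at h1
  rw [sub_eq_zero.mp h1, Algebra.algebraMap_eq_smul_one]

theorem graph_two_dvd (hd : 2 ≤ d) (a : GL (Fin d) F) (τ : RingAut F) (hτ : τ ^ 2 = 1) (K : ℕ)
    (hK : ∃ μ : F, (twNorm (thetaG τ 1) a 2).1 ^ K = μ • (1 : Matrix (Fin d) (Fin d) F)) :
    orderOf (cP a * fP τ * tP : MulAut PSLd) ∣ 2 * K := by
  rw [graph_eq_Theta]
  exact orderOf_dvd_of_pow cP (thetaG τ 1) (ThetaP τ 1) (ThetaP_cP τ 1) a 2 K
    (ThetaP_pow τ 1 2 hτ (fun _ => even_two)) (cP_pow_eq_one hd _ K hK)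

theorem charpoly_twNorm_two (a : GL (Fin d) F) (τ : RingAut F) (hτ : τ ^ 2 = 1) :
    (rd (twNorm (thetaG τ 1) a 2).1.charpoly).map (τ : F →+* F) =
      (twNorm (thetaG τ 1) a 2).1.charpoly := by
  have h := charpoly_theta_twNorm a τ 1 2 hτ (fun _ => even_two)
  rw [thetaG_one, charpoly_sG, charpoly_gT] at h
  exact h

theorem twNorm_two (a : GL (Fin d) F) (τ : RingAut F) :
    twNorm (thetaG τ 1) a 2 = a * thetaG τ 1 a := by
  rw [twNorm_succ, twNorm_one, Function.iterate_one]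

theorem det_gT (a : GL (Fin d) F) : (gT a).1.det = (a.1.det)⁻¹ := by
  rw [gT_val, Matrix.det_transpose]
  have h1 : (a⁻¹).1 * a.1 = 1 := by
    rw [← Units.val_mul, inv_mul_cancel, Units.val_one]
  have h2 := congrArg Matrix.det h1
  rw [Matrix.det_mul, Matrix.det_one] at h2
  exact eq_inv_of_mul_eq_one_left h2

theorem coeff_zero_twNorm_two (a : GL (Fin d) F) :
    (twNorm (thetaG (1 : RingAut F) 1) a 2).1.charpoly.coeff 0 = (-1) ^ d := by
  have hdet : (twNorm (thetaG (1 : RingAut F) 1) a 2).1.det = 1 := by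
    rw [twNorm_two, thetaG_one, sG_one, Units.val_mul, Matrix.det_mul, det_gT]
    have h0 : a.1.det ≠ 0 := by
      have h1 : a.1 * (a⁻¹).1 = 1 := by
        rw [← Units.val_mul, mul_inv_cancel, Units.val_one]
      have h2 := congrArg Matrix.det h1
      rw [Matrix.det_mul, Matrix.det_one] at h2
      exact left_ne_zero_of_mul_eq_one h2
    exact mul_inv_cancel₀ h0
  have h := Matrix.det_eq_sign_charpoly_coeff (twNorm (thetaG (1 : RingAut F) 1) a 2).1
  rw [hdet, Fintype.card_fin] at h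
  have h2 : ((-1 : F) ^ d) * ((-1) ^ d) = 1 := by
    rw [← mul_pow, neg_one_mul, neg_neg, one_pow]
  calc (twNorm (thetaG (1 : RingAut F) 1) a 2).1.charpoly.coeff 0
      = ((-1 : F) ^ d * (-1) ^ d) * (twNorm (thetaG (1 : RingAut F) 1) a 2).1.charpoly.coeff 0 := by
        rw [h2, one_mul]
    _ = (-1 : F) ^ d * ((-1) ^ d * (twNorm (thetaG (1 : RingAut F) 1) a 2).1.charpoly.coeff 0) := by
        rw [mul_assoc]
    _ = (-1) ^ d := by rw [← h, mul_one]

/-- graph-field automorphisms with a field part of order at most two -/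
theorem bound_graph_small (hd : 3 ≤ d) (a : GL (Fin d) F) (τ : RingAut F) (hτ : τ ^ 2 = 1)
    (hP : PolyBound F d τ) :
    (Fintype.card F - 1) * orderOf (cP a * fP τ * tP : MulAut PSLd) ≤ Fintype.card F ^ d - 1 := by
  obtain ⟨N, hN⟩ : ∃ N, N = twNorm (thetaG τ 1) a 2 := ⟨_, rfl⟩
  have hdual := charpoly_twNorm_two a τ hτ
  rw [← hN] at hdual
  have hc0 : τ = 1 → N.1.charpoly.coeff 0 = (-1) ^ d := by
    intro h1
    rw [hN, h1]
    exact coeff_zero_twNorm_two a
  have hdeg : N.1.charpoly.natDegree = d := by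
    rw [Matrix.charpoly_natDegree_eq_dim, Fintype.card_fin]
  obtain ⟨K, hK1, hK2, c, hK3⟩ := hP N.1.charpoly (Matrix.charpoly_monic _) hdeg hdual hc0
  have hsc := pow_scalar_of_charpoly_dvd N.1 K c hK3
  have hdvd := graph_two_dvd (by omega : 2 ≤ d) a τ hτ K ⟨c, by rw [← hN]; exact hsc⟩
  have hle : orderOf (cP a * fP τ * tP : MulAut PSLd) ≤ 2 * K :=
    Nat.le_of_dvd (by omega) hdvd
  calc (Fintype.card F - 1) * orderOf (cP a * fP τ * tP : MulAut PSLd)
      ≤ (Fintype.card F - 1) * (2 * K) := Nat.mul_le_mul_left _ hle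
    _ = 2 * K * (Fintype.card F - 1) := by ring
    _ ≤ Fintype.card F ^ d - 1 := hK2

end Cfsg.Agent.Lib.Helper16.MeoL
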