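import Mathlib
import Cfsg.Agent.Lib.Helper16.MeoLH
import Cfsg.Agent.Lib.Helper16.LBalA
import Cfsg.Agent.S2261

/-!
# Element orders in `Aut(PSL_d(q))`, part I: assembly modulo the polynomial statement
-/

set_option autoImplicit false
set_option linter.unusedSectionVars false
set_option linter.unusedVariables false
set_option linter.style.haveILetI false

namespace Cfsg.Agent.Lib.Helper16.MeoL

open Matrix Polynomial Cfsg.Agent.Lib.Helper6.AutPSL Cfsg.Agent.Lib.Helper16.UnitaryDescent
  Cfsg.Agent.Lib.Helper16.FieldCentPSL Cfsg.Agent.Lib.Helper14.ElemOrd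

variable {F : Type*} [Field F] [Fintype F] {d : ℕ}

local notation "PSLd" => Matrix.ProjectiveSpecialLinearGroup (Fin d) F

/-- the upper bound, modulo the polynomial statement -/
theorem upper_bound (hd : 2 ≤ d) (h24 : ¬ (d = 2 ∧ Fintype.card F = 4))
    (hPB : 3 ≤ d → ∀ τ : RingAut F, τ ^ 2 = 1 → PolyBound F d τ) (β : MulAut PSLd) :
    (Fintype.card F - 1) * orderOf β ≤ Fintype.card F ^ d - 1 := by
  classical
  haveI : Finite (RingAut F) := finite_ringAut
  obtain ⟨p, hp⟩ := CharP.exists F
  haveI : Fact p.Prime := ⟨CharP.char_is_prime F p⟩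
  obtain ⟨n, -, hn⟩ := FiniteField.card F p
  obtain ⟨a, τ, k, e, hk2⟩ := Cfsg.Agent.Lib.Helper16.LBal.exists_dec' hn n.pos hd β
  rcases zmod2_cases k with rfl | rfl
  · rw [tpow_zero, mul_one] at e
    rw [e]
    exact bound_field hd h24 a τ
  · have hd3 : 3 ≤ d := by
      by_contra h
      have h2 : d = 2 := by omega
      have := hk2 h2
      exact absurd this (by decide)
    rw [tpow_one] at e
    rw [e]
    by_cases h3 : 3 ≤ orderOf τ
    · exact bound_graph_big hd3 a τ h3
    · have hτ : τ ^ 2 = 1 := by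
        have hpos : 0 < orderOf τ := orderOf_pos τ
        have h12 : orderOf τ = 1 ∨ orderOf τ = 2 := by omega
        rcases h12 with h | h
        · rw [orderOf_eq_one_iff] at h
          rw [h, one_pow]
        · rw [← h]
          exact pow_orderOf_eq_one τ
      exact bound_graph_small hd3 a τ hτ (hPB hd3 τ hτ)

theorem cPbar_injective (hd : 2 ≤ d) :
    Function.Injective (cPbar : GL (Fin d) F ⧸ Subgroup.center (GL (Fin d) F) →* MulAut PSLd) := by
  rw [injective_iff_map_eq_one]
  intro x hx
  obtain ⟨g, rfl⟩ := QuotientGroup.mk_surjective x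
  rw [cPbar_mk] at hx
  have h1 : g ∈ (cP : GL (Fin d) F →* MulAut PSLd).ker := hx
  rw [cP_ker (by rw [Fintype.card_fin]; exact hd)] at h1
  exact (QuotientGroup.eq_one_iff g).mpr h1

/-- an automorphism of the maximal order -/
theorem exists_max (hd : 2 ≤ d) :
    ∃ φ : MulAut PSLd, (Fintype.card F - 1) * orderOf φ = Fintype.card F ^ d - 1 := by
  obtain ⟨g, hg⟩ := (Cfsg.Agent.S2261.result (F := F) d (by omega)).2
  refine ⟨cPbar g, ?_⟩
  rw [orderOf_injective cPbar (cPbar_injective hd) g]
  exact hg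

end Cfsg.Agent.Lib.Helper16.MeoL
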