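import Mathlib
import Cfsg.Agent.Lib.Helper16.MeoLG
import Cfsg.Agent.Lib.Helper16.Hexacode

/-!
# Element orders in `Aut(PSL_d(q))`, part J: the twisted self-reciprocal cubics over the field with
four elements
-/

set_option autoImplicit false
set_option linter.unusedSectionVars false
set_option linter.unusedVariables false
set_option linter.style.haveILetI false

namespace Cfsg.Agent.Lib.Helper16.MeoL

open Polynomial Cfsg.Agent.Lib.Helper14.ElemOrd Cfsg.Agent.Lib.Helper16

section cubic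

variable {R : Type*} [CommRing R]

/-- multiplication by `X` modulo a monic cubic, on coefficient triples -/
def cubStep (a b c : R) (u : R × R × R) : R × R × R :=
  (-(c * u.2.2), u.1 - b * u.2.2, u.2.1 - a * u.2.2)

/-- the polynomial of a coefficient triple -/
noncomputable def cubPoly (u : R × R × R) : R[X] := C u.1 + C u.2.1 * X + C u.2.2 * X ^ 2

theorem cubStep_spec (a b c : R) (u : R × R × R) :
    X * cubPoly u = cubPoly (cubStep a b c u) +
      C u.2.2 * (X ^ 3 + C a * X ^ 2 + C b * X + C c) := by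
  unfold cubPoly cubStep
  simp only [map_sub, map_neg, map_mul]
  ring

theorem cub_dvd (a b c : R) (K : ℕ) :
    (X ^ 3 + C a * X ^ 2 + C b * X + C c : R[X]) ∣
      X ^ K - cubPoly ((cubStep a b c)^[K] (1, 0, 0)) := by
  induction K with
  | zero =>
    have : (X : R[X]) ^ 0 - cubPoly ((cubStep a b c)^[0] (1, 0, 0)) = 0 := by
      unfold cubPoly
      simp
    rw [this]
    exact dvd_zero _
  | succ K ih =>
    rw [Function.iterate_succ_apply']
    obtain ⟨u, hu⟩ : ∃ u, u = (cubStep a b c)^[K] (1, 0, 0) := ⟨_, rfl⟩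
    rw [← hu] at ih ⊢
    have h1 := cubStep_spec a b c u
    have h2 : (X : R[X]) ^ (K + 1) - cubPoly (cubStep a b c u) =
        X * (X ^ K - cubPoly u) + C u.2.2 * (X ^ 3 + C a * X ^ 2 + C b * X + C c) := by
      rw [pow_succ]
      linear_combination h1
    rw [h2]
    exact dvd_add (dvd_mul_of_dvd_right ih _) (dvd_mul_left _ _)

end cubic

/-- the encoded step -/
def cubStepE (a b c : Fin 4) (u : Fin 4 × Fin 4 × Fin 4) : Fin 4 × Fin 4 × Fin 4 :=
  (f4mul c u.2.2, f4add u.1 (f4mul b u.2.2), f4add u.2.1 (f4mul a u.2.2))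

theorem cub_table : ∀ a b c : Fin 4, c ≠ 0 → f4mul b (f4mul c c) = f4mul a a →
    ∃ K : Fin 11, 1 ≤ K.val ∧ ((cubStepE a b c)^[K.val] (1, 0, 0)).2 = (0, 0) := by
  decide

section enc

variable {F : Type*} [Field F]

/-- decoding of triples -/
def encT (ω : F) (u : Fin 4 × Fin 4 × Fin 4) : F × F × F := (f4e ω u.1, f4e ω u.2.1, f4e ω u.2.2)

theorem encT_step (ω : F) (hω : ω ^ 2 + ω + 1 = 0) (h2 : (2 : F) = 0) (a b c : Fin 4)
    (u : Fin 4 × Fin 4 × Fin 4) :
    encT ω (cubStepE a b c u) = cubStep (f4e ω a) (f4e ω b) (f4e ω c) (encT ω u) := by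
  have hneg : ∀ x : F, -x = x := by
    intro x
    have : x + x = 0 := by rw [← two_mul, h2, zero_mul]
    exact neg_eq_of_add_eq_zero_left this
  unfold encT cubStepE cubStep
  simp only [f4e_add ω hω h2, f4e_mul ω hω h2, sub_eq_add_neg, hneg]

theorem encT_iterate (ω : F) (hω : ω ^ 2 + ω + 1 = 0) (h2 : (2 : F) = 0) (a b c : Fin 4) (K : ℕ)
    (u : Fin 4 × Fin 4 × Fin 4) :
    encT ω ((cubStepE a b c)^[K] u) = (cubStep (f4e ω a) (f4e ω b) (f4e ω c))^[K] (encT ω u) := by
  induction K with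
  | zero => rfl
  | succ K ih =>
    rw [Function.iterate_succ_apply', Function.iterate_succ_apply', encT_step ω hω h2, ih]

end enc

section main

variable {F : Type*} [Field F] [Fintype F]

theorem exists_f4_omega (hF : Fintype.card F = 4) : ∃ ω : F, ω ^ 2 + ω + 1 = 0 := by
  classical
  have h1 : ∃ x : F, x ∉ ({0, 1} : Finset F) := by
    by_contra h
    push Not at h
    have h2 : (Finset.univ : Finset F) ⊆ {0, 1} := fun x _ => h x
    have h3 := Finset.card_le_card h2
    rw [Finset.card_univ, hF] at h3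
    have h4 : ({0, 1} : Finset F).card ≤ 2 := Finset.card_le_two
    omega
  obtain ⟨x, hx⟩ := h1
  rw [Finset.mem_insert, Finset.mem_singleton] at hx
  push Not at hx
  have h3 : x ^ 3 = 1 := by
    have := FiniteField.pow_card_sub_one_eq_one x hx.1
    rwa [hF] at this
  refine ⟨x, ?_⟩
  have h4 : (x - 1) * (x ^ 2 + x + 1) = 0 := by
    have : (x - 1) * (x ^ 2 + x + 1) = x ^ 3 - 1 := by ring
    rw [this, h3, sub_self]
  rcases mul_eq_zero.mp h4 with h | h
  · exact absurd (sub_eq_zero.mp h) hx.2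
  · exact h

/-- the involution of the field with four elements is the squaring map -/
theorem f4_aut_eq_sq (hF : Fintype.card F = 4) (τ : RingAut F) (hτ : τ ≠ 1) (x : F) :
    τ x = x * x := by
  obtain ⟨ω, hω⟩ := exists_f4_omega hF
  have h2 := hex_two_eq_zero hF
  have hsurj := f4e_surjective hF ω hω
  have hω0 : ω ≠ 0 := by
    rintro rfl
    norm_num at hω
  have hω1 : ω ≠ 1 := by
    rintro rfl
    have : (1 : F) ^ 2 + 1 + 1 = 2 + 1 := by ring
    rw [this, h2, zero_add] at hω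
    exact one_ne_zero hω
  have hτω : τ ω = ω ^ 2 := by
    obtain ⟨i, hi⟩ := hsurj (τ ω)
    fin_cases i
    · exfalso
      have h1 : τ ω = 0 := hi.symm
      have h3 : τ ω = τ 0 := by rw [h1, map_zero]
      exact hω0 (τ.injective h3)
    · exfalso
      have h1 : τ ω = 1 := hi.symm
      have h3 : τ ω = τ 1 := by rw [h1, map_one]
      exact hω1 (τ.injective h3)
    · exfalso
      have h1 : τ ω = ω := hi.symm
      apply hτ
      ext y
      obtain ⟨j, hj⟩ := hsurj y
      rw [← hj]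
      fin_cases j
      · exact map_zero τ
      · exact map_one τ
      · exact h1
      · show τ (ω ^ 2) = ω ^ 2
        rw [map_pow, h1]
    · exact hi.symm
  have hω3 : ω ^ 3 = 1 := by
    have : ω ^ 3 - 1 = (ω - 1) * (ω ^ 2 + ω + 1) := by ring
    rw [hω, mul_zero] at this
    exact sub_eq_zero.mp this
  obtain ⟨j, hj⟩ := hsurj x
  rw [← hj]
  fin_cases j
  · show τ 0 = 0 * 0
    rw [map_zero, mul_zero]
  · show τ 1 = 1 * 1
    rw [map_one, mul_one]
  · show τ ω = ω * ω
    rw [hτω, pow_two]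
  · show τ (ω ^ 2) = ω ^ 2 * ω ^ 2
    rw [map_pow, hτω]
    have : (ω ^ 2) ^ 2 = ω ^ 3 * ω := by ring
    rw [this, hω3, one_mul]
    have : ω ^ 2 * ω ^ 2 = ω ^ 3 * ω := by ring
    rw [this, hω3, one_mul]

/-- the twisted self-reciprocal cubics over the field with four elements -/
theorem unitary_three_four (hF : Fintype.card F = 4) (τ : RingAut F) (hτ : τ ≠ 1) (χ : F[X])
    (hm : χ.Monic) (hdeg : χ.natDegree = 3) (hdual : (rd χ).map (τ : F →+* F) = χ) :
    ∃ K : ℕ, 1 ≤ K ∧ K ≤ 10 ∧ ∃ c : F, χ ∣ X ^ K - C c := by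
  obtain ⟨ω, hω⟩ := exists_f4_omega hF
  have h2 := hex_two_eq_zero hF
  have hsurj := f4e_surjective hF ω hω
  -- the shape of `χ`
  have hχ : χ = X ^ 3 + C (χ.coeff 2) * X ^ 2 + C (χ.coeff 1) * X + C (χ.coeff 0) := by
    have h3 : χ.coeff 3 = 1 := by
      have := hm.leadingCoeff
      rwa [Polynomial.leadingCoeff, hdeg] at this
    conv_lhs => rw [Polynomial.as_sum_range' χ 4 (by rw [hdeg]; norm_num)]
    rw [Finset.sum_range_succ, Finset.sum_range_succ, Finset.sum_range_succ, Finset.sum_range_one,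
      h3, ← C_mul_X_pow_eq_monomial, ← C_mul_X_pow_eq_monomial, ← C_mul_X_pow_eq_monomial,
      ← C_mul_X_pow_eq_monomial, pow_zero, pow_one, mul_one, map_one, one_mul]
    ring
  -- the relations between the coefficients
  have hc0 : χ.coeff 0 ≠ 0 := by
    intro h0
    have h6 : rd χ = 0 := by
      rw [rd_def, h0, _root_.inv_zero, C_0, zero_mul]
    rw [h6, Polynomial.map_zero] at hdual
    exact hm.ne_zero hdual.symm
  have hrel : χ.coeff 1 * (χ.coeff 0 * χ.coeff 0) = χ.coeff 2 * χ.coeff 2 := by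
    have h3 := congrArg (fun f : F[X] => f.coeff 1) hdual
    simp only [coeff_map] at h3
    rw [rd_def, coeff_C_mul, Polynomial.coeff_reverse, hdeg] at h3
    have h4 : Polynomial.revAt 3 1 = 2 := by decide
    rw [h4] at h3
    have h5 : τ ((χ.coeff 0)⁻¹ * χ.coeff 2) = χ.coeff 1 := h3
    rw [map_mul, map_inv₀, f4_aut_eq_sq hF τ hτ, f4_aut_eq_sq hF τ hτ] at h5
    rw [← h5]
    field_simp
  obtain ⟨a, ha⟩ := hsurj (χ.coeff 2)
  obtain ⟨b, hb⟩ := hsurj (χ.coeff 1)
  obtain ⟨c, hc⟩ := hsurj (χ.coeff 0)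
  have hcne : c ≠ 0 := by
    rintro rfl
    exact hc0 hc.symm
  have hrelE : f4mul b (f4mul c c) = f4mul a a := by
    apply f4e_injective ω hω h2
    rw [f4e_mul ω hω h2, f4e_mul ω hω h2, f4e_mul ω hω h2, ha, hb, hc]
    exact hrel
  obtain ⟨K, hK1, hK2⟩ := cub_table a b c hcne hrelE
  refine ⟨K.val, hK1, by have := K.2; omega, ?_⟩
  have hdvd := cub_dvd (χ.coeff 2) (χ.coeff 1) (χ.coeff 0) K.val
  rw [← hχ] at hdvd
  have henc := encT_iterate ω hω h2 a b c K.val (1, 0, 0)
  rw [ha, hb, hc] at henc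
  have h10 : encT ω (1, 0, 0) = ((1 : F), (0 : F), (0 : F)) := rfl
  rw [h10] at henc
  rw [← henc] at hdvd
  obtain ⟨v, hv⟩ : ∃ v, v = (cubStepE a b c)^[K.val] (1, 0, 0) := ⟨_, rfl⟩
  rw [← hv] at hdvd hK2
  refine ⟨f4e ω v.1, ?_⟩
  have h11 : cubPoly (encT ω v) = C (f4e ω v.1) := by
    unfold cubPoly encT
    have h12 : v.2.1 = 0 := congrArg Prod.fst hK2
    have h13 : v.2.2 = 0 := congrArg Prod.snd hK2
    simp only [h12, h13, f4e_zero, map_zero, zero_mul, add_zero]
  rw [h11] at hdvd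
  exact hdvd

end main

end Cfsg.Agent.Lib.Helper16.MeoL
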