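import Mathlib
import Cfsg.Agent.Lib.Helper14.ElemOrd5

/-!
# Element orders in `Aut(PSL_d(q))`, part K: self-reciprocal polynomials with constant coefficient
`(-1)^d` (the pure graph case)
-/

set_option autoImplicit false
set_option linter.unusedSectionVars false
set_option linter.unusedVariables false
set_option linter.style.haveILetI false

namespace Cfsg.Agent.Lib.Helper16.MeoL

open Polynomial Cfsg.Agent.Lib.Helper14.ElemOrd


theorem num_core (q a b N : ℕ) (hq : 2 ≤ q) (hB : 3 ≤ q ^ b) (hN : (q - 1) * N ≤ q ^ a) :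
    2 * N * (q - 1) ≤ q ^ (a + b) - 1 := by
  have hA : 1 ≤ q ^ a := Nat.one_le_pow _ _ (by omega)
  have h1 : 2 * N * (q - 1) = 2 * ((q - 1) * N) := by ring
  have h2 : 3 * q ^ a ≤ q ^ a * q ^ b := by
    rw [mul_comm]; exact Nat.mul_le_mul_left _ hB
  rw [h1, pow_add]
  omega

theorem num_pm (q m T : ℕ) (hq : 3 ≤ q) (hm : 1 ≤ m) (hT : T ≤ q ^ m) :
    2 * (2 * T) * (q - 1) ≤ q ^ (2 * m + 1) - 1 := by
  have h1 : q ^ (2 * m + 1) = q ^ m * q ^ m * q := by ring
  have hqA : q ≤ q ^ m := by
    calc q = q ^ 1 := (pow_one q).symm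
      _ ≤ q ^ m := Nat.pow_le_pow_right (by omega) hm
  rw [h1]
  generalize q ^ m = A at *
  obtain ⟨r, rfl⟩ : ∃ r, q = r + 3 := ⟨q - 3, by omega⟩
  have h2 : r + 3 - 1 = r + 2 := by omega
  rw [h2]
  have h3 : 2 * (2 * T) * (r + 2) ≤ 2 * (2 * A) * (r + 2) := by
    apply Nat.mul_le_mul_right
    omega
  have h4 : 2 * (2 * A) * (r + 2) + 1 ≤ A * A * (r + 3) := by
    obtain ⟨s, rfl⟩ : ∃ s, A = r + 3 + s := ⟨A - (r + 3), by omega⟩
    nlinarith [Nat.zero_le r, Nat.zero_le s, Nat.zero_le (r * s), Nat.zero_le (r * r), Nat.zero_le (s * s)]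
  omega



variable {F : Type*} [Field F] [Fintype F]

theorem two_eq_zero_of_card (hF : Fintype.card F = 2) : (2 : F) = 0 := by
  have h := Nat.cast_card_eq_zero F
  rw [hF] at h
  exact_mod_cast h

theorem zero_or_one_of_card (hF : Fintype.card F = 2) (x : F) : x = 0 ∨ x = 1 := by
  classical
  by_contra h
  push Not at h
  have h1 : ({0, 1, x} : Finset F).card = 3 := by
    rw [Finset.card_insert_of_notMem, Finset.card_insert_of_notMem, Finset.card_singleton]
    · rw [Finset.mem_singleton]; exact fun e => h.2 e.symm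
    · rw [Finset.mem_insert, Finset.mem_singleton]
      push Not
      exact ⟨zero_ne_one, fun e => h.1 e.symm⟩
  have h2 := Finset.card_le_univ ({0, 1, x} : Finset F)
  rw [h1, hF] at h2
  omega

/-- the self-reciprocal quartics over the field with two elements -/
theorem special_four_two (hF : Fintype.card F = 2) (χ : F[X]) (hm : χ.Monic)
    (hdeg : χ.natDegree = 4) (hrd : rd χ = χ) (h0 : χ.coeff 0 = 1) :
    ∃ K : ℕ, 1 ≤ K ∧ K ≤ 6 ∧ χ ∣ X ^ K + 1 := by
  have h2 := two_eq_zero_of_card hF
  have h2' : (2 : F[X]) = 0 := by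
    have : (2 : F[X]) = C (2 : F) := (map_ofNat C 2).symm
    rw [this, h2, C_0]
  have h4 : χ.coeff 4 = 1 := by
    have := hm.leadingCoeff
    rwa [Polynomial.leadingCoeff, hdeg] at this
  have h13 : χ.coeff 1 = χ.coeff 3 := by
    have h3 : (rd χ).coeff 1 = χ.coeff 1 := by rw [hrd]
    rw [rd_def, coeff_C_mul, Polynomial.coeff_reverse, hdeg, h0, inv_one, one_mul] at h3
    have h5 : Polynomial.revAt 4 1 = 3 := by decide
    rw [h5] at h3
    exact h3.symm
  have hχ : χ = X ^ 4 + C (χ.coeff 3) * X ^ 3 + C (χ.coeff 2) * X ^ 2 + C (χ.coeff 3) * X + 1 := by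
    conv_lhs => rw [Polynomial.as_sum_range' χ 5 (by rw [hdeg]; norm_num)]
    rw [Finset.sum_range_succ, Finset.sum_range_succ, Finset.sum_range_succ, Finset.sum_range_succ,
      Finset.sum_range_one, h4, h0, h13, ← C_mul_X_pow_eq_monomial, ← C_mul_X_pow_eq_monomial,
      ← C_mul_X_pow_eq_monomial, ← C_mul_X_pow_eq_monomial, ← C_mul_X_pow_eq_monomial, pow_zero,
      pow_one, mul_one, map_one, one_mul]
    ring
  rcases zero_or_one_of_card hF (χ.coeff 3) with ha | ha <;>
    rcases zero_or_one_of_card hF (χ.coeff 2) with hb | hb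
  · refine ⟨4, by norm_num, by norm_num, ?_⟩
    rw [hχ, ha, hb]
    simp only [map_zero, zero_mul, add_zero]
    exact dvd_refl _
  · refine ⟨6, by norm_num, by norm_num, ?_⟩
    rw [hχ, ha, hb]
    refine ⟨X ^ 2 + 1, ?_⟩
    simp only [map_zero, map_one, zero_mul, one_mul, add_zero]
    linear_combination (-(X : F[X]) ^ 4 - X ^ 2) * h2'
  · refine ⟨6, by norm_num, by norm_num, ?_⟩
    rw [hχ, ha, hb]
    refine ⟨X ^ 2 + X + 1, ?_⟩
    simp only [map_zero, map_one, zero_mul, one_mul, add_zero]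
    linear_combination (-(X : F[X]) ^ 5 - X ^ 4 - X ^ 3 - X ^ 2 - X) * h2'
  · refine ⟨5, by norm_num, by norm_num, ?_⟩
    rw [hχ, ha, hb]
    refine ⟨X + 1, ?_⟩
    simp only [map_one, one_mul]
    linear_combination (-(X : F[X]) ^ 4 - X ^ 3 - X ^ 2 - X) * h2'


/-- self-reciprocal polynomials of even degree -/
theorem even_selfdual (p : ℕ) [Fact p.Prime] [CharP F p] (χ : F[X]) (m : ℕ) (hm : 2 ≤ m)
    (hχm : χ.Monic) (hdeg : χ.natDegree = 2 * m) (hrd : rd χ = χ) (h0 : χ.coeff 0 = 1) :
    ∃ K, 1 ≤ K ∧ 2 * K * (Fintype.card F - 1) ≤ Fintype.card F ^ (2 * m) - 1 ∧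
      (χ ∣ X ^ K - 1 ∨ χ ∣ X ^ K + 1) := by
  obtain ⟨hp2, hpq, hq2⟩ := card_facts (F := F) p
  by_cases hex : m = 2 ∧ Fintype.card F = 2
  · obtain ⟨rfl, hq⟩ := hex
    obtain ⟨K, hK1, hK6, hK⟩ := special_four_two hq χ hχm hdeg hrd h0
    refine ⟨K, hK1, ?_, Or.inr hK⟩
    rw [hq]
    norm_num
    omega
  · obtain ⟨N, hN1, hN2, hN3⟩ := even_bound p χ m (by omega) hχm hdeg hrd h0
    refine ⟨N, hN1, ?_, hN3⟩
    have hB : 3 ≤ Fintype.card F ^ (m - 1) := by
      rcases Nat.lt_or_ge (Fintype.card F) 3 with h | h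
      · have hq : Fintype.card F = 2 := by omega
        have hm3 : 3 ≤ m := by
          by_contra h'
          exact hex ⟨by omega, hq⟩
        rw [hq]
        calc 3 ≤ 2 ^ 2 := by norm_num
          _ ≤ 2 ^ (m - 1) := Nat.pow_le_pow_right (by norm_num) (by omega)
      · calc 3 ≤ Fintype.card F := h
          _ = Fintype.card F ^ 1 := (pow_one _).symm
          _ ≤ Fintype.card F ^ (m - 1) := Nat.pow_le_pow_right (by omega) (by omega)
    have := num_core _ (m + 1) (m - 1) N hq2 hB hN2
    rw [show m + 1 + (m - 1) = 2 * m by omega] at this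
    exact this

/-- self-reciprocal polynomials of odd degree -/
theorem odd_selfdual (p : ℕ) [Fact p.Prime] [CharP F p] (χ : F[X]) (m : ℕ) (hm : 1 ≤ m)
    (hχm : χ.Monic) (hdeg : χ.natDegree = 2 * m + 1) (hrd : rd χ = χ) (h0 : χ.coeff 0 = -1)
    (hex : ¬ (m = 1 ∧ Fintype.card F = 2)) :
    ∃ K, 1 ≤ K ∧ 2 * K * (Fintype.card F - 1) ≤ Fintype.card F ^ (2 * m + 1) - 1 ∧
      (χ ∣ X ^ K - 1 ∨ χ ∣ X ^ K + 1) := by
  classical
  obtain ⟨hp2, hpq, hq2⟩ := card_facts (F := F) p
  have h0' : χ.coeff 0 ≠ 0 := by rw [h0]; exact neg_ne_zero.mpr one_ne_zero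
  obtain ⟨j, l, ψ, hχ, hψm, hψ0, hψrd, hψ1, hψm1, h2l⟩ := exists_decomp hχm h0' hrd
  have hb := bounded_of_selfdual p ψ.natDegree ψ le_rfl hψm hψ0 hψrd hψ1 hψm1
  have heven := even_of_bounded hb
  have hdeg' : j + l + ψ.natDegree = 2 * m + 1 := by
    rw [← hdeg, hχ, natDegree_decomp j l hψm]
  have hψc : ψ.coeff 0 = 1 := coeff_zero_eq_one_of_rd hψrd hψ1
  have hsign : (-1 : F) ^ j = -1 := by
    have := eval_zero_decomp j l ψ
    rw [← hχ, h0, hψc, mul_one] at this
    exact this.symm
  have hpow : ∀ c : ℕ, p ^ c ≤ Fintype.card F ^ c := fun c => Nat.pow_le_pow_left hpq c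
  have hqm : Fintype.card F ≤ Fintype.card F ^ m := by
    calc Fintype.card F = Fintype.card F ^ 1 := (pow_one _).symm
      _ ≤ Fintype.card F ^ m := Nat.pow_le_pow_right (by omega) hm
  by_cases h2 : (2 : F) = 0
  · -- characteristic two
    have h2' : (2 : F[X]) = 0 := by
      have : (2 : F[X]) = C (2 : F) := (map_ofNat C 2).symm
      rw [this, h2, C_0]
    have hl0 : l = 0 := h2l h2
    have hp : p = 2 := by
      have h3 : ((2 : ℕ) : F) = 0 := by exact_mod_cast h2
      rw [CharP.cast_eq_zero_iff F p] at h3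
      exact (Nat.prime_dvd_prime_iff_eq Fact.out Nat.prime_two).mp h3
    have hjodd : Odd j := by
      obtain ⟨c, hc⟩ := heven
      exact ⟨m - c, by omega⟩
    obtain ⟨c, hc⟩ := hjodd
    have hTl : T p l ≤ Fintype.card F ^ 0 := by rw [hl0, T_zero, pow_zero]
    -- the main case
    have B1 : T p j ≤ Fintype.card F ^ c → 3 ≤ Fintype.card F ^ m →
        ∃ K, 1 ≤ K ∧ 2 * K * (Fintype.card F - 1) ≤ Fintype.card F ^ (2 * m + 1) - 1 ∧
          (χ ∣ X ^ K - 1 ∨ χ ∣ X ^ K + 1) := by
      intro hTj hB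
      obtain ⟨N, hN1, hN2, hN3⟩ := assemble_main p χ ψ j l c 0 m hχ hb hψ1 hψm1 hTj hTl
        (by omega) (Or.inl ⟨h2, hl0⟩)
      refine ⟨N, hN1, ?_, Or.inl hN3⟩
      have := num_core _ (m + 1) m N hq2 hB hN2
      rw [show m + 1 + m = 2 * m + 1 by ring] at this
      exact this
    have hTj1 : T p j ≤ p ^ (c + 1) := by
      apply T_le_of_le_pow hp2
      have h1 := two_mul_le_two_pow (c + 1) (by omega)
      have h3 : 2 ^ (c + 1) ≤ p ^ (c + 1) := Nat.pow_le_pow_left hp2 _
      omega
    by_cases hq : Fintype.card F = 2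
    · have hm2 : 2 ≤ m := by
        by_contra h
        exact hex ⟨by omega, hq⟩
      have hB : 3 ≤ Fintype.card F ^ m := by
        rw [hq]
        calc 3 ≤ 2 ^ 2 := by norm_num
          _ ≤ 2 ^ m := Nat.pow_le_pow_right (by norm_num) hm2
      by_cases hc0 : c = 0
      · apply B1 _ hB
        rw [hc, hc0, pow_zero]
        unfold T
        simp
      · by_cases hm3 : 3 ≤ m
        · obtain ⟨N, hN1, hN2, hN3⟩ := assemble_main p χ ψ j l (c + 1) 0 (m + 1) hχ hb hψ1 hψm1
            (hTj1.trans (hpow _)) hTl (by omega) (Or.inl ⟨h2, hl0⟩)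
          refine ⟨N, hN1, ?_, Or.inl hN3⟩
          have hB' : 3 ≤ Fintype.card F ^ (m - 1) := by
            rw [hq]
            calc 3 ≤ 2 ^ 2 := by norm_num
              _ ≤ 2 ^ (m - 1) := Nat.pow_le_pow_right (by norm_num) (by omega)
          have := num_core _ (m + 1 + 1) (m - 1) N hq2 hB' hN2
          rw [show m + 1 + 1 + (m - 1) = 2 * m + 1 by omega] at this
          exact this
        · -- the quintics over the field with two elements
          have hm2' : m = 2 := by omega
          obtain ⟨χ', hχ'⟩ : ∃ χ' : F[X], χ' = (X - 1) ^ (j - 1) * (X + 1) ^ l * ψ := ⟨_, rfl⟩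
          have hχ'rd : rd χ' = χ' := by
            rw [hχ', rd_mul, rd_mul, rd_pow, rd_pow, rd_X_sub_one, rd_X_add_one, hψrd]
          have hX1 : (X - 1 : F[X]).Monic := by
            have := monic_X_sub_C (1 : F)
            rwa [map_one] at this
          have hX2 : (X + 1 : F[X]).Monic := by
            have := monic_X_add_C (1 : F)
            rwa [map_one] at this
          have hχ'm : χ'.Monic := by
            rw [hχ']
            exact ((hX1.pow _).mul (hX2.pow _)).mul hψm
          have hχ'deg : χ'.natDegree = 4 := by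
            rw [hχ', natDegree_decomp (j - 1) l hψm]
            omega
          have hχ'0 : χ'.coeff 0 = 1 := by
            rw [hχ', eval_zero_decomp, hψc, mul_one]
            have : j - 1 = 2 * c := by omega
            rw [this, pow_mul, neg_one_sq, one_pow]
          obtain ⟨K', hK'1, hK'6, hK'd⟩ := special_four_two hq χ' hχ'm hχ'deg hχ'rd hχ'0
          have hχχ' : χ = (X - 1) * χ' := by
            rw [hχ, hχ']
            have : j = (j - 1) + 1 := by omega
            conv_lhs => rw [this, pow_succ]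
            ring
          refine ⟨2 * K', by omega, ?_, Or.inr ?_⟩
          · rw [hq, hm2']
            norm_num
            omega
          · have h5 : ((X : F[X]) ^ K' + 1) ^ (p ^ 1) = X ^ (K' * p ^ 1) + 1 := frob_add p K' 1
            rw [hp, pow_one] at h5
            rw [mul_comm 2 K', ← h5, pow_two, hχχ']
            apply mul_dvd_mul _ hK'd
            have h6 : ((X : F[X]) ^ K' + 1) = X ^ K' - 1 := by linear_combination h2'
            rw [h6]
            have := sub_dvd_pow_sub_pow (X : F[X]) 1 K'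
            rwa [one_pow] at this
    · -- at least four elements
      obtain ⟨n, -, hn⟩ := FiniteField.card F p
      have hq4 : 4 ≤ Fintype.card F := by
        rw [hn, hp]
        have hn2 : 2 ≤ (n : ℕ) := by
          by_contra h
          have h1 : (n : ℕ) = 1 := by
            have := n.pos
            omega
          rw [hn, hp, h1, pow_one] at hq
          exact hq rfl
        calc 4 = 2 ^ 2 := by norm_num
          _ ≤ 2 ^ (n : ℕ) := Nat.pow_le_pow_right (by norm_num) hn2
      have hB : 3 ≤ Fintype.card F ^ m := by omega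
      apply B1 _ hB
      by_cases hc0 : c = 0
      · rw [hc, hc0, pow_zero]
        unfold T
        simp
      · refine hTj1.trans ?_
        rw [hp]
        calc 2 ^ (c + 1) ≤ 2 ^ (2 * c) := Nat.pow_le_pow_right (by norm_num) (by omega)
          _ = 4 ^ c := by rw [pow_mul]; norm_num
          _ ≤ Fintype.card F ^ c := Nat.pow_le_pow_left hq4 c
  · -- odd characteristic
    have hp3 : 3 ≤ p := by
      rcases Nat.lt_or_ge p 3 with h | h
      · exfalso
        have hp' : p = 2 := by omega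
        apply h2
        have h3 := CharP.cast_eq_zero F p
        rw [hp'] at h3
        exact_mod_cast h3
      · exact h
    have hne : (-1 : F) ≠ 1 := by
      intro h
      apply h2
      have : (1 : F) + 1 = 0 := by
        nth_rewrite 1 [← h]
        exact neg_add_cancel 1
      rw [← one_add_one_eq_two]
      exact this
    have hjodd : Odd j := (neg_one_pow_eq_neg_one_iff_odd hne).mp hsign
    have hleven : Even l := by
      obtain ⟨c, hc⟩ := heven
      obtain ⟨c', hc'⟩ := hjodd
      exact ⟨m - c - c', by omega⟩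
    obtain ⟨cj, hcj⟩ := hjodd
    obtain ⟨cl, hcl⟩ := hleven
    have hl2 : l = 2 * cl := by omega
    have hodd := odd_card_of_two_ne_zero h2
    have hq3 : 3 ≤ Fintype.card F := by
      obtain ⟨k, hk⟩ := hodd
      omega
    have hB : 3 ≤ Fintype.card F ^ m := hq3.trans hqm
    by_cases hψ1' : ψ = 1
    · have hdψ : ψ.natDegree = 0 := by rw [hψ1']; exact natDegree_one
      by_cases hl0 : l = 0
      · obtain ⟨N, hN1, hN2, hN3⟩ := assemble_pm (F := F) p j l m hm
          (by
            intro _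
            have : j = 2 * m + 1 := by omega
            rw [this]
            exact (T_two_mul_add_one hp3 m).trans (hpow m))
          (by
            intro hj0
            omega)
          (by
            intro hj hl
            omega)
        refine ⟨N, hN1, ?_, ?_⟩
        · have := num_core _ (m + 1) m N hq2 hB hN2
          rw [show m + 1 + m = 2 * m + 1 by ring] at this
          exact this
        · rw [hχ, hψ1', mul_one]
          exact hN3
      · obtain ⟨t, ht⟩ : ∃ t, t = Nat.clog p (max j l) := ⟨_, rfl⟩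
        have hT : T p (max j l) = p ^ t := by rw [ht]; rfl
        have hmax : max j l ≤ 2 * m := max_le (by omega) (by omega)
        have hTle : p ^ t ≤ Fintype.card F ^ m := by
          rw [← hT]
          exact ((T_mono hp2 hmax).trans (T_two_mul hp2 m)).trans (hpow m)
        refine ⟨2 * p ^ t, ?_, num_pm _ m (p ^ t) hq3 hm hTle, Or.inl ?_⟩
        · have : 0 < p ^ t := pow_pos (by omega) t
          omega
        · rw [hχ, hψ1', mul_one, ← frob_sub p 2 t, ← hT]
          exact (X_sub_one_pow_mul_dvd j l 2 (dvd_refl _)).trans (pow_dvd_pow _ (le_T hp2 _))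
    · obtain ⟨N, hN1, hN2, hN3⟩ := assemble_main p χ ψ j l cj cl m hχ hb hψ1 hψm1
        (by rw [hcj]; exact (T_two_mul_add_one hp3 cj).trans (hpow cj))
        (by rw [hl2]; exact (T_two_mul hp2 cl).trans (hpow cl)) (by omega)
        (Or.inr ⟨hodd, hψ1'⟩)
      refine ⟨N, hN1, ?_, Or.inl hN3⟩
      have := num_core _ (m + 1) m N hq2 hB hN2
      rw [show m + 1 + m = 2 * m + 1 by ring] at this
      exact this

/-- the bound for self-reciprocal polynomials with constant coefficient `(-1)^d` -/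
theorem selfdual_scalar_bound (d : ℕ) (hd : 3 ≤ d) (h32 : ¬ (d = 3 ∧ Fintype.card F = 2))
    (χ : F[X]) (hm : χ.Monic) (hdeg : χ.natDegree = d) (hrd : rd χ = χ)
    (hc0 : χ.coeff 0 = (-1) ^ d) :
    ∃ K : ℕ, 1 ≤ K ∧ 2 * K * (Fintype.card F - 1) ≤ Fintype.card F ^ d - 1 ∧
      (χ ∣ X ^ K - 1 ∨ χ ∣ X ^ K + 1) := by
  obtain ⟨p, hp⟩ := CharP.exists F
  haveI : Fact p.Prime := ⟨CharP.char_is_prime F p⟩
  obtain ⟨m, rfl | rfl⟩ := Nat.even_or_odd' d
  · rw [pow_mul, neg_one_sq, one_pow] at hc0
    exact even_selfdual p χ m (by omega) hm hdeg hrd hc0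
  · rw [pow_succ, pow_mul, neg_one_sq, one_pow, one_mul] at hc0
    apply odd_selfdual p χ m (by omega) hm hdeg hrd hc0
    rintro ⟨h1, h2⟩
    exact h32 ⟨by omega, h2⟩

end Cfsg.Agent.Lib.Helper16.MeoL
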