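import Mathlib
import Cfsg.Agent.Lib.Helper16.MeoLI
import Cfsg.Agent.Lib.Helper16.MeoLJ
import Cfsg.Agent.Lib.Helper16.MeoLK

/-!
# Element orders in `Aut(PSL_d(q))`, part L: the polynomial statement and the final bound
-/

set_option autoImplicit false
set_option linter.unusedSectionVars false
set_option linter.unusedVariables false
set_option linter.style.haveILetI false

namespace Cfsg.Agent.Lib.Helper16.MeoL

open Matrix Polynomial Cfsg.Agent.Lib.Helper6.AutPSL Cfsg.Agent.Lib.Helper14.ElemOrd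

variable {F : Type*} [Field F] [Fintype F] {d : ℕ}

local notation "PSLd" => Matrix.ProjectiveSpecialLinearGroup (Fin d) F

theorem polyBound_of (hd : 3 ≤ d) (h32 : ¬ (d = 3 ∧ Fintype.card F = 2)) (τ : RingAut F)
    (hτ : τ ^ 2 = 1) : PolyBound F d τ := by
  intro χ hm hdeg hdual hc0
  have hpm : ∀ K : ℕ, (χ ∣ X ^ K - 1 ∨ χ ∣ X ^ K + 1) → ∃ c : F, χ ∣ X ^ K - C c := by
    intro K h
    rcases h with h | h
    · exact ⟨1, by rwa [map_one]⟩
    · exact ⟨-1, by rw [map_neg, map_one, sub_neg_eq_add]; exact h⟩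
  by_cases h1 : τ = 1
  · have hrd : rd χ = χ := by
      rw [h1] at hdual
      have h2 : (((1 : RingAut F) : F ≃+* F) : F →+* F) = RingHom.id F := rfl
      rw [h2, Polynomial.map_id] at hdual
      exact hdual
    obtain ⟨K, hK1, hK2, hK3⟩ := selfdual_scalar_bound d hd h32 χ hm hdeg hrd (hc0 h1)
    exact ⟨K, hK1, hK2, hpm K hK3⟩
  · haveI : Fact (Nat.Prime 2) := ⟨Nat.prime_two⟩
    have hτ2 : orderOf τ = 2 := orderOf_eq_prime hτ h1
    by_cases h34 : d = 3 ∧ Fintype.card F = 4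
    · obtain ⟨rfl, hF⟩ := h34
      obtain ⟨K, hK1, hK10, c, hK⟩ := unitary_three_four hF τ h1 χ hm hdeg hdual
      refine ⟨K, hK1, ?_, c, hK⟩
      rw [hF]
      norm_num
      omega
    · obtain ⟨K, hK1, hK2, hK3⟩ := unitary_poly_bound τ hτ2 d hd h34 χ hm hdeg hdual
      exact ⟨K, hK1, hK2, hpm K hK3⟩

/-- the maximal order of an automorphism of `PSL_d(q)` -/
theorem aut_psl_max_order (hd : 2 ≤ d) (h24 : ¬ (d = 2 ∧ Fintype.card F = 4))
    (h32 : ¬ (d = 3 ∧ Fintype.card F = 2)) :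
    (∀ φ : MulAut PSLd, (Fintype.card F - 1) * orderOf φ ≤ Fintype.card F ^ d - 1) ∧
    (∃ φ : MulAut PSLd, (Fintype.card F - 1) * orderOf φ = Fintype.card F ^ d - 1) :=
  ⟨fun φ => upper_bound hd h24 (fun hd3 τ hτ => polyBound_of hd3 h32 τ hτ) φ, exists_max hd⟩

end Cfsg.Agent.Lib.Helper16.MeoL
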