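import Mathlib
import Cfsg.Prelude.Def_LocalEven
import Cfsg.Agent.Lib.Helper16.SL2Borel

set_option autoImplicit false
set_option linter.style.haveILetI false
set_option linter.unusedSimpArgs false
set_option linter.unusedSectionVars false
set_option linter.unnecessarySeqFocus false

namespace Cfsg.Agent.Lib.Helper16

open Matrix
open scoped commutatorElement Pointwise

section
variable {G : Type*} [Group G] {F : Type*} [Field F] {V L : Subgroup G}

/-- data of a faithful natural `SL₂`-module -/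
structure NatData (F : Type*) [Field F] (V L : Subgroup G) where
  /-- the isomorphism onto `SL₂` -/
  ρ : L →* Matrix.SpecialLinearGroup (Fin 2) F
  /-- the coordinates -/
  ψ : Additive V ≃+ (Fin 2 → F)
  hρ : Function.Bijective ρ
  hnorm : L ≤ Subgroup.normalizer (V : Set G)
  hact : ∀ (l : L) (v w : V), (w : G) = (l : G) * (v : G) * (l : G)⁻¹ →
    ψ (Additive.ofMul w) = (ρ l : Matrix (Fin 2) (Fin 2) F) *ᵥ ψ (Additive.ofMul v)

theorem exists_natData (hnat : Cfsg.IsNaturalSL2Module F V L)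
    (hf : L ⊓ Subgroup.centralizer (V : Set G) = ⊥) : Nonempty (NatData F V L) := by
  obtain ⟨hnorm, ρ, ψ, hsurj, hker, hact⟩ := hnat
  refine ⟨⟨ρ, ψ, ⟨?_, hsurj⟩, hnorm, ?_⟩⟩
  · rw [injective_iff_map_eq_one]
    intro l hl
    have h1 : l ∈ ρ.ker := hl
    rw [hker, Subgroup.mem_subgroupOf] at h1
    have h2 : (l : G) ∈ L ⊓ Subgroup.centralizer (V : Set G) := ⟨l.2, h1⟩
    rw [hf, Subgroup.mem_bot] at h2
    exact Subtype.ext h2
  · intro l v w hw
    obtain ⟨w', hw', h⟩ := hact l v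
    have : w' = w := Subtype.ext (hw'.trans hw.symm)
    rw [← this]
    exact h

namespace NatData

variable (D : NatData F V L)
include D

/-- change of coordinates by an element of `SL₂` -/
def conj (A : Matrix.SpecialLinearGroup (Fin 2) F) : NatData F V L where
  ρ := (MulAut.conj A⁻¹).toMonoidHom.comp D.ρ
  ψ := D.ψ.trans (Matrix.SpecialLinearGroup.toLin' A⁻¹).toAddEquiv
  hρ := (MulAut.conj A⁻¹).bijective.comp D.hρ
  hnorm := D.hnorm
  hact := by
    intro l v w hw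
    have h := D.hact l v w hw
    change (A⁻¹ : Matrix.SpecialLinearGroup (Fin 2) F).1 *ᵥ D.ψ (Additive.ofMul w) =
      ((A⁻¹ * D.ρ l * A⁻¹⁻¹ : Matrix.SpecialLinearGroup (Fin 2) F) : Matrix (Fin 2) (Fin 2) F) *ᵥ
        ((A⁻¹ : Matrix.SpecialLinearGroup (Fin 2) F).1 *ᵥ D.ψ (Additive.ofMul v))
    rw [h, Matrix.mulVec_mulVec, Matrix.mulVec_mulVec, ← Matrix.SpecialLinearGroup.coe_mul,
      ← Matrix.SpecialLinearGroup.coe_mul]
    congr 2
    rw [inv_inv, mul_inv_cancel_right]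

theorem conj_ρ (A : Matrix.SpecialLinearGroup (Fin 2) F) (l : L) :
    (D.conj A).ρ l = A⁻¹ * D.ρ l * A := by
  change A⁻¹ * D.ρ l * A⁻¹⁻¹ = _
  rw [inv_inv]

/-- coordinates of an element of `V` -/
def coord (v : V) : Fin 2 → F := D.ψ (Additive.ofMul v)

theorem coord_mul (v w : V) : D.coord (v * w) = D.coord v + D.coord w := by
  unfold coord
  rw [ofMul_mul, map_add]

theorem coord_one : D.coord 1 = 0 := by
  unfold coord
  rw [ofMul_one, map_zero]

theorem coord_inv (v : V) : D.coord v⁻¹ = -D.coord v := by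
  unfold coord
  rw [ofMul_inv, map_neg]

theorem coord_injective : Function.Injective D.coord := by
  intro v w h
  exact Additive.ofMul.injective (D.ψ.injective h)

theorem coord_surjective : Function.Surjective D.coord := by
  intro x
  obtain ⟨a, ha⟩ := D.ψ.surjective x
  exact ⟨Additive.toMul a, ha⟩

theorem coord_eq_zero_iff (v : V) : D.coord v = 0 ↔ v = 1 := by
  rw [← D.coord_one]
  exact D.coord_injective.eq_iff

theorem comm (v w : V) : v * w = w * v := by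
  apply D.coord_injective
  rw [coord_mul, coord_mul, add_comm]

/-- conjugation of `V` by an element of `L` -/
def conjV (l : L) (v : V) : V :=
  ⟨(l : G) * (v : G) * (l : G)⁻¹, (Subgroup.mem_normalizer_iff.1 (D.hnorm l.2) v).1 v.2⟩

theorem coe_conjV (l : L) (v : V) : (D.conjV l v : G) = (l : G) * (v : G) * (l : G)⁻¹ := rfl

theorem coord_conjV (l : L) (v : V) :
    D.coord (D.conjV l v) = (D.ρ l : Matrix (Fin 2) (Fin 2) F) *ᵥ D.coord v :=
  D.hact l v _ rfl

theorem commute_iff (l : L) (v : V) :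
    (l : G) * (v : G) = (v : G) * (l : G) ↔
      (D.ρ l : Matrix (Fin 2) (Fin 2) F) *ᵥ D.coord v = D.coord v := by
  rw [← coord_conjV, D.coord_injective.eq_iff, Subtype.ext_iff, coe_conjV, mul_inv_eq_iff_eq_mul]

theorem exists_comm (l : L) (v : V) : ∃ c : V, (c : G) = ⁅(v : G), (l : G)⁆ ∧
    D.coord c = D.coord v - (D.ρ l : Matrix (Fin 2) (Fin 2) F) *ᵥ D.coord v := by
  refine ⟨v * (D.conjV l v)⁻¹, ?_, ?_⟩
  · rw [Subgroup.coe_mul, Subgroup.coe_inv, coe_conjV, commutatorElement_def]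
    group
  · rw [coord_mul, coord_inv, coord_conjV, sub_eq_add_neg]

theorem card_V [Fintype F] : Nat.card V = Fintype.card F ^ 2 := by
  have h1 : Nat.card V = Nat.card (Additive V) := Nat.card_congr Additive.ofMul
  rw [h1, Nat.card_congr D.ψ.toEquiv, Nat.card_eq_fintype_card, Fintype.card_fun, Fintype.card_fin]

end NatData


theorem charP_of_card_eq_prime_pow {F : Type*} [Field F] [Fintype F] {p n : ℕ} [hp : Fact p.Prime]
    (hF : Fintype.card F = p ^ n) : CharP F p := by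
  obtain ⟨p', hp'⟩ := CharP.exists F
  haveI := hp'
  haveI : Fact p'.Prime := ⟨CharP.char_is_prime F p'⟩
  obtain ⟨m, -, hm⟩ := FiniteField.card F p'
  have hdvd : p' ∣ p ^ n := by
    rw [← hF, hm]
    exact dvd_pow_self p' m.ne_zero
  have h1 : p' = p :=
    (Nat.prime_dvd_prime_iff_eq (CharP.char_is_prime F p') hp.out).1
      ((CharP.char_is_prime F p').dvd_of_dvd_pow hdvd)
  subst h1
  exact hp'

theorem exists_natData_sylow [Finite G] {p : ℕ} [Fact p.Prime] [Fintype F] [CharP F p]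
    (D₀ : NatData F V L) (S : Sylow p L) :
    ∃ D : NatData F V L, ∀ l : L, l ∈ (S : Subgroup L) ↔ D.ρ l ∈ unipSL2 F := by
  have hp1 : IsPGroup p ((S : Subgroup L).map D₀.ρ) := S.2.map D₀.ρ
  have hidx : ((S : Subgroup L).map D₀.ρ).index = (S : Subgroup L).index :=
    Subgroup.index_map_of_bijective D₀.hρ _
  have hnd : ¬ p ∣ ((S : Subgroup L).map D₀.ρ).index := by
    rw [hidx]
    exact S.not_dvd_index
  let P₁ : Sylow p (Matrix.SpecialLinearGroup (Fin 2) F) := hp1.toSylow hnd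
  let P₀ : Sylow p (Matrix.SpecialLinearGroup (Fin 2) F) :=
    (unipSL2_isPGroup p).toSylow (not_dvd_index_unipSL2 p)
  obtain ⟨A, hA⟩ := MulAction.exists_smul_eq (Matrix.SpecialLinearGroup (Fin 2) F) P₀ P₁
  refine ⟨D₀.conj A, ?_⟩
  intro l
  rw [NatData.conj_ρ]
  have h1 : l ∈ (S : Subgroup L) ↔ D₀.ρ l ∈ (P₁ : Subgroup (Matrix.SpecialLinearGroup (Fin 2) F)) :=
    (Subgroup.mem_map_iff_mem D₀.hρ.1).symm
  have h2 : (P₁ : Subgroup (Matrix.SpecialLinearGroup (Fin 2) F)) =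
      MulAut.conj A • (P₀ : Subgroup (Matrix.SpecialLinearGroup (Fin 2) F)) := by
    rw [← hA]
    exact Sylow.coe_subgroup_smul
  rw [h1, h2, Subgroup.mem_pointwise_smul_iff_inv_smul_mem]
  have h3 : (MulAut.conj A)⁻¹ • D₀.ρ l = A⁻¹ * D₀.ρ l * A := by
    simp [MulAut.smul_def]
  rw [h3]
  rfl

theorem upper_mulVec (b : F) (x : Fin 2 → F) :
    (upperSL2 b : Matrix (Fin 2) (Fin 2) F) *ᵥ x = ![x 0 + b * x 1, x 1] := by
  rw [upperSL2_apply]
  funext i
  fin_cases i <;> simp [Matrix.mulVec, dotProduct, Fin.sum_univ_two]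

theorem vec2_ext {x y : Fin 2 → F} (h0 : x 0 = y 0) (h1 : x 1 = y 1) : x = y := by
  funext i
  fin_cases i
  · exact h0
  · exact h1

/-- `T` corresponds to the upper unitriangular subgroup -/
structure SylData (D : NatData F V L) (T : Subgroup G) : Prop where
  le : T ≤ L
  mem : ∀ l : L, (l : G) ∈ T ↔ D.ρ l ∈ unipSL2 F

namespace SylData

variable {D : NatData F V L} {T : Subgroup G} (h : SylData D T)
include h

theorem exists_b {t : G} (ht : t ∈ T) : ∃ b, D.ρ ⟨t, h.le ht⟩ = upperSL2 b :=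
  ⟨_, eq_upperSL2_of_mem ((h.mem ⟨t, h.le ht⟩).1 ht)⟩

theorem exists_t (b : F) : ∃ t : L, (t : G) ∈ T ∧ D.ρ t = upperSL2 b := by
  obtain ⟨l, hl⟩ := D.hρ.2 (upperSL2 b)
  exact ⟨l, (h.mem l).2 (hl ▸ upperSL2_mem b), hl⟩

theorem mem_centralizer_iff' (v : V) :
    (v : G) ∈ Subgroup.centralizer ((T : Subgroup G) : Set G) ↔ D.coord v 1 = 0 := by
  rw [Subgroup.mem_centralizer_iff]
  constructor
  · intro hc
    obtain ⟨t, htT, ht⟩ := h.exists_t 1
    have h1 := hc t htT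
    rw [D.commute_iff, ht, upper_mulVec] at h1
    have h2 := congrFun h1 0
    simpa using h2
  · intro hy t htT
    obtain ⟨b, hb⟩ := h.exists_b htT
    apply (D.commute_iff ⟨t, h.le htT⟩ v).2
    rw [hb, upper_mulVec]
    apply vec2_ext
    · simp [hy]
    · simp

theorem mem_CVT (g : G) : g ∈ V ⊓ Subgroup.centralizer ((T : Subgroup G) : Set G) ↔
    ∃ hv : g ∈ V, D.coord ⟨g, hv⟩ 1 = 0 := by
  constructor
  · rintro ⟨hv, hc⟩
    exact ⟨hv, (h.mem_centralizer_iff' ⟨g, hv⟩).1 hc⟩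
  · rintro ⟨hv, hy⟩
    exact ⟨hv, (h.mem_centralizer_iff' ⟨g, hv⟩).2 hy⟩

theorem comm_mem {v t : G} (hv : v ∈ V) (ht : t ∈ T) :
    ⁅v, t⁆ ∈ V ⊓ Subgroup.centralizer ((T : Subgroup G) : Set G) := by
  obtain ⟨c, hc, hcoord⟩ := D.exists_comm ⟨t, h.le ht⟩ ⟨v, hv⟩
  obtain ⟨b, hb⟩ := h.exists_b ht
  change (c : G) = ⁅v, t⁆ at hc
  rw [← hc]
  refine (h.mem_CVT _).2 ⟨c.2, ?_⟩
  change D.coord c 1 = 0
  rw [hcoord, hb, upper_mulVec]
  simp

theorem exists_comm_eq (v : V) (hy : D.coord v 1 ≠ 0) {g : G}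
    (hg : g ∈ V ⊓ Subgroup.centralizer ((T : Subgroup G) : Set G)) :
    ∃ t ∈ T, g = (v : G) * t * (v : G)⁻¹ * t⁻¹ := by
  obtain ⟨hgV, hg1⟩ := (h.mem_CVT g).1 hg
  obtain ⟨t, htT, ht⟩ := h.exists_t (-(D.coord ⟨g, hgV⟩ 0) / D.coord v 1)
  obtain ⟨c, hc, hcoord⟩ := D.exists_comm t v
  refine ⟨t, htT, ?_⟩
  have hcg : c = ⟨g, hgV⟩ := by
    apply D.coord_injective
    rw [hcoord, ht, upper_mulVec]
    apply vec2_ext
    · simp only [Pi.sub_apply, Matrix.cons_val_zero]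
      rw [div_mul_cancel₀ _ hy]
      ring
    · simp [hg1]
  have : g = (c : G) := by rw [hcg]
  rw [this, hc, commutatorElement_def]

theorem commutator_eq : ⁅V, T⁆ = V ⊓ Subgroup.centralizer ((T : Subgroup G) : Set G) := by
  apply le_antisymm
  · rw [Subgroup.commutator_le]
    intro v hv t ht
    exact h.comm_mem hv ht
  · intro g hg
    obtain ⟨v₀, hv₀⟩ := D.coord_surjective ![0, 1]
    obtain ⟨t, htT, hgt⟩ := h.exists_comm_eq v₀ (by rw [hv₀]; simp) hg
    rw [hgt, ← commutatorElement_def]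
    exact Subgroup.commutator_mem_commutator v₀.2 htT

theorem commutator_commutator_eq_bot : ⁅⁅V, T⁆, T⁆ = ⊥ := by
  rw [h.commutator_eq, Subgroup.commutator_eq_bot_iff_le_centralizer]
  exact inf_le_right

theorem card_CVT [Fintype F] :
    Nat.card ↥(V ⊓ Subgroup.centralizer ((T : Subgroup G) : Set G)) = Fintype.card F := by
  rw [← Nat.card_eq_fintype_card]
  apply Nat.card_congr
  refine Equiv.ofBijective
    (fun g => D.coord ⟨g.1, ((h.mem_CVT g.1).1 g.2).1⟩ 0) ⟨?_, ?_⟩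
  · intro g g' hgg
    have h1 := ((h.mem_CVT g.1).1 g.2).2
    have h1' := ((h.mem_CVT g'.1).1 g'.2).2
    have h2 : (⟨g.1, ((h.mem_CVT g.1).1 g.2).1⟩ : V) = ⟨g'.1, ((h.mem_CVT g'.1).1 g'.2).1⟩ := by
      apply D.coord_injective
      exact vec2_ext hgg (h1.trans h1'.symm)
    have h3 : (g : G) = (g' : G) := congrArg (fun w : V => (w : G)) h2
    exact Subtype.ext h3
  · intro x
    obtain ⟨v, hv⟩ := D.coord_surjective ![x, 0]
    have hmem : (v : G) ∈ V ⊓ Subgroup.centralizer ((T : Subgroup G) : Set G) :=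
      (h.mem_CVT v.1).2 ⟨v.2, by change D.coord v 1 = 0; rw [hv]; simp⟩
    refine ⟨⟨v.1, hmem⟩, ?_⟩
    change D.coord v 0 = x
    rw [hv]
    simp

theorem exists_b_ne_zero {s : G} (hs : s ∈ T) (hs1 : s ≠ 1) :
    ∃ b : F, b ≠ 0 ∧ D.ρ ⟨s, h.le hs⟩ = upperSL2 b := by
  obtain ⟨b, hb⟩ := h.exists_b hs
  refine ⟨b, ?_, hb⟩
  rintro rfl
  rw [upperSL2_zero] at hb
  have : (⟨s, h.le hs⟩ : L) = 1 := D.hρ.1 (hb.trans (map_one _).symm)
  exact hs1 (congrArg Subtype.val this)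

theorem centralizer_singleton_eq {s : G} (hs : s ∈ T) (hs1 : s ≠ 1) :
    V ⊓ Subgroup.centralizer ({s} : Set G) =
      V ⊓ Subgroup.centralizer ((T : Subgroup G) : Set G) := by
  obtain ⟨b, hb0, hb⟩ := h.exists_b_ne_zero hs hs1
  ext g
  rw [h.mem_CVT]
  constructor
  · rintro ⟨hv, hc⟩
    refine ⟨hv, ?_⟩
    change g ∈ Subgroup.centralizer ({s} : Set G) at hc
    rw [Subgroup.mem_centralizer_iff] at hc
    have h1 := hc s rfl
    have h2 := (D.commute_iff ⟨s, h.le hs⟩ ⟨g, hv⟩).1 h1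
    rw [hb, upper_mulVec] at h2
    have h3 := congrFun h2 0
    simp only [Matrix.cons_val_zero, add_eq_left, mul_eq_zero] at h3
    exact h3.resolve_left hb0
  · rintro ⟨hv, hy⟩
    refine ⟨hv, ?_⟩
    change g ∈ Subgroup.centralizer ({s} : Set G)
    rw [Subgroup.mem_centralizer_iff]
    intro x hx
    rw [Set.mem_singleton_iff] at hx
    subst hx
    apply (D.commute_iff ⟨x, h.le hs⟩ ⟨g, hv⟩).2
    rw [hb, upper_mulVec]
    apply vec2_ext
    · simp [hy]
    · simp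

theorem commutator_zpowers_eq {s : G} (hs : s ∈ T) (hs1 : s ≠ 1) :
    ⁅V, Subgroup.zpowers s⁆ = V ⊓ Subgroup.centralizer ((T : Subgroup G) : Set G) := by
  obtain ⟨b, hb0, hb⟩ := h.exists_b_ne_zero hs hs1
  apply le_antisymm
  · rw [Subgroup.commutator_le]
    intro v hv t ht
    exact h.comm_mem hv ((Subgroup.zpowers_le.2 hs) ht)
  · intro g hg
    obtain ⟨hgV, hg1⟩ := (h.mem_CVT g).1 hg
    obtain ⟨v, hv⟩ := D.coord_surjective ![0, -(D.coord ⟨g, hgV⟩ 0) / b]
    obtain ⟨c, hc, hcoord⟩ := D.exists_comm ⟨s, h.le hs⟩ v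
    have hcg : c = ⟨g, hgV⟩ := by
      apply D.coord_injective
      rw [hcoord, hb, upper_mulVec, hv]
      apply vec2_ext
      · simp only [Pi.sub_apply, Matrix.cons_val_zero, Matrix.cons_val_one]
        rw [mul_div_cancel₀ _ hb0]
        ring
      · simp [hg1]
    have : g = ⁅(v : G), s⁆ := by
      change (c : G) = ⁅(v : G), s⁆ at hc
      rw [← hc, hcg]
    rw [this]
    exact Subgroup.commutator_mem_commutator v.2 (Subgroup.mem_zpowers s)

theorem closure_comm_eq {v : G} (hv : v ∈ V)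
    (hvc : v ∉ Subgroup.centralizer ((T : Subgroup G) : Set G)) :
    Subgroup.closure {x : G | ∃ t ∈ T, x = v * t * v⁻¹ * t⁻¹} =
      V ⊓ Subgroup.centralizer ((T : Subgroup G) : Set G) := by
  have hy : D.coord ⟨v, hv⟩ 1 ≠ 0 := fun h0 => hvc ((h.mem_centralizer_iff' ⟨v, hv⟩).2 h0)
  apply le_antisymm
  · rw [Subgroup.closure_le]
    rintro x ⟨t, ht, rfl⟩
    rw [← commutatorElement_def]
    exact h.comm_mem hv ht
  · intro g hg
    obtain ⟨t, htT, hgt⟩ := h.exists_comm_eq ⟨v, hv⟩ hy hg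
    exact Subgroup.subset_closure ⟨t, htT, hgt⟩

end SylData


/-- the Sylow data attached to a Sylow subgroup of `L` -/
theorem exists_sylData [Finite G] {p : ℕ} [Fact p.Prime] [Fintype F] (n : ℕ)
    (hF : Fintype.card F = p ^ n) (hnat : Cfsg.IsNaturalSL2Module F V L)
    (hf : L ⊓ Subgroup.centralizer (V : Set G) = ⊥) (S : Sylow p ↥L) (T : Subgroup G)
    (hT : T = ((S : Subgroup ↥L).map L.subtype)) :
    ∃ D : NatData F V L, SylData D T := by
  haveI := charP_of_card_eq_prime_pow hF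
  obtain ⟨D₀⟩ := exists_natData hnat hf
  obtain ⟨D, hD⟩ := exists_natData_sylow D₀ S
  refine ⟨D, ⟨?_, ?_⟩⟩
  · rw [hT]
    exact Subgroup.map_subtype_le _
  · intro l
    rw [hT, ← hD l]
    exact Subgroup.mem_map_iff_mem (Subgroup.subtype_injective L)

theorem natural_module_sylow_facts [Finite G] {p : ℕ} [Fact p.Prime] [Fintype F] (n : ℕ)
    (hF : Fintype.card F = p ^ n) (V L : Subgroup G) (hnat : Cfsg.IsNaturalSL2Module F V L)
    (hf : L ⊓ Subgroup.centralizer (V : Set G) = ⊥) (S : Sylow p ↥L) (T : Subgroup G)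
    (hT : T = ((S : Subgroup ↥L).map L.subtype)) :
    ⁅⁅V, T⁆, T⁆ = ⊥ ∧ Nat.card V = p ^ (2 * n) ∧ Nat.card ↥(V ⊓ Subgroup.centralizer ((T : Subgroup G) : Set G)) = p ^ n ∧ ∀ s ∈ T, s ≠ 1 → (V ⊓ Subgroup.centralizer ({s} : Set G)) = (V ⊓ Subgroup.centralizer ((T : Subgroup G) : Set G)) ∧ ⁅V, T⁆ = (V ⊓ Subgroup.centralizer ((T : Subgroup G) : Set G)) ∧ ⁅V, Subgroup.zpowers s⁆ = (V ⊓ Subgroup.centralizer ((T : Subgroup G) : Set G)) ∧ ∀ v ∈ V, v ∉ Subgroup.centralizer (T : Set G) → Subgroup.closure {x : G | ∃ t ∈ T, x = v * t * v⁻¹ * t⁻¹} = (V ⊓ Subgroup.centralizer ((T : Subgroup G) : Set G)) := by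
  obtain ⟨D, h⟩ := exists_sylData n hF hnat hf S T hT
  refine ⟨h.commutator_commutator_eq_bot, ?_, ?_, ?_⟩
  · rw [D.card_V, hF, ← pow_mul, mul_comm]
  · rw [h.card_CVT, hF]
  · intro s hs hs1
    exact ⟨h.centralizer_singleton_eq hs hs1, h.commutator_eq, h.commutator_zpowers_eq hs hs1,
      fun v hv hvc => h.closure_comm_eq hv hvc⟩

end

end Cfsg.Agent.Lib.Helper16
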