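import Mathlib
import Cfsg.Prelude.Def_TwoFusion
import Cfsg.Agent.Lib.Helper16.NatSL2

set_option autoImplicit false
set_option linter.style.haveILetI false
set_option linter.unusedSimpArgs false
set_option linter.unusedSectionVars false
set_option linter.unnecessarySeqFocus false

namespace Cfsg.Agent.Lib.Helper16

open Matrix
open scoped commutatorElement Pointwise

section
variable {G : Type*} [Group G] {F : Type*} [Field F] {V L : Subgroup G}

/-- an element of `SL₂` in characteristic `p` fixing a nonzero vector has order dividing `p` -/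
theorem pow_char_eq_one_of_fixed {p : ℕ} [Fact p.Prime] [CharP F p]
    (R : Matrix.SpecialLinearGroup (Fin 2) F) (y : Fin 2 → F) (hy : y ≠ 0)
    (hR : (R : Matrix (Fin 2) (Fin 2) F) *ᵥ y = y) : R ^ p = 1 := by
  have hdet := R.2
  have hCH := cayley2 (R : Matrix (Fin 2) (Fin 2) F)
  rw [hdet, one_smul] at hCH
  have htr : (R : Matrix (Fin 2) (Fin 2) F).trace = 2 := by
    have h1 : ((R : Matrix (Fin 2) (Fin 2) F) ^ 2) *ᵥ y = y := by
      rw [pow_two, ← Matrix.mulVec_mulVec, hR, hR]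
    rw [hCH, Matrix.sub_mulVec, Matrix.smul_mulVec, hR, Matrix.one_mulVec] at h1
    have h2 : ((R : Matrix (Fin 2) (Fin 2) F).trace - 2) • y = 0 := by
      rw [sub_smul, two_smul]
      rw [sub_eq_iff_eq_add] at h1
      rw [h1]
      abel
    rcases smul_eq_zero.1 h2 with h3 | h3
    · exact sub_eq_zero.1 h3
    · exact absurd h3 hy
  have hN2 : ((R : Matrix (Fin 2) (Fin 2) F) - 1) ^ 2 = 0 := by
    rw [pow_two, sub_mul, mul_sub, mul_sub, mul_one, one_mul, mul_one, ← pow_two, hCH, htr,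
      two_smul]
    abel
  have hpow : (R : Matrix (Fin 2) (Fin 2) F) ^ p = 1 := by
    have hcomm : Commute ((R : Matrix (Fin 2) (Fin 2) F) - 1) (1 : Matrix (Fin 2) (Fin 2) F) :=
      Commute.one_right _
    have h1 : (R : Matrix (Fin 2) (Fin 2) F) = ((R : Matrix (Fin 2) (Fin 2) F) - 1) + 1 := by abel
    rw [h1, add_pow_char_of_commute (p := p) (h := hcomm), one_pow,
      pow_eq_zero_of_le (Fact.out : p.Prime).two_le hN2, zero_add]
  apply Subtype.ext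
  rw [Matrix.SpecialLinearGroup.coe_pow, hpow, Matrix.SpecialLinearGroup.coe_one]

theorem borelMk_mulVec (d : F) (hd : d ≠ 0) (x : Fin 2 → F) :
    (borelMk d 0 hd : Matrix (Fin 2) (Fin 2) F) *ᵥ x = ![d * x 0, d⁻¹ * x 1] := by
  change !![d, 0; 0, d⁻¹] *ᵥ x = _
  funext i
  fin_cases i <;> simp [Matrix.mulVec, dotProduct, Fin.sum_univ_two]

theorem NatData.fixedpoint_free (D : NatData F V L) {p : ℕ} [Fact p.Prime] [CharP F p] {x : G}
    (hx : x ∈ L) (hx1 : x ≠ 1) (hcop : (orderOf x).Coprime p) :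
    V ⊓ Subgroup.centralizer ({x} : Set G) = ⊥ := by
  rw [eq_bot_iff]
  rintro v ⟨hvV, hvc⟩
  rw [Subgroup.mem_bot]
  by_contra hv1
  change v ∈ Subgroup.centralizer ({x} : Set G) at hvc
  rw [Subgroup.mem_centralizer_iff] at hvc
  have h1 := hvc x rfl
  have h2 := (D.commute_iff ⟨x, hx⟩ ⟨v, hvV⟩).1 h1
  have hne : D.coord ⟨v, hvV⟩ ≠ 0 := fun h0 =>
    hv1 (congrArg Subtype.val ((D.coord_eq_zero_iff _).1 h0))
  have h3 := pow_char_eq_one_of_fixed (p := p) (D.ρ ⟨x, hx⟩) _ hne h2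
  rw [← map_pow, ← map_one D.ρ] at h3
  have h4 := D.hρ.1 h3
  have h5 : x ^ p = 1 := by
    have := congrArg Subtype.val h4
    simpa using this
  have h6 : orderOf x ∣ p := orderOf_dvd_of_pow_eq_one h5
  have h7 : orderOf x = 1 := Nat.Coprime.eq_one_of_dvd hcop h6
  exact hx1 (orderOf_eq_one_iff.1 h7)

namespace SylData

variable {D : NatData F V L} {T : Subgroup G} (h : SylData D T)
include h

/-- elements of `L` mapping into the Borel subgroup normalize `T` -/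
theorem mem_normalizer_of_borel (g : L) (hg : D.ρ g ∈ borelSL2 F) :
    (g : G) ∈ Subgroup.normalizer ((T : Subgroup G) : Set G) := by
  have hN : D.ρ g ∈ Subgroup.normalizer ((unipSL2 F : Subgroup _) : Set _) := by
    rw [normalizer_unipSL2]
    exact hg
  rw [Subgroup.mem_normalizer_iff] at hN ⊢
  intro x
  constructor
  · intro hx
    have h1 := (hN (D.ρ ⟨x, h.le hx⟩)).1 ((h.mem ⟨x, h.le hx⟩).1 hx)
    have h2 : D.ρ (g * ⟨x, h.le hx⟩ * g⁻¹) ∈ unipSL2 F := by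
      rw [map_mul, map_mul, map_inv]
      exact h1
    exact (h.mem (g * ⟨x, h.le hx⟩ * g⁻¹)).2 h2
  · intro hx
    have hyU : D.ρ ⟨(g : G) * x * (g : G)⁻¹, h.le hx⟩ ∈ unipSL2 F := (h.mem _).1 hx
    have hx' : ((g⁻¹ * ⟨(g : G) * x * (g : G)⁻¹, h.le hx⟩ * g : L) : G) = x := by
      simp only [Subgroup.coe_mul, Subgroup.coe_inv]
      group
    have h1 : D.ρ (g⁻¹ * ⟨(g : G) * x * (g : G)⁻¹, h.le hx⟩ * g) ∈ unipSL2 F := by
      apply (hN _).2
      rw [map_mul, map_mul, map_inv]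
      have e : D.ρ g * ((D.ρ g)⁻¹ * D.ρ ⟨(g : G) * x * (g : G)⁻¹, h.le hx⟩ * D.ρ g) * (D.ρ g)⁻¹ =
          D.ρ ⟨(g : G) * x * (g : G)⁻¹, h.le hx⟩ := by group
      rw [e]
      exact hyU
    have := (h.mem _).2 h1
    rwa [hx'] at this

/-- the centralizer in `V` of a conjugate of `T` -/
theorem mem_centralizer_conj_iff (g : L) (v : V) :
    (v : G) ∈ Subgroup.centralizer
      ((T.map (MulAut.conj (g : G)).toMonoidHom : Subgroup G) : Set G) ↔
      (((D.ρ g)⁻¹ : Matrix.SpecialLinearGroup (Fin 2) F).1 *ᵥ D.coord v) 1 = 0 := by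
  rw [← map_inv, ← D.coord_conjV, ← h.mem_centralizer_iff', Subgroup.mem_centralizer_iff,
    Subgroup.mem_centralizer_iff, NatData.coe_conjV, Subgroup.coe_inv]
  constructor
  · intro hc t ht
    have h1 := hc ((g : G) * t * (g : G)⁻¹) ⟨t, ht, rfl⟩
    calc t * ((g : G)⁻¹ * (v : G) * (g : G)⁻¹⁻¹)
        = (g : G)⁻¹ * (((g : G) * t * (g : G)⁻¹) * (v : G)) * (g : G) := by group
      _ = (g : G)⁻¹ * ((v : G) * ((g : G) * t * (g : G)⁻¹)) * (g : G) := by rw [h1]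
      _ = (g : G)⁻¹ * (v : G) * (g : G)⁻¹⁻¹ * t := by group
  · rintro hc x ⟨t, ht, rfl⟩
    have h1 := hc t ht
    change (g : G) * t * (g : G)⁻¹ * (v : G) = (v : G) * ((g : G) * t * (g : G)⁻¹)
    calc (g : G) * t * (g : G)⁻¹ * (v : G)
        = (g : G) * (t * ((g : G)⁻¹ * (v : G) * (g : G)⁻¹⁻¹)) * (g : G)⁻¹ := by group
      _ = (g : G) * (((g : G)⁻¹ * (v : G) * (g : G)⁻¹⁻¹) * t) * (g : G)⁻¹ := by rw [h1]
      _ = (v : G) * ((g : G) * t * (g : G)⁻¹) := by group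

theorem exists_diag_conj (d : F) (hd : d ≠ 0) :
    ∃ l : L, (l : G) ∈ L ⊓ Subgroup.normalizer ((T : Subgroup G) : Set G) ∧
      ∀ v : V, D.coord (D.conjV l v) = ![d * D.coord v 0, d⁻¹ * D.coord v 1] := by
  obtain ⟨l, hl⟩ := D.hρ.2 (borelMk d 0 hd)
  refine ⟨l, ⟨l.2, h.mem_normalizer_of_borel l (hl ▸ borelMk_mem d 0 hd)⟩, fun v => ?_⟩
  rw [D.coord_conjV, hl, borelMk_mulVec]

theorem inv_mulVec_one (R : Matrix.SpecialLinearGroup (Fin 2) F) (x : Fin 2 → F) :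
    ((R⁻¹ : Matrix.SpecialLinearGroup (Fin 2) F).1 *ᵥ x) 1 =
      -((R : Matrix (Fin 2) (Fin 2) F) 1 0) * x 0 + (R : Matrix (Fin 2) (Fin 2) F) 0 0 * x 1 := by
  rw [Matrix.SpecialLinearGroup.coe_inv, Matrix.adjugate_fin_two]
  simp [Matrix.mulVec, dotProduct, Fin.sum_univ_two]

theorem directProduct (g : L)
    (hg : (g : G) ∉ Subgroup.normalizer ((T : Subgroup G) : Set G)) :
    Cfsg.IsInternalDirectProduct (V ⊓ Subgroup.centralizer ((T : Subgroup G) : Set G))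
      (V ⊓ Subgroup.centralizer
        ((T.map (MulAut.conj (g : G)).toMonoidHom : Subgroup G) : Set G)) V := by
  have hc : (D.ρ g : Matrix (Fin 2) (Fin 2) F) 1 0 ≠ 0 :=
    fun h0 => hg (h.mem_normalizer_of_borel g h0)
  refine ⟨inf_le_left, inf_le_left, ?_, ?_, ?_⟩
  · intro a ha b hb
    have := D.comm ⟨a, ha.1⟩ ⟨b, hb.1⟩
    exact congrArg (fun w : V => (w : G)) this
  · rw [eq_bot_iff]
    rintro x ⟨hx1, hx2⟩
    obtain ⟨hxV, hy⟩ := (h.mem_CVT x).1 hx1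
    have h2 := (h.mem_centralizer_conj_iff g ⟨x, hxV⟩).1 hx2.2
    rw [inv_mulVec_one h, hy, mul_zero, add_zero] at h2
    have hx0 : D.coord ⟨x, hxV⟩ 0 = 0 := by
      rcases mul_eq_zero.1 h2 with h' | h'
      · exact absurd (neg_eq_zero.1 h') hc
      · exact h'
    have h3 : (⟨x, hxV⟩ : V) = 1 := (D.coord_eq_zero_iff _).1 (vec2_ext hx0 hy)
    rw [Subgroup.mem_bot]
    exact congrArg (fun w : V => (w : G)) h3
  · apply le_antisymm (sup_le inf_le_left inf_le_left)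
    intro v hv
    obtain ⟨v₂, hv₂⟩ := D.coord_surjective
      ![(D.ρ g : Matrix (Fin 2) (Fin 2) F) 0 0 * D.coord ⟨v, hv⟩ 1 /
        (D.ρ g : Matrix (Fin 2) (Fin 2) F) 1 0, D.coord ⟨v, hv⟩ 1]
    obtain ⟨v₁, hv₁⟩ := D.coord_surjective
      ![D.coord ⟨v, hv⟩ 0 - (D.ρ g : Matrix (Fin 2) (Fin 2) F) 0 0 * D.coord ⟨v, hv⟩ 1 /
        (D.ρ g : Matrix (Fin 2) (Fin 2) F) 1 0, 0]
    have hmul : (⟨v, hv⟩ : V) = v₁ * v₂ := by
      apply D.coord_injective
      rw [D.coord_mul, hv₁, hv₂]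
      apply vec2_ext <;> simp
    have hv' : v = (v₁ : G) * (v₂ : G) := congrArg (fun w : V => (w : G)) hmul
    rw [hv']
    apply Subgroup.mul_mem_sup
    · refine (h.mem_CVT _).2 ⟨v₁.2, ?_⟩
      change D.coord v₁ 1 = 0
      rw [hv₁]
      simp
    · refine ⟨v₂.2, (h.mem_centralizer_conj_iff g v₂).2 ?_⟩
      rw [inv_mulVec_one h, hv₂]
      simp only [Matrix.cons_val_zero, Matrix.cons_val_one]
      field_simp
      ring

theorem irreducible_lower (U' : Subgroup G)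
    (hU : U' ≤ V ⊓ Subgroup.centralizer ((T : Subgroup G) : Set G))
    (hN : L ⊓ Subgroup.normalizer ((T : Subgroup G) : Set G) ≤
      Subgroup.normalizer ((U' : Subgroup G) : Set G)) :
    U' = ⊥ ∨ U' = V ⊓ Subgroup.centralizer ((T : Subgroup G) : Set G) := by
  by_cases hbot : U' = ⊥
  · exact Or.inl hbot
  · right
    apply le_antisymm hU
    obtain ⟨g₀, hg₀, hg₀1⟩ := (Subgroup.bot_or_exists_ne_one U').resolve_left hbot
    obtain ⟨hg₀V, hy₀⟩ := (h.mem_CVT g₀).1 (hU hg₀)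
    have hx₀ : D.coord ⟨g₀, hg₀V⟩ 0 ≠ 0 := by
      intro h0
      apply hg₀1
      have h3 : (⟨g₀, hg₀V⟩ : V) = 1 := (D.coord_eq_zero_iff _).1 (vec2_ext h0 hy₀)
      exact congrArg (fun w : V => (w : G)) h3
    intro g hg
    obtain ⟨hgV, hy⟩ := (h.mem_CVT g).1 hg
    by_cases hx : D.coord ⟨g, hgV⟩ 0 = 0
    · have h3 : (⟨g, hgV⟩ : V) = 1 := (D.coord_eq_zero_iff _).1 (vec2_ext hx hy)
      have : g = 1 := congrArg (fun w : V => (w : G)) h3
      rw [this]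
      exact U'.one_mem
    · obtain ⟨l, hl, hlc⟩ := h.exists_diag_conj (D.coord ⟨g, hgV⟩ 0 / D.coord ⟨g₀, hg₀V⟩ 0)
        (div_ne_zero hx hx₀)
      have h1 := (Subgroup.mem_normalizer_iff.1 (hN hl) g₀).1 hg₀
      have h2 : D.conjV l ⟨g₀, hg₀V⟩ = ⟨g, hgV⟩ := by
        apply D.coord_injective
        rw [hlc]
        apply vec2_ext
        · simp [div_mul_cancel₀ _ hx₀]
        · simp [hy₀, hy]
      have h3 : (l : G) * g₀ * (l : G)⁻¹ = g := congrArg (fun w : V => (w : G)) h2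
      rwa [h3] at h1

theorem irreducible_upper (U' : Subgroup G)
    (hU1 : V ⊓ Subgroup.centralizer ((T : Subgroup G) : Set G) ≤ U') (hU2 : U' ≤ V)
    (hN : L ⊓ Subgroup.normalizer ((T : Subgroup G) : Set G) ≤
      Subgroup.normalizer ((U' : Subgroup G) : Set G)) :
    U' = V ⊓ Subgroup.centralizer ((T : Subgroup G) : Set G) ∨ U' = V := by
  by_cases hle : U' ≤ V ⊓ Subgroup.centralizer ((T : Subgroup G) : Set G)
  · exact Or.inl (le_antisymm hle hU1)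
  · right
    apply le_antisymm hU2
    obtain ⟨g₀, hg₀, hg₀n⟩ := SetLike.not_le_iff_exists.1 hle
    have hg₀V := hU2 hg₀
    have hy₀ : D.coord ⟨g₀, hg₀V⟩ 1 ≠ 0 := fun h0 => hg₀n ((h.mem_CVT g₀).2 ⟨hg₀V, h0⟩)
    intro v hv
    by_cases hy : D.coord ⟨v, hv⟩ 1 = 0
    · exact hU1 ((h.mem_CVT v).2 ⟨hv, hy⟩)
    · obtain ⟨l, hl, hlc⟩ := h.exists_diag_conj (D.coord ⟨g₀, hg₀V⟩ 1 / D.coord ⟨v, hv⟩ 1)
        (div_ne_zero hy₀ hy)
      have h1 := (Subgroup.mem_normalizer_iff.1 (hN hl) g₀).1 hg₀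
      have hc1 : D.coord (D.conjV l ⟨g₀, hg₀V⟩) 1 = D.coord ⟨v, hv⟩ 1 := by
        rw [hlc]
        simp only [Matrix.cons_val_one, Matrix.cons_val_zero]
        field_simp
      have hw : (((⟨v, hv⟩ : V) * (D.conjV l ⟨g₀, hg₀V⟩)⁻¹ : V) : G) ∈
          V ⊓ Subgroup.centralizer ((T : Subgroup G) : Set G) := by
        refine (h.mem_CVT _).2 ⟨((⟨v, hv⟩ : V) * (D.conjV l ⟨g₀, hg₀V⟩)⁻¹ : V).2, ?_⟩
        change D.coord ((⟨v, hv⟩ : V) * (D.conjV l ⟨g₀, hg₀V⟩)⁻¹) 1 = 0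
        rw [D.coord_mul, D.coord_inv, Pi.add_apply, Pi.neg_apply, hc1, add_neg_cancel]
      have hv' : v = (((⟨v, hv⟩ : V) * (D.conjV l ⟨g₀, hg₀V⟩)⁻¹ : V) : G) *
          ((l : G) * g₀ * (l : G)⁻¹) := by
        rw [Subgroup.coe_mul, Subgroup.coe_inv, NatData.coe_conjV]
        group
      rw [hv']
      exact U'.mul_mem (hU1 hw) h1

end SylData


theorem natural_module_sylow_facts2 [Finite G] {p : ℕ} [Fact p.Prime] [Fintype F] (n : ℕ)
    (hF : Fintype.card F = p ^ n) (V L : Subgroup G) (hnat : Cfsg.IsNaturalSL2Module F V L)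
    (hf : L ⊓ Subgroup.centralizer (V : Set G) = ⊥) (S : Sylow p ↥L) (T : Subgroup G)
    (hT : T = ((S : Subgroup ↥L).map L.subtype)) :
    (∀ g ∈ L, g ∉ Subgroup.normalizer (T : Set G) → Cfsg.IsInternalDirectProduct (V ⊓ Subgroup.centralizer ((T : Subgroup G) : Set G)) (V ⊓ Subgroup.centralizer ((T.map (MulAut.conj g).toMonoidHom : Subgroup G) : Set G)) V) ∧ (∀ x ∈ L, x ≠ 1 → (orderOf x).Coprime p → (V ⊓ Subgroup.centralizer ({x} : Set G)) = ⊥) ∧ (∀ U : Subgroup G, U ≤ (V ⊓ Subgroup.centralizer ((T : Subgroup G) : Set G)) → L ⊓ Subgroup.normalizer (T : Set G) ≤ Subgroup.normalizer (U : Set G) → U = ⊥ ∨ U = (V ⊓ Subgroup.centralizer ((T : Subgroup G) : Set G))) ∧ (∀ U : Subgroup G, (V ⊓ Subgroup.centralizer ((T : Subgroup G) : Set G)) ≤ U → U ≤ V → L ⊓ Subgroup.normalizer (T : Set G) ≤ Subgroup.normalizer (U : Set G) → U = (V ⊓ Subgroup.centralizer ((T : Subgroup G) : Set G)) ∨ U = V) := by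
  haveI := charP_of_card_eq_prime_pow hF
  obtain ⟨D, h⟩ := exists_sylData n hF hnat hf S T hT
  refine ⟨?_, ?_, ?_, ?_⟩
  · intro g hg hgN
    exact h.directProduct ⟨g, hg⟩ hgN
  · intro x hx hx1 hcop
    exact D.fixedpoint_free hx hx1 hcop
  · intro U hU hN
    exact h.irreducible_lower U hU hN
  · intro U hU1 hU2 hN
    exact h.irreducible_upper U hU1 hU2 hN

end

end Cfsg.Agent.Lib.Helper16
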