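import Mathlib

/-!
# Nilpotent minimal covers, part A: abstract lemmas

A cover of a group is a finite set of proper subgroups whose union is the group.  We record two
ways of showing that a cover of least cardinality cannot consist of nilpotent subgroups, and the
basic lemma on nilpotent linear groups containing a unipotent element with a fixed line.
-/

set_option autoImplicit false
set_option linter.unusedSectionVars false
set_option linter.unusedVariables false
set_option linter.style.haveILetI false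

namespace Cfsg.Agent.Lib.Helper16.NilCov

section covers

variable {H : Type*} [Group H]

/-- a cover by proper subgroups -/
def IsCover (𝓐 : Finset (Subgroup H)) : Prop :=
  (∀ A ∈ 𝓐, A ≠ ⊤) ∧ (∀ g : H, ∃ A ∈ 𝓐, g ∈ A)

/-- merging two members of a least cover that lie in a common proper subgroup -/
theorem merge_contra (𝓐 : Finset (Subgroup H)) (hcov : IsCover 𝓐)
    (hmin : ∀ 𝓑 : Finset (Subgroup H), IsCover 𝓑 → 𝓐.card ≤ 𝓑.card)
    (A₁ A₂ M : Subgroup H) (h1 : A₁ ∈ 𝓐) (h2 : A₂ ∈ 𝓐) (hne : A₁ ≠ A₂) (hM : M ≠ ⊤)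
    (h1M : A₁ ≤ M) (h2M : A₂ ≤ M) : False := by
  classical
  obtain ⟨𝓑, h𝓑⟩ : ∃ 𝓑 : Finset (Subgroup H), 𝓑 = insert M ((𝓐.erase A₁).erase A₂) := ⟨_, rfl⟩
  have hcov𝓑 : IsCover 𝓑 := by
    constructor
    · intro A hA
      rw [h𝓑, Finset.mem_insert] at hA
      rcases hA with rfl | hA
      · exact hM
      · exact hcov.1 A (Finset.mem_of_mem_erase (Finset.mem_of_mem_erase hA))
    · intro g
      obtain ⟨A, hA, hg⟩ := hcov.2 g
      by_cases hA1 : A = A₁
      · exact ⟨M, by rw [h𝓑]; exact Finset.mem_insert_self _ _, h1M (hA1 ▸ hg)⟩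
      by_cases hA2 : A = A₂
      · exact ⟨M, by rw [h𝓑]; exact Finset.mem_insert_self _ _, h2M (hA2 ▸ hg)⟩
      refine ⟨A, ?_, hg⟩
      rw [h𝓑]
      exact Finset.mem_insert_of_mem (Finset.mem_erase.2 ⟨hA2, Finset.mem_erase.2 ⟨hA1, hA⟩⟩)
  have hle := hmin 𝓑 hcov𝓑
  have h3 : ((𝓐.erase A₁).erase A₂).card = 𝓐.card - 1 - 1 := by
    rw [Finset.card_erase_of_mem (Finset.mem_erase.2 ⟨hne.symm, h2⟩), Finset.card_erase_of_mem h1]
  have h4 : 𝓑.card ≤ ((𝓐.erase A₁).erase A₂).card + 1 := by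
    rw [h𝓑]; exact Finset.card_insert_le _ _
  have h5 : 2 ≤ 𝓐.card := by
    have : ({A₁, A₂} : Finset (Subgroup H)) ⊆ 𝓐 := by
      intro x hx
      rw [Finset.mem_insert, Finset.mem_singleton] at hx
      rcases hx with rfl | rfl <;> assumption
    have h6 := Finset.card_le_card this
    rwa [Finset.card_pair hne] at h6
  omega

/-- counting: a cover with fewer members than a set of pairwise incompatible witnesses -/
theorem witness_contra (𝓐 : Finset (Subgroup H)) (hcov : IsCover 𝓐)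
    (hmin : ∀ 𝓑 : Finset (Subgroup H), IsCover 𝓑 → 𝓐.card ≤ 𝓑.card)
    (hnil : ∀ A ∈ 𝓐, Group.IsNilpotent ↥A)
    (𝓑 : Finset (Subgroup H)) (h𝓑 : IsCover 𝓑) (W : Finset H) (hW : 𝓑.card < W.card)
    (hinc : ∀ x ∈ W, ∀ y ∈ W, x ≠ y → ∀ A : Subgroup H, Group.IsNilpotent ↥A → x ∈ A → y ∈ A →
      False) : False := by
  classical
  have hle := hmin 𝓑 h𝓑
  choose f hf using fun g : H => hcov.2 g
  have hinj : Set.InjOn f (W : Set H) := by
    intro x hx y hy hxy
    by_contra hne
    exact hinc x hx y hy hne (f x) (hnil _ (hf x).1) (hf x).2 (hxy ▸ (hf y).2)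
  have h1 : W.card ≤ 𝓐.card :=
    Finset.card_le_card_of_injOn f (fun x _ => (hf x).1) hinj
  omega

end covers

section lemmaP

variable {F : Type*} [Field F] [Fintype F] {n : ℕ}

/-- **Lemma P**.  Let `Γ` be a finite nilpotent group acting linearly on `Fⁿ` through `ρ`, and `u`
a `p`-element of `Γ` (`p` the characteristic) whose fixed vectors are the multiples of `v₀`.  Then
every element of `Γ` maps `v₀` to a multiple of itself. -/
theorem nilpotent_preserves_line {Γ : Type*} [Group Γ] [Finite Γ] [hnil : Group.IsNilpotent Γ]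
    (p : ℕ) [hp : Fact p.Prime] [CharP F p] (hn : 0 < n)
    (ρ : Γ →* GL (Fin n) F) (u : Γ) (hu : ∃ k : ℕ, u ^ (p ^ k) = 1)
    (v₀ : Fin n → F) (hfix : ∀ v : Fin n → F, (ρ u).1.mulVec v = v → ∃ c : F, v = c • v₀)
    (a : Γ) : ∃ c : F, (ρ a).1.mulVec v₀ = c • v₀ := by
  classical
  -- the action on vectors
  letI act : MulAction Γ (Fin n → F) :=
    { smul := fun g v => (ρ g).1.mulVec v
      one_smul := fun v => by
        show (ρ 1).1.mulVec v = v
        rw [map_one, Units.val_one, Matrix.one_mulVec]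
      mul_smul := fun g h v => by
        show (ρ (g * h)).1.mulVec v = (ρ g).1.mulVec ((ρ h).1.mulVec v)
        rw [map_mul, Units.val_mul, Matrix.mulVec_mulVec] }
  have hsmul : ∀ (g : Γ) (v : Fin n → F), g • v = (ρ g).1.mulVec v := fun _ _ => rfl
  -- the Sylow subgroup
  obtain ⟨P⟩ : Nonempty (Sylow p Γ) := inferInstance
  haveI : (P : Subgroup Γ).Normal := inferInstance
  have huP : u ∈ (P : Subgroup Γ) := by
    obtain ⟨k, hk⟩ := hu
    have h1 : IsPGroup p (Subgroup.zpowers u) := by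
      rw [IsPGroup.iff_card, Nat.card_zpowers]
      exact (Nat.dvd_prime_pow hp.out).1 (orderOf_dvd_of_pow_eq_one hk) |>.imp fun _ h => h.2
    obtain ⟨Q, hQ⟩ := h1.exists_le_sylow
    have : Q = P := by
      letI := Sylow.unique_of_normal P inferInstance
      exact Subsingleton.elim _ _
    rw [← this]
    exact hQ (Subgroup.mem_zpowers u)
  -- a nonzero fixed vector of `P`
  have hPgroup : IsPGroup p (P : Subgroup Γ) := P.2
  have hcardV : p ∣ Nat.card (Fin n → F) := by
    rw [Nat.card_eq_fintype_card, Fintype.card_fun, Fintype.card_fin]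
    have hq : p ∣ Fintype.card F := by
      have := CharP.cast_eq_zero_iff F p (Fintype.card F)
      rw [← this]
      exact Nat.cast_card_eq_zero F
    exact dvd_pow hq (by omega)
  have h0 : (0 : Fin n → F) ∈ MulAction.fixedPoints (P : Subgroup Γ) (Fin n → F) := by
    intro g
    show (ρ g.1).1.mulVec 0 = 0
    exact Matrix.mulVec_zero _
  obtain ⟨b, hb, hb0⟩ := hPgroup.exists_fixed_point_of_prime_dvd_card_of_fixed_point
    (Fin n → F) hcardV h0
  have hbfix : ∀ g ∈ (P : Subgroup Γ), (ρ g).1.mulVec b = b := fun g hg => hb ⟨g, hg⟩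
  obtain ⟨c, hc⟩ := hfix b (hbfix u huP)
  have hc0 : c ≠ 0 := by
    rintro rfl
    rw [zero_smul] at hc
    exact hb0 hc.symm
  have hv₀fix : ∀ g ∈ (P : Subgroup Γ), (ρ g).1.mulVec v₀ = v₀ := by
    intro g hg
    have h1 := hbfix g hg
    rw [hc, Matrix.mulVec_smul] at h1
    have h2 := congrArg (fun w => c⁻¹ • w) h1
    simp only [smul_smul, inv_mul_cancel₀ hc0, one_smul] at h2
    exact h2
  -- `a v₀` is fixed by `u`
  apply hfix
  have h1 : a⁻¹ * u * a ∈ (P : Subgroup Γ) := by
    have := (inferInstance : (P : Subgroup Γ).Normal).conj_mem u huP a⁻¹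
    rwa [inv_inv] at this
  have h2 := hv₀fix _ h1
  have h3 : (ρ u).1.mulVec ((ρ a).1.mulVec v₀) = (ρ a).1.mulVec ((ρ (a⁻¹ * u * a)).1.mulVec v₀) := by
    rw [Matrix.mulVec_mulVec, Matrix.mulVec_mulVec, ← Units.val_mul, ← Units.val_mul, ← map_mul,
      ← map_mul]
    congr 3
    group
  rw [h3, h2]

end lemmaP

end Cfsg.Agent.Lib.Helper16.NilCov
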