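import Mathlib
import Cfsg.Agent.Lib.Helper16.NilCovA

/-!
# Nilpotent minimal covers, part B: subgroups of a group between `PSL_n` and `PGL_n` and their
preimages in `GL_n`
-/

set_option autoImplicit false
set_option linter.unusedSectionVars false
set_option linter.unusedVariables false
set_option linter.style.haveILetI false

namespace Cfsg.Agent.Lib.Helper16.NilCov

open Matrix

variable {F : Type*} [Field F] {n : ℕ}

local notation "Zn" => Subgroup.center (GL (Fin n) F)
local notation "PGLn" => GL (Fin n) F ⧸ Subgroup.center (GL (Fin n) F)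

/-- the preimage in `GL_n` of a subgroup of `↥G` -/
def pre (G : Subgroup PGLn) (A : Subgroup ↥G) : Subgroup (GL (Fin n) F) :=
  (A.map G.subtype).comap (QuotientGroup.mk' Zn)

theorem mem_pre (G : Subgroup PGLn) (A : Subgroup ↥G) (x : GL (Fin n) F) :
    x ∈ pre G A ↔ ∃ h : (QuotientGroup.mk x : PGLn) ∈ G, (⟨QuotientGroup.mk x, h⟩ : ↥G) ∈ A := by
  unfold pre
  rw [Subgroup.mem_comap, Subgroup.mem_map]
  constructor
  · rintro ⟨a, ha, hax⟩
    have h : (QuotientGroup.mk x : PGLn) ∈ G := by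
      have : (G.subtype a : PGLn) = QuotientGroup.mk x := hax
      rw [← this]
      exact a.2
    refine ⟨h, ?_⟩
    have : a = ⟨QuotientGroup.mk x, h⟩ := Subtype.ext hax
    rw [← this]
    exact ha
  · rintro ⟨h, hA⟩
    exact ⟨⟨QuotientGroup.mk x, h⟩, hA, rfl⟩

theorem center_le_pre (G : Subgroup PGLn) (A : Subgroup ↥G) : Zn ≤ pre G A := by
  intro z hz
  rw [mem_pre]
  have h1 : (QuotientGroup.mk z : PGLn) = 1 := (QuotientGroup.eq_one_iff z).2 hz
  refine ⟨by rw [h1]; exact G.one_mem, ?_⟩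
  have : (⟨QuotientGroup.mk z, by rw [h1]; exact G.one_mem⟩ : ↥G) = 1 := Subtype.ext h1
  rw [this]
  exact A.one_mem

/-- the preimage of a nilpotent subgroup is nilpotent -/
theorem pre_isNilpotent (G : Subgroup PGLn) (A : Subgroup ↥G) (hA : Group.IsNilpotent ↥A) :
    Group.IsNilpotent ↥(pre G A) := by
  -- the map `pre G A → A`
  let f : ↥(pre G A) →* ↥A :=
    { toFun := fun x => ⟨⟨QuotientGroup.mk x.1, ((mem_pre G A x.1).1 x.2).1⟩,
        ((mem_pre G A x.1).1 x.2).2⟩
      map_one' := by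
        apply Subtype.ext
        apply Subtype.ext
        rfl
      map_mul' := fun x y => by
        apply Subtype.ext
        apply Subtype.ext
        rfl }
  haveI := hA
  apply Subgroup.isNilpotent_of_ker_le_center f
  intro x hx
  rw [MonoidHom.mem_ker] at hx
  have h1 : (QuotientGroup.mk x.1 : PGLn) = 1 := by
    have := congrArg (fun a : ↥A => (a.1.1 : PGLn)) hx
    exact this
  have h2 : x.1 ∈ Zn := (QuotientGroup.eq_one_iff x.1).1 h1
  rw [Subgroup.mem_center_iff]
  intro y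
  apply Subtype.ext
  exact Subgroup.mem_center_iff.1 h2 y.1

/-- the subgroup of `↥G` of the elements with a representative in `S` -/
def down (G : Subgroup PGLn) (S : Subgroup (GL (Fin n) F)) : Subgroup ↥G :=
  (S.map (QuotientGroup.mk' Zn)).comap G.subtype

theorem mem_down_iff (G : Subgroup PGLn) (S : Subgroup (GL (Fin n) F)) (hS : Zn ≤ S)
    (x : GL (Fin n) F) (hxG : (QuotientGroup.mk x : PGLn) ∈ G) :
    (⟨QuotientGroup.mk x, hxG⟩ : ↥G) ∈ down G S ↔ x ∈ S := by
  unfold down
  rw [Subgroup.mem_comap, Subgroup.mem_map]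
  constructor
  · rintro ⟨s, hs, hsx⟩
    have h1 : (QuotientGroup.mk s : PGLn) = QuotientGroup.mk x := hsx
    rw [QuotientGroup.eq] at h1
    have h2 : x = s * (s⁻¹ * x) := by group
    rw [h2]
    exact S.mul_mem hs (hS h1)
  · intro hx
    exact ⟨x, hx, rfl⟩

theorem le_down (G : Subgroup PGLn) (A : Subgroup ↥G) (S : Subgroup (GL (Fin n) F)) (hS : Zn ≤ S)
    (h : pre G A ≤ S) : A ≤ down G S := by
  intro a ha
  obtain ⟨x, hx⟩ := QuotientGroup.mk_surjective a.1
  have hxG : (QuotientGroup.mk x : PGLn) ∈ G := by rw [hx]; exact a.2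
  have ha' : a = ⟨QuotientGroup.mk x, hxG⟩ := Subtype.ext hx.symm
  rw [ha', mem_down_iff G S hS]
  apply h
  rw [mem_pre]
  exact ⟨hxG, by rw [← ha']; exact ha⟩

theorem down_ne_top (G : Subgroup PGLn) (S : Subgroup (GL (Fin n) F)) (hS : Zn ≤ S)
    (x : GL (Fin n) F) (hxG : (QuotientGroup.mk x : PGLn) ∈ G) (hxS : x ∉ S) : down G S ≠ ⊤ := by
  intro h
  apply hxS
  rw [← mem_down_iff G S hS x hxG, h]
  exact Subgroup.mem_top _

/-- the image of `SL_n` lies in `G` -/
theorem mk_sl_mem (G : Subgroup PGLn)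
    (hG : ((Matrix.SpecialLinearGroup.toGL : Matrix.SpecialLinearGroup (Fin n) F →*
      GL (Fin n) F).range).map (QuotientGroup.mk' Zn) ≤ G) (x : GL (Fin n) F)
    (hx : x.1.det = 1) : (QuotientGroup.mk x : PGLn) ∈ G := by
  apply hG
  rw [Subgroup.mem_map]
  refine ⟨x, ?_, rfl⟩
  rw [MonoidHom.mem_range]
  refine ⟨⟨x.1, hx⟩, ?_⟩
  apply Units.ext
  rfl

/-- membership of a matrix element in the preimage of a member containing its class -/
theorem mem_pre_of_mem (G : Subgroup PGLn) (A : Subgroup ↥G) (x : GL (Fin n) F)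
    (hxG : (QuotientGroup.mk x : PGLn) ∈ G) (hxA : (⟨QuotientGroup.mk x, hxG⟩ : ↥G) ∈ A) :
    x ∈ pre G A := (mem_pre G A x).2 ⟨hxG, hxA⟩

end Cfsg.Agent.Lib.Helper16.NilCov
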