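import Mathlib
import Cfsg.Agent.Lib.Helper16.NilCovB

/-!
# Nilpotent minimal covers, part C: line and coline stabilisers, the two forms of Lemma P for the
preimage of a nilpotent member, and the Jordan block
-/

set_option autoImplicit false
set_option linter.unusedSectionVars false
set_option linter.unusedVariables false
set_option linter.style.haveILetI false

namespace Cfsg.Agent.Lib.Helper16.NilCov

open Matrix

variable {F : Type*} [Field F] {n : ℕ}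

local notation "Zn" => Subgroup.center (GL (Fin n) F)
local notation "PGLn" => GL (Fin n) F ⧸ Subgroup.center (GL (Fin n) F)

/-- the stabiliser of the line spanned by a vector -/
def lineStab (v : Fin n → F) : Subgroup (GL (Fin n) F) where
  carrier := {h | (∃ c : F, h.1.mulVec v = c • v) ∧ (∃ c : F, (h⁻¹).1.mulVec v = c • v)}
  one_mem' := ⟨⟨1, by simp⟩, ⟨1, by simp⟩⟩
  mul_mem' := by
    rintro a b ⟨⟨c1, h1⟩, ⟨c2, h2⟩⟩ ⟨⟨d1, k1⟩, ⟨d2, k2⟩⟩
    refine ⟨⟨c1 * d1, ?_⟩, ⟨d2 * c2, ?_⟩⟩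
    · rw [Units.val_mul, ← Matrix.mulVec_mulVec, k1, Matrix.mulVec_smul, h1, smul_smul, mul_comm]
    · rw [_root_.mul_inv_rev, Units.val_mul, ← Matrix.mulVec_mulVec, h2, Matrix.mulVec_smul, k2, smul_smul,
        mul_comm]
  inv_mem' := by
    rintro a ⟨h1, h2⟩
    exact ⟨h2, by rwa [inv_inv]⟩

/-- the stabiliser of the line spanned by a covector -/
def covStab (w : Fin n → F) : Subgroup (GL (Fin n) F) where
  carrier := {h | (∃ c : F, Matrix.vecMul w h.1 = c • w) ∧ (∃ c : F, Matrix.vecMul w (h⁻¹).1 = c • w)}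
  one_mem' := ⟨⟨1, by simp⟩, ⟨1, by simp⟩⟩
  mul_mem' := by
    rintro a b ⟨⟨c1, h1⟩, ⟨c2, h2⟩⟩ ⟨⟨d1, k1⟩, ⟨d2, k2⟩⟩
    refine ⟨⟨c1 * d1, ?_⟩, ⟨d2 * c2, ?_⟩⟩
    · rw [Units.val_mul, ← Matrix.vecMul_vecMul, h1, Matrix.smul_vecMul, k1, smul_smul]
    · rw [_root_.mul_inv_rev, Units.val_mul, ← Matrix.vecMul_vecMul, k2, Matrix.smul_vecMul, h2, smul_smul]
  inv_mem' := by
    rintro a ⟨h1, h2⟩
    exact ⟨h2, by rwa [inv_inv]⟩

theorem center_le_lineStab (v : Fin n → F) : Zn ≤ lineStab v := by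
  intro z hz
  have key : ∀ z : GL (Fin n) F, z ∈ Zn → ∃ c : F, z.1.mulVec v = c • v := by
    intro z hz
    obtain ⟨r, hr⟩ := Matrix.GeneralLinearGroup.mem_center_iff_val_mem_range_scalar.1 hz
    refine ⟨r, ?_⟩
    rw [← hr]
    ext i
    simp [Matrix.mulVec, dotProduct, Matrix.diagonal_apply]
  exact ⟨key z hz, key z⁻¹ (Subgroup.inv_mem _ hz)⟩

theorem center_le_covStab (w : Fin n → F) : Zn ≤ covStab w := by
  intro z hz
  have key : ∀ z : GL (Fin n) F, z ∈ Zn → ∃ c : F, Matrix.vecMul w z.1 = c • w := by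
    intro z hz
    obtain ⟨r, hr⟩ := Matrix.GeneralLinearGroup.mem_center_iff_val_mem_range_scalar.1 hz
    refine ⟨r, ?_⟩
    rw [← hr]
    ext i
    simp [Matrix.vecMul, dotProduct, Matrix.diagonal_apply, mul_comm]
  exact ⟨key z hz, key z⁻¹ (Subgroup.inv_mem _ hz)⟩

/-- the inverse transpose as an endomorphism of `GL_n` -/
def invT : GL (Fin n) F →* GL (Fin n) F where
  toFun h := ⟨(h⁻¹).1ᵀ, h.1ᵀ, by
    rw [← Matrix.transpose_mul, ← Units.val_mul, mul_inv_cancel, Units.val_one,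
      Matrix.transpose_one], by
    rw [← Matrix.transpose_mul, ← Units.val_mul, inv_mul_cancel, Units.val_one,
      Matrix.transpose_one]⟩
  map_one' := by
    apply Units.ext
    show ((1 : GL (Fin n) F)⁻¹).1ᵀ = 1
    rw [inv_one, Units.val_one, Matrix.transpose_one]
  map_mul' a b := by
    apply Units.ext
    show ((a * b)⁻¹).1ᵀ = (a⁻¹).1ᵀ * (b⁻¹).1ᵀ
    rw [_root_.mul_inv_rev, Units.val_mul, Matrix.transpose_mul]

theorem invT_val (h : GL (Fin n) F) : (invT h).1 = (h⁻¹).1ᵀ := rfl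

variable [Fintype F]

/-- Lemma P for the preimage of a nilpotent member -/
theorem pre_preserves_line (G : Subgroup PGLn) (A : Subgroup ↥G) (hA : Group.IsNilpotent ↥A)
    (p : ℕ) [Fact p.Prime] [CharP F p] (hn : 0 < n) (u : GL (Fin n) F) (huA : u ∈ pre G A)
    (hu : ∃ k : ℕ, u ^ (p ^ k) = 1) (v₀ : Fin n → F)
    (hfix : ∀ v : Fin n → F, u.1.mulVec v = v → ∃ c : F, v = c • v₀)
    (a : GL (Fin n) F) (ha : a ∈ pre G A) : ∃ c : F, a.1.mulVec v₀ = c • v₀ := by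
  haveI := pre_isNilpotent G A hA
  have hu' : ∃ k : ℕ, (⟨u, huA⟩ : ↥(pre G A)) ^ (p ^ k) = 1 := by
    obtain ⟨k, hk⟩ := hu
    exact ⟨k, Subtype.ext hk⟩
  exact nilpotent_preserves_line p hn (pre G A).subtype ⟨u, huA⟩ hu' v₀ hfix ⟨a, ha⟩

/-- the dual form of Lemma P -/
theorem pre_preserves_coline (G : Subgroup PGLn) (A : Subgroup ↥G) (hA : Group.IsNilpotent ↥A)
    (p : ℕ) [Fact p.Prime] [CharP F p] (hn : 0 < n) (u : GL (Fin n) F) (huA : u ∈ pre G A)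
    (hu : ∃ k : ℕ, u ^ (p ^ k) = 1) (w₀ : Fin n → F)
    (hfix : ∀ w : Fin n → F, Matrix.vecMul w u.1 = w → ∃ c : F, w = c • w₀)
    (a : GL (Fin n) F) (ha : a ∈ pre G A) : ∃ c : F, Matrix.vecMul w₀ a.1 = c • w₀ := by
  haveI := pre_isNilpotent G A hA
  have hu' : ∃ k : ℕ, (⟨u, huA⟩ : ↥(pre G A)) ^ (p ^ k) = 1 := by
    obtain ⟨k, hk⟩ := hu
    exact ⟨k, Subtype.ext hk⟩
  have hfix' : ∀ v : Fin n → F,
      ((invT.comp (pre G A).subtype) ⟨u, huA⟩).1.mulVec v = v → ∃ c : F, v = c • w₀ := by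
    intro v hv
    apply hfix
    have h1 : ((invT.comp (pre G A).subtype) ⟨u, huA⟩).1 = (u⁻¹).1ᵀ := rfl
    rw [h1, Matrix.mulVec_transpose] at hv
    have h2 : Matrix.vecMul (Matrix.vecMul v (u⁻¹).1) u.1 = v := by
      rw [Matrix.vecMul_vecMul, ← Units.val_mul, inv_mul_cancel, Units.val_one, Matrix.vecMul_one]
    rw [hv] at h2
    exact h2
  have key := nilpotent_preserves_line p hn (invT.comp (pre G A).subtype) ⟨u, huA⟩ hu' w₀ hfix'
    ⟨a⁻¹, (pre G A).inv_mem ha⟩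
  have h1 : ((invT.comp (pre G A).subtype) ⟨a⁻¹, (pre G A).inv_mem ha⟩).1 = a.1ᵀ := by
    show ((a⁻¹)⁻¹).1ᵀ = a.1ᵀ
    rw [inv_inv]
  rw [h1, Matrix.mulVec_transpose] at key
  exact key

/-- membership in the line stabiliser from Lemma P -/
theorem pre_le_lineStab (G : Subgroup PGLn) (A : Subgroup ↥G) (v₀ : Fin n → F)
    (h : ∀ a ∈ pre G A, ∃ c : F, a.1.mulVec v₀ = c • v₀) : pre G A ≤ lineStab v₀ :=
  fun a ha => ⟨h a ha, h a⁻¹ ((pre G A).inv_mem ha)⟩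

theorem pre_le_covStab (G : Subgroup PGLn) (A : Subgroup ↥G) (w₀ : Fin n → F)
    (h : ∀ a ∈ pre G A, ∃ c : F, Matrix.vecMul w₀ a.1 = c • w₀) : pre G A ≤ covStab w₀ :=
  fun a ha => ⟨h a ha, h a⁻¹ ((pre G A).inv_mem ha)⟩

end Cfsg.Agent.Lib.Helper16.NilCov
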