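import Mathlib
import Cfsg.Agent.Lib.Helper16.NilCovC

/-!
# Nilpotent minimal covers, part D: the case `n ≥ 3` (merging two members)
-/

set_option autoImplicit false
set_option linter.unusedSectionVars false
set_option linter.unusedVariables false
set_option linter.style.haveILetI false

namespace Cfsg.Agent.Lib.Helper16.NilCov

open Matrix

variable {F : Type*} [Field F] {m : ℕ}

/-- the nilpotent part of the Jordan block -/
def Nil (n : ℕ) : Matrix (Fin n) (Fin n) F :=
  Matrix.of fun i j => if i.val + 1 = j.val then 1 else 0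

/-- the Jordan block -/
def Jor (n : ℕ) : Matrix (Fin n) (Fin n) F := 1 + Nil n

theorem Nil_apply (n : ℕ) (i j : Fin n) :
    (Nil n : Matrix (Fin n) (Fin n) F) i j = if i.val + 1 = j.val then 1 else 0 := rfl

theorem Nil_mulVec (n : ℕ) (v : Fin n → F) (i : Fin n) (h : i.val + 1 < n) :
    (Nil n : Matrix (Fin n) (Fin n) F).mulVec v i = v ⟨i.val + 1, h⟩ := by
  rw [Matrix.mulVec, dotProduct, Finset.sum_eq_single ⟨i.val + 1, h⟩]
  · rw [Nil_apply, if_pos rfl, one_mul]
  · intro j _ hj
    rw [Nil_apply, if_neg, zero_mul]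
    intro h2
    apply hj
    exact Fin.ext h2.symm
  · intro h2
    exact absurd (Finset.mem_univ _) h2

theorem Nil_vecMul (n : ℕ) (w : Fin n → F) (i : Fin n) (h : i.val + 1 < n) :
    Matrix.vecMul w (Nil n : Matrix (Fin n) (Fin n) F) ⟨i.val + 1, h⟩ = w i := by
  rw [Matrix.vecMul, dotProduct, Finset.sum_eq_single i]
  · rw [Nil_apply, if_pos rfl, mul_one]
  · intro j _ hj
    rw [Nil_apply, if_neg, mul_zero]
    intro h2
    apply hj
    apply Fin.ext
    have : j.val + 1 = i.val + 1 := h2
    omega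
  · intro h2
    exact absurd (Finset.mem_univ _) h2

theorem Jor_blockTriangular (n : ℕ) : (Jor n : Matrix (Fin n) (Fin n) F).BlockTriangular id := by
  intro i j hij
  have hij' : j < i := hij
  have h1 : j.val < i.val := hij'
  rw [Jor, Matrix.add_apply, Matrix.one_apply_ne (by intro h; rw [h] at h1; exact lt_irrefl _ h1),
    Nil_apply, if_neg (by omega), add_zero]

theorem Jor_diag (n : ℕ) (i : Fin n) : (Jor n : Matrix (Fin n) (Fin n) F) i i = 1 := by
  rw [Jor, Matrix.add_apply, Matrix.one_apply_eq, Nil_apply, if_neg (by omega), add_zero]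

theorem Jor_det (n : ℕ) : (Jor n : Matrix (Fin n) (Fin n) F).det = 1 := by
  rw [Matrix.det_of_upperTriangular (Jor_blockTriangular n)]
  simp [Jor_diag]

theorem Nil_pow (n : ℕ) : (Nil n : Matrix (Fin n) (Fin n) F) ^ n = 0 := by
  have h1 : (Jor n : Matrix (Fin n) (Fin n) F).charpoly = (Polynomial.X - Polynomial.C 1) ^ n := by
    rw [Matrix.charpoly_of_upperTriangular _ (Jor_blockTriangular n)]
    simp [Jor_diag]
  have h2 := Matrix.aeval_self_charpoly (Jor n : Matrix (Fin n) (Fin n) F)
  rw [h1] at h2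
  simp only [map_pow, map_sub, Polynomial.aeval_X, Polynomial.aeval_C, map_one] at h2
  have h3 : (Jor n : Matrix (Fin n) (Fin n) F) - 1 = Nil n := by rw [Jor]; abel
  rw [h3] at h2
  exact h2

/-- fixed vectors of the Jordan block -/
theorem Jor_fixed (n : ℕ) (hn : 0 < n) (v : Fin n → F)
    (h : (Jor n : Matrix (Fin n) (Fin n) F).mulVec v = v) :
    ∃ c : F, v = c • (Pi.single ⟨0, hn⟩ 1 : Fin n → F) := by
  have h1 : (Nil n : Matrix (Fin n) (Fin n) F).mulVec v = 0 := by
    rw [Jor, Matrix.add_mulVec, Matrix.one_mulVec] at h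
    exact left_eq_add.1 h.symm
  refine ⟨v ⟨0, hn⟩, ?_⟩
  ext j
  by_cases hj : j = ⟨0, hn⟩
  · rw [hj]; simp
  · have hj1 : 0 < j.val := by
      rcases Nat.eq_zero_or_pos j.val with h0 | h0
      · exact absurd (Fin.ext h0) hj
      · exact h0
    have h2 := Nil_mulVec n v ⟨j.val - 1, by omega⟩ (by
      show j.val - 1 + 1 < n
      have := j.2
      omega)
    rw [h1] at h2
    have h3 : (⟨(⟨j.val - 1, by omega⟩ : Fin n).val + 1, by
      show j.val - 1 + 1 < n
      have := j.2
      omega⟩ : Fin n) = j := by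
      apply Fin.ext
      show j.val - 1 + 1 = j.val
      omega
    rw [h3] at h2
    rw [← h2]
    simp [hj]

/-- fixed covectors of the Jordan block -/
theorem Jor_cofixed (n : ℕ) (hn : 0 < n) (w : Fin n → F)
    (h : Matrix.vecMul w (Jor n : Matrix (Fin n) (Fin n) F) = w) :
    ∃ c : F, w = c • (Pi.single ⟨n - 1, by omega⟩ 1 : Fin n → F) := by
  have h1 : Matrix.vecMul w (Nil n : Matrix (Fin n) (Fin n) F) = 0 := by
    rw [Jor, Matrix.vecMul_add, Matrix.vecMul_one] at h
    exact left_eq_add.1 h.symm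
  refine ⟨w ⟨n - 1, by omega⟩, ?_⟩
  ext j
  by_cases hj : j = ⟨n - 1, by omega⟩
  · rw [hj]; simp
  · have hj1 : j.val + 1 < n := by
      have := j.2
      rcases Nat.lt_or_ge (j.val + 1) n with h0 | h0
      · exact h0
      · exfalso
        apply hj
        apply Fin.ext
        show j.val = n - 1
        omega
    have h2 := Nil_vecMul n w j hj1
    rw [h1] at h2
    rw [← h2]
    simp [hj]

end Cfsg.Agent.Lib.Helper16.NilCov
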