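import Mathlib
import Cfsg.Agent.Lib.Helper16.NilCovD

/-!
# Nilpotent minimal covers, part E: the case `n ≥ 3`, assembly
-/

set_option autoImplicit false
set_option linter.unusedSectionVars false
set_option linter.unusedVariables false
set_option linter.style.haveILetI false
set_option linter.deprecated false

namespace Cfsg.Agent.Lib.Helper16.NilCov

open Matrix

variable {F : Type*} [Field F] {n : ℕ}

local notation "Zn" => Subgroup.center (GL (Fin n) F)
local notation "PGLn" => GL (Fin n) F ⧸ Subgroup.center (GL (Fin n) F)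

/-- an element of `GL_n` from a matrix of determinant one -/
def glOne (M : Matrix (Fin n) (Fin n) F) (h : M.det = 1) : GL (Fin n) F :=
  Matrix.SpecialLinearGroup.toGL ⟨M, h⟩

theorem glOne_val (M : Matrix (Fin n) (Fin n) F) (h : M.det = 1) : (glOne M h).1 = M := rfl

theorem glOne_det (M : Matrix (Fin n) (Fin n) F) (h : M.det = 1) : (glOne M h).1.det = 1 := h

theorem glOne_inv (M N : Matrix (Fin n) (Fin n) F) (h : M.det = 1) (h' : N.det = 1)
    (hMN : M * N = 1) : (glOne M h)⁻¹ = glOne N h' := by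
  apply inv_eq_of_mul_eq_one_right
  apply Units.ext
  exact hMN

theorem Jor_pow_char (p : ℕ) [Fact p.Prime] [CharP F p] (n : ℕ) (hn : 0 < n) :
    (Jor n : Matrix (Fin n) (Fin n) F) ^ (p ^ n) = 1 := by
  haveI : Nonempty (Fin n) := ⟨⟨0, hn⟩⟩
  haveI : CharP (Matrix (Fin n) (Fin n) F) p := Matrix.charP p
  rw [Jor, add_pow_char_pow_of_commute p n (Commute.one_left _), one_pow,
    pow_eq_zero_of_le (Nat.lt_pow_self (Fact.out : p.Prime).one_lt).le (Nil_pow n), add_zero]

section main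

variable [Fintype F]

theorem case_ge_three (hn : 3 ≤ n) (G : Subgroup PGLn)
    (hG : ((Matrix.SpecialLinearGroup.toGL : Matrix.SpecialLinearGroup (Fin n) F →*
      GL (Fin n) F).range).map (QuotientGroup.mk' Zn) ≤ G)
    (𝓐 : Finset (Subgroup ↥G)) (hcov : IsCover 𝓐)
    (hmin : ∀ 𝓑 : Finset (Subgroup ↥G), IsCover 𝓑 → 𝓐.card ≤ 𝓑.card)
    (hnil : ∀ A ∈ 𝓐, Group.IsNilpotent ↥A) : False := by
  classical
  obtain ⟨p, hp⟩ := CharP.exists F
  haveI := hp
  haveI : Fact p.Prime := ⟨CharP.char_is_prime F p⟩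
  have hn0 : 0 < n := by omega
  -- indices
  obtain ⟨i0, hi0⟩ : ∃ i : Fin n, i = ⟨0, hn0⟩ := ⟨_, rfl⟩
  obtain ⟨i1, hi1⟩ : ∃ i : Fin n, i = ⟨1, by omega⟩ := ⟨_, rfl⟩
  obtain ⟨il, hil⟩ : ∃ i : Fin n, i = ⟨n - 1, by omega⟩ := ⟨_, rfl⟩
  have h10 : i1 ≠ i0 := by rw [hi0, hi1]; intro h; exact absurd (Fin.mk.inj h) (by omega)
  have hl0 : il ≠ i0 := by rw [hi0, hil]; intro h; exact absurd (Fin.mk.inj h) (by omega)
  have hl1 : il ≠ i1 := by rw [hi1, hil]; intro h; exact absurd (Fin.mk.inj h) (by omega)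
  -- the Jordan block and its conjugate
  obtain ⟨JG, hJG⟩ : ∃ x : GL (Fin n) F, x = glOne (Jor n) (Jor_det n) := ⟨_, rfl⟩
  have hJval : JG.1 = Jor n := by rw [hJG]; rfl
  have hJdet : JG.1.det = 1 := by rw [hJval]; exact Jor_det n
  have hJpow : JG ^ (p ^ n) = 1 := by
    apply Units.ext
    rw [Units.val_pow_eq_pow_val, hJval, Jor_pow_char p n hn0, Units.val_one]
  obtain ⟨gT, hgT⟩ : ∃ x : GL (Fin n) F,
    x = glOne (Matrix.transvection i1 i0 (1 : F)) (Matrix.det_transvection_of_ne _ _ h10 _) :=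
    ⟨_, rfl⟩
  have hgTval : gT.1 = Matrix.transvection i1 i0 (1 : F) := by rw [hgT]; rfl
  have hgTinv : (gT⁻¹).1 = Matrix.transvection i1 i0 (-1 : F) := by
    rw [hgT, glOne_inv _ (Matrix.transvection i1 i0 (-1 : F)) _
      (Matrix.det_transvection_of_ne _ _ h10 _)]
    · rfl
    · rw [Matrix.transvection_mul_transvection_same _ _ h10, add_neg_cancel,
        Matrix.transvection_zero]
  obtain ⟨U2, hU2⟩ : ∃ x : GL (Fin n) F, x = gT * JG * gT⁻¹ := ⟨_, rfl⟩
  have hU2val : U2.1 = Matrix.transvection i1 i0 (1 : F) * Jor n *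
      Matrix.transvection i1 i0 (-1 : F) := by
    rw [hU2, Units.val_mul, Units.val_mul, hgTval, hJval, hgTinv]
  have hU2det : U2.1.det = 1 := by
    rw [hU2val, Matrix.det_mul, Matrix.det_mul, Matrix.det_transvection_of_ne _ _ h10,
      Matrix.det_transvection_of_ne _ _ h10, Jor_det, one_mul, one_mul]
  have hU2pow : U2 ^ (p ^ n) = 1 := by
    rw [hU2, conj_pow, hJpow, mul_one, mul_inv_cancel]
  -- fixed vectors and covectors
  have hJfix : ∀ v : Fin n → F, JG.1.mulVec v = v → ∃ c : F, v = c • (Pi.single i0 1 : Fin n → F) := by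
    intro v hv
    rw [hJval] at hv
    rw [hi0]
    exact Jor_fixed n hn0 v hv
  have hJcofix : ∀ w : Fin n → F, Matrix.vecMul w JG.1 = w →
      ∃ c : F, w = c • (Pi.single il 1 : Fin n → F) := by
    intro w hw
    rw [hJval] at hw
    rw [hil]
    exact Jor_cofixed n hn0 w hw
  have hrow : Matrix.vecMul (Pi.single il 1 : Fin n → F) (Matrix.transvection i1 i0 (-1 : F)) =
      Pi.single il 1 := by
    rw [Matrix.single_one_vecMul]
    ext j
    rw [Matrix.row_apply, Matrix.transvection, Matrix.add_apply, Matrix.single_apply,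
      if_neg (by rintro ⟨h, _⟩; exact hl1 h.symm), add_zero, Matrix.one_apply, Pi.single_apply]
    by_cases h : il = j
    · rw [if_pos h, if_pos h.symm]
    · rw [if_neg h, if_neg (Ne.symm h)]
  have hU2cofix : ∀ w : Fin n → F, Matrix.vecMul w U2.1 = w →
      ∃ c : F, w = c • (Pi.single il 1 : Fin n → F) := by
    intro w hw
    have h1 : Matrix.vecMul (Matrix.vecMul w gT.1) JG.1 = Matrix.vecMul w gT.1 := by
      have h2 : U2.1 * gT.1 = gT.1 * JG.1 := by
        rw [hU2, ← Units.val_mul, ← Units.val_mul]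
        congr 1
        group
      calc Matrix.vecMul (Matrix.vecMul w gT.1) JG.1 = Matrix.vecMul w (gT.1 * JG.1) := by
            rw [Matrix.vecMul_vecMul]
        _ = Matrix.vecMul w (U2.1 * gT.1) := by rw [h2]
        _ = Matrix.vecMul (Matrix.vecMul w U2.1) gT.1 := by rw [Matrix.vecMul_vecMul]
        _ = Matrix.vecMul w gT.1 := by rw [hw]
    obtain ⟨c, hc⟩ := hJcofix _ h1
    refine ⟨c, ?_⟩
    have h3 : w = Matrix.vecMul (Matrix.vecMul w gT.1) (gT⁻¹).1 := by
      rw [Matrix.vecMul_vecMul, ← Units.val_mul, mul_inv_cancel, Units.val_one, Matrix.vecMul_one]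
    rw [h3, hc, Matrix.smul_vecMul, hgTinv, hrow]
  -- the two members
  have hJG_G := mk_sl_mem G hG JG hJdet
  have hU2_G := mk_sl_mem G hG U2 hU2det
  obtain ⟨A₁, hA₁, hu₁⟩ := hcov.2 ⟨QuotientGroup.mk JG, hJG_G⟩
  obtain ⟨A₂, hA₂, hu₂⟩ := hcov.2 ⟨QuotientGroup.mk U2, hU2_G⟩
  have hJpre : JG ∈ pre G A₁ := mem_pre_of_mem G A₁ JG hJG_G hu₁
  have hU2pre : U2 ∈ pre G A₂ := mem_pre_of_mem G A₂ U2 hU2_G hu₂
  have h1S : pre G A₁ ≤ covStab (Pi.single il 1 : Fin n → F) :=
    pre_le_covStab G A₁ _ (pre_preserves_coline G A₁ (hnil A₁ hA₁) p hn0 JG hJpre ⟨n, hJpow⟩ _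
      hJcofix)
  have h2S : pre G A₂ ≤ covStab (Pi.single il 1 : Fin n → F) :=
    pre_le_covStab G A₂ _ (pre_preserves_coline G A₂ (hnil A₂ hA₂) p hn0 U2 hU2pre ⟨n, hU2pow⟩ _
      hU2cofix)
  -- the common proper overgroup
  have hSc := center_le_covStab (Pi.single il 1 : Fin n → F)
  obtain ⟨xT, hxT⟩ : ∃ x : GL (Fin n) F,
    x = glOne (Matrix.transvection il i0 (1 : F)) (Matrix.det_transvection_of_ne _ _ hl0 _) :=
    ⟨_, rfl⟩
  have hxTval : xT.1 = Matrix.transvection il i0 (1 : F) := by rw [hxT]; rfl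
  have hxT_G := mk_sl_mem G hG xT (by rw [hxTval]; exact Matrix.det_transvection_of_ne _ _ hl0 _)
  have hxT_S : xT ∉ covStab (Pi.single il 1 : Fin n → F) := by
    rintro ⟨⟨c, hc⟩, _⟩
    rw [hxTval, Matrix.single_one_vecMul] at hc
    have h1 := congrFun hc i0
    rw [Matrix.row_apply, Matrix.transvection, Matrix.add_apply, Matrix.single_apply,
      if_pos ⟨rfl, rfl⟩, Matrix.one_apply_ne hl0, zero_add, Pi.smul_apply,
      Pi.single_eq_of_ne (Ne.symm hl0), smul_zero] at h1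
    exact one_ne_zero h1
  have hMtop := down_ne_top G _ hSc xT hxT_G hxT_S
  have h1M := le_down G A₁ _ hSc h1S
  have h2M := le_down G A₂ _ hSc h2S
  -- the members differ
  have hne : A₁ ≠ A₂ := by
    intro h
    rw [← h] at hU2pre
    obtain ⟨c, hc⟩ := pre_preserves_line G A₁ (hnil A₁ hA₁) p hn0 JG hJpre ⟨n, hJpow⟩ _ hJfix U2
      hU2pre
    have h1 := congrFun hc i1
    rw [Matrix.mulVec_single_one, Matrix.col_apply, Pi.smul_apply, Pi.single_eq_of_ne h10,
      smul_zero, hU2val, Matrix.mul_transvection_apply_same,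
      Matrix.transvection_mul_apply_same, Matrix.transvection_mul_apply_same] at h1
    have e10 : (Jor n : Matrix (Fin n) (Fin n) F) i1 i0 = 0 := by
      rw [Jor, Matrix.add_apply, Matrix.one_apply_ne h10, Nil_apply, if_neg, add_zero]
      rw [hi0, hi1]; simp
    have e00 : (Jor n : Matrix (Fin n) (Fin n) F) i0 i0 = 1 := Jor_diag n i0
    have e11 : (Jor n : Matrix (Fin n) (Fin n) F) i1 i1 = 1 := Jor_diag n i1
    have e01 : (Jor n : Matrix (Fin n) (Fin n) F) i0 i1 = 1 := by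
      rw [Jor, Matrix.add_apply, Matrix.one_apply_ne (Ne.symm h10), Nil_apply, if_pos, zero_add]
      rw [hi0, hi1]
    rw [e10, e00, e11, e01] at h1
    have : (-1 : F) = 0 := by
      rw [← h1]; ring
    exact one_ne_zero (neg_eq_zero.1 this)
  exact merge_contra 𝓐 hcov hmin A₁ A₂ _ hA₁ hA₂ hne hMtop h1M h2M

end main

end Cfsg.Agent.Lib.Helper16.NilCov
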