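import Mathlib
import Cfsg.Agent.Lib.Helper18.NilCovFO1
import Cfsg.Agent.Lib.Helper18.NilCovFO4
import Cfsg.Agent.Lib.Helper18.NilCovFO5
import Cfsg.Agent.Lib.Helper28.NilCovFO23

/-!
# Nilpotent minimal covers: the farmed-out lemmas (wrappers around the lemmas of helper18 and
helper28)
-/

set_option autoImplicit false

namespace Cfsg.Agent.Lib.Helper16.NilCov.FO

theorem commute_of_coprime_orderOf {Γ : Type*} [Group Γ] [Finite Γ] [Group.IsNilpotent Γ]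
    (x y : Γ) (h : (orderOf x).Coprime (orderOf y)) : x * y = y * x :=
  Cfsg.Agent.Lib.Helper18.NilCovFO1.commute_of_coprime_orderOf x y h

theorem pow_card_add_one_of_noEig {F : Type*} [Field F] [Fintype F]
    (M : Matrix (Fin 2) (Fin 2) F)
    (hM : ∀ v : Fin 2 → F, v ≠ 0 → ∀ c : F, M.mulVec v ≠ c • v) :
    M ^ (Fintype.card F + 1) = M.det • (1 : Matrix (Fin 2) (Fin 2) F) :=
  Cfsg.Agent.Lib.Helper28.NilCovFO23.pow_card_add_one_of_noEig M hM

theorem mem_span_of_commute {F : Type*} [Field F] (M X : Matrix (Fin 2) (Fin 2) F)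
    (hM : ¬ ∃ a : F, M = a • (1 : Matrix (Fin 2) (Fin 2) F)) (h : X * M = M * X) :
    ∃ a b : F, X = a • (1 : Matrix (Fin 2) (Fin 2) F) + b • M :=
  Cfsg.Agent.Lib.Helper28.NilCovFO23.mem_span_of_commute M X hM h

theorem scalar_eq_one_of_conj {F : Type*} [Field F] (Z W : Matrix (Fin 2) (Fin 2) F) (l : F)
    (hZ : Z.det ≠ 0) (hW : W.det ≠ 0) (h : Z * W = l • (W * Z))
    (hW2 : ¬ ∃ a : F, W * W = a • (1 : Matrix (Fin 2) (Fin 2) F)) : l = 1 :=
  Cfsg.Agent.Lib.Helper18.NilCovFO4.scalar_eq_one_of_conj Z W l hZ hW h hW2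

theorem exists_pow_four_not_scalar {F : Type*} [Field F] [Fintype F] (hq : 4 ≤ Fintype.card F)
    (M : Matrix (Fin 2) (Fin 2) F)
    (hM : ∀ v : Fin 2 → F, v ≠ 0 → ∀ c : F, M.mulVec v ≠ c • v) :
    ∃ c : F, ¬ ∃ a : F, (M + c • (1 : Matrix (Fin 2) (Fin 2) F)) ^ 4 =
      a • (1 : Matrix (Fin 2) (Fin 2) F) :=
  Cfsg.Agent.Lib.Helper18.NilCovFO5.exists_pow_four_not_scalar hq M hM

end Cfsg.Agent.Lib.Helper16.NilCov.FO
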