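import Mathlib
import Cfsg.Agent.Lib.Helper16.NilCovFO

/-!
# Nilpotent minimal covers, part F: `2 × 2` matrices — scalar matrices, matrices without
eigenvectors, and the algebra spanned by a matrix
-/

set_option autoImplicit false
set_option linter.unusedSectionVars false
set_option linter.unusedVariables false
set_option linter.style.haveILetI false

namespace Cfsg.Agent.Lib.Helper16.NilCov

open Matrix

variable {F : Type*} [Field F]

/-- scalar matrices -/
def IsScal (X : Matrix (Fin 2) (Fin 2) F) : Prop :=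
  ∃ a : F, X = a • (1 : Matrix (Fin 2) (Fin 2) F)

/-- no eigenvector over the ground field -/
def NoEig (M : Matrix (Fin 2) (Fin 2) F) : Prop :=
  ∀ v : Fin 2 → F, v ≠ 0 → ∀ c : F, M.mulVec v ≠ c • v

/-- membership in the span of `1` and `M` -/
def InL (M X : Matrix (Fin 2) (Fin 2) F) : Prop :=
  ∃ a b : F, X = a • (1 : Matrix (Fin 2) (Fin 2) F) + b • M

theorem cayley (M : Matrix (Fin 2) (Fin 2) F) :
    M * M = M.trace • M - M.det • (1 : Matrix (Fin 2) (Fin 2) F) := by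
  ext i j
  fin_cases i <;> fin_cases j <;>
    simp [Matrix.mul_apply, Fin.sum_univ_two, Matrix.trace_fin_two, Matrix.det_fin_two] <;> ring

theorem InL.one (M : Matrix (Fin 2) (Fin 2) F) : InL M 1 := ⟨1, 0, by simp⟩

theorem InL.self (M : Matrix (Fin 2) (Fin 2) F) : InL M M := ⟨0, 1, by simp⟩

theorem InL.scal (M : Matrix (Fin 2) (Fin 2) F) (a : F) :
    InL M (a • (1 : Matrix (Fin 2) (Fin 2) F)) := ⟨a, 0, by simp⟩

theorem InL.mul {M X Y : Matrix (Fin 2) (Fin 2) F} (hX : InL M X) (hY : InL M Y) :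
    InL M (X * Y) := by
  obtain ⟨a, b, rfl⟩ := hX
  obtain ⟨c, d, rfl⟩ := hY
  refine ⟨a * c - b * d * M.det, a * d + b * c + b * d * M.trace, ?_⟩
  have h := cayley M
  calc (a • (1 : Matrix (Fin 2) (Fin 2) F) + b • M) * (c • (1 : Matrix (Fin 2) (Fin 2) F) + d • M)
      = (a * c) • (1 : Matrix (Fin 2) (Fin 2) F) + (a * d + b * c) • M + (b * d) • (M * M) := by
        simp only [add_mul, mul_add, smul_mul_assoc, mul_smul_comm, one_mul, mul_one]
        module
    _ = _ := by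
        rw [h]
        module

theorem InL.pow {M X : Matrix (Fin 2) (Fin 2) F} (hX : InL M X) (k : ℕ) : InL M (X ^ k) := by
  induction k with
  | zero => rw [pow_zero]; exact InL.one M
  | succ k ih => rw [pow_succ]; exact ih.mul hX

theorem InL.trans {M X Y : Matrix (Fin 2) (Fin 2) F} (hX : InL M X) (hY : InL X Y) : InL M Y := by
  obtain ⟨a, b, rfl⟩ := hX
  obtain ⟨c, d, rfl⟩ := hY
  refine ⟨c + d * a, d * b, ?_⟩
  module

theorem InL.symm {M X : Matrix (Fin 2) (Fin 2) F} (hX : InL M X) (hs : ¬ IsScal X) : InL X M := by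
  obtain ⟨a, b, rfl⟩ := hX
  have hb : b ≠ 0 := by
    rintro rfl
    exact hs ⟨a, by simp⟩
  refine ⟨-(b⁻¹ * a), b⁻¹, ?_⟩
  simp only [smul_add, smul_smul, inv_mul_cancel₀ hb, one_smul, neg_smul]
  abel

/-- the span of a non-scalar element of the span is the whole span -/
theorem InL.iff_of_mem {M X : Matrix (Fin 2) (Fin 2) F} (hX : InL M X) (hs : ¬ IsScal X)
    (Y : Matrix (Fin 2) (Fin 2) F) : InL X Y ↔ InL M Y :=
  ⟨fun h => hX.trans h, fun h => (hX.symm hs).trans h⟩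

/-- the inverse of an invertible element of the span -/
theorem InL.inv {M : Matrix (Fin 2) (Fin 2) F} (h : GL (Fin 2) F) (hh : InL M h.1) :
    InL M (h⁻¹).1 := by
  have hdet : h.1.det ≠ 0 := by
    have := h.isUnit.map (Matrix.detMonoidHom (n := Fin 2) (R := F))
    exact this.ne_zero
  have h1 : h.1 * ((h.1.det)⁻¹ • (h.1.trace • (1 : Matrix (Fin 2) (Fin 2) F) - h.1)) = 1 := by
    rw [mul_smul_comm, mul_sub, mul_smul_comm, mul_one, cayley]
    rw [sub_sub_cancel, smul_smul, inv_mul_cancel₀ hdet, one_smul]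
  have h2 : (h⁻¹).1 = (h.1.det)⁻¹ • (h.1.trace • (1 : Matrix (Fin 2) (Fin 2) F) - h.1) := by
    calc (h⁻¹).1 = (h⁻¹).1 * (h.1 * ((h.1.det)⁻¹ •
          (h.1.trace • (1 : Matrix (Fin 2) (Fin 2) F) - h.1))) := by rw [h1, mul_one]
      _ = _ := by rw [← mul_assoc, ← Units.val_mul, inv_mul_cancel, Units.val_one, one_mul]
  rw [h2]
  obtain ⟨a, b, hab⟩ := hh
  refine ⟨(h.1.det)⁻¹ * (h.1.trace - a), -((h.1.det)⁻¹ * b), ?_⟩
  rw [hab]
  simp only [smul_sub, smul_add, smul_smul, sub_smul, mul_sub, neg_smul]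
  abel

theorem IsScal.mul_self {X : Matrix (Fin 2) (Fin 2) F} (h : IsScal X) : IsScal (X * X) := by
  obtain ⟨a, rfl⟩ := h
  exact ⟨a * a, by simp [smul_smul]⟩

theorem NoEig.not_isScal {M : Matrix (Fin 2) (Fin 2) F} (h : NoEig M) : ¬ IsScal M := by
  rintro ⟨a, rfl⟩
  apply h ![1, 0] (by intro h0; have := congrFun h0 0; simp at this) a
  simp

theorem NoEig.of_InL {M X : Matrix (Fin 2) (Fin 2) F} (h : NoEig M) (hX : InL M X)
    (hs : ¬ IsScal X) : NoEig X := by
  obtain ⟨a, b, rfl⟩ := hX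
  have hb : b ≠ 0 := by
    rintro rfl
    exact hs ⟨a, by simp⟩
  intro v hv c hc
  apply h v hv (b⁻¹ * (c - a))
  rw [Matrix.add_mulVec, Matrix.smul_mulVec, Matrix.one_mulVec, Matrix.smul_mulVec] at hc
  have h1 : b • M.mulVec v = (c - a) • v := by
    rw [sub_smul, ← hc]; abel
  rw [← smul_smul, ← h1, smul_smul, inv_mul_cancel₀ hb, one_smul]

theorem NoEig.det_ne_zero {M : Matrix (Fin 2) (Fin 2) F} (h : NoEig M) : M.det ≠ 0 := by
  intro hd
  obtain ⟨v, hv, hMv⟩ := Matrix.exists_mulVec_eq_zero_iff.2 hd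
  exact h v hv 0 (by rw [hMv, zero_smul])

theorem exists_eig_of_not_noEig {M : Matrix (Fin 2) (Fin 2) F} (h : ¬ NoEig M) :
    ∃ v : Fin 2 → F, v ≠ 0 ∧ ∃ c : F, M.mulVec v = c • v := by
  unfold NoEig at h
  push Not at h
  obtain ⟨v, hv, c, hc⟩ := h
  exact ⟨v, hv, c, hc⟩

/-- the scalar matrices of `GL_2` are its centre -/
theorem isScal_iff_mem_center (x : GL (Fin 2) F) :
    IsScal x.1 ↔ x ∈ Subgroup.center (GL (Fin 2) F) := by
  rw [Matrix.GeneralLinearGroup.mem_center_iff_val_mem_range_scalar]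
  constructor
  · rintro ⟨a, ha⟩
    exact ⟨a, by rw [ha, Matrix.scalar_apply, Matrix.smul_one_eq_diagonal]⟩
  · rintro ⟨a, ha⟩
    exact ⟨a, by rw [← ha, Matrix.scalar_apply, Matrix.smul_one_eq_diagonal]⟩

theorem gl_det_ne_zero {n : ℕ} (h : GL (Fin n) F) : h.1.det ≠ 0 := by
  have := h.isUnit.map (Matrix.detMonoidHom (n := Fin n) (R := F))
  exact this.ne_zero

end Cfsg.Agent.Lib.Helper16.NilCov
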