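import Mathlib
import Cfsg.Agent.Lib.Helper16.NilCovE
import Cfsg.Agent.Lib.Helper16.NilCovF

/-!
# Nilpotent minimal covers, part G: commuting modulo scalars in the preimage of a nilpotent member,
and the counting lemma in the form used for `n = 2`
-/

set_option autoImplicit false
set_option linter.unusedSectionVars false
set_option linter.unusedVariables false
set_option linter.style.haveILetI false

namespace Cfsg.Agent.Lib.Helper16.NilCov

open Matrix

section counting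

variable {H : Type*} [Group H]

/-- counting with one witness for each member of a cover and one extra witness -/
theorem witness_contra' (𝓐 : Finset (Subgroup H)) (hcov : IsCover 𝓐)
    (hmin : ∀ 𝓑 : Finset (Subgroup H), IsCover 𝓑 → 𝓐.card ≤ 𝓑.card)
    (hnil : ∀ A ∈ 𝓐, Group.IsNilpotent ↥A)
    (𝓑 : Finset (Subgroup H)) (h𝓑 : IsCover 𝓑) (x : Subgroup H → H) (t : H)
    (h1 : ∀ B ∈ 𝓑, ∀ B' ∈ 𝓑, B ≠ B' → ∀ A : Subgroup H, Group.IsNilpotent ↥A → x B ∈ A →
      x B' ∈ A → False)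
    (h2 : ∀ B ∈ 𝓑, ∀ A : Subgroup H, Group.IsNilpotent ↥A → x B ∈ A → t ∈ A → False) : False := by
  classical
  have hcyc : ∀ g : H, Group.IsNilpotent ↥(Subgroup.zpowers g) := fun g => by
    letI : CommGroup ↥(Subgroup.zpowers g) := IsCyclic.commGroup
    infer_instance
  have hinj : Set.InjOn x (𝓑 : Set (Subgroup H)) := by
    intro B hB B' hB' hxx
    by_contra hne
    exact h1 B hB B' hB' hne _ (hcyc (x B)) (Subgroup.mem_zpowers _)
      (hxx ▸ Subgroup.mem_zpowers _)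
  have htn : t ∉ 𝓑.image x := by
    intro ht
    obtain ⟨B, hB, hBt⟩ := Finset.mem_image.1 ht
    exact h2 B hB _ (hcyc t) (hBt ▸ Subgroup.mem_zpowers _) (Subgroup.mem_zpowers _)
  refine witness_contra 𝓐 hcov hmin hnil 𝓑 h𝓑 (insert t (𝓑.image x)) ?_ ?_
  · rw [Finset.card_insert_of_notMem htn, Finset.card_image_of_injOn hinj]
    exact Nat.lt_succ_self _
  · intro a ha b hb hab A hA haA hbA
    rw [Finset.mem_insert] at ha hb
    rcases ha with rfl | ha
    · rcases hb with rfl | hb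
      · exact hab rfl
      · obtain ⟨B, hB, rfl⟩ := Finset.mem_image.1 hb
        exact h2 B hB A hA hbA haA
    · obtain ⟨B, hB, rfl⟩ := Finset.mem_image.1 ha
      rcases hb with rfl | hb
      · exact h2 B hB A hA haA hbA
      · obtain ⟨B', hB', rfl⟩ := Finset.mem_image.1 hb
        have hne : B ≠ B' := by
          rintro rfl
          exact hab rfl
        exact h1 B hB B' hB' hne A hA haA hbA

end counting

variable {F : Type*} [Field F] {n : ℕ}

local notation "Zn" => Subgroup.center (GL (Fin n) F)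
local notation "PGLn" => GL (Fin n) F ⧸ Subgroup.center (GL (Fin n) F)

/-- commuting classes commute up to a scalar -/
theorem comm_mod_scalar (x y : GL (Fin n) F)
    (h : (QuotientGroup.mk (x * y) : PGLn) = QuotientGroup.mk (y * x)) :
    ∃ l : F, x.1 * y.1 = l • (y.1 * x.1) := by
  rw [eq_comm, QuotientGroup.eq] at h
  obtain ⟨r, hr⟩ := Matrix.GeneralLinearGroup.mem_center_iff_val_mem_range_scalar.1 h
  refine ⟨r, ?_⟩
  have h1 : x * y = (y * x) * ((y * x)⁻¹ * (x * y)) := by group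
  have h2 := congrArg Units.val h1
  rw [Units.val_mul, Units.val_mul, ← hr, Units.val_mul] at h2
  rw [h2, Matrix.scalar_apply, ← Matrix.smul_one_eq_diagonal, Matrix.mul_smul, mul_one]

theorem mem_pre_cls (G : Subgroup PGLn) (A : Subgroup ↥G) (x : GL (Fin n) F) (hx : x ∈ pre G A) :
    ∃ h : (QuotientGroup.mk x : PGLn) ∈ G, (⟨QuotientGroup.mk x, h⟩ : ↥G) ∈ A :=
  (mem_pre G A x).1 hx

variable [Fintype F]

/-- elements of coprime orders modulo scalars commute modulo scalars -/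
theorem pre_comm_of_coprime (G : Subgroup PGLn) (A : Subgroup ↥G) (hA : Group.IsNilpotent ↥A)
    (x y : GL (Fin n) F) (hx : x ∈ pre G A) (hy : y ∈ pre G A) (m k : ℕ) (hm : x ^ m ∈ Zn)
    (hk : y ^ k ∈ Zn) (hmk : m.Coprime k) : ∃ l : F, x.1 * y.1 = l • (y.1 * x.1) := by
  haveI := hA
  obtain ⟨hxG, hxA⟩ := mem_pre_cls G A x hx
  obtain ⟨hyG, hyA⟩ := mem_pre_cls G A y hy
  apply comm_mod_scalar
  have hpow : ∀ (z : GL (Fin n) F) (hzG : (QuotientGroup.mk z : PGLn) ∈ G)
      (hzA : (⟨QuotientGroup.mk z, hzG⟩ : ↥G) ∈ A) (j : ℕ), z ^ j ∈ Zn →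
      orderOf (⟨⟨QuotientGroup.mk z, hzG⟩, hzA⟩ : ↥A) ∣ j := by
    intro z hzG hzA j hj
    apply orderOf_dvd_of_pow_eq_one
    apply Subtype.ext
    apply Subtype.ext
    show (QuotientGroup.mk z : PGLn) ^ j = 1
    rw [← QuotientGroup.mk_pow]
    exact (QuotientGroup.eq_one_iff _).2 hj
  have hcop : (orderOf (⟨⟨QuotientGroup.mk x, hxG⟩, hxA⟩ : ↥A)).Coprime
      (orderOf (⟨⟨QuotientGroup.mk y, hyG⟩, hyA⟩ : ↥A)) :=
    Nat.Coprime.of_dvd (hpow x hxG hxA m hm) (hpow y hyG hyA k hk) hmk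
  have hc := FO.commute_of_coprime_orderOf _ _ hcop
  have hc' := congrArg (fun a : ↥A => (a.1.1 : PGLn)) hc
  exact hc'

/-- a non-scalar element that commutes modulo scalars with the whole preimage -/
theorem pre_exists_central (G : Subgroup PGLn) (A : Subgroup ↥G) (hA : Group.IsNilpotent ↥A)
    (x : GL (Fin n) F) (hx : x ∈ pre G A) (hxZ : x ∉ Zn) :
    ∃ z : GL (Fin n) F, z ∈ pre G A ∧ z ∉ Zn ∧
      ∀ y ∈ pre G A, ∃ l : F, z.1 * y.1 = l • (y.1 * z.1) := by
  haveI := hA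
  obtain ⟨hxG, hxA⟩ := mem_pre_cls G A x hx
  haveI : Nontrivial ↥A := by
    refine ⟨⟨⟨⟨QuotientGroup.mk x, hxG⟩, hxA⟩, 1, ?_⟩⟩
    intro h
    apply hxZ
    have h1 := congrArg (fun a : ↥A => (a.1.1 : PGLn)) h
    exact (QuotientGroup.eq_one_iff x).1 h1
  have hne := Group.IsNilpotent.center_ne_bot (G := ↥A)
  obtain ⟨⟨zc, hzc⟩, hz1'⟩ := (Subgroup.ne_bot_iff_exists_ne_one).1 hne
  have hz1 : zc ≠ 1 := fun h => hz1' (Subtype.ext h)
  obtain ⟨zh, hzh⟩ := QuotientGroup.mk_surjective zc.1.1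
  have hzG : (QuotientGroup.mk zh : PGLn) ∈ G := by rw [hzh]; exact zc.1.2
  have hzeq : (⟨QuotientGroup.mk zh, hzG⟩ : ↥G) = zc.1 := Subtype.ext hzh
  have hzA : (⟨QuotientGroup.mk zh, hzG⟩ : ↥G) ∈ A := by rw [hzeq]; exact zc.2
  refine ⟨zh, mem_pre_of_mem G A zh hzG hzA, ?_, ?_⟩
  · intro hzZ
    apply hz1
    apply Subtype.ext
    apply Subtype.ext
    show (zc.1.1 : PGLn) = 1
    rw [← hzh]
    exact (QuotientGroup.eq_one_iff zh).2 hzZ
  · intro y hy
    obtain ⟨hyG, hyA⟩ := mem_pre_cls G A y hy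
    apply comm_mod_scalar
    have hc := Subgroup.mem_center_iff.1 hzc ⟨⟨QuotientGroup.mk y, hyG⟩, hyA⟩
    have hc' := congrArg (fun a : ↥A => (a.1.1 : PGLn)) hc
    have h3 : (zc.1.1 : PGLn) = QuotientGroup.mk zh := hzh.symm
    simp only [Subgroup.coe_mul] at hc'
    rw [h3] at hc'
    exact hc'.symm

end Cfsg.Agent.Lib.Helper16.NilCov
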