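import Mathlib
import Cfsg.Agent.Lib.Helper16.NilCovG

/-!
# Nilpotent minimal covers, part H: `n = 2` — tori, unipotent and diagonal elements
-/

set_option autoImplicit false
set_option linter.unusedSectionVars false
set_option linter.unusedVariables false
set_option linter.style.haveILetI false

namespace Cfsg.Agent.Lib.Helper16.NilCov

open Matrix

variable {F : Type*} [Field F]

local notation "Z2" => Subgroup.center (GL (Fin 2) F)
local notation "PGL2" => GL (Fin 2) F ⧸ Subgroup.center (GL (Fin 2) F)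

/-- the torus of a matrix: the invertible elements of its span -/
def torus (M : Matrix (Fin 2) (Fin 2) F) : Subgroup (GL (Fin 2) F) where
  carrier := {h | InL M h.1}
  one_mem' := InL.one M
  mul_mem' := fun {a b} ha hb => by
    show InL M (a * b).1
    rw [Units.val_mul]
    exact InL.mul ha hb
  inv_mem' := fun {a} ha => InL.inv a ha

theorem mem_torus (M : Matrix (Fin 2) (Fin 2) F) (h : GL (Fin 2) F) : h ∈ torus M ↔ InL M h.1 :=
  Iff.rfl

theorem center_le_torus (M : Matrix (Fin 2) (Fin 2) F) : Z2 ≤ torus M := by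
  intro z hz
  obtain ⟨a, ha⟩ := (isScal_iff_mem_center z).2 hz
  rw [mem_torus, ha]
  exact InL.scal M a

theorem torus_eq_of_iff (M M' : Matrix (Fin 2) (Fin 2) F) (h : ∀ Y, InL M Y ↔ InL M' Y) :
    torus M = torus M' := by
  ext x
  exact h x.1

theorem InL.commute {M X Y : Matrix (Fin 2) (Fin 2) F} (hX : InL M X) (hY : InL M Y) :
    X * Y = Y * X := by
  obtain ⟨a, b, rfl⟩ := hX
  obtain ⟨c, d, rfl⟩ := hY
  simp only [add_mul, mul_add, smul_mul_assoc, mul_smul_comm, one_mul, mul_one]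
  module

/-- the two elementary matrices -/
def E12 : Matrix (Fin 2) (Fin 2) F := !![1, 1; 0, 1]

def E21 : Matrix (Fin 2) (Fin 2) F := !![1, 0; 1, 1]

theorem E12_det : (E12 : Matrix (Fin 2) (Fin 2) F).det = 1 := by
  rw [E12, Matrix.det_fin_two_of]; ring

theorem E21_det : (E21 : Matrix (Fin 2) (Fin 2) F).det = 1 := by
  rw [E21, Matrix.det_fin_two_of]; ring

/-- a torus misses an element of determinant one -/
theorem exists_not_mem_torus (M : Matrix (Fin 2) (Fin 2) F) :
    ∃ x : GL (Fin 2) F, x.1.det = 1 ∧ x ∉ torus M := by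
  by_contra hcon
  push Not at hcon
  have h1 := hcon (glOne E12 E12_det) E12_det
  have h2 := hcon (glOne E21 E21_det) E21_det
  rw [mem_torus, glOne_val] at h1 h2
  have h3 := InL.commute h1 h2
  have h4 := congrFun (congrFun h3 0) 0
  simp [E12, E21, Matrix.mul_apply, Fin.sum_univ_two] at h4

/-- a line stabiliser misses an element of determinant one -/
theorem exists_not_mem_lineStab (v : Fin 2 → F) (hv : v ≠ 0) :
    ∃ x : GL (Fin 2) F, x.1.det = 1 ∧ x ∉ lineStab v := by
  by_contra hcon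
  push Not at hcon
  obtain ⟨⟨c1, h1⟩, _⟩ := hcon (glOne E12 E12_det) E12_det
  obtain ⟨⟨c2, h2⟩, _⟩ := hcon (glOne E21 E21_det) E21_det
  rw [glOne_val] at h1 h2
  have h10 := congrFun h1 0
  have h11 := congrFun h1 1
  have h20 := congrFun h2 0
  have h21 := congrFun h2 1
  simp [E12, Matrix.mulVec, dotProduct, Fin.sum_univ_two] at h10 h11
  simp [E21, Matrix.mulVec, dotProduct, Fin.sum_univ_two] at h20 h21
  apply hv
  have hv1 : v 1 = 0 := by
    by_contra hne
    have hc : c1 = 1 := by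
      have : (c1 - 1) * v 1 = 0 := by rw [sub_mul, ← h11]; ring
      rcases mul_eq_zero.1 this with h | h
      · exact sub_eq_zero.1 h
      · exact absurd h hne
    rw [hc, one_mul] at h10
    exact hne (left_eq_add.1 h10.symm)
  have hv0 : v 0 = 0 := by
    rw [hv1, mul_zero, add_zero] at h21
    exact h21
  ext i
  fin_cases i
  · exact hv0
  · exact hv1

/-- the unipotent matrix with fixed line spanned by `v` -/
def Umat (v : Fin 2 → F) : Matrix (Fin 2) (Fin 2) F :=
  !![1 - v 0 * v 1, v 0 * v 0; -(v 1 * v 1), 1 + v 0 * v 1]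

theorem Umat_det (v : Fin 2 → F) : (Umat v).det = 1 := by
  rw [Umat, Matrix.det_fin_two_of]; ring

theorem Umat_mulVec (v x : Fin 2 → F) :
    (Umat v).mulVec x = x + (v 0 * x 1 - v 1 * x 0) • v := by
  ext i
  fin_cases i <;> simp [Umat, Matrix.mulVec, dotProduct, Fin.sum_univ_two] <;> ring

theorem prop_of_cross_zero (v x : Fin 2 → F) (hv : v ≠ 0) (h : v 0 * x 1 - v 1 * x 0 = 0) :
    ∃ c : F, x = c • v := by
  by_cases h0 : v 0 = 0
  · have h1 : v 1 ≠ 0 := by
      intro h1
      apply hv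
      ext i
      fin_cases i
      · exact h0
      · exact h1
    rw [h0, zero_mul, zero_sub, neg_eq_zero] at h
    have hx0 : x 0 = 0 := by
      rcases mul_eq_zero.1 h with h | h
      · exact absurd h h1
      · exact h
    refine ⟨x 1 / v 1, ?_⟩
    ext i
    fin_cases i
    · simp [hx0, h0]
    · simp [div_mul_cancel₀ _ h1]
  · refine ⟨x 0 / v 0, ?_⟩
    ext i
    fin_cases i
    · simp [div_mul_cancel₀ _ h0]
    · simp only [Fin.mk_one, Fin.isValue, Pi.smul_apply, smul_eq_mul]
      field_simp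
      linear_combination h

theorem Umat_fixed (v : Fin 2 → F) (hv : v ≠ 0) (x : Fin 2 → F) (h : (Umat v).mulVec x = x) :
    ∃ c : F, x = c • v := by
  rw [Umat_mulVec] at h
  have h1 : (v 0 * x 1 - v 1 * x 0) • v = 0 := left_eq_add.1 h.symm
  rcases smul_eq_zero.1 h1 with h2 | h2
  · exact prop_of_cross_zero v x hv h2
  · exact absurd h2 hv

theorem Umat_pow (p : ℕ) [Fact p.Prime] [CharP F p] (v : Fin 2 → F) : Umat v ^ (p ^ 1) = 1 := by
  obtain ⟨N, hN⟩ : ∃ N : Matrix (Fin 2) (Fin 2) F,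
      N = !![-(v 0 * v 1), v 0 * v 0; -(v 1 * v 1), v 0 * v 1] := ⟨_, rfl⟩
  have h1 : Umat v = 1 + N := by
    rw [hN, Umat]
    ext i j
    fin_cases i <;> fin_cases j <;> simp <;> ring
  have h2 : N * N = 0 := by
    rw [hN]
    ext i j
    fin_cases i <;> fin_cases j <;> simp [Matrix.mul_apply, Fin.sum_univ_two] <;> ring
  haveI : CharP (Matrix (Fin 2) (Fin 2) F) p := Matrix.charP p
  have h3 : N ^ (p ^ 1) = 0 := by
    have hp2 : 2 ≤ p ^ 1 := by rw [pow_one]; exact (Fact.out : p.Prime).two_le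
    exact pow_eq_zero_of_le hp2 (by rw [pow_two, h2])
  rw [h1, add_pow_char_pow_of_commute p 1 (Commute.one_left _), one_pow, h3, add_zero]

/-- the unipotent element -/
def UG (v : Fin 2 → F) : GL (Fin 2) F := glOne (Umat v) (Umat_det v)

theorem UG_val (v : Fin 2 → F) : (UG v).1 = Umat v := rfl

theorem UG_pow (p : ℕ) [Fact p.Prime] [CharP F p] (v : Fin 2 → F) : UG v ^ (p ^ 1) = 1 := by
  apply Units.ext
  rw [Units.val_pow_eq_pow_val, UG_val, Umat_pow p v, Units.val_one]

/-- the diagonal matrix -/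
def Tmat (a : F) : Matrix (Fin 2) (Fin 2) F := !![a, 0; 0, a⁻¹]

theorem Tmat_det (a : F) (ha : a ≠ 0) : (Tmat a).det = 1 := by
  rw [Tmat, Matrix.det_fin_two_of]; field_simp; ring

theorem Tmat_pow (a : F) (k : ℕ) : Tmat a ^ k = !![a ^ k, 0; 0, a⁻¹ ^ k] := by
  induction k with
  | zero =>
    ext i j
    fin_cases i <;> fin_cases j <;> simp
  | succ k ih =>
    rw [pow_succ, ih, Tmat]
    ext i j
    fin_cases i <;> fin_cases j <;> simp [Matrix.mul_apply, Fin.sum_univ_two, pow_succ]

/-- the diagonal element -/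
def TG (a : F) (ha : a ≠ 0) : GL (Fin 2) F := glOne (Tmat a) (Tmat_det a ha)

theorem TG_val (a : F) (ha : a ≠ 0) : (TG a ha).1 = Tmat a := rfl

theorem Tmat_not_isScal (a : F) (ha : a ≠ 0) (ha2 : a * a ≠ 1) : ¬ IsScal (Tmat a) := by
  rintro ⟨r, hr⟩
  have h0 := congrFun (congrFun hr 0) 0
  have h1 := congrFun (congrFun hr 1) 1
  simp [Tmat] at h0 h1
  apply ha2
  have h2 : a = a⁻¹ := h0.trans h1.symm
  calc a * a = a * a⁻¹ := by rw [← h2]
    _ = 1 := mul_inv_cancel₀ ha

/-- a power of the diagonal element is scalar as soon as both entries agree -/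
theorem TG_pow_mem_center (a : F) (ha : a ≠ 0) (k : ℕ) (h : a ^ k = a⁻¹ ^ k) :
    TG a ha ^ k ∈ Z2 := by
  rw [← isScal_iff_mem_center, Units.val_pow_eq_pow_val, TG_val, Tmat_pow]
  refine ⟨a ^ k, ?_⟩
  rw [← h]
  ext i j
  fin_cases i <;> fin_cases j <;> simp

end Cfsg.Agent.Lib.Helper16.NilCov
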