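import Mathlib
import Cfsg.Agent.Lib.Helper16.NilCovH

/-!
# Nilpotent minimal covers, part I: `n = 2` — the five incompatibilities, in the preimage of a
nilpotent member
-/

set_option autoImplicit false
set_option linter.unusedSectionVars false
set_option linter.unusedVariables false
set_option linter.style.haveILetI false

namespace Cfsg.Agent.Lib.Helper16.NilCov

open Matrix

variable {F : Type*} [Field F] [Fintype F]

local notation "Z2" => Subgroup.center (GL (Fin 2) F)
local notation "PGL2" => GL (Fin 2) F ⧸ Subgroup.center (GL (Fin 2) F)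

theorem not_center_of_sq (w : GL (Fin 2) F) (hw : ¬ IsScal (w.1 * w.1)) : w ∉ Z2 := by
  intro h
  exact hw ((isScal_iff_mem_center w).2 h).mul_self


/-- two unipotent witnesses in a nilpotent member have the same fixed line -/
theorem incomp_uu (G : Subgroup PGL2) (A : Subgroup ↥G) (hA : Group.IsNilpotent ↥A)
    (p : ℕ) [Fact p.Prime] [CharP F p] (v v' : Fin 2 → F) (hv : v ≠ 0) (hv' : v' ≠ 0) (h1 : UG v ∈ pre G A)
    (h2 : UG v' ∈ pre G A) : ∃ c : F, v' = c • v := by
  obtain ⟨c, hc⟩ := pre_preserves_line G A hA p (by norm_num) (UG v) h1 ⟨1, UG_pow p v⟩ v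
    (Umat_fixed v hv) (UG v') h2
  rw [UG_val, Umat_mulVec] at hc
  by_cases hd : v' 0 * v 1 - v' 1 * v 0 = 0
  · obtain ⟨k, hk⟩ := prop_of_cross_zero v' v hv' hd
    have hk0 : k ≠ 0 := by
      rintro rfl
      rw [zero_smul] at hk
      exact hv hk
    exact ⟨k⁻¹, by rw [hk, smul_smul, inv_mul_cancel₀ hk0, one_smul]⟩
  · refine ⟨(v' 0 * v 1 - v' 1 * v 0)⁻¹ * (c - 1), ?_⟩
    have h3 : (v' 0 * v 1 - v' 1 * v 0) • v' = (c - 1) • v := by
      calc (v' 0 * v 1 - v' 1 * v 0) • v' = (v + (v' 0 * v 1 - v' 1 * v 0) • v') - v := by abel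
        _ = c • v - v := by rw [hc]
        _ = (c - 1) • v := by rw [sub_smul, one_smul]
    rw [← smul_smul, ← h3, smul_smul, inv_mul_cancel₀ hd, one_smul]

/-- a unipotent witness and an element without eigenvectors -/
theorem incomp_uw (G : Subgroup PGL2) (A : Subgroup ↥G) (hA : Group.IsNilpotent ↥A)
    (p : ℕ) [Fact p.Prime] [CharP F p] (v : Fin 2 → F) (hv : v ≠ 0) (w : GL (Fin 2) F) (hw : NoEig w.1)
    (h1 : UG v ∈ pre G A) (h2 : w ∈ pre G A) : False := by
  obtain ⟨c, hc⟩ := pre_preserves_line G A hA p (by norm_num) (UG v) h1 ⟨1, UG_pow p v⟩ v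
    (Umat_fixed v hv) w h2
  exact hw v hv c hc

/-- two elements with non-scalar squares in a nilpotent member span the same algebra -/
theorem incomp_ww (G : Subgroup PGL2) (A : Subgroup ↥G) (hA : Group.IsNilpotent ↥A)
    (w w' : GL (Fin 2) F) (hw : ¬ IsScal (w.1 * w.1))
    (hw' : ¬ IsScal (w'.1 * w'.1)) (h1 : w ∈ pre G A) (h2 : w' ∈ pre G A)
    (Y : Matrix (Fin 2) (Fin 2) F) : InL w.1 Y ↔ InL w'.1 Y := by
  obtain ⟨z, hzA, hzZ, hzc⟩ := pre_exists_central G A hA w h1 (not_center_of_sq w hw)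
  have hzs : ¬ IsScal z.1 := fun h => hzZ ((isScal_iff_mem_center z).1 h)
  have key : ∀ x : GL (Fin 2) F, ¬ IsScal (x.1 * x.1) → x ∈ pre G A → InL x.1 z.1 := by
    intro x hx hxA
    obtain ⟨l, hl⟩ := hzc x hxA
    have hl1 : l = 1 := FO.scalar_eq_one_of_conj z.1 x.1 l (gl_det_ne_zero z) (gl_det_ne_zero x) hl hx
    rw [hl1, one_smul] at hl
    exact FO.mem_span_of_commute x.1 z.1 (fun h => hx (IsScal.mul_self h)) hl
  rw [← InL.iff_of_mem (key w hw h1) hzs Y, ← InL.iff_of_mem (key w' hw' h2) hzs Y]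

/-- a unipotent witness and the diagonal witness -/
theorem incomp_ut (G : Subgroup PGL2) (A : Subgroup ↥G) (hA : Group.IsNilpotent ↥A)
    (p : ℕ) [Fact p.Prime] [CharP F p] (v : Fin 2 → F) (hv : v ≠ 0) (a : F) (ha : a ≠ 0) (ha2 : a * a ≠ 1) (k : ℕ)
    (hk : TG a ha ^ k ∈ Z2) (hpk : p.Coprime k) (h1 : UG v ∈ pre G A)
    (h2 : TG a ha ∈ pre G A) : False := by
  have hU : UG v ^ (p ^ 1) ∈ Z2 := by rw [UG_pow p v]; exact Subgroup.one_mem _
  have hcop : (p ^ 1).Coprime k := by rw [pow_one]; exact hpk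
  obtain ⟨l, hl⟩ := pre_comm_of_coprime G A hA (UG v) (TG a ha) h1 h2 (p ^ 1) k hU hk hcop
  obtain ⟨α, hα⟩ := pre_preserves_line G A hA p (by norm_num) (UG v) h1 ⟨1, UG_pow p v⟩ v
    (Umat_fixed v hv) (TG a ha) h2
  rw [UG_val, TG_val] at hl
  rw [TG_val] at hα
  have e00 := congrFun (congrFun hl 0) 0
  have e01 := congrFun (congrFun hl 0) 1
  have e10 := congrFun (congrFun hl 1) 0
  have a0 := congrFun hα 0
  have a1 := congrFun hα 1
  simp [Umat, Tmat, Matrix.mul_apply, Fin.sum_univ_two] at e00 e01 e10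
  simp [Tmat, Matrix.mulVec, dotProduct, Fin.sum_univ_two] at a0 a1
  have hne : a ≠ a⁻¹ := by
    intro h
    apply ha2
    calc a * a = a * a⁻¹ := by rw [← h]
      _ = 1 := mul_inv_cancel₀ ha
  by_cases hx : v 0 = 0
  · have hy : v 1 ≠ 0 := by
      intro hy
      apply hv
      ext i
      fin_cases i
      · exact hx
      · exact hy
    have hl1 : l = 1 := by
      have h5 : (l - 1) * a = 0 := by
        rw [hx] at e00
        linear_combination (-1 : F) * e00
      rcases mul_eq_zero.1 h5 with h | h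
      · exact sub_eq_zero.1 h
      · exact absurd h ha
    rw [hl1, one_mul] at e10
    apply hne
    have h3 : (a - a⁻¹) * (v 1 * v 1) = 0 := by linear_combination e10
    rcases mul_eq_zero.1 h3 with h | h
    · exact sub_eq_zero.1 h
    · exact absurd h (mul_ne_zero hy hy)
  · by_cases hy : v 1 = 0
    · have hl1 : l = 1 := by
        have h5 : (l - 1) * a = 0 := by
          rw [hy] at e00
          linear_combination (-1 : F) * e00
        rcases mul_eq_zero.1 h5 with h | h
        · exact sub_eq_zero.1 h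
        · exact absurd h ha
      rw [hl1, one_mul] at e01
      apply hne
      have h3 : (a⁻¹ - a) * (v 0 * v 0) = 0 := by linear_combination e01
      rcases mul_eq_zero.1 h3 with h | h
      · exact (sub_eq_zero.1 h).symm
      · exact absurd h (mul_ne_zero hx hx)
    · apply hne
      have h3 : a = α := by
        rcases a0 with h | h
        · exact h
        · exact absurd h hx
      have h4 : a⁻¹ = α := by
        rcases a1 with h | h
        · exact h
        · exact absurd h hy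
      exact h3.trans h4.symm

/-- a witness without eigenvectors and the diagonal witness -/
theorem incomp_wt (G : Subgroup PGL2) (A : Subgroup ↥G) (hA : Group.IsNilpotent ↥A)
    (w : GL (Fin 2) F) (hw : NoEig w.1) (hw2 : ¬ IsScal (w.1 * w.1)) (m : ℕ)
    (hm : w ^ m ∈ Z2) (a : F) (ha : a ≠ 0) (ha2 : a * a ≠ 1) (k : ℕ)
    (hk : TG a ha ^ k ∈ Z2) (hmk : m.Coprime k) (h1 : w ∈ pre G A)
    (h2 : TG a ha ∈ pre G A) : False := by
  obtain ⟨l, hl⟩ := pre_comm_of_coprime G A hA (TG a ha) w h2 h1 k m hk hm hmk.symm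
  have hl1 : l = 1 := FO.scalar_eq_one_of_conj (TG a ha).1 w.1 l (gl_det_ne_zero _)
    (gl_det_ne_zero w) hl hw2
  rw [hl1, one_smul] at hl
  have h3 : InL w.1 (TG a ha).1 :=
    FO.mem_span_of_commute w.1 (TG a ha).1 (fun h => hw2 (IsScal.mul_self h)) hl
  rw [TG_val] at h3
  have h4 := NoEig.of_InL hw h3 (Tmat_not_isScal a ha ha2)
  apply h4 ![1, 0] (by intro h0; have := congrFun h0 0; simp at this) a
  ext i
  fin_cases i <;> simp [Tmat, Matrix.mulVec, dotProduct, Fin.sum_univ_two]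

end Cfsg.Agent.Lib.Helper16.NilCov

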