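import Mathlib
import Cfsg.Agent.Lib.Helper16.NilCovI

/-!
# Nilpotent minimal covers, part J: `n = 2` — exponents, the witnesses in the tori, membership
-/

set_option autoImplicit false
set_option linter.unusedSectionVars false
set_option linter.unusedVariables false
set_option linter.style.haveILetI false

namespace Cfsg.Agent.Lib.Helper16.NilCov

open Matrix

variable {F : Type*} [Field F]

local notation "Z2" => Subgroup.center (GL (Fin 2) F)
local notation "PGL2" => GL (Fin 2) F ⧸ Subgroup.center (GL (Fin 2) F)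

theorem lineStab_smul {n : ℕ} (v : Fin n → F) (c : F) (hc : c ≠ 0) :
    lineStab (c • v) = lineStab v := by
  have key : ∀ h : GL (Fin n) F, (∃ d : F, h.1.mulVec (c • v) = d • (c • v)) ↔
      ∃ d : F, h.1.mulVec v = d • v := by
    intro h
    constructor
    · rintro ⟨d, hd⟩
      refine ⟨d, ?_⟩
      rw [Matrix.mulVec_smul, smul_comm d c v] at hd
      have := congrArg (fun w => c⁻¹ • w) hd
      simp only [smul_smul, inv_mul_cancel₀ hc, one_smul] at this
      rw [← mul_assoc, inv_mul_cancel₀ hc, one_mul] at this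
      exact this
    · rintro ⟨d, hd⟩
      exact ⟨d, by rw [Matrix.mulVec_smul, hd, smul_comm]⟩
  ext h
  show ((∃ d : F, h.1.mulVec (c • v) = d • (c • v)) ∧
      (∃ d : F, (h⁻¹).1.mulVec (c • v) = d • (c • v))) ↔
    ((∃ d : F, h.1.mulVec v = d • v) ∧ (∃ d : F, (h⁻¹).1.mulVec v = d • v))
  rw [key h, key h⁻¹]

theorem mem_lineStab_of_eig {n : ℕ} (x : GL (Fin n) F) (v : Fin n → F) (hv : v ≠ 0) (c : F)
    (h : x.1.mulVec v = c • v) : x ∈ lineStab v := by
  have h1 : (x⁻¹).1.mulVec (x.1.mulVec v) = v := by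
    rw [Matrix.mulVec_mulVec, ← Units.val_mul, inv_mul_cancel, Units.val_one, Matrix.one_mulVec]
  have hc : c ≠ 0 := by
    rintro rfl
    rw [zero_smul] at h
    rw [h, Matrix.mulVec_zero] at h1
    exact hv h1.symm
  refine ⟨⟨c, h⟩, ⟨c⁻¹, ?_⟩⟩
  rw [h, Matrix.mulVec_smul] at h1
  have := congrArg (fun w => c⁻¹ • w) h1
  simp only [smul_smul, inv_mul_cancel₀ hc, one_smul] at this
  exact this

/-- the class of a square lies in every group containing the image of `SL_2` -/
theorem mk_sq_mem (G : Subgroup PGL2)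
    (hG : ((Matrix.SpecialLinearGroup.toGL : Matrix.SpecialLinearGroup (Fin 2) F →*
      GL (Fin 2) F).range).map (QuotientGroup.mk' Z2) ≤ G) (x : GL (Fin 2) F) :
    (QuotientGroup.mk (x * x) : PGL2) ∈ G := by
  have hd := gl_det_ne_zero x
  obtain ⟨zc, hzc⟩ : ∃ z : GL (Fin 2) F, z = Matrix.GeneralLinearGroup.mkOfDetNeZero
      ((x.1.det)⁻¹ • (1 : Matrix (Fin 2) (Fin 2) F)) (by
        rw [Matrix.det_smul, Matrix.det_one, mul_one]
        exact pow_ne_zero _ (inv_ne_zero hd)) := ⟨_, rfl⟩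
  have hzval : zc.1 = (x.1.det)⁻¹ • (1 : Matrix (Fin 2) (Fin 2) F) := by rw [hzc]; rfl
  have hzZ : zc ∈ Z2 := (isScal_iff_mem_center zc).1 ⟨_, hzval⟩
  have hy : (x * x * zc).1.det = 1 := by
    rw [Units.val_mul, Units.val_mul, Matrix.det_mul, Matrix.det_mul, hzval, Matrix.det_smul,
      Matrix.det_one, mul_one, Fintype.card_fin]
    field_simp
  have h1 := mk_sl_mem G hG (x * x * zc) hy
  have h2 : (QuotientGroup.mk (x * x) : PGL2) = QuotientGroup.mk (x * x * zc) := by
    rw [QuotientGroup.eq]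
    have : (x * x)⁻¹ * (x * x * zc) = zc := by group
    rw [this]
    exact hzZ
  rw [h2]
  exact h1

variable [Fintype F]

/-- a parameter for the diagonal witness -/
theorem exists_diag_param (hq : 4 ≤ Fintype.card F) : ∃ a : F, a ≠ 0 ∧ a * a ≠ 1 := by
  classical
  have h1 : ({0, 1, -1} : Finset F).card < (Finset.univ : Finset F).card := by
    rw [Finset.card_univ]
    exact lt_of_le_of_lt Finset.card_le_three (by omega)
  obtain ⟨a, _, ha⟩ := Finset.exists_mem_notMem_of_card_lt_card h1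
  simp only [Finset.mem_insert, Finset.mem_singleton, not_or] at ha
  refine ⟨a, ha.1, ?_⟩
  intro h
  have h2 : (a - 1) * (a + 1) = 0 := by linear_combination h
  rcases mul_eq_zero.1 h2 with h3 | h3
  · exact ha.2.1 (sub_eq_zero.1 h3)
  · exact ha.2.2 (eq_neg_of_add_eq_zero_left h3)

/-- exponents for the diagonal witness and the witnesses in the tori -/
theorem exists_exponents (p : ℕ) [Fact p.Prime] [CharP F p] (a : F) (ha : a ≠ 0) :
    ∃ k m : ℕ, p.Coprime k ∧ m.Coprime k ∧ a ^ k = a⁻¹ ^ k ∧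
      ∀ h : Matrix (Fin 2) (Fin 2) F, NoEig h → IsScal ((h * h) ^ m) := by
  have hp : p.Prime := Fact.out
  obtain ⟨n, _, hqn⟩ := FiniteField.card F p
  obtain ⟨q, hq⟩ : ∃ q : ℕ, q = Fintype.card F := ⟨_, rfl⟩
  rw [← hq] at hqn
  have hpq : p ∣ q := by rw [hqn]; exact dvd_pow_self p n.pos.ne'
  have hq1 : 1 < q := by rw [hq]; exact Fintype.one_lt_card
  have hcop0 : p.Coprime (q - 1) := by
    obtain ⟨r, hr⟩ : ∃ r, q = r + 1 := ⟨q - 1, by omega⟩
    have h1 : (r + 1).Coprime r := by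
      rw [add_comm]; exact Nat.coprime_add_self_left.2 (Nat.coprime_one_left r)
    rw [hr, Nat.add_sub_cancel]
    rw [hr] at hpq
    exact Nat.Coprime.coprime_dvd_left hpq h1
  have hpow1 : a ^ (q - 1) = 1 := by rw [hq]; exact FiniteField.pow_card_sub_one_eq_one a ha
  have hnorm : ∀ h : Matrix (Fin 2) (Fin 2) F, NoEig h →
      h ^ (q + 1) = h.det • (1 : Matrix (Fin 2) (Fin 2) F) := by
    intro h hh
    rw [hq]
    exact FO.pow_card_add_one_of_noEig h hh
  by_cases hp2 : p = 2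
  · -- even `q`
    have hqodd : Odd (q - 1) := by
      have h2 : 2 ∣ q := hp2 ▸ hpq
      obtain ⟨c, hc⟩ := h2
      exact ⟨c - 1, by omega⟩
    refine ⟨q - 1, q + 1, hcop0, ?_, ?_, ?_⟩
    · have h1 : q + 1 = 2 + (q - 1) := by omega
      rw [h1, Nat.coprime_add_self_left, Nat.coprime_two_left]
      exact hqodd
    · rw [hpow1, inv_pow, hpow1, inv_one]
    · intro h hh
      refine ⟨h.det * h.det, ?_⟩
      rw [← pow_two, ← pow_mul, mul_comm, pow_mul, hnorm h hh, smul_pow, one_pow, pow_two]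
  · -- odd `q`
    have hpodd : Odd p := hp.odd_of_ne_two hp2
    have hqodd : Odd q := by rw [hqn]; exact hpodd.pow
    obtain ⟨j, hj⟩ := hqodd
    refine ⟨j, j + 1, ?_, ?_, ?_, ?_⟩
    · have h1 : j ∣ q - 1 := ⟨2, by omega⟩
      exact Nat.Coprime.coprime_dvd_right h1 hcop0
    · rw [add_comm]; exact Nat.coprime_add_self_left.2 (Nat.coprime_one_left j)
    · have h1 : a ^ j * a ^ j = 1 := by
        rw [← pow_add, ← hpow1]
        congr 1
        omega
      rw [inv_pow]
      exact eq_inv_of_mul_eq_one_left h1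
    · intro h hh
      refine ⟨h.det, ?_⟩
      rw [← pow_two, ← pow_mul, ← hnorm h hh]
      congr 1
      omega

/-- the witness in the torus of a matrix without eigenvectors -/
theorem exists_torus_witness (hq : 4 ≤ Fintype.card F) (G : Subgroup PGL2)
    (hG : ((Matrix.SpecialLinearGroup.toGL : Matrix.SpecialLinearGroup (Fin 2) F →*
      GL (Fin 2) F).range).map (QuotientGroup.mk' Z2) ≤ G) (m : ℕ)
    (hm : ∀ h : Matrix (Fin 2) (Fin 2) F, NoEig h → IsScal ((h * h) ^ m))
    (s : Matrix (Fin 2) (Fin 2) F) (hs : NoEig s) :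
    ∃ W : GL (Fin 2) F, InL s W.1 ∧ NoEig W.1 ∧ ¬ IsScal (W.1 * W.1) ∧ W ^ m ∈ Z2 ∧
      (QuotientGroup.mk W : PGL2) ∈ G := by
  obtain ⟨c, hc⟩ := FO.exists_pow_four_not_scalar hq s hs
  obtain ⟨h, hh⟩ : ∃ h : Matrix (Fin 2) (Fin 2) F,
      h = s + c • (1 : Matrix (Fin 2) (Fin 2) F) := ⟨_, rfl⟩
  rw [← hh] at hc
  have hInL : InL s h := ⟨c, 1, by rw [hh, one_smul, add_comm]⟩
  have h4 : h ^ 4 = (h * h) * (h * h) := by
    rw [← pow_two, ← pow_two, ← pow_mul]
  have hsq : ¬ IsScal ((h * h) * (h * h)) := by rw [← h4]; exact hc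
  have hsq1 : ¬ IsScal (h * h) := fun hcon => hsq hcon.mul_self
  have hsq0 : ¬ IsScal h := fun hcon => hsq1 hcon.mul_self
  have hhne : NoEig h := hs.of_InL hInL hsq0
  obtain ⟨hg, hhg⟩ : ∃ x : GL (Fin 2) F,
      x = Matrix.GeneralLinearGroup.mkOfDetNeZero h hhne.det_ne_zero := ⟨_, rfl⟩
  have hgval : hg.1 = h := by rw [hhg]; rfl
  refine ⟨hg * hg, ?_, ?_, ?_, ?_, mk_sq_mem G hG hg⟩
  · rw [Units.val_mul, hgval]
    exact hInL.mul hInL
  · rw [Units.val_mul, hgval]
    exact hhne.of_InL ((InL.self h).mul (InL.self h)) hsq1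
  · rw [Units.val_mul, hgval]
    exact hsq
  · rw [← isScal_iff_mem_center, Units.val_pow_eq_pow_val, Units.val_mul, hgval]
    exact hm h hhne

end Cfsg.Agent.Lib.Helper16.NilCov
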