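import Mathlib
import Cfsg.Agent.Lib.Helper16.NilCovJ

/-!
# Nilpotent minimal covers, part K: `n = 2`, assembly
-/

set_option autoImplicit false
set_option linter.unusedSectionVars false
set_option linter.unusedVariables false
set_option linter.style.haveILetI false

namespace Cfsg.Agent.Lib.Helper16.NilCov

open Matrix

variable {F : Type*} [Field F] [Fintype F]

local notation "Z2" => Subgroup.center (GL (Fin 2) F)
local notation "PGL2" => GL (Fin 2) F ⧸ Subgroup.center (GL (Fin 2) F)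

/-- the description of the witness of a member of the cover -/
def Good (G : Subgroup PGL2) (m : ℕ) (B : Subgroup ↥G) (g : ↥G) : Prop :=
  (∃ v : Fin 2 → F, v ≠ 0 ∧ B = down G (lineStab v) ∧
    ∃ h : (QuotientGroup.mk (UG v) : PGL2) ∈ G, g = ⟨QuotientGroup.mk (UG v), h⟩) ∨
  (∃ (s : Matrix (Fin 2) (Fin 2) F) (W : GL (Fin 2) F), NoEig s ∧ B = down G (torus s) ∧
    InL s W.1 ∧ NoEig W.1 ∧ ¬ IsScal (W.1 * W.1) ∧ W ^ m ∈ Z2 ∧
    ∃ h : (QuotientGroup.mk W : PGL2) ∈ G, g = ⟨QuotientGroup.mk W, h⟩)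

theorem case_two (hq : 4 ≤ Fintype.card F) (G : Subgroup PGL2)
    (hG : ((Matrix.SpecialLinearGroup.toGL : Matrix.SpecialLinearGroup (Fin 2) F →*
      GL (Fin 2) F).range).map (QuotientGroup.mk' Z2) ≤ G)
    (𝓐 : Finset (Subgroup ↥G)) (hcov : IsCover 𝓐)
    (hmin : ∀ 𝓑 : Finset (Subgroup ↥G), IsCover 𝓑 → 𝓐.card ≤ 𝓑.card)
    (hnil : ∀ A ∈ 𝓐, Group.IsNilpotent ↥A) : False := by
  classical
  obtain ⟨p, hp⟩ := CharP.exists F
  haveI := hp
  haveI : Fact p.Prime := ⟨CharP.char_is_prime F p⟩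
  obtain ⟨a, ha, ha2⟩ := exists_diag_param (F := F) hq
  obtain ⟨k, m, hpk, hmk, hak, hm⟩ := exists_exponents p a ha
  have hTk : TG a ha ^ k ∈ Z2 := TG_pow_mem_center a ha k hak
  have hTG : (QuotientGroup.mk (TG a ha) : PGL2) ∈ G := mk_sl_mem G hG _ (Tmat_det a ha)
  have hUG : ∀ v : Fin 2 → F, (QuotientGroup.mk (UG v) : PGL2) ∈ G :=
    fun v => mk_sl_mem G hG _ (Umat_det v)
  -- the cover
  obtain ⟨𝓑, h𝓑⟩ : ∃ 𝓑 : Finset (Subgroup ↥G),
      𝓑 = ((Finset.univ.filter (fun v : Fin 2 → F => v ≠ 0)).image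
          (fun v => down G (lineStab v))) ∪
        ((Finset.univ.filter (fun s : Matrix (Fin 2) (Fin 2) F => NoEig s)).image
          (fun s => down G (torus s))) := ⟨_, rfl⟩
  have hmem𝓑 : ∀ B : Subgroup ↥G, B ∈ 𝓑 ↔
      (∃ v : Fin 2 → F, v ≠ 0 ∧ B = down G (lineStab v)) ∨
      (∃ s : Matrix (Fin 2) (Fin 2) F, NoEig s ∧ B = down G (torus s)) := by
    intro B
    rw [h𝓑, Finset.mem_union, Finset.mem_image, Finset.mem_image]
    constructor
    · rintro (⟨v, hv, rfl⟩ | ⟨s, hs, rfl⟩)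
      · exact Or.inl ⟨v, (Finset.mem_filter.1 hv).2, rfl⟩
      · exact Or.inr ⟨s, (Finset.mem_filter.1 hs).2, rfl⟩
    · rintro (⟨v, hv, rfl⟩ | ⟨s, hs, rfl⟩)
      · exact Or.inl ⟨v, Finset.mem_filter.2 ⟨Finset.mem_univ _, hv⟩, rfl⟩
      · exact Or.inr ⟨s, Finset.mem_filter.2 ⟨Finset.mem_univ _, hs⟩, rfl⟩
  have hcov𝓑 : IsCover 𝓑 := by
    constructor
    · intro B hB
      rcases (hmem𝓑 B).1 hB with ⟨v, hv, rfl⟩ | ⟨s, hs, rfl⟩
      · obtain ⟨x, hx1, hx2⟩ := exists_not_mem_lineStab v hv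
        exact down_ne_top G _ (center_le_lineStab v) x (mk_sl_mem G hG x hx1) hx2
      · obtain ⟨x, hx1, hx2⟩ := exists_not_mem_torus s
        exact down_ne_top G _ (center_le_torus s) x (mk_sl_mem G hG x hx1) hx2
    · intro g
      obtain ⟨x, hx⟩ := QuotientGroup.mk_surjective g.1
      have hxG : (QuotientGroup.mk x : PGL2) ∈ G := by rw [hx]; exact g.2
      have hg : g = ⟨QuotientGroup.mk x, hxG⟩ := Subtype.ext hx.symm
      by_cases hne : NoEig x.1
      · refine ⟨down G (torus x.1), (hmem𝓑 _).2 (Or.inr ⟨x.1, hne, rfl⟩), ?_⟩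
        rw [hg, mem_down_iff G _ (center_le_torus _)]
        exact InL.self x.1
      · obtain ⟨v, hv, c, hc⟩ := exists_eig_of_not_noEig hne
        refine ⟨down G (lineStab v), (hmem𝓑 _).2 (Or.inl ⟨v, hv, rfl⟩), ?_⟩
        rw [hg, mem_down_iff G _ (center_le_lineStab _)]
        exact mem_lineStab_of_eig x v hv c hc
  -- the witnesses
  have hex : ∀ B ∈ 𝓑, ∃ g : ↥G, Good G m B g := by
    intro B hB
    by_cases h1 : ∃ v : Fin 2 → F, v ≠ 0 ∧ B = down G (lineStab v)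
    · obtain ⟨v, hv, hBv⟩ := h1
      exact ⟨⟨QuotientGroup.mk (UG v), hUG v⟩, Or.inl ⟨v, hv, hBv, hUG v, rfl⟩⟩
    · rcases (hmem𝓑 B).1 hB with h2 | ⟨s, hs, hBs⟩
      · exact absurd h2 h1
      · obtain ⟨W, hW1, hW2, hW3, hW4, hW5⟩ := exists_torus_witness hq G hG m hm s hs
        exact ⟨⟨QuotientGroup.mk W, hW5⟩, Or.inr ⟨s, W, hs, hBs, hW1, hW2, hW3, hW4, hW5, rfl⟩⟩
  obtain ⟨x, hx⟩ : ∃ x : Subgroup ↥G → ↥G, ∀ B ∈ 𝓑, Good G m B (x B) := by
    refine ⟨fun B => if h : ∃ g : ↥G, Good G m B g then Classical.choose h else 1, ?_⟩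
    intro B hB
    have h := hex B hB
    simp only [dif_pos h]
    exact Classical.choose_spec h
  -- membership in the preimage
  have hpre : ∀ (A : Subgroup ↥G) (y : GL (Fin 2) F) (hy : (QuotientGroup.mk y : PGL2) ∈ G)
      (g : ↥G), g = ⟨QuotientGroup.mk y, hy⟩ → g ∈ A → y ∈ pre G A := by
    intro A y hy g hg hgA
    rw [hg] at hgA
    exact mem_pre_of_mem G A y hy hgA
  refine witness_contra' 𝓐 hcov hmin hnil 𝓑 hcov𝓑 x ⟨QuotientGroup.mk (TG a ha), hTG⟩ ?_ ?_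
  · intro B hB B' hB' hBB' A hA hxA hxA'
    rcases hx B hB with ⟨v, hv, hBv, hvG, hxv⟩ | ⟨s, W, hs, hBs, hW1, hW2, hW3, hW4, hW5, hxW⟩
    · have hU := hpre A _ hvG _ hxv hxA
      rcases hx B' hB' with ⟨v', hv', hBv', hvG', hxv'⟩ |
        ⟨s', W', hs', hBs', hW1', hW2', hW3', hW4', hW5', hxW'⟩
      · have hU' := hpre A _ hvG' _ hxv' hxA'
        obtain ⟨c, hc⟩ := incomp_uu G A hA p v v' hv hv' hU hU'
        have hc0 : c ≠ 0 := by
          rintro rfl
          rw [zero_smul] at hc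
          exact hv' hc
        apply hBB'
        rw [hBv, hBv', hc, lineStab_smul v c hc0]
      · have hWA' := hpre A _ hW5' _ hxW' hxA'
        exact incomp_uw G A hA p v hv W' hW2' hU hWA'
    · have hWA := hpre A _ hW5 _ hxW hxA
      rcases hx B' hB' with ⟨v', hv', hBv', hvG', hxv'⟩ |
        ⟨s', W', hs', hBs', hW1', hW2', hW3', hW4', hW5', hxW'⟩
      · have hU' := hpre A _ hvG' _ hxv' hxA'
        exact incomp_uw G A hA p v' hv' W hW2 hU' hWA
      · have hWA' := hpre A _ hW5' _ hxW' hxA'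
        have h1 := incomp_ww G A hA W W' hW3 hW3' hWA hWA'
        have hWs : ¬ IsScal W.1 := fun h => hW3 h.mul_self
        have hWs' : ¬ IsScal W'.1 := fun h => hW3' h.mul_self
        apply hBB'
        rw [hBs, hBs']
        congr 1
        apply torus_eq_of_iff
        intro Y
        rw [← InL.iff_of_mem hW1 hWs Y, ← InL.iff_of_mem hW1' hWs' Y]
        exact h1 Y
  · intro B hB A hA hxA htA
    have hT := hpre A _ hTG _ rfl htA
    rcases hx B hB with ⟨v, hv, hBv, hvG, hxv⟩ | ⟨s, W, hs, hBs, hW1, hW2, hW3, hW4, hW5, hxW⟩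
    · have hU := hpre A _ hvG _ hxv hxA
      exact incomp_ut G A hA p v hv a ha ha2 k hTk hpk hU hT
    · have hWA := hpre A _ hW5 _ hxW hxA
      exact incomp_wt G A hA W hW2 hW3 m hW4 a ha ha2 k hTk hmk hWA hT

end Cfsg.Agent.Lib.Helper16.NilCov
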