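import Mathlib
import Cfsg.Prelude.Def_GeometricClasses
import Cfsg.Agent.Lib.Helper1.OEDefs
import Cfsg.Agent.Lib.Helper14.OETypeTC12
import Cfsg.Agent.Lib.Helper16.OEPlusT

/-!
# Even-dimensional orthogonal PLUS rows, piece T4 `halves_six` (helper16, for helper13)

EXACT signature of `notes/OEPlusSkel_helper13.lean.txt`: two orthogonal non-degenerate 6-spaces in a plus-type 12-space are
isometric (ANY `q`).  `halves_iso_of` (TC8 of helper7) + TC12a / TC12b of helper14.  `halves_even` is the same for any even
half dimension.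
-/

set_option autoImplicit false
set_option linter.unusedSectionVars false
set_option linter.unusedVariables false

namespace Cfsg.Agent.Lib.Helper16.OEPlus

open Matrix Cfsg Cfsg.Geo Module
open Cfsg.Agent.Lib.Helper1.OE

variable {F : Type*} [Field F] [Fintype F] {n : ℕ} {Q : (Fin n → F) → F}

/-- two orthogonal non-degenerate halves of even dimension in a plus-type space are isometric -/
theorem halves_even (hQ : IsNondegenerateQuadraticForm Q) (hplus : IsPlusTypeOn Q ⊤) {m : ℕ} (hm : Even m)
    (D : Fin 2 → Submodule F (Fin n → F)) (hD : IsNondegenerateMDecomposition (QuadraticMap.polar Q) m D) :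
    AreIsometricFor Q (D 0) (D 1) :=
  halves_iso_of hQ hplus hm D hD
    (fun W W' hW hW' hdim hp hp' =>
      Cfsg.Agent.Lib.Helper14.OETypeTC12.areIsometricFor_of_plus hQ W W' hW hW' hdim hp hp')
    (fun W W' hW hW' hdim hev hp hp' =>
      Cfsg.Agent.Lib.Helper14.OETypeTC12.areIsometricFor_of_not_plus hQ W W' hW hW' hdim hev hp hp')

/-- **T4** -/
theorem halves_six (hQ : IsNondegenerateQuadraticForm Q) (hn : n = 12) (hplus : IsPlusTypeOn Q ⊤)
    (D : Fin 2 → Submodule F (Fin n → F)) (hD : IsNondegenerateMDecomposition (QuadraticMap.polar Q) 6 D) :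
    AreIsometricFor Q (D 0) (D 1) :=
  halves_even hQ hplus (by decide) D hD

end Cfsg.Agent.Lib.Helper16.OEPlus
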