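import Mathlib
import Cfsg.Prelude.Def_Classical

set_option autoImplicit false

namespace Cfsg.Agent.Lib.Helper16

open Cfsg Matrix

variable {F : Type*} [Field F] {k l : ℕ}

/-- `M ↦ diag(M, 1)` as a monoid hom. -/
def blockLeftHom (F : Type*) [Field F] (k l : ℕ) :
    Matrix (Fin k) (Fin k) F →* Matrix (Fin k ⊕ Fin l) (Fin k ⊕ Fin l) F where
  toFun M := Matrix.fromBlocks M 0 0 1
  map_one' := Matrix.fromBlocks_one
  map_mul' A B := by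
    rw [Matrix.fromBlocks_multiply]
    simp

/-- `M ↦ diag(1, M)` as a monoid hom. -/
def blockRightHom (F : Type*) [Field F] (k l : ℕ) :
    Matrix (Fin l) (Fin l) F →* Matrix (Fin k ⊕ Fin l) (Fin k ⊕ Fin l) F where
  toFun M := Matrix.fromBlocks 1 0 0 M
  map_one' := Matrix.fromBlocks_one
  map_mul' A B := by
    rw [Matrix.fromBlocks_multiply]
    simp

theorem blockLeft_mem (Q₁ : (Fin k → F) → F) (Q₂ : (Fin l → F) → F)
    (g : Matrix.GeneralLinearGroup (Fin k) F) (hg : g ∈ isometryGroup F Q₁) :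
    Units.map (blockLeftHom F k l) g ∈
      isometryGroup F (fun v : Fin k ⊕ Fin l → F => Q₁ (v ∘ Sum.inl) + Q₂ (v ∘ Sum.inr)) := by
  intro u v
  show Q₁ ((Matrix.fromBlocks (g : Matrix (Fin k) (Fin k) F) 0 0 1 *ᵥ u) ∘ Sum.inl) +
      Q₂ ((Matrix.fromBlocks (g : Matrix (Fin k) (Fin k) F) 0 0 1 *ᵥ u) ∘ Sum.inr) = _
  rw [Matrix.fromBlocks_mulVec]
  have h1 : (Sum.elim ((g : Matrix (Fin k) (Fin k) F) *ᵥ (u ∘ Sum.inl) + (0 : Matrix (Fin k) (Fin l) F) *ᵥ (u ∘ Sum.inr))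
      ((0 : Matrix (Fin l) (Fin k) F) *ᵥ (u ∘ Sum.inl) + (1 : Matrix (Fin l) (Fin l) F) *ᵥ (u ∘ Sum.inr))) ∘ Sum.inl =
      (g : Matrix (Fin k) (Fin k) F) *ᵥ (u ∘ Sum.inl) := by
    ext i; simp
  have h2 : (Sum.elim ((g : Matrix (Fin k) (Fin k) F) *ᵥ (u ∘ Sum.inl) + (0 : Matrix (Fin k) (Fin l) F) *ᵥ (u ∘ Sum.inr))
      ((0 : Matrix (Fin l) (Fin k) F) *ᵥ (u ∘ Sum.inl) + (1 : Matrix (Fin l) (Fin l) F) *ᵥ (u ∘ Sum.inr))) ∘ Sum.inr =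
      u ∘ Sum.inr := by
    ext i; simp
  rw [h1, h2]
  have := hg (u ∘ Sum.inl) (u ∘ Sum.inl)
  simp only [Units.coeHom_apply] at this
  rw [this]

theorem blockRight_mem (Q₁ : (Fin k → F) → F) (Q₂ : (Fin l → F) → F)
    (g : Matrix.GeneralLinearGroup (Fin l) F) (hg : g ∈ isometryGroup F Q₂) :
    Units.map (blockRightHom F k l) g ∈
      isometryGroup F (fun v : Fin k ⊕ Fin l → F => Q₁ (v ∘ Sum.inl) + Q₂ (v ∘ Sum.inr)) := by
  intro u v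
  show Q₁ ((Matrix.fromBlocks 1 0 0 (g : Matrix (Fin l) (Fin l) F) *ᵥ u) ∘ Sum.inl) +
      Q₂ ((Matrix.fromBlocks 1 0 0 (g : Matrix (Fin l) (Fin l) F) *ᵥ u) ∘ Sum.inr) = _
  rw [Matrix.fromBlocks_mulVec]
  have h1 : (Sum.elim ((1 : Matrix (Fin k) (Fin k) F) *ᵥ (u ∘ Sum.inl) + (0 : Matrix (Fin k) (Fin l) F) *ᵥ (u ∘ Sum.inr))
      ((0 : Matrix (Fin l) (Fin k) F) *ᵥ (u ∘ Sum.inl) + (g : Matrix (Fin l) (Fin l) F) *ᵥ (u ∘ Sum.inr))) ∘ Sum.inl =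
      u ∘ Sum.inl := by
    ext i; simp
  have h2 : (Sum.elim ((1 : Matrix (Fin k) (Fin k) F) *ᵥ (u ∘ Sum.inl) + (0 : Matrix (Fin k) (Fin l) F) *ᵥ (u ∘ Sum.inr))
      ((0 : Matrix (Fin l) (Fin k) F) *ᵥ (u ∘ Sum.inl) + (g : Matrix (Fin l) (Fin l) F) *ᵥ (u ∘ Sum.inr))) ∘ Sum.inr =
      (g : Matrix (Fin l) (Fin l) F) *ᵥ (u ∘ Sum.inr) := by
    ext i; simp
  rw [h1, h2]
  have := hg (u ∘ Sum.inr) (u ∘ Sum.inr)
  simp only [Units.coeHom_apply] at this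
  rw [this]

/-- the embedding `O(Q₁) → O(Q₁ ⊕ Q₂)` -/
def isoLeft (Q₁ : (Fin k → F) → F) (Q₂ : (Fin l → F) → F) :
    ↥(isometryGroup F Q₁) →*
      ↥(isometryGroup F (fun v : Fin k ⊕ Fin l → F => Q₁ (v ∘ Sum.inl) + Q₂ (v ∘ Sum.inr))) :=
  ((Units.map (blockLeftHom F k l)).comp (isometryGroup F Q₁).subtype).codRestrict _
    (fun g => blockLeft_mem Q₁ Q₂ g g.2)

/-- the embedding `O(Q₂) → O(Q₁ ⊕ Q₂)` -/
def isoRight (Q₁ : (Fin k → F) → F) (Q₂ : (Fin l → F) → F) :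
    ↥(isometryGroup F Q₂) →*
      ↥(isometryGroup F (fun v : Fin k ⊕ Fin l → F => Q₁ (v ∘ Sum.inl) + Q₂ (v ∘ Sum.inr))) :=
  ((Units.map (blockRightHom F k l)).comp (isometryGroup F Q₂).subtype).codRestrict _
    (fun g => blockRight_mem Q₁ Q₂ g g.2)

theorem map_mem_commutator {G H : Type*} [Group G] [Group H] (f : G →* H) (g : G)
    (hg : g ∈ commutator G) : f g ∈ commutator H := by
  have h1 : (commutator G).map f ≤ commutator H := by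
    rw [commutator_def, Subgroup.map_commutator, commutator_def]
    exact Subgroup.commutator_mono le_top le_top
  exact h1 ⟨g, hg, rfl⟩

end Cfsg.Agent.Lib.Helper16
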