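import Cfsg.Agent.Lib.Helper28.Ord459648.Basic
import Cfsg.Agent.Lib.Helper7.PrimeSylowNC

/-!
# S1022 piece [P2a] (helper16)

A group `L` of order `7296 = 2^7 * 3 * 19` in which a Sylow 19-subgroup `P` satisfies
`N_L(P) ≤ C_L(P)` has `3 ∣ |C_L(P)|`: Burnside's transfer gives a normal complement `O` of order
`384`, Frattini's argument an element `g` of order 19 normalizing a subgroup `Y` of order 3 of `O`,
which must centralize it; `⟨g⟩` is conjugate to `P`.
-/

set_option autoImplicit false

namespace Cfsg.Agent.Lib.Helper28.Ord459648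

namespace Helper16

variable {L : Type*} [Group L]

/-- An element of odd order normalizing a subgroup of order 3 centralizes it (elementwise). -/
theorem commute_of_normalizes_card_three {g y : L} {n : ℕ} (hg : g ^ (2 * n + 1) = 1)
    (hy : orderOf y = 3) (h : g * y * g⁻¹ = y ∨ g * y * g⁻¹ = y⁻¹) : g * y = y * g := by
  rcases h with h | h
  · calc g * y = g * y * g⁻¹ * g := by group
      _ = y * g := by rw [h]
  · exfalso
    -- conjugation by g inverts y, so conjugation by g^(2n+1) = 1 inverts y
    have hpow : ∀ k : ℕ, g ^ (2 * k + 1) * y * (g ^ (2 * k + 1))⁻¹ = y⁻¹ := by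
      intro k
      induction k with
      | zero => simpa using h
      | succ k ih =>
        have e : g ^ (2 * (k + 1) + 1) = g * (g * g ^ (2 * k + 1)) := by
          rw [show 2 * (k + 1) + 1 = (2 * k + 1) + 1 + 1 by ring, pow_succ', pow_succ']
        rw [e]
        calc g * (g * g ^ (2 * k + 1)) * y * (g * (g * g ^ (2 * k + 1)))⁻¹
            = g * (g * (g ^ (2 * k + 1) * y * (g ^ (2 * k + 1))⁻¹) * g⁻¹) * g⁻¹ := by group
          _ = g * (g * y⁻¹ * g⁻¹) * g⁻¹ := by rw [ih]
          _ = g * (g * y * g⁻¹)⁻¹ * g⁻¹ := by group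
          _ = g * (y⁻¹)⁻¹ * g⁻¹ := by rw [h]
          _ = g * y * g⁻¹ := by group
          _ = y⁻¹ := h
    have h1 := hpow n
    rw [hg] at h1
    have h2 : y = y⁻¹ := by simpa using h1
    have h3 : y ^ 2 = 1 := by
      rw [pow_two]
      nth_rewrite 1 [h2]
      exact inv_mul_cancel y
    have := orderOf_dvd_of_pow_eq_one h3
    rw [hy] at this
    omega

end Helper16

open Helper16 in
/-- [P2a] -/
theorem three_dvd_card_centralizer_of_card_7296 {L : Type*} [Group L] [Finite L]
    (hL : Nat.card L = 7296) (P : Sylow 19 L)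
    (hNC : Subgroup.normalizer ((P : Subgroup L) : Set L) ≤
      Subgroup.centralizer ((P : Subgroup L) : Set L)) :
    3 ∣ Nat.card (Subgroup.centralizer ((P : Subgroup L) : Set L)) := by
  classical
  -- the normal complement
  set f := MonoidHom.transferSylow P hNC with hf
  set O : Subgroup L := f.ker with hO
  have hcomp : Subgroup.IsComplement' O (P : Subgroup L) :=
    MonoidHom.ker_transferSylow_isComplement' P hNC
  have hcP : Nat.card (P : Subgroup L) = 19 := by
    apply Cfsg.Agent.Lib.Helper7.card_eq_prime_of_sylow P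
    · rw [hL]; norm_num
    · rw [hL]; norm_num
  have hcO : Nat.card O = 384 := by
    have := hcomp.card_mul_card
    rw [hcP, hL] at this
    omega
  have hiO : O.index = 19 := by
    have := O.card_mul_index
    rw [hcO, hL] at this
    omega
  have hOn : O.Normal := by rw [hO]; infer_instance
  -- a Sylow 3-subgroup of O
  obtain ⟨Y⟩ : Nonempty (Sylow 3 O) := inferInstance
  have hcY : Nat.card (Y : Subgroup O) = 3 := by
    apply Cfsg.Agent.Lib.Helper7.card_eq_prime_of_sylow Y
    · rw [hcO]; norm_num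
    · rw [hcO]; norm_num
  set Y' : Subgroup L := (Y : Subgroup O).map O.subtype with hY'
  have hcY' : Nat.card Y' = 3 := by
    rw [hY', Subgroup.card_map_of_injective O.subtype_injective, hcY]
  have hfrat : Subgroup.normalizer (Y' : Set L) ⊔ O = ⊤ := Sylow.normalizer_sup_eq_top Y
  set M : Subgroup L := Subgroup.normalizer (Y' : Set L) with hM
  -- 19 divides |M|
  have h19M : 19 ∣ Nat.card M := by
    have h1 : M.map f = f.range := by
      rw [MonoidHom.range_eq_map, ← hfrat, Subgroup.map_sup, hO,
        (Subgroup.map_eq_bot_iff _).2 le_rfl, sup_bot_eq]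
    have h2 : Nat.card f.range = 19 := by
      rw [← Subgroup.index_ker, ← hO, hiO]
    have h3 := Subgroup.card_map_dvd (H := M) f
    rw [h1, h2] at h3
    exact h3
  -- an element of order 19 in M
  obtain ⟨g, hg⟩ := exists_prime_orderOf_dvd_card' 19 h19M
  have hgL : orderOf (g : L) = 19 := by rw [Subgroup.orderOf_coe, hg]
  -- an element of order 3 in Y'
  obtain ⟨y, hy⟩ := exists_prime_orderOf_dvd_card' 3 (dvd_of_eq hcY'.symm)
  have hyL : orderOf (y : L) = 3 := by rw [Subgroup.orderOf_coe, hy]
  -- Y' = {1, y, y⁻¹}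
  have hY'elts : ∀ z ∈ Y', z = 1 ∨ z = (y : L) ∨ z = (y : L)⁻¹ := by
    intro z hz
    have hzp : (⟨z, hz⟩ : Y') ∈ Subgroup.zpowers y := by
      have : Subgroup.zpowers y = ⊤ := by
        apply Subgroup.eq_top_of_card_eq
        rw [Nat.card_zpowers, hy, hcY']
      rw [this]; trivial
    rw [Subgroup.mem_zpowers_iff] at hzp
    obtain ⟨k, hk⟩ := hzp
    have hk' : (y : L) ^ k = z := by
      have := congrArg (Subtype.val) hk
      simpa using this
    have h3 : (y : L) ^ (3 : ℤ) = 1 := by
      have := pow_orderOf_eq_one (y : L)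
      rw [hyL] at this
      exact_mod_cast this
    have hk3 : (y : L) ^ k = (y : L) ^ (k % 3) := by
      conv_lhs => rw [← Int.emod_add_mul_ediv k 3]
      rw [zpow_add, zpow_mul, h3, one_zpow, mul_one]
    have hr : k % 3 = 0 ∨ k % 3 = 1 ∨ k % 3 = 2 := by omega
    rcases hr with hr | hr | hr
    · left; rw [← hk', hk3, hr, zpow_zero]
    · right; left; rw [← hk', hk3, hr, zpow_one]
    · right; right
      rw [← hk', hk3, hr]
      have : (y : L) ^ (2 : ℤ) * (y : L) = 1 := by
        rw [← zpow_add_one]; exact h3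
      exact eq_inv_of_mul_eq_one_left this
  -- g normalizes Y'
  have hgy : (g : L) * y * (g : L)⁻¹ ∈ Y' := by
    have h' : (g : L) ∈ Subgroup.normalizer (Y' : Set L) := g.2
    rw [Subgroup.mem_normalizer_iff] at h'
    exact (h' y).1 y.2
  have hcomm : (g : L) * y = y * g := by
    apply commute_of_normalizes_card_three (n := 9) _ hyL
    · rcases hY'elts _ hgy with h | h | h
      · exfalso
        have : (y : L) = 1 := by
          have h' : (g : L)⁻¹ * ((g : L) * y * (g : L)⁻¹) * g = (g : L)⁻¹ * 1 * g := by rw [h]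
          simpa [mul_assoc] using h'
        rw [this, orderOf_one] at hyL
        omega
      · exact Or.inl h
      · exact Or.inr h
    · have := pow_orderOf_eq_one (g : L)
      rw [hgL] at this
      exact this
  -- the subgroup generated by g is a Sylow 19-subgroup, conjugate to P
  obtain ⟨Q, hQ⟩ := (IsPGroup.of_card (p := 19) (n := 1)
    (by rw [Nat.card_zpowers, hgL, pow_one] : Nat.card (Subgroup.zpowers (g : L)) = 19 ^ 1)).exists_le_sylow
  have hcQ : Nat.card (Q : Subgroup L) = 19 := by
    apply Cfsg.Agent.Lib.Helper7.card_eq_prime_of_sylow Q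
    · rw [hL]; norm_num
    · rw [hL]; norm_num
  have hQeq : Subgroup.zpowers (g : L) = (Q : Subgroup L) := by
    apply Subgroup.eq_of_le_of_card_ge hQ
    rw [hcQ, Nat.card_zpowers, hgL]
  obtain ⟨c, hc⟩ := MulAction.exists_smul_eq L Q P
  -- c y c⁻¹ centralizes P
  have hcen : c * y * c⁻¹ ∈ Subgroup.centralizer ((P : Subgroup L) : Set L) := by
    rw [Subgroup.mem_centralizer_iff]
    intro x hx
    have hx' : x ∈ ((c • Q : Sylow 19 L) : Subgroup L) := by rw [hc]; exact hx
    rw [Sylow.coe_subgroup_smul, Subgroup.mem_pointwise_smul_iff_inv_smul_mem] at hx'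
    rw [← hQeq, MulAut.smul_def, Subgroup.mem_zpowers_iff] at hx'
    obtain ⟨k, hk⟩ := hx'
    have hk' : c⁻¹ * x * c = (g : L) ^ k := by
      rw [hk]; simp
    have hxk : x = c * (g : L) ^ k * c⁻¹ := by rw [← hk']; group
    have hcz : (g : L) ^ k * y = y * (g : L) ^ k := by
      have : Commute ((g : L)) (y : L) := hcomm
      exact (this.zpow_left k).eq
    rw [hxk]
    calc c * (g : L) ^ k * c⁻¹ * (c * ↑y * c⁻¹) = c * ((g : L) ^ k * y) * c⁻¹ := by group
      _ = c * (y * (g : L) ^ k) * c⁻¹ := by rw [hcz]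
      _ = c * ↑y * c⁻¹ * (c * (g : L) ^ k * c⁻¹) := by group
  have hord : orderOf (c * y * c⁻¹) = 3 := by
    rw [← hyL]
    have hsc : SemiconjBy c (y : L) (c * y * c⁻¹) := by
      unfold SemiconjBy; group
    exact (hsc.orderOf_eq c).symm
  have := orderOf_dvd_natCard (⟨c * y * c⁻¹, hcen⟩ :
      Subgroup.centralizer ((P : Subgroup L) : Set L))
  rw [← Subgroup.orderOf_coe] at this
  simpa [hord] using this

end Cfsg.Agent.Lib.Helper28.Ord459648
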