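import Mathlib
import Cfsg.Prelude.Def_Transfer
import Cfsg.Prelude.Def_Solvable
import Cfsg.Agent.Lib.Helper16.Fpf3
import Cfsg.Agent.Lib.Helper16.PCore
import Cfsg.Agent.Lib.Helper2.BurnsidePQ
import Cfsg.Agent.Lib.Helper4.MinNormal
import Cfsg.Agent.Lib.Helper10.UniqueOrderP

set_option autoImplicit false

/-!
Finite groups whose element orders are exactly `1, 2, 3, 4`.
-/

namespace Cfsg.Agent.Lib.Helper16.Orders1234

open Cfsg Cfsg.Agent.Lib.Helper16.Fpf3

variable {G : Type*} [Group G]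

theorem pow_cases [Finite G] (hle : ∀ g : G, orderOf g ≤ 4) (g : G) : g ^ 4 = 1 ∨ g ^ 3 = 1 := by
  have h1 : 0 < orderOf g := orderOf_pos g
  have h2 := hle g
  rcases (by omega : orderOf g = 1 ∨ orderOf g = 2 ∨ orderOf g = 3 ∨ orderOf g = 4)
    with h | h | h | h
  · left; exact orderOf_dvd_iff_pow_eq_one.mp (by rw [h]; norm_num)
  · left; exact orderOf_dvd_iff_pow_eq_one.mp (by rw [h]; norm_num)
  · right; exact orderOf_dvd_iff_pow_eq_one.mp (by rw [h])
  · left; exact orderOf_dvd_iff_pow_eq_one.mp (by rw [h])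

theorem nc_of_le (hle : ∀ g : G, orderOf g ≤ 4) (a b : G) (hab : Commute a b) (ha : a ^ 4 = 1)
    (hb : b ^ 3 = 1) : a = 1 ∨ b = 1 := by
  by_contra hcon
  push Not at hcon
  obtain ⟨ha1, hb1⟩ := hcon
  have : Fact (Nat.Prime 3) := ⟨Nat.prime_three⟩
  have : Fact (Nat.Prime 2) := ⟨Nat.prime_two⟩
  have ob : orderOf b = 3 := orderOf_eq_prime hb hb1
  obtain ⟨c, hcb, oc⟩ : ∃ c : G, Commute c b ∧ orderOf c = 2 := by
    by_cases h2 : a ^ 2 = 1
    · exact ⟨a, hab, orderOf_eq_prime h2 ha1⟩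
    · refine ⟨a ^ 2, hab.pow_left 2, orderOf_eq_prime ?_ h2⟩
      rw [← pow_mul]; exact ha
  have h6 := hcb.orderOf_mul_eq_mul_orderOf_of_coprime (by rw [oc, ob]; norm_num)
  have h7 := hle (c * b)
  rw [h6, oc, ob] at h7
  omega

theorem cn_fpf (N : Subgroup G) [N.Normal] (g : G) (hf : ∀ y ∈ N, Commute g y → y = 1) :
    Fpf (MulAut.conjNormal g : ↥N ≃* ↥N) := by
  intro y hy
  have hy' : g * (y : G) * g⁻¹ = y := by
    have := congrArg Subtype.val hy
    rwa [MulAut.conjNormal_apply] at this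
  have hc : g * (y : G) = y * g := by
    calc g * (y : G) = g * y * g⁻¹ * g := by group
      _ = y * g := by rw [hy']
  exact Subtype.ext (hf y y.2 hc)

theorem cn_cube (N : Subgroup G) [N.Normal] (g : G) (hg : g ^ 3 = 1) (y : ↥N) :
    (MulAut.conjNormal g : ↥N ≃* ↥N) ((MulAut.conjNormal g : ↥N ≃* ↥N)
      ((MulAut.conjNormal g : ↥N ≃* ↥N) y)) = y := by
  apply Subtype.ext
  rw [MulAut.conjNormal_apply, MulAut.conjNormal_apply, MulAut.conjNormal_apply]
  have hggg : g * g * g = 1 := by rw [← hg]; simp [pow_succ]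
  have e : g * (g * (g * (y : G) * g⁻¹) * g⁻¹) * g⁻¹ = (g * g * g) * y * (g * g * g)⁻¹ := by
    group
  rw [e, hggg]; simp

theorem caseI [Finite G]
    (h4 : ∀ g : G, g ^ 4 = 1 ∨ g ^ 3 = 1)
    (nc : ∀ a b : G, Commute a b → a ^ 4 = 1 → b ^ 3 = 1 → a = 1 ∨ b = 1)
    (Q : Subgroup G) [hQn : Q.Normal] (hQ3 : ∀ x ∈ Q, x ^ 3 = 1) (hQne : Q ≠ ⊥)
    (hQmax : ∀ N : Subgroup G, N.Normal → (∀ x ∈ N, x ^ 3 = 1) → N ≤ Q)
    (z : G) (hz : z ^ 2 = 1) (hz1 : z ≠ 1) (g4 : G) (hg4 : orderOf g4 = 4) :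
    Cfsg.IsElementaryAbelian 3 Q ∧
      ((IsCyclic (G ⧸ Q) ∧ Q.index = 4) ∨ Nonempty (G ⧸ Q ≃* QuaternionGroup 2)) := by
  have : Fact (Nat.Prime 2) := ⟨Nat.prime_two⟩
  have sq4 : ∀ t : G, t ^ 2 = 1 → t ^ 4 = 1 := by
    intro t ht
    calc t ^ 4 = (t ^ 2) ^ 2 := by rw [← pow_mul]
      _ = 1 := by rw [ht, one_pow]
  -- (a) involutions invert Q
  have hinv : ∀ t : G, t ^ 2 = 1 → t ≠ 1 → ∀ x ∈ Q, t * x * t⁻¹ = x⁻¹ := by
    intro t ht ht1 x hx
    have hfpf : Fpf (MulAut.conjNormal t : ↥Q ≃* ↥Q) := by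
      apply cn_fpf
      intro y hy hc
      rcases nc t y hc (sq4 t ht) (hQ3 y hy) with h | h
      · exact absurd h ht1
      · exact h
    have h2 : ∀ y : ↥Q, (MulAut.conjNormal t : ↥Q ≃* ↥Q)
        ((MulAut.conjNormal t : ↥Q ≃* ↥Q) y) = y := by
      intro y
      apply Subtype.ext
      rw [MulAut.conjNormal_apply, MulAut.conjNormal_apply]
      have htt : t * t = 1 := by rw [← pow_two]; exact ht
      have e : t * (t * (y : G) * t⁻¹) * t⁻¹ = (t * t) * y * (t * t)⁻¹ := by group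
      rw [e, htt]; simp
    have := congrArg Subtype.val (hfpf.inverts h2 ⟨x, hx⟩)
    simpa [MulAut.conjNormal_apply] using this
  -- (b) Q abelian
  have hQc : ∀ a ∈ Q, ∀ b ∈ Q, a * b = b * a := by
    intro a ha b hb
    have i1 := hinv z hz hz1 (a * b) (Q.mul_mem ha hb)
    have i2 := hinv z hz hz1 a ha
    have i3 := hinv z hz hz1 b hb
    have e : z * (a * b) * z⁻¹ = (z * a * z⁻¹) * (z * b * z⁻¹) := by group
    rw [e, i2, i3, mul_inv_rev] at i1
    have := congrArg (fun t => t⁻¹) i1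
    simp only [mul_inv_rev, inv_inv] at this
    exact this.symm
  have hEA : Cfsg.IsElementaryAbelian 3 Q := by
    unfold Cfsg.IsElementaryAbelian
    exact ⟨⟨⟨fun a b => Subtype.ext (hQc a a.2 b b.2)⟩⟩, hQ3⟩
  -- (c) the centralizer of Q lies in Q
  obtain ⟨x0, hx0, hx01⟩ : ∃ x ∈ Q, x ≠ 1 := by
    by_contra hcon
    push Not at hcon
    exact hQne ((Subgroup.eq_bot_iff_forall Q).mpr hcon)
  have hC3 : ∀ c ∈ Subgroup.centralizer (Q : Set G), c ^ 3 = 1 := by
    intro c hc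
    rcases h4 c with h | h
    · have hcx : Commute c x0 := (Subgroup.mem_centralizer_iff.mp hc x0 hx0).symm
      rcases nc c x0 hcx h (hQ3 x0 hx0) with h' | h'
      · rw [h', one_pow]
      · exact absurd h' hx01
    · exact h
  have hCQ : Subgroup.centralizer (Q : Set G) ≤ Q := hQmax _ inferInstance hC3
  -- (d) products of two involutions lie in Q
  have hprod : ∀ t t' : G, t ^ 2 = 1 → t ≠ 1 → t' ^ 2 = 1 → t' ≠ 1 → t * t' ∈ Q := by
    intro t t' ht ht1 ht' ht'1
    apply hCQ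
    rw [Subgroup.mem_centralizer_iff]
    intro x hx
    have i1 := hinv t' ht' ht'1 x hx
    have i2 := hinv t ht ht1 x⁻¹ (Q.inv_mem hx)
    rw [inv_inv] at i2
    have e : (t * t') * x * (t * t')⁻¹ = t * (t' * x * t'⁻¹) * t⁻¹ := by group
    rw [i1, i2] at e
    calc x * (t * t') = (t * t') * x * (t * t')⁻¹ * (t * t') := by rw [e]
      _ = (t * t') * x := by group
  have hzz : z * z = 1 := by rw [← pow_two]; exact hz
  have hzinv : z⁻¹ = z := inv_eq_of_mul_eq_one_right hzz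
  -- (e) decomposition
  have hdecomp : ∀ g : G, ∃ q ∈ Q, ∃ t ∈ Subgroup.centralizer ({z} : Set G), g = q * t := by
    intro g
    have hc2 : (g * z * g⁻¹) ^ 2 = 1 := by rw [conj_pow, hz]; simp
    have hc1 : g * z * g⁻¹ ≠ 1 := by
      intro h
      apply hz1
      have : z = g⁻¹ * (g * z * g⁻¹) * g := by group
      rw [this, h]; simp
    have hu := hprod (g * z * g⁻¹) z hc2 hc1 hz hz1
    obtain ⟨u, hud⟩ : ∃ u, u = g * z * g⁻¹ * z := ⟨_, rfl⟩
    rw [← hud] at hu
    have hu3 := hQ3 u hu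
    have hzu := hinv z hz hz1 u hu
    refine ⟨u⁻¹, Q.inv_mem hu, u * g, ?_, by group⟩
    rw [Subgroup.mem_centralizer_singleton_iff]
    have e1 : z * u = u⁻¹ * z := by
      calc z * u = z * u * z⁻¹ * z := by group
        _ = u⁻¹ * z := by rw [hzu]
    have e2 : g * z = u * z * g := by
      rw [hud]
      calc g * z = g * z * g⁻¹ * (z * z) * g := by rw [hzz]; group
        _ = g * z * g⁻¹ * z * z * g := by group
    have e3 : u⁻¹ = u * u := by
      apply inv_eq_of_mul_eq_one_right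
      rw [← hu3]; simp [pow_succ, mul_assoc]
    symm
    calc z * (u * g) = (z * u) * g := by group
      _ = u⁻¹ * z * g := by rw [e1]
      _ = u * u * z * g := by rw [e3]
      _ = u * (u * z * g) := by group
      _ = u * (g * z) := by rw [← e2]
      _ = u * g * z := by group
  -- (f) T ∩ Q trivial
  have hTQ : ∀ x ∈ Subgroup.centralizer ({z} : Set G), x ∈ Q → x = 1 := by
    intro x hxT hxQ
    have hc : Commute z x := Subgroup.mem_centralizer_iff.mp hxT z (Set.mem_singleton z)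
    rcases nc z x hc (sq4 z hz) (hQ3 x hxQ) with h | h
    · exact absurd h hz1
    · exact h
  -- (g) T has exponent dividing 4
  have hT4 : ∀ t ∈ Subgroup.centralizer ({z} : Set G), t ^ 4 = 1 := by
    intro t ht
    rcases h4 t with h | h
    · exact h
    · have hc : Commute z t := Subgroup.mem_centralizer_iff.mp ht z (Set.mem_singleton z)
      rcases nc z t hc (sq4 z hz) h with h' | h'
      · exact absurd h' hz1
      · rw [h', one_pow]
  -- (h) unique involution
  have hzT : z ∈ Subgroup.centralizer ({z} : Set G) := by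
    rw [Subgroup.mem_centralizer_singleton_iff]
  have hTinv : ∀ t ∈ Subgroup.centralizer ({z} : Set G), t ^ 2 = 1 → t ≠ 1 → t = z := by
    intro t ht ht2 ht1
    have h1 := hprod t z ht2 ht1 hz hz1
    have h2 : t * z ∈ Subgroup.centralizer ({z} : Set G) := Subgroup.mul_mem _ ht hzT
    have h3 := hTQ _ h2 h1
    rw [← hzinv]; exact eq_inv_of_mul_eq_one_left h3
  -- (i) the isomorphism
  let f : ↥(Subgroup.centralizer ({z} : Set G)) →* G ⧸ Q :=
    (QuotientGroup.mk' Q).comp (Subgroup.centralizer ({z} : Set G)).subtype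
  have hf_inj : Function.Injective f := by
    rw [injective_iff_map_eq_one]
    intro t ht
    have : (t : G) ∈ Q := by
      have h' : ((t : G) : G ⧸ Q) = 1 := ht
      exact (QuotientGroup.eq_one_iff _).mp h'
    exact Subtype.ext (hTQ t t.2 this)
  have hf_surj : Function.Surjective f := by
    intro y
    obtain ⟨g, rfl⟩ := QuotientGroup.mk_surjective y
    obtain ⟨q, hq, t, ht, rfl⟩ := hdecomp g
    refine ⟨⟨t, ht⟩, ?_⟩
    show ((t : G) : G ⧸ Q) = ((q * t : G) : G ⧸ Q)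
    rw [QuotientGroup.mk_mul, (QuotientGroup.eq_one_iff q).mpr hq, one_mul]
  let e : ↥(Subgroup.centralizer ({z} : Set G)) ≃* G ⧸ Q :=
    MulEquiv.ofBijective f ⟨hf_inj, hf_surj⟩
  have hTp : IsPGroup 2 ↥(Subgroup.centralizer ({z} : Set G)) := by
    intro t
    refine ⟨2, ?_⟩
    have e22 : 2 ^ 2 = 4 := by norm_num
    rw [e22]
    apply Subtype.ext
    rw [Subgroup.coe_pow, Subgroup.coe_one]
    exact hT4 t t.2
  have hTu : Cfsg.Agent.Lib.Helper10.UniqueOrderP 2 ↥(Subgroup.centralizer ({z} : Set G)) := by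
    intro x y hx hx1 hy
    have hx' : (x : G) = z := by
      apply hTinv x x.2
      · have := congrArg Subtype.val hx; simpa using this
      · intro h; exact hx1 (Subtype.ext h)
    by_cases hy1 : y = 1
    · rw [hy1]; exact Subgroup.one_mem _
    · have hy' : (y : G) = z := by
        apply hTinv y y.2
        · have := congrArg Subtype.val hy; simpa using this
        · intro h; exact hy1 (Subtype.ext h)
      have : y = x := Subtype.ext (hy'.trans hx'.symm)
      rw [this]; exact Subgroup.mem_zpowers x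
  -- an element of order 4 in T
  obtain ⟨t4, ht4o⟩ : ∃ t : ↥(Subgroup.centralizer ({z} : Set G)), orderOf t = 4 := by
    obtain ⟨q, hq, t, ht, hg⟩ := hdecomp g4
    refine ⟨⟨t, ht⟩, ?_⟩
    have h2 : ¬ (⟨t, ht⟩ : ↥(Subgroup.centralizer ({z} : Set G))) ^ 2 ^ 1 = 1 := by
      intro h
      have ht2 : t ^ 2 = 1 := by have := congrArg Subtype.val h; simpa using this
      have hmem : g4 ^ 2 ∈ Q := by
        have htt : t * t = 1 := by rw [← pow_two]; exact ht2
        have e' : g4 ^ 2 = q * (t * q * t⁻¹) * (t * t) := by rw [hg, pow_two]; group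
        rw [e', htt, mul_one]
        exact Q.mul_mem hq (hQn.conj_mem q hq t)
      have h6 : g4 ^ 6 = 1 := by
        have := hQ3 _ hmem
        rwa [← pow_mul] at this
      have := orderOf_dvd_of_pow_eq_one h6
      rw [hg4] at this
      exact absurd this (by norm_num)
    have h4' : (⟨t, ht⟩ : ↥(Subgroup.centralizer ({z} : Set G))) ^ 2 ^ (1 + 1) = 1 := by
      apply Subtype.ext
      have := hT4 t ht
      simpa using this
    exact (orderOf_eq_prime_pow h2 h4').trans (by norm_num)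
  have hcyc_case : IsCyclic ↥(Subgroup.centralizer ({z} : Set G)) →
      IsCyclic (G ⧸ Q) ∧ Q.index = 4 := by
    intro hc
    refine ⟨isCyclic_of_surjective e e.surjective, ?_⟩
    have h1 : Nat.card ↥(Subgroup.centralizer ({z} : Set G)) = 4 := by
      have e1 : Monoid.exponent ↥(Subgroup.centralizer ({z} : Set G))
          = Nat.card ↥(Subgroup.centralizer ({z} : Set G)) := IsCyclic.exponent_eq_card
      have d1 : Monoid.exponent ↥(Subgroup.centralizer ({z} : Set G)) ∣ 4 :=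
        Monoid.exponent_dvd_of_forall_pow_eq_one (fun t => by
          apply Subtype.ext
          rw [Subgroup.coe_pow, Subgroup.coe_one]
          exact hT4 t t.2)
      have d2 : 4 ∣ Monoid.exponent ↥(Subgroup.centralizer ({z} : Set G)) := by
        rw [← ht4o]; exact Monoid.order_dvd_exponent t4
      rw [← e1]; exact Nat.dvd_antisymm d1 d2
    rw [Subgroup.index_eq_card, ← Nat.card_congr e.toEquiv, h1]
  refine ⟨hEA, ?_⟩
  rcases Cfsg.Agent.Lib.Helper10.isCyclic_or_quaternion_of_uniqueOrderP hTp hTu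
    with hc | ⟨-, n, ⟨e'⟩⟩
  · left; exact hcyc_case hc
  · have hn : n ≤ 1 := by
      have h1 : (e'.symm (QuaternionGroup.a 1)) ^ 4 = 1 := by
        apply Subtype.ext
        rw [Subgroup.coe_pow, Subgroup.coe_one]
        exact hT4 _ (e'.symm (QuaternionGroup.a 1)).2
      have h2 : (QuaternionGroup.a 1 : QuaternionGroup (2 ^ n)) ^ 4 = 1 := by
        have := congrArg e' h1
        simpa using this
      have h3 := orderOf_dvd_of_pow_eq_one h2
      rw [QuaternionGroup.orderOf_a_one] at h3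
      by_contra hcon
      push Not at hcon
      have h5 : 2 * 2 ^ 2 ∣ 2 * 2 ^ n := Nat.mul_dvd_mul_left 2 (pow_dvd_pow 2 hcon)
      have := Nat.le_of_dvd (by norm_num) (h5.trans h3)
      omega
    interval_cases n
    · left
      apply hcyc_case
      haveI : IsCyclic (QuaternionGroup (2 ^ 0)) := by
        rw [pow_zero]; exact QuaternionGroup.quaternionGroup_one_isCyclic
      exact isCyclic_of_surjective e'.symm e'.symm.surjective
    · right
      exact ⟨e.symm.trans e'⟩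


/-! ### Case II : a minimal normal subgroup is a 2-group -/

open scoped commutatorElement

theorem pow3_of_isPGroup (h4 : ∀ g : G, g ^ 4 = 1 ∨ g ^ 3 = 1) {H : Subgroup G}
    (hH : IsPGroup 3 H) : ∀ x ∈ H, x ^ 3 = 1 := by
  intro x hx
  rcases h4 x with h | h
  · obtain ⟨k, hk⟩ := hH ⟨x, hx⟩
    have hk' : x ^ 3 ^ k = 1 := by
      have := congrArg Subtype.val hk
      simpa using this
    have hc : Nat.Coprime (orderOf x) (3 ^ k) :=
      Nat.Coprime.coprime_dvd_left (orderOf_dvd_of_pow_eq_one h)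
        (Nat.Coprime.pow_right k (by norm_num))
    have h1 : orderOf x = 1 := Nat.Coprime.eq_one_of_dvd hc (orderOf_dvd_of_pow_eq_one hk')
    rw [orderOf_eq_one_iff.mp h1, one_pow]
  · exact h

theorem pow4_of_isPGroup (h4 : ∀ g : G, g ^ 4 = 1 ∨ g ^ 3 = 1) {H : Subgroup G}
    (hH : IsPGroup 2 H) : ∀ x ∈ H, x ^ 4 = 1 := by
  intro x hx
  rcases h4 x with h | h
  · exact h
  · obtain ⟨k, hk⟩ := hH ⟨x, hx⟩
    have hk' : x ^ 2 ^ k = 1 := by
      have := congrArg Subtype.val hk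
      simpa using this
    have hc : Nat.Coprime (orderOf x) (2 ^ k) :=
      Nat.Coprime.coprime_dvd_left (orderOf_dvd_of_pow_eq_one h)
        (Nat.Coprime.pow_right k (by norm_num))
    have h1 : orderOf x = 1 := Nat.Coprime.eq_one_of_dvd hc (orderOf_dvd_of_pow_eq_one hk')
    rw [orderOf_eq_one_iff.mp h1, one_pow]

theorem pow4_of_mul_self {n : G} (h : n * n = 1) : n ^ 4 = 1 := by
  calc n ^ 4 = (n ^ 2) ^ 2 := by rw [← pow_mul]
    _ = 1 := by rw [pow_two n, h, one_pow]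

theorem c3c3_grp {W : Type*} [Group W] (hcomm : ∀ a b : W, a * b = b * a) (α β : W →* W)
    (hw2 : ∀ w : W, w * w = 1)
    (hα : ∀ w, w * α w * α (α w) = 1)
    (hβ : ∀ w, w * β w * β (β w) = 1)
    (hαβ : ∀ w, w * α (β w) * α (β (α (β w))) = 1)
    (hc : ∀ w, α (β w) = β (α w)) (w : W) : α w = β w := by
  letI : CommGroup W := { (inferInstance : Group W) with mul_comm := hcomm }
  exact c3c3_aux α β hw2 hα hβ hαβ hc w

theorem c3c3_sub (W : Subgroup G) [hW : W.Normal]
    (hWc : ∀ x ∈ W, ∀ y ∈ W, x * y = y * x) (hW2 : ∀ x ∈ W, x * x = 1) (a b : G)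
    (hab : a * b = b * a)
    (ha : ∀ w ∈ W, w * (a * w * a⁻¹) * (a * (a * w * a⁻¹) * a⁻¹) = 1)
    (hb : ∀ w ∈ W, w * (b * w * b⁻¹) * (b * (b * w * b⁻¹) * b⁻¹) = 1)
    (hab' : ∀ w ∈ W, w * ((a * b) * w * (a * b)⁻¹) *
      ((a * b) * ((a * b) * w * (a * b)⁻¹) * (a * b)⁻¹) = 1) :
    ∀ w ∈ W, a * w * a⁻¹ = b * w * b⁻¹ := by
  intro w hw
  have key := c3c3_grp (W := ↥W) (fun x y => Subtype.ext (hWc x x.2 y y.2))
    (MulAut.conjNormal a : ↥W ≃* ↥W).toMonoidHom (MulAut.conjNormal b : ↥W ≃* ↥W).toMonoidHom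
    (fun w => Subtype.ext (hW2 w w.2)) ?_ ?_ ?_ ?_ ⟨w, hw⟩
  · have := congrArg Subtype.val key
    simpa [MulAut.conjNormal_apply] using this
  · intro w
    apply Subtype.ext
    simp only [MulEquiv.coe_toMonoidHom, Subgroup.coe_mul, MulAut.conjNormal_apply,
      Subgroup.coe_one]
    exact ha w w.2
  · intro w
    apply Subtype.ext
    simp only [MulEquiv.coe_toMonoidHom, Subgroup.coe_mul, MulAut.conjNormal_apply,
      Subgroup.coe_one]
    exact hb w w.2
  · intro w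
    apply Subtype.ext
    simp only [MulEquiv.coe_toMonoidHom, Subgroup.coe_mul, MulAut.conjNormal_apply,
      Subgroup.coe_one]
    have := hab' w w.2
    have e1 : a * (b * (w : G) * b⁻¹) * a⁻¹ = (a * b) * w * (a * b)⁻¹ := by group
    have e2 : a * (b * (a * (b * (w : G) * b⁻¹) * a⁻¹) * b⁻¹) * a⁻¹
        = (a * b) * ((a * b) * w * (a * b)⁻¹) * (a * b)⁻¹ := by group
    rw [e2, e1]; exact this
  · intro w
    apply Subtype.ext
    simp only [MulEquiv.coe_toMonoidHom, MulAut.conjNormal_apply]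
    have e1 : a * (b * (w : G) * b⁻¹) * a⁻¹ = (a * b) * w * (a * b)⁻¹ := by group
    have e2 : b * (a * (w : G) * a⁻¹) * b⁻¹ = (b * a) * w * (b * a)⁻¹ := by group
    rw [e1, e2, hab]

theorem norm_W (nc : ∀ a b : G, Commute a b → a ^ 4 = 1 → b ^ 3 = 1 → a = 1 ∨ b = 1)
    (W : Subgroup G) [hW : W.Normal]
    (hWc : ∀ x ∈ W, ∀ y ∈ W, x * y = y * x) (hW2 : ∀ x ∈ W, x * x = 1)
    (e : G) (he3 : e ^ 3 = 1) (he1 : e ≠ 1) (w : G) (hw : w ∈ W) :
    w * (e * w * e⁻¹) * (e * (e * w * e⁻¹) * e⁻¹) = 1 := by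
  have m1 : e * w * e⁻¹ ∈ W := hW.conj_mem w hw e
  have m2 : e * (e * w * e⁻¹) * e⁻¹ ∈ W := hW.conj_mem _ m1 e
  obtain ⟨n, hn⟩ : ∃ n, n = w * (e * w * e⁻¹) * (e * (e * w * e⁻¹) * e⁻¹) := ⟨_, rfl⟩
  have hnW : n ∈ W := by rw [hn]; exact W.mul_mem (W.mul_mem hw m1) m2
  have heee : e * e * e = 1 := by rw [← he3]; simp [pow_succ]
  have e3 : e * (e * (e * w * e⁻¹) * e⁻¹) * e⁻¹ = w := by
    have : e * (e * (e * w * e⁻¹) * e⁻¹) * e⁻¹ = (e * e * e) * w * (e * e * e)⁻¹ := by group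
    rw [this, heee]; simp
  have hcomm : e * n * e⁻¹ = n := by
    rw [hn]
    have : e * (w * (e * w * e⁻¹) * (e * (e * w * e⁻¹) * e⁻¹)) * e⁻¹
        = (e * w * e⁻¹) * (e * (e * w * e⁻¹) * e⁻¹) * (e * (e * (e * w * e⁻¹) * e⁻¹) * e⁻¹) := by
      group
    rw [this, e3, hWc _ (W.mul_mem m1 m2) w hw, ← mul_assoc]
  have hc : Commute n e := by
    have : n * e = e * n := by
      calc n * e = e * n * e⁻¹ * e := by rw [hcomm]
        _ = e * n := by group
    exact this
  rcases nc n e hc (pow4_of_mul_self (hW2 n hnW)) he3 with h | h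
  · rw [← hn]; exact h
  · exact absurd h he1

theorem sylow3_card [Finite G] (h4 : ∀ g : G, g ^ 4 = 1 ∨ g ^ 3 = 1)
    (nc : ∀ a b : G, Commute a b → a ^ 4 = 1 → b ^ 3 = 1 → a = 1 ∨ b = 1)
    (W : Subgroup G) [hW : W.Normal] (hWne : W ≠ ⊥)
    (hWc : ∀ x ∈ W, ∀ y ∈ W, x * y = y * x) (hW2 : ∀ x ∈ W, x * x = 1)
    (g3 : G) (hg3 : orderOf g3 = 3) (S : Sylow 3 G) : Nat.card (S : Subgroup G) = 3 := by
  have : Fact (Nat.Prime 3) := ⟨Nat.prime_three⟩
  have hS3 : ∀ x ∈ (S : Subgroup G), x ^ 3 = 1 := pow3_of_isPGroup h4 S.isPGroup'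
  have h3dvd : 3 ∣ Nat.card G := by rw [← hg3]; exact orderOf_dvd_natCard g3
  have hSne : (S : Subgroup G) ≠ ⊥ := S.ne_bot_of_dvd_card h3dvd
  have : Nontrivial ↥(S : Subgroup G) := (Subgroup.nontrivial_iff_ne_bot _).mpr hSne
  have := IsPGroup.center_nontrivial S.isPGroup'
  obtain ⟨a, ha1⟩ := exists_ne (1 : Subgroup.center ↥(S : Subgroup G))
  obtain ⟨A, hA⟩ : ∃ A : G, A = ((a : ↥(S : Subgroup G)) : G) := ⟨_, rfl⟩
  have hA1 : A ≠ 1 := by
    intro h; apply ha1; apply Subtype.ext; apply Subtype.ext; rw [← hA]; exact h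
  have hA3 : A ^ 3 = 1 := by rw [hA]; exact hS3 _ (a : ↥(S : Subgroup G)).2
  by_contra hne
  have hoa : orderOf (a : ↥(S : Subgroup G)) = 3 := by
    apply orderOf_eq_prime
    · apply Subtype.ext; rw [Subgroup.coe_pow, Subgroup.coe_one, ← hA]; exact hA3
    · intro h; apply ha1; exact Subtype.ext h
  obtain ⟨b, hb⟩ : ∃ b : ↥(S : Subgroup G), b ∉ Subgroup.zpowers (a : ↥(S : Subgroup G)) := by
    by_contra hcon
    push Not at hcon
    have htop : Subgroup.zpowers (a : ↥(S : Subgroup G)) = ⊤ := (Subgroup.eq_top_iff' _).mpr hcon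
    apply hne
    rw [← Subgroup.card_top (G := ↥(S : Subgroup G)), ← htop, Nat.card_zpowers, hoa]
  obtain ⟨B, hB⟩ : ∃ B : G, B = (b : G) := ⟨_, rfl⟩
  have hAB : A * B = B * A := by
    have h1 := Subgroup.mem_center_iff.mp a.2 b
    have h2 := congrArg Subtype.val h1
    rw [Subgroup.coe_mul, Subgroup.coe_mul, ← hA, ← hB] at h2
    exact h2.symm
  have hB3 : B ^ 3 = 1 := by rw [hB]; exact hS3 _ b.2
  have hB1 : B ≠ 1 := by
    intro h; apply hb
    have : b = 1 := Subtype.ext (by rw [← hB]; exact h)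
    rw [this]; exact Subgroup.one_mem _
  have hAB1 : A * B ≠ 1 := by
    intro h
    apply hb
    have : b = (a : ↥(S : Subgroup G))⁻¹ := by
      apply Subtype.ext
      rw [Subgroup.coe_inv, ← hA, ← hB]
      exact eq_inv_of_mul_eq_one_right h
    rw [this]; exact Subgroup.inv_mem _ (Subgroup.mem_zpowers _)
  have hAB3 : (A * B) ^ 3 = 1 := by
    rw [(show Commute A B from hAB).mul_pow, hA3, hB3, one_mul]
  have key := c3c3_sub W hWc hW2 A B hAB (norm_W nc W hWc hW2 A hA3 hA1)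
    (norm_W nc W hWc hW2 B hB3 hB1) (norm_W nc W hWc hW2 (A * B) hAB3 hAB1)
  obtain ⟨w0, hw0, hw01⟩ : ∃ w ∈ W, w ≠ 1 := by
    by_contra hcon
    push Not at hcon
    exact hWne ((Subgroup.eq_bot_iff_forall W).mpr hcon)
  have hk := key w0 hw0
  have hc : Commute w0 (B⁻¹ * A) := by
    have : (B⁻¹ * A) * w0 = w0 * (B⁻¹ * A) := by
      calc (B⁻¹ * A) * w0 = B⁻¹ * (A * w0 * A⁻¹) * A := by group
        _ = B⁻¹ * (B * w0 * B⁻¹) * A := by rw [hk]
        _ = w0 * (B⁻¹ * A) := by group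
    exact this.symm
  have hc3 : (B⁻¹ * A) ^ 3 = 1 := by
    have hcm : Commute B⁻¹ A := (show Commute A B from hAB).symm.inv_left
    rw [hcm.mul_pow, inv_pow, hB3, hA3]; simp
  rcases nc w0 (B⁻¹ * A) hc (pow4_of_mul_self (hW2 w0 hw0)) hc3 with h | h
  · exact hw01 h
  · apply hb
    have : (a : ↥(S : Subgroup G)) = b := by
      apply Subtype.ext
      rw [← hA, ← hB]
      exact (inv_mul_eq_one.mp h).symm
    rw [← this]; exact Subgroup.mem_zpowers _

theorem card_two_three [Finite G] (hle : ∀ g : G, orderOf g ≤ 4) :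
    Nat.card G = 2 ^ (Nat.card G).factorization 2 * 3 ^ (Nat.card G).factorization 3 := by
  have hn : Nat.card G ≠ 0 := Nat.card_pos.ne'
  have hsupp : (Nat.card G).factorization.support ⊆ {2, 3} := by
    intro p hp
    rw [Nat.support_factorization, Nat.mem_primeFactors] at hp
    obtain ⟨hpp, hpd, -⟩ := hp
    have : Fact p.Prime := ⟨hpp⟩
    obtain ⟨g, hg⟩ := exists_prime_orderOf_dvd_card' p hpd
    have h1 := hle g
    rw [hg] at h1
    have h2 := hpp.two_le
    interval_cases p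
    · simp
    · simp
    · exact absurd hpp (by norm_num)
  have h := Nat.prod_factorization_pow_eq_self hn
  rw [Finsupp.prod_of_support_subset _ hsupp _ (by intros; simp),
    Finset.prod_pair (by norm_num)] at h
  exact h.symm

theorem sylow2_index [Finite G]
    (hcard : Nat.card G = 2 ^ (Nat.card G).factorization 2 * 3 ^ (Nat.card G).factorization 3)
    (hS : ∀ S : Sylow 3 G, Nat.card (S : Subgroup G) = 3) (T : Sylow 2 G) :
    (T : Subgroup G).index = 3 := by
  have : Fact (Nat.Prime 3) := ⟨Nat.prime_three⟩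
  have : Fact (Nat.Prime 2) := ⟨Nat.prime_two⟩
  obtain ⟨S⟩ : Nonempty (Sylow 3 G) := inferInstance
  have h1 : Nat.card (T : Subgroup G) = 2 ^ (Nat.card G).factorization 2 := T.card_eq_multiplicity
  have h2 : Nat.card (S : Subgroup G) = 3 ^ (Nat.card G).factorization 3 := S.card_eq_multiplicity
  have h3 := hS S
  have h5 : Nat.card (T : Subgroup G) * (T : Subgroup G).index
      = Nat.card (T : Subgroup G) * 3 := by
    rw [Subgroup.card_mul_index]
    calc Nat.card G = 2 ^ (Nat.card G).factorization 2 * 3 ^ (Nat.card G).factorization 3 := hcard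
      _ = Nat.card (T : Subgroup G) * Nat.card (S : Subgroup G) := by rw [h1, h2]
      _ = Nat.card (T : Subgroup G) * 3 := by rw [h3]
  exact Nat.eq_of_mul_eq_mul_left Nat.card_pos h5

theorem pCore_eq_ker [Finite G] (T : Sylow 2 G) :
    pCore 2 G = (MulAction.toPermHom G (G ⧸ (T : Subgroup G))).ker := by
  have : Fact (Nat.Prime 2) := ⟨Nat.prime_two⟩
  rw [← Subgroup.normalCore_eq_ker]
  apply le_antisymm
  · have : (pCore 2 G).Normal := pCore_normal
    exact Subgroup.normal_le_normalCore.mpr (pCore_le_sylow T)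
  · exact le_pCore _ (Subgroup.normalCore_normal _) (T.isPGroup'.to_le (Subgroup.normalCore_le _))

theorem index_three_or_six [Finite G] (T : Sylow 2 G) (hT : (T : Subgroup G).index = 3) :
    (pCore 2 G).index = 3 ∨ (pCore 2 G).index = 6 := by
  have : Fact (Nat.Prime 2) := ⟨Nat.prime_two⟩
  have h1 : (pCore 2 G).relIndex T * (T : Subgroup G).index = (pCore 2 G).index :=
    Subgroup.relIndex_mul_index (pCore_le_sylow T)
  have h2 : (pCore 2 G).index ∣ 6 := by
    rw [pCore_eq_ker T, Subgroup.index_ker]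
    have hc : Nat.card (Equiv.Perm (G ⧸ (T : Subgroup G))) = 6 := by
      rw [Nat.card_perm, ← Subgroup.index_eq_card, hT]; rfl
    rw [← hc]
    exact Subgroup.card_subgroup_dvd_card _
  rw [hT] at h1
  rw [← h1] at h2 ⊢
  have h3 : (pCore 2 G).relIndex T ∣ 2 := by
    have : (pCore 2 G).relIndex T * 3 ∣ 2 * 3 := h2
    exact Nat.dvd_of_mul_dvd_mul_right (by norm_num) this
  rcases (Nat.dvd_prime Nat.prime_two).mp h3 with h | h
  · left; rw [h]
  · right; rw [h]

theorem pcore_class_two [Finite G] (h4 : ∀ g : G, g ^ 4 = 1 ∨ g ^ 3 = 1)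
    (nc : ∀ a b : G, Commute a b → a ^ 4 = 1 → b ^ 3 = 1 → a = 1 ∨ b = 1)
    (s : G) (hs3 : s ^ 3 = 1) (hs1 : s ≠ 1) :
    ∀ x y z : ↥(pCore 2 G), ⁅⁅x, y⁆, z⁆ = 1 := by
  have : Fact (Nat.Prime 2) := ⟨Nat.prime_two⟩
  have : (pCore 2 G).Normal := pCore_normal
  have hP4 : ∀ x ∈ pCore 2 G, x ^ 4 = 1 := pow4_of_isPGroup h4 pCore_isPGroup
  have hf : Fpf (MulAut.conjNormal s : ↥(pCore 2 G) ≃* ↥(pCore 2 G)) := by
    apply cn_fpf
    intro y hy hc
    rcases nc y s hc.symm (hP4 y hy) hs3 with h | h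
    · exact h
    · exact absurd h hs1
  apply fpf3_class_two hf (cn_cube _ s hs3)
  intro c hc
  have h4c : c ^ 4 = 1 := by
    apply Subtype.ext; rw [Subgroup.coe_pow, Subgroup.coe_one]; exact hP4 c c.2
  have : c ^ 4 = c ^ 3 * c := pow_succ c 3
  rw [h4c, hc, one_mul] at this
  exact this.symm

theorem conclusion1 [Finite G] (h4 : ∀ g : G, g ^ 4 = 1 ∨ g ^ 3 = 1)
    (nc : ∀ a b : G, Commute a b → a ^ 4 = 1 → b ^ 3 = 1 → a = 1 ∨ b = 1)
    (s : G) (hs3 : s ^ 3 = 1) (hs1 : s ≠ 1) (g4 : G) (hg4 : orderOf g4 = 4)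
    (hidx : (pCore 2 G).index = 3) :
    IsPGroup 2 ↥(pCore 2 G) ∧ Monoid.exponent ↥(pCore 2 G) = 4 ∧
      Group.nilpotencyClass ↥(pCore 2 G) ≤ 2 ∧ (pCore 2 G).index = 3 := by
  have : Fact (Nat.Prime 2) := ⟨Nat.prime_two⟩
  have : (pCore 2 G).Normal := pCore_normal
  have hP : IsPGroup 2 ↥(pCore 2 G) := pCore_isPGroup
  have hP4 : ∀ x ∈ pCore 2 G, x ^ 4 = 1 := pow4_of_isPGroup h4 hP
  refine ⟨hP, ?_, ?_, hidx⟩
  · have d1 : Monoid.exponent ↥(pCore 2 G) ∣ 4 :=
      Monoid.exponent_dvd_of_forall_pow_eq_one (fun t => by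
        apply Subtype.ext; rw [Subgroup.coe_pow, Subgroup.coe_one]; exact hP4 t t.2)
    have hg4P : g4 ∈ pCore 2 G := by
      have h3 : g4 ^ 3 ∈ pCore 2 G := by rw [← hidx]; exact Subgroup.pow_index_mem _ g4
      have h44 : g4 ^ 4 = 1 := by rw [← hg4]; exact pow_orderOf_eq_one g4
      have : g4 = (g4 ^ 3)⁻¹ := by
        apply eq_inv_of_mul_eq_one_left
        rw [← pow_succ']; exact h44
      rw [this]; exact Subgroup.inv_mem _ h3
    have d2 : 4 ∣ Monoid.exponent ↥(pCore 2 G) := by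
      have : orderOf (⟨g4, hg4P⟩ : ↥(pCore 2 G)) = 4 := by
        rw [← hg4]; exact Subgroup.orderOf_mk g4 hg4P
      rw [← this]; exact Monoid.order_dvd_exponent _
    exact Nat.dvd_antisymm d1 d2
  · have : Group.IsNilpotent ↥(pCore 2 G) := hP.isNilpotent
    rw [← Subgroup.upperCentralSeries_eq_top_iff_nilpotencyClass_le, Subgroup.eq_top_iff']
    intro x
    show x ∈ Subgroup.upperCentralSeries ↥(pCore 2 G) (1 + 1)
    rw [Subgroup.mem_upperCentralSeries_succ_iff]
    intro y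
    rw [Subgroup.upperCentralSeries_one, Subgroup.mem_center_iff]
    intro z
    have hc := commutatorElement_eq_one_iff_commute.mp (pcore_class_two h4 nc s hs3 hs1 x y z)
    exact hc.eq.symm


theorem conclusion2 [Finite G] (h4 : ∀ g : G, g ^ 4 = 1 ∨ g ^ 3 = 1)
    (nc : ∀ a b : G, Commute a b → a ^ 4 = 1 → b ^ 3 = 1 → a = 1 ∨ b = 1)
    (hS : ∀ S : Sylow 3 G, Nat.card (S : Subgroup G) = 3) (T : Sylow 2 G)
    (hT : (T : Subgroup G).index = 3) (hidx : (pCore 2 G).index = 6)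
    (h3dvd : 3 ∣ Nat.card G) :
    Cfsg.IsElementaryAbelian 2 (pCore 2 G) ∧
      Nonempty (G ⧸ pCore 2 G ≃* Equiv.Perm (Fin 3)) := by
  classical
  have : Fact (Nat.Prime 2) := ⟨Nat.prime_two⟩
  have : Fact (Nat.Prime 3) := ⟨Nat.prime_three⟩
  have hPn : (pCore 2 G).Normal := pCore_normal
  have hP4 : ∀ x ∈ pCore 2 G, x ^ 4 = 1 := pow4_of_isPGroup h4 pCore_isPGroup
  obtain ⟨φ, hφ⟩ : ∃ φ : G →* Equiv.Perm (G ⧸ (T : Subgroup G)),
      φ = MulAction.toPermHom G (G ⧸ (T : Subgroup G)) := ⟨_, rfl⟩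
  have hker : pCore 2 G = φ.ker := by rw [hφ]; exact pCore_eq_ker T
  have hcardX : Nat.card (G ⧸ (T : Subgroup G)) = 3 := by
    rw [← Subgroup.index_eq_card]; exact hT
  have hcardPerm : Nat.card (Equiv.Perm (G ⧸ (T : Subgroup G))) = 6 := by
    rw [Nat.card_perm, hcardX]; rfl
  have hφsurj : Function.Surjective φ := by
    rw [← MonoidHom.range_eq_top]
    apply Subgroup.eq_top_of_card_eq
    rw [← Subgroup.index_ker, ← hker, hidx, hcardPerm]
  have iso : Nonempty (G ⧸ pCore 2 G ≃* Equiv.Perm (Fin 3)) := by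
    have e1 : G ⧸ pCore 2 G ≃* G ⧸ φ.ker := QuotientGroup.quotientMulEquivOfEq hker
    have e2 : G ⧸ φ.ker ≃* Equiv.Perm (G ⧸ (T : Subgroup G)) :=
      QuotientGroup.quotientKerEquivOfSurjective φ hφsurj
    have e3 : (G ⧸ (T : Subgroup G)) ≃ Fin 3 := Finite.equivFinOfCardEq hcardX
    exact ⟨(e1.trans e2).trans (Equiv.permCongrHom e3)⟩
  refine ⟨?_, iso⟩
  -- the index-2 normal subgroup
  haveI : Fintype (G ⧸ (T : Subgroup G)) := Fintype.ofFinite _
  obtain ⟨ψ, hψ⟩ : ∃ ψ : G →* ℤˣ, ψ = (Equiv.Perm.sign).comp φ := ⟨_, rfl⟩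
  have hψsurj : Function.Surjective ψ := by
    have : Nontrivial (G ⧸ (T : Subgroup G)) := by
      rw [← Finite.one_lt_card_iff_nontrivial, hcardX]; norm_num
    rw [hψ]
    exact (Equiv.Perm.sign_surjective _).comp hφsurj
  have hNidx : ψ.ker.index = 2 := by
    rw [Subgroup.index_ker, MonoidHom.range_eq_top.mpr hψsurj, Subgroup.card_top,
      Nat.card_eq_fintype_card]
    exact Fintype.card_units_int
  have hPN : pCore 2 G ≤ ψ.ker := by
    rw [hker]; intro x hx
    rw [MonoidHom.mem_ker] at hx ⊢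
    rw [hψ, MonoidHom.comp_apply, hx, map_one]
  have h3N : ∀ g : G, g ^ 3 = 1 → g ∈ ψ.ker := by
    intro g hg
    have h2 := Subgroup.sq_mem_of_index_two hNidx (g ^ 2)
    have : g = (g ^ 2) ^ 2 := by
      rw [← pow_mul]
      show g = g ^ (3 + 1)
      rw [pow_succ, hg, one_mul]
    rw [this]; exact h2
  -- Frattini
  obtain ⟨S⟩ : Nonempty (Sylow 3 G) := inferInstance
  have hS3 : ∀ x ∈ (S : Subgroup G), x ^ 3 = 1 := pow3_of_isPGroup h4 S.isPGroup'
  have hSN : (S : Subgroup G) ≤ ψ.ker := fun x hx => h3N x (hS3 x hx)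
  have hfr := Sylow.normalizer_sup_eq_top' S hSN
  obtain ⟨t, htn, htN⟩ : ∃ t, t ∈ Subgroup.normalizer (S : Set G) ∧
      t ∉ ψ.ker := by
    by_contra hcon
    push Not at hcon
    have hle : Subgroup.normalizer (S : Set G) ≤ ψ.ker := hcon
    rw [sup_eq_right.mpr hle] at hfr
    rw [hfr, Subgroup.index_top] at hNidx
    exact absurd hNidx (by norm_num)
  have hSne : (S : Subgroup G) ≠ ⊥ := S.ne_bot_of_dvd_card h3dvd
  obtain ⟨s, hsS, hs1⟩ : ∃ s ∈ (S : Subgroup G), s ≠ 1 := by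
    by_contra hcon
    push Not at hcon
    exact hSne ((Subgroup.eq_bot_iff_forall _).mpr hcon)
  have hs3 := hS3 s hsS
  have hos : orderOf s = 3 := orderOf_eq_prime hs3 hs1
  have hSz : Subgroup.zpowers s = (S : Subgroup G) := by
    apply Subgroup.eq_of_le_of_card_ge
    · rwa [Subgroup.zpowers_le]
    · rw [hS S, Nat.card_zpowers, hos]
  have hts : t * s * t⁻¹ ∈ Subgroup.zpowers s := by
    rw [hSz]; exact (Subgroup.mem_set_normalizer_iff.mp htn s).mp hsS
  have ht4 : t ^ 4 = 1 := by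
    rcases h4 t with h | h
    · exact h
    · exact absurd (h3N t h) htN
  have ht1 : t ≠ 1 := by
    intro h; apply htN; rw [h]; exact Subgroup.one_mem _
  have hinv : t * s * t⁻¹ = s⁻¹ := by
    rw [mem_zpowers_iff_mem_range_orderOf, hos] at hts
    simp only [Finset.mem_image, Finset.mem_range] at hts
    obtain ⟨k, hk, hks⟩ := hts
    interval_cases k
    · exfalso; apply hs1
      rw [pow_zero] at hks
      exact conj_eq_one_iff.mp hks.symm
    · exfalso
      rw [pow_one] at hks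
      have hc : Commute t s := by
        have : t * s = s * t := by
          calc t * s = t * s * t⁻¹ * t := by group
            _ = s * t := by rw [← hks]
        exact this
      rcases nc t s hc ht4 hs3 with h | h
      · exact ht1 h
      · exact hs1 h
    · rw [← hks]
      apply eq_inv_of_mul_eq_one_left
      rw [← pow_succ]; exact hs3
  have htt : t * t = 1 := by
    have hc : Commute (t * t) s := by
      have e : (t * t) * s * (t * t)⁻¹ = s := by
        have e1 : (t * t) * s * (t * t)⁻¹ = t * (t * s * t⁻¹) * t⁻¹ := by group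
        have e2 : t * s⁻¹ * t⁻¹ = (t * s * t⁻¹)⁻¹ := by group
        rw [e1, hinv, e2, hinv, inv_inv]
      have : (t * t) * s = s * (t * t) := by
        calc (t * t) * s = (t * t) * s * (t * t)⁻¹ * (t * t) := by group
          _ = s * (t * t) := by rw [e]
      exact this
    have h44 : (t * t) ^ 4 = 1 := by
      rw [← pow_two, ← pow_mul]
      show t ^ (4 * 2) = 1
      rw [pow_mul, ht4, one_pow]
    rcases nc (t * t) s hc h44 hs3 with h | h
    · exact h
    · exact absurd h hs1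
  have hout : ∀ u : G, u ∉ ψ.ker → u * u = 1 → ∀ x ∈ pCore 2 G,
      (x * (u * x * u⁻¹)) ^ 2 = 1 := by
    intro u huN huu x hx
    have hxu : x * u ∉ ψ.ker := by
      intro h
      apply huN
      have : u = x⁻¹ * (x * u) := by group
      rw [this]; exact Subgroup.mul_mem _ (Subgroup.inv_mem _ (hPN hx)) h
    have h44 : (x * u) ^ 4 = 1 := by
      rcases h4 (x * u) with h | h
      · exact h
      · exact absurd (h3N _ h) hxu
    have huinv : u⁻¹ = u := inv_eq_of_mul_eq_one_right huu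
    have e : x * (u * x * u⁻¹) = (x * u) ^ 2 := by
      rw [huinv, pow_two]; group
    rw [e, ← pow_mul]; exact h44
  have hsN : s ∈ ψ.ker := h3N s hs3
  have hstN : s * t ∉ ψ.ker := by
    intro h; apply htN
    have : t = s⁻¹ * (s * t) := by group
    rw [this]; exact Subgroup.mul_mem _ (Subgroup.inv_mem _ hsN) h
  have hsstN : s * (s * t) ∉ ψ.ker := by
    intro h; apply hstN
    have : s * t = s⁻¹ * (s * (s * t)) := by group
    rw [this]; exact Subgroup.mul_mem _ (Subgroup.inv_mem _ hsN) h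
  have hts' : t * s = s⁻¹ * t := by
    calc t * s = t * s * t⁻¹ * t := by group
      _ = s⁻¹ * t := by rw [hinv]
  have hst2 : (s * t) * (s * t) = 1 := by
    calc (s * t) * (s * t) = s * (t * s) * t := by group
      _ = s * (s⁻¹ * t) * t := by rw [hts']
      _ = t * t := by group
      _ = 1 := htt
  have hsst2 : (s * (s * t)) * (s * (s * t)) = 1 := by
    calc (s * (s * t)) * (s * (s * t)) = s * s * (t * s) * (s * t) := by group
      _ = s * s * (s⁻¹ * t) * (s * t) := by rw [hts']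
      _ = s * (t * s) * t := by group
      _ = s * (s⁻¹ * t) * t := by rw [hts']
      _ = t * t := by group
      _ = 1 := htt
  -- automorphisms of P
  have hf : Fpf (MulAut.conjNormal s : ↥(pCore 2 G) ≃* ↥(pCore 2 G)) := by
    apply cn_fpf
    intro y hy hc
    rcases nc y s hc.symm (hP4 y hy) hs3 with h | h
    · exact h
    · exact absurd h hs1
  have hσ := cn_cube (pCore 2 G) s hs3
  have hcl := pcore_class_two h4 nc s hs3 hs1
  have hP4' : ∀ x : ↥(pCore 2 G), x ^ 4 = 1 := fun x =>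
    Subtype.ext (by rw [Subgroup.coe_pow, Subgroup.coe_one]; exact hP4 x x.2)
  have h0 : ∀ x : ↥(pCore 2 G),
      (x * (MulAut.conjNormal t : ↥(pCore 2 G) ≃* ↥(pCore 2 G)) x) ^ 2 = 1 := by
    intro x; apply Subtype.ext
    rw [Subgroup.coe_pow, Subgroup.coe_mul, MulAut.conjNormal_apply, Subgroup.coe_one]
    exact hout t htN htt x x.2
  have h1 : ∀ x : ↥(pCore 2 G),
      (x * (MulAut.conjNormal s : ↥(pCore 2 G) ≃* ↥(pCore 2 G))
        ((MulAut.conjNormal t : ↥(pCore 2 G) ≃* ↥(pCore 2 G)) x)) ^ 2 = 1 := by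
    intro x; apply Subtype.ext
    rw [Subgroup.coe_pow, Subgroup.coe_mul, MulAut.conjNormal_apply, MulAut.conjNormal_apply,
      Subgroup.coe_one]
    have := hout (s * t) hstN hst2 x x.2
    have e : s * (t * (x : G) * t⁻¹) * s⁻¹ = (s * t) * x * (s * t)⁻¹ := by group
    rw [e]; exact this
  have h2 : ∀ x : ↥(pCore 2 G),
      (x * (MulAut.conjNormal s : ↥(pCore 2 G) ≃* ↥(pCore 2 G))
        ((MulAut.conjNormal s : ↥(pCore 2 G) ≃* ↥(pCore 2 G))
          ((MulAut.conjNormal t : ↥(pCore 2 G) ≃* ↥(pCore 2 G)) x))) ^ 2 = 1 := by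
    intro x; apply Subtype.ext
    rw [Subgroup.coe_pow, Subgroup.coe_mul, MulAut.conjNormal_apply, MulAut.conjNormal_apply,
      MulAut.conjNormal_apply, Subgroup.coe_one]
    have := hout (s * (s * t)) hsstN hsst2 x x.2
    have e : s * (s * (t * (x : G) * t⁻¹) * s⁻¹) * s⁻¹
        = (s * (s * t)) * x * (s * (s * t))⁻¹ := by group
    rw [e]; exact this
  have hx2 := sq_trivial hf hσ hcl hP4' h0 h1 h2
  unfold Cfsg.IsElementaryAbelian
  refine ⟨⟨⟨fun a b => ?_⟩⟩, fun a ha => ?_⟩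
  · have ha := hx2 a
    have hb := hx2 b
    have hab := hx2 (a * b)
    rw [pow_two] at ha hb hab
    have ia : a⁻¹ = a := inv_eq_of_mul_eq_one_right ha
    have ib : b⁻¹ = b := inv_eq_of_mul_eq_one_right hb
    have iab : (a * b)⁻¹ = a * b := inv_eq_of_mul_eq_one_right hab
    calc a * b = (a * b)⁻¹ := iab.symm
      _ = b⁻¹ * a⁻¹ := mul_inv_rev a b
      _ = b * a := by rw [ia, ib]
  · have := congrArg Subtype.val (hx2 ⟨a, ha⟩)
    simpa using this

theorem main [Finite G]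
    (h : Set.range (orderOf : G → ℕ) = {k : ℕ | 1 ≤ k ∧ k ≤ 4}) :
    ∃ (N : Subgroup G) (_ : N.Normal),
      (IsPGroup 2 ↥N ∧ Monoid.exponent ↥N = 4 ∧ Group.nilpotencyClass ↥N ≤ 2 ∧ N.index = 3) ∨
      (Cfsg.IsElementaryAbelian 2 N ∧ Nonempty (G ⧸ N ≃* Equiv.Perm (Fin 3))) ∨
      (Cfsg.IsElementaryAbelian 3 N ∧
        ((IsCyclic (G ⧸ N) ∧ N.index = 4) ∨ Nonempty (G ⧸ N ≃* QuaternionGroup 2))) := by
  have hle : ∀ g : G, orderOf g ≤ 4 := by
    intro g
    have : orderOf g ∈ Set.range (orderOf : G → ℕ) := ⟨g, rfl⟩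
    rw [h] at this; exact this.2
  have hex : ∀ k, 1 ≤ k → k ≤ 4 → ∃ g : G, orderOf g = k := by
    intro k h1 h2
    have : k ∈ {k : ℕ | 1 ≤ k ∧ k ≤ 4} := ⟨h1, h2⟩
    rw [← h] at this; exact this
  obtain ⟨g2, hg2⟩ := hex 2 (by norm_num) (by norm_num)
  obtain ⟨g3, hg3⟩ := hex 3 (by norm_num) (by norm_num)
  obtain ⟨g4, hg4⟩ := hex 4 (by norm_num) (by norm_num)
  have h4 := pow_cases hle
  have nc := nc_of_le hle
  have hcard := card_two_three hle
  have hsolv : Group.IsSolvable G :=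
    Cfsg.Agent.Lib.Helper2.isSolvable_of_card_eq_prime_pow_mul_prime_pow 2 3 Nat.prime_two
      Nat.prime_three _ G rfl ⟨_, _, hcard⟩
  have hg21 : g2 ≠ 1 := by
    intro h'; rw [h', orderOf_one] at hg2; exact absurd hg2 (by norm_num)
  have hg31 : g3 ≠ 1 := by
    intro h'; rw [h', orderOf_one] at hg3; exact absurd hg3 (by norm_num)
  have : Nontrivial G := ⟨⟨g2, 1, hg21⟩⟩
  obtain ⟨N0, hN0⟩ := Cfsg.Agent.Lib.Helper4.exists_minNormal (G := G)
  have hN0c := hN0.le_centralizer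
  obtain ⟨p, hp, hpN⟩ := hN0.exists_prime_pow_eq_one hN0c
  obtain ⟨hN0n, hN0ne, -⟩ := hN0
  obtain ⟨x0, hx0, hx01⟩ : ∃ x ∈ N0, x ≠ 1 := by
    by_contra hcon
    push Not at hcon
    exact hN0ne ((Subgroup.eq_bot_iff_forall N0).mpr hcon)
  have : Fact p.Prime := ⟨hp⟩
  have hox : orderOf x0 = p := orderOf_eq_prime (hpN x0 hx0) hx01
  have hp4 : p ≤ 4 := hox ▸ hle x0
  have hp23 : p = 2 ∨ p = 3 := by
    have := hp.two_le
    interval_cases p
    · left; rfl
    · right; rfl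
    · exact absurd hp (by norm_num)
  have hg3c : g3 ^ 3 = 1 := by rw [← hg3]; exact pow_orderOf_eq_one g3
  rcases hp23 with rfl | rfl
  · -- a minimal normal subgroup is a 2-group
    have hWc : ∀ x ∈ N0, ∀ y ∈ N0, x * y = y * x := fun x hx y hy =>
      (Subgroup.mem_centralizer_iff.mp (hN0c hx) y hy).symm
    have hW2 : ∀ x ∈ N0, x * x = 1 := fun x hx => by rw [← pow_two]; exact hpN x hx
    have hS := sylow3_card h4 nc N0 hN0ne hWc hW2 g3 hg3
    obtain ⟨T⟩ : Nonempty (Sylow 2 G) := inferInstance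
    have hT := sylow2_index hcard hS T
    have h3dvd : 3 ∣ Nat.card G := by rw [← hg3]; exact orderOf_dvd_natCard g3
    rcases index_three_or_six T hT with hidx | hidx
    · exact ⟨pCore 2 G, pCore_normal, Or.inl (conclusion1 h4 nc g3 hg3c hg31 g4 hg4 hidx)⟩
    · exact ⟨pCore 2 G, pCore_normal,
        Or.inr (Or.inl (conclusion2 h4 nc hS T hT hidx h3dvd))⟩
  · -- a minimal normal subgroup is a 3-group
    have : (pCore 3 G).Normal := pCore_normal
    have hN0p : IsPGroup 3 ↥N0 := fun g =>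
      ⟨1, by rw [pow_one]; exact Subtype.ext (by simpa using hpN g g.2)⟩
    have hle0 : N0 ≤ pCore 3 G := le_pCore N0 hN0n hN0p
    have hQne : pCore 3 G ≠ ⊥ := by
      intro hb; rw [hb, le_bot_iff] at hle0; exact hN0ne hle0
    have hQ3 := pow3_of_isPGroup h4 (pCore_isPGroup (G := G) (p := 3))
    have hQmax : ∀ N : Subgroup G, N.Normal → (∀ x ∈ N, x ^ 3 = 1) → N ≤ pCore 3 G := by
      intro N hN hN3
      exact le_pCore N hN (fun g =>
        ⟨1, by rw [pow_one]; exact Subtype.ext (by simpa using hN3 g g.2)⟩)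
    have hz : g2 ^ 2 = 1 := by rw [← hg2]; exact pow_orderOf_eq_one g2
    obtain ⟨hEA, hq⟩ := caseI h4 nc (pCore 3 G) hQ3 hQne hQmax g2 hz hg21 g4 hg4
    exact ⟨pCore 3 G, pCore_normal, Or.inr (Or.inr ⟨hEA, hq⟩)⟩

end Cfsg.Agent.Lib.Helper16.Orders1234
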