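import Mathlib
import Cfsg.Prelude.Def_Blocks
import Cfsg.Prelude.Def_BlockLocal
import Cfsg.Prelude.Def_BlockRank
import Cfsg.Prelude.Def_BrauerPairs

/-!
# S4640 farm (helper24), leaf [I] `res_irreducible_of` (helper16)
-/

set_option autoImplicit false

namespace Cfsg.Agent.Lib.Helper24.PIdx

open Cfsg
open scoped ComplexConjugate

variable {G : Type*} [Group G] [Fintype G] {p : ℕ} [Fact p.Prime] {M : Ideal Cfsg.AlgInt}

/-- [I] irreducible restriction from nonvanishing -/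
theorem res_irreducible_of (N : Subgroup G) [N.Normal] [Fintype N] (P : Subgroup G)
    (hsup : N ⊔ P = ⊤) (hreg : ∀ g : G, Cfsg.IsPRegular p g → g ∈ N)
    (χ : Cfsg.IrrCharacter G)
    (hnv : ∀ u ∈ P, ∃ s : G, s * u = u * s ∧ Cfsg.IsPRegular p s ∧ (χ : G → ℂ) (u * s) ≠ 0)
    (hcount : Cfsg.classInner (fun n : N => (χ : G → ℂ) n) (fun n : N => (χ : G → ℂ) n)
      = (Nat.card {lam : G →* ℂˣ // (∀ n ∈ N, lam n = 1) ∧
          ∀ g : G, ((lam g : ℂˣ) : ℂ) * (χ : G → ℂ) g = (χ : G → ℂ) g} : ℂ)) :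
    Cfsg.classInner (fun n : N => (χ : G → ℂ) n) (fun n : N => (χ : G → ℂ) n) = 1 := by
  rw [hcount]
  have huniq : ∀ lam : G →* ℂˣ, ((∀ n ∈ N, lam n = 1) ∧
      ∀ g : G, ((lam g : ℂˣ) : ℂ) * (χ : G → ℂ) g = (χ : G → ℂ) g) → lam = 1 := by
    rintro lam ⟨h1, h2⟩
    -- lam u = 1 for u ∈ P
    have hP : ∀ u ∈ P, lam u = 1 := by
      intro u hu
      obtain ⟨s, -, hs, hne⟩ := hnv u hu
      have hsN : s ∈ N := hreg s hs
      have h3 := h2 (u * s)
      have h4 : ((lam (u * s) : ℂˣ) : ℂ) = 1 := by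
        have h5 : (((lam (u * s) : ℂˣ) : ℂ) - 1) * (χ : G → ℂ) (u * s) = 0 := by
          rw [sub_mul, h3, one_mul, sub_self]
        rcases mul_eq_zero.mp h5 with h6 | h6
        · exact sub_eq_zero.mp h6
        · exact absurd h6 hne
      have h7 : lam (u * s) = 1 := Units.ext (by simpa using h4)
      rw [map_mul, h1 s hsN, mul_one] at h7
      exact h7
    ext g
    have hg : g ∈ ((N ⊔ P : Subgroup G) : Set G) := by rw [hsup]; trivial
    rw [Subgroup.normal_mul] at hg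
    obtain ⟨n, hn, u, hu, rfl⟩ := Set.mem_mul.mp hg
    rw [map_mul, h1 n hn, hP u hu]
    simp
  have hone : ((∀ n ∈ N, (1 : G →* ℂˣ) n = 1) ∧
      ∀ g : G, (((1 : G →* ℂˣ) g : ℂˣ) : ℂ) * (χ : G → ℂ) g = (χ : G → ℂ) g) := by
    constructor
    · intro n _; rfl
    · intro g; simp
  have hcard : Nat.card {lam : G →* ℂˣ // (∀ n ∈ N, lam n = 1) ∧
          ∀ g : G, ((lam g : ℂˣ) : ℂ) * (χ : G → ℂ) g = (χ : G → ℂ) g} = 1 := by
    rw [Nat.card_eq_one_iff_unique]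
    refine ⟨⟨fun a b => Subtype.ext ?_⟩, ⟨⟨1, hone⟩⟩⟩
    rw [huniq a.1 a.2, huniq b.1 b.2]
  rw [hcard]
  simp

end Cfsg.Agent.Lib.Helper24.PIdx
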