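import Mathlib
import Cfsg.Prelude.Def_Blocks
import Cfsg.Prelude.Def_BlockLocal
import Cfsg.Prelude.Def_BlockRank
import Cfsg.Prelude.Def_BrauerPairs
import Cfsg.Agent.Lib.Helper2.Linear
import Cfsg.Agent.Lib.Helper7.Covering

/-!
# S4640 farm (helper24), leaf [J] `card_extensions` -- SPARE by helper16
(renamed `card_extensions_spare`, in the sub-namespace `Helper16`; helper20 holds the official name).
-/

set_option autoImplicit false

namespace Cfsg.Agent.Lib.Helper24.PIdx.Helper16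

open Cfsg
open scoped ComplexConjugate

variable {G : Type*} [Group G] [Fintype G] {p : ℕ} [Fact p.Prime] {M : Ideal Cfsg.AlgInt}

/-- [J] (spare) the number of extensions in `B` of `θ ∈ b` -/
theorem card_extensions_spare (N : Subgroup G) [N.Normal] [Fintype N]
    (b : Set (Cfsg.IrrCharacter N)) (B : Set (Cfsg.IrrCharacter G))
    (hF : ∀ χ χ' : Cfsg.IrrCharacter G,
      Cfsg.classInner (fun n : N => (χ : G → ℂ) n) (fun n : N => (χ' : G → ℂ) n)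
        = (Nat.card {lam : G →* ℂˣ // (∀ n ∈ N, lam n = 1) ∧
            ∀ g : G, ((lam g : ℂˣ) : ℂ) * (χ : G → ℂ) g = (χ' : G → ℂ) g} : ℂ))
    (hG : Nat.card {lam : G →* ℂˣ // ∀ n ∈ N, lam n = 1} = N.index)
    (hH : ∀ (lam : G →* ℂˣ) (χ : Cfsg.IrrCharacter G),
      Cfsg.IsIrrCharacter G (fun g => ((lam g : ℂˣ) : ℂ) * (χ : G → ℂ) g))
    (hover : ∀ χ : Cfsg.IrrCharacter G, ∀ θ ∈ b,
      Cfsg.classInner (fun n : N => (χ : G → ℂ) n) (θ : N → ℂ) ≠ 0 → χ ∈ B)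
    (hirr : ∀ χ ∈ B,
      Cfsg.classInner (fun n : N => (χ : G → ℂ) n) (fun n : N => (χ : G → ℂ) n) = 1)
    (θ : Cfsg.IrrCharacter N) (hθ : θ ∈ b) :
    Nat.card {χ : Cfsg.IrrCharacter G // χ ∈ B ∧ ∀ n : N, (χ : G → ℂ) n = (θ : N → ℂ) n}
      = N.index := by
  classical
  -- an irreducible character over θ; its restriction is θ
  obtain ⟨χ0, hχ0⟩ := Cfsg.Agent.Lib.Helper7.exists_irr_over N θ
  have hχ0B : χ0 ∈ B := hover χ0 θ hθ hχ0
  have hres_irr : Cfsg.IsIrrCharacter N (fun n : N => (χ0 : G → ℂ) n) :=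
    Cfsg.Agent.Lib.Helper2.isIrrCharacter_of_classInner_self_eq_one
      (Cfsg.Agent.Lib.Helper2.IsCharacter.restrict
        (Cfsg.Agent.Lib.Helper2.IsIrrCharacter.isCharacter χ0.2) N) (hirr χ0 hχ0B)
  have hres : (fun n : N => (χ0 : G → ℂ) n) = (θ : N → ℂ) := by
    by_contra hne
    have h1 : (⟨fun n : N => (χ0 : G → ℂ) n, hres_irr⟩ : Cfsg.IrrCharacter N) ≠ θ :=
      fun h => hne (congrArg Subtype.val h)
    have h2 := Cfsg.Agent.Lib.Helper2.classInner_irrCharacter_ne h1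
    exact hχ0 h2
  -- the key count: for χ restricting to θ, exactly one lam carries χ0 to χ
  have hone : ∀ χ : Cfsg.IrrCharacter G, (∀ n : N, (χ : G → ℂ) n = (θ : N → ℂ) n) →
      Nat.card {lam : G →* ℂˣ // (∀ n ∈ N, lam n = 1) ∧
            ∀ g : G, ((lam g : ℂˣ) : ℂ) * (χ0 : G → ℂ) g = (χ : G → ℂ) g} = 1 := by
    intro χ hχ
    have h1 := hF χ0 χ
    have h2 : (fun n : N => (χ : G → ℂ) n) = (θ : N → ℂ) := funext hχ
    rw [hres, h2, Cfsg.Agent.Lib.Helper2.classInner_irrCharacter_self] at h1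
    exact_mod_cast h1.symm
  -- the map lam ↦ lam χ0
  have hmem : ∀ lam : {lam : G →* ℂˣ // ∀ n ∈ N, lam n = 1},
      ((⟨fun g => ((lam.1 g : ℂˣ) : ℂ) * (χ0 : G → ℂ) g, hH lam.1 χ0⟩ : Cfsg.IrrCharacter G) ∈ B ∧
        ∀ n : N, ((⟨fun g => ((lam.1 g : ℂˣ) : ℂ) * (χ0 : G → ℂ) g, hH lam.1 χ0⟩ :
          Cfsg.IrrCharacter G) : G → ℂ) n = (θ : N → ℂ) n) := by
    intro lam
    have hr : ∀ n : N, ((lam.1 (n : G) : ℂˣ) : ℂ) * (χ0 : G → ℂ) n = (θ : N → ℂ) n := by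
      intro n
      rw [lam.2 n n.2]
      simpa using congrFun hres n
    refine ⟨?_, hr⟩
    apply hover _ θ hθ
    have h3 : (fun n : N => ((⟨fun g => ((lam.1 g : ℂˣ) : ℂ) * (χ0 : G → ℂ) g, hH lam.1 χ0⟩ :
          Cfsg.IrrCharacter G) : G → ℂ) n) = (θ : N → ℂ) := funext hr
    rw [h3, Cfsg.Agent.Lib.Helper2.classInner_irrCharacter_self]
    exact one_ne_zero
  let f : {lam : G →* ℂˣ // ∀ n ∈ N, lam n = 1} →
      {χ : Cfsg.IrrCharacter G // χ ∈ B ∧ ∀ n : N, (χ : G → ℂ) n = (θ : N → ℂ) n} :=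
    fun lam => ⟨⟨fun g => ((lam.1 g : ℂˣ) : ℂ) * (χ0 : G → ℂ) g, hH lam.1 χ0⟩, hmem lam⟩
  have hf : Function.Bijective f := by
    constructor
    · intro lam lam' hll
      have hsub := ((Nat.card_eq_one_iff_unique).mp (hone (f lam).1 (f lam).2.2)).1
      have e1 : (⟨lam.1, lam.2, fun g => rfl⟩ :
          {μ : G →* ℂˣ // (∀ n ∈ N, μ n = 1) ∧
            ∀ g : G, ((μ g : ℂˣ) : ℂ) * (χ0 : G → ℂ) g = ((f lam).1 : G → ℂ) g}) =
          ⟨lam'.1, lam'.2, fun g => by rw [hll]⟩ := hsub.elim _ _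
      have e2 : lam.1 = lam'.1 := Subtype.mk.inj e1
      exact Subtype.ext e2
    · rintro ⟨χ, hχB, hχ⟩
      obtain ⟨⟨μ, hμ1, hμ2⟩⟩ := ((Nat.card_eq_one_iff_unique).mp (hone χ hχ)).2
      refine ⟨⟨μ, hμ1⟩, ?_⟩
      apply Subtype.ext
      apply Subtype.ext
      funext g
      exact hμ2 g
  rw [← Nat.card_congr (Equiv.ofBijective f hf), hG]

end Cfsg.Agent.Lib.Helper24.PIdx.Helper16
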