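import Mathlib
import Cfsg.Prelude.Def_LocalEven
import Cfsg.Agent.Lib.Helper16.PReduced
import Cfsg.Agent.Lib.Helper16.SPE
import Cfsg.Agent.Lib.Helper16.SylowInf
import Cfsg.Agent.Lib.Helper16.NilAction
import Cfsg.Agent.Lib.Helper16.CoprimeComm

set_option autoImplicit false

namespace Cfsg.Agent.Lib.Helper16

open Cfsg
open scoped commutatorElement

variable {L : Type*} [Group L] {p : ℕ}

/-- `W` is a `p`-reduced normal subgroup of `K`, stated inside the ambient group `L`. -/
def RelPReduced (p : ℕ) (K W : Subgroup L) : Prop :=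
  W ≤ K ∧ K ≤ Subgroup.normalizer (W : Set L) ∧ (∀ a ∈ W, ∀ b ∈ W, a * b = b * a) ∧
    (∀ a ∈ W, a ^ p = 1) ∧
    ∀ D : Subgroup L, D ≤ K → K ≤ Subgroup.normalizer (D : Set L) →
      (∀ d ∈ D, ∃ k : ℕ, d ^ (p ^ k) ∈ Subgroup.centralizer (W : Set L)) →
        D ≤ Subgroup.centralizer (W : Set L)

theorem isPReducedNormal_of_rel [Finite L] [Fact p.Prime] (K W : Subgroup L) (h : RelPReduced p K W) :
    IsPReducedNormal p (W.subgroupOf K) := by
  obtain ⟨hWK, hKW, hcomm, hexp, hD⟩ := h
  have hXn : (W.subgroupOf K).Normal := (Subgroup.normal_subgroupOf_iff_le_normalizer hWK).2 hKW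
  haveI := hXn
  have hCn : (Subgroup.centralizer ((W.subgroupOf K : Subgroup K) : Set K)).Normal :=
    Subgroup.normal_centralizer
  refine ⟨hXn, ⟨⟨⟨?_⟩⟩, ?_⟩, hCn, ?_⟩
  · rintro ⟨a, ha⟩ ⟨b, hb⟩
    apply Subtype.ext
    apply Subtype.ext
    exact hcomm _ (Subgroup.mem_subgroupOf.1 ha) _ (Subgroup.mem_subgroupOf.1 hb)
  · intro a ha
    apply Subtype.ext
    simpa using hexp _ (Subgroup.mem_subgroupOf.1 ha)
  · apply pCore_quotient_eq_bot_of
    intro D' hD'n hD'p
    have h1 : D'.map K.subtype ≤ K := Subgroup.map_subtype_le _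
    have h2 : K ≤ Subgroup.normalizer ((D'.map K.subtype : Subgroup L) : Set L) := by
      have h3 := Subgroup.le_normalizer_map (H := D') K.subtype
      have h4 : Subgroup.normalizer (D' : Set K) = ⊤ := Subgroup.normalizer_eq_top_iff.2 hD'n
      rw [h4] at h3
      intro k hk
      exact h3 ⟨⟨k, hk⟩, Subgroup.mem_top _, rfl⟩
    have h3 : ∀ d ∈ D'.map K.subtype, ∃ k : ℕ, d ^ (p ^ k) ∈ Subgroup.centralizer (W : Set L) := by
      rintro _ ⟨d, hd, rfl⟩
      obtain ⟨k, hk⟩ := hD'p d hd
      refine ⟨k, ?_⟩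
      rw [Subgroup.mem_centralizer_iff]
      intro w hw
      have := (Subgroup.mem_centralizer_iff.1 hk) ⟨w, hWK hw⟩ (Subgroup.mem_subgroupOf.2 hw)
      simpa using congrArg Subtype.val this
    have h4 := hD _ h1 h2 h3
    intro d hd
    rw [Subgroup.mem_centralizer_iff]
    intro x hx
    apply Subtype.ext
    exact (Subgroup.mem_centralizer_iff.1 (h4 ⟨d, hd, rfl⟩)) x (Subgroup.mem_subgroupOf.1 hx)

theorem rel_of_isPReducedNormal_top (V : Subgroup L) (hV : IsPReducedNormal p V) :
    RelPReduced p ⊤ V := by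
  obtain ⟨hVn, hVe, hCn, hcore⟩ := hV
  refine ⟨le_top, ?_, ?_, hVe.2, ?_⟩
  · rw [Subgroup.normalizer_eq_top_iff.2 hVn]
  · intro a ha b hb
    exact congrArg Subtype.val (hVe.1.is_comm.comm (⟨a, ha⟩ : V) ⟨b, hb⟩)
  · intro D _ hDn hDp
    haveI := hCn
    have hDn' : D.Normal := Subgroup.normalizer_eq_top_iff.1 (top_le_iff.1 hDn)
    exact le_of_pCore_quotient_eq_bot _ hcore D hDn' hDp

/-- In a finite group `G` with `O_p(G/N) = 1`, a normal subgroup `D` of a normal subgroup `H` of `G`
whose elements have `p`-power order modulo `N` lies in `N`. -/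
theorem le_of_subnormal_of_pCore_quotient_eq_bot {G : Type*} [Group G] [Finite G] [Fact p.Prime]
    (N : Subgroup G) [N.Normal] (h : pCore p (G ⧸ N) = ⊥) (H : Subgroup G) (hH : H.Normal)
    (D : Subgroup G) (hDH : D ≤ H) (hHD : H ≤ Subgroup.normalizer (D : Set G))
    (hp : ∀ d ∈ D, ∃ k : ℕ, d ^ (p ^ k) ∈ N) : D ≤ N := by
  have hHbn : (H.map (QuotientGroup.mk' N)).Normal := hH.map _ (QuotientGroup.mk'_surjective N)
  have hDbH : D.map (QuotientGroup.mk' N) ≤ H.map (QuotientGroup.mk' N) := Subgroup.map_mono hDH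
  have hDbp : IsPGroup p (D.map (QuotientGroup.mk' N)) := by
    rintro ⟨_, d, hd, rfl⟩
    obtain ⟨k, hk⟩ := hp d hd
    refine ⟨k, Subtype.ext ?_⟩
    show (QuotientGroup.mk' N d) ^ (p ^ k) = 1
    rw [← map_pow]
    exact (QuotientGroup.eq_one_iff _).2 hk
  have hHbD : H.map (QuotientGroup.mk' N) ≤
      Subgroup.normalizer ((D.map (QuotientGroup.mk' N) : Subgroup (G ⧸ N)) : Set (G ⧸ N)) :=
    (Subgroup.map_mono hHD).trans (Subgroup.le_normalizer_map _)
  -- the image of `O_p` of the image of `H`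
  have hP₀ : IsPGroup p ((pCore p ↥(H.map (QuotientGroup.mk' N))).map (H.map (QuotientGroup.mk' N)).subtype) :=
    (pCore_isPGroup).map _
  have hJle : Subgroup.normalClosure ((D.map (QuotientGroup.mk' N) : Subgroup (G ⧸ N)) : Set (G ⧸ N)) ≤
      (pCore p ↥(H.map (QuotientGroup.mk' N))).map (H.map (QuotientGroup.mk' N)).subtype := by
    unfold Subgroup.normalClosure
    rw [Subgroup.closure_le]
    intro b hb
    rw [Group.mem_conjugatesOfSet_iff] at hb
    obtain ⟨a, ha, hab⟩ := hb
    obtain ⟨c, hc⟩ := isConj_iff.1 hab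
    -- `b ∈ E := c D̄ c⁻¹`
    have hbE : b ∈ (D.map (QuotientGroup.mk' N)).map (MulAut.conj c).toMonoidHom := ⟨a, ha, hc⟩
    have hEH : (D.map (QuotientGroup.mk' N)).map (MulAut.conj c).toMonoidHom ≤ H.map (QuotientGroup.mk' N) := by
      rintro _ ⟨y, hy, rfl⟩
      exact hHbn.conj_mem y (hDbH hy) c
    have hHE : H.map (QuotientGroup.mk' N) ≤ Subgroup.normalizer
        (((D.map (QuotientGroup.mk' N)).map (MulAut.conj c).toMonoidHom : Subgroup (G ⧸ N)) : Set (G ⧸ N)) := by
      rw [normalizer_map_conj]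
      have h1 : (H.map (QuotientGroup.mk' N)).map (MulAut.conj c).toMonoidHom = H.map (QuotientGroup.mk' N) := by
        apply map_conj_eq_of_mem_normalizer
        rw [Subgroup.normalizer_eq_top_iff.2 hHbn]; exact Subgroup.mem_top _
      rw [← h1]
      exact Subgroup.map_mono hHbD
    have hEn : (((D.map (QuotientGroup.mk' N)).map (MulAut.conj c).toMonoidHom).subgroupOf
        (H.map (QuotientGroup.mk' N))).Normal :=
      (Subgroup.normal_subgroupOf_iff_le_normalizer hEH).2 hHE
    have hEp : IsPGroup p (((D.map (QuotientGroup.mk' N)).map (MulAut.conj c).toMonoidHom).subgroupOf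
        (H.map (QuotientGroup.mk' N))) := (hDbp.map _).comap_subtype
    have hle := le_pCore _ hEn hEp
    exact ⟨⟨b, hEH hbE⟩, hle (Subgroup.mem_subgroupOf.2 hbE), rfl⟩
  have hJp : IsPGroup p (Subgroup.normalClosure ((D.map (QuotientGroup.mk' N) : Subgroup (G ⧸ N)) : Set (G ⧸ N))) :=
    hP₀.to_le hJle
  have hJ := le_pCore _ Subgroup.normalClosure_normal hJp
  rw [h] at hJ
  intro d hd
  have : QuotientGroup.mk' N d ∈ (⊥ : Subgroup (G ⧸ N)) :=
    hJ (Subgroup.subset_normalClosure ⟨d, hd, rfl⟩)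
  rw [Subgroup.mem_bot] at this
  exact (QuotientGroup.eq_one_iff _).1 this


/-- Relative form: `V` `p`-reduced normal in `K`, `D ⊴ H ⊴ K`, `D` a `p`-group modulo `C(V)`; then `D` centralizes `V`. -/
theorem RelPReduced.le_centralizer_of_subnormal [Finite L] [Fact p.Prime] {K V : Subgroup L}
    (h : RelPReduced p K V) (H : Subgroup L) (hHK : H ≤ K) (hKH : K ≤ Subgroup.normalizer (H : Set L))
    (D : Subgroup L) (hDH : D ≤ H) (hHD : H ≤ Subgroup.normalizer (D : Set L))
    (hp : ∀ d ∈ D, ∃ k : ℕ, d ^ (p ^ k) ∈ Subgroup.centralizer (V : Set L)) :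
    D ≤ Subgroup.centralizer (V : Set L) := by
  have hX := isPReducedNormal_of_rel K V h
  obtain ⟨hVK, hKV, hcomm, hexp, hD⟩ := h
  obtain ⟨hXn, hXe, hCn, hcore⟩ := hX
  haveI := hCn
  have hH'n : (H.subgroupOf K).Normal := (Subgroup.normal_subgroupOf_iff_le_normalizer hHK).2 hKH
  have hD'H' : D.subgroupOf K ≤ H.subgroupOf K := by
    intro x hx
    exact Subgroup.mem_subgroupOf.2 (hDH (Subgroup.mem_subgroupOf.1 hx))
  have hH'D' : H.subgroupOf K ≤ Subgroup.normalizer ((D.subgroupOf K : Subgroup K) : Set K) := by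
    have h1 := Subgroup.le_normalizer_comap (H := D) K.subtype
    intro x hx
    apply h1
    rw [Subgroup.mem_comap]
    exact hHD (Subgroup.mem_subgroupOf.1 hx)
  have hp' : ∀ d ∈ D.subgroupOf K, ∃ k : ℕ,
      d ^ (p ^ k) ∈ Subgroup.centralizer ((V.subgroupOf K : Subgroup K) : Set K) := by
    intro d hd
    obtain ⟨k, hk⟩ := hp (d : L) (Subgroup.mem_subgroupOf.1 hd)
    refine ⟨k, ?_⟩
    rw [Subgroup.mem_centralizer_iff]
    intro x hx
    apply Subtype.ext
    have := (Subgroup.mem_centralizer_iff.1 hk) (x : L) (Subgroup.mem_subgroupOf.1 hx)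
    simpa using this
  have key := le_of_subnormal_of_pCore_quotient_eq_bot _ hcore (H.subgroupOf K) hH'n
    (D.subgroupOf K) hD'H' hH'D' hp'
  intro d hd
  rw [Subgroup.mem_centralizer_iff]
  intro v hv
  have hdK : d ∈ K := hHK (hDH hd)
  have := (Subgroup.mem_centralizer_iff.1 (key (show (⟨d, hdK⟩ : K) ∈ D.subgroupOf K from
    Subgroup.mem_subgroupOf.2 hd))) ⟨v, hVK hv⟩ (Subgroup.mem_subgroupOf.2 hv)
  exact congrArg Subtype.val this

/-- The subgroup generated by the `p'`-elements of `H`, in the ambient group. -/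
def pResGen (p : ℕ) (H : Subgroup L) : Subgroup L :=
  Subgroup.closure {x : L | x ∈ H ∧ (orderOf x).Coprime p}

theorem pResidual_map_subtype (H : Subgroup L) :
    (pResidual p ↥H).map H.subtype = pResGen p H := by
  unfold pResidual pResGen
  rw [MonoidHom.map_closure]
  congr 1
  ext x
  constructor
  · rintro ⟨y, hy, rfl⟩
    refine ⟨y.2, ?_⟩
    have : (orderOf y).Coprime p := hy
    rwa [← Subgroup.orderOf_coe] at this
  · rintro ⟨hx, hc⟩
    refine ⟨⟨x, hx⟩, ?_, rfl⟩
    show (orderOf (⟨x, hx⟩ : H)).Coprime p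
    rw [Subgroup.orderOf_mk]; exact hc

theorem pResGen_le (H : Subgroup L) : pResGen p H ≤ H := by
  unfold pResGen
  rw [Subgroup.closure_le]
  rintro x ⟨hx, -⟩
  exact hx

theorem pResGen_mono {H K : Subgroup L} (h : H ≤ K) : pResGen p H ≤ pResGen p K := by
  unfold pResGen
  apply Subgroup.closure_mono
  rintro x ⟨hx, hc⟩
  exact ⟨h hx, hc⟩

theorem pResGen_map_conj [Finite L] (H : Subgroup L) (k : L) (hk : k ∈ Subgroup.normalizer (H : Set L)) :
    (pResGen p H).map (MulAut.conj k).toMonoidHom = pResGen p H := by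
  have hle : ∀ k : L, k ∈ Subgroup.normalizer (H : Set L) →
      (pResGen p H).map (MulAut.conj k).toMonoidHom ≤ pResGen p H := by
    intro k hk
    unfold pResGen
    rw [MonoidHom.map_closure, Subgroup.closure_le]
    rintro _ ⟨x, ⟨hx, hc⟩, rfl⟩
    apply Subgroup.subset_closure
    refine ⟨conj_mem_of_mem_normalizer H k hk x hx, ?_⟩
    have : orderOf ((MulAut.conj k) x) = orderOf x := MulEquiv.orderOf_eq _ _
    show (orderOf ((MulAut.conj k) x)).Coprime p
    rw [this]; exact hc
  have hn := mem_normalizer_of_map_conj_eq (pResGen p H) k (hle k hk)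
  exact map_conj_eq_of_mem_normalizer _ k hn

/-- The normal step: if `V` is `p`-reduced normal in `K` and `H ⊴ K`, then `[V, O^p(H)]` is
`p`-reduced normal in `H`. -/
theorem RelPReduced.commutator_pResGen [Finite L] [Fact p.Prime] {K V : Subgroup L}
    (h : RelPReduced p K V) (H : Subgroup L) (hHK : H ≤ K) (hKH : K ≤ Subgroup.normalizer (H : Set L)) :
    RelPReduced p H ⁅V, pResGen p H⁆ := by
  have hVK := h.1
  have hKV := h.2.1
  have hcomm := h.2.2.1
  have hexp := h.2.2.2.1
  have hRH : pResGen p H ≤ H := pResGen_le H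
  have hWV : ⁅V, pResGen p H⁆ ≤ V := by
    rw [Subgroup.commutator_le]
    intro v hv r hr
    have hrN : r ∈ Subgroup.normalizer (V : Set L) := hKV (hHK (hRH hr))
    have h1 : r * v⁻¹ * r⁻¹ ∈ V := conj_mem_of_mem_normalizer V r hrN _ (V.inv_mem hv)
    have e : ⁅v, r⁆ = v * (r * v⁻¹ * r⁻¹) := by rw [commutatorElement_def]; group
    rw [e]; exact V.mul_mem hv h1
  have hWH : ⁅V, pResGen p H⁆ ≤ H := by
    rw [Subgroup.commutator_le]
    intro v hv r hr
    have hvN : v ∈ Subgroup.normalizer (H : Set L) := hKH (hVK hv)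
    have h1 : v * r * v⁻¹ ∈ H := conj_mem_of_mem_normalizer H v hvN _ (hRH hr)
    rw [commutatorElement_def]
    exact H.mul_mem h1 (H.inv_mem (hRH hr))
  have hHW : H ≤ Subgroup.normalizer ((⁅V, pResGen p H⁆ : Subgroup L) : Set L) := by
    intro x hx
    apply mem_normalizer_of_map_conj_eq
    rw [Subgroup.map_commutator, map_conj_eq_of_mem_normalizer V x (hKV (hHK hx)),
      pResGen_map_conj H x (Subgroup.le_normalizer hx)]
  have hVp : IsPGroup p V := by
    intro v
    refine ⟨1, Subtype.ext ?_⟩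
    simpa using hexp v v.2
  refine ⟨hWH, hHW, fun a ha b hb => hcomm a (hWV ha) b (hWV hb), fun a ha => hexp a (hWV ha), ?_⟩
  intro D hDH hHD hDp
  -- `p'`-elements of `D` centralize `V`
  have h1 : ∀ x ∈ D, (orderOf x).Coprime p → x ∈ Subgroup.centralizer (V : Set L) := by
    intro x hx hc
    have hxR : x ∈ pResGen p H := Subgroup.subset_closure ⟨hDH hx, hc⟩
    obtain ⟨k, hk⟩ := hDp x hx
    have hxW : x ∈ Subgroup.centralizer ((⁅V, pResGen p H⁆ : Subgroup L) : Set L) :=
      mem_of_pow_mem_of_coprime _ x hc k hk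
    have key := centralizes_of_chain V hVp
      (fun i => if i = 0 then V else if i = 1 then ⁅V, pResGen p H⁆ else ⊥) 2
      (by simp) (by simp) ?_ x hc ?_
    · rw [Subgroup.mem_centralizer_iff]
      intro v hv
      exact (key v hv).symm
    · intro i
      by_cases h0 : i = 0
      · simp [h0]
      · by_cases h1 : i = 1
        · simp [h1, hWV]
        · simp [h0, h1]
    · intro i r hr
      by_cases h0 : i = 0
      · subst h0
        simp only [if_true] at hr
        simp only [zero_add, if_true, one_ne_zero, if_false]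
        have e : r⁻¹ * x * r * x⁻¹ = ⁅r⁻¹, x⁆ := by rw [commutatorElement_def]; group
        rw [e]
        exact Subgroup.commutator_mem_commutator (V.inv_mem hr) hxR
      · by_cases h1 : i = 1
        · subst h1
          simp only [one_ne_zero, if_false, if_true] at hr
          have hcomm' := (Subgroup.mem_centralizer_iff.1 hxW) r hr
          have : r⁻¹ * x * r * x⁻¹ = 1 := by
            rw [mul_assoc r⁻¹, ← hcomm']; group
          rw [this]; exact Subgroup.one_mem _
        · simp only [h0, h1, if_false] at hr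
          rw [Subgroup.mem_bot] at hr
          subst hr
          simp
  -- hence `D` is a `p`-group modulo `C(V)`
  have h2 : ∀ d ∈ D, ∃ k : ℕ, d ^ (p ^ k) ∈ Subgroup.centralizer (V : Set L) := by
    intro d hd
    obtain ⟨t, u, ht, hu, hdtu, ⟨k, hk⟩, hup⟩ := exists_p_decomp' p d
    refine ⟨k, ?_⟩
    have htu : Commute t u := by
      obtain ⟨i, rfl⟩ := ht
      obtain ⟨j, rfl⟩ := hu
      exact (Commute.refl d).zpow_zpow i j
    have huD : u ∈ D := (Subgroup.zpowers_le.2 hd) hu
    rw [hdtu, htu.mul_pow, ← hk, pow_orderOf_eq_one, one_mul]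
    exact Subgroup.pow_mem _ (h1 u huD hup) _
  have h3 := h.le_centralizer_of_subnormal H hHK hKH D hDH hHD h2
  exact h3.trans (Subgroup.centralizer_le hWV)


/-- `[V, O^p(K)]` is a `p`-reduced normal subgroup of the subnormal subgroup `K`, for `V` a `p`-reduced
normal subgroup of `L`. -/
theorem relPReduced_commutator_of_isSubnormal [Finite L] [Fact p.Prime] (V : Subgroup L)
    (hV : IsPReducedNormal p V) (K : Subgroup L) (hK : K.IsSubnormal) :
    RelPReduced p K ⁅V, pResGen p K⁆ := by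
  have hVn : V.Normal := hV.1
  have hrel := rel_of_isPReducedNormal_top V hV
  have hVp : IsPGroup p V := by
    intro v
    refine ⟨1, Subtype.ext ?_⟩
    simpa using hrel.2.2.2.1 v v.2
  induction hK with
  | top =>
    exact hrel.commutator_pResGen ⊤ le_rfl (by rw [Subgroup.normalizer_eq_top_iff.2 inferInstance])
  | step H K hHK hKs hN ih =>
    have hKH : K ≤ Subgroup.normalizer (H : Set L) := (Subgroup.normal_subgroupOf_iff_le_normalizer hHK).1 hN
    have h1 := ih.commutator_pResGen H hHK hKH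
    have heq : ⁅⁅V, pResGen p K⁆, pResGen p H⁆ = ⁅V, pResGen p H⁆ := by
      apply le_antisymm
      · apply Subgroup.commutator_mono _ le_rfl
        rw [Subgroup.commutator_le]
        intro v hv r hr
        have h2 : r * v⁻¹ * r⁻¹ ∈ V := hVn.conj_mem _ (V.inv_mem hv) r
        have e : ⁅v, r⁆ = v * (r * v⁻¹ * r⁻¹) := by rw [commutatorElement_def]; group
        rw [e]; exact V.mul_mem hv h2
      · have hC := commutator_le_commutator_commutator V hVp hrel.2.2.1
          {x : L | x ∈ H ∧ (orderOf x).Coprime p} (by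
            rintro s ⟨-, hs⟩
            refine ⟨?_, hs⟩
            rw [Subgroup.normalizer_eq_top_iff.2 hVn]; exact Subgroup.mem_top _)
        refine hC.trans ?_
        exact Subgroup.commutator_mono (Subgroup.commutator_mono le_rfl (pResGen_mono hHK)) le_rfl
    rw [heq] at h1
    exact h1

end Cfsg.Agent.Lib.Helper16
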