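import Mathlib
import Cfsg.Agent.Lib.Helper16.G168Max2
import Cfsg.Agent.Lib.Helper16.FieldAutGU
import Cfsg.Agent.Lib.Helper6.Unitary

/-!
# An embedding of the simple group of order 168 into `PSU(3,3)` (helper16)
-/

set_option autoImplicit false
set_option linter.unusedVariables false
set_option linter.style.haveILetI false

namespace Cfsg.Agent.Lib.Helper16.G168

instance fact3 : Fact (Nat.Prime 3) := ⟨by norm_num⟩

instance factIrred9 : Fact (∀ r : ZMod 3, r ^ 2 ≠ 2 + 0 * r) := ⟨by decide⟩

/-- the field with nine elements, as `F₃[i]` -/
abbrev K9 := QuadraticAlgebra (ZMod 3) 2 0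

instance : Fintype K9 := Fintype.ofEquiv _ (QuadraticAlgebra.equivProd (2 : ZMod 3) 0).symm

theorem card_K9 : Fintype.card K9 = 9 := by
  rw [Fintype.card_congr (QuadraticAlgebra.equivProd (2 : ZMod 3) 0), Fintype.card_prod, ZMod.card]

/-- a function which is multiplicative against a generating set is a homomorphism -/
theorem hom_of_gens {G X : Type*} [Group G] [Group X] (ψ : G → X) (h1 : ψ 1 = 1) (T : Set G)
    (hT : Subgroup.closure T = ⊤) (h : ∀ t ∈ T, ∀ g, ψ (g * t) = ψ g * ψ t) :
    ∀ g k, ψ (g * k) = ψ g * ψ k := by
  let S : Subgroup G :=
    { carrier := {k | ∀ g, ψ (g * k) = ψ g * ψ k}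
      one_mem' := by
        intro g
        rw [mul_one, h1, mul_one]
      mul_mem' := by
        intro k k' hk hk' g
        have e1 : ψ (g * (k * k')) = ψ g * ψ k * ψ k' := by
          rw [← mul_assoc, hk' (g * k), hk g]
        have e2 : ψ (k * k') = ψ k * ψ k' := hk' k
        rw [e1, e2, mul_assoc]
      inv_mem' := by
        intro k hk
        have key : ∀ g, ψ (g * k⁻¹) = ψ g * (ψ k)⁻¹ := by
          intro g
          have := hk (g * k⁻¹)
          rw [inv_mul_cancel_right] at this
          rw [this, mul_inv_cancel_right]
        have hinv : ψ k⁻¹ = (ψ k)⁻¹ := by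
          have := key 1
          rwa [one_mul, h1, one_mul] at this
        intro g
        rw [key g, hinv] }
  have hS : S = ⊤ := by
    rw [eq_top_iff, ← hT, Subgroup.closure_le]
    exact fun t ht => h t ht
  intro g k
  have hk : k ∈ S := by rw [hS]; exact Subgroup.mem_top k
  exact hk g

theorem index_ge_seven (H : Subgroup M168) (hHtop : H ≠ ⊤) : 7 ≤ H.index := by
  have hidx := Cfsg.Agent.Lib.Helper7.card_dvd_factorial_index_of_simple H hHtop
  rw [card_M168'] at hidx
  by_contra hlt
  push Not at hlt
  have h1 : (H.index).factorial ∣ (6).factorial := Nat.factorial_dvd_factorial (by omega)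
  have h2 := hidx.trans h1
  revert h2
  decide

/-- a generator of order 2 -/
def ga : M168 := ⟨84, by decide⟩

/-- a generator of order 3 -/
def gb : M168 := ⟨174, by decide⟩

set_option maxRecDepth 100000 in
theorem gens_fact : ga * ga = 1 ∧ ga ≠ 1 ∧ gb * gb * gb = 1 ∧ gb ≠ 1 ∧
    (ga * gb) * (ga * gb) * (ga * gb) * (ga * gb) * (ga * gb) * (ga * gb) * (ga * gb) = 1 ∧
    ga * gb ≠ 1 := by decide +kernel

theorem closure_gens : Subgroup.closure ({ga, gb} : Set M168) = ⊤ := by
  by_contra hne
  have h7 := index_ge_seven _ hne
  have hci : Nat.card ↥(Subgroup.closure ({ga, gb} : Set M168)) *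
      (Subgroup.closure ({ga, gb} : Set M168)).index = 168 := by
    rw [Subgroup.card_mul_index, card_M168']
  have hle : Nat.card ↥(Subgroup.closure ({ga, gb} : Set M168)) ≤ 24 := by nlinarith
  haveI : Fact (Nat.Prime 2) := ⟨Nat.prime_two⟩
  haveI : Fact (Nat.Prime 7) := ⟨by norm_num⟩
  have ha : ga ∈ Subgroup.closure ({ga, gb} : Set M168) :=
    Subgroup.subset_closure (Set.mem_insert _ _)
  have hb : gb ∈ Subgroup.closure ({ga, gb} : Set M168) :=
    Subgroup.subset_closure (Set.mem_insert_of_mem _ rfl)
  have o2 : orderOf ga = 2 := orderOf_eq_prime (by rw [pow_two]; exact gens_fact.1) gens_fact.2.1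
  have o3 : orderOf gb = 3 :=
    orderOf_eq_prime (by rw [pow3]; exact gens_fact.2.2.1) gens_fact.2.2.2.1
  have o7 : orderOf (ga * gb) = 7 :=
    orderOf_eq_prime (by rw [pow7]; exact gens_fact.2.2.2.2.1) gens_fact.2.2.2.2.2
  have d2 := Subgroup.orderOf_dvd_natCard _ ha
  have d3 := Subgroup.orderOf_dvd_natCard _ hb
  have d7 := Subgroup.orderOf_dvd_natCard _ (Subgroup.mul_mem _ ha hb)
  rw [o2] at d2
  rw [o3] at d3
  rw [o7] at d7
  have d6 : 6 ∣ Nat.card ↥(Subgroup.closure ({ga, gb} : Set M168)) :=
    Nat.Coprime.mul_dvd_of_dvd_of_dvd (by norm_num : Nat.Coprime 2 3) d2 d3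
  have d42 : 42 ∣ Nat.card ↥(Subgroup.closure ({ga, gb} : Set M168)) :=
    Nat.Coprime.mul_dvd_of_dvd_of_dvd (by norm_num : Nat.Coprime 6 7) d6 d7
  have := Nat.le_of_dvd Nat.card_pos d42
  omega

/-- the table of the 168 matrices, 29 bits per code -/
def psiBig : ℕ :=
  452574648356639861562557664028167005974656486743011428954123056223290262572928868963341955415731613942212658532528968725050163316054777104339746482821898431682898011408429167314531021053937928445584942975911840283288889109394063330604888227346387131750571976496876176522971344088914471363900467593865821954588483424433426022337958052301012791513750509239884839393041151167665631065075345590582211252480118719414905352941874897124999377364109240955826462565142929660365800393536300532972703121741887699977270335821008516744039679027346813903348952617121139338223618394643951506420668378239621690901973795823094558339936532693817796007614665675650026897215164446288709465009093303508886957076138514864499809914981935229721912785559371441654578118841593302309986381057434133199918720934076377985509180693059793853761368106021417871873737013725571339311357152071605112183264148138213044403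6552023810747881514050738149810519194572996623984659742544328741575319532826650647185857664815882842799198273134039151061345564427367974726556627558403156570831921298139323583384774651359796213759988475230265789265812686249682832146565214974845916918513272353856230128690480897085077123634118398899157067563895964294097658907303837748033454620805692971005571800241233412868219733822631248757528522723645486433463618488887586524345832338838496647738208469899409859631667576338964402862110517836358411334187007806594558974355427492951722230965891104443771876958258957781680338485085429285134756614401209073844236110264932615794807417101499862587439729076857992780649735526863282152342226220098337199898579967678163748915190718780159736870277970425077335218691706339738683497160781442530255010717325690702493116258304211225642937160247168173195788234426473631868366642079970642304100551830213672111344379301360793971983131430477457126312832292494002348205470434102810645515534775807000355185963978922265685931083159090818897048375465401423528724894398488352073372723221865095312412897040640933301278883044270920867129559067491133773197439237702495483056485259895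7709789268518309123485894005105622757498180416557552582643112595140134951649183671375860614786058337375223205512962743763901559152356548108242068376110482700744700537550260786101894704426527078199009161512908826370239312916136444753012791679365807443409405846898708542797164469387071477042979667804848580084412564632808409055721346028580925672393926184553641832239483248473623591365607320630620066919096024346503010711139927538771646383680934885616818928823168307718070355236409268072741198535872728575075535081937700323569374754601235886776525330199819561943835497522547605808162556800511509569215286916342105048636367306936331005580567790283634640741194103881542551317900749151836730559862164542211541165894836625778853752853269709489331838189449247749174940848397917328653786581727846663200922178484011828163007193705194989767335340549373320605919351747431673164955154248245763250097326363549316145944299582119914325995075781186637772170409816662602621770347442143571196445267871821911733189803570487195614052736112098470677024528516401912169614125616340233840699816885525836467464439010182294114086444509969763679957700040185327109157038027983437348932300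875111677652176855616504474825436598383191188540013919297441997612436722998893877692191784903728250621699152898873448552360201047442785223382087978357010232806642719505453317116974504701384502439737250999808898006990702217201334214271121644138341583051003421245109149924474638551149234165453214035992170933954543137178955836624217392101378163063011683446490144144845092913604115997474070067585554172825146663924510749267093280680813191254466935552885807640389063930048210582034825499282314244128077049579477258710947941112461540148882261772208213410015162636037002920682806171621930330986374229430518502543228853460607502340576784821607719166562434552385387710630291154975687606124934992083365679571674887192516712402690738194824068904110573478630658614677849352297700345458585529098922531555403078979090637693531142123484188973167093208106664285687119970875689318848594024323853752118140650205066263417432631009810311652697246656918081440225917636720338007506911861805398710143773218189787978914602343943833992116283574052056747731093230234981061758642959134393911183890937286923457847676957389226644585435869535799289998672151526030155227994654277469454966776485540085947695104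

/-- the code of the matrix of the element with code `n` -/
def psiCode (n : ℕ) : ℕ := Nat.land (Nat.shiftRight psiBig (29 * n)) 536870911

/-- base-3 digit -/
def digit (m k : ℕ) : ZMod 3 := ((m / 3 ^ k % 3 : ℕ) : ZMod 3)

/-- the unitary matrix of an element -/
def psiMat (g : M168) : Matrix (Fin 3) (Fin 3) K9 := fun i j =>
  ⟨digit (psiCode g.1) (2 * (3 * i.val + j.val)), digit (psiCode g.1) (2 * (3 * i.val + j.val) + 1)⟩

set_option maxRecDepth 100000 in
theorem psi_det_aux : ∀ g : M168,
    psiMat g 0 0 * psiMat g 1 1 * psiMat g 2 2 - psiMat g 0 0 * psiMat g 1 2 * psiMat g 2 1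
      - psiMat g 0 1 * psiMat g 1 0 * psiMat g 2 2 + psiMat g 0 1 * psiMat g 1 2 * psiMat g 2 0
      + psiMat g 0 2 * psiMat g 1 0 * psiMat g 2 1 - psiMat g 0 2 * psiMat g 1 1 * psiMat g 2 0
      = 1 := by decide +kernel

theorem psi_det (g : M168) : (psiMat g).det = 1 := by
  rw [Matrix.det_fin_three]
  exact psi_det_aux g

set_option maxRecDepth 100000 in
theorem psi_unit : ∀ g : M168, ∀ i j : Fin 3,
    psiMat g 0 i * (psiMat g 0 j) ^ 3 + psiMat g 1 i * (psiMat g 1 j) ^ 3
      + psiMat g 2 i * (psiMat g 2 j) ^ 3 = if i = j then 1 else 0 := by decide +kernel

set_option maxRecDepth 100000 in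
theorem psi_one : psiMat 1 = 1 := by decide +kernel

set_option maxRecDepth 100000 in
theorem psi_gen : ∀ g : M168, psiMat (g * ga) = psiMat g * psiMat ga ∧
    psiMat (g * gb) = psiMat g * psiMat gb := by decide +kernel

set_option maxRecDepth 100000 in
theorem psi_noncomm : psiMat (ga * gb) ≠ psiMat (gb * ga) := by decide +kernel

/-- the matrices as elements of `SL(3, 9)` -/
def psi9 (g : M168) : Matrix.SpecialLinearGroup (Fin 3) K9 := ⟨psiMat g, psi_det g⟩

theorem psi9_mul (g k : M168) : psi9 (g * k) = psi9 g * psi9 k := by
  refine hom_of_gens psi9 (Subtype.ext psi_one) {ga, gb} closure_gens ?_ g k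
  intro t ht g
  rcases ht with rfl | ht
  · exact Subtype.ext (psi_gen g).1
  · rw [Set.mem_singleton_iff] at ht
    rw [ht]
    exact Subtype.ext (psi_gen g).2

/-- the embedding into `SL(3, 9)` -/
def psi9Hom : M168 →* Matrix.SpecialLinearGroup (Fin 3) K9 where
  toFun := psi9
  map_one' := Subtype.ext psi_one
  map_mul' := psi9_mul

section
variable {F : Type*} [Field F] [Fintype F]

/-- the isomorphism of the concrete field with nine elements with a given one -/
noncomputable def rho (hF : Fintype.card F = 9) : K9 →+* F :=
  (FiniteField.ringEquivOfCardEq (by rw [card_K9, hF]) : K9 ≃+* F).toRingHom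

/-- the embedding into `SL(3, F)` -/
noncomputable def PsiF (hF : Fintype.card F = 9) :
    M168 →* Matrix.SpecialLinearGroup (Fin 3) F :=
  (Matrix.SpecialLinearGroup.map (rho hF)).comp psi9Hom

theorem PsiF_coe (hF : Fintype.card F = 9) (g : M168) :
    ((PsiF hF g : Matrix.SpecialLinearGroup (Fin 3) F) : Matrix (Fin 3) (Fin 3) F) =
      (psiMat g).map (rho hF) := rfl

theorem PsiF_mem_SU (hF : Fintype.card F = 9) (g : M168) : PsiF hF g ∈ Cfsg.SU 3 F 3 := by
  have hF' : Fintype.card F = 3 ^ 2 := by rw [hF]; norm_num
  show ∀ x y, Cfsg.hermForm 3 F 3
      (Matrix.mulVec ((PsiF hF g : Matrix.SpecialLinearGroup (Fin 3) F) :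
        Matrix (Fin 3) (Fin 3) F) x)
      (Matrix.mulVec ((PsiF hF g : Matrix.SpecialLinearGroup (Fin 3) F) :
        Matrix (Fin 3) (Fin 3) F) y) =
      Cfsg.hermForm 3 F 3 x y
  rw [Cfsg.Agent.Lib.Helper16.pres_iff hF', PsiF_coe]
  ext i j
  rw [Matrix.mul_apply, Fin.sum_univ_three]
  simp only [Matrix.transpose_apply, Matrix.map_apply, Cfsg.Agent.Lib.Helper6.conjQ_apply]
  rw [← map_pow, ← map_pow, ← map_pow, ← map_mul, ← map_mul, ← map_mul, ← map_add, ← map_add,
    psi_unit g i j, Matrix.one_apply]
  split_ifs
  · exact map_one _
  · exact map_zero _

/-- the embedding into `SU(3, 3)` -/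
noncomputable def PsiSU (hF : Fintype.card F = 9) : M168 →* ↥(Cfsg.SU 3 F 3) :=
  (PsiF hF).codRestrict (Cfsg.SU 3 F 3) (PsiF_mem_SU hF)

/-- the embedding into `PSU(3, 3)` -/
noncomputable def PsiP (hF : Fintype.card F = 9) : M168 →* Cfsg.PSU 3 F 3 :=
  (QuotientGroup.mk' (Subgroup.center ↥(Cfsg.SU 3 F 3))).comp (PsiSU hF)

theorem PsiP_injective (hF : Fintype.card F = 9) : Function.Injective (PsiP hF) := by
  rw [← MonoidHom.ker_eq_bot_iff]
  rcases (MonoidHom.normal_ker (PsiP hF)).eq_bot_or_eq_top with h | h
  · exact h
  · exfalso
    have ha : ga ∈ (PsiP hF).ker := by rw [h]; exact Subgroup.mem_top _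
    rw [MonoidHom.mem_ker] at ha
    have hc : PsiSU hF ga ∈ Subgroup.center ↥(Cfsg.SU 3 F 3) := by
      have : ((PsiSU hF ga : ↥(Cfsg.SU 3 F 3)) : Cfsg.PSU 3 F 3) = 1 := ha
      exact (QuotientGroup.eq_one_iff _).mp this
    have hcomm : PsiSU hF gb * PsiSU hF ga = PsiSU hF ga * PsiSU hF gb :=
      Subgroup.mem_center_iff.mp hc (PsiSU hF gb)
    rw [← map_mul, ← map_mul] at hcomm
    have h1 : PsiF hF (gb * ga) = PsiF hF (ga * gb) := congrArg Subtype.val hcomm
    have h2 : (psiMat (gb * ga)).map (rho hF) = (psiMat (ga * gb)).map (rho hF) := by
      rw [← PsiF_coe, ← PsiF_coe, h1]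
    have h3 := Matrix.map_injective (RingHom.injective (rho hF)) h2
    exact psi_noncomm h3.symm

/-- `PSU(3,3)` contains a copy of the simple group of order 168 -/
theorem exists_subgroup_PSU33 (hF : Fintype.card F = 9) :
    ∃ H : Subgroup (Cfsg.PSU 3 F 3), Nonempty (↥H ≃* M168) :=
  ⟨(PsiP hF).range, ⟨(MonoidHom.ofInjective (PsiP_injective hF)).symm⟩⟩

end

end Cfsg.Agent.Lib.Helper16.G168
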