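import Mathlib
import Cfsg.Agent.Lib.Helper9.ClassGraph1

/-!
S4321 piece [C3] (helper16): the `p`-part of a `p`-singular element is a nontrivial `p`-element
whose class size divides that of the element.
-/

set_option autoImplicit false

namespace Cfsg.Agent.Lib.Helper24.PSing

open Subgroup
open Cfsg.Agent.Lib.Helper9.ClassGraph

variable {G : Type*} [Group G]

/-- [C3] the `p`-part of a `p`-singular element -/
theorem exists_pElt_of_sing [Finite G] (p : ℕ) [Fact p.Prime] {x : G} (hx : p ∣ orderOf x) :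
    ∃ a : G, a ≠ 1 ∧ (∃ k : ℕ, orderOf a = p ^ k) ∧ cs a ∣ cs x := by
  have hp : p.Prime := Fact.out
  set n := orderOf x with hn
  have hn0 : n ≠ 0 := (orderOf_pos x).ne'
  set k := n.factorization p with hk
  set m := n / p ^ k with hm
  have hmul : p ^ k * m = n := Nat.ordProj_mul_ordCompl_eq_self n p
  have hk1 : 1 ≤ k := (hp.dvd_iff_one_le_factorization hn0).mp hx
  have hm0 : m ≠ 0 := by
    intro h; rw [h, mul_zero] at hmul; exact hn0 hmul.symm
  have hmdvd : m ∣ orderOf x := ⟨p ^ k, by rw [← hn, ← hmul, mul_comm]⟩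
  have hord : orderOf (x ^ m) = p ^ k := by
    rw [orderOf_pow_of_dvd hm0 hmdvd, ← hn]
    exact Nat.div_eq_of_eq_mul_left (Nat.pos_of_ne_zero hm0) hmul.symm
  refine ⟨x ^ m, ?_, ⟨k, hord⟩, cs_pow_dvd x m⟩
  intro h1
  rw [h1, orderOf_one] at hord
  have : 1 < p ^ k := Nat.one_lt_pow (by omega) hp.one_lt
  omega

end Cfsg.Agent.Lib.Helper24.PSing
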