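import Mathlib
import Cfsg.Prelude.Def_RootSubgroups
import Cfsg.Agent.H26.RootInv2
import Cfsg.Agent.Lib.Helper12.Diamond.Main
import Cfsg.Agent.Lib.Helper2.RedPART
import Cfsg.Agent.Lib.Helper4.RedCONJ

/-!
# S5047 (root involutions, Timmesfeld (2.4)): core argument

`a ∈ D`, `b ∈ X_a ∖ E_a`.  With S5046 (as the hypothesis `h46`) there is `x₀ ∈ A_a ∖ A_b`, which gives a
configuration `Cfg D a b x₀`; helper12's `Diamond.exists_swap` yields `y ∈ D` with `o(a y) = 4`, `y b = b y`,
`y a y = a b` (`swap_of_not_same`).  Then `y ∈ X_b ∖ E_b`, and the same step for `(b, y)` gives `x ∈ V_b`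
with `x y = y x`, `x b x = b y`.  Now `ρ = a x` permutes `b → b y → y → b` by conjugation, which forces
`o(a x) = 3` (`orderOf_eq_three_of_swaps`).
-/

set_option autoImplicit false

namespace Cfsg.Agent.Lib.Helper16.RootInvSwap

open Cfsg Cfsg.Agent.H26 Cfsg.Agent.Lib.Helper12.Diamond Cfsg.Agent.Lib.Helper3.Red

variable {G : Type*} [Group G] {D : Set G}

/-- `b ∈ X_a ∖ E_a` ⇒ there is `y ∈ D` with `o(a y) = 4`, `y b = b y`, `y a y = a b`. -/
theorem swap_of_not_same [Finite G] (hD : IsRootInvolutionSet D)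
    (hcard : ∀ a ∈ D, ∀ b ∈ D, (oddPartners D a).ncard = (oddPartners D b).ncard)
    (h46 : ∀ d ∈ D, sameCommutingClass D d =
      {e | e ∈ D ∧ commutingMembers D d ∪ fourPartners D d =
        commutingMembers D e ∪ fourPartners D e})
    {a b : G} (ha : a ∈ D) (hb : b ∈ D) (hab : a * b = b * a) (habD : a * b ∈ D)
    (hbE : b ∉ sameCommutingClass D a) :
    ∃ y ∈ D, orderOf (a * y) = 4 ∧ y * b = b * y ∧ y * a * y = a * b := by
  have hne : oddPartners D a ≠ oddPartners D b := by
    intro h
    apply hbE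
    rw [h46 a ha]
    exact ⟨hb, (union_eq_iff hD ha hb).mpr h⟩
  have hex : ∃ x ∈ oddPartners D a, x ∉ oddPartners D b := by
    by_contra hall
    have hsub : oddPartners D a ⊆ oddPartners D b :=
      fun x hx => by_contra (fun hxb => hall ⟨x, hx, hxb⟩)
    exact hne (Set.eq_of_subset_of_ncard_le hsub (hcard b hb a ha).le (Set.toFinite _))
  obtain ⟨x, ⟨hxD, hxne, hxodd⟩, hxb⟩ := hex
  have hbaD : b * a ∈ D := by rw [← hab]; exact habD
  have hncomm : b * x ≠ x * b := by
    intro hcomm
    exact hxne (ri_L1 hD hb ha hbaD hab.symm hxD hcomm hxodd).symm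
  have hcp : orderOf (b * x) = 4 := by
    rcases ri_odd_or_four hD hb hxD hncomm with ho | h4
    · exfalso
      apply hxb
      refine ⟨hxD, ?_, ho⟩
      rintro rfl
      exact hncomm rfl
    · exact h4
  have hzcp : Odd (orderOf (a * b * x)) := by
    have hadj : OddAdj D a x := ⟨ha, hxD, fun h => hxne h.symm, hxodd⟩
    rcases ri_line_odd hD hb ha hbaD hab.symm hadj with h1 | h1
    · exfalso
      obtain ⟨-, -, -, ho⟩ := h1
      rw [orderOf_mul_comm_eq, hcp] at ho
      exact (by decide : ¬ Odd 4) ho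
    · obtain ⟨-, -, -, ho⟩ := h1
      rw [orderOf_mul_comm_eq, ← hab] at ho
      exact ho
  have hcfg : Cfg D a b x :=
    ⟨hD, ha, hb, hxD, hab, habD, hxodd, hcp, hzcp⟩
  exact exists_swap hcfg

/-- pure group theory + (P1): the two swaps force `o(a x) = 3`. -/
theorem orderOf_eq_three_of_swaps (hD : IsRootInvolutionSet D) {a b y x : G} (ha : a ∈ D)
    (hb : b ∈ D) (hy : y ∈ D) (hx : x ∈ D) (hab : a * b = b * a) (habD : a * b ∈ D)
    (hay4 : orderOf (a * y) = 4) (hyay : y * a * y = a * b)
    (hxy : x * y = y * x) (hxbx : x * b * x = b * y) : orderOf (a * x) = 3 := by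
  have a2 := ri_mul_self hD ha
  have b2 := ri_mul_self hD hb
  have y2 := ri_mul_self hD hy
  have x2 := ri_mul_self hD hx
  have hbaD : b * a ∈ D := by rw [← hab]; exact habD
  have hy1 : y ≠ 1 := ri_ne_one hD hy
  -- `a y a = b y`
  have haya : a * y * a = b * y := by
    calc a * y * a = a * y * a * (y * y) := by rw [y2, mul_one]
      _ = a * (y * a * y) * y := by group
      _ = a * (a * b) * y := by rw [hyay]
      _ = (a * a) * b * y := by group
      _ = b * y := by rw [a2, one_mul]
  -- `a` and `y` do not commute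
  have hay_nc : a * y ≠ y * a := by
    intro hc
    have h2 : (a * y) ^ 2 = 1 := ri_sq_of_comm hD ha hy hc
    have := orderOf_dvd_of_pow_eq_one h2
    rw [hay4] at this
    omega
  -- the three conjugation relations for `ρ = a x`
  have h1 : b * (a * x) = (a * x) * (b * y) := by
    symm
    calc (a * x) * (b * y) = a * (x * b * (x * x)) * y := by rw [x2, mul_one]; group
      _ = a * (x * b * x) * (x * y) := by group
      _ = a * (b * y) * (y * x) := by rw [hxbx, hxy]
      _ = a * b * (y * y) * x := by group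
      _ = a * b * x := by rw [y2, mul_one]
      _ = b * a * x := by rw [hab]
      _ = b * (a * x) := by group
  have h2 : (b * y) * (a * x) = (a * x) * y := by
    calc (b * y) * (a * x) = (a * y * a) * (a * x) := by rw [haya]
      _ = a * y * (a * a) * x := by group
      _ = a * y * x := by rw [a2, mul_one]
      _ = a * (y * x) := by group
      _ = a * (x * y) := by rw [hxy]
      _ = (a * x) * y := by group
  have h3 : y * (a * x) = (a * x) * b := by
    calc y * (a * x) = y * a * (y * y) * x := by rw [y2, mul_one]; group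
      _ = (y * a * y) * (y * x) := by group
      _ = (a * b) * (y * x) := by rw [hyay]
      _ = a * (b * y) * x := by group
      _ = a * (x * b * x) * x := by rw [hxbx]
      _ = a * x * b * (x * x) := by group
      _ = a * x * b := by rw [x2, mul_one]
  -- `x₃ = a ρ³ ∈ D`
  have hx3D : a * (a * x) ^ 3 ∈ D := by
    have h := hD.conj_mem x hx (x * a)
    have he : x * a * x * (x * a)⁻¹ = a * (a * x) ^ 3 := by
      calc x * a * x * (x * a)⁻¹ = x * a * x * (a⁻¹ * x⁻¹) := by group
        _ = x * a * x * (a * x) := by rw [ri_inv hD ha, ri_inv hD hx]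
        _ = (a * a) * (x * a * x * (a * x)) := by rw [a2, one_mul]
        _ = a * (a * x) ^ 3 := by simp only [pow_succ, pow_zero, one_mul]; group
    rwa [he] at h
  generalize hρ : a * x = ρ at h1 h2 h3 hx3D
  -- `ρ³` commutes with `b`
  have hcube : b * ρ ^ 3 = ρ ^ 3 * b := by
    calc b * ρ ^ 3 = (b * ρ) * ρ * ρ := by simp only [pow_succ, pow_zero, one_mul]; group
      _ = ρ * ((b * y) * ρ) * ρ := by rw [h1]; group
      _ = ρ * ρ * (y * ρ) := by rw [h2]; group
      _ = ρ ^ 3 * b := by rw [h3]; simp only [pow_succ, pow_zero, one_mul]; group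
  -- `ρ ≠ 1`
  have hρ1 : ρ ≠ 1 := by
    rintro rfl
    rw [one_mul, mul_one] at h1
    have : y = 1 := by
      have := congrArg (fun t => b * t) h1
      simpa [← mul_assoc, b2] using this.symm
    exact hy1 this
  -- the three cases for the pair `a, x`
  rcases hD.pair a ha x hx with hc | ho | ⟨h4, -⟩
  · -- commuting: `ρ² = 1`, so `b = y`
    exfalso
    have hsq : (a * x) ^ 2 = 1 := ri_sq_of_comm hD ha hx hc
    rw [hρ] at hsq
    have hby : b = y := by
      have e1 : b * ρ ^ 2 = ρ ^ 2 * y := by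
        calc b * ρ ^ 2 = (b * ρ) * ρ := by simp only [pow_succ, pow_zero, one_mul]; group
          _ = ρ * ((b * y) * ρ) := by rw [h1]; group
          _ = ρ ^ 2 * y := by rw [h2]; simp only [pow_succ, pow_zero, one_mul]; group
      rwa [hsq, mul_one, one_mul] at e1
    apply hay_nc
    rw [← hby]
    exact hab
  · -- odd order: (P1) gives `ρ³ = 1`
    rw [hρ] at ho
    have hcomm3 : b * (a * ρ ^ 3) = (a * ρ ^ 3) * b := by
      calc b * (a * ρ ^ 3) = (b * a) * ρ ^ 3 := by group
        _ = (a * b) * ρ ^ 3 := by rw [hab]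
        _ = a * (b * ρ ^ 3) := by group
        _ = a * (ρ ^ 3 * b) := by rw [hcube]
        _ = (a * ρ ^ 3) * b := by group
    have hodd3 : Odd (orderOf (a * (a * ρ ^ 3))) := by
      have e : a * (a * ρ ^ 3) = ρ ^ 3 := by
        calc a * (a * ρ ^ 3) = (a * a) * ρ ^ 3 := by group
          _ = ρ ^ 3 := by rw [a2, one_mul]
      rw [e]
      exact Odd.of_dvd_nat ho (orderOf_pow_dvd 3)
    have hax3 : a = a * ρ ^ 3 := ri_L1 hD hb ha hbaD hab.symm hx3D hcomm3 hodd3
    have hρ3 : ρ ^ 3 = 1 := by
      have := congrArg (fun t => a * t) hax3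
      simpa [← mul_assoc, a2] using this.symm
    have hdvd : orderOf ρ ∣ 3 := orderOf_dvd_of_pow_eq_one hρ3
    rcases (Nat.dvd_prime Nat.prime_three).mp hdvd with h | h
    · exact absurd (orderOf_eq_one_iff.mp h) hρ1
    · exact h
  · -- order 4: `ρ⁴ = 1` gives `y = 1`
    exfalso
    rw [hρ] at h4
    have hp4 : ρ ^ 4 = 1 := by rw [← h4]; exact pow_orderOf_eq_one ρ
    have e1 : b * ρ ^ 4 = ρ ^ 4 * (b * y) := by
      calc b * ρ ^ 4 = (b * ρ ^ 3) * ρ := by simp only [pow_succ, pow_zero, one_mul]; group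
        _ = ρ ^ 3 * (b * ρ) := by rw [hcube]; group
        _ = ρ ^ 4 * (b * y) := by rw [h1]; simp only [pow_succ, pow_zero, one_mul]; group
    rw [hp4, mul_one, one_mul] at e1
    have : y = 1 := by
      have := congrArg (fun t => b * t) e1
      simpa [← mul_assoc, b2] using this.symm
    exact hy1 this

/-- S5047 from S5046 (as hypothesis `h46`) and equal sizes of the `A_a`. -/
theorem exists_four_partner_order_three [Finite G] (hD : IsRootInvolutionSet D)
    (hcard : ∀ a ∈ D, ∀ b ∈ D, (oddPartners D a).ncard = (oddPartners D b).ncard)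
    (h46 : ∀ d ∈ D, sameCommutingClass D d =
      {e | e ∈ D ∧ commutingMembers D d ∪ fourPartners D d =
        commutingMembers D e ∪ fourPartners D e})
    {a b : G} (ha : a ∈ D) (hb : b ∈ productPartners D a)
    (hbE : b ∉ sameCommutingClass D a) : ∃ x ∈ fourPartners D b, orderOf (a * x) = 3 := by
  obtain ⟨⟨hbD, hba, -⟩, hbaD⟩ := hb
  have hab : a * b = b * a := hba.symm
  have habD : a * b ∈ D := by rw [hab]; exact hbaD
  obtain ⟨y, hyD, hay4, hyb, hyay⟩ := swap_of_not_same hD hcard h46 ha hbD hab habD hbE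
  have a2 := ri_mul_self hD ha
  have y2 := ri_mul_self hD hyD
  -- `b y = a y a ∈ D`
  have haya : a * y * a = b * y := by
    calc a * y * a = a * y * a * (y * y) := by rw [y2, mul_one]
      _ = a * (y * a * y) * y := by group
      _ = a * (a * b) * y := by rw [hyay]
      _ = (a * a) * b * y := by group
      _ = b * y := by rw [a2, one_mul]
  have hbyD : b * y ∈ D := by
    rw [← haya]
    exact ri_conj' hD hyD ha
  have hay_nc : a * y ≠ y * a := by
    intro hc
    have h2 : (a * y) ^ 2 = 1 := ri_sq_of_comm hD ha hyD hc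
    have := orderOf_dvd_of_pow_eq_one h2
    rw [hay4] at this
    omega
  have hyE : y ∉ sameCommutingClass D b := by
    rintro ⟨-, hC⟩
    have hmem : a ∈ commutingMembers D b := ⟨ha, hab⟩
    rw [hC] at hmem
    exact hay_nc hmem.2
  obtain ⟨x, hxD, hbx4, hxy, hxbx⟩ :=
    swap_of_not_same hD hcard h46 hbD hyD hyb.symm hbyD hyE
  exact ⟨x, ⟨hxD, hbx4⟩,
    orderOf_eq_three_of_swaps hD ha hbD hyD hxD hab habD hay4 hyay hxy hxbx⟩

end Cfsg.Agent.Lib.Helper16.RootInvSwap
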