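import Mathlib
import Cfsg.Agent.Lib.Helper16.S1237FOA

/-!
# S1237 piece FO-C3: `cube_of_comm`
-/

set_option autoImplicit false
set_option linter.unusedSectionVars false

namespace Cfsg.Agent.Lib.Helper16.S1237FOC3

open Subgroup Cfsg.Agent.Lib.Helper16.S1237 Cfsg.Agent.Lib.Helper16.S1237FOA

universe u

variable {T : Type u} [Group T] [Finite T] {ρ : MulAut T}

theorem cube_step (H : Hyp ρ) (x n : T) (hx : ρ (ρ (ρ x)) = x * n) (hn : ρ (ρ (ρ n)) = n)
    (hn2 : n * n = 1) : n = 1 := by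
  obtain ⟨k, hk⟩ := H.pow3
  have hτ : (ρ ^ 3) ^ (3 ^ k) = 1 := by rw [← pow_mul, mul_comm, pow_mul, hk, one_pow]
  have hpow : ∀ j : ℕ, ((ρ ^ 3) ^ j) x = x * n ^ j := by
    intro j
    induction j with
    | zero => simp
    | succ j ih =>
      rw [pow_succ', MulAut.mul_apply, ih, map_mul, map_pow]
      have e1 : (ρ ^ 3) x = x * n := hx
      have e2 : (ρ ^ 3) n = n := hn
      rw [e1, e2, pow_succ']
      group
  have h1 : n ^ (3 ^ k) = 1 := by
    have := hpow (3 ^ k)
    rw [hτ, MulAut.one_apply] at this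
    have h2 : x * n ^ (3 ^ k) = x * 1 := by rw [mul_one]; exact this.symm
    exact mul_left_cancel h2
  have hodd : Odd (3 ^ k) := Odd.pow (by decide)
  obtain ⟨m, hm⟩ := hodd
  rw [hm, pow_succ, pow_mul, pow_two, hn2, one_pow, one_mul] at h1
  exact h1

/-- **FO-C3**. -/
theorem cube_of_comm (H : Hyp ρ) (A : Subgroup T) (hA : Inv ρ A)
    (hc : ∀ a ∈ A, ∀ b ∈ A, a * b = b * a) : ∀ x ∈ A, ρ (ρ (ρ x)) = x := by
  have key : ∀ i : ℕ, ∀ x ∈ A, x ^ (2 ^ i) = 1 → ρ (ρ (ρ x)) = x := by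
    intro i
    induction i with
    | zero =>
      intro x _ hx
      rw [pow_zero, pow_one] at hx
      rw [hx]; simp
    | succ i ih =>
      intro x hxA hx
      have hy : (x * x) ^ (2 ^ i) = 1 := by
        rw [← pow_two, ← pow_mul, ← pow_succ']; exact hx
      have hyfix := ih (x * x) (mul_mem hxA hxA) hy
      set τx := ρ (ρ (ρ x)) with hτx
      have hτxA : τx ∈ A := hA _ (hA _ (hA _ hxA))
      set n := x⁻¹ * τx with hn
      have hnA : n ∈ A := mul_mem (inv_mem hxA) hτxA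
      have hττ : τx * τx = x * x := by
        rw [hτx, ← map_mul, ← map_mul, ← map_mul]; exact hyfix
      have hn2 : n * n = 1 := by
        have hcomm : τx * x⁻¹ = x⁻¹ * τx := hc _ hτxA _ (inv_mem hxA)
        calc n * n = x⁻¹ * (τx * x⁻¹) * τx := by rw [hn]; group
          _ = x⁻¹ * (x⁻¹ * τx) * τx := by rw [hcomm]
          _ = x⁻¹ * x⁻¹ * (τx * τx) := by group
          _ = x⁻¹ * x⁻¹ * (x * x) := by rw [hττ]
          _ = 1 := by group
      have hnfix : ρ (ρ (ρ n)) = n := cube_inv H n hn2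
      have hx' : τx = x * n := by rw [hn]; group
      have := cube_step H x n hx' hnfix hn2
      rw [hx', this, mul_one]
  intro x hx
  obtain ⟨r, hr⟩ := (IsPGroup.iff_card (p := 2)).mp H.pg
  exact key r x hx (by rw [← hr]; exact pow_card_eq_one')

end Cfsg.Agent.Lib.Helper16.S1237FOC3
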