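import Mathlib
import Cfsg.Agent.Lib.Helper16.S1237Defs

/-!
# S1237 pieces FO-D (`eq_of_stab`) and FO-E1 (`E_struct`)
-/

set_option autoImplicit false
set_option linter.unusedSectionVars false

namespace Cfsg.Agent.Lib.Helper16.S1237FOE1

open Subgroup Cfsg.Agent.Lib.Helper16.S1237 Cfsg.Agent.Lib.Helper20.Ord64

universe u

variable {T : Type u} [Group T] [Finite T] {ρ : MulAut T}

/-- **FO-D**. -/
theorem eq_of_stab (hT : IsPGroup 2 T) (σ : MulAut T) (hσ : ∃ k : ℕ, σ ^ (3 ^ k) = 1)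
    (N : Subgroup T) (hN : ∀ n ∈ N, σ n = n) (hq : ∀ t : T, t⁻¹ * σ t ∈ N) : ∀ t : T, σ t = t := by
  intro t
  obtain ⟨k, hk⟩ := hσ
  set n := t⁻¹ * σ t with hn
  have hnN : n ∈ N := hq t
  have hσt : σ t = t * n := by rw [hn]; group
  have hpow : ∀ j : ℕ, (σ ^ j) t = t * n ^ j := by
    intro j
    induction j with
    | zero => simp
    | succ j ih =>
      rw [pow_succ', MulAut.mul_apply, ih, map_mul, map_pow, hN n hnN, hσt, pow_succ']
      group
  have h1 : n ^ (3 ^ k) = 1 := by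
    have := hpow (3 ^ k)
    rw [hk, MulAut.one_apply] at this
    have h2 : t * n ^ (3 ^ k) = t * 1 := by rw [mul_one]; exact this.symm
    exact mul_left_cancel h2
  obtain ⟨m, hm⟩ := hT n
  have hn1 : n = 1 := by
    have hd1 : orderOf n ∣ 3 ^ k := orderOf_dvd_of_pow_eq_one h1
    have hd2 : orderOf n ∣ 2 ^ m := orderOf_dvd_of_pow_eq_one hm
    have hcop : Nat.Coprime (3 ^ k) (2 ^ m) := Nat.Coprime.pow _ _ (by norm_num)
    have : orderOf n = 1 := Nat.eq_one_of_dvd_coprimes hcop hd1 hd2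
    exact orderOf_eq_one_iff.mp this
  rw [hσt, hn1, mul_one]

theorem cube_apply (ρ : MulAut T) (t : T) : (ρ ^ 3) t = ρ (ρ (ρ t)) := rfl

theorem cube_pow (H : Hyp ρ) : ∃ k : ℕ, (ρ ^ 3) ^ (3 ^ k) = 1 := by
  obtain ⟨k, hk⟩ := H.pow3
  exact ⟨k, by rw [← pow_mul, mul_comm, pow_mul, hk, one_pow]⟩

/-- the preimage of the centre of `T ⧸ Z` -/
def Z2 (T : Type u) [Group T] : Subgroup T where
  carrier := {t | ∀ s : T, t * s * t⁻¹ * s⁻¹ ∈ center T}
  one_mem' := by
    intro s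
    have : (1 : T) * s * 1⁻¹ * s⁻¹ = 1 := by group
    rw [this]; exact one_mem _
  mul_mem' := by
    intro a b ha hb s
    have h1 := ha s
    have h2 := hb s
    have h2' : ∀ g : T, g * (b * s * b⁻¹ * s⁻¹) = (b * s * b⁻¹ * s⁻¹) * g := mem_center_iff.mp h2
    have : a * b * s * (a * b)⁻¹ * s⁻¹ = (a * s * a⁻¹ * s⁻¹) * (b * s * b⁻¹ * s⁻¹) := by
      calc a * b * s * (a * b)⁻¹ * s⁻¹ = a * (b * s * b⁻¹ * s⁻¹) * (s * a⁻¹ * s⁻¹) := by group
        _ = (b * s * b⁻¹ * s⁻¹) * a * (s * a⁻¹ * s⁻¹) := by rw [h2' a]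
        _ = (b * s * b⁻¹ * s⁻¹) * (a * s * a⁻¹ * s⁻¹) := by group
        _ = (a * s * a⁻¹ * s⁻¹) * (b * s * b⁻¹ * s⁻¹) := by rw [h2' (a * s * a⁻¹ * s⁻¹)]
    rw [this]
    exact mul_mem h1 h2
  inv_mem' := by
    intro a ha s
    have h1 := ha s
    have hci : (a * s * a⁻¹ * s⁻¹)⁻¹ ∈ center T := inv_mem h1
    have e := mem_center_iff.mp hci a⁻¹
    have : a⁻¹ * s * a⁻¹⁻¹ * s⁻¹ = (a * s * a⁻¹ * s⁻¹)⁻¹ := by
      calc a⁻¹ * s * a⁻¹⁻¹ * s⁻¹ = a⁻¹ * (a * s * a⁻¹ * s⁻¹)⁻¹ * a := by group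
        _ = (a * s * a⁻¹ * s⁻¹)⁻¹ * a⁻¹ * a := by rw [e]
        _ = (a * s * a⁻¹ * s⁻¹)⁻¹ := by group
    rw [this]
    exact inv_mem h1

theorem mem_Z2 (t : T) : t ∈ Z2 T ↔ ∀ s : T, t * s * t⁻¹ * s⁻¹ ∈ center T := Iff.rfl

theorem center_le_Z2 : center T ≤ Z2 T := by
  intro z hz s
  have : z * s * z⁻¹ * s⁻¹ = 1 := by
    have := mem_center_iff.mp hz s
    calc z * s * z⁻¹ * s⁻¹ = (z * s) * z⁻¹ * s⁻¹ := by group
      _ = (s * z) * z⁻¹ * s⁻¹ := by rw [this]
      _ = 1 := by group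
  rw [this]; exact one_mem _

theorem Z2_normal : (Z2 T).Normal := by
  refine ⟨fun t ht g s => ?_⟩
  -- conj of t by g: (g t g⁻¹) s (g t g⁻¹)⁻¹ s⁻¹ = g (t (g⁻¹ s g) t⁻¹ (g⁻¹ s g)⁻¹) g⁻¹
  have h1 := ht (g⁻¹ * s * g)
  have : g * t * g⁻¹ * s * (g * t * g⁻¹)⁻¹ * s⁻¹
      = g * (t * (g⁻¹ * s * g) * t⁻¹ * (g⁻¹ * s * g)⁻¹) * g⁻¹ := by group
  rw [this]
  exact (inferInstance : (center T).Normal).conj_mem _ h1 g

theorem Z2_inv (ρ : MulAut T) : Inv ρ (Z2 T) := by
  intro t ht s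
  have h1 := ht (ρ.symm s)
  have h2 := inv_center ρ _ h1
  have : ρ (t * ρ.symm s * t⁻¹ * (ρ.symm s)⁻¹) = ρ t * s * (ρ t)⁻¹ * s⁻¹ := by
    simp only [map_mul, map_inv, MulEquiv.apply_symm_apply]
  rw [this] at h2
  exact h2

/-- **FO-E1**. -/
theorem E_struct (H : Hyp ρ) (hnc : ¬ ∀ a b : T, a * b = b * a)
    (IH : ∀ S : Subgroup T, Inv ρ S → S ≠ ⊤ → ∀ s ∈ S, ρ (ρ (ρ s)) = s)
    (hne : ∃ t : T, ρ (ρ (ρ t)) ≠ t) :
    (∀ t : T, t * t ∈ center T) ∧
      (∀ t : T, t⁻¹ * ρ (ρ (ρ t)) ∈ center T → t ∈ center T) := by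
  classical
  have hτ := cube_pow H
  have hZtop : center T ≠ ⊤ := by
    intro h
    apply hnc
    intro a b
    have ha : a ∈ center T := by rw [h]; exact mem_top _
    exact (mem_center_iff.mp ha b).symm
  -- (1) proper invariant normal subgroups are central
  have step1 : ∀ K : Subgroup T, K.Normal → Inv ρ K → K ≠ ⊤ → K ≤ center T := by
    intro K hKn hKi hKt
    have hKfix := IH K hKi hKt
    set C := centralizer (K : Set T) with hC
    have hCi : Inv ρ C := by
      intro c hc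
      rw [hC, mem_centralizer_iff] at hc ⊢
      intro k hk
      have hk' : ρ.symm k ∈ K := hKi.symm k hk
      have := hc (ρ.symm k) hk'
      have h2 := congrArg ρ this
      simpa using h2
    have hq : ∀ t : T, t⁻¹ * (ρ ^ 3) t ∈ C := by
      intro t
      rw [hC, mem_centralizer_iff]
      intro k hk
      have hk1 : t * k * t⁻¹ ∈ K := hKn.conj_mem k hk t
      have h1 := hKfix _ hk1
      have h2 := hKfix k hk
      rw [cube_apply]
      set τt := ρ (ρ (ρ t)) with hτt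
      have h3 : τt * k * τt⁻¹ = t * k * t⁻¹ := by
        have : ρ (ρ (ρ (t * k * t⁻¹))) = τt * ρ (ρ (ρ k)) * τt⁻¹ := by
          simp only [map_mul, map_inv, hτt]
        rw [this, h2] at h1
        exact h1
      calc k * (t⁻¹ * τt) = t⁻¹ * (t * k * t⁻¹) * τt := by group
        _ = t⁻¹ * (τt * k * τt⁻¹) * τt := by rw [h3]
        _ = t⁻¹ * τt * k := by group
    by_cases hCt : C = ⊤
    · intro k hk
      rw [mem_center_iff]
      intro g
      have hg : g ∈ C := by rw [hCt]; exact mem_top _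
      rw [hC, mem_centralizer_iff] at hg
      exact (hg k hk).symm
    · exfalso
      have hCfix := IH C hCi hCt
      have := eq_of_stab H.pg (ρ ^ 3) hτ C (fun n hn => by rw [cube_apply]; exact hCfix n hn) hq
      obtain ⟨t, ht⟩ := hne
      exact ht (by rw [← cube_apply]; exact this t)
  -- (2) class two
  have hcl : ∀ t s : T, t * s * t⁻¹ * s⁻¹ ∈ center T := by
    have hZ2 : Z2 T = ⊤ := by
      by_contra hne2
      have hle := step1 (Z2 T) Z2_normal (Z2_inv ρ) hne2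
      -- a nontrivial central element of the quotient
      have : Nontrivial (T ⧸ center T) := by
        rw [← Finite.one_lt_card_iff_nontrivial, ← Subgroup.index_eq_card]
        have h1 : (center T).index ≠ 1 := fun h => hZtop (Subgroup.index_eq_one.mp h)
        have h0 : (center T).index ≠ 0 := Subgroup.index_ne_zero_of_finite
        omega
      have hpq : IsPGroup 2 (T ⧸ center T) := H.pg.to_quotient (center T)
      have hnt := hpq.center_nontrivial
      obtain ⟨⟨q, hq⟩, hq1⟩ := exists_ne (1 : center (T ⧸ center T))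
      obtain ⟨t, rfl⟩ := QuotientGroup.mk_surjective q
      have htZ : t ∉ center T := by
        intro h
        apply hq1
        apply Subtype.ext
        exact (QuotientGroup.eq_one_iff t).mpr h
      apply htZ
      apply hle
      intro s
      rw [← QuotientGroup.eq_one_iff]
      have := mem_center_iff.mp hq (QuotientGroup.mk s)
      simp only [QuotientGroup.mk_mul, QuotientGroup.mk_inv]
      rw [← this]
      group
    intro t s
    have : t ∈ Z2 T := by rw [hZ2]; exact mem_top _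
    exact this s
  have hclc : ∀ t s g : T, g * (t * s * t⁻¹ * s⁻¹) = (t * s * t⁻¹ * s⁻¹) * g :=
    fun t s => mem_center_iff.mp (hcl t s)
  -- (3) squares are central
  have hsq : ∀ t : T, t * t ∈ center T := by
    let N : Subgroup T :=
      { carrier := {t | t * t ∈ center T}
        one_mem' := by
          show (1 : T) * 1 ∈ center T
          rw [one_mul]; exact one_mem _
        mul_mem' := by
          intro a b ha hb
          show a * b * (a * b) ∈ center T
          have : a * b * (a * b) = (b * a * b⁻¹ * a⁻¹) * ((a * a) * (b * b)) := by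
            calc a * b * (a * b) = a * ((b * a * b⁻¹ * a⁻¹) * a * b) * b := by group
              _ = a * (b * a * b⁻¹ * a⁻¹) * a * b * b := by group
              _ = (b * a * b⁻¹ * a⁻¹) * a * a * b * b := by rw [hclc b a a]
              _ = (b * a * b⁻¹ * a⁻¹) * ((a * a) * (b * b)) := by group
          rw [this]
          exact mul_mem (hcl b a) (mul_mem ha hb)
        inv_mem' := by
          intro a ha
          show a⁻¹ * a⁻¹ ∈ center T
          have : a⁻¹ * a⁻¹ = (a * a)⁻¹ := by group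
          rw [this]; exact inv_mem ha }
    have hNn : N.Normal := by
      refine ⟨fun t ht g => ?_⟩
      show g * t * g⁻¹ * (g * t * g⁻¹) ∈ center T
      have : g * t * g⁻¹ * (g * t * g⁻¹) = g * (t * t) * g⁻¹ := by group
      rw [this]
      exact (inferInstance : (center T).Normal).conj_mem _ ht g
    have hNi : Inv ρ N := by
      intro t ht
      show ρ t * ρ t ∈ center T
      rw [← map_mul]
      exact inv_center ρ _ ht
    by_contra hcon
    push Not at hcon
    have hNt : N ≠ ⊤ := by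
      intro h
      obtain ⟨t, ht⟩ := hcon
      apply ht
      have : t ∈ N := by rw [h]; exact mem_top _
      exact this
    have hle := step1 N hNn hNi hNt
    -- an element outside the centre with central square
    obtain ⟨r, hr⟩ := (IsPGroup.iff_card (p := 2)).mp H.pg
    obtain ⟨t, ht⟩ := hcon
    have htZ : t ∉ center T := by
      intro h
      exact ht (mul_mem h h)
    have hpow : t ^ (2 ^ r) ∈ center T := by
      have : t ^ (2 ^ r) = 1 := by rw [← hr]; exact pow_card_eq_one'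
      rw [this]; exact one_mem _
    obtain ⟨j, hj1, hj2⟩ := exists_sq_mem (center T) t r htZ hpow
    exact hj1 (hle hj2)
  refine ⟨hsq, ?_⟩
  -- (4) `τ` is fixed-point-free on `T ⧸ Z`
  have hZfix := IH (center T) (inv_center ρ) hZtop
  let C' : Subgroup T :=
    { carrier := {t | t⁻¹ * ρ (ρ (ρ t)) ∈ center T}
      one_mem' := by
        show (1 : T)⁻¹ * ρ (ρ (ρ 1)) ∈ center T
        simp
      mul_mem' := by
        intro a b ha hb
        show (a * b)⁻¹ * ρ (ρ (ρ (a * b))) ∈ center T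
        have hac : ∀ g : T, g * (a⁻¹ * ρ (ρ (ρ a))) = (a⁻¹ * ρ (ρ (ρ a))) * g := mem_center_iff.mp ha
        have : (a * b)⁻¹ * ρ (ρ (ρ (a * b))) = (a⁻¹ * ρ (ρ (ρ a))) * (b⁻¹ * ρ (ρ (ρ b))) := by
          simp only [map_mul]
          calc (a * b)⁻¹ * (ρ (ρ (ρ a)) * ρ (ρ (ρ b)))
              = b⁻¹ * (a⁻¹ * ρ (ρ (ρ a))) * ρ (ρ (ρ b)) := by group
            _ = (a⁻¹ * ρ (ρ (ρ a))) * b⁻¹ * ρ (ρ (ρ b)) := by rw [hac b⁻¹]
            _ = (a⁻¹ * ρ (ρ (ρ a))) * (b⁻¹ * ρ (ρ (ρ b))) := by group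
        rw [this]
        exact mul_mem ha hb
      inv_mem' := by
        intro a ha
        show a⁻¹⁻¹ * ρ (ρ (ρ a⁻¹)) ∈ center T
        have hdi : (a⁻¹ * ρ (ρ (ρ a)))⁻¹ ∈ center T := inv_mem ha
        have e := mem_center_iff.mp hdi a
        have : a⁻¹⁻¹ * ρ (ρ (ρ a⁻¹)) = (a⁻¹ * ρ (ρ (ρ a)))⁻¹ := by
          simp only [map_inv]
          calc a⁻¹⁻¹ * (ρ (ρ (ρ a)))⁻¹ = a * (a⁻¹ * ρ (ρ (ρ a)))⁻¹ * a⁻¹ := by group
            _ = (a⁻¹ * ρ (ρ (ρ a)))⁻¹ * a * a⁻¹ := by rw [e]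
            _ = (a⁻¹ * ρ (ρ (ρ a)))⁻¹ := by group
        rw [this]
        exact inv_mem ha }
  have hC'le : center T ≤ C' := by
    intro z hz
    show z⁻¹ * ρ (ρ (ρ z)) ∈ center T
    rw [hZfix z hz]
    simp
  have hC'n : C'.Normal := by
    refine ⟨fun t ht g => ?_⟩
    have h1 : g * t * g⁻¹ = (g * t * g⁻¹ * t⁻¹) * t := by group
    rw [h1]
    exact mul_mem (hC'le (hcl g t)) ht
  have hC'i : Inv ρ C' := by
    intro t ht
    show (ρ t)⁻¹ * ρ (ρ (ρ (ρ t))) ∈ center T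
    have : (ρ t)⁻¹ * ρ (ρ (ρ (ρ t))) = ρ (t⁻¹ * ρ (ρ (ρ t))) := by
      simp only [map_mul, map_inv]
    rw [this]
    exact inv_center ρ _ ht
  have hC't : C' ≠ ⊤ := by
    intro h
    have hq : ∀ t : T, t⁻¹ * (ρ ^ 3) t ∈ center T := by
      intro t
      have : t ∈ C' := by rw [h]; exact mem_top _
      exact this
    have := eq_of_stab H.pg (ρ ^ 3) hτ (center T)
      (fun n hn => by rw [cube_apply]; exact hZfix n hn) hq
    obtain ⟨t, ht⟩ := hne
    exact ht (by rw [← cube_apply]; exact this t)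
  have hle := step1 C' hC'n hC'i hC't
  intro t ht
  exact hle ht

end Cfsg.Agent.Lib.Helper16.S1237FOE1
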