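import Mathlib
import Cfsg.Agent.Lib.Helper16.S1237Defs

set_option autoImplicit false

namespace Cfsg.Agent.Lib.Helper16.S1237FOE2

open Subgroup Cfsg.Agent.Lib.Helper16.S1237

universe u

/-- a permutation of `3`-power order whose cube has no fixed point moves a multiple of `9` points -/
theorem nine_dvd_card_of_perm {X : Type u} [Fintype X] [DecidableEq X] (σ : Equiv.Perm X)
    (k : ℕ) (hk : σ ^ (3 ^ k) = 1) (hfix : ∀ x : X, (σ ^ 3) x ≠ x) : 9 ∣ Fintype.card X := by
  classical
  have hsupp : σ.support = Finset.univ := by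
    ext x
    simp only [Equiv.Perm.mem_support, Finset.mem_univ, iff_true]
    intro hx
    apply hfix x
    rw [pow_succ, pow_succ, pow_one, Equiv.Perm.mul_apply, Equiv.Perm.mul_apply, hx, hx, hx]
  have hsum : σ.cycleType.sum = Fintype.card X := by
    rw [Equiv.Perm.sum_cycleType, hsupp, Finset.card_univ]
  rw [← hsum]
  apply Multiset.dvd_sum
  intro n hn
  have h1 : n ∣ 3 ^ k :=
    (Equiv.Perm.dvd_of_mem_cycleType hn).trans (orderOf_dvd_of_pow_eq_one hk)
  obtain ⟨i, -, rfl⟩ := (Nat.dvd_prime_pow Nat.prime_three).mp h1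
  have h2 := Equiv.Perm.two_le_of_mem_cycleType hn
  rcases i with _ | _ | i
  · norm_num at h2
  · exfalso
    obtain ⟨c, τ, hστ, hd, hc, hcard⟩ := Equiv.Perm.mem_cycleType_iff.mp hn
    have hne : c.support.Nonempty := by
      rw [← Finset.card_pos, hcard]; norm_num
    obtain ⟨x, hx⟩ := hne
    have hτx : τ x = x := by
      rcases hd x with h | h
      · exact absurd h (Equiv.Perm.mem_support.mp hx)
      · exact h
    have hc3 : c ^ 3 = 1 := by
      have : orderOf c = 3 := by rw [hc.orderOf, hcard]; norm_num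
      rw [← this]; exact pow_orderOf_eq_one c
    apply hfix x
    rw [hστ, hd.commute.mul_pow, hc3, one_mul]
    rw [pow_succ, pow_succ, pow_one, Equiv.Perm.mul_apply, Equiv.Perm.mul_apply, hτx, hτx, hτx]
  · rw [pow_succ, pow_succ, mul_assoc]
    exact Dvd.intro_left _ rfl

variable {T : Type u} [Group T] [Finite T] {ρ : MulAut T}

/-- `ρ` restricted to the complement of the centre -/
noncomputable def permOut (ρ : MulAut T) : Equiv.Perm {t : T // t ∉ center T} where
  toFun x := ⟨ρ x.1, fun h => x.2 (by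
    have := (inv_center ρ).symm (ρ x.1) h
    rwa [MulEquiv.symm_apply_apply] at this)⟩
  invFun x := ⟨ρ.symm x.1, fun h => x.2 (by
    have := inv_center ρ (ρ.symm x.1) h
    rwa [MulEquiv.apply_symm_apply] at this)⟩
  left_inv x := Subtype.ext (ρ.symm_apply_apply x.1)
  right_inv x := Subtype.ext (ρ.apply_symm_apply x.1)

theorem permOut_pow_apply (ρ : MulAut T) (n : ℕ) (x : {t : T // t ∉ center T}) :
    (((permOut ρ) ^ n) x : T) = (ρ ^ n) x.1 := by
  induction n generalizing x with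
  | zero => simp
  | succ n ih =>
    rw [pow_succ, pow_succ, Equiv.Perm.mul_apply, MulAut.mul_apply, ih]
    rfl

theorem card_ge_of_fpf_quot (hT : IsPGroup 2 T) (hρ : ∃ k : ℕ, ρ ^ (3 ^ k) = 1)
    (hZ : center T ≠ ⊤) (hfix : ∀ t : T, t⁻¹ * ρ (ρ (ρ t)) ∈ center T → t ∈ center T) :
    64 * Nat.card (center T) ≤ Nat.card T := by
  classical
  have : Fintype T := Fintype.ofFinite T
  obtain ⟨k, hk⟩ := hρ
  have h9 : 9 ∣ Fintype.card {t : T // t ∉ center T} := by
    apply nine_dvd_card_of_perm (permOut ρ) k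
    · ext x
      rw [permOut_pow_apply, hk]; rfl
    · intro x hx
      apply x.2
      apply hfix
      have h1 : ((permOut ρ ^ 3) x : T) = x.1 := congrArg Subtype.val hx
      rw [permOut_pow_apply] at h1
      have h2 : ρ (ρ (ρ x.1)) = x.1 := by
        have h3 : (ρ ^ 3) x.1 = ρ (ρ (ρ x.1)) := by
          rw [pow_succ, pow_succ, pow_one, MulAut.mul_apply, MulAut.mul_apply]
        rw [← h3]; exact h1
      rw [h2, inv_mul_cancel]
      exact one_mem _
  have hsplit : Nat.card T = Nat.card (center T) + Nat.card {t : T // t ∉ center T} := by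
    rw [← Nat.card_sum]
    exact Nat.card_congr (Equiv.sumCompl (fun t : T => t ∈ center T)).symm
  rw [Nat.card_eq_fintype_card (α := {t : T // t ∉ center T})] at hsplit
  obtain ⟨a, ha⟩ := IsPGroup.iff_card.mp hT
  obtain ⟨b, hb⟩ := IsPGroup.iff_card.mp (hT.to_subgroup (center T))
  have hlt : Nat.card (center T) < Nat.card T := by
    rcases lt_or_ge (Nat.card (center T)) (Nat.card T) with h | h
    · exact h
    · exfalso
      apply hZ
      exact Subgroup.eq_top_of_le_card _ h
  rw [ha, hb] at hlt hsplit ⊢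
  have hba : b < a := (Nat.pow_lt_pow_iff_right (by norm_num)).mp hlt
  obtain ⟨d, rfl⟩ : ∃ d, a = b + d := ⟨a - b, by omega⟩
  have hd : 0 < d := by omega
  obtain ⟨m, hm⟩ := h9
  rw [hm] at hsplit
  rw [pow_add] at hsplit ⊢
  -- 2^b * 2^d = 2^b + 9 m
  have h9' : 9 ∣ 2 ^ b * (2 ^ d - 1) := by
    refine ⟨m, ?_⟩
    have : 1 ≤ 2 ^ d := Nat.one_le_two_pow
    rw [Nat.mul_sub, mul_one]
    omega
  have hcop : Nat.Coprime 9 (2 ^ b) := by
    apply Nat.Coprime.pow_right
    norm_num
  have h9'' : 9 ∣ 2 ^ d - 1 := hcop.dvd_of_dvd_mul_left h9'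
  have hd6 : 6 ≤ d := by
    by_contra hlt6
    have : d = 1 ∨ d = 2 ∨ d = 3 ∨ d = 4 ∨ d = 5 := by omega
    rcases this with rfl | rfl | rfl | rfl | rfl <;> norm_num at h9''
  calc 64 * 2 ^ b = 2 ^ b * 2 ^ 6 := by ring
    _ ≤ 2 ^ b * 2 ^ d := Nat.mul_le_mul_left _ (Nat.pow_le_pow_right (by norm_num) hd6)

end Cfsg.Agent.Lib.Helper16.S1237FOE2
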