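import Mathlib
import Cfsg.Agent.Lib.Helper20.Ord64C
import Cfsg.Agent.Lib.Helper3.SU3Syl4
import Cfsg.Agent.Lib.Helper3.SU3Syl6
import Cfsg.Agent.Lib.Helper12.S2933H3

/-!
# S1237 FO-K: the model `UP F 4 2` for an arbitrary field `F` with 16 elements

This is helper29's `S2933FOI` (there for `F = GaloisField 2 4`) repeated verbatim for a general `F`.
-/

set_option autoImplicit false

namespace Cfsg.Agent.Lib.Helper16.S1237FOK

open Subgroup Cfsg.Agent.Lib.Helper20.Ord64 Cfsg.Agent.Lib.Helper3.SU3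

variable {F : Type*} [Field F] [Fintype F]

theorem exists_rho [hd : Fact (QData F 4 2)] : ∃ ρ : MulAut (UP F 4 2), Setup ρ := by
  have d : QData F 4 2 := hd.out
  obtain ⟨c, hc, hc0, hc1⟩ := UP.exists_fixed_ne (F := F) (q := 4) (n := 2) le_rfl
  have hc3 : c ^ 3 = 1 := by
    have h : c * (c ^ 3 - 1) = 0 := by linear_combination hc
    rcases mul_eq_zero.1 h with h | h
    · exact absurd h hc0
    · linear_combination h
  have hcsq : c ^ 2 ≠ 1 := by
    intro h
    apply hc1
    have h2 : (c - 1) * (c - 1) = 0 := by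
      linear_combination h + (1 - c) * d.two_eq_zero
    rcases mul_eq_zero.1 h2 with h3 | h3 <;> linear_combination h3
  let u : fixU F 4 := ⟨Units.mk0 c hc0, by
    rw [mem_fixU]; simpa using hc⟩
  have hu : ((u.1 : Fˣ) : F) = c := rfl
  refine ⟨UP.torAut u, ⟨?_, ?_⟩, ?_, ?_⟩
  · intro y
    ext
    · rw [UP.torAut_apply_a, UP.torAut_apply_a, UP.torAut_apply_a, hu]
      linear_combination y.a * hc3
    · rw [UP.torAut_apply_b, UP.torAut_apply_b, UP.torAut_apply_b, hu]
      linear_combination (c ^ 3 + 1) * y.b * hc3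
  · intro y hy
    have ha : c * y.a = y.a := by
      have := congrArg UP.a hy
      rwa [UP.torAut_apply_a, hu] at this
    have hb : c ^ 2 * y.b = y.b := by
      have := congrArg UP.b hy
      rwa [UP.torAut_apply_b, hu] at this
    have ha0 : y.a = 0 := by
      have h : (c - 1) * y.a = 0 := by linear_combination ha
      rcases mul_eq_zero.1 h with h | h
      · exact absurd (by linear_combination h) hc1
      · exact h
    have hb0 : y.b = 0 := by
      have h : (c ^ 2 - 1) * y.b = 0 := by linear_combination hb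
      rcases mul_eq_zero.1 h with h | h
      · exact absurd (by linear_combination h) hcsq
      · exact h
    ext
    · exact ha0
    · exact hb0
  · rw [UP.card_UP]; norm_num
  · intro h
    obtain ⟨x, y, hxy⟩ := UP.not_comm (F := F) (q := 4) (n := 2)
    exact hxy (h.is_comm.comm x y)

theorem inv_central [hd : Fact (QData F 4 2)] (e : UP F 4 2) (he : e * e = 1) :
    e ∈ center (UP F 4 2) := by
  rw [UP.mem_center_iff]
  exact (UP.mul_self_eq_one_iff e).1 he

/-- **FO-K**. -/
theorem sylow_of_setup (hF : Fintype.card F = 16)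
    (P : Sylow 2 (Cfsg.PSU 3 F 4)) {T : Type*} [Group T] (σ : MulAut T) (S : Setup σ)
    (hinv : ∀ e : T, e * e = 1 → e ∈ center T) :
    Nonempty (T ≃* ↥(P : Subgroup (Cfsg.PSU 3 F 4))) := by
  have : Fact (QData F 4 2) := ⟨⟨by norm_num, by rw [hF]; norm_num⟩⟩
  obtain ⟨ρ, Sρ⟩ := exists_rho (F := F)
  obtain ⟨f⟩ := Cfsg.Agent.Lib.Helper12.S2933.equiv_of_no_inv S Sρ hinv inv_central
  obtain ⟨g⟩ := sylow_PSU_equiv (F := F) (q := 4) (n := 2) P
  exact ⟨f.trans g.symm⟩

end Cfsg.Agent.Lib.Helper16.S1237FOK
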