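import Mathlib
import Cfsg.Agent.Lib.Helper16.S1237FOC1

/-!
# S1237 pieces FO-Q4a (`pow_ne_one_of_sq_mem`) and FO-Q4b (`exists_pow_eq`)
-/

set_option autoImplicit false
set_option linter.unusedSectionVars false
set_option linter.unusedVariables false

namespace Cfsg.Agent.Lib.Helper16.S1237FOQ4ab

open Subgroup Cfsg.Agent.Lib.Helper16.S1237 Cfsg.Agent.Lib.Helper16.S1237FOA
open Cfsg.Agent.Lib.Helper16.S1237FOC1 Cfsg.Agent.Lib.Helper20.Ord64

universe u

variable {T : Type u} [Group T] [Finite T] {ρ : MulAut T}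

theorem center_ne_bot (H : Hyp ρ) : center T ≠ ⊥ := by
  intro hbot
  have hex : ∃ x : T, x * x = 1 ∧ x ≠ 1 := by
    by_contra hcon
    push Not at hcon
    have : Nat.card {x : T // x * x = 1} ≤ 1 := by
      apply Finite.card_le_one_iff_subsingleton.mpr
      refine ⟨fun a b => ?_⟩
      apply Subtype.ext
      rw [hcon a.1 a.2, hcon b.1 b.2]
    rw [H.card_inv] at this
    omega
  obtain ⟨x, hx, hx1⟩ := hex
  have := H.central x hx
  rw [hbot, mem_bot] at this
  exact hx1 this

theorem center_comm : ∀ a ∈ center T, ∀ b ∈ center T, a * b = b * a :=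
  fun a ha b _ => (mem_center_iff.mp ha b).symm

/-- the exponent of the centre -/
theorem center_pow (H : Hyp ρ) (a : ℕ) (ha : Nat.card (center T) = 4 ^ a) :
    ∀ z ∈ center T, z ^ (2 ^ a) = 1 := by
  obtain ⟨n, -, hn, hpow, -⟩ := card_omega H (center T) (inv_center ρ) (center_ne_bot H) center_comm
  have : n = a := Nat.pow_right_injective (by norm_num : 2 ≤ 4) (hn.symm.trans ha)
  rw [← this]; exact hpow

/-- if the generators of `lineOf ρ x` have `2^m`-th power one, so have all elements,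
and then the `n` of `card_omega` is at most `m` -/
theorem line_pow (h : Fpf3 ρ) (x : T) (m : ℕ) (hZ : ∀ z ∈ center T, z ^ (2 ^ m) = 1)
    (hx : x ^ (2 ^ m) = 1) : ∀ g ∈ Fpf3.lineOf ρ x, g ^ (2 ^ m) = 1 := by
  have hc := h.lineOf_comm x
  have hle : Fpf3.lineOf ρ x ≤ Om (Fpf3.lineOf ρ x) hc m := by
    unfold Fpf3.lineOf
    rw [closure_le]
    intro g hg
    have hgL : g ∈ Fpf3.lineOf ρ x := subset_closure hg
    refine ⟨hgL, ?_⟩
    rcases hg with hg | hg
    · exact hZ g hg
    · simp only [Set.mem_insert_iff, Set.mem_singleton_iff] at hg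
      rcases hg with rfl | rfl | rfl
      · exact hx
      · rw [← map_pow, hx, map_one]
      · rw [← map_pow, ← map_pow, hx, map_one, map_one]
  intro g hg
  exact (hle hg).2

theorem four_pow_inj {a b : ℕ} (h : 4 ^ a = 4 ^ b) : a = b :=
  Nat.pow_right_injective (by norm_num : 2 ≤ 4) h

theorem four_pow_lt {a b : ℕ} (h : 4 ^ a < 4 ^ b) : a < b :=
  (Nat.pow_lt_pow_iff_right (by norm_num : 1 < 4)).mp h

/-- **FO-Q4a**. -/
theorem pow_ne_one_of_sq_mem (H : Hyp ρ) (h : Fpf3 ρ) (a : ℕ) (ha : Nat.card (center T) = 4 ^ a)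
    (u : T) (hu : u ∉ center T) (hu2 : u * u ∈ center T) : u ^ (2 ^ a) ≠ 1 := by
  classical
  intro hcon
  set A := Fpf3.lineOf ρ u with hA
  have hAi : Inv ρ A := h.lineOf_inv u
  have hAc := h.lineOf_comm u
  have hZA : center T ≤ A := Fpf3.center_le_lineOf ρ u
  have huA : u ∈ A := Fpf3.mem_lineOf_self ρ u
  have hAne : A ≠ ⊥ := by
    intro hbot
    rw [hbot, mem_bot] at huA
    exact hu (by rw [huA]; exact one_mem _)
  have hZpow := center_pow H a ha
  obtain ⟨n, -, hn, hpow, hcnt⟩ := card_omega H A hAi hAne hAc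
  -- `a ≤ n`
  have han : a ≤ n := by
    have h1 : Nat.card (center T) ≤ Nat.card A := Subgroup.card_le_of_le hZA
    rw [ha, hn] at h1
    exact (Nat.pow_le_pow_iff_right (by norm_num : 1 < 4)).mp h1
  -- `Ω_a(A) = Z`
  have hcard := hcnt a han
  have hZle : center T ≤ Om A hAc a := fun z hz => ⟨hZA hz, hZpow z hz⟩
  have hOm : Nat.card (Om A hAc a) = 4 ^ a := hcard
  have heq : center T = Om A hAc a :=
    Subgroup.eq_of_le_of_card_ge hZle (by rw [hOm, ha])
  apply hu
  rw [heq]
  exact ⟨huA, hcon⟩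

/-- power map on an abelian subgroup -/
def powHomA (A : Subgroup T) (hc : ∀ a ∈ A, ∀ b ∈ A, a * b = b * a) (m : ℕ) : ↥A →* T where
  toFun x := (x : T) ^ m
  map_one' := by simp
  map_mul' := by
    intro a b
    have : Commute (a : T) (b : T) := hc a a.2 b b.2
    simp only [Subgroup.coe_mul]
    exact this.mul_pow _

/-- **FO-Q4b**. -/
theorem exists_pow_eq (H : Hyp ρ) (h : Fpf3 ρ) (a : ℕ) (ha : Nat.card (center T) = 4 ^ a)
    (c : ℕ) (hc : 1 ≤ c) (x : T) (hx : x ^ (2 ^ (c - 1)) ∉ center T) (hx2 : x ^ (2 ^ c) ∈ center T) :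
    ∀ z ∈ center T, ∃ g ∈ Fpf3.lineOf ρ x, g ^ (2 ^ c) = z := by
  classical
  set L := Fpf3.lineOf ρ x with hL
  have hLi : Inv ρ L := h.lineOf_inv x
  have hLc := h.lineOf_comm x
  have hZL : center T ≤ L := Fpf3.center_le_lineOf ρ x
  have hxL : x ∈ L := Fpf3.mem_lineOf_self ρ x
  have hZpow := center_pow H a ha
  have hLne : L ≠ ⊥ := by
    intro hbot
    rw [hbot, mem_bot] at hxL
    apply hx
    rw [hxL, one_pow]; exact one_mem _
  obtain ⟨n, -, hn, hpow, hcnt⟩ := card_omega H L hLi hLne hLc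
  -- all elements of `L` have `2^(a+c)`-th power one
  have hxpow : x ^ (2 ^ (a + c)) = 1 := by
    rw [add_comm, pow_add, pow_mul]
    exact hZpow _ hx2
  have hZpow' : ∀ z ∈ center T, z ^ (2 ^ (a + c)) = 1 := by
    intro z hz
    rw [pow_add, pow_mul, hZpow z hz, one_pow]
  have hLpow := line_pow h x (a + c) hZpow' hxpow
  -- `n ≤ a + c`
  have hn_le : n ≤ a + c := by
    by_contra hlt
    push Not at hlt
    have h1 := hcnt (a + c) (by omega)
    have h2 : Om L hLc (a + c) = L := by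
      ext g
      rw [mem_Om]
      exact ⟨fun hg => hg.1, fun hg => ⟨hg, hLpow g hg⟩⟩
    have h3 : Nat.card (Om L hLc (a + c)) = 4 ^ (a + c) := h1
    rw [h2, hn] at h3
    have := four_pow_inj h3
    omega
  -- `a + c ≤ n`
  have hn_ge : a + c ≤ n := by
    by_contra hlt
    push Not at hlt
    have hu2 : x ^ (2 ^ (c - 1)) * x ^ (2 ^ (c - 1)) ∈ center T := by
      have : x ^ (2 ^ (c - 1)) * x ^ (2 ^ (c - 1)) = x ^ (2 ^ c) := by
        rw [← pow_add, ← two_mul, ← pow_succ']
        congr 2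
        omega
      rw [this]; exact hx2
    have h1 := pow_ne_one_of_sq_mem H h a ha _ hx hu2
    apply h1
    rw [← pow_mul, ← pow_add]
    have h2 := hpow x hxL
    have : c - 1 + a = n + (c - 1 + a - n) := by omega
    rw [this, pow_add, pow_mul, h2, one_pow]
  have hn_eq : n = a + c := le_antisymm hn_le hn_ge
  -- the power map
  set P := powHomA L hLc (2 ^ c) with hP
  have hker : Nat.card P.ker = 4 ^ c := by
    rw [← hcnt c (by omega)]
    apply Nat.card_congr
    refine
      { toFun := fun g => ⟨(g.1 : T), g.1.2, g.2⟩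
        invFun := fun y => ⟨⟨(y : T), y.2.1⟩, y.2.2⟩
        left_inv := fun g => by apply Subtype.ext; apply Subtype.ext; rfl
        right_inv := fun y => by apply Subtype.ext; rfl }
  have hrange : Nat.card P.range = 4 ^ a := by
    have h1 := Subgroup.card_mul_index P.ker
    rw [Subgroup.index_ker, hker, hn, hn_eq, pow_add, mul_comm] at h1
    have h4 : 0 < 4 ^ c := by positivity
    exact Nat.eq_of_mul_eq_mul_right h4 h1
  have hrange_le : P.range ≤ Om L hLc a := by
    rintro y ⟨g, rfl⟩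
    refine ⟨pow_mem g.2 _, ?_⟩
    show ((g : T) ^ (2 ^ c)) ^ (2 ^ a) = 1
    rw [← pow_mul, ← pow_add, add_comm]
    exact hLpow g g.2
  have hOma : Nat.card (Om L hLc a) = 4 ^ a := hcnt a (by omega)
  have hrange_eq : P.range = Om L hLc a :=
    Subgroup.eq_of_le_of_card_ge hrange_le (by rw [hOma, hrange])
  have hZle : center T ≤ Om L hLc a := fun z hz => ⟨hZL hz, hZpow z hz⟩
  have hZeq : center T = Om L hLc a :=
    Subgroup.eq_of_le_of_card_ge hZle (by rw [hOma, ha])
  intro z hz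
  have : z ∈ P.range := by rw [hrange_eq, ← hZeq]; exact hz
  obtain ⟨g, hg⟩ := this
  exact ⟨g, g.2, hg⟩

end Cfsg.Agent.Lib.Helper16.S1237FOQ4ab
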