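import Mathlib
import Cfsg.Agent.Lib.Helper16.S1237Defs

/-!
# S1237 piece FO-Q4d: the centre has order four

The other pieces (`card_omega`, `pow_ne_one_of_sq_mem`, `exists_pow_eq`, `mul_pow_class_two`,
`cm_pow_left`) enter as hypotheses with the exact statements of the skeleton.
-/

set_option autoImplicit false
set_option linter.unusedSectionVars false

namespace Cfsg.Agent.Lib.Helper16.S1237Q4d

open Subgroup Cfsg.Agent.Lib.Helper16.S1237 Cfsg.Agent.Lib.Helper20.Ord64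

variable {T : Type*} [Group T] [Finite T] {ρ : MulAut T}

theorem cm_central_right (x z : T) (hz : z ∈ center T) : cm x z = 1 := by
  rw [cm_eq_one_iff]
  exact (mem_center_iff.mp hz x)

theorem cm_mul_right_of_comm (x y g : T) (hxg : x * g = g * x) : cm x (y * g) = cm x y := by
  unfold cm
  have h1 : g * x⁻¹ = x⁻¹ * g := by
    have : x⁻¹ * (x * g) * x⁻¹ = x⁻¹ * (g * x) * x⁻¹ := by rw [hxg]
    have e1 : x⁻¹ * (x * g) * x⁻¹ = g * x⁻¹ := by group
    have e2 : x⁻¹ * (g * x) * x⁻¹ = x⁻¹ * g := by group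
    rw [e1, e2] at this
    exact this
  calc x * (y * g) * x⁻¹ * (y * g)⁻¹ = x * y * (g * x⁻¹) * g⁻¹ * y⁻¹ := by group
    _ = x * y * (x⁻¹ * g) * g⁻¹ * y⁻¹ := by rw [h1]
    _ = x * y * x⁻¹ * y⁻¹ := by group

/-- **FO-Q4d** with the other pieces as hypotheses. -/
theorem card_center_aux (H : Hyp ρ) (h : Fpf3 ρ) (hcl : ∀ a b : T, cm a b ∈ center T)
    (hnc : ¬ ∀ a b : T, a * b = b * a)
    (hω : ∀ (A : Subgroup T), Inv ρ A → A ≠ ⊥ → (∀ a ∈ A, ∀ b ∈ A, a * b = b * a) →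
      ∃ n : ℕ, 1 ≤ n ∧ Nat.card A = 4 ^ n ∧ (∀ x ∈ A, x ^ (2 ^ n) = 1) ∧
        ∀ i : ℕ, i ≤ n → Nat.card {x : T // x ∈ A ∧ x ^ (2 ^ i) = 1} = 4 ^ i)
    (hQa : ∀ a : ℕ, Nat.card (center T) = 4 ^ a → ∀ u : T, u ∉ center T → u * u ∈ center T →
      u ^ (2 ^ a) ≠ 1)
    (hQb : ∀ a : ℕ, Nat.card (center T) = 4 ^ a → ∀ c : ℕ, 1 ≤ c → ∀ x : T,
      x ^ (2 ^ (c - 1)) ∉ center T → x ^ (2 ^ c) ∈ center T →
      ∀ z ∈ center T, ∃ g ∈ Fpf3.lineOf ρ x, g ^ (2 ^ c) = z)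
    (hmp : ∀ (y g : T) (n : ℕ), (y * g) ^ n = y ^ n * g ^ n * (cm g y) ^ (n * (n - 1) / 2))
    (hcp : ∀ (a b : T) (n : ℕ), cm (a ^ n) b = (cm a b) ^ n ∧ cm a (b ^ n) = (cm a b) ^ n) :
    Nat.card (center T) = 4 := by
  classical
  -- the centre is nontrivial
  have hZne : center T ≠ ⊥ := by
    intro hbot
    have hex : ∃ x : T, x * x = 1 ∧ x ≠ 1 := by
      by_contra hcon
      push Not at hcon
      have : Nat.card {x : T // x * x = 1} ≤ 1 := by
        apply Finite.card_le_one_iff_subsingleton.mpr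
        refine ⟨fun a b => ?_⟩
        apply Subtype.ext
        rw [hcon a.1 a.2, hcon b.1 b.2]
      rw [H.card_inv] at this
      omega
    obtain ⟨x, hx, hx1⟩ := hex
    have := H.central x hx
    rw [hbot, mem_bot] at this
    exact hx1 this
  have hZc : ∀ a ∈ center T, ∀ b ∈ center T, a * b = b * a :=
    fun a ha b _ => (mem_center_iff.mp ha b).symm
  obtain ⟨a, ha1, haC, haE, -⟩ := hω (center T) (inv_center ρ) hZne hZc
  by_contra hne4
  have ha2 : 2 ≤ a := by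
    rcases Nat.lt_or_ge a 2 with h' | h'
    · exfalso
      have : a = 1 := by omega
      rw [this] at haC
      exact hne4 (by rw [haC]; norm_num)
    · exact h'
  -- the exponent of `T ⧸ Z`
  obtain ⟨r, hr⟩ := (IsPGroup.iff_card (p := 2)).mp H.pg
  have hP : ∃ c : ℕ, ∀ t : T, t ^ (2 ^ c) ∈ center T := by
    refine ⟨r, fun t => ?_⟩
    have : t ^ (2 ^ r) = 1 := by rw [← hr]; exact pow_card_eq_one'
    rw [this]; exact one_mem _
  let c := Nat.find hP
  have hcall : ∀ t : T, t ^ (2 ^ c) ∈ center T := Nat.find_spec hP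
  have hc1 : 1 ≤ c := by
    by_contra h0
    have h0' : c = 0 := by omega
    apply hnc
    intro x y
    have hx := hcall x
    rw [h0', pow_zero, pow_one] at hx
    exact (mem_center_iff.mp hx y).symm
  have hcmin : ¬ ∀ t : T, t ^ (2 ^ (c - 1)) ∈ center T :=
    Nat.find_min hP (by omega)
  push Not at hcmin
  obtain ⟨x, hx⟩ := hcmin
  have hx2 : x ^ (2 ^ c) ∈ center T := hcall x
  -- a partner `y`
  have hy : ∃ y : T, cm (x ^ (2 ^ (c - 1))) y ≠ 1 := by
    by_contra hcon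
    push Not at hcon
    apply hx
    rw [mem_center_iff]
    intro y
    have := hcon y
    rw [cm_eq_one_iff] at this
    exact this.symm
  obtain ⟨y, hy⟩ := hy
  have hκ : (cm x y) ^ (2 ^ (c - 1)) ≠ 1 := by
    rw [← (hcp x y (2 ^ (c - 1))).1]; exact hy
  obtain ⟨g, hgL, hg⟩ := hQb a haC c hc1 x hx hx2 ((y ^ (2 ^ c))⁻¹) (inv_mem (hcall y))
  -- `x` and `g` commute
  have hxL : x ∈ Fpf3.lineOf ρ x := Fpf3.mem_lineOf_self ρ x
  have hxg : x * g = g * x := Fpf3.lineOf_comm h x x hxL g hgL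
  set y' := y * g with hy'
  -- (1) `y' ^ 2^(c+1) = 1`
  have h1 : y' ^ (2 ^ c) = (cm g y) ^ (2 ^ c * (2 ^ c - 1) / 2) := by
    rw [hy', hmp y g (2 ^ c), hg, mul_inv_cancel, one_mul]
  have hcg : (cm g y) ^ (2 ^ c) = 1 := by
    rw [← (hcp g y (2 ^ c)).2]
    exact cm_central_right g _ (hcall y)
  have h2 : y' ^ (2 ^ (c + 1)) = 1 := by
    have e1 : y' ^ (2 ^ (c + 1)) = (y' ^ (2 ^ c)) ^ 2 := by rw [← pow_mul, pow_succ]
    rw [e1, h1, ← pow_mul]
    have heven : 2 ^ c * (2 ^ c - 1) / 2 * 2 = 2 ^ c * (2 ^ c - 1) := by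
      apply Nat.div_mul_cancel
      have : 2 ∣ 2 ^ c := dvd_pow_self 2 (by omega)
      exact Dvd.dvd.mul_right this _
    rw [heven, pow_mul, hcg, one_pow]
  -- (2) `cm x y' = cm x y`
  have h3 : cm x y' = cm x y := cm_mul_right_of_comm x y g hxg
  have h4 : y' ^ (2 ^ (c - 1)) ∉ center T := by
    intro hmem
    have := cm_central_right x _ hmem
    rw [(hcp x y' (2 ^ (c - 1))).2, h3] at this
    exact hκ this
  have h5 : y' ^ (2 ^ (c - 1)) * y' ^ (2 ^ (c - 1)) ∈ center T := by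
    have : y' ^ (2 ^ (c - 1)) * y' ^ (2 ^ (c - 1)) = y' ^ (2 ^ c) := by
      rw [← pow_add, ← two_mul, ← pow_succ']
      congr 2
      omega
    rw [this]; exact hcall y'
  have h6 := hQa a haC _ h4 h5
  apply h6
  rw [← pow_mul, ← pow_add]
  have : c - 1 + a = (c + 1) + (a - 2) := by omega
  rw [this, pow_add, pow_mul, h2, one_pow]

end Cfsg.Agent.Lib.Helper16.S1237Q4d
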