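import Mathlib
import Cfsg.Agent.Lib.Helper16.S1237Defs
import Cfsg.Agent.Lib.Helper16.S1237FOA
import Cfsg.Agent.Lib.Helper16.S1237FOC1
import Cfsg.Agent.Lib.Helper16.S1237FOC3
import Cfsg.Agent.Lib.Helper16.S1237FOE1
import Cfsg.Agent.Lib.Helper16.S1237FOQ4ab
import Cfsg.Agent.Lib.Helper16.S1237Q4d
import Cfsg.Agent.Lib.Helper25.S1237FOB
import Cfsg.Agent.Lib.Helper16.S1237FOE2
import Cfsg.Agent.Lib.Helper21.S1237FOE3
import Cfsg.Agent.H5.S1237FOQ2
import Cfsg.Agent.H5.S1237FOQ4c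
import Cfsg.Agent.H5.S1237FOQ5

/-!
# S1237 assembly (architect helper16)

`main`: under `Hyp ρ` the group `T` is abelian or `Setup ρ` holds (order 64, `ρ³ = 1` fixed-point-free,
non-abelian).
-/

set_option autoImplicit false
set_option linter.unusedSectionVars false

namespace Cfsg.Agent.Lib.Helper16.S1237Main

open Subgroup Cfsg.Agent.Lib.Helper16.S1237 Cfsg.Agent.Lib.Helper20.Ord64

universe u

variable {T : Type u} [Group T] [Finite T] {ρ : MulAut T}

theorem center_ne_top (hnc : ¬ ∀ a b : T, a * b = b * a) : center T ≠ ⊤ := by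
  intro h
  apply hnc
  intro a b
  have ha : a ∈ center T := by rw [h]; exact mem_top _
  exact (mem_center_iff.mp ha b).symm

theorem cube_of_IH (H : Hyp ρ) (hnc : ¬ ∀ a b : T, a * b = b * a)
    (IH : ∀ S : Subgroup T, Inv ρ S → S ≠ ⊤ → ∀ s ∈ S, ρ (ρ (ρ s)) = s) :
    ∀ t : T, ρ (ρ (ρ t)) = t := by
  by_contra hcon
  push Not at hcon
  obtain ⟨h1, h2⟩ := Cfsg.Agent.Lib.Helper16.S1237FOE1.E_struct H hnc IH hcon
  have h3 := Cfsg.Agent.Lib.Helper16.S1237FOE2.card_ge_of_fpf_quot H.pg H.pow3 (center_ne_top hnc) h2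
  have h4 := Cfsg.Agent.Lib.Helper21.S1237E3.card_lt_of_sq_central h1 (le_of_eq H.card_inv)
  omega

theorem cube_all : ∀ (n : ℕ) (T : Type u) [Group T] [Finite T] (ρ : MulAut T),
    Nat.card T = n → Hyp ρ → ∀ t : T, ρ (ρ (ρ t)) = t := by
  intro n
  induction n using Nat.strong_induction_on with
  | _ n ih =>
    intro T _ _ ρ hn H
    by_cases hc : ∀ a b : T, a * b = b * a
    · intro t
      exact Cfsg.Agent.Lib.Helper16.S1237FOC3.cube_of_comm H ⊤ (inv_top ρ)
        (fun a _ b _ => hc a b) t (mem_top _)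
    · apply cube_of_IH H hc
      intro S hS hST s hs
      by_cases hbot : S = ⊥
      · rw [hbot, mem_bot] at hs
        rw [hs]; simp
      · have hlt : Nat.card S < n := by
          rw [← hn]
          have hle : Nat.card S ≤ Nat.card T := Subgroup.card_le_card_group S
          rcases lt_or_eq_of_le hle with h | h
          · exact h
          · exact absurd (Subgroup.eq_top_of_card_eq S h) hST
        have := ih (Nat.card S) hlt ↥S (res ρ S hS) rfl
          (Cfsg.Agent.Lib.Helper25.S1237.hyp_res H S hS hbot) ⟨s, hs⟩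
        have h2 := congrArg Subtype.val this
        simpa using h2

theorem main (H : Hyp ρ) : (∀ a b : T, a * b = b * a) ∨ Setup ρ := by
  by_cases hc : ∀ a b : T, a * b = b * a
  · exact Or.inl hc
  · right
    have h : Fpf3 ρ := ⟨cube_all _ T ρ rfl H, Cfsg.Agent.Lib.Helper16.S1237FOA.fpf H⟩
    have hcl := Cfsg.H5.S1237FOQ2.class_two H.pg h
    have hZ : Nat.card (center T) = 4 :=
      Cfsg.Agent.Lib.Helper16.S1237Q4d.card_center_aux H h hcl hc
        (fun A hA hne hcA => Cfsg.Agent.Lib.Helper16.S1237FOC1.card_omega H A hA hne hcA)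
        (fun a ha u hu hu2 => Cfsg.Agent.Lib.Helper16.S1237FOQ4ab.pow_ne_one_of_sq_mem H h a ha u hu hu2)
        (fun a ha c hc1 x hx hx2 =>
          Cfsg.Agent.Lib.Helper16.S1237FOQ4ab.exists_pow_eq H h a ha c hc1 x hx hx2)
        (fun y g n => Cfsg.H5.S1237FOQ4c.mul_pow_class_two hcl y g n)
        (fun a b n => Cfsg.H5.S1237FOQ4c.cm_pow_left hcl a b n)
    refine ⟨h, Cfsg.H5.S1237FOQ5.card_eq_64 H h hcl hc hZ, ?_⟩
    intro hcomm
    apply hc
    intro a b
    exact hcomm.is_comm.comm a b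

end Cfsg.Agent.Lib.Helper16.S1237Main
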