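import Mathlib
import Cfsg.Prelude.Def_Classical
import Cfsg.Prelude.Def_CaseTheorems
import Cfsg.Agent.Lib.Helper16.S1237Main
import Cfsg.Agent.Lib.Helper16.S1237FOK
import Cfsg.Agent.Lib.Helper12.S1237FOC2
import Cfsg.Agent.Lib.Helper12.S1237FOJ

/-!
# S1237: final transfer
-/

set_option autoImplicit false

namespace Cfsg.Agent.Lib.Helper16.S1237Final

open Cfsg Cfsg.Agent.Lib.Helper16.S1237

theorem result {T : Type*} [Group T] [Finite T] (hT : IsPGroup 2 T) (h2 : Cfsg.PRankLE 2 2 T)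
    (h1 : ¬ Cfsg.PRankLE 2 1 T) (φ : MulAut T)
    (htrans : ∀ s t : T, orderOf s = 2 → orderOf t = 2 → ∃ k : ℕ, (φ ^ k) s = t)
    {F : Type*} [Field F] [Fintype F] (hF : Fintype.card F = 16) (P : Sylow 2 (Cfsg.PSU 3 F 4)) :
    (∃ n : ℕ, 1 ≤ n ∧ Nonempty (T ≃* Multiplicative (ZMod (2 ^ n) × ZMod (2 ^ n)))) ∨
      Nonempty (T ≃* (P : Subgroup (Cfsg.PSU 3 F 4))) := by
  obtain ⟨ρ, H⟩ := Cfsg.Agent.Lib.Helper12.S1237FOJ.exists_hyp hT h2 h1 φ htrans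
  rcases Cfsg.Agent.Lib.Helper16.S1237Main.main H with hc | hS
  · exact Or.inl (Cfsg.Agent.Lib.Helper12.S1237FOC2.abelian_equiv H hc)
  · right
    exact Cfsg.Agent.Lib.Helper16.S1237FOK.sylow_of_setup hF P ρ hS (fun e he => H.central e he)

end Cfsg.Agent.Lib.Helper16.S1237Final
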