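import Mathlib

/-!
# S4067 FO-B (helper16): an automorphism fixing a normal subgroup `N` of prime index pointwise and
moving `s ∉ N` to `s * y`, for `y ∈ N` centralizing `N` with `(s y)^p = s^p`.
-/

set_option autoImplicit false

namespace Cfsg.Agent.Lib.Helper16.S4067B

variable {G : Type*} [Group G]

/-- The cocycle `i ↦ s^(-i) (s y)^i`. -/
def D (s y : G) (i : ℤ) : G := s ^ (-i) * (s * y) ^ i

theorem D_zero (s y : G) : D s y 0 = 1 := by simp [D]

theorem D_one (s y : G) : s * D s y 1 = s * y := by simp [D]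

theorem D_add (s y : G) (i j : ℤ) :
    D s y (i + j) = s ^ (-j) * D s y i * s ^ j * D s y j := by
  simp only [D]
  rw [neg_add, add_comm (-i), zpow_add, zpow_add]
  simp only [mul_assoc]
  rw [zpow_neg s j, mul_inv_cancel_left]

theorem D_mem (N : Subgroup G) [N.Normal] (s y : G) (hyN : y ∈ N)
    (hyc : ∀ n ∈ N, n * y = y * n) (i : ℤ) :
    D s y i ∈ N ⊓ Subgroup.centralizer (N : Set G) := by
  have : (N ⊓ Subgroup.centralizer (N : Set G)).Normal := inferInstance
  have hyK : y ∈ N ⊓ Subgroup.centralizer (N : Set G) :=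
    ⟨hyN, Subgroup.mem_centralizer_iff.mpr (fun n hn => hyc n hn)⟩
  rw [← QuotientGroup.eq_one_iff]
  simp only [D]
  rw [QuotientGroup.mk_mul, QuotientGroup.mk_zpow, QuotientGroup.mk_zpow, QuotientGroup.mk_mul,
    (QuotientGroup.eq_one_iff y).mpr hyK, mul_one, zpow_neg, inv_mul_cancel]

theorem FOB_exists_aut (N : Subgroup G) [N.Normal] (p : ℕ) (hp : p.Prime)
    (hidx : N.index = p) (s y : G) (hs : s ∉ N) (hyN : y ∈ N) (hyc : ∀ n ∈ N, n * y = y * n)
    (hpow : (s * y) ^ p = s ^ p) :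
    ∃ τ : MulAut G, τ s = s * y ∧ ∀ n ∈ N, τ n = n := by
  classical
  have : Fact p.Prime := Fact.mk hp
  have hcard : Nat.card (G ⧸ N) = p := by rw [← Subgroup.index_eq_card]; exact hidx
  have hs1 : (QuotientGroup.mk s : G ⧸ N) ≠ 1 :=
    fun h => hs ((QuotientGroup.eq_one_iff s).mp h)
  have htop : Subgroup.zpowers (QuotientGroup.mk s : G ⧸ N) = ⊤ :=
    zpowers_eq_top_of_prime_card hcard hs1
  have hord : orderOf (QuotientGroup.mk s : G ⧸ N) = p := by
    have h1 : orderOf (QuotientGroup.mk s : G ⧸ N) ∣ p := hcard ▸ orderOf_dvd_natCard _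
    rcases (Nat.dvd_prime hp).mp h1 with h | h
    · exact absurd (orderOf_eq_one_iff.mp h) hs1
    · exact h
  have hex : ∀ a : G, ∃ k : ℤ, a * s ^ (-k) ∈ N := by
    intro a
    have : (QuotientGroup.mk a : G ⧸ N) ∈ Subgroup.zpowers (QuotientGroup.mk s : G ⧸ N) := by
      rw [htop]; trivial
    obtain ⟨k, hk⟩ := Subgroup.mem_zpowers_iff.mp this
    refine ⟨k, ?_⟩
    rw [← QuotientGroup.eq_one_iff, QuotientGroup.mk_mul, QuotientGroup.mk_zpow, ← hk, zpow_neg,
      mul_inv_cancel]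
  choose k hk using hex
  have huniq : ∀ (a : G) (i j : ℤ), a * s ^ (-i) ∈ N → a * s ^ (-j) ∈ N → (p : ℤ) ∣ j - i := by
    intro a i j hi hj
    have h1 : s ^ (j - i) ∈ N := by
      have : s ^ (j - i) = (a * s ^ (-j))⁻¹ * (a * s ^ (-i)) := by group
      rw [this]; exact mul_mem (inv_mem hj) hi
    have h2 : (QuotientGroup.mk s : G ⧸ N) ^ (j - i) = 1 := by
      rw [← QuotientGroup.mk_zpow]; exact (QuotientGroup.eq_one_iff _).mpr h1
    have := orderOf_dvd_iff_zpow_eq_one.mpr h2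
    rwa [hord] at this
  have hDN : ∀ i, D s y i ∈ N := fun i => (D_mem N s y hyN hyc i).1
  have hDc : ∀ i, ∀ n ∈ N, n * D s y i = D s y i * n := fun i n hn =>
    Subgroup.mem_centralizer_iff.mp (D_mem N s y hyN hyc i).2 n hn
  have htp : ∀ m : ℤ, (s * y) ^ ((p : ℤ) * m) = s ^ ((p : ℤ) * m) := by
    intro m
    rw [zpow_mul, zpow_mul, zpow_natCast, zpow_natCast, hpow]
  have hDper : ∀ i m : ℤ, D s y (i + p * m) = D s y i := by
    intro i m
    simp only [D]
    calc s ^ (-(i + (p : ℤ) * m)) * (s * y) ^ (i + (p : ℤ) * m)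
        = (s ^ (-i) * s ^ (-((p : ℤ) * m))) * ((s * y) ^ ((p : ℤ) * m) * (s * y) ^ i) := by
          rw [neg_add, zpow_add, add_comm i, zpow_add]
      _ = s ^ (-i) * (s * y) ^ i := by
          rw [htp m, zpow_neg s ((p : ℤ) * m), mul_assoc, inv_mul_cancel_left]
  have hK : ∀ (a : G) (i : ℤ), a * s ^ (-i) ∈ N → D s y (k a) = D s y i := by
    intro a i hi
    obtain ⟨m, hm⟩ := huniq a i (k a) hi (hk a)
    have : k a = i + p * m := by omega
    rw [this, hDper]
  have hmul : ∀ a b : G,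
      (a * b) * D s y (k (a * b)) = (a * D s y (k a)) * (b * D s y (k b)) := by
    intro a b
    have hab : (a * b) * s ^ (-(k a + k b)) ∈ N := by
      have h1 : (a * b) * s ^ (-(k a + k b))
          = (a * s ^ (-(k a))) * (s ^ (k a) * (b * s ^ (-(k b))) * (s ^ (k a))⁻¹) := by group
      rw [h1]
      exact mul_mem (hk a) (Subgroup.Normal.conj_mem inferInstance _ (hk b) _)
    rw [hK (a * b) _ hab, D_add]
    have hc := hDc (k a) _ (hk b)
    calc a * b * (s ^ (-(k b)) * D s y (k a) * s ^ (k b) * D s y (k b))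
        = a * ((b * s ^ (-(k b))) * D s y (k a)) * s ^ (k b) * D s y (k b) := by
          simp only [mul_assoc]
      _ = a * (D s y (k a) * (b * s ^ (-(k b)))) * s ^ (k b) * D s y (k b) := by rw [hc]
      _ = a * D s y (k a) * (b * D s y (k b)) := by
          simp only [mul_assoc]; rw [zpow_neg, inv_mul_cancel_left]
  obtain ⟨τ₀, hτ₀⟩ : ∃ τ₀ : G →* G, ∀ a, τ₀ a = a * D s y (k a) :=
    ⟨MonoidHom.mk' (fun a => a * D s y (k a)) hmul, fun a => rfl⟩
  have hτN : ∀ n ∈ N, τ₀ n = n := by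
    intro n hn
    rw [hτ₀, hK n 0 (by simpa using hn), D_zero, mul_one]
  have hinj : Function.Injective τ₀ := by
    rw [injective_iff_map_eq_one]
    intro a ha
    have haN : a ∈ N := by
      rw [hτ₀] at ha
      have : a = (D s y (k a))⁻¹ := eq_inv_of_mul_eq_one_left ha
      rw [this]; exact inv_mem (hDN _)
    rw [hτN a haN] at ha; exact ha
  have hsurj : Function.Surjective τ₀ := by
    intro a
    refine ⟨a * (D s y (k a))⁻¹, ?_⟩
    have h1 : (a * (D s y (k a))⁻¹) * s ^ (-(k a)) ∈ N := by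
      have : (a * (D s y (k a))⁻¹) * s ^ (-(k a))
          = (a * s ^ (-(k a))) * (s ^ (k a) * (D s y (k a))⁻¹ * (s ^ (k a))⁻¹) := by group
      rw [this]
      exact mul_mem (hk a) (Subgroup.Normal.conj_mem inferInstance _ (inv_mem (hDN _)) _)
    rw [hτ₀, hK _ _ h1, inv_mul_cancel_right]
  refine ⟨MulEquiv.ofBijective τ₀ ⟨hinj, hsurj⟩, ?_, ?_⟩
  · show τ₀ s = s * y
    rw [hτ₀, hK s 1 (by simp), D_one]
  · intro n hn; exact hτN n hn

end Cfsg.Agent.Lib.Helper16.S4067B
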