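import Mathlib

/-!
# S4067 FO-C (helper16): the `p`-power map in a group with central cyclic commutators, `p` odd.
-/

set_option autoImplicit false

namespace Cfsg.Agent.Lib.Helper16.S4067C

variable {G : Type*} [Group G]

/-- `b^n * a = z^n * a * b^n` when `b * a = z * a * b`, `z` central. -/
theorem pow_mul_comm_z (a b z : G) (hz : ∀ g : G, g * z = z * g) (hba : b * a = z * a * b) (n : ℕ) :
    b ^ n * a = z ^ n * a * b ^ n := by
  induction n with
  | zero => simp
  | succ n ih =>
    calc b ^ (n + 1) * a = b ^ n * (b * a) := by rw [pow_succ, mul_assoc]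
      _ = b ^ n * (z * a * b) := by rw [hba]
      _ = z * (b ^ n * a) * b := by
        rw [mul_assoc z a b, ← mul_assoc (b ^ n) z, hz (b ^ n), mul_assoc z, mul_assoc z, mul_assoc]
      _ = z * (z ^ n * a * b ^ n) * b := by rw [ih]
      _ = z ^ (n + 1) * a * b ^ (n + 1) := by
        rw [pow_succ' z, pow_succ b]
        simp only [mul_assoc]

/-- `(a b)^n = a^n b^n z^(Σ_{i<n} i)` when `b * a = z * a * b`, `z` central. -/
theorem mul_pow_z (a b z : G) (hz : ∀ g : G, g * z = z * g) (hba : b * a = z * a * b) (n : ℕ) :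
    (a * b) ^ n = a ^ n * b ^ n * z ^ (∑ i ∈ Finset.range n, i) := by
  induction n with
  | zero => simp
  | succ n ih =>
    have hzp : ∀ (k : ℕ) (g : G), g * z ^ k = z ^ k * g := by
      intro k g
      exact ((Commute.pow_right (show Commute g z from hz g) k)).eq
    calc (a * b) ^ (n + 1) = (a * b) ^ n * (a * b) := pow_succ _ _
      _ = a ^ n * b ^ n * z ^ (∑ i ∈ Finset.range n, i) * (a * b) := by rw [ih]
      _ = a ^ n * (b ^ n * a) * b * z ^ (∑ i ∈ Finset.range n, i) := by
        rw [mul_assoc (a ^ n * b ^ n), ← hzp _ (a * b)]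
        simp only [mul_assoc]
      _ = a ^ n * (z ^ n * a * b ^ n) * b * z ^ (∑ i ∈ Finset.range n, i) := by
        rw [pow_mul_comm_z a b z hz hba n]
      _ = a ^ (n + 1) * b ^ (n + 1) * z ^ (∑ i ∈ Finset.range (n + 1), i) := by
        have e1 : a ^ n * (z ^ n * a * b ^ n) * b * z ^ (∑ i ∈ Finset.range n, i)
            = z ^ n * (a ^ (n + 1) * b ^ (n + 1) * z ^ (∑ i ∈ Finset.range n, i)) := by
          rw [pow_succ a, pow_succ b]
          calc a ^ n * (z ^ n * a * b ^ n) * b * z ^ (∑ i ∈ Finset.range n, i)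
              = (a ^ n * z ^ n) * a * b ^ n * b * z ^ (∑ i ∈ Finset.range n, i) := by
                simp only [mul_assoc]
            _ = (z ^ n * a ^ n) * a * b ^ n * b * z ^ (∑ i ∈ Finset.range n, i) := by
                rw [hzp n (a ^ n)]
            _ = z ^ n * (a ^ n * a * (b ^ n * b) * z ^ (∑ i ∈ Finset.range n, i)) := by
                simp only [mul_assoc]
        rw [e1, ← hzp n, mul_assoc, ← pow_add, Finset.sum_range_succ]

theorem FOC_exists_odd [Finite G] (p : ℕ) (hp : p.Prime) (hodd : p ≠ 2) (c : G)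
    (hc : c ^ p = 1) (hcZ : c ∈ Subgroup.center G)
    (hcomm : ∀ a b : G, a * b * a⁻¹ * b⁻¹ ∈ Subgroup.zpowers c)
    (hidx : p ^ 2 ≤ (Subgroup.center G).index) :
    ∃ y : G, y ∉ Subgroup.zpowers c ∧ ∀ x : G, (x * y) ^ p = x ^ p := by
  classical
  -- every element of `⟨c⟩` is central with trivial `p`-th power
  have hzc : ∀ z ∈ Subgroup.zpowers c, (∀ g : G, g * z = z * g) ∧ z ^ p = 1 := by
    intro z hz
    obtain ⟨k, rfl⟩ := Subgroup.mem_zpowers_iff.mp hz
    refine ⟨fun g => ?_, ?_⟩
    · have : c ^ k ∈ Subgroup.center G := Subgroup.zpow_mem _ hcZ k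
      exact (Subgroup.mem_center_iff.mp this g)
    · rw [← zpow_natCast, ← zpow_mul, mul_comm, zpow_mul, zpow_natCast, hc, one_zpow]
  -- `p ∣ Σ_{i<p} i`
  have hpsum : p ∣ ∑ i ∈ Finset.range p, i := by
    have h2 : (∑ i ∈ Finset.range p, i) * 2 = p * (p - 1) := Finset.sum_range_id_mul_two p
    have hcop : Nat.Coprime p 2 := by
      rw [Nat.coprime_primes hp Nat.prime_two]; exact hodd
    exact hcop.dvd_of_dvd_mul_right (h2 ▸ Dvd.intro _ rfl)
  -- the `p`-power map is multiplicative
  have hmul : ∀ a b : G, (a * b) ^ p = a ^ p * b ^ p := by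
    intro a b
    have hz := hzc _ (hcomm b a)
    have hba : b * a = (b * a * b⁻¹ * a⁻¹) * a * b := by group
    rw [mul_pow_z a b _ hz.1 hba p]
    obtain ⟨m, hm⟩ := hpsum
    rw [hm, pow_mul, hz.2, one_pow, mul_one]
  let φ : G →* G := MonoidHom.mk' (fun x => x ^ p) hmul
  have hφ : ∀ x, φ x = x ^ p := fun x => rfl
  -- range in the centre
  have hrange : φ.range ≤ Subgroup.center G := by
    rintro _ ⟨x, rfl⟩
    rw [hφ, Subgroup.mem_center_iff]
    intro g
    have hw := hzc _ (hcomm g x)
    have h1 : g * x * g⁻¹ = (g * x * g⁻¹ * x⁻¹) * x := by group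
    have h2 : (g * x * g⁻¹) ^ p = x ^ p := by
      rw [h1, (show Commute (g * x * g⁻¹ * x⁻¹) x from (hw.1 x).symm).mul_pow, hw.2, one_mul]
    have h3 : (g * x * g⁻¹) ^ p = g * x ^ p * g⁻¹ := by
      rw [← conj_pow]
    rw [h3] at h2
    calc g * x ^ p = g * x ^ p * g⁻¹ * g := by group
      _ = x ^ p * g := by rw [h2]
  -- counting
  have hcard1 : Nat.card φ.ker * Nat.card φ.range = Nat.card G := by
    rw [← Subgroup.index_ker, Subgroup.card_mul_index]
  have hcard2 : Nat.card (Subgroup.center G) * (Subgroup.center G).index = Nat.card G :=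
    Subgroup.card_mul_index _
  have hle : Nat.card φ.range ≤ Nat.card (Subgroup.center G) := Subgroup.card_le_of_le hrange
  have hpos : 0 < Nat.card φ.range := Nat.card_pos
  have hker : p ^ 2 ≤ Nat.card φ.ker := by
    by_contra hlt
    push Not at hlt
    have : Nat.card φ.ker * Nat.card φ.range < Nat.card (Subgroup.center G) * (Subgroup.center G).index := by
      calc Nat.card φ.ker * Nat.card φ.range < p ^ 2 * Nat.card φ.range :=
            Nat.mul_lt_mul_of_pos_right hlt hpos
        _ ≤ (Subgroup.center G).index * Nat.card (Subgroup.center G) :=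
            Nat.mul_le_mul hidx hle
        _ = _ := mul_comm _ _
    rw [hcard1, hcard2] at this
    exact lt_irrefl _ this
  have hzp : Nat.card (Subgroup.zpowers c) ≤ p := by
    rw [Nat.card_zpowers]
    exact Nat.le_of_dvd hp.pos (orderOf_dvd_of_pow_eq_one hc)
  have hnot : ¬ φ.ker ≤ Subgroup.zpowers c := by
    intro hle'
    have h1 := Subgroup.card_le_of_le hle'
    have h2 : p < p ^ 2 := by
      have := hp.one_lt
      nlinarith
    omega
  obtain ⟨y, hyker, hy⟩ := SetLike.not_le_iff_exists.mp hnot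
  refine ⟨y, hy, fun x => ?_⟩
  have : y ^ p = 1 := by
    have := MonoidHom.mem_ker.mp hyker
    rwa [hφ] at this
  rw [hmul, this, mul_one]

end Cfsg.Agent.Lib.Helper16.S4067C
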