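import Mathlib

/-!
# S4067 FO-D (helper16): a 2-group-like situation: `c` a central involution, all commutators in `{1, c}`.
-/

set_option autoImplicit false

namespace Cfsg.Agent.Lib.Helper16.S4067D

open scoped IsMulCommutative

variable {G : Type*} [Group G]

theorem FOD_exists_two [Finite G] (c : G) (hc : orderOf c = 2)
    (hcZ : c ∈ Subgroup.center G)
    (hcomm : ∀ a b : G, a * b * a⁻¹ * b⁻¹ = 1 ∨ a * b * a⁻¹ * b⁻¹ = c)
    (hna : ∃ a b : G, a * b * a⁻¹ * b⁻¹ ≠ 1) (hidx : 4 ≤ (Subgroup.center G).index) :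
    (∃ y ∈ Subgroup.center G, y ^ 2 = 1 ∧ y ≠ 1 ∧ y ≠ c) ∨
      (∃ y : G, y ∉ Subgroup.center G ∧ y ^ 2 = c) := by
  classical
  by_contra hcon
  rw [not_or] at hcon
  obtain ⟨hno1, hno2⟩ := hcon
  have hno1' : ∀ y ∈ Subgroup.center G, y ^ 2 = 1 → y = 1 ∨ y = c := by
    intro y hy hy2
    by_contra h
    rw [not_or] at h
    exact hno1 ⟨y, hy, hy2, h.1, h.2⟩
  have hno2' : ∀ y : G, y ∉ Subgroup.center G → y ^ 2 ≠ c := fun y hy h => hno2 ⟨y, hy, h⟩
  have hc1 : c ≠ 1 := by
    intro h; rw [h, orderOf_one] at hc; omega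
  have hc2 : c ^ 2 = 1 := by rw [← hc]; exact pow_orderOf_eq_one c
  -- commutators are central of square one
  have hw : ∀ a b : G, (a * b * a⁻¹ * b⁻¹) ∈ Subgroup.center G ∧ (a * b * a⁻¹ * b⁻¹) ^ 2 = 1 := by
    intro a b
    rcases hcomm a b with h | h
    · rw [h]; exact ⟨one_mem _, one_pow _⟩
    · rw [h]; exact ⟨hcZ, hc2⟩
  have hcomm1 : ∀ a b : G, b * a = a * b → a * b * a⁻¹ * b⁻¹ = 1 := by
    intro a b h
    calc a * b * a⁻¹ * b⁻¹ = (b * a) * a⁻¹ * b⁻¹ := by rw [h]
      _ = 1 := by group
  -- squares are central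
  have hsqZ : ∀ x : G, x ^ 2 ∈ Subgroup.center G := by
    intro x
    rw [Subgroup.mem_center_iff]
    intro g
    have hwgx := hw g x
    have h1 : g * x * g⁻¹ = (g * x * g⁻¹ * x⁻¹) * x := by group
    have hcm : Commute (g * x * g⁻¹ * x⁻¹) x := ((Subgroup.mem_center_iff.mp hwgx.1) x).symm
    have h2 : (g * x * g⁻¹) ^ 2 = x ^ 2 := by
      rw [h1, hcm.mul_pow, hwgx.2, one_mul]
    have h3 : (g * x * g⁻¹) ^ 2 = g * x ^ 2 * g⁻¹ := by rw [← conj_pow]
    rw [h3] at h2
    calc g * x ^ 2 = g * x ^ 2 * g⁻¹ * g := by group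
      _ = x ^ 2 * g := by rw [h2]
  choose sq hsq using
    (fun x : G => (⟨⟨x ^ 2, hsqZ x⟩, rfl⟩ : ∃ s : Subgroup.center G, (s : G) = x ^ 2))
  obtain ⟨c', hc'⟩ : ∃ c' : Subgroup.center G, (c' : G) = c := ⟨⟨c, hcZ⟩, rfl⟩
  have hc'2 : c' ^ 2 = 1 := Subtype.ext (by simpa [hc'] using hc2)
  have hc'inv : c'⁻¹ = c' := by
    apply inv_eq_of_mul_eq_one_right
    rw [← pow_two]; exact hc'2
  obtain ⟨σ, hσ⟩ : ∃ σ : Subgroup.center G →* Subgroup.center G, ∀ w, σ w = w ^ 2 :=
    ⟨(powMonoidHom 2 : Subgroup.center G →* Subgroup.center G), fun w => powMonoidHom_apply 2 w⟩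
  have hker : σ.ker = Subgroup.zpowers c' := by
    apply le_antisymm
    · intro w hwk
      have h1 : w ^ 2 = 1 := by
        have := MonoidHom.mem_ker.mp hwk
        rwa [hσ] at this
      have h2 : (w : G) ^ 2 = 1 := by
        have := congrArg Subtype.val h1
        simpa using this
      rcases hno1' w w.2 h2 with h | h
      · have : w = 1 := Subtype.ext h
        rw [this]; exact one_mem _
      · have : w = c' := Subtype.ext (by rw [h, hc'])
        rw [this]; exact Subgroup.mem_zpowers c'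
    · rw [Subgroup.zpowers_le, MonoidHom.mem_ker, hσ]
      exact hc'2
  have hkcard : Nat.card σ.ker = 2 := by
    rw [hker, Nat.card_zpowers, ← Subgroup.orderOf_coe, hc']
    exact hc
  have hidx2 : σ.range.index = 2 := by
    have h1 : Nat.card σ.ker * σ.ker.index = Nat.card (Subgroup.center G) :=
      Subgroup.card_mul_index _
    have h2 : σ.ker.index = Nat.card σ.range := Subgroup.index_ker σ
    have h3 : Nat.card σ.range * σ.range.index = Nat.card (Subgroup.center G) :=
      Subgroup.card_mul_index _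
    have hpos : 0 < Nat.card σ.range := Nat.card_pos
    rw [hkcard, h2] at h1
    have : Nat.card σ.range * σ.range.index = Nat.card σ.range * 2 := by
      rw [h3, ← h1, mul_comm]
    exact Nat.eq_of_mul_eq_mul_left hpos this
  have hP : ∀ u v : Subgroup.center G, u ∉ σ.range → v ∉ σ.range → u * v ∈ σ.range := by
    intro u v hu hv
    exact (Subgroup.mul_mem_iff_of_index_two hidx2).mpr (iff_of_false hu hv)
  have key : ∀ x : G, x ∉ Subgroup.center G → ∀ t : Subgroup.center G, sq x * t ^ 2 ≠ c' := by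
    intro x hx t hxt
    have hy : x * (t : G) ∉ Subgroup.center G := by
      intro h
      apply hx
      have : x = x * (t : G) * ((t : G))⁻¹ := by group
      rw [this]
      exact mul_mem h (inv_mem t.2)
    apply hno2' _ hy
    have hcm : Commute x (t : G) := (Subgroup.mem_center_iff.mp t.2 x)
    rw [hcm.mul_pow]
    have := congrArg Subtype.val hxt
    simpa [hsq, hc'] using this
  have hsqmul : ∀ a b : G, ∃ z : Subgroup.center G, (z : G) = a⁻¹ * b * a * b⁻¹ ∧
      sq (a * b) = sq a * sq b * z := by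
    intro a b
    have hz := hw a⁻¹ b
    rw [inv_inv] at hz
    refine ⟨⟨a⁻¹ * b * a * b⁻¹, hz.1⟩, rfl, ?_⟩
    apply Subtype.ext
    simp only [Subgroup.coe_mul, hsq]
    have h1 : (a * b) ^ 2 = a ^ 2 * (a⁻¹ * b * a * b⁻¹) * b ^ 2 := by
      simp only [pow_two]; group
    rw [h1, mul_assoc (a ^ 2), mul_assoc (a ^ 2)]
    congr 1
    exact (Subgroup.mem_center_iff.mp hz.1 (b ^ 2)).symm
  by_cases hA : c' ∈ σ.range
  · obtain ⟨w0, hw0⟩ := hA
    have hw0' : w0 ^ 2 = c' := by rw [← hσ]; exact hw0
    by_cases hA1 : ∃ x : G, x ∉ Subgroup.center G ∧ sq x ∈ σ.range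
    · obtain ⟨x, hx, v, hv⟩ := hA1
      rw [hσ] at hv
      apply key x hx (v⁻¹ * w0)
      rw [← hv, mul_pow, inv_pow, mul_inv_cancel_left, hw0']
    · push Not at hA1
      have hcardQ : 4 ≤ Nat.card (G ⧸ Subgroup.center G) := by
        rwa [← Subgroup.index_eq_card]
      let _ : Fintype (G ⧸ Subgroup.center G) := Fintype.ofFinite _
      rw [Nat.card_eq_fintype_card] at hcardQ
      obtain ⟨q1, -, hq1⟩ := Finset.exists_mem_notMem_of_card_lt_card
        (s := {(1 : G ⧸ Subgroup.center G)}) (t := Finset.univ)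
        (by rw [Finset.card_singleton, Finset.card_univ]; omega)
      obtain ⟨q2, -, hq2⟩ := Finset.exists_mem_notMem_of_card_lt_card
        (s := {(1 : G ⧸ Subgroup.center G), q1⁻¹}) (t := Finset.univ)
        (by
          have := Finset.card_le_two (a := (1 : G ⧸ Subgroup.center G)) (b := q1⁻¹)
          rw [Finset.card_univ]; omega)
      obtain ⟨x1, rfl⟩ := QuotientGroup.mk_surjective q1
      obtain ⟨x2, rfl⟩ := QuotientGroup.mk_surjective q2
      have hx1 : x1 ∉ Subgroup.center G := by
        intro h; apply hq1; rw [Finset.mem_singleton]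
        exact (QuotientGroup.eq_one_iff x1).mpr h
      have hx2 : x2 ∉ Subgroup.center G := by
        intro h; apply hq2; rw [Finset.mem_insert]; left
        exact (QuotientGroup.eq_one_iff x2).mpr h
      have hx12 : x1 * x2 ∉ Subgroup.center G := by
        intro h
        apply hq2
        rw [Finset.mem_insert, Finset.mem_singleton]; right
        have : (QuotientGroup.mk x1 : G ⧸ Subgroup.center G) * QuotientGroup.mk x2 = 1 := by
          rw [← QuotientGroup.mk_mul]; exact (QuotientGroup.eq_one_iff _).mpr h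
        exact eq_inv_of_mul_eq_one_right this
      obtain ⟨z, hz, hz12⟩ := hsqmul x1 x2
      have hzr : z ∈ σ.range := by
        have := hcomm x1⁻¹ x2
        rw [inv_inv] at this
        rcases this with h | h
        · have : z = 1 := Subtype.ext (by rw [hz, h]; rfl)
          rw [this]; exact one_mem _
        · have : z = c' := Subtype.ext (by rw [hz, h, hc'])
          rw [this]; exact ⟨w0, hw0⟩
      apply hA1 (x1 * x2) hx12
      rw [hz12]
      exact mul_mem (hP _ _ (hA1 x1 hx1) (hA1 x2 hx2)) hzr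
  · obtain ⟨a, b, hab⟩ := hna
    have hL : ∀ x : G, x ∉ Subgroup.center G → sq x ∈ σ.range := by
      intro x hx
      by_contra hxr
      obtain ⟨v, hv⟩ := hP _ _ hxr hA
      rw [hσ] at hv
      apply key x hx v⁻¹
      rw [inv_pow, hv, mul_inv, mul_inv_cancel_left, hc'inv]
    have ha : a ∉ Subgroup.center G := by
      intro h
      exact hab (hcomm1 a b (Subgroup.mem_center_iff.mp h b))
    have hb : b ∉ Subgroup.center G := by
      intro h
      exact hab (hcomm1 a b (Subgroup.mem_center_iff.mp h a).symm)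
    have hab' : a * b ∉ Subgroup.center G := by
      intro h
      have h1 := Subgroup.mem_center_iff.mp h b
      have h2 : b * a = a * b := by
        apply mul_right_cancel (b := b)
        rw [mul_assoc, h1]
      exact hab (hcomm1 a b h2)
    obtain ⟨z, hz, hzab⟩ := hsqmul a b
    have hzc : z = c' := by
      apply Subtype.ext
      rw [hz, hc']
      have := hcomm a⁻¹ b
      rw [inv_inv] at this
      rcases this with h | h
      · exfalso
        have h2 : b * a = a * b := by
          calc b * a = a * (a⁻¹ * b * a * b⁻¹) * b := by group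
            _ = a * b := by rw [h, mul_one]
        exact hab (hcomm1 a b h2)
      · exact h
    obtain ⟨v, hv⟩ := mul_mem (hL a ha) (hL b hb)
    rw [hσ] at hv
    apply key (a * b) hab' v⁻¹
    rw [hzab, hzc, inv_pow, hv, mul_comm, inv_mul_cancel_left]

end Cfsg.Agent.Lib.Helper16.S4067D
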