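import Mathlib
import Cfsg.Prelude.Def_GeometricClasses
import Cfsg.Agent.Lib.Helper7.AschDefs
import Cfsg.Agent.Lib.Helper14.S5630CoreAB
import Cfsg.Agent.Lib.Helper16.AschC6ADefs

/-!
# S5630 block I6 half A: pieces A0 (toSG), A1 (sg_not_comm), A2 (sg_mul_pow_kk), A3 (sg_exists_omega), A4 (omega_norm),
A7 (isPGroup_omega)  (helper16)
-/

set_option autoImplicit false

namespace Cfsg.Agent.Lib.Helper16.S5630I6AB

open Matrix Cfsg.Geo Cfsg.Agent.Lib.Helper7.Asch Cfsg.Agent.Lib.Helper16.AschC6A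
open scoped commutatorElement

variable {F : Type*} [Field F] {n : ℕ} {H N G R : Subgroup (GL (Fin n) F)} {r : ℕ}

/-- scalars are central -/
theorem scalar_comm' (s : GL (Fin n) F) (hs : s ∈ scalars (Fin n) F) (x : GL (Fin n) F) : s * x = x * s := by
  obtain ⟨c, hc⟩ := (mem_scalars_iff s).1 hs
  apply Units.ext
  simp only [Units.val_mul, hc, Matrix.smul_mul, Matrix.mul_smul, Matrix.one_mul, Matrix.mul_one]

theorem sg_not_comm (hn : 2 ≤ n) (hG : SG H G r) : ∃ x ∈ G, ∃ y ∈ G, x * y ≠ y * x := by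
  by_contra h
  push Not at h
  exact Cfsg.Agent.Lib.Helper14.S5630Core.not_absIrr_of_comm hn G h hG.absIrr

theorem kk_two' : kk 2 = 4 := by decide

theorem kk_odd' (hr : r.Prime) (h2 : r ≠ 2) : kk r = r := by
  unfold kk
  have : Nat.gcd 2 r = 1 := by
    rw [Nat.coprime_primes Nat.prime_two hr |>.mpr (Ne.symm h2)]
  rw [this, mul_one]

/-- class-2 power formulas for a central commutator `c` with `y * x = c * (x * y)` -/
theorem pow_mul_comm_central {M : Type*} [Monoid M] (x y c : M) (hc : ∀ z, c * z = z * c) (h : y * x = c * (x * y)) (m : ℕ) :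
    y ^ m * x = c ^ m * (x * y ^ m) := by
  induction m with
  | zero => simp
  | succ m ih =>
    calc y ^ (m + 1) * x = y ^ m * (y * x) := by rw [pow_succ, mul_assoc]
      _ = y ^ m * (c * (x * y)) := by rw [h]
      _ = c * (y ^ m * x * y) := by rw [← mul_assoc (y ^ m), ← hc, mul_assoc, mul_assoc]
      _ = c * (c ^ m * (x * y ^ m) * y) := by rw [ih]
      _ = c ^ (m + 1) * (x * y ^ (m + 1)) := by
        rw [pow_succ' c, pow_succ y]; simp only [mul_assoc]

theorem mul_pow_central {M : Type*} [Monoid M] (x y c : M) (hc : ∀ z, c * z = z * c) (h : y * x = c * (x * y)) (m : ℕ) :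
    (x * y) ^ m = c ^ (m * (m - 1) / 2) * (x ^ m * y ^ m) := by
  induction m with
  | zero => simp
  | succ m ih =>
    have hcm : ∀ (k : ℕ) z, c ^ k * z = z * c ^ k := by
      intro k z
      induction k with
      | zero => simp
      | succ k ihk => rw [pow_succ, mul_assoc, hc, ← mul_assoc, ihk, mul_assoc]
    have e : (m + 1) * (m + 1 - 1) / 2 = m * (m - 1) / 2 + m := by
      have h2 : (m + 1) * (m + 1 - 1) = m * (m - 1) + 2 * m := by
        cases m with
        | zero => rfl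
        | succ k => simp only [Nat.add_sub_cancel]; ring
      rw [h2, Nat.add_mul_div_left _ _ (by norm_num : 0 < 2)]
    calc (x * y) ^ (m + 1) = (x * y) ^ m * (x * y) := pow_succ _ _
      _ = c ^ (m * (m - 1) / 2) * (x ^ m * y ^ m) * (x * y) := by rw [ih]
      _ = c ^ (m * (m - 1) / 2) * (x ^ m * (y ^ m * x) * y) := by simp only [mul_assoc]
      _ = c ^ (m * (m - 1) / 2) * (x ^ m * (c ^ m * (x * y ^ m)) * y) := by rw [pow_mul_comm_central x y c hc h m]
      _ = c ^ (m * (m - 1) / 2) * (c ^ m * (x ^ m * (x * y ^ m)) * y) := by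
        rw [← mul_assoc (x ^ m) (c ^ m), ← hcm m (x ^ m), mul_assoc (c ^ m)]
      _ = c ^ ((m + 1) * (m + 1 - 1) / 2) * (x ^ (m + 1) * y ^ (m + 1)) := by
        rw [e, pow_add, pow_succ x, pow_succ y]; simp only [mul_assoc]

/-- the commutator `c = ⁅y, x⁆` of two elements of `G`: central, `y x = c x y`, `c ^ r = 1` -/
theorem sg_comm_pow (hG : SG H G r) (x y : GL (Fin n) F) (hx : x ∈ G) (hy : y ∈ G) :
    ⁅y, x⁆ ^ r = 1 := by
  have hc : ∀ z, ⁅y, x⁆ * z = z * ⁅y, x⁆ := scalar_comm' _ (hG.comm y hy x hx)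
  have h : y * x = ⁅y, x⁆ * (x * y) := by rw [commutatorElement_def]; group
  have h1 := pow_mul_comm_central x y ⁅y, x⁆ hc h r
  have h2 : y ^ r * x = x * y ^ r := scalar_comm' _ (hG.pow y hy) x
  rw [h2] at h1
  exact (mul_eq_right.1 h1.symm)

theorem sg_mul_pow_kk (hG : SG H G r) (x y : GL (Fin n) F) (hx : x ∈ G) (hy : y ∈ G) :
    (x * y) ^ kk r = x ^ kk r * y ^ kk r := by
  have hc : ∀ z, ⁅y, x⁆ * z = z * ⁅y, x⁆ := scalar_comm' _ (hG.comm y hy x hx)
  have h : y * x = ⁅y, x⁆ * (x * y) := by rw [commutatorElement_def]; group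
  have hcr := sg_comm_pow hG x y hx hy
  rw [mul_pow_central x y ⁅y, x⁆ hc h (kk r)]
  have : ⁅y, x⁆ ^ (kk r * (kk r - 1) / 2) = 1 := by
    by_cases h2 : r = 2
    · subst h2
      rw [kk_two']
      have : (4 * (4 - 1) / 2 : ℕ) = 2 * 3 := by norm_num
      rw [this, pow_mul, hcr, one_pow]
    · rw [kk_odd' hG.prime h2]
      have hodd : Odd r := hG.prime.odd_of_ne_two h2
      obtain ⟨t, ht⟩ := hodd
      have : r * (r - 1) / 2 = r * t := by
        have : r - 1 = 2 * t := by omega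
        rw [this, ← mul_assoc, mul_comm r 2, mul_assoc, Nat.mul_div_cancel_left _ (by norm_num : 0 < 2)]
      rw [this, pow_mul, hcr, one_pow]
  rw [this, one_mul]

theorem sg_exists_omega (hG : SG H G r) : ∃ R : Subgroup (GL (Fin n) F), IsOmega G R r := by
  refine ⟨{ carrier := {x | x ∈ G ∧ x ^ kk r = 1}
            mul_mem' := ?_
            one_mem' := ⟨G.one_mem, one_pow _⟩
            inv_mem' := ?_ }, fun x => Iff.rfl⟩
  · rintro a b ⟨ha, ha1⟩ ⟨hb, hb1⟩
    exact ⟨G.mul_mem ha hb, by rw [sg_mul_pow_kk hG a b ha hb, ha1, hb1, one_mul]⟩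
  · rintro a ⟨ha, ha1⟩
    exact ⟨G.inv_mem ha, by rw [inv_pow, ha1, inv_one]⟩

theorem omega_norm (hG : SG H G r) (hR : IsOmega G R r) : NormBy H R := by
  intro h hh x hx
  obtain ⟨hxG, hx1⟩ := (hR x).1 hx
  refine (hR _).2 ⟨hG.norm h hh x hxG, ?_⟩
  rw [conj_pow, hx1, mul_one, mul_inv_cancel]

theorem omega_le (hR : IsOmega G R r) : R ≤ G := fun x hx => ((hR x).1 hx).1

theorem isPGroup_omega (hG : SG H G r) (hR : IsOmega G R r) : IsPGroup r R := by
  intro x
  have hx1 : (x : GL (Fin n) F) ^ kk r = 1 := ((hR x).1 x.2).2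
  by_cases h2 : r = 2
  · subst h2
    refine ⟨2, ?_⟩
    apply Subtype.ext
    rw [kk_two'] at hx1
    simpa using hx1
  · refine ⟨1, ?_⟩
    apply Subtype.ext
    rw [kk_odd' hG.prime h2] at hx1
    simpa using hx1

theorem scalars_normal : (scalars (Fin n) F).Normal := by
  constructor
  intro s hs g
  rw [← scalar_comm' s hs g, mul_inv_cancel_right]
  exact hs

/-- elements of `N ⊔ S` -/
theorem mem_sup_scalars {N : Subgroup (GL (Fin n) F)} {x : GL (Fin n) F} (hx : x ∈ N ⊔ scalars (Fin n) F) :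
    ∃ a ∈ N, ∃ s ∈ scalars (Fin n) F, x = a * s := by
  have := scalars_normal (F := F) (n := n)
  obtain ⟨a, ha, s, hs, rfl⟩ := Subgroup.mem_sup_of_normal_right.1 hx
  exact ⟨a, ha, s, hs, rfl⟩

theorem toSG (hQP : QP H) (hNH : N ≤ H) (hnorm : NormBy H N) (hNs : ¬ N ≤ scalars (Fin n) F)
    (hmin : ∀ K : Subgroup (GL (Fin n) F), K ≤ N → NormBy H K → K ≤ scalars (Fin n) F ∨ K = N) (hr : r.Prime)
    (hpow : ∀ x ∈ N, x ^ r ∈ scalars (Fin n) F) (hcomm : ∀ x ∈ N, ∀ y ∈ N, ⁅x, y⁆ ∈ scalars (Fin n) F) :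
    SG H (N ⊔ scalars (Fin n) F) r := by
  have hNabs : AbsIrr N := (hQP N hNH hnorm).resolve_left hNs
  have hsub : matrixSet N ⊆ matrixSet (N ⊔ scalars (Fin n) F) := by
    rintro _ ⟨g, hg, rfl⟩
    exact ⟨g, (le_sup_left : N ≤ N ⊔ scalars (Fin n) F) hg, rfl⟩
  refine ⟨hr, le_sup_right, ?_, ?_, ?_, ?_, ?_⟩
  · -- norm
    intro h hh x hx
    obtain ⟨a, ha, s, hs, rfl⟩ := mem_sup_scalars hx
    have : h * (a * s) * h⁻¹ = (h * a * h⁻¹) * s := by
      have e := scalar_comm' s hs h⁻¹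
      calc h * (a * s) * h⁻¹ = h * a * (s * h⁻¹) := by group
        _ = h * a * (h⁻¹ * s) := by rw [e]
        _ = h * a * h⁻¹ * s := by group
    rw [this]
    exact Subgroup.mul_mem _ (Subgroup.mem_sup_left (hnorm h hh a ha)) (Subgroup.mem_sup_right hs)
  · -- absIrr
    refine ⟨fun W hW => hNabs.1 W (fun s hs => hW s (hsub hs)), fun M hM => hNabs.2 M (fun s hs => hM s (hsub hs))⟩
  · -- pow
    intro x hx
    obtain ⟨a, ha, s, hs, rfl⟩ := mem_sup_scalars hx
    have hc : Commute a s := (scalar_comm' s hs a).symm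
    rw [hc.mul_pow]
    exact Subgroup.mul_mem _ (hpow a ha) (Subgroup.pow_mem _ hs r)
  · -- comm
    intro x hx y hy
    obtain ⟨a, ha, s, hs, rfl⟩ := mem_sup_scalars hx
    obtain ⟨b, hb, t, ht, rfl⟩ := mem_sup_scalars hy
    have : ⁅a * s, b * t⁆ = ⁅a, b⁆ := by
      rw [commutatorElement_def, commutatorElement_def]
      have h1 : ∀ z, s * z = z * s := scalar_comm' s hs
      have h2 : ∀ z, t * z = z * t := scalar_comm' t ht
      calc a * s * (b * t) * (a * s)⁻¹ * (b * t)⁻¹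
          = a * (s * (b * t)) * (s⁻¹ * a⁻¹) * (t⁻¹ * b⁻¹) := by rw [_root_.mul_inv_rev, _root_.mul_inv_rev]; group
        _ = a * ((b * t) * s) * (s⁻¹ * a⁻¹) * (t⁻¹ * b⁻¹) := by rw [h1]
        _ = a * b * (t * a⁻¹) * (t⁻¹ * b⁻¹) := by group
        _ = a * b * (a⁻¹ * t) * (t⁻¹ * b⁻¹) := by rw [h2]
        _ = a * b * a⁻¹ * b⁻¹ := by group
    rw [this]
    exact hcomm a ha b hb
  · -- minimal
    intro K hK hKn
    have hK'n : NormBy H ((K ⊔ scalars (Fin n) F) ⊓ N) := by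
      intro h hh x hx
      refine ⟨?_, hnorm h hh x hx.2⟩
      obtain ⟨a, ha, s, hs, rfl⟩ := mem_sup_scalars hx.1
      have : h * (a * s) * h⁻¹ = (h * a * h⁻¹) * s := by
        have e := scalar_comm' s hs h⁻¹
        calc h * (a * s) * h⁻¹ = h * a * (s * h⁻¹) := by group
          _ = h * a * (h⁻¹ * s) := by rw [e]
          _ = h * a * h⁻¹ * s := by group
      rw [this]
      exact Subgroup.mul_mem _ (Subgroup.mem_sup_left (hKn h hh a ha)) (Subgroup.mem_sup_right hs)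
    rcases hmin _ inf_le_right hK'n with h1 | h1
    · left
      intro x hx
      obtain ⟨a, ha, s, hs, rfl⟩ := mem_sup_scalars (hK hx)
      have ha' : a ∈ (K ⊔ scalars (Fin n) F) ⊓ N := by
        refine ⟨?_, ha⟩
        have : a = (a * s) * s⁻¹ := by group
        rw [this]
        exact Subgroup.mul_mem _ (Subgroup.mem_sup_left hx) (Subgroup.mem_sup_right (Subgroup.inv_mem _ hs))
      exact Subgroup.mul_mem _ (h1 ha') hs
    · right
      have : N ≤ K ⊔ scalars (Fin n) F := by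
        rw [← h1]; exact inf_le_left
      exact sup_le this le_sup_right


end Cfsg.Agent.Lib.Helper16.S5630I6AB
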