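import Mathlib
import Cfsg.Prelude.Def_GeometricClasses
import Cfsg.Agent.Lib.Helper7.AschDefs
import Cfsg.Agent.Lib.Helper14.S5630CoreAB
import Cfsg.Agent.Lib.Helper16.AschC6ADefs
import Cfsg.Agent.Lib.Helper16.S5630I6AB

/-!
# S5630 block I6 half A: pieces A8 (exponent_omega), A9 (cyclic_of_char)  (helper16)
-/

set_option autoImplicit false

namespace Cfsg.Agent.Lib.Helper16.S5630I6AC

open Matrix Cfsg.Geo Cfsg.Agent.Lib.Helper7.Asch Cfsg.Agent.Lib.Helper16.AschC6A Cfsg.Agent.Lib.Helper16.S5630I6AB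
open scoped commutatorElement

variable {F : Type*} [Field F] {n : ℕ} {H N G R : Subgroup (GL (Fin n) F)} {r : ℕ}

theorem exponent_omega (hn : 2 ≤ n) (hG : SG H G r) (hR : IsOmega G R r) (habs : AbsIrr R) :
    Monoid.exponent R = kk r := by
  have hdvd : Monoid.exponent R ∣ kk r := by
    apply Monoid.exponent_dvd_of_forall_pow_eq_one
    intro x
    apply Subtype.ext
    simpa using ((hR x).1 x.2).2
  by_contra hne
  -- then the exponent divides 2
  have h2 : Monoid.exponent R ∣ 2 := by
    by_cases hr2 : r = 2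
    · subst hr2
      rw [kk_two'] at hdvd hne
      have h4 : (4 : ℕ) = 2 ^ 2 := by norm_num
      rw [h4] at hdvd
      obtain ⟨k, hk, hk'⟩ := (Nat.dvd_prime_pow Nat.prime_two).1 hdvd
      interval_cases k
      · rw [hk']; norm_num
      · rw [hk']; norm_num
      · exact absurd hk' (by rw [← h4]; exact hne)
    · rw [kk_odd' hG.prime hr2] at hdvd hne
      rcases (Nat.dvd_prime hG.prime).1 hdvd with h1 | h1
      · rw [h1]; exact one_dvd _
      · exact absurd h1 hne
  -- so `R` is commutative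
  have hsq : ∀ x ∈ R, x * x = 1 := by
    intro x hx
    have h1 : (⟨x, hx⟩ : R) ^ Monoid.exponent R = 1 := Monoid.pow_exponent_eq_one _
    obtain ⟨t, ht⟩ := h2
    have h3 : (⟨x, hx⟩ : R) ^ 2 = 1 := by rw [ht, pow_mul, h1, one_pow]
    have h4 := congrArg (Subtype.val) h3
    simpa [pow_two] using h4
  have hcomm : ∀ x ∈ R, ∀ y ∈ R, x * y = y * x := by
    intro x hx y hy
    have hxy := hsq (x * y) (R.mul_mem hx hy)
    have hx2 := hsq x hx
    have hy2 := hsq y hy
    have e1 : x * y = (x * y)⁻¹ := eq_inv_of_mul_eq_one_left hxy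
    have e2 : x = x⁻¹ := eq_inv_of_mul_eq_one_left hx2
    have e3 : y = y⁻¹ := eq_inv_of_mul_eq_one_left hy2
    rw [e1, _root_.mul_inv_rev, ← e2, ← e3]
  exact Cfsg.Agent.Lib.Helper14.S5630Core.not_absIrr_of_comm hn R hcomm habs

/-- the scalars form a cyclic group (`F` finite) -/
theorem isCyclic_scalars [Fintype F] : IsCyclic (scalars (Fin n) F) := by
  unfold scalars
  exact isCyclic_of_surjective (MonoidHom.rangeRestrict _) (MonoidHom.rangeRestrict_surjective _)

theorem cyclic_of_char [Fintype F] (hn : 2 ≤ n) (hG : SG H G r) (hR : IsOmega G R r) :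
    ∀ A : Subgroup R, A.Characteristic → IsMulCommutative A → IsCyclic A := by
  intro A hchar hcommA
  have hnormR := omega_norm hG hR
  -- conjugation by `h ∈ H` as an automorphism of `R`
  have hfix : ∀ (h : GL (Fin n) F) (hh : h ∈ H), ∀ x : R, x ∈ A → (⟨h * x * h⁻¹, hnormR h hh x x.2⟩ : R) ∈ A := by
    intro h hh x hx
    have hh' : h⁻¹ ∈ H := H.inv_mem hh
    let φ : R ≃* R :=
      { toFun := fun y => ⟨h * y * h⁻¹, hnormR h hh y y.2⟩
        invFun := fun y => ⟨h⁻¹ * y * h, by simpa using hnormR h⁻¹ hh' y y.2⟩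
        left_inv := fun y => by apply Subtype.ext; simp only; group
        right_inv := fun y => by apply Subtype.ext; simp only; group
        map_mul' := fun y z => by apply Subtype.ext; simp only [Subgroup.coe_mul]; group }
    have := hchar.fixed φ
    have hx' : x ∈ A.comap φ.toMonoidHom := by rw [this]; exact hx
    exact hx'
  -- the image of `A` in `GL`
  have hA'n : NormBy H (A.map R.subtype) := by
    rintro h hh _ ⟨x, hx, rfl⟩
    exact ⟨⟨h * x * h⁻¹, hnormR h hh x x.2⟩, hfix h hh x hx, rfl⟩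
  have hA'G : A.map R.subtype ≤ G := by
    rintro _ ⟨x, _, rfl⟩
    exact omega_le hR x.2
  have hA'c : ∀ a ∈ A.map R.subtype, ∀ b ∈ A.map R.subtype, a * b = b * a := by
    rintro _ ⟨x, hx, rfl⟩ _ ⟨y, hy, rfl⟩
    have := hcommA.is_comm.comm (⟨x, hx⟩ : A) ⟨y, hy⟩
    have h2 := congrArg (fun z : A => ((z : R) : GL (Fin n) F)) this
    simpa using h2
  have hA'S : A.map R.subtype ≤ scalars (Fin n) F := by
    rcases hG.minimal _ hA'G hA'n with h1 | h1
    · exact h1
    · exfalso
      obtain ⟨x, hx, y, hy, hxy⟩ := sg_not_comm hn hG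
      obtain ⟨a, ha, s, hs, rfl⟩ := mem_sup_scalars (h1 hx)
      obtain ⟨b, hb, t, ht, rfl⟩ := mem_sup_scalars (h1 hy)
      apply hxy
      have h1 : ∀ z, s * z = z * s := scalar_comm' s hs
      have h2 : ∀ z, t * z = z * t := scalar_comm' t ht
      calc a * s * (b * t) = a * (s * b) * t := by group
        _ = a * (b * s) * t := by rw [h1]
        _ = (a * b) * (s * t) := by group
        _ = (b * a) * (t * s) := by rw [hA'c a ha b hb, h2]
        _ = b * (a * t) * s := by group
        _ = b * (t * a) * s := by rw [h2]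
        _ = b * t * (a * s) := by group
  have := isCyclic_scalars (F := F) (n := n)
  let f : A →* scalars (Fin n) F :=
    { toFun := fun x => ⟨((x : R) : GL (Fin n) F), hA'S ⟨x, x.2, rfl⟩⟩
      map_one' := rfl
      map_mul' := fun x y => rfl }
  refine isCyclic_of_injective f ?_
  intro x y hxy
  have := congrArg (fun z : scalars (Fin n) F => (z : GL (Fin n) F)) hxy
  exact Subtype.ext (Subtype.ext this)

end Cfsg.Agent.Lib.Helper16.S5630I6AC
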