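import Mathlib
import Cfsg.Prelude.Def_GeometricClasses
import Cfsg.Agent.Lib.Helper7.AschDefs
import Cfsg.Agent.Lib.Helper3.AschC6Defs
import Cfsg.Agent.Lib.Helper16.AschC6ADefs
import Cfsg.Agent.Lib.Helper16.S5630I6AB
import Cfsg.Agent.Lib.Helper16.S5630I6AC
import Cfsg.Agent.Lib.Helper7.S5630I6A
import Cfsg.Agent.Lib.Helper19.S5630I6AP

/-!
# S5630 block I6 (symplectic-type case), HALF A, assembly (helper16):
from the hypotheses of `AschTop.c6_case` to `∃ R, SympCore H R r` (helper3's interface for HALF B).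

Pieces: A0-A4, A7-A9 helper16 (`S5630I6AB`, `S5630I6AC`), A5 + A10 helper19 (`Helper19.S5630I6AP`), A6 helper7 (`Helper7.S5630I6A`).
-/

set_option autoImplicit false

namespace Cfsg.Agent.Lib.Helper16.S5630I6A

open Matrix Cfsg.Geo Cfsg.Agent.Lib.Helper7.Asch Cfsg.Agent.Lib.Helper16.AschC6A Cfsg.Agent.Lib.Helper3.AschC6
open scoped commutatorElement

variable {F : Type*} [Field F] {n : ℕ} {H N G R : Subgroup (GL (Fin n) F)} {r : ℕ}

theorem halfA_SG [Fintype F] (hn : 3 ≤ n) (hG : SG H G r) : ∃ R : Subgroup (GL (Fin n) F), SympCore H R r := by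
  have hn2 : 2 ≤ n := by omega
  obtain ⟨R, hR⟩ := Cfsg.Agent.Lib.Helper16.S5630I6AB.sg_exists_omega hG
  have hsup := Cfsg.Agent.Lib.Helper19.S5630I6A.le_sup hn2 hG hR
  have habs := Cfsg.Agent.Lib.Helper7.S5630I6A.omega_absIrr hG hR hsup
  have hRG : R ≤ G := fun x hx => ((hR x).1 hx).1
  refine ⟨R, hG.prime, Cfsg.Agent.Lib.Helper16.S5630I6AB.omega_norm hG hR, habs, fun x hx => hG.pow x (hRG hx),
    fun x hx y hy => hG.comm x (hRG hx) y (hRG hy), fun x hx => ((hR x).1 hx).2,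
    fun z hz hz1 => (hR z).2 ⟨hG.scal_le hz, hz1⟩, ?_⟩
  exact ⟨hG.prime, Cfsg.Agent.Lib.Helper16.S5630I6AB.isPGroup_omega hG hR,
    Cfsg.Agent.Lib.Helper16.S5630I6AC.cyclic_of_char hn2 hG hR,
    Cfsg.Agent.Lib.Helper16.S5630I6AC.exponent_omega hn2 hG hR habs⟩

/-- HALF A of `c6_case`: the symplectic-type group `R` -/
theorem halfA [Fintype F] (hn : 3 ≤ n) (H N : Subgroup (GL (Fin n) F)) (r : ℕ) (hQP : QP H)
    (hNH : N ≤ H) (hnorm : NormBy H N) (hNs : ¬ N ≤ scalars (Fin n) F)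
    (hmin : ∀ K : Subgroup (GL (Fin n) F), K ≤ N → NormBy H K → K ≤ scalars (Fin n) F ∨ K = N) (hr : r.Prime)
    (hpow : ∀ x ∈ N, x ^ r ∈ scalars (Fin n) F) (hcomm : ∀ x ∈ N, ∀ y ∈ N, ⁅x, y⁆ ∈ scalars (Fin n) F) :
    ∃ R : Subgroup (GL (Fin n) F), SympCore H R r :=
  halfA_SG hn (Cfsg.Agent.Lib.Helper16.S5630I6AB.toSG hQP hNH hnorm hNs hmin hr hpow hcomm)

/-- the same, also recording `r ∣ q - 1` -/
theorem halfA_dvd [Fintype F] (hn : 3 ≤ n) (H N : Subgroup (GL (Fin n) F)) (r : ℕ) (hQP : QP H)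
    (hNH : N ≤ H) (hnorm : NormBy H N) (hNs : ¬ N ≤ scalars (Fin n) F)
    (hmin : ∀ K : Subgroup (GL (Fin n) F), K ≤ N → NormBy H K → K ≤ scalars (Fin n) F ∨ K = N) (hr : r.Prime)
    (hpow : ∀ x ∈ N, x ^ r ∈ scalars (Fin n) F) (hcomm : ∀ x ∈ N, ∀ y ∈ N, ⁅x, y⁆ ∈ scalars (Fin n) F) :
    r ∣ Fintype.card F - 1 :=
  Cfsg.Agent.Lib.Helper19.S5630I6A.sg_dvd (by omega)
    (Cfsg.Agent.Lib.Helper16.S5630I6AB.toSG hQP hNH hnorm hNs hmin hr hpow hcomm)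

end Cfsg.Agent.Lib.Helper16.S5630I6A
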