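import Mathlib
import Cfsg.Prelude.Def_GeometricClasses
import Cfsg.Agent.Lib.Helper7.AschDefs
import Cfsg.Agent.Lib.Helper12.AschG1
import Cfsg.Agent.Lib.Helper10.S5630CoreSN
import Cfsg.Agent.Lib.Helper14.S5630CoreAB
import Cfsg.Agent.Lib.Helper3.AschC6Defs
import Cfsg.Agent.Lib.Helper3.AschC6Basic
import Cfsg.Agent.Lib.Helper16.S5630I6AB

/-!
# S5630 block I6 half B: pieces FORM-B5 (exists_gram_of_tau), R-DVD (r_dvd_card_sub_one), R-TAU (exists_tau)  (helper16)
-/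

set_option autoImplicit false

namespace Cfsg.Agent.Lib.Helper16.S5630I6BTau

open Matrix Cfsg.Geo Cfsg.Agent.Lib.Helper7.Asch Cfsg.Agent.Lib.Helper3.AschC6
open scoped commutatorElement

variable {F : Type*} [Field F] {n : ℕ}

/-- **FORM-B5** (Skolem-Noether) a linear extension `τ` of `g ↦ g⁻¹` from an absolutely irreducible group gives an
invariant invertible Gram matrix -/
theorem exists_gram_of_tau (R : Subgroup (GL (Fin n) F)) (hR : AbsIrr R)
    (τ : Matrix (Fin n) (Fin n) F →ₗ[F] Matrix (Fin n) (Fin n) F)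
    (hτ : ∀ g ∈ R, τ (g : Matrix (Fin n) (Fin n) F) = ((g⁻¹ : GL (Fin n) F) : Matrix (Fin n) (Fin n) F)) :
    ∃ G : GL (Fin n) F, ∀ g ∈ R, (g : Matrix (Fin n) (Fin n) F)ᵀ * (G : Matrix (Fin n) (Fin n) F) *
      (g : Matrix (Fin n) (Fin n) F) = (G : Matrix (Fin n) (Fin n) F) := by
  -- `τ` is anti-multiplicative
  have h1 : ∀ g ∈ R, ∀ Y : Matrix (Fin n) (Fin n) F, τ ((g : Matrix (Fin n) (Fin n) F) * Y) =
      τ Y * τ (g : Matrix (Fin n) (Fin n) F) := by
    intro g hg Y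
    have := Cfsg.Agent.Lib.Helper12.AschG1.linearMap_ext_of_absIrred R hR
      (τ.comp (LinearMap.mulLeft F (g : Matrix (Fin n) (Fin n) F)))
      ((LinearMap.mulRight F (τ (g : Matrix (Fin n) (Fin n) F))).comp τ) (by
        intro x hx
        simp only [LinearMap.comp_apply, LinearMap.mulLeft_apply, LinearMap.mulRight_apply]
        rw [← Units.val_mul, hτ _ (R.mul_mem hg hx), hτ x hx, hτ g hg, _root_.mul_inv_rev, Units.val_mul])
    have h := LinearMap.congr_fun this Y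
    simpa using h
  have h2 : ∀ X Y : Matrix (Fin n) (Fin n) F, τ (X * Y) = τ Y * τ X := by
    intro X Y
    have := Cfsg.Agent.Lib.Helper12.AschG1.linearMap_ext_of_absIrred R hR
      (τ.comp (LinearMap.mulRight F Y))
      ((LinearMap.mulLeft F (τ Y)).comp τ) (by
        intro x hx
        simp only [LinearMap.comp_apply, LinearMap.mulLeft_apply, LinearMap.mulRight_apply]
        exact h1 x hx Y)
    have h := LinearMap.congr_fun this X
    simpa using h
  have h3 : τ 1 = 1 := by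
    have := hτ 1 R.one_mem
    simpa using this
  -- the algebra endomorphism `X ↦ (τ X)ᵀ`
  let φ : Matrix (Fin n) (Fin n) F →ₐ[F] Matrix (Fin n) (Fin n) F :=
    AlgHom.ofLinearMap ((Matrix.transposeLinearEquiv (Fin n) (Fin n) F F).toLinearMap.comp τ)
      (by simp [h3])
      (by intro X Y; simp [h2, Matrix.transpose_mul])
  obtain ⟨P, hP⟩ := Cfsg.Agent.Lib.Helper10.S5630CoreSN.inner_of_algHom φ
  refine ⟨P, fun g hg => ?_⟩
  have h4 : (τ (g : Matrix (Fin n) (Fin n) F))ᵀ = (P : Matrix (Fin n) (Fin n) F) * (g : Matrix (Fin n) (Fin n) F) *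
      ((P⁻¹ : GL (Fin n) F) : Matrix (Fin n) (Fin n) F) := by
    have := hP (g : Matrix (Fin n) (Fin n) F)
    simpa [φ] using this
  rw [hτ g hg] at h4
  -- `(g⁻¹)ᵀ P = P g`
  have h5 : (((g⁻¹ : GL (Fin n) F) : Matrix (Fin n) (Fin n) F))ᵀ * (P : Matrix (Fin n) (Fin n) F) =
      (P : Matrix (Fin n) (Fin n) F) * (g : Matrix (Fin n) (Fin n) F) := by
    rw [h4, Matrix.mul_assoc, ← Units.val_mul P⁻¹ P, inv_mul_cancel, Units.val_one, Matrix.mul_one]
  have h6 : (g : Matrix (Fin n) (Fin n) F)ᵀ * (((g⁻¹ : GL (Fin n) F) : Matrix (Fin n) (Fin n) F))ᵀ = 1 := by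
    rw [← Matrix.transpose_mul, ← Units.val_mul g⁻¹ g, inv_mul_cancel, Units.val_one, Matrix.transpose_one]
  rw [Matrix.mul_assoc, ← h5, ← Matrix.mul_assoc, h6, Matrix.one_mul]

variable [Fintype F] {H R : Subgroup (GL (Fin n) F)} {r : ℕ}

omit [Fintype F] in
/-- `R` is not commutative -/
theorem core_not_comm (hn : 2 ≤ n) (hR : SympCore H R r) : ∃ x ∈ R, ∃ y ∈ R, x * y ≠ y * x := by
  by_contra h
  push Not at h
  exact Cfsg.Agent.Lib.Helper14.S5630Core.not_absIrr_of_comm hn R h hR.absIrr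

/-- **R-DVD** `R` is not commutative, so `F` has an element of order `r` -/
theorem r_dvd_card_sub_one (hn : 2 ≤ n) (hR : SympCore H R r) : r ∣ Fintype.card F - 1 := by
  classical
  obtain ⟨x, hx, y, hy, hxy⟩ := core_not_comm hn hR
  have hcS := hR.comm y hy x hx
  have hc : ∀ z, ⁅y, x⁆ * z = z * ⁅y, x⁆ := Cfsg.Agent.Lib.Helper16.S5630I6AB.scalar_comm' _ hcS
  have h : y * x = ⁅y, x⁆ * (x * y) := by rw [commutatorElement_def]; group
  have h1 := Cfsg.Agent.Lib.Helper16.S5630I6AB.pow_mul_comm_central x y ⁅y, x⁆ hc h r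
  have h2 : y ^ r * x = x * y ^ r := Cfsg.Agent.Lib.Helper16.S5630I6AB.scalar_comm' _ (hR.pow y hy) x
  rw [h2] at h1
  have hcr : ⁅y, x⁆ ^ r = 1 := mul_eq_right.1 h1.symm
  have hc1 : ⁅y, x⁆ ≠ 1 := by
    intro h1'
    rw [h1', one_mul] at h
    exact hxy h.symm
  -- the scalar
  obtain ⟨c, hcc⟩ := hcS
  have hc1' : c ≠ 1 := by
    rintro rfl
    apply hc1
    rw [← hcc, map_one]
  have hcr' : c ^ r = 1 := by
    have hinj : Function.Injective (Units.map (Matrix.scalar (Fin n) : F →+* Matrix (Fin n) (Fin n) F).toMonoidHom) := by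
      apply Units.map_injective
      have : Nonempty (Fin n) := ⟨⟨0, by omega⟩⟩
      exact fun a b hab => Matrix.scalar_inj.1 hab
    apply hinj
    rw [map_pow, hcc, hcr, map_one]
  have ho : orderOf c = r := by
    have h1 : orderOf c ∣ r := orderOf_dvd_of_pow_eq_one hcr'
    rcases (Nat.dvd_prime hR.prime).1 h1 with h2 | h2
    · exact absurd (orderOf_eq_one_iff.1 h2) hc1'
    · exact h2
  rw [← ho, ← Fintype.card_units]
  exact orderOf_dvd_card

/-- **R-TAU** (from R-IND and R-SPAN as hypotheses) for `r = 2`, `q ≡ 3 (4)` (centre `±1`): `g ↦ g⁻¹` extends linearly to the matrix algebra -/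
theorem exists_tau_of (hn : 2 ≤ n) (hR : SympCore H R r) (hr2 : r = 2) (h4 : ¬ 4 ∣ Fintype.card F - 1)
    (hind : LinearIndependent F (rep R)) (hspan : Submodule.span F (Set.range (rep R)) = ⊤) :
    ∃ τ : Matrix (Fin n) (Fin n) F →ₗ[F] Matrix (Fin n) (Fin n) F,
      ∀ g ∈ R, τ (g : Matrix (Fin n) (Fin n) F) = ((g⁻¹ : GL (Fin n) F) : Matrix (Fin n) (Fin n) F) := by
  classical
  subst hr2
  let b : Module.Basis (R ⧸ Subgroup.center R) F (Matrix (Fin n) (Fin n) F) :=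
    Module.Basis.mk hind hspan.ge
  let τ : Matrix (Fin n) (Fin n) F →ₗ[F] Matrix (Fin n) (Fin n) F :=
    b.constr F (fun q => ((((q.out : R) : GL (Fin n) F)⁻¹ : GL (Fin n) F) : Matrix (Fin n) (Fin n) F))
  refine ⟨τ, fun g hg => ?_⟩
  -- `g = t * s`, `t = q.out`, `s` central in `R`
  set q : R ⧸ Subgroup.center R := QuotientGroup.mk (⟨g, hg⟩ : R) with hq
  set t : R := q.out with ht
  have hts : t⁻¹ * ⟨g, hg⟩ ∈ Subgroup.center R := by
    rw [← QuotientGroup.eq, ht, hq]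
    exact Quotient.out_eq' _
  have hs : ((t⁻¹ * ⟨g, hg⟩ : R) : GL (Fin n) F) ∈ scalars (Fin n) F := (mem_center_iff hR _).1 hts
  obtain ⟨c, hc⟩ := (mem_scalars_iff _).1 hs
  -- `c ^ 4 = 1`
  have hs4 : ((t⁻¹ * ⟨g, hg⟩ : R) : GL (Fin n) F) ^ 4 = 1 := by
    have := hR.exp _ (t⁻¹ * ⟨g, hg⟩ : R).2
    simpa using this
  have hn0 : Nonempty (Fin n) := ⟨⟨0, by omega⟩⟩
  have hc4 : (c : F) ^ 4 = 1 := by
    have h1 := congrArg (fun z : GL (Fin n) F => (z : Matrix (Fin n) (Fin n) F)) hs4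
    simp only [Units.val_pow_eq_pow_val, Units.val_one] at h1
    rw [hc, smul_pow, one_pow] at h1
    have h2 := congrFun (congrFun h1 hn0.some) hn0.some
    simpa using h2
  -- `c ^ 2 = 1`
  have hc2 : (c : F) ^ 2 = 1 := by
    have hcq : (c : F) ^ (Fintype.card F - 1) = 1 := FiniteField.pow_card_sub_one_eq_one _ c.ne_zero
    have hg : (c : F) ^ Nat.gcd 4 (Fintype.card F - 1) = 1 := by
      have h1 : orderOf (c : F) ∣ 4 := orderOf_dvd_of_pow_eq_one hc4
      have h2 : orderOf (c : F) ∣ Fintype.card F - 1 := orderOf_dvd_of_pow_eq_one hcq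
      exact orderOf_dvd_iff_pow_eq_one.1 (Nat.dvd_gcd h1 h2)
    have hd : Nat.gcd 4 (Fintype.card F - 1) ∣ 2 := by
      have h1 : Nat.gcd 4 (Fintype.card F - 1) ∣ 4 := Nat.gcd_dvd_left _ _
      have h2 : Nat.gcd 4 (Fintype.card F - 1) ∣ Fintype.card F - 1 := Nat.gcd_dvd_right _ _
      generalize Nat.gcd 4 (Fintype.card F - 1) = d at h1 h2
      have hle : d ≤ 4 := Nat.le_of_dvd (by norm_num) h1
      interval_cases d
      · simp at h1
      · norm_num
      · norm_num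
      · norm_num at h1
      · exact absurd h2 h4
    obtain ⟨j, hj⟩ := hd
    rw [hj, pow_mul, hg, one_pow]
  -- the matrices
  have hg_eq : (g : Matrix (Fin n) (Fin n) F) = (c : F) • ((t : GL (Fin n) F) : Matrix (Fin n) (Fin n) F) := by
    have h1 : g = (t : GL (Fin n) F) * ((t⁻¹ * ⟨g, hg⟩ : R) : GL (Fin n) F) := by
      simp
    have h2 := congrArg (fun z : GL (Fin n) F => (z : Matrix (Fin n) (Fin n) F)) h1
    simp only [Units.val_mul] at h2
    rw [hc] at h2
    rw [h2, Matrix.mul_smul, Matrix.mul_one]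
  have hginv : ((g⁻¹ : GL (Fin n) F) : Matrix (Fin n) (Fin n) F) =
      (c : F) • (((t : GL (Fin n) F)⁻¹ : GL (Fin n) F) : Matrix (Fin n) (Fin n) F) := by
    have h1 : g⁻¹ = ((t⁻¹ * ⟨g, hg⟩ : R) : GL (Fin n) F)⁻¹ * (t : GL (Fin n) F)⁻¹ := by
      simp
    have hinv : (((t⁻¹ * ⟨g, hg⟩ : R) : GL (Fin n) F)⁻¹ : GL (Fin n) F) = ((t⁻¹ * ⟨g, hg⟩ : R) : GL (Fin n) F) := by
      apply Units.ext
      rw [Matrix.coe_units_inv, hc]
      apply Matrix.inv_eq_left_inv
      rw [Matrix.smul_mul, Matrix.mul_smul, Matrix.mul_one, smul_smul, ← pow_two, hc2, one_smul]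
    rw [hinv] at h1
    have h2 := congrArg (fun z : GL (Fin n) F => (z : Matrix (Fin n) (Fin n) F)) h1
    simp only [Units.val_mul] at h2
    rw [hc] at h2
    rw [h2, Matrix.smul_mul, Matrix.one_mul]
  rw [hginv, hg_eq, map_smul]
  congr 1
  have : ((t : GL (Fin n) F) : Matrix (Fin n) (Fin n) F) = b q := by
    simp only [b, Module.Basis.mk_apply, rep, ht]
  rw [this, Module.Basis.constr_basis]

end Cfsg.Agent.Lib.Helper16.S5630I6BTau
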