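import Mathlib
import Cfsg.Agent.Lib.Helper1.SubfSLDefs

/-!
# S5639 FO-B1c (helper16, for helper1's farm-out): if every `a ∈ F` is a parameter (all transvections
`1 + a·uφ` with `u`, `φ` rational, `φ(u) = 0`, lie in `M`) then `M ⊇ SL_n(F)`.

`ParamSet K M` of the skeleton is `{a | ∀ u φ : Fin n → K, φ ⬝ᵥ u = 0 → InM M (tv (rvec K u) (a • rvec K φ))}`;
the hypothesis `hall` below is its unfolded form (definitionally equal to `∀ a, a ∈ ParamSet K M`).
-/

set_option autoImplicit false

namespace Cfsg.Agent.Lib.Helper16.S5639B1c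

open Matrix Cfsg.Agent.Lib.Helper13 Cfsg.Agent.Lib.Helper1.SubfSL

variable {F : Type*} [Field F] {n : ℕ}

/-- all transvections with centre the `i`-th basis vector lie in `M` -/
theorem tvIn_single (K : Subfield F) (M : Subgroup (GL (Fin n) F))
    (hall : ∀ a : F, ∀ u φ : Fin n → K, φ ⬝ᵥ u = 0 → InM M (tv (rvec K u) (a • rvec K φ)))
    (i : Fin n) : TvIn M (Pi.single i (1 : F) : Fin n → F) := by
  classical
  intro ψ hψ g hg
  apply InM.mem
  rw [hg]
  have hψi : ψ i = 0 := by rwa [dotProduct_single_one] at hψ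
  -- each summand
  have hterm : ∀ j : Fin n, InM M (tv (Pi.single i (1 : F) : Fin n → F)
      (ψ j • (Pi.single j (1 : F) : Fin n → F))) := by
    intro j
    by_cases hji : j = i
    · rw [hji, hψi, zero_smul, tv_zero]
      exact InM.one M
    · have h0 : (Pi.single j (1 : K) : Fin n → K) ⬝ᵥ (Pi.single i (1 : K) : Fin n → K) = 0 := by
        rw [dotProduct_single_one, Pi.single_eq_of_ne (Ne.symm hji)]
      have := hall (ψ j) (Pi.single i 1) (Pi.single j 1) h0
      rwa [rvec_single, rvec_single] at this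
  have hdot : ∀ j : Fin n, (ψ j • (Pi.single j (1 : F) : Fin n → F)) ⬝ᵥ
      (Pi.single i (1 : F) : Fin n → F) = 0 := by
    intro j
    rw [dotProduct_single_one, Pi.smul_apply, smul_eq_mul]
    by_cases hji : j = i
    · rw [hji, hψi, zero_mul]
    · rw [Pi.single_eq_of_ne (Ne.symm hji), mul_zero]
  have hsum : ∀ s : Finset (Fin n), InM M (tv (Pi.single i (1 : F) : Fin n → F)
      (∑ j ∈ s, ψ j • (Pi.single j (1 : F) : Fin n → F))) := by
    intro s
    induction s using Finset.induction_on with
    | empty =>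
      rw [Finset.sum_empty, tv_zero]
      exact InM.one M
    | insert j s hjs ih =>
      rw [Finset.sum_insert hjs, ← tv_mul_tv _ _ _ (hdot j)]
      exact (hterm j).mul ih
  have hψ' : ψ = ∑ j, ψ j • (Pi.single j (1 : F) : Fin n → F) := by
    ext k
    rw [Finset.sum_apply]
    simp [Pi.single_apply]
  rw [hψ']
  exact hsum Finset.univ

theorem tvIn_zero (M : Subgroup (GL (Fin n) F)) : TvIn M (0 : Fin n → F) := by
  intro φ _ g hg
  have h1 : (g : Matrix (Fin n) (Fin n) F) = 1 := by
    rw [hg]
    apply mat_ext'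
    intro x
    rw [tv_mulVec, smul_zero, add_zero, one_mulVec]
  have : g = 1 := Units.ext h1
  rw [this]
  exact M.one_mem

/-- **FO-B1c.** -/
theorem SL_le_of_paramSet_univ (hn : 2 ≤ n) (K : Subfield F) (M : Subgroup (GL (Fin n) F))
    (hall : ∀ a : F, ∀ u φ : Fin n → K, φ ⬝ᵥ u = 0 → InM M (tv (rvec K u) (a • rvec K φ))) :
    Cfsg.Geo.specialLinear (Fin n) F ≤ M := by
  classical
  apply SL_le_of_forall_TvIn hn M
  intro x
  have hsum : ∀ s : Finset (Fin n),
      TvIn M (∑ j ∈ s, x j • (Pi.single j (1 : F) : Fin n → F)) := by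
    intro s
    induction s using Finset.induction_on with
    | empty =>
      rw [Finset.sum_empty]
      exact tvIn_zero M
    | insert j s hjs ih =>
      rw [Finset.sum_insert hjs]
      exact ((tvIn_single K M hall j).smul (x j)).add ih
  have hx : x = ∑ j, x j • (Pi.single j (1 : F) : Fin n → F) := by
    ext k
    rw [Finset.sum_apply]
    simp [Pi.single_apply]
  rw [hx]
  exact hsum Finset.univ

end Cfsg.Agent.Lib.Helper16.S5639B1c
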