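import Mathlib
import Cfsg.Agent.Lib.Helper1.SubfSLEmb
import Cfsg.Agent.Lib.Helper6.Siegel

/-!
# S5683 FO-EMB: the `SL₂` attached to two opposite totally singular lines (architect helper1)
-/

set_option autoImplicit false
set_option linter.unusedSimpArgs false

namespace Cfsg.Agent.Lib.Helper16.S5683FOEMB

open Matrix QuadraticMap Cfsg.Agent.Lib.Helper6 Cfsg.Agent.Lib.Helper1.SubfSL
open Cfsg.Agent.Lib.Helper15.Dk Cfsg.Agent.Lib.Helper14 Cfsg.Agent.Lib.Helper15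

universe u
variable {F : Type u} [Field F] {n : ℕ}

/-- the `n × 2` matrix with columns `a`, `b` -/
def colMat (a b : Fin n → F) : Matrix (Fin n) (Fin 2) F :=
  Matrix.of fun i j => if j = 0 then a i else b i

/-- the `2 × n` matrix with rows `f`, `g` -/
def rowMat (f g : Fin n → F) : Matrix (Fin 2) (Fin n) F :=
  Matrix.of fun j k => if j = 0 then f k else g k

theorem rowMat_mul_colMat (f g a b : Fin n → F) :
    rowMat f g * colMat a b = !![f ⬝ᵥ a, f ⬝ᵥ b; g ⬝ᵥ a, g ⬝ᵥ b] := by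
  ext j l
  fin_cases j <;> fin_cases l <;>
    simp [rowMat, colMat, Matrix.mul_apply, dotProduct]

theorem colMat_mul_mul_rowMat (a b f g : Fin n → F) (X : Matrix (Fin 2) (Fin 2) F) (i k : Fin n) :
    (colMat a b * X * rowMat f g) i k =
      a i * (X 0 0 * f k + X 0 1 * g k) + b i * (X 1 0 * f k + X 1 1 * g k) := by
  simp only [Matrix.mul_apply, Fin.sum_univ_two, colMat, rowMat, Matrix.of_apply, if_true,
    one_ne_zero, if_false]
  ring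

/-- two embeddings with orthogonal supports: the product formula -/
theorem one_add_mul_one_add (U₁ U₂ : Matrix (Fin n) (Fin 2) F) (Ψ₁ Ψ₂ : Matrix (Fin 2) (Fin n) F)
    (h12 : Ψ₁ * U₂ = 0) (X Y : Matrix (Fin 2) (Fin 2) F) :
    (1 + U₁ * X * Ψ₁) * (1 + U₂ * Y * Ψ₂) = 1 + U₁ * X * Ψ₁ + U₂ * Y * Ψ₂ := by
  have e : U₁ * X * Ψ₁ * (U₂ * Y * Ψ₂) = 0 := by
    calc U₁ * X * Ψ₁ * (U₂ * Y * Ψ₂) = U₁ * X * (Ψ₁ * U₂) * Y * Ψ₂ := by
          simp only [Matrix.mul_assoc]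
      _ = 0 := by rw [h12]; simp
  rw [mul_add, add_mul, add_mul, one_mul, mul_one, one_mul, e, add_zero]

theorem mat2_eq_one {a b c d : F} (ha : a = 1) (hb : b = 0) (hc : c = 0) (hd : d = 1) :
    !![a, b; c, d] = (1 : Matrix (Fin 2) (Fin 2) F) := by
  rw [ha, hb, hc, hd, Matrix.one_fin_two]

theorem mat2_eq_zero {a b c d : F} (ha : a = 0) (hb : b = 0) (hc : c = 0) (hd : d = 0) :
    !![a, b; c, d] = (0 : Matrix (Fin 2) (Fin 2) F) := by
  rw [ha, hb, hc, hd]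
  ext i j
  fin_cases i <;> fin_cases j <;> rfl

theorem polarVec_smul' (Q : QuadraticForm F (Fin n → F)) (t : F) (x : Fin n → F) (k : Fin n) :
    Cfsg.polarVec ⇑Q (t • x) k = t * Cfsg.polarVec ⇑Q x k := by
  simp only [Cfsg.polarVec, polar_smul_left, smul_eq_mul]

section main
variable (Q : QuadraticForm F (Fin n → F)) (u c w y : Fin n → F)

/-- `κ = -Δ` -/
def kap : F := -(polar (⇑Q) u w * polar (⇑Q) c y - polar (⇑Q) u y * polar (⇑Q) c w)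

/-- `κ b = B(u,y) w - B(u,w) y` -/
def pp : Fin n → F := polar (⇑Q) u y • w - polar (⇑Q) u w • y

/-- `κ a = B(c,w) y - B(c,y) w` -/
def rr : Fin n → F := polar (⇑Q) c w • y - polar (⇑Q) c y • w

/-- columns `u`, `u + κ b` -/
def U1 : Matrix (Fin n) (Fin 2) F := colMat u (u + pp Q u w y)

/-- rows `B(a,·) - B(c,·)/κ`, `B(c,·)/κ` -/
def P1 : Matrix (Fin 2) (Fin n) F :=
  rowMat ((kap Q u c w y)⁻¹ • (polar (⇑Q) c w • Cfsg.polarVec ⇑Q y - polar (⇑Q) c y • Cfsg.polarVec ⇑Q w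
      - Cfsg.polarVec ⇑Q c))
    ((kap Q u c w y)⁻¹ • Cfsg.polarVec ⇑Q c)

/-- columns `c`, `c - κ a` -/
def U2 : Matrix (Fin n) (Fin 2) F := colMat c (c - rr Q c w y)

/-- rows `B(b,·) + B(u,·)/κ`, `-B(u,·)/κ` -/
def P2 : Matrix (Fin 2) (Fin n) F :=
  rowMat ((kap Q u c w y)⁻¹ • (polar (⇑Q) u y • Cfsg.polarVec ⇑Q w - polar (⇑Q) u w • Cfsg.polarVec ⇑Q y
      + Cfsg.polarVec ⇑Q u))
    (-((kap Q u c w y)⁻¹ • Cfsg.polarVec ⇑Q u))

/-- the configuration: two totally singular lines `⟨u,c⟩`, `⟨w,y⟩` with `Δ ≠ 0` -/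
structure Cfg : Prop where
  hu : Q u = 0
  hc : Q c = 0
  huc : polar (⇑Q) u c = 0
  hw : Q w = 0
  hy : Q y = 0
  hwy : polar (⇑Q) w y = 0
  hΔ : polar (⇑Q) u w * polar (⇑Q) c y - polar (⇑Q) u y * polar (⇑Q) c w ≠ 0

variable {Q u c w y}

theorem Cfg.dots (h : Cfg Q u c w y) :
    (Cfsg.polarVec ⇑Q w ⬝ᵥ u = polar (⇑Q) u w ∧ Cfsg.polarVec ⇑Q w ⬝ᵥ c = polar (⇑Q) c w ∧
      Cfsg.polarVec ⇑Q w ⬝ᵥ w = 0 ∧ Cfsg.polarVec ⇑Q w ⬝ᵥ y = 0) ∧
    (Cfsg.polarVec ⇑Q y ⬝ᵥ u = polar (⇑Q) u y ∧ Cfsg.polarVec ⇑Q y ⬝ᵥ c = polar (⇑Q) c y ∧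
      Cfsg.polarVec ⇑Q y ⬝ᵥ w = 0 ∧ Cfsg.polarVec ⇑Q y ⬝ᵥ y = 0) ∧
    (Cfsg.polarVec ⇑Q u ⬝ᵥ u = 0 ∧ Cfsg.polarVec ⇑Q u ⬝ᵥ c = 0 ∧
      Cfsg.polarVec ⇑Q u ⬝ᵥ w = polar (⇑Q) u w ∧ Cfsg.polarVec ⇑Q u ⬝ᵥ y = polar (⇑Q) u y) ∧
    (Cfsg.polarVec ⇑Q c ⬝ᵥ u = 0 ∧ Cfsg.polarVec ⇑Q c ⬝ᵥ c = 0 ∧
      Cfsg.polarVec ⇑Q c ⬝ᵥ w = polar (⇑Q) c w ∧ Cfsg.polarVec ⇑Q c ⬝ᵥ y = polar (⇑Q) c y) := by
  have self : ∀ x : Fin n → F, Q x = 0 → polar (⇑Q) x x = 0 := by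
    intro x hx
    rw [QuadraticMap.polar_self, hx, smul_zero]
  refine ⟨⟨?_, ?_, ?_, ?_⟩, ⟨?_, ?_, ?_, ?_⟩, ⟨?_, ?_, ?_, ?_⟩, ⟨?_, ?_, ?_, ?_⟩⟩ <;> rw [polarVec_dot]
  · exact polar_comm _ _ _
  · exact polar_comm _ _ _
  · exact self w h.hw
  · exact h.hwy
  · exact polar_comm _ _ _
  · exact polar_comm _ _ _
  · rw [polar_comm]; exact h.hwy
  · exact self y h.hy
  · exact self u h.hu
  · exact h.huc
  · rw [polar_comm]; exact h.huc
  · exact self c h.hc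

theorem Cfg.kap_ne (h : Cfg Q u c w y) : kap Q u c w y ≠ 0 := neg_ne_zero.mpr h.hΔ

theorem Cfg.P1_mul_U1 (h : Cfg Q u c w y) : P1 Q u c w y * U1 Q u w y = 1 := by
  obtain ⟨⟨h1, h2, h3, h4⟩, ⟨h5, h6, h7, h8⟩, ⟨h9, h10, h11, h12⟩, ⟨h13, h14, h15, h16⟩⟩ := h.dots
  have hk := h.kap_ne
  rw [P1, U1, rowMat_mul_colMat]
  apply mat2_eq_one <;>
    simp only [pp, smul_dotProduct, sub_dotProduct, add_dotProduct, dotProduct_add, dotProduct_sub,
      dotProduct_smul, smul_eq_mul, h1, h2, h3, h4, h5, h6, h7, h8, h9, h10, h11, h12, h13, h14, h15,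
      h16, mul_zero, zero_mul, sub_zero, add_zero, zero_add, zero_sub, neg_zero] <;>
    first
      | rfl
      | (field_simp; rw [kap]; ring)

theorem Cfg.P2_mul_U2 (h : Cfg Q u c w y) : P2 Q u c w y * U2 Q c w y = 1 := by
  obtain ⟨⟨h1, h2, h3, h4⟩, ⟨h5, h6, h7, h8⟩, ⟨h9, h10, h11, h12⟩, ⟨h13, h14, h15, h16⟩⟩ := h.dots
  have hk := h.kap_ne
  rw [P2, U2, rowMat_mul_colMat]
  apply mat2_eq_one <;>
    simp only [rr, smul_dotProduct, sub_dotProduct, add_dotProduct, neg_dotProduct, dotProduct_add,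
      dotProduct_sub, dotProduct_smul, smul_eq_mul, h1, h2, h3, h4, h5, h6, h7, h8, h9, h10, h11, h12,
      h13, h14, h15, h16, mul_zero, zero_mul, sub_zero, add_zero, zero_add, zero_sub, neg_zero] <;>
    first
      | rfl
      | (field_simp; rw [kap]; ring)

theorem Cfg.P1_mul_U2 (h : Cfg Q u c w y) : P1 Q u c w y * U2 Q c w y = 0 := by
  obtain ⟨⟨h1, h2, h3, h4⟩, ⟨h5, h6, h7, h8⟩, ⟨h9, h10, h11, h12⟩, ⟨h13, h14, h15, h16⟩⟩ := h.dots
  have hk := h.kap_ne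
  rw [P1, U2, rowMat_mul_colMat]
  apply mat2_eq_zero <;>
    simp only [rr, smul_dotProduct, sub_dotProduct, add_dotProduct, neg_dotProduct, dotProduct_add,
      dotProduct_sub, dotProduct_smul, smul_eq_mul, h1, h2, h3, h4, h5, h6, h7, h8, h9, h10, h11, h12,
      h13, h14, h15, h16, mul_zero, zero_mul, sub_zero, add_zero, zero_add, zero_sub, neg_zero] <;>
    first
      | rfl
      | (field_simp; ring)

theorem Cfg.P2_mul_U1 (h : Cfg Q u c w y) : P2 Q u c w y * U1 Q u w y = 0 := by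
  obtain ⟨⟨h1, h2, h3, h4⟩, ⟨h5, h6, h7, h8⟩, ⟨h9, h10, h11, h12⟩, ⟨h13, h14, h15, h16⟩⟩ := h.dots
  have hk := h.kap_ne
  rw [P2, U1, rowMat_mul_colMat]
  apply mat2_eq_zero <;>
    simp only [pp, smul_dotProduct, sub_dotProduct, add_dotProduct, neg_dotProduct, dotProduct_add,
      dotProduct_sub, dotProduct_smul, smul_eq_mul, h1, h2, h3, h4, h5, h6, h7, h8, h9, h10, h11, h12,
      h13, h14, h15, h16, mul_zero, zero_mul, sub_zero, add_zero, zero_add, zero_sub, neg_zero] <;>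
    first
      | rfl
      | (field_simp; ring)

theorem Cfg.comm (h : Cfg Q u c w y) (A A' : SpecialLinearGroup (Fin 2) F) :
    Commute (iota (U1 Q u w y) (P1 Q u c w y) h.P1_mul_U1 A')
      (iota (U2 Q c w y) (P2 Q u c w y) h.P2_mul_U2 A) := by
  apply Units.ext
  rw [Units.val_mul, Units.val_mul, iota_val, iota_val,
    one_add_mul_one_add _ _ _ _ h.P1_mul_U2, one_add_mul_one_add _ _ _ _ h.P2_mul_U1]
  abel

/-- the embedding `SL₂(F) → GL_n(F)` attached to the two opposite totally singular lines -/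
noncomputable def emb4 (h : Cfg Q u c w y) : SpecialLinearGroup (Fin 2) F →* GL (Fin n) F where
  toFun A := iota (U1 Q u w y) (P1 Q u c w y) h.P1_mul_U1 A *
    iota (U2 Q c w y) (P2 Q u c w y) h.P2_mul_U2 A
  map_one' := by rw [map_one, map_one, mul_one]
  map_mul' A A' := by
    rw [map_mul, map_mul]
    exact Commute.mul_mul_mul_comm (h.comm A A') _ _

theorem emb4_val (h : Cfg Q u c w y) (A : SpecialLinearGroup (Fin 2) F) :
    ((emb4 h A : GL (Fin n) F) : Matrix (Fin n) (Fin n) F) =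
      1 + U1 Q u w y * ((A : Matrix (Fin 2) (Fin 2) F) - 1) * P1 Q u c w y +
        U2 Q c w y * ((A : Matrix (Fin 2) (Fin 2) F) - 1) * P2 Q u c w y := by
  change ((iota (U1 Q u w y) (P1 Q u c w y) h.P1_mul_U1 A *
    iota (U2 Q c w y) (P2 Q u c w y) h.P2_mul_U2 A : GL (Fin n) F) : Matrix (Fin n) (Fin n) F) = _
  rw [Units.val_mul, iota_val, iota_val, one_add_mul_one_add _ _ _ _ h.P1_mul_U2]

theorem emb4_uu (h : Cfg Q u c w y) (t : F) :
    ((emb4 h (uu (t * kap Q u c w y)) : GL (Fin n) F) : Matrix (Fin n) (Fin n) F) =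
      sieg Q u (t • c) := by
  have hk := h.kap_ne
  rw [emb4_val]
  ext i k
  rw [Matrix.add_apply, Matrix.add_apply, U1, P1, U2, P2, colMat_mul_mul_rowMat, colMat_mul_mul_rowMat]
  simp only [sieg, Matrix.add_apply, Matrix.sub_apply, Matrix.smul_apply, vecMulVec_apply,
    Pi.smul_apply, Pi.sub_apply, Pi.add_apply, Pi.neg_apply, smul_eq_mul, polarVec_smul', Q_smul, h.hc,
    upperSL_coe]
  simp
  field_simp
  ring

theorem emb4_Wm (h : Cfg Q u c w y) :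
    ((emb4 h Wm : GL (Fin n) F) : Matrix (Fin n) (Fin n) F) = sieg Q w y := by
  have hk := h.kap_ne
  rw [emb4_val]
  ext i k
  rw [Matrix.add_apply, Matrix.add_apply, U1, P1, U2, P2, colMat_mul_mul_rowMat, colMat_mul_mul_rowMat]
  simp only [sieg, Matrix.add_apply, Matrix.sub_apply, Matrix.smul_apply, vecMulVec_apply,
    Pi.smul_apply, Pi.sub_apply, Pi.add_apply, Pi.neg_apply, smul_eq_mul, h.hy, Wm, pp, rr]
  simp
  field_simp
  rw [kap]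
  ring

end main

/-- **FO-EMB** -/
theorem exists_emb4 (Q : QuadraticForm F (Fin n → F)) (u c w y : Fin n → F) (hu : Q u = 0)
    (hc : Q c = 0) (huc : polar (⇑Q) u c = 0) (hw : Q w = 0) (hy : Q y = 0)
    (hwy : polar (⇑Q) w y = 0)
    (hΔ : polar (⇑Q) u w * polar (⇑Q) c y - polar (⇑Q) u y * polar (⇑Q) c w ≠ 0) :
    ∃ e : SpecialLinearGroup (Fin 2) F →* GL (Fin n) F,
      (∀ t : F, ((e (uu (t * -(polar (⇑Q) u w * polar (⇑Q) c y - polar (⇑Q) u y * polar (⇑Q) c w))) :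
        GL (Fin n) F) : Matrix (Fin n) (Fin n) F) = sieg Q u (t • c)) ∧
      ((e Wm : GL (Fin n) F) : Matrix (Fin n) (Fin n) F) = sieg Q w y := by
  have h : Cfg Q u c w y := ⟨hu, hc, huc, hw, hy, hwy, hΔ⟩
  exact ⟨emb4 h, fun t => emb4_uu h t, emb4_Wm h⟩

end Cfsg.Agent.Lib.Helper16.S5683FOEMB
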