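import Mathlib
import Cfsg.Agent.Lib.Helper9.OExtDefs
import Cfsg.Agent.Lib.Helper6.SiegelOmega
import Cfsg.Agent.Lib.Helper13.OrthNondeg
import Cfsg.Agent.Lib.Helper13.OrthMax

/-!
# S5701 FO-BR4: some element of `Ω` does not normalise the embedded field

An `F`-Siegel transformation `ρ_{v₁,u}` with `v₁` singular, `u ⟂ v₁`, `u ∉ L∙v₁` does not
normalise `ρ L`.
-/

set_option autoImplicit false
set_option linter.unusedSectionVars false

namespace Cfsg.Agent.Lib.Helper16.S5701FOBR4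

open Matrix Module QuadraticMap Cfsg.Agent.Lib.Helper7.SpExt Cfsg.Agent.Lib.Helper9.OExt
  Cfsg.Agent.Lib.Helper6 Cfsg.Agent.Lib.Helper13

variable {F : Type*} [Field F] {L : Type*} [Field L] [Algebra F L] {ι : Type} [Fintype ι]
  [DecidableEq ι] {ρ : L →ₐ[F] Matrix ι ι F} {Q : QuadraticForm F (ι → F)} {τ : L →ₗ[F] F}
  {B : (ι → F) →ₗ[F] (ι → F) →ₗ[F] L} {r : ℕ}

theorem rho_inj (ρ : L →ₐ[F] Matrix ι ι F) {c : L} (hc : c ≠ 0) {v : ι → F}
    (hv : ρ c *ᵥ v = 0) : v = 0 := by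
  have h1 : ρ c⁻¹ *ᵥ (ρ c *ᵥ v) = v := by
    rw [← rho_mul_mulVec, inv_mul_cancel₀ hc, rho_one_mulVec]
  rw [hv, Matrix.mulVec_zero] at h1
  exact h1.symm

theorem exists_not_algMap (hrk : finrank F L = r) (hr : 2 ≤ r) :
    ∃ a : L, ∀ s : F, algebraMap F L s ≠ a := by
  by_contra hcon
  push Not at hcon
  have : finrank F L ≤ 1 := by
    apply finrank_le_one (1 : L)
    intro w
    obtain ⟨s, hs⟩ := hcon w
    exact ⟨s, by rw [← hs, Algebra.algebraMap_eq_smul_one]⟩
  omega

/-- an `F`-Siegel transformation centred at `v₁` with `u ∉ L∙v₁` does not normalise `ρ L`. -/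
theorem not_normalizes_sieg (ρ : L →ₐ[F] Matrix ι ι F) (Q : QuadraticForm F (ι → F))
    (hrk : finrank F L = r) (hr : 2 ≤ r) (hn : 5 ≤ Fintype.card ι)
    (hnd : ∀ v, v ≠ 0 → ∃ w, polar (⇑Q) v w ≠ 0)
    {v₁ u : ι → F} (hv₁ : v₁ ≠ 0) (hu : u ∉ pt ρ v₁) (g : GL ι F)
    (hg : ∀ x, act g x = sieg Q v₁ u *ᵥ x) : ¬ Normalizes ρ g := by
  intro hN
  obtain ⟨a, ha⟩ := exists_not_algMap (F := F) (L := L) hrk hr
  obtain ⟨b, hb⟩ := hN a
  have hgx : ∀ x, act g x = x + (polar (⇑Q) u x - Q u * polar (⇑Q) v₁ x) • v₁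
      + (-(polar (⇑Q) v₁ x)) • u := by
    intro x
    rw [hg, sieg_mulVec]
  have hact : ∀ x : ι → F, act g (ρ a *ᵥ x) = ρ b *ᵥ act g x := by
    intro x
    have h1 : ((g : Matrix ι ι F) * ρ a) *ᵥ x = (ρ b * (g : Matrix ι ι F)) *ᵥ x := by rw [hb]
    rw [← Matrix.mulVec_mulVec, ← Matrix.mulVec_mulVec] at h1
    exact h1
  -- `b = a`
  have hba : b = a := by
    by_contra hne
    have hc : b - a ≠ 0 := sub_ne_zero.mpr hne
    set C : Submodule F (ι → F) := ((⊤ : Submodule F (ι → F)) ⊓ LinearMap.ker (polarBilin Q u)) ⊓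
      LinearMap.ker (polarBilin Q v₁) with hC
    have hCdim : Fintype.card ι ≤ finrank F ↥C + 2 := by
      have := OND.finrank_cut2 Q (⊤ : Submodule F (ι → F)) u v₁
      rw [finrank_top, Module.finrank_fintype_fun_eq_card] at this
      exact this
    set f : (ι → F) →ₗ[F] (ι → F) := Matrix.mulVecLin (ρ (b - a)) with hf
    have hfinj : Function.Injective f := by
      intro x y hxy
      have : ρ (b - a) *ᵥ (x - y) = 0 := by
        rw [Matrix.mulVec_sub]
        exact sub_eq_zero.mpr hxy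
      exact sub_eq_zero.mp (rho_inj ρ hc this)
    have hle : C.map f ≤ Submodule.span F ({v₁, u} : Set (ι → F)) := by
      rintro _ ⟨x, hx, rfl⟩
      have hxu : polar (⇑Q) u x = 0 := by
        have := LinearMap.mem_ker.mp (SetLike.mem_coe.mp hx.1.2)
        rwa [polarBilin_apply_apply] at this
      have hxv : polar (⇑Q) v₁ x = 0 := by
        have := LinearMap.mem_ker.mp (SetLike.mem_coe.mp hx.2)
        rwa [polarBilin_apply_apply] at this
      have h1 := hact x
      rw [hgx x, hgx (ρ a *ᵥ x), hxu, hxv] at h1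
      simp only [mul_zero, sub_zero, zero_smul, neg_zero, add_zero] at h1
      have h2 : f x = (polar (⇑Q) u (ρ a *ᵥ x) - Q u * polar (⇑Q) v₁ (ρ a *ᵥ x)) • v₁
          + (-(polar (⇑Q) v₁ (ρ a *ᵥ x))) • u := by
        rw [hf, Matrix.mulVecLin_apply, rho_sub_mulVec, ← h1]
        abel
      rw [h2]
      apply Submodule.add_mem
      · exact Submodule.smul_mem _ _ (Submodule.subset_span (by simp))
      · exact Submodule.smul_mem _ _ (Submodule.subset_span (by simp))
    have h3 : finrank F ↥(C.map f) = finrank F ↥C :=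
      LinearEquiv.finrank_eq (Submodule.equivMapOfInjective f hfinj C).symm
    have h4 : finrank F ↥(Submodule.span F ({v₁, u} : Set (ι → F))) ≤ 2 := by
      classical
      have h41 : finrank F ↥(Submodule.span F ((({v₁, u} : Finset (ι → F)) : Set (ι → F))))
          ≤ ({v₁, u} : Finset (ι → F)).card :=
        finrank_span_finset_le_card (R := F) ({v₁, u} : Finset (ι → F))
      have hc2 : ({v₁, u} : Finset (ι → F)).card ≤ 2 := Finset.card_le_two
      have hcoe : ((({v₁, u} : Finset (ι → F)) : Set (ι → F))) = ({v₁, u} : Set (ι → F)) := by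
        simp
      rw [hcoe] at h41
      omega
    have h5 := Submodule.finrank_mono hle
    omega
  rw [hba] at hact
  -- a vector `x ⟂ v₁` with `polar u x ≠ 0`
  obtain ⟨w, hw⟩ := hnd v₁ hv₁
  set lam : F := polar (⇑Q) u w / polar (⇑Q) v₁ w with hlam
  have hu' : u - lam • v₁ ≠ 0 := by
    intro h
    apply hu
    rw [sub_eq_zero] at h
    rw [h, ← rho_algebraMap_mulVec ρ]
    exact smul_mem_pt ρ v₁ _
  obtain ⟨y, hy⟩ := hnd _ hu'
  set x : ι → F := y - (polar (⇑Q) v₁ y / polar (⇑Q) v₁ w) • w with hx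
  have hxv : polar (⇑Q) v₁ x = 0 := by
    rw [hx, polar_sub_right, polar_smul_right, smul_eq_mul, div_mul_cancel₀ _ hw, sub_self]
  have hxu : polar (⇑Q) u x ≠ 0 := by
    have : polar (⇑Q) u x = polar (⇑Q) (u - lam • v₁) y := by
      rw [hx, polar_sub_right, polar_smul_right, polar_sub_left, polar_smul_left, smul_eq_mul,
        smul_eq_mul, hlam]
      field_simp
    rw [this]
    exact hy
  set s : F := polar (⇑Q) u x with hs
  have h1 := hact x
  rw [hgx x, hgx (ρ a *ᵥ x), hxv] at h1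
  simp only [mul_zero, sub_zero, neg_zero, zero_smul, add_zero] at h1
  rw [Matrix.mulVec_add, Matrix.mulVec_smul] at h1
  set α : F := polar (⇑Q) u (ρ a *ᵥ x) - Q u * polar (⇑Q) v₁ (ρ a *ᵥ x) with hα
  set β : F := -(polar (⇑Q) v₁ (ρ a *ᵥ x)) with hβ
  have h2 : s • (ρ a *ᵥ v₁) = α • v₁ + β • u := by
    rw [add_assoc] at h1
    exact (add_left_cancel h1).symm
  by_cases hβ0 : β = 0
  · rw [hβ0, zero_smul, add_zero] at h2
    have h3 : ρ (a - algebraMap F L (α / s)) *ᵥ v₁ = 0 := by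
      rw [rho_sub_mulVec, rho_algebraMap_mulVec, sub_eq_zero]
      have : ρ a *ᵥ v₁ = s⁻¹ • (s • (ρ a *ᵥ v₁)) := by
        rw [smul_smul, inv_mul_cancel₀ hxu, one_smul]
      rw [this, h2, smul_smul, div_eq_inv_mul]
    by_cases hz : a - algebraMap F L (α / s) = 0
    · exact ha _ (sub_eq_zero.mp hz).symm
    · exact hv₁ (rho_inj ρ hz h3)
  · apply hu
    have h3 : u = β⁻¹ • (s • (ρ a *ᵥ v₁) - α • v₁) := by
      rw [h2, add_sub_cancel_left, smul_smul, inv_mul_cancel₀ hβ0, one_smul]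
    rw [h3]
    apply Submodule.smul_mem
    apply Submodule.sub_mem
    · exact Submodule.smul_mem _ _ (smul_mem_pt ρ v₁ a)
    · exact Submodule.smul_mem _ _ (self_mem_pt ρ v₁)

/-- FO-BR4 (exact skeleton signature). -/
theorem exists_omega_not_normalizes [Fintype F] (S : OStr ρ Q τ B) (hr : r.Prime)
    (hrk : finrank F L = r) (hn : 4 * r ≤ Fintype.card ι) :
    ∃ g ∈ Cfsg.Geo.omegaGL ⇑Q, ¬ Normalizes ρ g := by
  have hr2 := hr.two_le
  have h5 : 5 ≤ Fintype.card ι := by omega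
  have hnd := S.nondeg
  have hQnd : (polarBilin Q).Nondegenerate := by
    constructor
    · intro x hx
      by_contra hne
      obtain ⟨w, hw⟩ := hnd x hne
      exact hw (by rw [← polarBilin_apply_apply]; exact hx w)
    · intro y hy
      by_contra hne
      obtain ⟨w, hw⟩ := hnd y hne
      apply hw
      rw [polar_comm, ← polarBilin_apply_apply]
      exact hy w
  -- a singular vector
  obtain ⟨v₁, -, hv₁0, hv₁Q⟩ := OND.exists_singular_sub Q (⊤ : Submodule F (ι → F)) (by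
    rw [finrank_top, Module.finrank_fintype_fun_eq_card]; omega)
  -- `u ⟂ v₁` outside `L∙v₁`
  obtain ⟨u, hpol, hu⟩ : ∃ u, polar (⇑Q) v₁ u = 0 ∧ u ∉ pt ρ v₁ := by
    by_contra hcon
    push Not at hcon
    have hle : LinearMap.ker (polarBilin Q v₁) ≤ pt ρ v₁ := by
      intro x hx
      rw [LinearMap.mem_ker, polarBilin_apply_apply] at hx
      exact hcon x hx
    have h1 := Submodule.finrank_mono hle
    have h2 : finrank F ↥(pt ρ v₁) ≤ r := by
      have : Module.Finite F L := Module.finite_of_finrank_pos (by omega)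
      rw [← hrk]
      exact LinearMap.finrank_range_le (orb ρ v₁)
    have h3 := LinearMap.finrank_range_add_finrank_ker (polarBilin Q v₁)
    have h4 : finrank F ↥(LinearMap.range (polarBilin Q v₁)) ≤ 1 := by
      have := Submodule.finrank_le (LinearMap.range (polarBilin Q v₁))
      rwa [Module.finrank_self] at this
    rw [Module.finrank_fintype_fun_eq_card] at h3
    omega
  refine ⟨((siegIso Q v₁ u hv₁Q hpol : ↥(Cfsg.isometryGroup F ⇑Q)) : GL ι F), ?_, ?_⟩
  · exact (mem_omegaGL_iff Q _).2 ⟨siegIso Q v₁ u hv₁Q hpol,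
      siegIso_mem_Omega Q hQnd h5 v₁ u hv₁Q hpol, rfl⟩
  · exact not_normalizes_sieg ρ Q hrk hr2 h5 hnd hv₁0 hu _ (fun x => rfl)

end Cfsg.Agent.Lib.Helper16.S5701FOBR4
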