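import Mathlib

set_option autoImplicit false

namespace Cfsg.Agent.Lib.Helper16.S5778NF2

open Module Polynomial

section core
variable {k : Type*} [Field k]

/-- a binary diagonal form over a finite field of odd order represents everything -/
theorem exists_rep [Fintype k] (hk : ringChar k ≠ 2) (a b c : k) (ha : a ≠ 0) (hb : b ≠ 0) :
    ∃ x y : k, a * x ^ 2 + b * y ^ 2 = c := by
  have hodd := FiniteField.odd_card_of_char_ne_two hk
  have hf : degree (C a * X ^ 2 : k[X]) = 2 := by
    rw [degree_C_mul_X_pow 2 ha]; rfl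
  have hg : degree (C b * X ^ 2 - C c : k[X]) = 2 := by
    rw [degree_sub_eq_left_of_degree_lt]
    · rw [degree_C_mul_X_pow 2 hb]; rfl
    · rw [degree_C_mul_X_pow 2 hb]
      exact lt_of_le_of_lt degree_C_le (by norm_num)
  obtain ⟨x, y, h⟩ := FiniteField.exists_root_sum_quadratic hf hg hodd
  refine ⟨x, y, ?_⟩
  simp only [eval_mul, eval_C, eval_pow, eval_X, eval_sub] at h
  linear_combination h

variable {V : Type*} [AddCommGroup V] [Module k V]

/-- a non-degenerate symmetric bilinear form of dimension three over a finite field of odd order has a basis with Gram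
matrix `c • 1` -/
theorem exists_scalar_gram [Fintype k] [FiniteDimensional k V] (hk : ringChar k ≠ 2) (B : LinearMap.BilinForm k V) (hs : B.IsSymm) (hnd : B.Nondegenerate)
    (hdim : finrank k V = 3) :
    ∃ (w : Fin 3 → V) (c : k), c ≠ 0 ∧ ∀ i j, B (w i) (w j) = if i = j then c else 0 := by
  have : Invertible (2 : k) := by
    apply invertibleOfNonzero
    intro h2
    apply hk
    exact CharP.ringChar_of_prime_eq_zero Nat.prime_two (by exact_mod_cast h2)
  obtain ⟨v0, hv0⟩ := LinearMap.BilinForm.exists_orthogonal_basis (LinearMap.BilinForm.isSymm_iff.mp hs)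
  let v : Basis (Fin 3) k V := v0.reindex (finCongr hdim)
  have hv : B.IsOrthoᵢ v := by
    intro i j hij
    show B (v i) (v j) = 0
    simp only [v, Basis.reindex_apply]
    exact hv0 (fun h => hij ((finCongr hdim).symm.injective h))
  have hne : ∀ i, B (v i) (v i) ≠ 0 := fun i =>
    LinearMap.BilinForm.iIsOrtho.not_isOrtho_basis_self_of_nondegenerate hv hnd i
  have h01 : B (v 0) (v 1) = 0 := hv (by decide)
  have h10 : B (v 1) (v 0) = 0 := hv (by decide)
  have h02 : B (v 0) (v 2) = 0 := hv (by decide)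
  have h20 : B (v 2) (v 0) = 0 := hv (by decide)
  have h12 : B (v 1) (v 2) = 0 := hv (by decide)
  have h21 : B (v 2) (v 1) = 0 := hv (by decide)
  set a0 := B (v 0) (v 0) with ha0
  set a1 := B (v 1) (v 1) with ha1
  set a2 := B (v 2) (v 2) with ha2
  have hn0 : a0 ≠ 0 := hne 0
  have hn1 : a1 ≠ 0 := hne 1
  have hn2 : a2 ≠ 0 := hne 2
  set d := a0 * a1 * a2 with hd
  have hd0 : d ≠ 0 := mul_ne_zero (mul_ne_zero hn0 hn1) hn2
  obtain ⟨x, y, hxy⟩ := exists_rep hk a0 a1 d hn0 hn1
  set c' := a0 * a1 * d with hc'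
  have hc'0 : c' ≠ 0 := mul_ne_zero (mul_ne_zero hn0 hn1) hd0
  obtain ⟨x', y', hxy'⟩ := exists_rep hk c' a2 d hc'0 hn2
  -- the vectors
  set u1 : V := x • v 0 + y • v 1 with hu1
  set u1' : V := (-(a1 * y)) • v 0 + (a0 * x) • v 1 with hu1'
  set u2 : V := x' • u1' + y' • v 2 with hu2
  set u3 : V := (-(a2 * y')) • u1' + (c' * x') • v 2 with hu3
  have e11 : B u1 u1 = d := by
    simp only [hu1, map_add, map_smul, LinearMap.add_apply, LinearMap.smul_apply, smul_eq_mul, h01, h10, ← ha0, ← ha1]
    linear_combination hxy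
  have e11' : B u1 u1' = 0 := by
    simp only [hu1, hu1', map_add, map_smul, LinearMap.add_apply, LinearMap.smul_apply, smul_eq_mul, h01, h10,
      ← ha0, ← ha1]
    ring
  have e1'1 : B u1' u1 = 0 := by rw [← hs.eq, e11']
  have e1'1' : B u1' u1' = c' := by
    simp only [hu1', map_add, map_smul, LinearMap.add_apply, LinearMap.smul_apply, smul_eq_mul, h01, h10,
      ← ha0, ← ha1]
    linear_combination (a0 * a1) * hxy
  have e1v2 : B u1 (v 2) = 0 := by
    simp only [hu1, map_add, map_smul, LinearMap.add_apply, LinearMap.smul_apply, smul_eq_mul, h02, h12]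
    ring
  have ev21 : B (v 2) u1 = 0 := by rw [← hs.eq, e1v2]
  have e1'v2 : B u1' (v 2) = 0 := by
    simp only [hu1', map_add, map_smul, LinearMap.add_apply, LinearMap.smul_apply, smul_eq_mul, h02, h12]
    ring
  have ev21' : B (v 2) u1' = 0 := by rw [← hs.eq, e1'v2]
  have e22 : B u2 u2 = d := by
    simp only [hu2, map_add, map_smul, LinearMap.add_apply, LinearMap.smul_apply, smul_eq_mul, e1'1', e1'v2, ev21',
      ← ha2]
    linear_combination hxy'
  have e12 : B u1 u2 = 0 := by
    simp only [hu2, map_add, map_smul, LinearMap.add_apply, LinearMap.smul_apply, smul_eq_mul, e11', e1v2]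
    ring
  have e13 : B u1 u3 = 0 := by
    simp only [hu3, map_add, map_smul, LinearMap.add_apply, LinearMap.smul_apply, smul_eq_mul, e11', e1v2]
    ring
  have e23 : B u2 u3 = 0 := by
    simp only [hu2, hu3, map_add, map_smul, LinearMap.add_apply, LinearMap.smul_apply, smul_eq_mul, e1'1', e1'v2,
      ev21', ← ha2]
    ring
  have e33 : B u3 u3 = d * d ^ 2 := by
    simp only [hu3, map_add, map_smul, LinearMap.add_apply, LinearMap.smul_apply, smul_eq_mul, e1'1', e1'v2,
      ev21', ← ha2]
    linear_combination (c' * a2) * hxy'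
  have e21 : B u2 u1 = 0 := by rw [← hs.eq, e12]
  have e31 : B u3 u1 = 0 := by rw [← hs.eq, e13]
  have e32 : B u3 u2 = 0 := by rw [← hs.eq, e23]
  refine ⟨![u1, u2, d⁻¹ • u3], d, hd0, ?_⟩
  intro i j
  fin_cases i <;> fin_cases j <;>
    simp [e11, e12, e13, e21, e22, e23, e31, e32, e33, hd0, map_smul, LinearMap.smul_apply]
  field_simp

end core

end Cfsg.Agent.Lib.Helper16.S5778NF2
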