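import Mathlib
import Cfsg.Prelude.Def_GeometricClasses
import Cfsg.Prelude.Def_LieClassical
import Cfsg.Agent.Lib.Helper13.TensorNM
import Cfsg.Agent.Lib.Helper24.S5670FOISO
import Cfsg.Agent.Lib.Helper24.S5784X1d
import Cfsg.Agent.Lib.Helper16.S5778NF2Core

set_option autoImplicit false

namespace Cfsg.Agent.Lib.Helper16.S5778NF2

open Cfsg Cfsg.Geo Matrix
open Cfsg.Agent.Lib.Helper24.S5670ISO

variable {F : Type*} [Field F] [Fintype F] {q : ℕ}

/-- `x ↦ x ^ q` as a ring homomorphism -/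
def sigQ (hF : Fintype.card F = q ^ 2) : F →+* F where
  toFun x := x ^ q
  map_one' := one_pow q
  map_mul' x y := mul_pow x y q
  map_zero' := zero_pow (by have := two_le_q hF; omega)
  map_add' x y := add_pow_q hF x y

theorem sigQ_apply (hF : Fintype.card F = q ^ 2) (x : F) : sigQ hF x = x ^ q := rfl

theorem card_sub (hF : Fintype.card F = q ^ 2) (F₀ : Subfield F) (hc : Fintype.card F = Nat.card F₀ ^ 2) :
    Nat.card F₀ = q := by
  rw [hF] at hc
  exact (Nat.pow_left_injective (by norm_num : 2 ≠ 0) hc).symm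

theorem pow_q_of_mem (hF : Fintype.card F = q ^ 2) (F₀ : Subfield F) (hc : Fintype.card F = Nat.card F₀ ^ 2)
    {x : F} (hx : x ∈ F₀) : x ^ q = x := by
  classical
  have h1 := card_sub hF F₀ hc
  have h2 : (⟨x, hx⟩ : F₀) ^ Fintype.card F₀ = ⟨x, hx⟩ := FiniteField.pow_card _
  rw [← Nat.card_eq_fintype_card, h1] at h2
  exact congrArg Subtype.val h2

theorem ringChar_sub_ne_two (hF : Fintype.card F = q ^ 2) (hq : Odd q) (F₀ : Subfield F)
    (hc : Fintype.card F = Nat.card F₀ ^ 2) : ringChar F₀ ≠ 2 := by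
  classical
  intro h
  have h1 := FiniteField.even_card_of_char_two h
  rw [← Nat.card_eq_fintype_card, card_sub hF F₀ hc] at h1
  rcases hq with ⟨m, rfl⟩
  omega

theorem conj_map_self {G : Type*} [Group G] (N : Subgroup G) {n : G} (hn : n ∈ N) :
    N.map (MulAut.conj n).toMonoidHom = N := by
  ext y
  simp only [Subgroup.mem_map, MulEquiv.coe_toMonoidHom, MulAut.conj_apply]
  constructor
  · rintro ⟨x, hx, rfl⟩
    exact N.mul_mem (N.mul_mem hn hx) (N.inv_mem hn)
  · intro hy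
    exact ⟨n⁻¹ * y * n, N.mul_mem (N.mul_mem (N.inv_mem hn) hy) hn, by group⟩

/-- changing the structure matrix by an element of the standard subfield group does not change the subfield group -/
theorem subfieldSubgroup_mul (F₀ : Subfield F) (P n : GL (Fin 3) F)
    (hn : n ∈ (Matrix.GeneralLinearGroup.map (F₀.subtype : F₀ →+* F)).range ⊔ scalars (Fin 3) F) :
    subfieldSubgroup F₀ (P * n) = subfieldSubgroup F₀ P := by
  unfold subfieldSubgroup
  have h1 : (MulAut.conj (P * n)).toMonoidHom = (MulAut.conj P).toMonoidHom.comp (MulAut.conj n).toMonoidHom := by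
    ext1 x
    simp [MulAut.conj_apply, mul_assoc]
  rw [h1, ← Subgroup.map_map, conj_map_self _ hn]

theorem exists_unitary_structure (hF : Fintype.card F = q ^ 2) (hq : Odd q) (F₀ : Subfield F) (P : GL (Fin 3) F)
    (hc : Fintype.card F = Nat.card F₀ ^ 2) (hP : IsFormRationalStructure (hermForm 3 F q) F₀ 1 P) :
    ∃ g : GL (Fin 3) F, g ∈ GU 3 F q ∧ subfieldSubgroup F₀ P = subfieldSubgroup F₀ g := by
  classical
  have hq2 := two_le_q hF
  set σ : F →+* F := sigQ hF with hσ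
  have hfix : ∀ x ∈ F₀, x ^ q = x := fun x hx => pow_q_of_mem hF F₀ hc hx
  -- the Gram matrix
  set G : Matrix (Fin 3) (Fin 3) F := (P : Matrix (Fin 3) (Fin 3) F)ᵀ * (P : Matrix (Fin 3) (Fin 3) F).map σ with hG
  have hGentry : ∀ i j, G i j = hermForm 3 F q ((P : Matrix (Fin 3) (Fin 3) F) *ᵥ Pi.single i 1)
      ((P : Matrix (Fin 3) (Fin 3) F) *ᵥ Pi.single j 1) := by
    intro i j
    simp only [hG, Matrix.mul_apply, Matrix.transpose_apply, Matrix.map_apply, hermForm, Matrix.mulVec_single_one,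
      Matrix.col_apply, hσ, sigQ_apply]
  have hGmem : ∀ i j, G i j ∈ F₀ := by
    intro i j
    rw [hGentry]
    have := hP (Pi.single i 1) (Pi.single j 1) (fun r => by
      by_cases h : r = i
      · subst h; simp [F₀.one_mem]
      · simp [Pi.single_apply, h, F₀.zero_mem]) (fun r => by
      by_cases h : r = j
      · subst h; simp [F₀.one_mem]
      · simp [Pi.single_apply, h, F₀.zero_mem])
    rwa [one_mul] at this
  have hGsymm : ∀ i j, G j i = G i j := by
    intro i j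
    have h1 : G j i = (G i j) ^ q := by
      simp only [hG, Matrix.mul_apply, Matrix.transpose_apply, Matrix.map_apply, hσ, sigQ_apply]
      rw [sum_pow_q hF]
      refine Finset.sum_congr rfl fun r _ => ?_
      rw [mul_pow, pow_q_q hF, mul_comm]
    rw [h1, hfix _ (hGmem i j)]
  -- descend to the subfield
  let G₀ : Matrix (Fin 3) (Fin 3) F₀ := fun i j => ⟨G i j, hGmem i j⟩
  have hG₀ : G₀.map (F₀.subtype : F₀ →+* F) = G := by
    ext i j; rfl
  have hG₀s : G₀.IsSymm := by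
    ext i j
    exact (hGsymm i j)
  have hdetG : G.det ≠ 0 := by
    rw [hG, Matrix.det_mul, Matrix.det_transpose]
    have h1 : ((P : Matrix (Fin 3) (Fin 3) F).map σ).det = σ ((P : Matrix (Fin 3) (Fin 3) F).det) := by
      rw [RingHom.map_det]; rfl
    rw [h1]
    have h2 : (P : Matrix (Fin 3) (Fin 3) F).det ≠ 0 := Matrix.GeneralLinearGroup.det_ne_zero P
    exact mul_ne_zero h2 ((map_ne_zero σ).mpr h2)
  have hdetG₀ : G₀.det ≠ 0 := by
    intro h
    apply hdetG
    rw [← hG₀]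
    have : (G₀.map (F₀.subtype : F₀ →+* F)).det = (F₀.subtype : F₀ →+* F) G₀.det := by
      rw [RingHom.map_det]; rfl
    rw [this, h, map_zero]
  -- the core lemma
  have hk : ringChar F₀ ≠ 2 := ringChar_sub_ne_two hF hq F₀ hc
  letI : Fintype F₀ := Fintype.ofFinite F₀
  obtain ⟨w, c, hc0, hw⟩ := exists_scalar_gram hk (Matrix.toBilin' G₀)
    (Matrix.isSymm_toBilin'_iff_isSymm.mpr hG₀s)
    (LinearMap.BilinForm.nondegenerate_toBilin'_iff_det_ne_zero.mpr hdetG₀) (by simp)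
  let Q₀ : Matrix (Fin 3) (Fin 3) F₀ := Matrix.of fun r i => w i r
  have hQ₀ : Q₀ᵀ * G₀ * Q₀ = c • (1 : Matrix (Fin 3) (Fin 3) F₀) := by
    apply Matrix.ext
    intro i j
    have := hw i j
    rw [Matrix.toBilin'_apply'] at this
    simp only [Matrix.mul_apply, Matrix.transpose_apply, Matrix.smul_apply, Matrix.one_apply, smul_eq_mul, mul_ite,
      mul_one, mul_zero]
    rw [← this]
    simp only [dotProduct, Matrix.mulVec, Q₀, Matrix.of_apply, Finset.sum_mul, Finset.mul_sum]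
    rw [Finset.sum_comm]
    refine Finset.sum_congr rfl fun r _ => Finset.sum_congr rfl fun s _ => ?_
    ring
  have hdetQ₀ : Q₀.det ≠ 0 := by
    intro h
    have h1 := congrArg Matrix.det hQ₀
    rw [Matrix.det_mul, Matrix.det_mul, Matrix.det_transpose, h, Matrix.det_smul, Matrix.det_one] at h1
    simp only [zero_mul, mul_zero, Fintype.card_fin, mul_one] at h1
    exact pow_ne_zero 3 hc0 h1.symm
  let Qg₀ : GL (Fin 3) F₀ := Matrix.GeneralLinearGroup.mkOfDetNeZero Q₀ hdetQ₀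
  let Qg : GL (Fin 3) F := Matrix.GeneralLinearGroup.map (F₀.subtype : F₀ →+* F) Qg₀
  have hQgval : (Qg : Matrix (Fin 3) (Fin 3) F) = Q₀.map (F₀.subtype : F₀ →+* F) := by
    ext i j
    rfl
  -- the scalar
  have hcfix : ((c : F₀) : F) ^ q = (c : F) := hfix _ c.2
  obtain ⟨lam, hlam⟩ := exists_norm_eq hF (c : F) hcfix
  have hcF : ((c : F₀) : F) ≠ 0 := fun h => hc0 (Subtype.ext h)
  have hlam0 : lam ≠ 0 := by
    rintro rfl
    rw [zero_pow (by omega)] at hlam
    exact hcF hlam.symm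
  let s : GL (Fin 3) F := Matrix.GeneralLinearGroup.scalar (Fin 3) (Units.mk0 lam⁻¹ (inv_ne_zero hlam0))
  have hsval : (s : Matrix (Fin 3) (Fin 3) F) = lam⁻¹ • (1 : Matrix (Fin 3) (Fin 3) F) := by
    ext i j
    simp [s, Matrix.GeneralLinearGroup.coe_scalar, Matrix.scalar_apply, Matrix.diagonal_apply, Matrix.one_apply]
  have hn : Qg * s ∈ (Matrix.GeneralLinearGroup.map (F₀.subtype : F₀ →+* F)).range ⊔ scalars (Fin 3) F := by
    apply Subgroup.mul_mem_sup
    · exact ⟨Qg₀, rfl⟩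
    · rw [mem_scalars_iff]
      exact ⟨Units.mk0 lam⁻¹ (inv_ne_zero hlam0), hsval⟩
  refine ⟨P * (Qg * s), ?_, ?_⟩
  swap
  · rw [subfieldSubgroup_mul F₀ P _ hn]
  -- unitarity
  have hval : ((P * (Qg * s) : GL (Fin 3) F) : Matrix (Fin 3) (Fin 3) F) =
      lam⁻¹ • ((P : Matrix (Fin 3) (Fin 3) F) * Q₀.map (F₀.subtype : F₀ →+* F)) := by
    rw [Matrix.GeneralLinearGroup.coe_mul, Matrix.GeneralLinearGroup.coe_mul, hsval, hQgval]
    rw [Matrix.mul_smul, Matrix.mul_one, Matrix.mul_smul]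
  have hQσ : (Q₀.map (F₀.subtype : F₀ →+* F)).map σ = Q₀.map (F₀.subtype : F₀ →+* F) := by
    ext i j
    simp only [Matrix.map_apply, hσ, sigQ_apply]
    exact hfix _ (Q₀ i j).2
  have hQGQ : (Q₀.map (F₀.subtype : F₀ →+* F))ᵀ * G * Q₀.map (F₀.subtype : F₀ →+* F) =
      (c : F) • (1 : Matrix (Fin 3) (Fin 3) F) := by
    have h1 := congrArg (fun M : Matrix (Fin 3) (Fin 3) F₀ => M.map (F₀.subtype : F₀ →+* F)) hQ₀
    simp only [Matrix.map_mul, hG₀] at h1
    rw [← Matrix.transpose_map, h1]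
    ext i j
    simp [Matrix.map_apply, Matrix.smul_apply, Matrix.one_apply]
    split_ifs <;> simp
  have key : ((P * (Qg * s) : GL (Fin 3) F) : Matrix (Fin 3) (Fin 3) F)ᵀ * 1 *
      ((P * (Qg * s) : GL (Fin 3) F) : Matrix (Fin 3) (Fin 3) F).map (fun x : F => x ^ q) = 1 := by
    have hmapσ : ∀ M : Matrix (Fin 3) (Fin 3) F, M.map (fun x : F => x ^ q) = M.map σ := fun M => rfl
    rw [hmapσ, hval, Matrix.mul_one, Matrix.transpose_smul, Matrix.transpose_mul]
    have h2 : (lam⁻¹ • ((P : Matrix (Fin 3) (Fin 3) F) * Q₀.map (F₀.subtype : F₀ →+* F))).map σ =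
        σ lam⁻¹ • (((P : Matrix (Fin 3) (Fin 3) F).map σ) * (Q₀.map (F₀.subtype : F₀ →+* F))) := by
      have h2a : (lam⁻¹ • ((P : Matrix (Fin 3) (Fin 3) F) * Q₀.map (F₀.subtype : F₀ →+* F))).map σ =
          σ lam⁻¹ • (((P : Matrix (Fin 3) (Fin 3) F) * Q₀.map (F₀.subtype : F₀ →+* F)).map σ) := by
        ext i j
        simp only [Matrix.map_apply, Matrix.smul_apply, smul_eq_mul, map_mul]
      rw [h2a, Matrix.map_mul, hQσ]
    rw [h2, Matrix.smul_mul, Matrix.mul_smul, smul_smul]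
    have h3 : (Q₀.map (F₀.subtype : F₀ →+* F))ᵀ * (P : Matrix (Fin 3) (Fin 3) F)ᵀ *
        ((P : Matrix (Fin 3) (Fin 3) F).map σ * Q₀.map (F₀.subtype : F₀ →+* F)) =
        (Q₀.map (F₀.subtype : F₀ →+* F))ᵀ * G * Q₀.map (F₀.subtype : F₀ →+* F) := by
      rw [hG]
      simp only [Matrix.mul_assoc]
    rw [h3, hQGQ, smul_smul]
    have h4 : lam⁻¹ * σ lam⁻¹ * (c : F) = 1 := by
      rw [hσ, sigQ_apply, ← hlam, inv_pow, pow_succ]
      field_simp
    rw [h4, one_smul]
  show ∀ u v, hermForm 3 F q ((Units.coeHom _ (P * (Qg * s))) *ᵥ u) ((Units.coeHom _ (P * (Qg * s))) *ᵥ v) =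
    hermForm 3 F q u v
  intro u v
  rw [Cfsg.Agent.Lib.Helper24.S5784X1.herm_eq_fog, Cfsg.Agent.Lib.Helper24.S5784X1.herm_eq_fog]
  exact (Cfsg.Agent.Lib.Helper13.TNM.preserves_iff (fun x : F => x ^ q)
    (zero_pow (by omega)) (one_pow q) (add_pow_q hF) (fun a b => mul_pow a b q) 1 _).mpr key u v

/-- the subfield group of `g` is the conjugate by `g` of the standard one -/
theorem subfieldSubgroup_eq_map (F₀ : Subfield F) (g : GL (Fin 3) F) :
    subfieldSubgroup F₀ g = (subfieldSubgroup F₀ 1).map (MulAut.conj g).toMonoidHom := by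
  have h1 : subfieldSubgroup F₀ (1 : GL (Fin 3) F) =
      (Matrix.GeneralLinearGroup.map (F₀.subtype : F₀ →+* F)).range ⊔ scalars (Fin 3) F := by
    unfold subfieldSubgroup
    ext y
    simp [Subgroup.mem_map]
  rw [h1]
  rfl

theorem scalar_comm (c : Fˣ) (x : GL (Fin 3) F) :
    Matrix.GeneralLinearGroup.scalar (Fin 3) c * x = x * Matrix.GeneralLinearGroup.scalar (Fin 3) c :=
  Matrix.GeneralLinearGroup.scalar_commute c x

/-- the elements of the standard subfield group: a matrix over the subfield times a scalar -/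
theorem mem_subfieldSubgroup_one_iff (F₀ : Subfield F) (x : GL (Fin 3) F) :
    x ∈ subfieldSubgroup F₀ (1 : GL (Fin 3) F) ↔
      ∃ (g₀ : GL (Fin 3) F₀) (c : Fˣ), x = Matrix.GeneralLinearGroup.map (F₀.subtype : F₀ →+* F) g₀ *
        Matrix.GeneralLinearGroup.scalar (Fin 3) c := by
  have h1 : subfieldSubgroup F₀ (1 : GL (Fin 3) F) =
      (Matrix.GeneralLinearGroup.map (F₀.subtype : F₀ →+* F)).range ⊔ scalars (Fin 3) F := by
    unfold subfieldSubgroup
    ext y
    simp [Subgroup.mem_map]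
  have hsc : ∀ y : GL (Fin 3) F, y ∈ scalars (Fin 3) F ↔ ∃ c : Fˣ, y = Matrix.GeneralLinearGroup.scalar (Fin 3) c := by
    intro y
    rw [mem_scalars_iff]
    constructor
    · rintro ⟨c, hc⟩
      refine ⟨c, Units.ext ?_⟩
      rw [hc, Matrix.GeneralLinearGroup.coe_scalar]
      ext i j
      simp [Matrix.scalar_apply, Matrix.diagonal_apply, Matrix.one_apply]
    · rintro ⟨c, rfl⟩
      refine ⟨c, ?_⟩
      rw [Matrix.GeneralLinearGroup.coe_scalar]
      ext i j
      simp [Matrix.scalar_apply, Matrix.diagonal_apply, Matrix.one_apply]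
  rw [h1]
  constructor
  · intro hx
    -- closure induction on the sup
    let T : Subgroup (GL (Fin 3) F) :=
      { carrier := {x | ∃ (g₀ : GL (Fin 3) F₀) (c : Fˣ), x = Matrix.GeneralLinearGroup.map (F₀.subtype : F₀ →+* F) g₀ *
          Matrix.GeneralLinearGroup.scalar (Fin 3) c}
        one_mem' := ⟨1, 1, by simp⟩
        mul_mem' := by
          rintro a b ⟨g₁, c₁, rfl⟩ ⟨g₂, c₂, rfl⟩
          refine ⟨g₁ * g₂, c₁ * c₂, ?_⟩
          rw [map_mul, map_mul, mul_assoc, ← mul_assoc (Matrix.GeneralLinearGroup.scalar (Fin 3) c₁),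
            scalar_comm c₁, mul_assoc, ← mul_assoc]
        inv_mem' := by
          rintro a ⟨g₁, c₁, rfl⟩
          refine ⟨g₁⁻¹, c₁⁻¹, ?_⟩
          rw [map_inv, map_inv, ← _root_.mul_inv_rev, scalar_comm] }
    have hle : (Matrix.GeneralLinearGroup.map (F₀.subtype : F₀ →+* F)).range ⊔ scalars (Fin 3) F ≤ T := by
      apply sup_le
      · rintro y ⟨g₀, rfl⟩
        exact ⟨g₀, 1, by simp⟩
      · intro y hy
        obtain ⟨c, rfl⟩ := (hsc y).mp hy
        exact ⟨1, c, by simp⟩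
    exact hle hx
  · rintro ⟨g₀, c, rfl⟩
    apply Subgroup.mul_mem_sup
    · exact ⟨g₀, rfl⟩
    · exact (hsc _).mpr ⟨c, rfl⟩

/-- NF2 in elementwise form: after conjugation by a unitary `g` the subfield group is the standard one -/
theorem exists_conj_std (hF : Fintype.card F = q ^ 2) (hq : Odd q) (F₀ : Subfield F) (P : GL (Fin 3) F)
    (hc : Fintype.card F = Nat.card F₀ ^ 2) (hP : IsFormRationalStructure (hermForm 3 F q) F₀ 1 P) :
    ∃ g : GL (Fin 3) F, g ∈ GU 3 F q ∧ ∀ x : GL (Fin 3) F, x ∈ subfieldSubgroup F₀ P ↔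
      ∃ (g₀ : GL (Fin 3) F₀) (c : Fˣ), g⁻¹ * x * g = Matrix.GeneralLinearGroup.map (F₀.subtype : F₀ →+* F) g₀ *
        Matrix.GeneralLinearGroup.scalar (Fin 3) c := by
  obtain ⟨g, hg, he⟩ := exists_unitary_structure hF hq F₀ P hc hP
  refine ⟨g, hg, fun x => ?_⟩
  rw [he, subfieldSubgroup_eq_map, ← mem_subfieldSubgroup_one_iff]
  simp only [Subgroup.mem_map, MulEquiv.coe_toMonoidHom, MulAut.conj_apply]
  constructor
  · rintro ⟨y, hy, rfl⟩
    have : g⁻¹ * (g * y * g⁻¹) * g = y := by group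
    rwa [this]
  · intro h
    exact ⟨g⁻¹ * x * g, h, by group⟩

end Cfsg.Agent.Lib.Helper16.S5778NF2
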