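import Mathlib
import Cfsg.Agent.Lib.Helper17.ExtFDefs

/-!
# S5886 FO-P1: an element preserving the spread of `L`-points normalises the embedded field
-/

set_option autoImplicit false

namespace Cfsg.Agent.Lib.Helper16.S5886FOP1

open Matrix Module Cfsg.Agent.Lib.Helper17.ExtF

variable {F : Type*} [Field F] {L : Type*} [Field L] [Algebra F L] {n : ℕ}
  (ρ : L →ₐ[F] Matrix (Fin n) (Fin n) F) {r : ℕ}

/-- `ρ c` is injective for `c ≠ 0` -/
theorem rho_inj {c : L} (hc : c ≠ 0) {v : Fin n → F} (hv : ρ c *ᵥ v = 0) : v = 0 := by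
  have h1 : ρ c⁻¹ *ᵥ (ρ c *ᵥ v) = v := by
    rw [← rho_mul_mulVec, inv_mul_cancel₀ hc, rho_one_mulVec]
  rw [hv, Matrix.mulVec_zero] at h1
  exact h1.symm

theorem rho_sub_mulVec (a b : L) (v : Fin n → F) : ρ (a - b) *ᵥ v = ρ a *ᵥ v - ρ b *ᵥ v := by
  rw [map_sub, Matrix.sub_mulVec]

/-- the eigenvalue is unique on nonzero vectors -/
theorem rho_eq_of_mulVec_eq {a b : L} {v : Fin n → F} (hv : v ≠ 0) (h : ρ a *ᵥ v = ρ b *ᵥ v) :
    a = b := by
  by_contra hne
  have hc : a - b ≠ 0 := sub_ne_zero.mpr hne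
  apply hv
  apply rho_inj ρ hc
  rw [rho_sub_mulVec, h, sub_self]

theorem normalizes_of_not_moves (hrk : finrank F L = r) (hr : 0 < r) (hn : 2 * r ≤ n)
    (g : GL (Fin n) F) (h : ¬ Moves ρ g) : Normalizes ρ g := by
  have hfin : FiniteDimensional F L := Module.finite_of_finrank_pos (by omega)
  have hpres : ∀ v : Fin n → F, v ≠ 0 → (pt ρ v).map (actL g) = pt ρ (act g v) := by
    intro v hv
    by_contra hne
    exact h ⟨v, hv, hne⟩
  intro a
  -- `A v = g (ρ a (g⁻¹ v)) ∈ L v`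
  have hA : ∀ v : Fin n → F, ∃ μ : L, act g (ρ a *ᵥ act g⁻¹ v) = ρ μ *ᵥ v := by
    intro v
    by_cases hv : v = 0
    · refine ⟨0, ?_⟩
      rw [hv, act_zero, Matrix.mulVec_zero, act_zero, Matrix.mulVec_zero]
    · have hv' : act g⁻¹ v ≠ 0 := fun h0 => hv ((act_eq_zero_iff g⁻¹ v).mp h0)
      have h1 : act g (ρ a *ᵥ act g⁻¹ v) ∈ (pt ρ (act g⁻¹ v)).map (actL g) :=
        Submodule.mem_map_of_mem (smul_mem_pt ρ _ a)
      rw [hpres _ hv', act_act_inv] at h1
      obtain ⟨μ, hμ⟩ := (mem_pt ρ v _).mp h1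
      exact ⟨μ, hμ.symm⟩
  choose μ hμ using hA
  -- independence gives equal eigenvalues
  have hindep : ∀ v w : Fin n → F, v ≠ 0 → w ∉ pt ρ v → μ v = μ w := by
    intro v w hv hw
    have hw0 : w ≠ 0 := by
      rintro rfl
      exact hw (Submodule.zero_mem _)
    have h1 : act g (ρ a *ᵥ act g⁻¹ (v + w)) = ρ (μ v) *ᵥ v + ρ (μ w) *ᵥ w := by
      rw [act_add, Matrix.mulVec_add, act_add, hμ v, hμ w]
    rw [hμ (v + w), Matrix.mulVec_add] at h1
    have h2 : ρ (μ (v + w) - μ v) *ᵥ v = ρ (μ w - μ (v + w)) *ᵥ w := by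
      rw [rho_sub_mulVec, rho_sub_mulVec]
      have := h1
      rw [← sub_eq_zero] at this ⊢
      rw [← this]
      abel
    have h3 : μ w = μ (v + w) := by
      by_contra hne
      have hc : μ w - μ (v + w) ≠ 0 := sub_ne_zero.mpr hne
      apply hw
      refine ⟨(μ w - μ (v + w))⁻¹ * (μ (v + w) - μ v), ?_⟩
      rw [orb_apply, rho_mul_mulVec, h2, ← rho_mul_mulVec, inv_mul_cancel₀ hc, rho_one_mulVec]
    rw [h3, sub_self, rho_zero_mulVec] at h2
    have h4 : μ (v + w) = μ v := by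
      by_contra hne
      exact hv (rho_inj ρ (sub_ne_zero.mpr hne) h2)
    rw [h3, h4]
  -- a base vector
  have hn0 : 0 < n := by omega
  set v₀ : Fin n → F := Pi.single ⟨0, hn0⟩ 1 with hv₀
  have hv₀0 : v₀ ≠ 0 := by
    intro h0
    have := congrFun h0 ⟨0, hn0⟩
    rw [hv₀, Pi.single_eq_same, Pi.zero_apply] at this
    exact one_ne_zero this
  have hout : ∀ v : Fin n → F, ∃ z, z ∉ pt ρ v := by
    intro v
    by_contra hcon
    push Not at hcon
    have htop : pt ρ v = ⊤ := eq_top_iff.mpr fun x _ => hcon x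
    have h1 : finrank F ↥(pt ρ v) ≤ r := by
      rw [← hrk]
      exact LinearMap.finrank_range_le (orb ρ v)
    rw [htop, finrank_top, Module.finrank_fin_fun] at h1
    omega
  refine ⟨μ v₀, ?_⟩
  -- `A w = ρ (μ v₀) w` for all `w`
  have hall : ∀ w : Fin n → F, act g (ρ a *ᵥ act g⁻¹ w) = ρ (μ v₀) *ᵥ w := by
    intro w
    by_cases hw0 : w = 0
    · rw [hw0, act_zero, Matrix.mulVec_zero, act_zero, Matrix.mulVec_zero]
    by_cases hw : w ∈ pt ρ v₀
    · obtain ⟨z, hz⟩ := hout v₀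
      have h1 : μ v₀ = μ z := hindep v₀ z hv₀0 hz
      have hzw : z ∉ pt ρ w := by
        intro hzw
        apply hz
        obtain ⟨c, hc⟩ := (mem_pt ρ v₀ w).mp hw
        obtain ⟨d, hd⟩ := (mem_pt ρ w z).mp hzw
        refine ⟨d * c, ?_⟩
        rw [orb_apply, rho_mul_mulVec, hc, hd]
      have h2 : μ w = μ z := hindep w z hw0 hzw
      rw [hμ w, h2, ← h1]
    · rw [hμ w, ← hindep v₀ w hv₀0 hw]
  -- matrix identity
  apply Matrix.toLin'.injective
  apply LinearMap.ext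
  intro x
  rw [Matrix.toLin'_apply, Matrix.toLin'_apply, ← Matrix.mulVec_mulVec, ← Matrix.mulVec_mulVec]
  have := hall (act g x)
  rw [act_inv_act] at this
  exact this

end Cfsg.Agent.Lib.Helper16.S5886FOP1
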