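import Mathlib
import Cfsg.Agent.Lib.Helper17.ExtFDefs
import Cfsg.Agent.Lib.Helper13.GSpMax

/-!
# S5886 FO-P5: the transvections whose axis contains the `L`-point of the centre generate `SL_n`
-/

set_option autoImplicit false

namespace Cfsg.Agent.Lib.Helper16.S5886FOP5

open Matrix Module Cfsg.Agent.Lib.Helper17.ExtF Cfsg.Agent.Lib.Helper13

variable {F : Type*} [Field F] {L : Type*} [Field L] [Algebra F L] {n : ℕ}
  (ρ : L →ₐ[F] Matrix (Fin n) (Fin n) F) {r : ℕ}

/-- the functional `x ↦ φ ⬝ᵥ x` -/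
def dotL (φ : Fin n → F) : (Fin n → F) →ₗ[F] F where
  toFun x := φ ⬝ᵥ x
  map_add' x y := dotProduct_add φ x y
  map_smul' c x := by simp [dotProduct_smul]

@[simp] theorem dotL_apply (φ x : Fin n → F) : dotL φ x = φ ⬝ᵥ x := rfl

/-- `TV` in matrix form -/
theorem tv_mem_of_TV {H : Subgroup (GL (Fin n) F)} {φ u : Fin n → F} (h : TV H (dotL φ) u)
    (g : GL (Fin n) F) (hg : (g : Matrix (Fin n) (Fin n) F) = tv u φ) : g ∈ H := by
  apply h g
  intro v
  rw [act, hg, tv_mulVec]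
  rfl

/-- the map `x ↦ (a ↦ φ (ρ a x))` -/
def lam (φ : Fin n → F) : (Fin n → F) →ₗ[F] (L →ₗ[F] F) where
  toFun x := (dotL φ).comp (orb ρ x)
  map_add' x y := by
    ext a
    simp [Matrix.mulVec_add]
  map_smul' c x := by
    ext a
    simp [Matrix.mulVec_smul]

theorem lam_apply (φ x : Fin n → F) (a : L) : lam ρ φ x a = φ ⬝ᵥ (ρ a *ᵥ x) := rfl

/-- product of two transvections with the same centre -/
theorem tv_mul_tv_same (u φ ψ : Fin n → F) (hφ : φ ⬝ᵥ u = 0) :
    tv u φ * tv u ψ = tv u (φ + ψ) := by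
  rw [tv, tv, tv, mul_add, add_mul, add_mul, one_mul, mul_one, one_mul, vecMulVec_mul_vecMulVec, hφ,
    zero_smul, vecMulVec_zero, add_zero, vecMulVec_add, add_assoc]

theorem sl_le_of_hasT0 (hrk : finrank F L = r) (hr : 0 < r) (hn : 2 * r ≤ n)
    (H : Subgroup (GL (Fin n) F)) (h : HasT0 ρ H) :
    Cfsg.Geo.specialLinear (Fin n) F ≤ H := by
  have hfin : FiniteDimensional F L := Module.finite_of_finrank_pos (by omega)
  apply SL_le_of_forall_TvIn (by omega) H
  intro u φ' hφ'u g hg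
  by_cases hA : ∀ a : L, φ' ⬝ᵥ (ρ a *ᵥ u) = 0
  · exact tv_mem_of_TV (h (dotL φ') u hA) g hg
  · -- the subspace `Z`
    have hZdim : n ≤ finrank F ↥(LinearMap.ker (lam ρ φ')) + r := by
      have h1 := LinearMap.finrank_range_add_finrank_ker (lam ρ φ')
      rw [Module.finrank_fin_fun] at h1
      have h2 : finrank F ↥(LinearMap.range (lam ρ φ')) ≤ r := by
        calc finrank F ↥(LinearMap.range (lam ρ φ')) ≤ finrank F (L →ₗ[F] F) :=
              Submodule.finrank_le _
          _ = r := by rw [Module.finrank_linearMap, hrk, Module.finrank_self, mul_one]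
      omega
    have hptdim : finrank F ↥(pt ρ u) ≤ r := by
      rw [← hrk]
      exact LinearMap.finrank_range_le (orb ρ u)
    have huZ : u ∉ LinearMap.ker (lam ρ φ') := by
      intro hu
      apply hA
      intro a
      have := LinearMap.mem_ker.mp hu
      rw [← lam_apply, this]
      rfl
    obtain ⟨w, hwZ, hwpt⟩ : ∃ w, w ∈ LinearMap.ker (lam ρ φ') ∧ w ∉ pt ρ u := by
      by_contra hcon
      push Not at hcon
      have hle : LinearMap.ker (lam ρ φ') ≤ pt ρ u := hcon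
      have heq : LinearMap.ker (lam ρ φ') = pt ρ u := by
        apply Submodule.eq_of_le_of_finrank_le hle
        omega
      apply huZ
      rw [heq]
      exact self_mem_pt ρ u
    obtain ⟨φ, hφw, hφpt⟩ := exists_dual_vec (pt ρ u) w hwpt
    have hφu : φ ⬝ᵥ u = 0 := hφpt u (self_mem_pt ρ u)
    have hT1 : TV H (dotL φ) u := h (dotL φ) u (fun a => hφpt _ (smul_mem_pt ρ u a))
    have hT2 : TV H (dotL φ') w := by
      apply h (dotL φ') w
      intro a
      have := LinearMap.mem_ker.mp hwZ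
      change φ' ⬝ᵥ (ρ a *ᵥ w) = 0
      rw [← lam_apply, this]
      rfl
    -- the three transvections
    have hφ'w : φ' ⬝ᵥ w = 0 := by
      have := LinearMap.mem_ker.mp hwZ
      have h1 : lam ρ φ' w 1 = 0 := by rw [this]; rfl
      rwa [lam_apply, rho_one_mulVec] at h1
    obtain ⟨k, hk, -⟩ := exists_tvGL w φ' hφ'w
    have hkH : k ∈ H := tv_mem_of_TV hT2 k hk
    -- `k * T(φ,u) * k⁻¹ = T(φ - φ', u)`
    have hφ2 : (φ ᵥ* ((k⁻¹ : GL (Fin n) F) : Matrix (Fin n) (Fin n) F)) = φ - φ' := by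
      have hkinv : ((k⁻¹ : GL (Fin n) F) : Matrix (Fin n) (Fin n) F) = tv w (-φ') := by
        have h1 : tv w φ' * tv w (-φ') = 1 := by
          rw [tv_mul_tv_same w φ' (-φ') hφ'w, add_neg_cancel, tv, vecMulVec_zero, add_zero]
        have h2 : (k : Matrix (Fin n) (Fin n) F) * tv w (-φ') = 1 := by rw [hk, h1]
        have h3 : ((k⁻¹ : GL (Fin n) F) : Matrix (Fin n) (Fin n) F) =
            ((k⁻¹ : GL (Fin n) F) : Matrix (Fin n) (Fin n) F) *
              ((k : Matrix (Fin n) (Fin n) F) * tv w (-φ')) := by rw [h2, mul_one]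
        rw [h3, ← mul_assoc, ← Units.val_mul, inv_mul_cancel, Units.val_one, one_mul]
      rw [hkinv, tv, vecMul_add, vecMul_one, vecMul_vecMulVec, hφw, one_smul, sub_eq_add_neg]
    have hφ3 : (φ - φ') ᵥ* (k : Matrix (Fin n) (Fin n) F) = φ := by
      rw [← hφ2, vecMul_vecMul, ← Units.val_mul, inv_mul_cancel, Units.val_one, vecMul_one]
    have hku : (k : Matrix (Fin n) (Fin n) F) *ᵥ u = u := by
      rw [hk, tv_mulVec, hφ'u, zero_smul, add_zero]
    obtain ⟨g1, hg1, -⟩ := exists_tvGL u φ hφu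
    have hg1H : g1 ∈ H := tv_mem_of_TV hT1 g1 hg1
    have hconj : ((k * g1 * k⁻¹ : GL (Fin n) F) : Matrix (Fin n) (Fin n) F) = tv u (φ - φ') := by
      have := conj_tv k u (φ - φ')
      rw [hφ3, hku] at this
      rw [Units.val_mul, Units.val_mul, hg1, this]
    have hconjH : k * g1 * k⁻¹ ∈ H := H.mul_mem (H.mul_mem hkH hg1H) (H.inv_mem hkH)
    have hprod : g * (k * g1 * k⁻¹) = g1 := by
      apply Units.ext
      rw [Units.val_mul, hconj, hg, hg1, tv_mul_tv_same u φ' (φ - φ') hφ'u, add_sub_cancel]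
    have : g = g1 * (k * g1 * k⁻¹)⁻¹ := eq_mul_inv_of_mul_eq hprod
    rw [this]
    exact H.mul_mem hg1H (H.inv_mem hconjH)

end Cfsg.Agent.Lib.Helper16.S5886FOP5
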