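import Mathlib
import Cfsg.Agent.Lib.Helper17.ExtFDefs
import Cfsg.Agent.Lib.Helper13.TransvSL

/-!
# S5886 FO-STRICT: an `F`-transvection does not normalise the embedded field
-/

set_option autoImplicit false

namespace Cfsg.Agent.Lib.Helper16.S5886FOSTRICT

open Matrix Module Cfsg.Agent.Lib.Helper17.ExtF Cfsg.Agent.Lib.Helper13

variable {F : Type*} [Field F] {L : Type*} [Field L] [Algebra F L] {n : ℕ}
  (ρ : L →ₐ[F] Matrix (Fin n) (Fin n) F) {r : ℕ}

/-- `ρ c` is injective for `c ≠ 0` -/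
theorem rho_injective {c : L} (hc : c ≠ 0) {v : Fin n → F} (hv : ρ c *ᵥ v = 0) : v = 0 := by
  have h1 : ρ c⁻¹ *ᵥ (ρ c *ᵥ v) = v := by
    rw [← rho_mul_mulVec, inv_mul_cancel₀ hc, rho_one_mulVec]
  rw [hv, Matrix.mulVec_zero] at h1
  exact h1.symm

theorem exists_not_algebraMap (hrk : finrank F L = r) (hr : 2 ≤ r) :
    ∃ a : L, ∀ s : F, algebraMap F L s ≠ a := by
  by_contra hcon
  push Not at hcon
  have : finrank F L ≤ 1 := by
    apply finrank_le_one (1 : L)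
    intro w
    obtain ⟨s, hs⟩ := hcon w
    exact ⟨s, by rw [← hs, Algebra.algebraMap_eq_smul_one]⟩
  omega

theorem exists_sl_not_normalizes (hrk : finrank F L = r) (hr : 2 ≤ r) (hn : 2 * r ≤ n) :
    ∃ g : GL (Fin n) F, g ∈ Cfsg.Geo.specialLinear (Fin n) F ∧ ¬ Normalizes ρ g := by
  have hn4 : 4 ≤ n := by omega
  set i0 : Fin n := ⟨0, by omega⟩ with hi0
  set i1 : Fin n := ⟨1, by omega⟩ with hi1
  set i2 : Fin n := ⟨2, by omega⟩ with hi2
  have h01 : i0 ≠ i1 := by rw [hi0, hi1]; intro h; simp [Fin.ext_iff] at h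
  have h02 : i0 ≠ i2 := by rw [hi0, hi2]; intro h; simp [Fin.ext_iff] at h
  have h12 : i1 ≠ i2 := by rw [hi1, hi2]; intro h; simp [Fin.ext_iff] at h
  set u : Fin n → F := Pi.single i0 1 with hu
  set φ : Fin n → F := Pi.single i1 1 with hφ
  have hφu : φ ⬝ᵥ u = 0 := by
    rw [hφ, hu, single_dotProduct, one_mul, Pi.single_apply, if_neg (Ne.symm h01)]
  have hu0 : u ≠ 0 := by
    intro h
    have := congrFun h i0
    rw [hu, Pi.single_eq_same, Pi.zero_apply] at this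
    exact one_ne_zero this
  obtain ⟨t, ht, htSL⟩ := exists_tvGL u φ hφu
  refine ⟨t, htSL, ?_⟩
  intro hN
  obtain ⟨a, ha⟩ := exists_not_algebraMap hrk hr
  obtain ⟨b, hb⟩ := hN a
  -- action of the two sides
  have hact : ∀ v : Fin n → F, ρ a *ᵥ v + (φ ⬝ᵥ (ρ a *ᵥ v)) • u = ρ b *ᵥ (v + (φ ⬝ᵥ v) • u) := by
    intro v
    have h1 : ((t : Matrix (Fin n) (Fin n) F) * ρ a) *ᵥ v = (ρ b * (t : Matrix (Fin n) (Fin n) F)) *ᵥ v := by
      rw [hb]
    rw [← Matrix.mulVec_mulVec, ← Matrix.mulVec_mulVec, ht, tv_mulVec, tv_mulVec] at h1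
    exact h1
  -- `b = a`
  have hba : b = a := by
    by_contra hne
    have hc : b - a ≠ 0 := sub_ne_zero.mpr hne
    have key : ∀ v : Fin n → F, φ ⬝ᵥ v = 0 → ρ (b - a) *ᵥ v = (φ ⬝ᵥ (ρ a *ᵥ v)) • u := by
      intro v hv
      have := hact v
      rw [hv, zero_smul, add_zero] at this
      rw [map_sub, Matrix.sub_mulVec, ← this, add_sub_cancel_left]
    have h1 := key u hφu
    have hφ2 : φ ⬝ᵥ (Pi.single i2 1 : Fin n → F) = 0 := by
      rw [hφ, single_dotProduct, one_mul, Pi.single_apply, if_neg h12]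
    have h2 := key (Pi.single i2 1) hφ2
    set s₁ := φ ⬝ᵥ (ρ a *ᵥ u)
    set s₂ := φ ⬝ᵥ (ρ a *ᵥ (Pi.single i2 1 : Fin n → F))
    have h3 : ρ (b - a) *ᵥ (s₂ • u - s₁ • (Pi.single i2 1 : Fin n → F)) = 0 := by
      rw [Matrix.mulVec_sub, Matrix.mulVec_smul, Matrix.mulVec_smul, h1, h2, smul_smul, smul_smul,
        mul_comm, sub_self]
    have h4 := rho_injective ρ hc h3
    have h5 := congrFun h4 i2
    have h6 := congrFun h4 i0
    simp only [Pi.sub_apply, Pi.smul_apply, hu, Pi.single_apply, smul_eq_mul, Pi.zero_apply,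
      if_neg h02, if_neg h02.symm, if_true, mul_zero, mul_one, zero_sub, sub_zero, neg_eq_zero] at h5 h6
    have hs1 : s₁ = 0 := h5
    have hs2 : s₂ = 0 := h6
    rw [hs1, zero_smul] at h1
    exact hu0 (rho_injective ρ hc h1)
  -- `ρ a u ∈ F u`
  rw [hba] at hact
  have hφ1 : φ ⬝ᵥ (Pi.single i1 1 : Fin n → F) = 1 := by
    rw [hφ, single_dotProduct, one_mul, Pi.single_eq_same]
  have h7 := hact (Pi.single i1 1)
  rw [hφ1, one_smul, Matrix.mulVec_add] at h7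
  have h8 : ρ a *ᵥ u = (φ ⬝ᵥ (ρ a *ᵥ (Pi.single i1 1 : Fin n → F))) • u := (add_left_cancel h7).symm
  set s := φ ⬝ᵥ (ρ a *ᵥ (Pi.single i1 1 : Fin n → F))
  have h9 : ρ (a - algebraMap F L s) *ᵥ u = 0 := by
    rw [map_sub, Matrix.sub_mulVec, rho_algebraMap_mulVec, h8, sub_self]
  by_cases hz : a - algebraMap F L s = 0
  · exact ha s (sub_eq_zero.mp hz).symm
  · exact hu0 (rho_injective ρ hz h9)

end Cfsg.Agent.Lib.Helper16.S5886FOSTRICT
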