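import Mathlib
import Cfsg.Agent.Lib.Helper23.FrobeniusConstruct

/-!
# `SL(2,3)` is a Frobenius complement (helper16 library)

An explicit embedding `SL(2,3) → SL(2,5)` (via the Bruhat normal form), acting fixed-point-freely
on `(ZMod 5)²`.
-/

set_option autoImplicit false

namespace Cfsg.Agent.Lib.Helper16

/-- 2×2 matrices over `ZMod 5`. -/
abbrev FrM5 := Matrix (Fin 2) (Fin 2) (ZMod 5)

/-- image of the Weyl element -/
def frW : FrM5 := !![0,4;1,0]
/-- image of the upper unitriangular generator (order 3) -/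
def frU : FrM5 := !![3,2;1,1]
/-- image of `-1` -/
def frZ : FrM5 := !![4,0;0,4]
/-- powers of `frU` -/
def frUpow (t : ZMod 3) : FrM5 := if t = 0 then 1 else if t = 1 then frU else frU * frU
/-- the embedding `SL(2,3) → M₂(ZMod 5)` -/
def frRho (g : Matrix.SpecialLinearGroup (Fin 2) (ZMod 3)) : FrM5 :=
  if g.1 1 0 = 0 then (if g.1 0 0 = 1 then 1 else frZ) * frUpow (g.1 0 1 * g.1 0 0)
  else (if g.1 1 0 = 1 then 1 else frZ) * frUpow (g.1 0 0 * g.1 1 0) * frW *
    frUpow (g.1 1 1 * g.1 1 0)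

set_option maxRecDepth 1000000 in
theorem frRho_one : frRho 1 = 1 := by decide

set_option maxRecDepth 1000000 in
theorem frRho_mul : ∀ g h : Matrix.SpecialLinearGroup (Fin 2) (ZMod 3),
    frRho (g * h) = frRho g * frRho h := by decide

set_option maxRecDepth 1000000 in
theorem frRho_fpf : ∀ g : Matrix.SpecialLinearGroup (Fin 2) (ZMod 3), g ≠ 1 →
    ∀ v : Fin 2 → ZMod 5, (frRho g).mulVec v = v → v = 0 := by decide

/-- the action of `SL(2,3)` on `(ZMod 5)²` through `frRho` -/
@[reducible] def frAction :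
    DistribMulAction (Matrix.SpecialLinearGroup (Fin 2) (ZMod 3)) (Fin 2 → ZMod 5) where
  smul g v := (frRho g).mulVec v
  one_smul v := by
    show (frRho 1).mulVec v = v
    rw [frRho_one, Matrix.one_mulVec]
  mul_smul g h v := by
    show (frRho (g * h)).mulVec v = (frRho g).mulVec ((frRho h).mulVec v)
    rw [frRho_mul, Matrix.mulVec_mulVec]
  smul_zero g := by
    show (frRho g).mulVec 0 = 0
    exact Matrix.mulVec_zero _
  smul_add g v w := by
    show (frRho g).mulVec (v + w) = (frRho g).mulVec v + (frRho g).mulVec w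
    exact Matrix.mulVec_add _ _ _

/-- `SL(2,3)` is a Frobenius complement. -/
theorem sl23_frobeniusComplement :
    ∃ (L : Type) (_ : Group L) (_ : Finite L) (H : Subgroup L), Cfsg.IsFrobeniusComplement H ∧
      Nonempty (H ≃* Matrix.SpecialLinearGroup (Fin 2) (ZMod 3)) := by
  let _ := frAction
  have : Nontrivial (Matrix.SpecialLinearGroup (Fin 2) (ZMod 3)) := by
    refine ⟨⟨1, -1, ?_⟩⟩
    decide
  have : Fact (1 < 5) := ⟨by norm_num⟩
  have : Nontrivial (Fin 2 → ZMod 5) := Function.nontrivial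
  obtain ⟨L, hL1, hL2, C, hC, ⟨e⟩, -⟩ :=
    Cfsg.Agent.Lib.Helper23.exists_frobenius_of_fpf_add
      (H := Matrix.SpecialLinearGroup (Fin 2) (ZMod 3)) (V := Fin 2 → ZMod 5)
      (fun h hh v hv => frRho_fpf h hh v hv)
  exact ⟨L, hL1, hL2, C, hC, ⟨e.symm⟩⟩

end Cfsg.Agent.Lib.Helper16
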