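import Mathlib
import Cfsg.Agent.Lib.Helper24.SLB.Defs

set_option autoImplicit false

/-! S4538 farm (helper24), leaf **[D]** `exists_U_fixed_line`, part 0: everything except the
citation of leaf **[C]** `gg_SL`, which enters as the hypothesis `hgg`.

For a linear character `ψ` of a finite subgroup `U` the operator `|U|⁻¹ ∑ ψ(u)⁻¹ ρ(u)` is a
projection onto the `(U, ψ)`-eigenspace; if the character of `ρ` vanishes on `U ∖ 1` its trace is
`d / |U|`, whatever `ψ` is.  So all `(U, ψ)`-eigenspaces have the same dimension `d / |U|`, and when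
one of them is at most a line, all of them are lines and `d = |U|`. -/

namespace Cfsg.Agent.Lib.Helper24.SLB

open Matrix

namespace Helper16

section generic

variable {G : Type*} [Group G] (U : Subgroup G) {d : ℕ}
  (ρ : Representation ℂ G (Fin d → ℂ)) (ψ : U →* ℂˣ)

/-- the `(U, ψ)`-eigenspace -/
def eigen : Submodule ℂ (Fin d → ℂ) where
  carrier := {v | ∀ u : U, ρ (u : G) v = ((ψ u : ℂˣ) : ℂ) • v}
  add_mem' := by
    intro a b ha hb u
    rw [map_add, ha u, hb u, smul_add]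
  zero_mem' := by
    intro u
    rw [map_zero, smul_zero]
  smul_mem' := by
    intro c a ha u
    rw [map_smul, ha u, smul_comm]

theorem mem_eigen {v : Fin d → ℂ} :
    v ∈ eigen U ρ ψ ↔ ∀ u : U, ρ (u : G) v = ((ψ u : ℂˣ) : ℂ) • v := Iff.rfl

variable [Fintype U]

/-- the averaging operator `|U|⁻¹ ∑ ψ(u)⁻¹ ρ(u)` -/
noncomputable def avg : (Fin d → ℂ) →ₗ[ℂ] (Fin d → ℂ) :=
  ((Fintype.card U : ℂ)⁻¹) • ∑ u : U, (((ψ u)⁻¹ : ℂˣ) : ℂ) • ρ (u : G)

theorem avg_apply (v : Fin d → ℂ) :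
    avg U ρ ψ v = ((Fintype.card U : ℂ)⁻¹) • ∑ u : U, (((ψ u)⁻¹ : ℂˣ) : ℂ) • ρ (u : G) v := by
  simp [avg, LinearMap.sum_apply]

theorem card_ne_zero : (Fintype.card U : ℂ) ≠ 0 := by
  have : 0 < Fintype.card U := Fintype.card_pos
  exact_mod_cast this.ne'

theorem rho_avg (u' : U) (v : Fin d → ℂ) :
    ρ (u' : G) (avg U ρ ψ v) = ((ψ u' : ℂˣ) : ℂ) • avg U ρ ψ v := by
  rw [avg_apply, map_smul, map_sum, smul_comm]
  congr 1
  rw [Finset.smul_sum]
  rw [← Equiv.sum_comp (Equiv.mulLeft u')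
    (fun w : U => ((ψ u' : ℂˣ) : ℂ) • (((ψ w)⁻¹ : ℂˣ) : ℂ) • ρ (w : G) v)]
  apply Finset.sum_congr rfl
  intro u _
  rw [map_smul, Equiv.coe_mulLeft, smul_smul]
  have h1 : ((ψ u' : ℂˣ) : ℂ) * (((ψ (u' * u))⁻¹ : ℂˣ) : ℂ) = (((ψ u)⁻¹ : ℂˣ) : ℂ) := by
    rw [← Units.val_mul, map_mul, _root_.mul_inv_rev, mul_comm (ψ u)⁻¹, ← mul_assoc, mul_inv_cancel,
      one_mul]
  rw [h1]
  have h2 : ρ ((u' : G)) (ρ (u : G) v) = ρ (((u' * u : U)) : G) v := by
    rw [Subgroup.coe_mul, map_mul, Module.End.mul_apply]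
  rw [h2]

theorem avg_mem (v : Fin d → ℂ) : avg U ρ ψ v ∈ eigen U ρ ψ :=
  fun u' => rho_avg U ρ ψ u' v

theorem avg_of_mem {v : Fin d → ℂ} (hv : v ∈ eigen U ρ ψ) : avg U ρ ψ v = v := by
  rw [avg_apply]
  have h : ∀ u : U, (((ψ u)⁻¹ : ℂˣ) : ℂ) • ρ (u : G) v = v := by
    intro u
    rw [hv u, smul_smul, ← Units.val_mul, inv_mul_cancel, Units.val_one, one_smul]
  rw [Finset.sum_congr rfl (fun u _ => h u), Finset.sum_const, Finset.card_univ, ← Nat.cast_smul_eq_nsmul ℂ,
    smul_smul, inv_mul_cancel₀ (card_ne_zero U), one_smul]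

theorem isProj_avg : LinearMap.IsProj (eigen U ρ ψ) (avg U ρ ψ) :=
  ⟨fun v => avg_mem U ρ ψ v, fun _ hv => avg_of_mem U ρ ψ hv⟩

theorem trace_avg (hvan : ∀ u : U, (u : G) ≠ 1 → ρ.character (u : G) = 0) :
    LinearMap.trace ℂ (Fin d → ℂ) (avg U ρ ψ) = (Fintype.card U : ℂ)⁻¹ * d := by
  rw [avg, map_smul, map_sum, smul_eq_mul]
  congr 1
  rw [Finset.sum_eq_single (1 : U)]
  · rw [map_one, inv_one, Units.val_one, one_smul, Subgroup.coe_one, map_one, LinearMap.trace_one]
    simp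
  · intro u _ hu
    rw [map_smul]
    have h1 : (u : G) ≠ 1 := fun h => hu (Subtype.ext h)
    have h2 := hvan u h1
    rw [Representation.character] at h2
    rw [h2, smul_zero]
  · intro h
    exact absurd (Finset.mem_univ _) h

/-- all `(U, ψ)`-eigenspaces have dimension `d / |U|` -/
theorem finrank_eigen (hvan : ∀ u : U, (u : G) ≠ 1 → ρ.character (u : G) = 0) :
    (Module.finrank ℂ (eigen U ρ ψ) : ℂ) = (Fintype.card U : ℂ)⁻¹ * d := by
  rw [← trace_avg U ρ ψ hvan, (isProj_avg U ρ ψ).trace]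

end generic

variable {n : ℕ} {F : Type*} [Field F]

/-- the superdiagonal sum is additive on `U` -/
theorem superSum_mul {u u' : SpecialLinearGroup (Fin n) F} (hu : u ∈ Usl n F) (hu' : u' ∈ Usl n F) :
    superSum ((u * u' : SpecialLinearGroup (Fin n) F) : Matrix (Fin n) (Fin n) F) =
      superSum (u : Matrix (Fin n) (Fin n) F) + superSum (u' : Matrix (Fin n) (Fin n) F) := by
  unfold superSum
  rw [← Finset.sum_add_distrib]
  apply Finset.sum_congr rfl
  intro i _
  by_cases h : i.val + 1 < n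
  · rw [dif_pos h, dif_pos h, dif_pos h, Matrix.SpecialLinearGroup.coe_mul, Matrix.mul_apply]
    set j : Fin n := ⟨i.val + 1, h⟩ with hj
    have hij : i < j := by simp [Fin.lt_def, hj]
    have hne : i ≠ j := ne_of_lt hij
    rw [Finset.sum_eq_add_of_mem i j (Finset.mem_univ _) (Finset.mem_univ _) hne]
    · rw [hu.2 i, hu'.2 j, one_mul, mul_one, add_comm]
    · intro k _ hk
      rcases lt_or_gt_of_ne hk.1 with h1 | h1
      · have : (u : Matrix (Fin n) (Fin n) F) i k = 0 := hu.1 h1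
        rw [this, zero_mul]
      · have h2 : j < k := by
          rcases lt_or_gt_of_ne hk.2 with h3 | h3
          · exfalso
            have h4 : i.val < k.val := h1
            have h5 : k.val < j.val := h3
            simp [hj] at h5
            omega
          · exact h3
        have : (u' : Matrix (Fin n) (Fin n) F) k j = 0 := hu'.1 h2
        rw [this, mul_zero]
  · rw [dif_neg h, dif_neg h, dif_neg h, add_zero]

theorem superSum_one : superSum ((1 : SpecialLinearGroup (Fin n) F) : Matrix (Fin n) (Fin n) F) = 0 := by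
  unfold superSum
  apply Finset.sum_eq_zero
  intro i _
  by_cases h : i.val + 1 < n
  · rw [dif_pos h, Matrix.SpecialLinearGroup.coe_one, Matrix.one_apply_ne]
    intro e
    have := congrArg Fin.val e
    simp at this
  · rw [dif_neg h]

/-- the linear character `u ↦ θ (∑ u_{i,i+1})` of `U` -/
noncomputable def psiHom (θ : AddChar F ℂ) : Usl n F →* ℂˣ :=
  MonoidHom.toHomUnits
    { toFun := fun u => θ (superSum ((u : SpecialLinearGroup (Fin n) F) : Matrix (Fin n) (Fin n) F))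
      map_one' := by
        rw [Subgroup.coe_one, superSum_one, AddChar.map_zero_eq_one]
      map_mul' := by
        intro a b
        rw [Subgroup.coe_mul, superSum_mul a.2 b.2, AddChar.map_add_eq_mul] }

theorem psiHom_apply (θ : AddChar F ℂ) (u : Usl n F) :
    ((psiHom θ u : ℂˣ) : ℂ) =
      θ (superSum ((u : SpecialLinearGroup (Fin n) F) : Matrix (Fin n) (Fin n) F)) := by
  rw [psiHom, MonoidHom.coe_toHomUnits]
  rfl

variable [Fintype F]

/-- **[D]**, with leaf **[C]** (`gg_SL`) as the hypothesis `hgg` -/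
theorem exists_U_fixed_line_of_gg {d : ℕ}
    (ρ : Representation ℂ (SpecialLinearGroup (Fin n) F) (Fin d → ℂ)) (hρ : ρ.IsIrreducible)
    (hvan : ∀ u ∈ Usl n F, u ≠ 1 → ρ.character u = 0)
    (θ : AddChar F ℂ)
    (hgg : ∀ (v w : Fin d → ℂ), v ≠ 0 →
      (∀ u ∈ Usl n F, ρ u v = θ (superSum (u : Matrix (Fin n) (Fin n) F)) • v) →
      (∀ u ∈ Usl n F, ρ u w = θ (superSum (u : Matrix (Fin n) (Fin n) F)) • w) →
      ∃ c : ℂ, w = c • v) :
    ∃ y : Fin d → ℂ, y ≠ 0 ∧ (∀ u ∈ Usl n F, ρ u y = y) ∧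
      (∀ v : Fin d → ℂ, (∀ u ∈ Usl n F, ρ u v = v) → ∃ c : ℂ, v = c • y) ∧
      d = Nat.card (Usl n F) := by
  classical
  have : Fintype (Usl n F) := Fintype.ofFinite _
  have hvan' : ∀ u : Usl n F, ((u : SpecialLinearGroup (Fin n) F)) ≠ 1 →
      ρ.character (u : SpecialLinearGroup (Fin n) F) = 0 := fun u hu => hvan u u.2 hu
  -- `d ≠ 0`
  have hd0 : d ≠ 0 := by
    intro h0
    subst h0
    have : Subsingleton (Submodule ℂ (Fin 0 → ℂ)) := (Submodule.subsingleton_iff ℂ).mpr inferInstance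
    have : (⊥ : Subrepresentation ρ) = ⊤ :=
      Subrepresentation.toSubmodule_injective (Subsingleton.elim _ _)
    exact bot_ne_top this
  have hc := card_ne_zero (Usl n F)
  -- the `θ`-eigenspace is at most a line
  have h1 := finrank_eigen (Usl n F) ρ (psiHom θ) hvan'
  have hle : Module.finrank ℂ (eigen (Usl n F) ρ (psiHom θ)) ≤ 1 := by
    by_cases hbot : eigen (Usl n F) ρ (psiHom θ) = ⊥
    · rw [hbot, finrank_bot]
      exact Nat.zero_le 1
    · obtain ⟨v, hv, hv0⟩ := Submodule.exists_mem_ne_zero_of_ne_bot hbot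
      refine finrank_le_one (⟨v, hv⟩ : eigen (Usl n F) ρ (psiHom θ)) ?_
      rintro ⟨w, hw⟩
      have hv' : ∀ u ∈ Usl n F, ρ u v = θ (superSum (u : Matrix (Fin n) (Fin n) F)) • v := by
        intro u hu
        have := hv ⟨u, hu⟩
        rwa [psiHom_apply] at this
      have hw' : ∀ u ∈ Usl n F, ρ u w = θ (superSum (u : Matrix (Fin n) (Fin n) F)) • w := by
        intro u hu
        have := hw ⟨u, hu⟩
        rwa [psiHom_apply] at this
      obtain ⟨c, hcw⟩ := hgg v w hv0 hv' hw'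
      exact ⟨c, Subtype.ext hcw.symm⟩
  have hne : Module.finrank ℂ (eigen (Usl n F) ρ (psiHom θ)) ≠ 0 := by
    intro h0
    rw [h0, Nat.cast_zero] at h1
    have hd : (d : ℂ) ≠ 0 := by exact_mod_cast hd0
    exact mul_ne_zero (inv_ne_zero hc) hd h1.symm
  have heq1 : Module.finrank ℂ (eigen (Usl n F) ρ (psiHom θ)) = 1 := by omega
  rw [heq1, Nat.cast_one] at h1
  have hdU : (d : ℂ) = (Fintype.card (Usl n F) : ℂ) := by
    field_simp at h1
    exact h1.symm
  have hdU' : d = Fintype.card (Usl n F) := by exact_mod_cast hdU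
  -- the fixed space is a line
  have h2 := finrank_eigen (Usl n F) ρ (1 : Usl n F →* ℂˣ) hvan'
  rw [hdU, inv_mul_cancel₀ hc] at h2
  have h2' : Module.finrank ℂ (eigen (Usl n F) ρ (1 : Usl n F →* ℂˣ)) = 1 := by exact_mod_cast h2
  obtain ⟨⟨y, hy⟩, hy0, hspan⟩ := finrank_eq_one_iff'.mp h2'
  refine ⟨y, fun h => hy0 (Subtype.ext h), ?_, ?_, ?_⟩
  · intro u hu
    have := hy ⟨u, hu⟩
    rwa [MonoidHom.one_apply, Units.val_one, one_smul] at this
  · intro v hv
    have hvm : v ∈ eigen (Usl n F) ρ (1 : Usl n F →* ℂˣ) := by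
      intro u
      rw [MonoidHom.one_apply, Units.val_one, one_smul]
      exact hv u u.2
    obtain ⟨c, hcv⟩ := hspan ⟨v, hvm⟩
    refine ⟨c, ?_⟩
    have := congrArg Subtype.val hcv
    exact this.symm
  · rw [hdU', Nat.card_eq_fintype_card]

end Helper16

end Cfsg.Agent.Lib.Helper24.SLB
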