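import Mathlib
import Cfsg.Agent.Lib.Helper16.SLBD0
import Cfsg.Agent.Lib.Helper2.SLBC

set_option autoImplicit false

/-! S4538 farm (helper24), leaf **[D]** `exists_U_fixed_line`: an irreducible representation of
`SL_n(F)` whose character vanishes on `U ∖ 1` has degree `|U|` and a one-dimensional space of
`U`-fixed vectors.  (`Helper16.exists_U_fixed_line_of_gg` with a nontrivial additive character and
leaf **[C]** `gg_SL`.) -/

namespace Cfsg.Agent.Lib.Helper24.SLB

open Matrix

variable {n : ℕ} {F : Type*} [Field F] [Fintype F]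

/-- **[D]** an irreducible representation whose character vanishes on `U ∖ 1` has degree `|U|`
and a one-dimensional space of `U`-fixed vectors -/
theorem exists_U_fixed_line {d : ℕ}
    (ρ : Representation ℂ (SpecialLinearGroup (Fin n) F) (Fin d → ℂ)) (hρ : ρ.IsIrreducible)
    (hvan : ∀ u ∈ Usl n F, u ≠ 1 → ρ.character u = 0) :
    ∃ y : Fin d → ℂ, y ≠ 0 ∧ (∀ u ∈ Usl n F, ρ u y = y) ∧
      (∀ v : Fin d → ℂ, (∀ u ∈ Usl n F, ρ u v = v) → ∃ c : ℂ, v = c • y) ∧
      d = Nat.card (Usl n F) := by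
  obtain ⟨θ, hθ⟩ := (AddChar.exists_apply_ne_zero (a := (1 : F))).mpr one_ne_zero
  have hθ1 : θ ≠ 1 := by
    rintro rfl
    exact hθ (AddChar.one_apply _)
  exact Helper16.exists_U_fixed_line_of_gg ρ hρ hvan θ
    (fun v w hv0 hv hw => gg_SL θ hθ1 ρ hρ v w hv0 hv hw)

end Cfsg.Agent.Lib.Helper24.SLB
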