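import Mathlib
import Cfsg.Agent.Lib.Helper24.SLB.Defs
import Cfsg.Agent.Lib.Helper15.SLNormal

set_option autoImplicit false

/-! S4538 farm (helper24), leaf **[I]** `exists_ns_not_fixed`: a `B`-fixed vector of an irreducible
representation of `SL_n(F)` whose character vanishes on `U ∖ 1` is not fixed by all the simple
reflection representatives `n_k`.  (Otherwise it is fixed by the upper root elements and, by
conjugation with `n_k` and commutators, by all root elements, hence by `SL_n(F)`; then the line it
spans is a subrepresentation, the representation is trivial, and its character is `1 ≠ 0` on `U`.) -/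

namespace Cfsg.Agent.Lib.Helper24.SLB

open Matrix
open scoped commutatorElement

namespace Helper16

variable {n : ℕ} {F : Type*} [Field F]

theorem mat_id {p q : Fin n} (hpq : p ≠ q) (a : F) :
    (1 + Matrix.single p q (1:F)) * (1 + Matrix.single q p (-1:F)) * (1 + Matrix.single p q (1:F)) *
      (1 + Matrix.single p q a) =
    (1 + Matrix.single q p (-a)) *
      ((1 + Matrix.single p q (1:F)) * (1 + Matrix.single q p (-1:F)) *
        (1 + Matrix.single p q (1:F))) := by
  have hqp : q ≠ p := hpq.symm
  have e1 : ∀ (c d : F) (i j : Fin n), Matrix.single i q c * Matrix.single p j d = 0 :=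
    fun c d i j => Matrix.single_mul_single_of_ne c i q p hqp d
  have e2 : ∀ (c d : F) (i j : Fin n), Matrix.single i p c * Matrix.single q j d = 0 :=
    fun c d i j => Matrix.single_mul_single_of_ne c i p q hpq d
  simp only [mul_add, add_mul, mul_one, one_mul, Matrix.single_mul_single_same, e1, e2,
    add_zero]
  ext i j
  simp only [Matrix.add_apply, Matrix.single_apply, Matrix.one_apply]
  split_ifs <;> simp_all <;> ring

/-- `n_k x_k(a) = x_{-k}(-a) n_k` -/
theorem ns_mul_xs (k : ℕ) (hk : k + 1 < n) (a : F) :
    ns k hk * xs k hk a = xm k hk (-a) * (ns k hk : SpecialLinearGroup (Fin n) F) := by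
  apply Subtype.ext
  simp only [ns, Matrix.SpecialLinearGroup.coe_mul, xs_coe, xm_coe]
  exact mat_id (fi_ne_fs k hk) a

theorem xm_eq_conj (k : ℕ) (hk : k + 1 < n) (a : F) :
    xm k hk a = ns k hk * xs k hk (-a) * (ns k hk : SpecialLinearGroup (Fin n) F)⁻¹ := by
  rw [ns_mul_xs, neg_neg, mul_inv_cancel_right]

/-- upper root elements lie in `U` -/
theorem T_mem_Usl {i j : Fin n} (hij : i < j) (c : F) :
    Cfsg.Agent.Lib.Helper25.SLCC.T i j c ∈ Usl n F := by
  rw [mem_Usl, Cfsg.Agent.Lib.Helper25.SLCC.T_coe (ne_of_lt hij)]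
  constructor
  · intro a b hab
    have hab' : b < a := hab
    have h1 : a ≠ b := ne_of_gt hab'
    rw [Matrix.add_apply, Matrix.one_apply_ne h1, Matrix.single_apply, zero_add]
    rw [if_neg]
    rintro ⟨rfl, rfl⟩
    exact absurd hij (not_lt.mpr (le_of_lt hab'))
  · intro a
    rw [Matrix.add_apply, Matrix.one_apply_eq, Matrix.single_apply, if_neg, add_zero]
    rintro ⟨rfl, h2⟩
    exact absurd h2 (ne_of_gt hij)

/-- a subgroup containing the upper root elements and the `n_k` contains all root elements -/
theorem T_mem_of_upper_of_ns (S : Subgroup (SpecialLinearGroup (Fin n) F))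
    (hup : ∀ (i j : Fin n), i < j → ∀ c : F, Cfsg.Agent.Lib.Helper25.SLCC.T i j c ∈ S)
    (hns : ∀ (k : ℕ) (hk : k + 1 < n), (ns k hk : SpecialLinearGroup (Fin n) F) ∈ S) :
    ∀ (i j : Fin n), i ≠ j → ∀ c : F, Cfsg.Agent.Lib.Helper25.SLCC.T i j c ∈ S := by
  have hxs : ∀ (k : ℕ) (hk : k + 1 < n) (a : F), xs k hk a ∈ S := by
    intro k hk a
    exact hup _ _ (by simp [Fin.lt_def]) a
  have hxm : ∀ (k : ℕ) (hk : k + 1 < n) (a : F), xm k hk a ∈ S := by
    intro k hk a
    rw [xm_eq_conj]
    exact S.mul_mem (S.mul_mem (hns k hk) (hxs k hk (-a))) (S.inv_mem (hns k hk))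
  have hlow : ∀ (m : ℕ) (i j : Fin n), j.val + m + 1 = i.val → ∀ c : F,
      Cfsg.Agent.Lib.Helper25.SLCC.T i j c ∈ S := by
    intro m
    induction m with
    | zero =>
      intro i j h c
      have hk : j.val + 1 < n := by have := i.isLt; omega
      have hi : i = fs j.val hk := Fin.ext (by simp; omega)
      have hj : j = fi j.val hk := Fin.ext (by simp)
      have := hxm j.val hk c
      rw [xm, ← hi, ← hj] at this
      exact this
    | succ m ih =>
      intro i j h c
      have hl : j.val + 1 < n := by have := i.isLt; omega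
      set l : Fin n := ⟨j.val + 1, hl⟩ with hl_def
      have hil : i ≠ l := by
        intro e
        have := congrArg Fin.val e
        simp [hl_def] at this
        omega
      have hlj : l ≠ j := by
        intro e
        have := congrArg Fin.val e
        simp [hl_def] at this
      have hij : i ≠ j := by
        intro e
        have := congrArg Fin.val e
        omega
      have h1 : Cfsg.Agent.Lib.Helper25.SLCC.T i l c ∈ S := ih i l (by simp [hl_def]; omega) c
      have h2 : Cfsg.Agent.Lib.Helper25.SLCC.T l j (1 : F) ∈ S := by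
        have := hxm j.val hl (1 : F)
        have hj : j = fi j.val hl := Fin.ext (by simp)
        rw [xm, ← hj] at this
        exact this
      have h3 := Cfsg.Agent.Lib.Helper25.SLCC.T_comm3 hil hlj hij c (1 : F)
      rw [mul_one] at h3
      rw [← h3, commutatorElement_def]
      exact S.mul_mem (S.mul_mem (S.mul_mem h1 h2) (S.inv_mem h1)) (S.inv_mem h2)
  intro i j hij c
  rcases lt_or_gt_of_ne hij with h | h
  · exact hup i j h c
  · have h' : j.val < i.val := h
    exact hlow (i.val - j.val - 1) i j (by omega) c

end Helper16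

variable {n : ℕ} {F : Type*} [Field F] [Fintype F]

/-- **[I]** a `B`-fixed vector of an irreducible representation vanishing on `U ∖ 1` is not fixed by
all `n_k` -/
theorem exists_ns_not_fixed (hn : 2 ≤ n) {d : ℕ}
    (ρ : Representation ℂ (SpecialLinearGroup (Fin n) F) (Fin d → ℂ)) (hρ : ρ.IsIrreducible)
    (hvan : ∀ u ∈ Usl n F, u ≠ 1 → ρ.character u = 0)
    (y : Fin d → ℂ) (hy0 : y ≠ 0) (hB : ∀ b ∈ Bsl n F, ρ b y = y) :
    ∃ (k : ℕ) (hk : k + 1 < n), ρ (ns k hk) y ≠ y := by
  by_contra hcon
  simp only [not_exists, not_not] at hcon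
  have : Nontrivial (Fin n) := Fin.nontrivial_iff_two_le.mpr hn
  -- the stabilizer of `y`
  let S : Subgroup (SpecialLinearGroup (Fin n) F) :=
    { carrier := {g | ρ g y = y}
      mul_mem' := by
        intro a b ha hb
        change ρ (a * b) y = y
        rw [map_mul, Module.End.mul_apply, hb, ha]
      one_mem' := by
        change ρ 1 y = y
        rw [map_one, Module.End.one_apply]
      inv_mem' := by
        intro a ha
        change ρ a⁻¹ y = y
        have ha' : ρ a y = y := ha
        calc ρ a⁻¹ y = ρ a⁻¹ (ρ a y) := by rw [ha']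
          _ = (ρ a⁻¹ * ρ a) y := rfl
          _ = y := by rw [← map_mul, inv_mul_cancel, map_one, Module.End.one_apply] }
  have hT : ∀ (i j : Fin n), i ≠ j → ∀ c : F, Cfsg.Agent.Lib.Helper25.SLCC.T i j c ∈ S := by
    apply Helper16.T_mem_of_upper_of_ns S
    · intro i j hij c
      exact hB _ (Usl_le_Bsl (Helper16.T_mem_Usl hij c))
    · intro k hk
      exact hcon k hk
  have hall : ∀ g : SpecialLinearGroup (Fin n) F, ρ g y = y := by
    intro g
    refine Cfsg.Agent.Lib.Helper15.SLn_transvection_induction (fun g => g ∈ S) ?_ ?_ g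
    · intro i j hij c
      have := hT i j hij c
      rwa [Cfsg.Agent.Lib.Helper25.SLCC.T_of hij] at this
    · intro A B hA hB'
      exact S.mul_mem hA hB'
  -- the line spanned by `y` is a subrepresentation
  let L : Subrepresentation ρ :=
    { toSubmodule := Submodule.span ℂ {y}
      apply_mem_toSubmodule := by
        intro g v hv
        obtain ⟨c, rfl⟩ := Submodule.mem_span_singleton.mp hv
        rw [map_smul, hall g]
        exact Submodule.smul_mem _ _ (Submodule.mem_span_singleton_self y) }
  have hL : L = ⊤ := by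
    rcases eq_bot_or_eq_top L with h | h
    · exfalso
      have hy : y ∈ L.toSubmodule := Submodule.mem_span_singleton_self y
      rw [h] at hy
      exact hy0 ((Submodule.mem_bot ℂ).mp hy)
    · exact h
  have htriv : ∀ (g : SpecialLinearGroup (Fin n) F) (v : Fin d → ℂ), ρ g v = v := by
    intro g v
    have hv : v ∈ L.toSubmodule := by rw [hL]; exact Submodule.mem_top
    obtain ⟨c, rfl⟩ := Submodule.mem_span_singleton.mp hv
    rw [map_smul, hall g]
  -- the character at `x_0(1)`
  have hk0 : 0 + 1 < n := by omega
  have hx : xs 0 hk0 (1 : F) ∈ Usl n F := Helper16.T_mem_Usl (by simp [Fin.lt_def]) 1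
  have hx1 : xs 0 hk0 (1 : F) ≠ 1 := by
    intro h
    have h2 := congrArg (fun g : SpecialLinearGroup (Fin n) F =>
      (g : Matrix (Fin n) (Fin n) F) (fi 0 hk0) (fs 0 hk0)) h
    simp only [xs_coe, Matrix.SpecialLinearGroup.coe_one, Matrix.add_apply,
      Matrix.one_apply_ne (fi_ne_fs 0 hk0), Matrix.single_apply_same, zero_add] at h2
    exact one_ne_zero h2
  have hchar := hvan _ hx hx1
  have hone : ρ (xs 0 hk0 (1 : F)) = 1 := by
    apply LinearMap.ext
    intro v
    rw [htriv, Module.End.one_apply]
  rw [Representation.character, hone, LinearMap.trace_one] at hchar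
  have hd : Module.finrank ℂ (Fin d → ℂ) = d := by simp
  rw [hd] at hchar
  have hd0 : d = 0 := by exact_mod_cast hchar
  subst hd0
  apply hy0
  funext i
  exact i.elim0

end Cfsg.Agent.Lib.Helper24.SLB
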