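import Mathlib
import Cfsg.Agent.Lib.Helper24.Knorr
import Cfsg.Agent.Lib.Helper24.Defect
import Cfsg.Agent.Lib.Helper7.DefectOrder

set_option autoImplicit false

/-! S2440 farm (helper24), SPARE of leaf **[S1]** `isDefectGroup_sylow_iff`: a block has full defect
iff a given Sylow `p`-subgroup is one of its defect groups.  The official copy is helper24's
`Lib/Helper24/SLB/S1.lean`; this one lives in the sub-namespace `Helper16` under another name, so
that the two never clash. -/

namespace Cfsg.Agent.Lib.Helper24.SLB.Helper16

/-- **[S1]** (generic) a block has full defect iff a given Sylow subgroup is a defect group -/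
theorem isDefectGroup_sylow_iff_spare {G : Type*} [Group G] [Finite G] (p : ℕ) [Fact p.Prime]
    (M : Ideal Cfsg.AlgInt) (hM : Cfsg.IsPModular p M) (P : Sylow p G)
    (B : Set (Cfsg.IrrCharacter G)) (hB : Cfsg.IsPBlock M B) :
    Cfsg.IsDefectGroup p M B (P : Subgroup G) ↔
      Cfsg.blockDefect p B = (Nat.card G).factorization p := by
  classical
  have : Fintype G := Fintype.ofFinite G
  constructor
  · intro hD
    have h1 := Cfsg.Agent.Lib.Helper7.card_of_isDefectGroup hM B hB (P : Subgroup G) hD
    have h2 : Nat.card (P : Subgroup G) = p ^ (Nat.card G).factorization p :=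
      Sylow.card_eq_multiplicity P
    rw [h1] at h2
    exact Nat.pow_right_injective (Fact.out : p.Prime).two_le h2
  · intro h
    obtain ⟨D, hD⟩ := Cfsg.Agent.Lib.Helper24.exists_isDefectGroup hM B hB
    have h1 := Cfsg.Agent.Lib.Helper7.card_of_isDefectGroup hM B hB D hD
    rw [h] at h1
    obtain ⟨x, hx⟩ := MulAction.exists_smul_eq G (Sylow.ofCard D h1) P
    have h2 := Cfsg.Agent.Lib.Helper24.isDefectGroup_map_conj hD x
    have h3 : (P : Subgroup G) = D.map (MulAut.conj x).toMonoidHom := by
      rw [← hx, Sylow.coe_subgroup_smul, Sylow.coe_ofCard]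
      rfl
    rw [h3]
    exact h2

end Cfsg.Agent.Lib.Helper24.SLB.Helper16
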