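import Mathlib
import Cfsg.Agent.Lib.Helper6.OrtS8

/-!
# Similarities commuting with an isometry of odd prime order: gluing
-/

set_option autoImplicit false
set_option linter.unusedSectionVars false
set_option linter.unusedVariables false
set_option linter.style.haveILetI false

namespace Cfsg.Agent.Lib.Helper16.SemiClassOrth

open Module Submodule Polynomial QuadraticMap Cfsg.Agent.Lib.Helper15 Cfsg.Agent.Lib.Helper15.PSpI
  Cfsg.Agent.Lib.Helper15.PSub Cfsg.Agent.Lib.Helper15.PDec Cfsg.Agent.Lib.Helper15.PSpJ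
  Cfsg.Agent.Lib.Helper6.OrtS

section defs
variable {F V : Type*} [Field F] [AddCommGroup V] [Module F V]

/-- a similarity of the restriction of `B` to `N`, with multiplier `lam`, commuting with `y` -/
def HasSim (B : V →ₗ[F] V →ₗ[F] F) (y : V →ₗ[F] V) (lam : F) (N : Submodule F V) : Prop :=
  ∃ c : N →ₗ[F] N, (∀ u v : N, B (c u : V) (c v : V) = lam * B (u : V) (v : V)) ∧
    (∀ v w : N, (w : V) = y (v : V) → ((c w : N) : V) = y ((c v : N) : V))

variable {B : V →ₗ[F] V →ₗ[F] F} {y : V →ₗ[F] V} {lam : F}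

theorem hasSim_bot : HasSim B y lam (⊥ : Submodule F V) := by
  refine ⟨LinearMap.id, ?_, ?_⟩
  · intro u v
    have hu : (u : V) = 0 := (Submodule.mem_bot F).mp u.2
    rw [LinearMap.id_apply, LinearMap.id_apply, hu]
    simp
  · intro v w h
    have hv : (v : V) = 0 := (Submodule.mem_bot F).mp v.2
    have hw : (w : V) = 0 := (Submodule.mem_bot F).mp w.2
    rw [LinearMap.id_apply, LinearMap.id_apply, hw, hv, map_zero]

/-- gluing along a direct sum of invariant subspaces -/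
theorem hasSim_glue (A A' : Submodule F V) (hd : Disjoint A A')
    (hAy : ∀ v ∈ A, y v ∈ A) (hA'y : ∀ v ∈ A', y v ∈ A')
    (c₁ : A →ₗ[F] A) (c₂ : A' →ₗ[F] A')
    (h₁ : ∀ v w : A, (w : V) = y (v : V) → ((c₁ w : A) : V) = y ((c₁ v : A) : V))
    (h₂ : ∀ v w : A', (w : V) = y (v : V) → ((c₂ w : A') : V) = y ((c₂ v : A') : V))
    (hform : ∀ (a b : A) (a' b' : A'),
      B ((c₁ a : V) + (c₂ a' : V)) ((c₁ b : V) + (c₂ b' : V)) =
        lam * B ((a : V) + (a' : V)) ((b : V) + (b' : V))) :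
    HasSim B y lam (A ⊔ A') := by
  obtain ⟨c, hc⟩ : ∃ c : ↥(A ⊔ A') →ₗ[F] ↥(A ⊔ A'),
      c = (supEquiv A A' hd).toLinearMap ∘ₗ (c₁.prodMap c₂) ∘ₗ
        (supEquiv A A' hd).symm.toLinearMap := ⟨_, rfl⟩
  have hcp : ∀ p : A × A', ((c (supEquiv A A' hd p) : ↥(A ⊔ A')) : V) =
      (c₁ p.1 : V) + (c₂ p.2 : V) := by
    intro p
    rw [hc]
    simp only [LinearMap.coe_comp, LinearEquiv.coe_coe, Function.comp_apply,
      LinearEquiv.symm_apply_apply]
    rw [supEquiv_apply]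
    rfl
  refine ⟨c, ?_, ?_⟩
  · intro u v
    obtain ⟨p, rfl⟩ := (supEquiv A A' hd).surjective u
    obtain ⟨p', rfl⟩ := (supEquiv A A' hd).surjective v
    rw [hcp, hcp, supEquiv_apply, supEquiv_apply]
    exact hform p.1 p'.1 p.2 p'.2
  · intro v w hvw
    obtain ⟨p, rfl⟩ := (supEquiv A A' hd).surjective v
    obtain ⟨p', rfl⟩ := (supEquiv A A' hd).surjective w
    rw [supEquiv_apply, supEquiv_apply, map_add] at hvw
    rw [hcp, hcp, map_add]
    have hmem : (p'.1 : V) - y (p.1 : V) ∈ A ⊓ A' := by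
      refine ⟨A.sub_mem p'.1.2 (hAy _ p.1.2), ?_⟩
      have : (p'.1 : V) - y (p.1 : V) = y (p.2 : V) - (p'.2 : V) := by
        rw [sub_eq_sub_iff_add_eq_add, hvw]
        abel
      rw [this]
      exact A'.sub_mem (hA'y _ p.2.2) p'.2.2
    rw [hd.eq_bot, Submodule.mem_bot, sub_eq_zero] at hmem
    have hmem' : (p'.2 : V) = y (p.2 : V) := by
      rw [hmem] at hvw
      exact add_left_cancel hvw
    rw [h₁ p.1 p'.1 hmem, h₂ p.2 p'.2 hmem']

/-- gluing along an orthogonal sum -/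
theorem hasSim_sup (hS : ∀ u v, B u v = B v u) (A A' : Submodule F V) (hd : Disjoint A A')
    (ho : Orth B A A') (hAy : ∀ v ∈ A, y v ∈ A) (hA'y : ∀ v ∈ A', y v ∈ A')
    (h1 : HasSim B y lam A) (h2 : HasSim B y lam A') : HasSim B y lam (A ⊔ A') := by
  obtain ⟨c₁, hc₁, hy₁⟩ := h1
  obtain ⟨c₂, hc₂, hy₂⟩ := h2
  apply hasSim_glue A A' hd hAy hA'y c₁ c₂ hy₁ hy₂
  intro a b a' b'
  simp only [map_add, LinearMap.add_apply]
  rw [hc₁, hc₂, ho _ (c₁ a).2 _ (c₂ b').2, hS (c₂ a' : V) (c₁ b : V), ho _ (c₁ b).2 _ (c₂ a').2,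
    ho _ a.2 _ b'.2, hS (a' : V) (b : V), ho _ b.2 _ a'.2]
  ring

/-- a hyperbolic pair of invariant totally isotropic subspaces -/
theorem hasSim_pair (A A' : Submodule F V) (hd : Disjoint A A')
    (hAy : ∀ v ∈ A, y v ∈ A) (hA'y : ∀ v ∈ A', y v ∈ A')
    (hA : ∀ u ∈ A, ∀ v ∈ A, B u v = 0) (hA' : ∀ u ∈ A', ∀ v ∈ A', B u v = 0) :
    HasSim B y lam (A ⊔ A') := by
  apply hasSim_glue A A' hd hAy hA'y (lam • LinearMap.id) LinearMap.id
  · intro v w h
    simp only [LinearMap.smul_apply, LinearMap.id_apply, Submodule.coe_smul, map_smul, h]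
  · intro v w h
    simp only [LinearMap.id_apply, h]
  · intro a b a' b'
    simp only [LinearMap.smul_apply, LinearMap.id_apply, Submodule.coe_smul, map_add, map_smul,
      LinearMap.add_apply, LinearMap.smul_apply, smul_eq_mul]
    rw [hA _ a.2 _ b.2, hA' _ a'.2 _ b'.2]
    ring

end defs

end Cfsg.Agent.Lib.Helper16.SemiClassOrth
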