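import Mathlib
import Cfsg.Agent.Lib.Helper16.SemiClassOrth1

/-!
# Similarities commuting with an isometry of odd prime order: the blocks
-/

set_option autoImplicit false
set_option linter.unusedSectionVars false
set_option linter.unusedVariables false
set_option linter.style.haveILetI false

namespace Cfsg.Agent.Lib.Helper16.SemiClassOrth

open Module Submodule Polynomial QuadraticMap Cfsg.Agent.Lib.Helper15 Cfsg.Agent.Lib.Helper15.PSpI
  Cfsg.Agent.Lib.Helper15.PSub Cfsg.Agent.Lib.Helper15.PDec Cfsg.Agent.Lib.Helper15.PSpJ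
  Cfsg.Agent.Lib.Helper6.OrtS Cfsg.Agent.Lib.Helper14.OrthEven

section field

theorem exists_root_units {K : Type*} [Field K] [Finite K] (a b : ℕ) (ha : 0 < a)
    (hcard : Nat.card Kˣ = a * b) (x : Kˣ) (hx : x ^ a = 1) : ∃ z : Kˣ, z ^ b = x := by
  obtain ⟨g, hg⟩ := IsCyclic.exists_generator (α := Kˣ)
  obtain ⟨k, rfl⟩ : ∃ k : ℕ, g ^ k = x := by
    have := hg x
    rwa [← mem_powers_iff_mem_zpowers, Submonoid.mem_powers_iff] at this
  have hord : orderOf g = a * b := by rw [orderOf_eq_card_of_forall_mem_zpowers hg, hcard]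
  rw [← pow_mul] at hx
  have hdvd := orderOf_dvd_of_pow_eq_one hx
  rw [hord, mul_comm k a] at hdvd
  have : b ∣ k := Nat.dvd_of_mul_dvd_mul_left ha hdvd
  obtain ⟨j, rfl⟩ := this
  exact ⟨g ^ j, by rw [← pow_mul, mul_comm]⟩

/-- norm surjectivity, in polynomial form -/
theorem exists_poly_root {F : Type*} [Field F] [Fintype F] (P : F[X]) (hP : Irreducible P) (j : ℕ)
    (hj : 1 ≤ j) (hdeg : P.natDegree = j + j) (lam : F) (hlam : lam ≠ 0) :
    ∃ u : F[X], P ∣ u ^ (Fintype.card F ^ j + 1) - C lam := by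
  haveI : Fact (Irreducible P) := ⟨hP⟩
  haveI : Module.Finite F (AdjoinRoot P) := (AdjoinRoot.powerBasis hP.ne_zero).finite
  haveI : Finite (AdjoinRoot P) := Module.finite_of_finite F
  have hq1 : 1 < Fintype.card F := Fintype.one_lt_card
  have hQ1 : 1 < Fintype.card F ^ j := Nat.one_lt_pow (by omega) hq1
  have hcardK : Nat.card (AdjoinRoot P) = Fintype.card F ^ j * Fintype.card F ^ j := by
    rw [Module.natCard_eq_pow_finrank (K := F), PowerBasis.finrank (AdjoinRoot.powerBasis hP.ne_zero),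
      AdjoinRoot.powerBasis_dim, hdeg, Nat.card_eq_fintype_card, pow_add]
  have hcardU : Nat.card (AdjoinRoot P)ˣ = (Fintype.card F ^ j - 1) * (Fintype.card F ^ j + 1) := by
    rw [Nat.card_units, hcardK]
    obtain ⟨t, ht⟩ : ∃ t, Fintype.card F ^ j = t + 1 := ⟨Fintype.card F ^ j - 1, by omega⟩
    rw [ht]
    simp only [Nat.add_sub_cancel]
    ring_nf
    omega
  have hx0 : AdjoinRoot.of P lam ≠ 0 := by
    rw [Ne, map_eq_zero]
    exact hlam
  have hxpow : (Units.mk0 _ hx0) ^ (Fintype.card F ^ j - 1) = 1 := by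
    apply Units.ext
    rw [Units.val_pow_eq_pow_val, Units.val_mk0, Units.val_one, ← map_pow]
    obtain ⟨t, ht⟩ := Nat.sub_one_dvd_pow_sub_one (Fintype.card F) j
    rw [ht, pow_mul, FiniteField.pow_card_sub_one_eq_one lam hlam, one_pow, map_one]
  obtain ⟨z, hz⟩ := exists_root_units (Fintype.card F ^ j - 1) (Fintype.card F ^ j + 1) (by omega)
    hcardU _ hxpow
  obtain ⟨u, hu⟩ := AdjoinRoot.mk_surjective (z : AdjoinRoot P)
  refine ⟨u, ?_⟩
  rw [← AdjoinRoot.mk_eq_zero, map_sub, map_pow, hu, AdjoinRoot.mk_C, sub_eq_zero,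
    ← Units.val_pow_eq_pow_val, hz, Units.val_mk0]

end field

section killed

variable {F V : Type*} [Field F] [Fintype F] [AddCommGroup V] [Module F V]
variable {B : V →ₗ[F] V →ₗ[F] F}

/-- an invariant subspace killed by an irreducible polynomial of even degree `2j` with
`r ∣ q^j + 1` carries commuting similarities of every multiplier -/
theorem hasSim_killed (y : V →ₗ[F] V) (hiso : ∀ u v, B (y u) (y v) = B u v)
    (r : ℕ) (hr : 0 < r) (hy : y ^ r = 1) (j : ℕ) (hj : 1 ≤ j)
    (hrq : r ∣ Fintype.card F ^ j + 1) (P : F[X]) (hP : Irreducible P)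
    (hdeg : P.natDegree = j + j) (M : Submodule F V) (hMinv : M ∈ Module.End.invtSubmodule y)
    (hkill : ∀ w ∈ M, aeval y P w = 0) (lam : F) (hlam : lam ≠ 0) : HasSim B y lam M := by
  obtain ⟨u, s, hu⟩ := exists_poly_root P hP j hj hdeg lam hlam
  obtain ⟨y', hy'⟩ : ∃ y' : V →ₗ[F] V, y' = y ^ (r - 1) := ⟨_, rfl⟩
  have hyy' : y * y' = 1 := by
    rw [hy', ← pow_succ', Nat.sub_add_cancel hr, hy]
  have hinv : ∀ w, y (y' w) = w := by
    intro w
    rw [← Module.End.mul_apply, hyy']
    rfl
  have hyQ : y ^ (Fintype.card F ^ j) = y' := by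
    have h1 : y ^ (Fintype.card F ^ j) * y = 1 := by
      rw [← pow_succ]
      obtain ⟨k, hk⟩ := hrq
      rw [hk, pow_mul, hy, one_pow]
    calc y ^ (Fintype.card F ^ j) = y ^ (Fintype.card F ^ j) * (y * y') := by rw [hyy', mul_one]
      _ = (y ^ (Fintype.card F ^ j) * y) * y' := (mul_assoc _ _ _).symm
      _ = y' := by rw [h1, one_mul]
  have hmem : ∀ w ∈ M, aeval y u w ∈ M := fun w hw => aeval_mem_of_invt y hMinv u hw
  have hupow : u ^ (Fintype.card F ^ j + 1) = C lam + s * P := by
    rw [mul_comm s P, ← hu]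
    ring
  refine ⟨(aeval y u).restrict hmem, ?_, ?_⟩
  · intro v w
    rw [LinearMap.coe_restrict_apply, LinearMap.coe_restrict_apply,
      adj_aeval y y' hiso hinv u (v : V) (aeval y u (w : V)), ← hyQ, frob_aeval,
      ← Module.End.mul_apply, ← pow_succ, ← map_pow, hupow, map_add, LinearMap.add_apply,
      aeval_mul_apply, hkill _ w.2, map_zero, add_zero, aeval_C, Module.algebraMap_end_apply,
      map_smul, smul_eq_mul]
  · intro v w hvw
    rw [LinearMap.coe_restrict_apply, LinearMap.coe_restrict_apply, hvw]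
    have h1 : aeval y u (y (v : V)) = aeval y (u * X) (v : V) := by
      rw [aeval_mul_apply, aeval_X]
    have h2 : y (aeval y u (v : V)) = aeval y (X * u) (v : V) := by
      rw [aeval_mul_apply, aeval_X]
    rw [h1, h2, mul_comm]

end killed

section fixed

variable {F V : Type*} [Field F] [Fintype F] [AddCommGroup V] [Module F V] [FiniteDimensional F V]

theorem hasSign_smul {X : Type*} (Q : X → F) (lam : F) (hlam : lam ≠ 0) {n : ℕ} {ε : ℤ}
    (hs : HasSign Q n ε) : HasSign (fun v => lam * Q v) n ε := by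
  classical
  intro c
  have h := hs (lam⁻¹ * c)
  have e : cnt (fun v => lam * Q v) c = cnt Q (lam⁻¹ * c) := by
    unfold cnt
    congr 1
    apply Nat.card_congr
    refine Equiv.subtypeEquivRight (fun v => ?_)
    constructor
    · intro h
      show Q v = lam⁻¹ * c
      rw [← h]
      show Q v = lam⁻¹ * (lam * Q v)
      rw [inv_mul_cancel_left₀ hlam]
    · intro h
      show lam * Q v = c
      rw [h, mul_inv_cancel_left₀ hlam]
  have hiff : (lam⁻¹ * c = 0) ↔ c = 0 := by
    rw [mul_eq_zero]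
    constructor
    · rintro (h | h)
      · exact absurd (inv_eq_zero.mp h) hlam
      · exact h
    · intro h; exact Or.inr h
  rw [e, h]
  simp only [hiff]

/-- the fixed part: an even dimensional nondegenerate subspace on which `y` is trivial -/
theorem hasSim_fixed (Q : QuadraticForm F V) (y : V →ₗ[F] V) (W : Submodule F V)
    (hW : NondegOn (polarBilin Q) W) (hfix : ∀ w ∈ W, y w = w) (n : ℕ)
    (hdim : finrank F W = 2 * n) (lam : F) (hlam : lam ≠ 0) :
    HasSim (polarBilin Q) y lam W := by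
  rcases Nat.eq_zero_or_pos n with h0 | hpos
  · have hb : W = ⊥ := by
      apply Submodule.finrank_eq_zero.mp
      rw [hdim, h0]
    rw [hb]
    exact hasSim_bot
  have hQW := nondegenerate_Qr Q hW
  have hlamQ : (polarBilin (lam • Qr Q W)).Nondegenerate := by
    have e : polarBilin (lam • Qr Q W) = lam • polarBilin (Qr Q W) := by
      ext u v
      simp [polar]
      ring
    rw [e]
    have hl : (lam • polarBilin (Qr Q W)).SeparatingLeft := by
      intro x hx
      apply hQW.1
      intro v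
      have := hx v
      rw [LinearMap.smul_apply, LinearMap.smul_apply, smul_eq_mul] at this
      exact (mul_eq_zero.mp this).resolve_left hlam
    refine ⟨hl, ?_⟩
    intro x hx
    apply hQW.2
    intro v
    have := hx v
    rw [LinearMap.smul_apply, LinearMap.smul_apply, smul_eq_mul] at this
    exact (mul_eq_zero.mp this).resolve_left hlam
  obtain ⟨ε, hε⟩ : ∃ ε : ℤ, HasSign (⇑(Qr Q W)) n ε := by
    rcases sign_cases (Qr Q W) hQW n hpos hdim with ⟨h, -⟩ | ⟨h, -⟩
    · exact ⟨1, h⟩
    · exact ⟨-1, h⟩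
  have hε' : HasSign (⇑(lam • Qr Q W)) n ε :=
    (hasSign_smul _ lam hlam hε).congr_fun (fun v => by
      rw [_root_.smul_apply, smul_eq_mul])
  obtain ⟨φ, hφ⟩ := exists_iso_of_sign (lam • Qr Q W) (Qr Q W) hlamQ hQW n hpos hdim hdim hε' hε
  have hφ' : ∀ x : W, Q ((φ x : W) : V) = lam * Q (x : V) := by
    intro x
    have := hφ x
    rw [_root_.smul_apply, smul_eq_mul, Qr_apply, Qr_apply] at this
    exact this
  refine ⟨φ.toLinearMap, ?_, ?_⟩
  · intro u v
    rw [LinearEquiv.coe_coe, pB_apply, pB_apply]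
    unfold polar
    have e : ((φ u : W) : V) + ((φ v : W) : V) = ((φ (u + v) : W) : V) := by
      rw [map_add]; rfl
    rw [e, hφ', hφ', hφ']
    have e2 : ((u + v : W) : V) = (u : V) + (v : V) := rfl
    rw [e2]
    ring
  · intro v w hvw
    rw [hfix _ v.2] at hvw
    have : w = v := Subtype.ext hvw
    rw [this, LinearEquiv.coe_coe, hfix _ (φ v).2]

end fixed

section blocks

variable {F V : Type*} [Field F] [Fintype F] [AddCommGroup V] [Module F V] [FiniteDimensional F V]
variable {B : V →ₗ[F] V →ₗ[F] F}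

/-- **Block extraction with similarities** -/
theorem exists_simblock (p : ℕ) [Fact p.Prime] [CharP F p] (r : ℕ) [hr : Fact r.Prime]
    (hrp : r ≠ p) (hr2 : r ≠ 2) (hS : ∀ u v, B u v = B v u) (y : V →ₗ[F] V)
    (hiso : ∀ u v, B (y u) (y v) = B u v) (hy : y ^ r = 1) (lam : F) (hlam : lam ≠ 0)
    (N' : Submodule F V)
    (hN'x : N'.map y = N') (hN'n : NondegOn B N')
    (hN'E : N' ⊓ Module.End.eigenspace y 1 = ⊥) (hN'0 : N' ≠ ⊥) :
    ∃ Z : Submodule F V, Z ≤ N' ∧ Z.map y = Z ∧ NondegOn B Z ∧ Z ≠ ⊥ ∧ HasSim B y lam Z := by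
  classical
  have hr0 : (r : F) ≠ 0 := ne_zero_of_ne' p r hr.out hrp
  have hss : Module.End.IsSemisimple y :=
    isSemisimple_of_pow_eq_smul y r hr0 1 one_ne_zero (by rw [hy, one_smul])
  have hinj : Function.Injective y :=
    injective_of_pow_eq_smul y r 1 one_ne_zero (by rw [hy, one_smul]) hr.out.ne_zero
  have hodd : Odd r := hr.out.odd_of_ne_two hr2
  have hN'inv : N' ∈ Module.End.invtSubmodule y := by
    rw [Module.End.mem_invtSubmodule_iff_map_le, hN'x]
  have hkill := cyclotomic_kills y r hy N' hN'inv hN'E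
  obtain ⟨w, hwN, hw0⟩ := Submodule.exists_mem_ne_zero_of_ne_bot hN'0
  obtain ⟨P, hPirr, hPdvd, v, hv0, hPv, hvW⟩ :=
    exists_irreducible_killer y (cyclotomic r F) (cyclotomic_ne_zero r F) w hw0 (hkill w hwN)
  have hvN : v ∈ N' := hvW N' hN'inv hwN
  have hPdeg : P.natDegree = orderOf ((Fintype.card F : ℕ) : ZMod r) :=
    cyclotomic_factor_degree p r hr.out hrp P hPirr hPdvd
  have hPX : P ∣ X ^ r - 1 := dvd_trans hPdvd (cyclotomic.dvd_X_pow_sub_one r F)
  have hipos : 0 < orderOf ((Fintype.card F : ℕ) : ZMod r) := by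
    rw [← hPdeg]; exact hPirr.natDegree_pos
  have hKinv : N' ⊓ LinearMap.ker (aeval y P) ∈ Module.End.invtSubmodule y := by
    apply Module.End.invtSubmodule.inf_mem hN'inv
    intro u hu
    rw [Submodule.mem_comap, LinearMap.mem_ker]
    rw [LinearMap.mem_ker] at hu
    have h1 : aeval y P (y u) = aeval y (P * X) u := by rw [aeval_mul_apply, aeval_X]
    rw [h1, mul_comm, aeval_mul_apply, hu, aeval_X, map_zero]
  obtain ⟨W, hWK, hWinv, hvW', hWdim, hWirr⟩ := cyclic_irred y P hPirr _ hKinv
    (fun w hw => LinearMap.mem_ker.mp hw.2) v ⟨hvN, LinearMap.mem_ker.mpr hPv⟩ hv0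
  have hWN : W ≤ N' := hWK.trans inf_le_left
  have hWx : W.map y = W := map_eq_of_invt y hinj W hWinv
  have hW0 : W ≠ ⊥ := by
    intro h0
    rw [h0] at hvW'
    exact hv0 ((mem_bot F).mp hvW')
  by_cases hti : ∀ u ∈ W, ∀ w ∈ W, B u w = 0
  · obtain ⟨R', hR'N, hR'inv, hWR', hR'dim, hZn, ha⟩ :=
      pair_block' hS y hiso hss hinj N' hN'x hN'n W hWN hWinv hti
    have hZinv : W ⊔ R' ∈ Module.End.invtSubmodule y :=
      Module.End.invtSubmodule.sup_mem hWinv hR'inv
    have hZN : W ⊔ R' ≤ N' := sup_le hWN hR'N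
    have hZdim : finrank F ↥(W ⊔ R') = 2 * orderOf ((Fintype.card F : ℕ) : ZMod r) := by
      have := Submodule.finrank_sup_add_finrank_inf_eq W R'
      rw [hWR', finrank_bot, add_zero, hR'dim, hWdim, hPdeg] at this
      omega
    by_cases hie : Even (orderOf ((Fintype.card F : ℕ) : ZMod r))
    · obtain ⟨j', hj'⟩ := hie
      have hj'1 : 1 ≤ j' := by omega
      have hQr : r ∣ Fintype.card F ^ j' + 1 := dvd_of_order_even _ r j' hj'1 hj'
      obtain ⟨y', hy'⟩ : ∃ y' : V →ₗ[F] V, y' = y ^ (r - 1) := ⟨_, rfl⟩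
      have hinv : ∀ w, y (y' w) = w := by
        intro w
        rw [hy', ← Module.End.mul_apply, ← pow_succ', Nat.sub_add_cancel hr.out.pos, hy]
        rfl
      have hyQ : y ^ (Fintype.card F ^ j') = y' := by
        apply LinearMap.ext
        intro w
        apply hinj
        rw [hinv, ← Module.End.mul_apply, ← pow_succ']
        obtain ⟨k, hk⟩ := hQr
        rw [hk, pow_mul, hy, one_pow]
        rfl
      have hkillR : ∀ w ∈ R', aeval y P w = 0 := by
        intro w hw
        apply bezout_kill y r hr0 hy P hPX (Fintype.card F ^ j') (Nat.one_le_pow _ _ Fintype.card_pos)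
        apply ha
        · rw [← map_pow]
          exact aeval_mem_of_invt y hR'inv _ hw
        · intro u hu
          rw [← frob_aeval, hyQ, ← adj_aeval y y' hiso hinv]
          have : aeval y P u = 0 := LinearMap.mem_ker.mp (hWK hu).2
          rw [this, LinearMap.map_zero₂]
      have hkillZ : ∀ w ∈ W ⊔ R', aeval y P w = 0 := by
        intro w hw
        obtain ⟨u, hu, w', hw', rfl⟩ := mem_sup.mp hw
        rw [map_add, LinearMap.mem_ker.mp (hWK hu).2, hkillR w' hw', add_zero]
      have hZx : (W ⊔ R').map y = W ⊔ R' := map_eq_of_invt y hinj _ hZinv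
      obtain ⟨v₁, hv₁Z, hv₁⟩ : ∃ v₁ ∈ W ⊔ R', B v₁ (y v₁) ≠ 0 := by
        by_contra hcon
        push Not at hcon
        have hfix := polarize' hS y y' hiso hinv r hodd hy (W ⊔ R') hZx
          (fun w hw => by
            rw [hy']
            exact pow_mem_of_invt y hZinv _ hw) hZn hcon
        have hZE : W ⊔ R' ≤ N' ⊓ Module.End.eigenspace y 1 := by
          intro w hw
          refine Submodule.mem_inf.mpr ⟨hZN hw, ?_⟩
          rw [Module.End.mem_eigenspace_iff, one_smul]
          exact hfix w hw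
        rw [hN'E, le_bot_iff] at hZE
        rw [hZE, finrank_bot] at hZdim
        omega
      have hv₁0 : v₁ ≠ 0 := by
        rintro rfl
        simp at hv₁
      obtain ⟨M, hMZ, hMinv, hv₁M, hMdim, hMirr⟩ :=
        cyclic_irred y P hPirr _ hZinv hkillZ v₁ hv₁Z hv₁0
      have hMx : M.map y = M := map_eq_of_invt y hinj M hMinv
      have hMn : NondegOn B M := nondeg_of_irred' hS y hiso M hMx hMirr
        ⟨v₁, hv₁M, y v₁, hMinv hv₁M, hv₁⟩
      refine ⟨M, hMZ.trans hZN, hMx, hMn, ?_, ?_⟩
      · intro h0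
        rw [h0] at hv₁M
        exact hv₁0 ((mem_bot F).mp hv₁M)
      · exact hasSim_killed y hiso r hr.out.pos hy j' hj'1 hQr P hPirr (by rw [hPdeg, hj']) M hMinv
          (fun w hw => hkillZ w (hMZ hw)) lam hlam
    · -- `R'` is totally isotropic, by parity
      have hR'E : R' ⊓ Module.End.eigenspace y 1 = ⊥ := by
        rw [eq_bot_iff, ← hN'E]
        exact inf_le_inf_right _ hR'N
      have hR'x : R'.map y = R' := map_eq_of_invt y hinj R' hR'inv
      have hR'ti : ∀ u ∈ R', ∀ w ∈ R', B u w = 0 := by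
        by_contra hcon
        push Not at hcon
        obtain ⟨u, hu, w', hw', huw⟩ := hcon
        have hR'irr : ∀ S : Submodule F V, S ≤ R' → S ∈ Module.End.invtSubmodule y → S ≠ ⊥ →
            S = R' := by
          intro S hSR hSinv hS0
          obtain ⟨j, hj⟩ := invt_profile p r hrp y hy S hSinv
          have hSE : S ⊓ Module.End.eigenspace y 1 = ⊥ := by
            rw [eq_bot_iff, ← hR'E]
            exact inf_le_inf_right _ hSR
          rw [hSE, finrank_bot, zero_add] at hj
          have hj1 : 1 ≤ j := by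
            rcases Nat.eq_zero_or_pos j with h0 | h
            · rw [h0, zero_mul] at hj
              exact absurd (Submodule.finrank_eq_zero.mp hj) hS0
            · exact h
          apply Submodule.eq_of_le_of_finrank_le hSR
          rw [hR'dim, hWdim, hPdeg, hj]
          exact Nat.le_mul_of_pos_left _ hj1
        have hR'n : NondegOn B R' := nondeg_of_irred' hS y hiso R' hR'x hR'irr
          ⟨u, hu, w', hw', huw⟩
        have heven := even_finrank_of_fpf hS y hiso r hodd hy R' hR'x hR'n hR'E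
        rw [hR'dim, hWdim, hPdeg] at heven
        exact hie heven
      refine ⟨W ⊔ R', hZN, map_eq_of_invt y hinj _ hZinv, hZn, ?_, ?_⟩
      · intro h0
        apply hW0
        rw [eq_bot_iff, ← h0]
        exact le_sup_left
      · exact hasSim_pair W R' (disjoint_iff.mpr hWR') (fun v hv => hWinv hv)
          (fun v hv => hR'inv hv) hti hR'ti
  · push Not at hti
    obtain ⟨u, hu, w', hw', huw⟩ := hti
    have hWn : NondegOn B W := nondeg_of_irred' hS y hiso W hWx hWirr ⟨u, hu, w', hw', huw⟩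
    have hWE : W ⊓ Module.End.eigenspace y 1 = ⊥ := by
      rw [eq_bot_iff, ← hN'E]
      exact inf_le_inf_right _ hWN
    have heven := even_finrank_of_fpf hS y hiso r hodd hy W hWx hWn hWE
    rw [hWdim, hPdeg] at heven
    obtain ⟨j', hj'⟩ := heven
    have hj'1 : 1 ≤ j' := by omega
    have hQr : r ∣ Fintype.card F ^ j' + 1 := dvd_of_order_even _ r j' hj'1 hj'
    refine ⟨W, hWN, hWx, hWn, hW0, ?_⟩
    exact hasSim_killed y hiso r hr.out.pos hy j' hj'1 hQr P hPirr (by rw [hPdeg, hj']) W hWinv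
      (fun w hw => LinearMap.mem_ker.mp (hWK hw).2) lam hlam

/-- the moved part carries commuting similarities of every multiplier -/
theorem hasSim_of_fpf (p : ℕ) [Fact p.Prime] [CharP F p] (r : ℕ) [hr : Fact r.Prime]
    (hrp : r ≠ p) (hr2 : r ≠ 2) (hS : ∀ u v, B u v = B v u) (y : V →ₗ[F] V)
    (hiso : ∀ u v, B (y u) (y v) = B u v) (hy : y ^ r = 1) (lam : F) (hlam : lam ≠ 0) :
    ∀ (d : ℕ) (N' : Submodule F V), finrank F N' = d → N'.map y = N' → NondegOn B N' →
      N' ⊓ Module.End.eigenspace y 1 = ⊥ → HasSim B y lam N' := by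
  have hinj : Function.Injective y :=
    injective_of_pow_eq_smul y r 1 one_ne_zero (by rw [hy, one_smul]) hr.out.ne_zero
  intro d
  induction d using Nat.strong_induction_on with
  | _ d ih =>
    intro N' hd hN'x hN'n hN'E
    by_cases hN'0 : N' = ⊥
    · rw [hN'0]
      exact hasSim_bot
    obtain ⟨Z, hZN, hZx, hZn, hZ0, hZsim⟩ :=
      exists_simblock p r hrp hr2 hS y hiso hy lam hlam N' hN'x hN'n hN'E hN'0
    have hTx := map_perpIn_of_inj y hinj hiso hN'x hZx
    have hTn := nondegOn_perpIn' hS hZN hZn hN'n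
    have hTf := finrank_perpIn' hS hZN hZn (V' := N')
    have hTE : perpIn B N' Z ⊓ Module.End.eigenspace y 1 = ⊥ := by
      rw [eq_bot_iff, ← hN'E]
      exact inf_le_inf_right _ (perpIn_le N' Z)
    have hZpos : 0 < finrank F Z := by
      rcases Nat.eq_zero_or_pos (finrank F Z) with h0 | h
      · exact absurd (Submodule.finrank_eq_zero.mp h0) hZ0
      · exact h
    have hTsim := ih (finrank F (perpIn B N' Z)) (by omega) (perpIn B N' Z) rfl hTx hTn hTE
    have ho : Orth B Z (perpIn B N' Z) := orth_perpIn N' Z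
    have hsup := sup_perpIn' hS hZN hZn (V' := N')
    rw [← hsup]
    exact hasSim_sup hS Z (perpIn B N' Z) (orth_disjoint hS ho hZn) ho
      (fun v hv => by rw [← hZx]; exact ⟨v, hv, rfl⟩)
      (fun v hv => by rw [← hTx]; exact ⟨v, hv, rfl⟩) hZsim hTsim

end blocks

end Cfsg.Agent.Lib.Helper16.SemiClassOrth
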