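import Mathlib
import Cfsg.Agent.Lib.Helper16.SemiClassOrth2
import Cfsg.Agent.Lib.Helper16.GraphSplitPSL5
import Cfsg.Agent.Lib.Helper16.SympDescent

/-!
# Similarities commuting with an isometry of odd prime order: the global statement
-/

set_option autoImplicit false
set_option linter.unusedSectionVars false
set_option linter.unusedVariables false
set_option linter.style.haveILetI false

namespace Cfsg.Agent.Lib.Helper16.SemiClassOrth

open Module Submodule Polynomial QuadraticMap Cfsg.Agent.Lib.Helper15 Cfsg.Agent.Lib.Helper15.PSpI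
  Cfsg.Agent.Lib.Helper15.PSub Cfsg.Agent.Lib.Helper15.PDec Cfsg.Agent.Lib.Helper15.PSpJ
  Cfsg.Agent.Lib.Helper6.OrtS Cfsg.Agent.Lib.Helper14.OrthEven

section global

variable {F V : Type*} [Field F] [Fintype F] [AddCommGroup V] [Module F V] [FiniteDimensional F V]

/-- **a commuting similarity of every multiplier** -/
theorem exists_sim_comm (p : ℕ) [Fact p.Prime] [CharP F p] (r : ℕ) [hr : Fact r.Prime]
    (hrp : r ≠ p) (hr2 : r ≠ 2) (h2 : (2 : F) ≠ 0) (Q : QuadraticForm F V)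
    (hQ : NondegOn (polarBilin Q) ⊤) (y : V →ₗ[F] V) (hQy : ∀ v, Q (y v) = Q v)
    (hy : y ^ r = 1) (n : ℕ) (hdim : finrank F V = 2 * n) (lam : F) (hlam : lam ≠ 0) :
    ∃ c : V →ₗ[F] V, (∀ v, Q (c v) = lam * Q v) ∧ ∀ v, c (y v) = y (c v) := by
  have hS := pB_symm Q
  have hiso := iso_of_Q Q y hQy
  have hr0 : (r : F) ≠ 0 := ne_zero_of_ne' p r hr.out hrp
  have hodd : Odd r := hr.out.odd_of_ne_two hr2
  have hinj : Function.Injective y :=
    injective_of_pow_eq_smul y r 1 one_ne_zero (by rw [hy, one_smul]) hr.out.ne_zero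
  have htop : (⊤ : Submodule F V).map y = ⊤ :=
    map_eq_of_invt y hinj ⊤ (by
      rw [Module.End.mem_invtSubmodule_iff_map_le]
      exact le_top)
  obtain ⟨hMx, hMn, hME, hdim', hsup, horth⟩ :=
    movPart_props' hS y hiso r hr.out.ne_zero hr0 hy ⊤ htop hQ
  have hFn := nondegOn_fixed y hiso r hr0 hy ⊤ htop hQ
  have heven := even_finrank_of_fpf hS y hiso r hodd hy _ hMx hMn hME
  rw [finrank_top, hdim] at hdim'
  obtain ⟨n₂, hn₂⟩ := heven
  have hFdim : finrank F ↥((⊤ : Submodule F V) ⊓ Module.End.eigenspace y 1) = 2 * (n - n₂) := by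
    omega
  have hsimF : HasSim (polarBilin Q) y lam ((⊤ : Submodule F V) ⊓ Module.End.eigenspace y 1) :=
    hasSim_fixed Q y _ hFn (fun w hw => fix_of_mem_inf y hw) (n - n₂) hFdim lam hlam
  have hsimM : HasSim (polarBilin Q) y lam (movPart (polarBilin Q) y ⊤) :=
    hasSim_of_fpf p r hrp hr2 hS y hiso hy lam hlam _ _ rfl hMx hMn hME
  have hFx : ∀ v ∈ (⊤ : Submodule F V) ⊓ Module.End.eigenspace y 1,
      y v ∈ (⊤ : Submodule F V) ⊓ Module.End.eigenspace y 1 := by
    intro v hv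
    rw [fix_of_mem_inf y hv]
    exact hv
  have hall := hasSim_sup hS _ _ (orth_disjoint hS horth hFn) horth hFx
    (fun v hv => by rw [← hMx]; exact ⟨v, hv, rfl⟩) hsimF hsimM
  rw [hsup] at hall
  obtain ⟨c₀, hc₀, hyc₀⟩ := hall
  obtain ⟨c, hc⟩ : ∃ c : V →ₗ[F] V, c = (⊤ : Submodule F V).subtype ∘ₗ c₀ ∘ₗ
      (LinearMap.id.codRestrict ⊤ (fun _ => mem_top)) := ⟨_, rfl⟩
  have hcv : ∀ v, c v = ((c₀ ⟨v, mem_top⟩ : (⊤ : Submodule F V)) : V) := by
    intro v
    rw [hc]
    rfl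
  refine ⟨c, ?_, ?_⟩
  · intro v
    have h1 := hc₀ ⟨v, mem_top⟩ ⟨v, mem_top⟩
    rw [← hcv, pB_apply, pB_apply, polar_self, polar_self] at h1
    simp only [nsmul_eq_mul, Nat.cast_ofNat] at h1
    have h3 : (2 : F) * (Q (c v) - lam * Q v) = 0 := by linear_combination h1
    rcases mul_eq_zero.mp h3 with h | h
    · exact absurd h h2
    · linear_combination h
  · intro v
    rw [hcv, hcv]
    exact hyc₀ ⟨v, mem_top⟩ ⟨y v, mem_top⟩ rfl

end global

section alt

variable {F : Type*} [Field F] {ι : Type*} [Fintype ι] [DecidableEq ι]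

/-- a similarity of a nondegenerate alternating form with multiplier `c` has determinant `c ^ n` -/
theorem det_of_alt_sim (n : ℕ) (hcard : Fintype.card ι = 2 * n) (S C : Matrix ι ι F)
    (hS : S.det ≠ 0) (halt : ∀ x : ι → F, x ⬝ᵥ (S.mulVec x) = 0) (c : F) (hc : c ≠ 0)
    (hCS : C.transpose * S * C = c • S) : C.det = c ^ n := by
  have hcard' : Fintype.card ι = Fintype.card (Fin n ⊕ Fin n) := by
    rw [hcard, Fintype.card_sum, Fintype.card_fin]; ring
  obtain ⟨e⟩ : Nonempty (ι ≃ Fin n ⊕ Fin n) := ⟨Fintype.equivOfCardEq hcard'⟩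
  obtain ⟨A, hA⟩ : ∃ A : Matrix (Fin n ⊕ Fin n) (Fin n ⊕ Fin n) F,
      A = S.submatrix e.symm e.symm := ⟨_, rfl⟩
  obtain ⟨A', hA'⟩ : ∃ A' : Matrix (Fin n ⊕ Fin n) (Fin n ⊕ Fin n) F,
      A' = S⁻¹.submatrix e.symm e.symm := ⟨_, rfl⟩
  obtain ⟨C', hC'⟩ : ∃ C' : Matrix (Fin n ⊕ Fin n) (Fin n ⊕ Fin n) F,
      C' = C.submatrix e.symm e.symm := ⟨_, rfl⟩
  have hAA' : A * A' = 1 := by
    rw [hA, hA', Matrix.submatrix_mul_equiv, Matrix.mul_nonsing_inv _ (isUnit_iff_ne_zero.mpr hS),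
      Matrix.submatrix_one_equiv]
  have halt' : ∀ x : Fin n ⊕ Fin n → F, x ⬝ᵥ (A.mulVec x) = 0 := by
    intro x
    have h1 := halt (x ∘ e)
    rw [hA]
    rw [← h1]
    rw [Matrix.submatrix_mulVec_equiv, Equiv.symm_symm, dotProduct_comp_equiv_symm]
  obtain ⟨d, d', hdd', hJ⟩ := Cfsg.Agent.Lib.Helper16.SympDescent.alt_congr A A' hAA' halt'
  have hd'd : d' * d = 1 := mul_eq_one_comm.mp hdd'
  have hC'A : C'.transpose * A * C' = c • A := by
    rw [hC', hA, Matrix.transpose_submatrix, Matrix.submatrix_mul_equiv, Matrix.submatrix_mul_equiv,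
      hCS]
    rfl
  obtain ⟨K, hK⟩ : ∃ K : Matrix (Fin n ⊕ Fin n) (Fin n ⊕ Fin n) F, K = d' * C' * d := ⟨_, rfl⟩
  have hKJ : K.transpose * Matrix.J (Fin n) F * K = c • Matrix.J (Fin n) F := by
    rw [hK, ← hJ]
    calc (d' * C' * d).transpose * (d.transpose * A * d) * (d' * C' * d)
        = d.transpose * C'.transpose * (d * d').transpose * A * (d * d') * C' * d := by
          simp only [Matrix.transpose_mul, Matrix.mul_assoc]
      _ = d.transpose * (C'.transpose * A * C') * d := by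
          rw [hdd', Matrix.transpose_one]
          simp only [Matrix.mul_one, Matrix.mul_assoc]
      _ = c • (d.transpose * A * d) := by
          rw [hC'A, Matrix.mul_smul, Matrix.smul_mul]
  have hdet := Cfsg.Agent.Lib.Helper16.GraphSplitPSL.det_of_sim_J K.transpose c hc (by
    rw [Matrix.transpose_transpose]; exact hKJ)
  rw [Matrix.det_transpose, hK, Matrix.det_mul, Matrix.det_mul] at hdet
  have hdd : d'.det * d.det = 1 := by
    rw [← Matrix.det_mul, hd'd, Matrix.det_one]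
  have hC'det : C'.det = C.det := by
    rw [hC', Matrix.det_submatrix_equiv_self]
  rw [← hC'det]
  calc C'.det = (d'.det * d.det) * C'.det := by rw [hdd, one_mul]
    _ = d'.det * C'.det * d.det := by ring
    _ = c ^ n := hdet

end alt

end Cfsg.Agent.Lib.Helper16.SemiClassOrth
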