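import Mathlib
import Cfsg.Agent.Lib.Helper16.SemiClassOrth3
import Cfsg.Agent.Lib.Helper6.OrtS5

/-!
# Isometries of `2`-power order commuting with an isometry of odd prime order: the blocks
-/

set_option autoImplicit false
set_option linter.unusedSectionVars false
set_option linter.unusedVariables false
set_option linter.style.haveILetI false

namespace Cfsg.Agent.Lib.Helper16.SemiClassOrth

open Module Submodule Polynomial QuadraticMap Cfsg.Agent.Lib.Helper15 Cfsg.Agent.Lib.Helper15.PSpI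
  Cfsg.Agent.Lib.Helper15.PSub Cfsg.Agent.Lib.Helper15.PDec Cfsg.Agent.Lib.Helper15.PSpJ
  Cfsg.Agent.Lib.Helper6.OrtS Cfsg.Agent.Lib.Helper14.OrthEven

section field

theorem exists_two_elt {K : Type*} [Field K] [Finite K] (b a t : ℕ)
    (ha : 1 ≤ a) (hb : 0 < b) (ht : 0 < t) (hcard : Nat.card Kˣ = b * (2 ^ a * t)) :
    ∃ z : Kˣ, z ^ (2 ^ (a - 1)) = -1 ∧ z ^ (2 ^ a * t) = 1 := by
  obtain ⟨g, hg⟩ := IsCyclic.exists_generator (α := Kˣ)
  have hord : orderOf g = b * (2 ^ a * t) := by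
    rw [orderOf_eq_card_of_forall_mem_zpowers hg, hcard]
  obtain ⟨a', rfl⟩ : ∃ a', a = a' + 1 := ⟨a - 1, by omega⟩
  rw [Nat.add_sub_cancel]
  refine ⟨g ^ (b * t), ?_, ?_⟩
  · have hsq : (g ^ (b * t)) ^ (2 ^ a') * (g ^ (b * t)) ^ (2 ^ a') = 1 := by
      rw [← pow_add, ← pow_mul, ← two_mul, ← pow_succ']
      have : b * t * 2 ^ (a' + 1) = b * (2 ^ (a' + 1) * t) := by ring
      rw [this, ← hord, pow_orderOf_eq_one]
    have hne : (g ^ (b * t)) ^ (2 ^ a') ≠ 1 := by
      rw [← pow_mul]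
      intro h
      have hdvd := orderOf_dvd_of_pow_eq_one h
      rw [hord] at hdvd
      have hpos : 0 < b * t * 2 ^ a' := by positivity
      have hle := Nat.le_of_dvd hpos hdvd
      have : b * (2 ^ (a' + 1) * t) = 2 * (b * t * 2 ^ a') := by ring
      omega
    obtain ⟨w, hw⟩ : ∃ w : Kˣ, w = (g ^ (b * t)) ^ (2 ^ a') := ⟨_, rfl⟩
    rw [← hw] at hsq hne ⊢
    have h1 : ((w : K) - 1) * ((w : K) + 1) = 0 := by
      have := congrArg Units.val hsq
      rw [Units.val_mul, Units.val_one] at this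
      linear_combination this
    rcases mul_eq_zero.mp h1 with h | h
    · exfalso
      apply hne
      apply Units.ext
      rw [Units.val_one]
      linear_combination h
    · apply Units.ext
      rw [Units.val_neg, Units.val_one]
      linear_combination h
  · rw [← pow_mul]
    have : b * t * (2 ^ (a' + 1) * t) = b * (2 ^ (a' + 1) * t) * t := by ring
    rw [this, pow_mul, ← hord, pow_orderOf_eq_one, one_pow]

theorem exists_poly_two_elt {F : Type*} [Field F] [Fintype F] (h2 : (2 : F) ≠ 0) (P : F[X])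
    (hP : Irreducible P) (e : ℕ) (he : 1 ≤ e) (hdeg : P.natDegree = e + e) (a t : ℕ) (ha : 1 ≤ a)
    (hN : Fintype.card F ^ e + 1 = 2 ^ a * t) :
    ∃ u : F[X], P ∣ u ^ (2 ^ (a - 1)) + 1 ∧ P ∣ u ^ (Fintype.card F ^ e + 1) - 1 := by
  haveI : Fact (Irreducible P) := ⟨hP⟩
  haveI : Module.Finite F (AdjoinRoot P) := (AdjoinRoot.powerBasis hP.ne_zero).finite
  haveI : Finite (AdjoinRoot P) := Module.finite_of_finite F
  have hq1 : 1 < Fintype.card F := Fintype.one_lt_card
  have hQ1 : 1 < Fintype.card F ^ e := Nat.one_lt_pow (by omega) hq1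
  have hcardK : Nat.card (AdjoinRoot P) = Fintype.card F ^ e * Fintype.card F ^ e := by
    rw [Module.natCard_eq_pow_finrank (K := F), PowerBasis.finrank (AdjoinRoot.powerBasis hP.ne_zero),
      AdjoinRoot.powerBasis_dim, hdeg, Nat.card_eq_fintype_card, pow_add]
  have hcardU : Nat.card (AdjoinRoot P)ˣ = (Fintype.card F ^ e - 1) * (2 ^ a * t) := by
    rw [Nat.card_units, hcardK, ← hN]
    obtain ⟨s, hs⟩ : ∃ s, Fintype.card F ^ e = s + 1 := ⟨Fintype.card F ^ e - 1, by omega⟩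
    rw [hs]
    simp only [Nat.add_sub_cancel]
    ring_nf
    omega
  have ht : 0 < t := by
    rcases Nat.eq_zero_or_pos t with h | h
    · rw [h, mul_zero] at hN
      omega
    · exact h
  obtain ⟨z, hz1, hz2⟩ := exists_two_elt (K := AdjoinRoot P) (Fintype.card F ^ e - 1) a t ha
    (by omega) ht hcardU
  obtain ⟨u, hu⟩ := AdjoinRoot.mk_surjective (z : AdjoinRoot P)
  refine ⟨u, ?_, ?_⟩
  · rw [← AdjoinRoot.mk_eq_zero, map_add, map_pow, hu, map_one, ← Units.val_pow_eq_pow_val, hz1]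
    simp
  · rw [← AdjoinRoot.mk_eq_zero, map_sub, map_pow, hu, map_one, ← Units.val_pow_eq_pow_val, hN, hz2]
    simp

theorem exists_field_two_elt {F : Type*} [Field F] [Fintype F] (a t : ℕ)
    (ha : 1 ≤ a) (hN : Fintype.card F - 1 = 2 ^ a * t) :
    ∃ lam : Fˣ, lam ^ (2 ^ (a - 1)) = -1 := by
  have hq1 : 1 < Fintype.card F := Fintype.one_lt_card
  have ht : 0 < t := by
    rcases Nat.eq_zero_or_pos t with h | h
    · rw [h, mul_zero] at hN
      omega
    · exact h
  have hcardU : Nat.card Fˣ = 1 * (2 ^ a * t) := by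
    rw [Nat.card_units, Nat.card_eq_fintype_card, hN, one_mul]
  obtain ⟨z, hz1, -⟩ := exists_two_elt (K := F) 1 a t ha one_pos ht hcardU
  exact ⟨z, hz1⟩

end field

section defs
variable {F V : Type*} [Field F] [AddCommGroup V] [Module F V]

/-- an isometry of the restriction of `B` to `N` commuting with `y`, with `c ^ 2^(a-1) = -1` -/
def HasRot (B : V →ₗ[F] V →ₗ[F] F) (y : V →ₗ[F] V) (a : ℕ) (N : Submodule F V) : Prop :=
  ∃ c : N →ₗ[F] N, (∀ u v : N, B (c u : V) (c v : V) = B (u : V) (v : V)) ∧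
    (∀ v w : N, (w : V) = y (v : V) → ((c w : N) : V) = y ((c v : N) : V)) ∧
    (∀ v : N, (c ^ (2 ^ (a - 1))) v = -v)

variable {B : V →ₗ[F] V →ₗ[F] F} {y : V →ₗ[F] V}

/-- a hyperbolic pair of invariant totally isotropic subspaces -/
theorem hasRot_pair (A A' : Submodule F V) (hd : Disjoint A A')
    (hAy : ∀ v ∈ A, y v ∈ A) (hA'y : ∀ v ∈ A', y v ∈ A')
    (hA : ∀ u ∈ A, ∀ v ∈ A, B u v = 0) (hA' : ∀ u ∈ A', ∀ v ∈ A', B u v = 0)
    (lam : Fˣ) (a : ℕ) (hlam : lam ^ (2 ^ (a - 1)) = -1) :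
    HasRot B y a (A ⊔ A') := by
  obtain ⟨c, hc⟩ : ∃ c : ↥(A ⊔ A') →ₗ[F] ↥(A ⊔ A'),
      c = (supEquiv A A' hd).toLinearMap ∘ₗ
        (((lam : F) • (LinearMap.id : A →ₗ[F] A)).prodMap
          (((lam⁻¹ : Fˣ) : F) • (LinearMap.id : A' →ₗ[F] A'))) ∘ₗ
        (supEquiv A A' hd).symm.toLinearMap := ⟨_, rfl⟩
  have hcp : ∀ p : A × A', c (supEquiv A A' hd p) =
      supEquiv A A' hd ((lam : F) • p.1, ((lam⁻¹ : Fˣ) : F) • p.2) := by
    intro p
    rw [hc]
    simp only [LinearMap.coe_comp, LinearEquiv.coe_coe, Function.comp_apply,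
      LinearEquiv.symm_apply_apply]
    rfl
  have hcpow : ∀ (j : ℕ) (p : A × A'), (c ^ j) (supEquiv A A' hd p) =
      supEquiv A A' hd (((lam ^ j : Fˣ) : F) • p.1, (((lam⁻¹) ^ j : Fˣ) : F) • p.2) := by
    intro j
    induction j with
    | zero => intro p; simp
    | succ j ih =>
      intro p
      rw [pow_succ, Module.End.mul_apply, hcp, ih]
      congr 1
      ext
      · simp only [smul_smul, pow_succ, Units.val_mul]
      · simp only [smul_smul, pow_succ, Units.val_mul]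
  refine ⟨c, ?_, ?_, ?_⟩
  · intro u v
    obtain ⟨p, rfl⟩ := (supEquiv A A' hd).surjective u
    obtain ⟨p', rfl⟩ := (supEquiv A A' hd).surjective v
    rw [hcp, hcp, supEquiv_apply, supEquiv_apply, supEquiv_apply, supEquiv_apply]
    simp only [Submodule.coe_smul, map_add, map_smul, LinearMap.add_apply, LinearMap.smul_apply,
      smul_eq_mul]
    rw [hA _ p.1.2 _ p'.1.2, hA' _ p.2.2 _ p'.2.2]
    have h1 : (lam : F) * ((lam⁻¹ : Fˣ) : F) = 1 := by
      rw [← Units.val_mul, mul_inv_cancel, Units.val_one]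
    have h2 : ((lam⁻¹ : Fˣ) : F) * (lam : F) = 1 := by
      rw [← Units.val_mul, inv_mul_cancel, Units.val_one]
    linear_combination (B (p.1 : V) (p'.2 : V)) * h2 + (B (p.2 : V) (p'.1 : V)) * h1
  · intro v w hvw
    obtain ⟨p, rfl⟩ := (supEquiv A A' hd).surjective v
    obtain ⟨p', rfl⟩ := (supEquiv A A' hd).surjective w
    rw [supEquiv_apply, supEquiv_apply, map_add] at hvw
    rw [hcp, hcp, supEquiv_apply, supEquiv_apply, map_add]
    have hmem : (p'.1 : V) - y (p.1 : V) ∈ A ⊓ A' := by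
      refine ⟨A.sub_mem p'.1.2 (hAy _ p.1.2), ?_⟩
      have : (p'.1 : V) - y (p.1 : V) = y (p.2 : V) - (p'.2 : V) := by
        rw [sub_eq_sub_iff_add_eq_add, hvw]
        abel
      rw [this]
      exact A'.sub_mem (hA'y _ p.2.2) p'.2.2
    rw [hd.eq_bot, Submodule.mem_bot, sub_eq_zero] at hmem
    have hmem' : (p'.2 : V) = y (p.2 : V) := by
      rw [hmem] at hvw
      exact add_left_cancel hvw
    simp only [Submodule.coe_smul, map_smul, hmem, hmem']
  · intro v
    obtain ⟨p, rfl⟩ := (supEquiv A A' hd).surjective v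
    rw [hcpow, inv_pow, hlam]
    have h1 : (((-1 : Fˣ)⁻¹ : Fˣ) : F) = -1 := by
      rw [inv_neg, inv_one, Units.val_neg, Units.val_one]
    rw [h1, Units.val_neg, Units.val_one, neg_one_smul, neg_one_smul]
    rw [← map_neg]
    rfl

end defs

section killed

variable {F V : Type*} [Field F] [Fintype F] [AddCommGroup V] [Module F V]
variable {B : V →ₗ[F] V →ₗ[F] F}

/-- an invariant subspace killed by an irreducible polynomial of even degree `2e` with
`r ∣ q^e + 1` carries a commuting isometry of order the `2`-part of `q^e + 1` -/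
theorem hasRot_killed (h2 : (2 : F) ≠ 0) (y : V →ₗ[F] V) (hiso : ∀ u v, B (y u) (y v) = B u v)
    (r : ℕ) (hr : 0 < r) (hy : y ^ r = 1) (e : ℕ) (he : 1 ≤ e)
    (hrq : r ∣ Fintype.card F ^ e + 1) (P : F[X]) (hP : Irreducible P)
    (hdeg : P.natDegree = e + e) (M : Submodule F V) (hMinv : M ∈ Module.End.invtSubmodule y)
    (hkill : ∀ w ∈ M, aeval y P w = 0) (a t : ℕ) (ha : 1 ≤ a)
    (hN : Fintype.card F ^ e + 1 = 2 ^ a * t) : HasRot B y a M := by
  obtain ⟨u, ⟨s₁, hu1⟩, ⟨s₂, hu2⟩⟩ := exists_poly_two_elt h2 P hP e he hdeg a t ha hN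
  obtain ⟨y', hy'⟩ : ∃ y' : V →ₗ[F] V, y' = y ^ (r - 1) := ⟨_, rfl⟩
  have hyy' : y * y' = 1 := by
    rw [hy', ← pow_succ', Nat.sub_add_cancel hr, hy]
  have hinv : ∀ w, y (y' w) = w := by
    intro w
    rw [← Module.End.mul_apply, hyy']
    rfl
  have hyQ : y ^ (Fintype.card F ^ e) = y' := by
    have h1 : y ^ (Fintype.card F ^ e) * y = 1 := by
      rw [← pow_succ]
      obtain ⟨k, hk⟩ := hrq
      rw [hk, pow_mul, hy, one_pow]
    calc y ^ (Fintype.card F ^ e) = y ^ (Fintype.card F ^ e) * (y * y') := by rw [hyy', mul_one]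
      _ = (y ^ (Fintype.card F ^ e) * y) * y' := (mul_assoc _ _ _).symm
      _ = y' := by rw [h1, one_mul]
  have hmem : ∀ w ∈ M, aeval y u w ∈ M := fun w hw => aeval_mem_of_invt y hMinv u hw
  have hupow : u ^ (Fintype.card F ^ e + 1) = 1 + s₂ * P := by
    rw [mul_comm s₂ P, ← hu2]
    ring
  have hupow2 : u ^ (2 ^ (a - 1)) = -1 + s₁ * P := by
    rw [mul_comm s₁ P, ← hu1]
    ring
  refine ⟨(aeval y u).restrict hmem, ?_, ?_, ?_⟩
  · intro v w
    rw [LinearMap.coe_restrict_apply, LinearMap.coe_restrict_apply,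
      adj_aeval y y' hiso hinv u (v : V) (aeval y u (w : V)), ← hyQ, frob_aeval,
      ← Module.End.mul_apply, ← pow_succ, ← map_pow, hupow, map_add, LinearMap.add_apply,
      aeval_mul_apply, hkill _ w.2, map_zero, add_zero, map_one, Module.End.one_apply]
  · intro v w hvw
    rw [LinearMap.coe_restrict_apply, LinearMap.coe_restrict_apply, hvw]
    have h1 : aeval y u (y (v : V)) = aeval y (u * X) (v : V) := by
      rw [aeval_mul_apply, aeval_X]
    have h2 : y (aeval y u (v : V)) = aeval y (X * u) (v : V) := by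
      rw [aeval_mul_apply, aeval_X]
    rw [h1, h2, mul_comm]
  · intro v
    apply Subtype.ext
    rw [Module.End.pow_restrict, LinearMap.coe_restrict_apply, ← map_pow, hupow2, map_add,
      LinearMap.add_apply, aeval_mul_apply, hkill _ v.2, map_zero, add_zero, map_neg, map_one,
      LinearMap.neg_apply, Module.End.one_apply]
    rfl

end killed

end Cfsg.Agent.Lib.Helper16.SemiClassOrth
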