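import Mathlib
import Cfsg.Agent.Lib.Helper16.SemiClassOrth8

/-!
# Isometries of `2`-power order commuting with an isometry of odd prime order: extraction
-/

set_option autoImplicit false
set_option linter.unusedSectionVars false
set_option linter.unusedVariables false
set_option linter.style.haveILetI false

namespace Cfsg.Agent.Lib.Helper16.SemiClassOrth

open Module Submodule Polynomial QuadraticMap Cfsg.Agent.Lib.Helper15 Cfsg.Agent.Lib.Helper15.PSpI
  Cfsg.Agent.Lib.Helper15.PSub Cfsg.Agent.Lib.Helper15.PDec Cfsg.Agent.Lib.Helper15.PSpJ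
  Cfsg.Agent.Lib.Helper6.OrtS Cfsg.Agent.Lib.Helper14.OrthEven

theorem geom_sum_mod_two (q : ℕ) (hq : Odd q) (i : ℕ) :
    (∑ j ∈ Finset.range i, q ^ j) % 2 = i % 2 := by
  induction i with
  | zero => simp
  | succ i ih =>
    rw [Finset.sum_range_succ, Nat.add_mod, ih]
    have : q ^ i % 2 = 1 := Nat.odd_iff.mp hq.pow
    rw [this]
    omega

theorem two_part_succ (n : ℕ) (hn : Even n) (hn0 : n ≠ 0) :
    ∃ a t : ℕ, 1 ≤ a ∧ Odd t ∧ n = 2 ^ a * t := by
  obtain ⟨a, t, ht, hnt⟩ := Nat.exists_eq_two_pow_mul_odd hn0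
  refine ⟨a, t, ?_, ht, hnt⟩
  rcases Nat.eq_zero_or_pos a with h0 | h
  · exfalso
    rw [h0, pow_zero, one_mul] at hnt
    rw [hnt] at hn
    exact (Nat.not_even_iff_odd.mpr ht) hn
  · exact h

section blocks

variable {F V : Type*} [Field F] [Fintype F] [AddCommGroup V] [Module F V] [FiniteDimensional F V]

/-- **Block extraction with rotations** -/
theorem exists_spinblock (p : ℕ) [Fact p.Prime] [CharP F p] (r : ℕ) [hr : Fact r.Prime]
    (hrp : r ≠ p) (hr2 : r ≠ 2) (hoddq : Odd (Fintype.card F)) (h2 : (2 : F) ≠ 0)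
    (Q : QuadraticForm F V) (y : V →ₗ[F] V)
    (hQy : ∀ v, Q (y v) = Q v) (hy : y ^ r = 1)
    (N' : Submodule F V)
    (hN'x : N'.map y = N') (hN'n : NondegOn (polarBilin Q) N')
    (hN'E : N' ⊓ Module.End.eigenspace y 1 = ⊥) (hN'0 : N' ≠ ⊥) :
    ∃ (Z : Submodule F V) (k a t : ℕ) (ε : ℤ), Z ≤ N' ∧ Z.map y = Z ∧
      NondegOn (polarBilin Q) Z ∧ 1 ≤ k ∧ finrank F Z = 2 * k ∧ SgnOn Q Z ε ∧ 1 ≤ a ∧ Odd t ∧
      ((Fintype.card F : ℕ) : ℤ) ^ k - ε = 2 ^ a * t ∧ HasRot (polarBilin Q) y a Z := by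
  classical
  have hS := pB_symm Q
  have hiso := iso_of_Q Q y hQy
  have hr0 : (r : F) ≠ 0 := ne_zero_of_ne' p r hr.out hrp
  have hss : Module.End.IsSemisimple y :=
    isSemisimple_of_pow_eq_smul y r hr0 1 one_ne_zero (by rw [hy, one_smul])
  have hinj : Function.Injective y :=
    injective_of_pow_eq_smul y r 1 one_ne_zero (by rw [hy, one_smul]) hr.out.ne_zero
  have hodd : Odd r := hr.out.odd_of_ne_two hr2
  have hN'inv : N' ∈ Module.End.invtSubmodule y := by
    rw [Module.End.mem_invtSubmodule_iff_map_le, hN'x]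
  have hkill := cyclotomic_kills y r hy N' hN'inv hN'E
  obtain ⟨w, hwN, hw0⟩ := Submodule.exists_mem_ne_zero_of_ne_bot hN'0
  obtain ⟨P, hPirr, hPdvd, v, hv0, hPv, hvW⟩ :=
    exists_irreducible_killer y (cyclotomic r F) (cyclotomic_ne_zero r F) w hw0 (hkill w hwN)
  have hvN : v ∈ N' := hvW N' hN'inv hwN
  have hPdeg : P.natDegree = orderOf ((Fintype.card F : ℕ) : ZMod r) :=
    cyclotomic_factor_degree p r hr.out hrp P hPirr hPdvd
  have hPX : P ∣ X ^ r - 1 := dvd_trans hPdvd (cyclotomic.dvd_X_pow_sub_one r F)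
  have hipos : 0 < orderOf ((Fintype.card F : ℕ) : ZMod r) := by
    rw [← hPdeg]; exact hPirr.natDegree_pos
  -- the irreducible nondegenerate case
  have irr_case : ∀ (M : Submodule F V) (e : ℕ), M ≤ N' → M ∈ Module.End.invtSubmodule y →
      NondegOn (polarBilin Q) M → finrank F M = P.natDegree →
      orderOf ((Fintype.card F : ℕ) : ZMod r) = e + e → (∀ w ∈ M, aeval y P w = 0) →
      ∃ (Z : Submodule F V) (k a t : ℕ) (ε : ℤ), Z ≤ N' ∧ Z.map y = Z ∧
        NondegOn (polarBilin Q) Z ∧ 1 ≤ k ∧ finrank F Z = 2 * k ∧ SgnOn Q Z ε ∧ 1 ≤ a ∧ Odd t ∧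
        ((Fintype.card F : ℕ) : ℤ) ^ k - ε = 2 ^ a * t ∧ HasRot (polarBilin Q) y a Z := by
    intro M e hMN hMinv hMn hMdim he hMkill
    have he1 : 1 ≤ e := by omega
    have hQr : r ∣ Fintype.card F ^ e + 1 := dvd_of_order_even _ r e he1 he
    have hMx : M.map y = M := map_eq_of_invt y hinj M hMinv
    have hME : M ⊓ Module.End.eigenspace y 1 = ⊥ := by
      rw [eq_bot_iff, ← hN'E]
      exact inf_le_inf_right _ hMN
    have hMdim' : finrank F M = 2 * e := by rw [hMdim, hPdeg, he]; ring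
    have hieven : Even (orderOf ((Fintype.card F : ℕ) : ZMod r)) := ⟨e, he⟩
    obtain ⟨ε₀, hε₀, hsgn⟩ : ∃ ε₀ : ℤ, (ε₀ = 1 ∨ ε₀ = -1) ∧ SgnOn Q M ε₀ := by
      rcases sgnOn_cases Q hMn e hMdim' with h | h
      · exact ⟨1, Or.inl rfl, h⟩
      · exact ⟨-1, Or.inr rfl, h⟩
    have hε₀val : ε₀ = -1 := by
      have := sign_of_fpf Q p r hrp hr2 y hQy hy M hMx hME 1 (by
        rw [hMdim, hPdeg, mul_one]
        unfold cOf
        rw [if_pos hieven]) hε₀ hsgn
      rw [this]
      unfold Cfsg.Agent.Lib.Helper6.OrtS.tau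
      rw [if_pos hieven, pow_one]
    have hevenN : Even (Fintype.card F ^ e + 1) := by
      rw [Nat.even_add_one, Nat.not_even_iff_odd]
      exact hoddq.pow
    obtain ⟨a, t, ha, ht, hN⟩ := two_part_succ (Fintype.card F ^ e + 1) hevenN (by omega)
    refine ⟨M, e, a, t, ε₀, hMN, hMx, hMn, he1, hMdim', hsgn, ha, ht, ?_, ?_⟩
    · rw [hε₀val]
      have := congrArg (Nat.cast : ℕ → ℤ) hN
      push_cast at this
      rw [← this]
      ring
    · exact hasRot_killed h2 y hiso r hr.out.pos hy e he1 hQr P hPirr (by rw [hPdeg, he]) M hMinv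
        hMkill a t ha hN
  have hKinv : N' ⊓ LinearMap.ker (aeval y P) ∈ Module.End.invtSubmodule y := by
    apply Module.End.invtSubmodule.inf_mem hN'inv
    intro u hu
    rw [Submodule.mem_comap, LinearMap.mem_ker]
    rw [LinearMap.mem_ker] at hu
    have h1 : aeval y P (y u) = aeval y (P * X) u := by rw [aeval_mul_apply, aeval_X]
    rw [h1, mul_comm, aeval_mul_apply, hu, aeval_X, map_zero]
  obtain ⟨W, hWK, hWinv, hvW', hWdim, hWirr⟩ := cyclic_irred y P hPirr _ hKinv
    (fun w hw => LinearMap.mem_ker.mp hw.2) v ⟨hvN, LinearMap.mem_ker.mpr hPv⟩ hv0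
  have hWN : W ≤ N' := hWK.trans inf_le_left
  have hWx : W.map y = W := map_eq_of_invt y hinj W hWinv
  have hW0 : W ≠ ⊥ := by
    intro h0
    rw [h0] at hvW'
    exact hv0 ((mem_bot F).mp hvW')
  by_cases hti : ∀ u ∈ W, ∀ w ∈ W, polarBilin Q u w = 0
  · obtain ⟨R', hR'N, hR'inv, hWR', hR'dim, hZn, ha⟩ :=
      pair_block' hS y hiso hss hinj N' hN'x hN'n W hWN hWinv hti
    have hZinv : W ⊔ R' ∈ Module.End.invtSubmodule y :=
      Module.End.invtSubmodule.sup_mem hWinv hR'inv
    have hZN : W ⊔ R' ≤ N' := sup_le hWN hR'N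
    have hZdim : finrank F ↥(W ⊔ R') = 2 * orderOf ((Fintype.card F : ℕ) : ZMod r) := by
      have := Submodule.finrank_sup_add_finrank_inf_eq W R'
      rw [hWR', finrank_bot, add_zero, hR'dim, hWdim, hPdeg] at this
      omega
    by_cases hie : Even (orderOf ((Fintype.card F : ℕ) : ZMod r))
    · obtain ⟨j', hj'⟩ := hie
      have hj'1 : 1 ≤ j' := by omega
      have hQr : r ∣ Fintype.card F ^ j' + 1 := dvd_of_order_even _ r j' hj'1 hj'
      obtain ⟨y', hy'⟩ : ∃ y' : V →ₗ[F] V, y' = y ^ (r - 1) := ⟨_, rfl⟩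
      have hinv : ∀ w, y (y' w) = w := by
        intro w
        rw [hy', ← Module.End.mul_apply, ← pow_succ', Nat.sub_add_cancel hr.out.pos, hy]
        rfl
      have hyQ : y ^ (Fintype.card F ^ j') = y' := by
        apply LinearMap.ext
        intro w
        apply hinj
        rw [hinv, ← Module.End.mul_apply, ← pow_succ']
        obtain ⟨k, hk⟩ := hQr
        rw [hk, pow_mul, hy, one_pow]
        rfl
      have hkillR : ∀ w ∈ R', aeval y P w = 0 := by
        intro w hw
        apply bezout_kill y r hr0 hy P hPX (Fintype.card F ^ j') (Nat.one_le_pow _ _ Fintype.card_pos)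
        apply ha
        · rw [← map_pow]
          exact aeval_mem_of_invt y hR'inv _ hw
        · intro u hu
          rw [← frob_aeval, hyQ, ← adj_aeval y y' hiso hinv]
          have : aeval y P u = 0 := LinearMap.mem_ker.mp (hWK hu).2
          rw [this, LinearMap.map_zero₂]
      have hkillZ : ∀ w ∈ W ⊔ R', aeval y P w = 0 := by
        intro w hw
        obtain ⟨u, hu, w', hw', rfl⟩ := mem_sup.mp hw
        rw [map_add, LinearMap.mem_ker.mp (hWK hu).2, hkillR w' hw', add_zero]
      have hZx : (W ⊔ R').map y = W ⊔ R' := map_eq_of_invt y hinj _ hZinv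
      obtain ⟨v₁, hv₁Z, hv₁⟩ : ∃ v₁ ∈ W ⊔ R', polarBilin Q v₁ (y v₁) ≠ 0 := by
        by_contra hcon
        push Not at hcon
        have hfix := polarize' hS y y' hiso hinv r hodd hy (W ⊔ R') hZx
          (fun w hw => by
            rw [hy']
            exact pow_mem_of_invt y hZinv _ hw) hZn hcon
        have hZE : W ⊔ R' ≤ N' ⊓ Module.End.eigenspace y 1 := by
          intro w hw
          refine Submodule.mem_inf.mpr ⟨hZN hw, ?_⟩
          rw [Module.End.mem_eigenspace_iff, one_smul]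
          exact hfix w hw
        rw [hN'E, le_bot_iff] at hZE
        rw [hZE, finrank_bot] at hZdim
        omega
      have hv₁0 : v₁ ≠ 0 := by
        rintro rfl
        simp at hv₁
      obtain ⟨M, hMZ, hMinv, hv₁M, hMdim, hMirr⟩ :=
        cyclic_irred y P hPirr _ hZinv hkillZ v₁ hv₁Z hv₁0
      have hMx : M.map y = M := map_eq_of_invt y hinj M hMinv
      have hMn : NondegOn (polarBilin Q) M := nondeg_of_irred' hS y hiso M hMx hMirr
        ⟨v₁, hv₁M, y v₁, hMinv hv₁M, hv₁⟩
      exact irr_case M j' (hMZ.trans hZN) hMinv hMn hMdim hj' (fun w hw => hkillZ w (hMZ hw))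
    · -- `R'` is totally isotropic, by parity
      have hR'E : R' ⊓ Module.End.eigenspace y 1 = ⊥ := by
        rw [eq_bot_iff, ← hN'E]
        exact inf_le_inf_right _ hR'N
      have hR'x : R'.map y = R' := map_eq_of_invt y hinj R' hR'inv
      have hR'ti : ∀ u ∈ R', ∀ w ∈ R', polarBilin Q u w = 0 := by
        by_contra hcon
        push Not at hcon
        obtain ⟨u, hu, w', hw', huw⟩ := hcon
        have hR'irr : ∀ S : Submodule F V, S ≤ R' → S ∈ Module.End.invtSubmodule y → S ≠ ⊥ →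
            S = R' := by
          intro S hSR hSinv hS0
          obtain ⟨j, hj⟩ := invt_profile p r hrp y hy S hSinv
          have hSE : S ⊓ Module.End.eigenspace y 1 = ⊥ := by
            rw [eq_bot_iff, ← hR'E]
            exact inf_le_inf_right _ hSR
          rw [hSE, finrank_bot, zero_add] at hj
          have hj1 : 1 ≤ j := by
            rcases Nat.eq_zero_or_pos j with h0 | h
            · rw [h0, zero_mul] at hj
              exact absurd (Submodule.finrank_eq_zero.mp hj) hS0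
            · exact h
          apply Submodule.eq_of_le_of_finrank_le hSR
          rw [hR'dim, hWdim, hPdeg, hj]
          exact Nat.le_mul_of_pos_left _ hj1
        have hR'n : NondegOn (polarBilin Q) R' := nondeg_of_irred' hS y hiso R' hR'x hR'irr
          ⟨u, hu, w', hw', huw⟩
        have heven := even_finrank_of_fpf hS y hiso r hodd hy R' hR'x hR'n hR'E
        rw [hR'dim, hWdim, hPdeg] at heven
        exact hie heven
      have hZx : (W ⊔ R').map y = W ⊔ R' := map_eq_of_invt y hinj _ hZinv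
      have hZE : (W ⊔ R') ⊓ Module.End.eigenspace y 1 = ⊥ := by
        rw [eq_bot_iff, ← hN'E]
        exact inf_le_inf_right _ hZN
      obtain ⟨ε₀, hε₀, hsgn⟩ : ∃ ε₀ : ℤ, (ε₀ = 1 ∨ ε₀ = -1) ∧ SgnOn Q (W ⊔ R') ε₀ := by
        rcases sgnOn_cases Q hZn _ hZdim with h | h
        · exact ⟨1, Or.inl rfl, h⟩
        · exact ⟨-1, Or.inr rfl, h⟩
      have hε₀val : ε₀ = 1 := by
        have := sign_of_fpf Q p r hrp hr2 y hQy hy (W ⊔ R') hZx hZE 1 (by
          rw [hZdim, mul_one]
          unfold cOf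
          rw [if_neg hie]) hε₀ hsgn
        rw [this]
        unfold Cfsg.Agent.Lib.Helper6.OrtS.tau
        rw [if_neg hie]
      have hq1 : 1 < Fintype.card F := Fintype.one_lt_card
      have hevenN : Even (Fintype.card F - 1) := by
        obtain ⟨c, hc⟩ := hoddq
        exact ⟨c, by omega⟩
      obtain ⟨a, t', ha1, ht', hN⟩ := two_part_succ (Fintype.card F - 1) hevenN (by omega)
      obtain ⟨lam, hlam⟩ := exists_field_two_elt (F := F) a t' ha1 hN
      have hiodd : Odd (orderOf ((Fintype.card F : ℕ) : ZMod r)) := Nat.not_even_iff_odd.mp hie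
      have hgs : Odd (∑ j ∈ Finset.range (orderOf ((Fintype.card F : ℕ) : ZMod r)),
          Fintype.card F ^ j) := by
        rw [Nat.odd_iff, geom_sum_mod_two _ hoddq]
        exact Nat.odd_iff.mp hiodd
      refine ⟨W ⊔ R', orderOf ((Fintype.card F : ℕ) : ZMod r), a,
        t' * ∑ j ∈ Finset.range (orderOf ((Fintype.card F : ℕ) : ZMod r)), Fintype.card F ^ j,
        ε₀, hZN, hZx, hZn, hipos, hZdim, hsgn, ha1, ht'.mul hgs, ?_, ?_⟩
      · rw [hε₀val]
        have h1 : ((Fintype.card F : ℕ) : ℤ) - 1 = 2 ^ a * (t' : ℤ) := by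
          have := congrArg (Nat.cast : ℕ → ℤ) hN
          rw [Nat.cast_sub (by omega)] at this
          push_cast at this
          exact this
        have h3 := mul_geom_sum ((Fintype.card F : ℕ) : ℤ)
          (orderOf ((Fintype.card F : ℕ) : ZMod r))
        push_cast
        rw [← h3, h1]
        ring
      · exact hasRot_pair W R' (disjoint_iff.mpr hWR') (fun v hv => hWinv hv)
          (fun v hv => hR'inv hv) hti hR'ti lam a hlam
  · push Not at hti
    obtain ⟨u, hu, w', hw', huw⟩ := hti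
    have hWn : NondegOn (polarBilin Q) W :=
      nondeg_of_irred' hS y hiso W hWx hWirr ⟨u, hu, w', hw', huw⟩
    have hWE : W ⊓ Module.End.eigenspace y 1 = ⊥ := by
      rw [eq_bot_iff, ← hN'E]
      exact inf_le_inf_right _ hWN
    have heven := even_finrank_of_fpf hS y hiso r hodd hy W hWx hWn hWE
    rw [hWdim, hPdeg] at heven
    obtain ⟨j', hj'⟩ := heven
    exact irr_case W j' hWN hWinv hWn hWdim hj' (fun w hw => LinearMap.mem_ker.mp (hWK hw).2)

end blocks

end Cfsg.Agent.Lib.Helper16.SemiClassOrth
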