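import Mathlib
import Cfsg.Agent.Lib.Helper16.SemiClassOrth9

/-!
# Isometries of `2`-power order commuting with a fixed point free isometry of odd prime order
-/

set_option autoImplicit false
set_option linter.unusedSectionVars false
set_option linter.unusedVariables false
set_option linter.style.haveILetI false

namespace Cfsg.Agent.Lib.Helper16.SemiClassOrth

open Module Submodule Polynomial QuadraticMap Cfsg.Agent.Lib.Helper15 Cfsg.Agent.Lib.Helper15.PSpI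
  Cfsg.Agent.Lib.Helper15.PSub Cfsg.Agent.Lib.Helper15.PDec Cfsg.Agent.Lib.Helper15.PSpJ
  Cfsg.Agent.Lib.Helper6.OrtS Cfsg.Agent.Lib.Helper14.OrthEven

section global

variable {F V : Type*} [Field F] [Fintype F] [AddCommGroup V] [Module F V] [FiniteDimensional F V]

/-- **a commuting isometry acting as a `2`-element on a block and trivially on its complement** -/
theorem exists_spin_comm (p : ℕ) [Fact p.Prime] [CharP F p] (r : ℕ) [hr : Fact r.Prime]
    (hrp : r ≠ p) (hr2 : r ≠ 2) (hoddq : Odd (Fintype.card F)) (h2 : (2 : F) ≠ 0)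
    (Q : QuadraticForm F V)
    (hQ : NondegOn (polarBilin Q) ⊤) (y : V →ₗ[F] V) (hQy : ∀ v, Q (y v) = Q v)
    (hy : y ^ r = 1) (hE : Module.End.eigenspace y 1 = ⊥) (hV : (⊤ : Submodule F V) ≠ ⊥) :
    ∃ (Z : Submodule F V) (k a t : ℕ) (ε : ℤ) (s : V →ₗ[F] V),
      NondegOn (polarBilin Q) Z ∧ 1 ≤ k ∧ finrank F Z = 2 * k ∧ SgnOn Q Z ε ∧ 1 ≤ a ∧ Odd t ∧
      ((Fintype.card F : ℕ) : ℤ) ^ k - ε = 2 ^ a * t ∧ (∀ v, Q (s v) = Q v) ∧
      (∀ v, s (y v) = y (s v)) ∧ (∀ z ∈ Z, s z ∈ Z) ∧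
      (∀ v, (∀ z ∈ Z, polarBilin Q z v = 0) → s v = v) ∧
      (∀ z ∈ Z, (s ^ (2 ^ (a - 1))) z = -z) := by
  have hS := pB_symm Q
  have hiso := iso_of_Q Q y hQy
  have hinj : Function.Injective y :=
    injective_of_pow_eq_smul y r 1 one_ne_zero (by rw [hy, one_smul]) hr.out.ne_zero
  have htop : (⊤ : Submodule F V).map y = ⊤ :=
    map_eq_of_invt y hinj ⊤ (by
      rw [Module.End.mem_invtSubmodule_iff_map_le]
      exact le_top)
  obtain ⟨Z, k, a, t, ε, -, hZx, hZn, hk, hZdim, hsgn, ha, ht, hN, c, hcB, hcy, hcpow⟩ :=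
    exists_spinblock p r hrp hr2 hoddq h2 Q y hQy hy ⊤ htop hQ (by rw [hE, inf_bot_eq]) hV
  obtain ⟨Z', hZ'⟩ : ∃ Z' : Submodule F V, Z' = perpIn (polarBilin Q) ⊤ Z := ⟨_, rfl⟩
  have ho : Orth (polarBilin Q) Z Z' := by rw [hZ']; exact orth_perpIn ⊤ Z
  have hsup : Z ⊔ Z' = ⊤ := by rw [hZ']; exact sup_perpIn' hS le_top hZn
  have hcompl : IsCompl Z Z' := ⟨orth_disjoint hS ho hZn, codisjoint_iff.mpr hsup⟩
  have hZ'x : Z'.map y = Z' := by rw [hZ']; exact map_perpIn_of_inj y hinj hiso htop hZx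
  obtain ⟨s, hs⟩ : ∃ s : V →ₗ[F] V, s = LinearMap.ofIsCompl hcompl (Z.subtype ∘ₗ c) Z'.subtype :=
    ⟨_, rfl⟩
  have hsZ : ∀ z : Z, s (z : V) = ((c z : Z) : V) := by
    intro z
    rw [hs, LinearMap.ofIsCompl_apply_left]
    rfl
  have hsZ' : ∀ z' : Z', s (z' : V) = (z' : V) := by
    intro z'
    rw [hs, LinearMap.ofIsCompl_apply_right]
    rfl
  have hdec : ∀ v : V, ∃ (z : Z) (z' : Z'), v = (z : V) + (z' : V) := by
    intro v
    have : v ∈ Z ⊔ Z' := by rw [hsup]; exact mem_top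
    obtain ⟨z, hz, z', hz', rfl⟩ := mem_sup.mp this
    exact ⟨⟨z, hz⟩, ⟨z', hz'⟩, rfl⟩
  have hQc : ∀ z : Z, Q ((c z : Z) : V) = Q (z : V) := by
    intro z
    have h1 := hcB z z
    rw [pB_apply, pB_apply, polar_self, polar_self] at h1
    simp only [nsmul_eq_mul, Nat.cast_ofNat] at h1
    have h3 : (2 : F) * (Q ((c z : Z) : V) - Q (z : V)) = 0 := by linear_combination h1
    rcases mul_eq_zero.mp h3 with h | h
    · exact absurd h h2
    · linear_combination h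
  have hyZ : ∀ w ∈ Z, y w ∈ Z := fun w hw => by rw [← hZx]; exact ⟨w, hw, rfl⟩
  have hyZ' : ∀ w ∈ Z', y w ∈ Z' := fun w hw => by rw [← hZ'x]; exact ⟨w, hw, rfl⟩
  refine ⟨Z, k, a, t, ε, s, hZn, hk, hZdim, hsgn, ha, ht, hN, ?_, ?_, ?_, ?_, ?_⟩
  · intro v
    obtain ⟨z, z', rfl⟩ := hdec v
    rw [map_add, hsZ, hsZ', Q_add_of_orth Q (ho _ (c z).2 _ z'.2), Q_add_of_orth Q (ho _ z.2 _ z'.2),
      hQc]
  · intro v
    obtain ⟨z, z', rfl⟩ := hdec v
    have hyz : y (z : V) ∈ Z := hyZ _ z.2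
    have hyz' : y (z' : V) ∈ Z' := hyZ' _ z'.2
    have e1 : s (y ((z : V) + (z' : V))) = s (y (z : V)) + s (y (z' : V)) := by
      rw [map_add, map_add]
    have e2 : y (s ((z : V) + (z' : V))) = y ((c z : Z) : V) + y (z' : V) := by
      rw [map_add, hsZ, hsZ', map_add]
    have h1 : s (y (z : V)) = y ((c z : Z) : V) := by
      have := hsZ ⟨y (z : V), hyz⟩
      rw [this]
      exact hcy z ⟨y (z : V), hyz⟩ rfl
    have h3 : s (y (z' : V)) = y (z' : V) := hsZ' ⟨y (z' : V), hyz'⟩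
    rw [e1, e2, h1, h3]
  · intro z hz
    rw [hsZ ⟨z, hz⟩]
    exact (c ⟨z, hz⟩).2
  · intro v hv
    have : v ∈ Z' := by
      rw [hZ']
      exact mem_perpIn.mpr ⟨mem_top, hv⟩
    exact hsZ' ⟨v, this⟩
  · intro z hz
    have hpow : ∀ (j : ℕ) (z : Z), (s ^ j) (z : V) = (((c ^ j) z : Z) : V) := by
      intro j
      induction j with
      | zero => intro z; simp
      | succ j ih =>
        intro z
        rw [pow_succ, Module.End.mul_apply, hsZ, ih, pow_succ, Module.End.mul_apply]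
    have := hpow (2 ^ (a - 1)) ⟨z, hz⟩
    rw [this, hcpow]
    rfl

end global

end Cfsg.Agent.Lib.Helper16.SemiClassOrth
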