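import Mathlib
import Cfsg.Agent.Lib.Helper16.SemiClassOrth3
import Cfsg.Agent.Lib.Helper16.GraphSplitOrth2
import Cfsg.Agent.Lib.Helper6.OrtS12
import Cfsg.Agent.Lib.Helper6.MinusSim

/-!
# Similarities centralizing an isometry of odd prime order: the matrix statement
-/

set_option autoImplicit false
set_option linter.unusedSectionVars false
set_option linter.unusedVariables false
set_option linter.style.haveILetI false

namespace Cfsg.Agent.Lib.Helper16.SemiClassOrth

open Module Submodule Matrix QuadraticMap Cfsg.Agent.Lib.Helper15 Cfsg.Agent.Lib.Helper15.PSpI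
  Cfsg.Agent.Lib.Helper15.PSub Cfsg.Agent.Lib.Helper15.PDec Cfsg.Agent.Lib.Helper15.PSpJ
  Cfsg.Agent.Lib.Helper6.OrtS Cfsg.Agent.Lib.Helper6 Cfsg.Agent.Lib.Helper6.SimAut
  Cfsg.Agent.Lib.Helper6.Inndiag Cfsg.Agent.Lib.Helper6.OmegaAut
  Cfsg.Agent.Lib.Helper16.GraphSplitOrth

section mat
variable {F : Type*} [Field F] [Fintype F] [DecidableEq F] {ι : Type} [Fintype ι] [DecidableEq ι]
  (Q : QuadraticForm F (ι → F))

/-- the determinant of a similarity commuting with a fixed point free isometry of odd order -/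
theorem det_of_comm_fpf (h2 : (2 : F) ≠ 0) (hQ : (polarBilin Q).Nondegenerate) (n : ℕ)
    (hcard : Fintype.card ι = 2 * n) (M C : Matrix ι ι F) (r : ℕ) (hodd : Odd r)
    (hMr : M ^ r = 1) (hMQ : ∀ v, Q (M *ᵥ v) = Q v) (lam : F) (hlam : lam ≠ 0)
    (hCQ : ∀ v, Q (C *ᵥ v) = lam * Q v) (hCM : C * M = M * C)
    (hfpf : ∀ v, M *ᵥ v = v → v = 0) : C.det = lam ^ n := by
  obtain ⟨G, hG⟩ : ∃ G : Matrix ι ι F, G = LinearMap.BilinForm.toMatrix' (polarBilin Q) :=
    ⟨_, rfl⟩
  have hGsymm : Gᵀ = G := by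
    ext i j
    rw [Matrix.transpose_apply, hG, LinearMap.BilinForm.toMatrix'_apply,
      LinearMap.BilinForm.toMatrix'_apply]
    exact pB_symm Q _ _
  have hGdet : G.det ≠ 0 := by
    rw [hG]
    exact Matrix.nondegenerate_iff_det_ne_zero.mp
      (LinearMap.BilinForm.nondegenerate_toMatrix'_iff.mpr hQ)
  have hMG : Mᵀ * G * M = G := by
    have h1 : LinearMap.BilinForm.comp (polarBilin Q) (Matrix.toLin' M) (Matrix.toLin' M) =
        polarBilin Q := by
      refine LinearMap.ext fun x => LinearMap.ext fun y => ?_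
      rw [LinearMap.BilinForm.comp_apply, Matrix.toLin'_apply, Matrix.toLin'_apply]
      exact iso_of_Q Q (Matrix.toLin' M) (fun v => by rw [Matrix.toLin'_apply]; exact hMQ v) x y
        |> fun h => by simpa [Matrix.toLin'_apply] using h
    have h3 := congrArg LinearMap.BilinForm.toMatrix' h1
    rw [LinearMap.BilinForm.toMatrix'_comp, LinearMap.toMatrix'_toLin'] at h3
    rw [hG]
    exact h3
  have hCG : Cᵀ * G * C = lam • G := by
    have h1 : LinearMap.BilinForm.comp (polarBilin Q) (Matrix.toLin' C) (Matrix.toLin' C) =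
        lam • polarBilin Q := by
      refine LinearMap.ext fun x => LinearMap.ext fun y => ?_
      rw [LinearMap.BilinForm.comp_apply, Matrix.toLin'_apply, Matrix.toLin'_apply,
        LinearMap.smul_apply, LinearMap.smul_apply, pB_apply, pB_apply, smul_eq_mul]
      unfold polar
      rw [← Matrix.mulVec_add, hCQ, hCQ, hCQ]
      ring
    have h3 := congrArg LinearMap.BilinForm.toMatrix' h1
    rw [LinearMap.BilinForm.toMatrix'_comp, LinearMap.toMatrix'_toLin', map_smul] at h3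
    rw [hG]
    exact h3
  obtain ⟨S, hS⟩ : ∃ S : Matrix ι ι F, S = G * M - Mᵀ * G := ⟨_, rfl⟩
  have hSskew : Sᵀ = -S := by
    rw [hS, Matrix.transpose_sub, Matrix.transpose_mul, Matrix.transpose_mul,
      Matrix.transpose_transpose, hGsymm]
    abel
  have halt : ∀ x : ι → F, x ⬝ᵥ (S *ᵥ x) = 0 := by
    intro x
    have h1 : x ⬝ᵥ (S *ᵥ x) = x ⬝ᵥ (Sᵀ *ᵥ x) := by
      rw [Matrix.dotProduct_mulVec, ← Matrix.mulVec_transpose, dotProduct_comm]
    rw [hSskew, Matrix.neg_mulVec, dotProduct_neg] at h1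
    have h3 : (2 : F) * (x ⬝ᵥ (S *ᵥ x)) = 0 := by linear_combination h1
    exact (mul_eq_zero.mp h3).resolve_left h2
  have hCS : Cᵀ * S * C = lam • S := by
    have hCMt : Cᵀ * Mᵀ = Mᵀ * Cᵀ := by
      rw [← Matrix.transpose_mul, ← Matrix.transpose_mul, hCM]
    rw [hS, Matrix.mul_sub, Matrix.sub_mul, smul_sub]
    congr 1
    · calc Cᵀ * (G * M) * C = Cᵀ * G * (M * C) := by simp only [Matrix.mul_assoc]
        _ = (Cᵀ * G * C) * M := by rw [← hCM]; simp only [Matrix.mul_assoc]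
        _ = lam • (G * M) := by rw [hCG, Matrix.smul_mul]
    · calc Cᵀ * (Mᵀ * G) * C = (Cᵀ * Mᵀ) * G * C := by simp only [Matrix.mul_assoc]
        _ = Mᵀ * (Cᵀ * G * C) := by rw [hCMt]; simp only [Matrix.mul_assoc]
        _ = lam • (Mᵀ * G) := by rw [hCG, Matrix.mul_smul]
  have hMdet : M.det ≠ 0 := by
    intro h0
    have := congrArg Matrix.det hMr
    rw [Matrix.det_pow, h0, Matrix.det_one, zero_pow hodd.pos.ne'] at this
    exact zero_ne_one this
  have hSfac : S = Mᵀ * G * (M * M - 1) := by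
    rw [hS, Matrix.mul_sub, Matrix.mul_one, ← Matrix.mul_assoc, hMG]
  have hMMdet : (M * M - 1).det ≠ 0 := by
    intro h0
    obtain ⟨v, hv0, hv⟩ := Matrix.exists_mulVec_eq_zero_iff.mpr h0
    apply hv0
    apply hfpf
    rw [Matrix.sub_mulVec, Matrix.one_mulVec, sub_eq_zero, ← Matrix.mulVec_mulVec] at hv
    have := fix_of_sq_fix (Matrix.toLin' M) r hodd (by
      rw [← Matrix.toLin'_pow, hMr, Matrix.toLin'_one]; rfl) v (by
      rw [Matrix.toLin'_apply, Matrix.toLin'_apply]; exact hv)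
    rw [Matrix.toLin'_apply] at this
    exact this
  have hSdet : S.det ≠ 0 := by
    rw [hSfac, Matrix.det_mul, Matrix.det_mul, Matrix.det_transpose]
    exact mul_ne_zero (mul_ne_zero hMdet hGdet) hMMdet
  exact det_of_alt_sim n hcard S C hSdet halt lam hlam hCS

/-- **a centralizing class preserving similarity of every multiplier** -/
theorem exists_centralizing (p : ℕ) [Fact p.Prime] [CharP F p] (r : ℕ) [hr : Fact r.Prime]
    (hrp : r ≠ p) (hr2 : r ≠ 2) (h2 : (2 : F) ≠ 0) (hQ : (polarBilin Q).Nondegenerate)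
    (v₀ : ι → F) (hv₀ : Q v₀ ≠ 0) (n : ℕ) (hcard : Fintype.card ι = 2 * n)
    (g : ↥(GO Q)) (hgiso : ∀ v, Q (((g.1 : GL ι F) : Matrix ι ι F) *ᵥ v) = Q v)
    (hgr : ((g.1 : GL ι F) : Matrix ι ι F) ^ r = 1) (lam : Fˣ) :
    ∃ k : ↥(GO Q), k ∈ KK Q v₀ hv₀ n ∧ mulr Q k = lam ∧ k * g = g * k := by
  classical
  have hodd : Odd r := hr.out.odd_of_ne_two hr2
  have hr0 : (r : F) ≠ 0 := ne_zero_of_ne' p r hr.out hrp
  obtain ⟨M, hM⟩ : ∃ M : Matrix ι ι F, M = ((g.1 : GL ι F) : Matrix ι ι F) := ⟨_, rfl⟩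
  rw [← hM] at hgiso hgr
  obtain ⟨y, hy⟩ : ∃ y : (ι → F) →ₗ[F] (ι → F), y = Matrix.toLin' M := ⟨_, rfl⟩
  have hyv : ∀ v, y v = M *ᵥ v := by
    intro v; rw [hy, Matrix.toLin'_apply]
  have hQy : ∀ v, Q (y v) = Q v := by
    intro v; rw [hyv]; exact hgiso v
  have hyr : y ^ r = 1 := by
    rw [hy, ← Matrix.toLin'_pow, hgr, Matrix.toLin'_one]; rfl
  have hQt := nondegOn_top_of Q hQ
  have hfr : finrank F (ι → F) = 2 * n := by rw [Module.finrank_fintype_fun_eq_card, hcard]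
  obtain ⟨c, hcQ, hcy⟩ :=
    exists_sim_comm p r hrp hr2 h2 Q hQt y hQy hyr n hfr lam (Units.ne_zero _)
  obtain ⟨C, hC⟩ : ∃ C : Matrix ι ι F, C = LinearMap.toMatrix' c := ⟨_, rfl⟩
  have hCv : ∀ v, C *ᵥ v = c v := by
    intro v; rw [hC, LinearMap.toMatrix'_mulVec]
  have hspec : ∀ v, Q (C *ᵥ v) = (lam : F) * Q v := by
    intro v; rw [hCv]; exact hcQ v
  have hCM : C * M = M * C := by
    apply matrix_ext_mulVec
    intro x
    rw [← Matrix.mulVec_mulVec, ← Matrix.mulVec_mulVec, hCv, ← hyv, hcy, hyv, hCv]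
  obtain ⟨k₀, hk₀⟩ : ∃ k₀ : ↥(GO Q), k₀ = simOfMatrix Q hQ C lam hspec := ⟨_, rfl⟩
  have hk₀mulr : mulr Q k₀ = lam := by
    rw [hk₀]; exact mulr_simOfMatrix Q hQ C lam hspec v₀ hv₀
  have hk₀val : ((k₀.1 : GL ι F) : Matrix ι ι F) = C := by
    rw [hk₀]; exact simOfMatrix_val Q hQ C lam hspec
  have hk₀g : k₀ * g = g * k₀ := by
    apply Subtype.ext
    apply Units.ext
    change ((k₀.1 : GL ι F) : Matrix ι ι F) * ((g.1 : GL ι F) : Matrix ι ι F) =
      ((g.1 : GL ι F) : Matrix ι ι F) * ((k₀.1 : GL ι F) : Matrix ι ι F)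
    rw [hk₀val, ← hM, hCM]
  by_cases hE : Module.End.eigenspace y 1 = ⊥
  · refine ⟨k₀, ?_, hk₀mulr, hk₀g⟩
    rw [mem_KK_iff, hk₀val, hk₀mulr]
    apply det_of_comm_fpf Q h2 hQ n hcard M C r hodd hgr hgiso lam (Units.ne_zero _) hspec hCM
    intro v hv
    have : v ∈ Module.End.eigenspace y 1 := by
      rw [Module.End.mem_eigenspace_iff, one_smul, hyv]
      exact hv
    rw [hE] at this
    exact (mem_bot F).mp this
  · -- a nonsingular fixed vector
    have hiso := iso_of_Q Q y hQy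
    have hinj : Function.Injective y :=
      injective_of_pow_eq_smul y r 1 one_ne_zero (by rw [hyr, one_smul]) hr.out.ne_zero
    have htop : (⊤ : Submodule F (ι → F)).map y = ⊤ :=
      map_eq_of_invt y hinj ⊤ (by
        rw [Module.End.mem_invtSubmodule_iff_map_le]
        exact le_top)
    have hFn := nondegOn_fixed y hiso r hr0 hyr ⊤ htop hQt
    obtain ⟨u, huE, hQu⟩ : ∃ u ∈ Module.End.eigenspace y 1, Q u ≠ 0 := by
      by_contra hcon
      push Not at hcon
      obtain ⟨w, hw, hw0⟩ := Submodule.exists_mem_ne_zero_of_ne_bot hE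
      apply hw0
      apply hFn w ⟨mem_top, hw⟩
      intro v hv
      rw [pB_apply]
      unfold polar
      rw [hcon _ (add_mem hw hv.2), hcon _ hw, hcon _ hv.2]
      ring
    have hMu : M *ᵥ u = u := by
      rw [Module.End.mem_eigenspace_iff, one_smul, hyv] at huE
      exact huE
    obtain ⟨ρ, hρ⟩ := exists_of_list' Q [u] (by
      intro w hw
      rw [List.mem_singleton] at hw
      rw [hw]; exact hQu)
    rw [List.map_cons, List.map_nil, List.prod_cons, List.prod_nil, mul_one] at hρ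
    obtain ⟨ρ', hρ'⟩ : ∃ ρ' : ↥(GO Q), ρ' = ⟨ρ.1, isometryGroup_le_GO Q ρ.2⟩ := ⟨_, rfl⟩
    have hρ'val : ((ρ'.1 : GL ι F) : Matrix ι ι F) = Cfsg.reflectionMatrix ⇑Q u := by
      rw [hρ']; exact hρ
    have hρ'mulr : mulr Q ρ' = 1 := by
      apply mulr_of_isometry Q v₀ hv₀
      rw [hρ']; exact ρ.2
    have hρ'g : ρ' * g = g * ρ' := by
      apply Subtype.ext
      apply Units.ext
      change ((ρ'.1 : GL ι F) : Matrix ι ι F) * ((g.1 : GL ι F) : Matrix ι ι F) =
        ((g.1 : GL ι F) : Matrix ι ι F) * ((ρ'.1 : GL ι F) : Matrix ι ι F)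
      rw [hρ'val, sim_mul_refl Q g u hQu, ← hM, hMu]
    rcases dHom_cases Q hQ v₀ hv₀ n hcard k₀ with hd | hd
    · refine ⟨k₀, ?_, hk₀mulr, hk₀g⟩
      unfold KK
      rw [MonoidHom.mem_ker]
      exact hd
    · have hdρ : dHom Q v₀ hv₀ n ρ' = -1 := by
        rcases dHom_cases Q hQ v₀ hv₀ n hcard ρ' with h | h
        · exfalso
          rw [dHom_eq_one_iff, hρ'val, det_reflectionMatrix Q h2 u hQu, hρ'mulr, Units.val_one,
            one_pow] at h
          have : (2 : F) = 0 := by linear_combination -h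
          exact h2 this
        · exact h
      refine ⟨ρ' * k₀, ?_, ?_, ?_⟩
      · unfold KK
        rw [MonoidHom.mem_ker, map_mul, hd, hdρ]
        simp
      · have := (mulrHom Q v₀ hv₀).map_mul ρ' k₀
        rw [mulrHom_apply, mulrHom_apply, mulrHom_apply] at this
        rw [this, hρ'mulr, hk₀mulr, one_mul]
      · rw [mul_assoc, hk₀g, ← mul_assoc, hρ'g, mul_assoc]

end mat

end Cfsg.Agent.Lib.Helper16.SemiClassOrth
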