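import Mathlib
import Cfsg.Agent.Lib.Helper16.SemiClassOrth10
import Cfsg.Agent.Lib.Helper16.SemiClassOrth4

/-!
# Special isometries outside `Ω` centralizing an isometry of odd prime order
-/

set_option autoImplicit false
set_option linter.unusedSectionVars false
set_option linter.unusedVariables false
set_option linter.style.haveILetI false

namespace Cfsg.Agent.Lib.Helper16.SemiClassOrth

open Module Submodule Matrix QuadraticMap Cfsg.Agent.Lib.Helper15 Cfsg.Agent.Lib.Helper15.PSpI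
  Cfsg.Agent.Lib.Helper15.PSub Cfsg.Agent.Lib.Helper15.PDec Cfsg.Agent.Lib.Helper15.PSpJ
  Cfsg.Agent.Lib.Helper6.OrtS Cfsg.Agent.Lib.Helper6 Cfsg.Agent.Lib.Helper6.SimAut
  Cfsg.Agent.Lib.Helper6.Inndiag Cfsg.Agent.Lib.Helper6.OmegaAut
  Cfsg.Agent.Lib.Helper16.GraphSplitOrth Cfsg.Agent.Lib.Helper14.OrthEven

/-- a form with a sign in positive dimension takes every nonzero value -/
theorem exists_value_of_hasSign {F : Type*} [Field F] [Fintype F] {X : Type*} (Qf : X → F)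
    (n : ℕ) (hn : 1 ≤ n) (ε : ℤ) (hε : ε = 1 ∨ ε = -1) (hs : HasSign Qf n ε) (c : F)
    (hc : c ≠ 0) : ∃ v, Qf v = c := by
  classical
  by_contra hcon
  push Not at hcon
  have hempty : IsEmpty {v : X // Qf v = c} := ⟨fun v => hcon v.1 v.2⟩
  have h1 := hs c
  unfold cnt at h1
  rw [Nat.card_of_isEmpty, if_neg hc] at h1
  have hq : (2 : ℤ) ≤ (Fintype.card F : ℤ) := by exact_mod_cast Fintype.one_lt_card
  have hqn : (2 : ℤ) ≤ (Fintype.card F : ℤ) ^ n := by
    calc (2 : ℤ) ≤ (Fintype.card F : ℤ) ^ 1 := by rw [pow_one]; exact hq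
      _ ≤ (Fintype.card F : ℤ) ^ n := pow_le_pow_right₀ (by linarith) hn
  have h3 : (Fintype.card F : ℤ) ^ n * ((Fintype.card F : ℤ) ^ n - ε) = 0 := by
    have : (Fintype.card F : ℤ) ^ (2 * n) = (Fintype.card F : ℤ) ^ n * (Fintype.card F : ℤ) ^ n := by
      rw [two_mul, pow_add]
    rw [this] at h1
    push_cast at h1
    linear_combination -h1
  rcases mul_eq_zero.mp h3 with h | h
  · linarith
  · rcases hε with rfl | rfl <;> linarith

section mat
variable {F : Type*} [Field F] [Fintype F] [DecidableEq F] {ι : Type} [Fintype ι] [DecidableEq ι]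
  (Q : QuadraticForm F (ι → F))

set_option maxHeartbeats 1600000 in
/-- **a special isometry outside `Ω` centralizing an isometry of odd prime order** -/
theorem exists_centralizing_spinor (p : ℕ) [Fact p.Prime] [CharP F p] (r : ℕ)
    [hr : Fact r.Prime] (hrp : r ≠ p) (hr2 : r ≠ 2) (hoddq : Odd (Fintype.card F))
    (h2 : (2 : F) ≠ 0) (hQ : (polarBilin Q).Nondegenerate) (n : ℕ) (hn : 1 ≤ n)
    (hcard : Fintype.card ι = 2 * n)
    (hfree : ∀ (Z : Submodule F (ι → F)), NondegOn (polarBilin Q) Z → ∀ k : ℕ, 1 ≤ k →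
      finrank F Z = 2 * k → ∀ ε : ℤ, SgnOn Q Z ε → ∀ a t : ℕ, 1 ≤ a → Odd t →
      ((Fintype.card F : ℕ) : ℤ) ^ k - ε = 2 ^ a * t →
      ∀ s : ↥(Cfsg.isometryGroup F ⇑Q),
        (∀ z ∈ Z, ((s.1 : GL ι F) : Matrix ι ι F) *ᵥ z ∈ Z) →
        (∀ v, (∀ z ∈ Z, polar ⇑Q z v = 0) → ((s.1 : GL ι F) : Matrix ι ι F) *ᵥ v = v) →
        (∀ z ∈ Z, (((s.1 : GL ι F) : Matrix ι ι F) ^ (2 ^ (a - 1))) *ᵥ z = -z) →
        s ∉ Cfsg.Omega F ⇑Q)
    (g : ↥(GO Q)) (hgiso : ∀ v, Q (((g.1 : GL ι F) : Matrix ι ι F) *ᵥ v) = Q v)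
    (hgr : ((g.1 : GL ι F) : Matrix ι ι F) ^ r = 1) :
    ∃ (s : ↥(GO Q)) (hs : s.1 ∈ Cfsg.isometryGroup F ⇑Q),
      ((s.1 : GL ι F) : Matrix ι ι F).det = 1 ∧
      (⟨s.1, hs⟩ : ↥(Cfsg.isometryGroup F ⇑Q)) ∉ Cfsg.Omega F ⇑Q ∧ s * g = g * s := by
  classical
  have hodd : Odd r := hr.out.odd_of_ne_two hr2
  have hr0 : (r : F) ≠ 0 := ne_zero_of_ne' p r hr.out hrp
  obtain ⟨M, hM⟩ : ∃ M : Matrix ι ι F, M = ((g.1 : GL ι F) : Matrix ι ι F) := ⟨_, rfl⟩
  rw [← hM] at hgiso hgr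
  obtain ⟨y, hy⟩ : ∃ y : (ι → F) →ₗ[F] (ι → F), y = Matrix.toLin' M := ⟨_, rfl⟩
  have hyv : ∀ v, y v = M *ᵥ v := by
    intro v; rw [hy, Matrix.toLin'_apply]
  have hQy : ∀ v, Q (y v) = Q v := by
    intro v; rw [hyv]; exact hgiso v
  have hyr : y ^ r = 1 := by
    rw [hy, ← Matrix.toLin'_pow, hgr, Matrix.toLin'_one]; rfl
  have hQt := nondegOn_top_of Q hQ
  have hfr : finrank F (ι → F) = 2 * n := by rw [Module.finrank_fintype_fun_eq_card, hcard]
  have hS := pB_symm Q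
  have hiso := iso_of_Q Q y hQy
  have hinj : Function.Injective y :=
    injective_of_pow_eq_smul y r 1 one_ne_zero (by rw [hyr, one_smul]) hr.out.ne_zero
  have htop : (⊤ : Submodule F (ι → F)).map y = ⊤ :=
    map_eq_of_invt y hinj ⊤ (by
      rw [Module.End.mem_invtSubmodule_iff_map_le]
      exact le_top)
  have h2card : 2 ≤ Fintype.card ι := by rw [hcard]; omega
  by_cases hE : Module.End.eigenspace y 1 = ⊥
  · -- fixed point free
    have hV : (⊤ : Submodule F (ι → F)) ≠ ⊥ := by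
      intro h
      have := congrArg (fun W : Submodule F (ι → F) => finrank F W) h
      simp only [finrank_top, finrank_bot] at this
      omega
    obtain ⟨Z, k, a, t, ε, s, hZn, hk, hZdim, hsgn, ha, ht, hN, hsQ, hsy, hsZ, hsZ', hspow⟩ :=
      exists_spin_comm p r hrp hr2 hoddq h2 Q hQt y hQy hyr hE hV
    obtain ⟨S, hS'⟩ : ∃ S : Matrix ι ι F, S = LinearMap.toMatrix' s := ⟨_, rfl⟩
    have hSv : ∀ v, S *ᵥ v = s v := by
      intro v; rw [hS', LinearMap.toMatrix'_mulVec]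
    have hspec : ∀ v, Q (S *ᵥ v) = ((1 : Fˣ) : F) * Q v := by
      intro v; rw [hSv, Units.val_one, one_mul]; exact hsQ v
    have hSM : S * M = M * S := by
      apply matrix_ext_mulVec
      intro x
      rw [← Matrix.mulVec_mulVec, ← Matrix.mulVec_mulVec, hSv, ← hyv, hsy, hyv, hSv]
    obtain ⟨k₀, hk₀⟩ : ∃ k₀ : ↥(GO Q), k₀ = simOfMatrix Q hQ S 1 hspec := ⟨_, rfl⟩
    have hk₀val : ((k₀.1 : GL ι F) : Matrix ι ι F) = S := by
      rw [hk₀]; exact simOfMatrix_val Q hQ S 1 hspec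
    have hk₀iso : k₀.1 ∈ Cfsg.isometryGroup F ⇑Q := by
      rw [OmegaAut.mem_isometryGroup_iff]
      intro u
      rw [hk₀val, hSv]
      exact hsQ u
    have hk₀g : k₀ * g = g * k₀ := by
      apply Subtype.ext
      apply Units.ext
      change ((k₀.1 : GL ι F) : Matrix ι ι F) * ((g.1 : GL ι F) : Matrix ι ι F) =
        ((g.1 : GL ι F) : Matrix ι ι F) * ((k₀.1 : GL ι F) : Matrix ι ι F)
      rw [hk₀val, ← hM, hSM]
    have hfpf : ∀ v, M *ᵥ v = v → v = 0 := by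
      intro v hv
      have : v ∈ Module.End.eigenspace y 1 := by
        rw [Module.End.mem_eigenspace_iff, one_smul, hyv]
        exact hv
      rw [hE] at this
      exact (mem_bot F).mp this
    have hdet : S.det = 1 := by
      have := det_of_comm_fpf Q h2 hQ n hcard M S r hodd hgr hgiso 1 one_ne_zero
        (fun v => by rw [one_mul, hSv]; exact hsQ v) hSM hfpf
      rw [this, one_pow]
    have hSpow : ∀ (j : ℕ) (v : ι → F), (S ^ j) *ᵥ v = (s ^ j) v := by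
      intro j v
      rw [← Matrix.toLin'_apply, Matrix.toLin'_pow, hS', Matrix.toLin'_toMatrix']
    refine ⟨k₀, hk₀iso, by rw [hk₀val]; exact hdet, ?_, hk₀g⟩
    apply hfree Z hZn k hk hZdim ε hsgn a t ha ht hN ⟨k₀.1, hk₀iso⟩
    · intro z hz
      change ((k₀.1 : GL ι F) : Matrix ι ι F) *ᵥ z ∈ Z
      rw [hk₀val, hSv]
      exact hsZ z hz
    · intro v hv
      change ((k₀.1 : GL ι F) : Matrix ι ι F) *ᵥ v = v
      rw [hk₀val, hSv]
      exact hsZ' v hv
    · intro z hz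
      change (((k₀.1 : GL ι F) : Matrix ι ι F) ^ (2 ^ (a - 1))) *ᵥ z = -z
      rw [hk₀val, hSpow]
      exact hspow z hz
  · -- nonsingular fixed vectors of all norms
    have hFn := nondegOn_fixed y hiso r hr0 hyr ⊤ htop hQt
    obtain ⟨hMx, hMn, hME, hdim', -, -⟩ :=
      movPart_props' hS y hiso r hr.out.ne_zero hr0 hyr ⊤ htop hQt
    have heven := even_finrank_of_fpf hS y hiso r hodd hyr _ hMx hMn hME
    rw [finrank_top, hfr] at hdim'
    obtain ⟨n₂, hn₂⟩ := heven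
    have hFdim : finrank F ↥((⊤ : Submodule F (ι → F)) ⊓ Module.End.eigenspace y 1) =
        2 * (n - n₂) := by omega
    have hFne : (⊤ : Submodule F (ι → F)) ⊓ Module.End.eigenspace y 1 ≠ ⊥ := by
      rw [top_inf_eq]; exact hE
    have hn₁ : 1 ≤ n - n₂ := by
      rcases Nat.eq_zero_or_pos (n - n₂) with h0 | h
      · exfalso
        rw [h0, mul_zero] at hFdim
        exact hFne (Submodule.finrank_eq_zero.mp hFdim)
      · exact h
    obtain ⟨ε, hε, hsgn⟩ : ∃ ε : ℤ, (ε = 1 ∨ ε = -1) ∧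
        HasSign (⇑(Qr Q ((⊤ : Submodule F (ι → F)) ⊓ Module.End.eigenspace y 1))) (n - n₂) ε := by
      rcases sign_cases (Qr Q _) (nondegenerate_Qr Q hFn) (n - n₂) hn₁ hFdim with ⟨h, -⟩ | ⟨h, -⟩
      · exact ⟨1, Or.inl rfl, h⟩
      · exact ⟨-1, Or.inr rfl, h⟩
    have hchar : ringChar F ≠ 2 := by
      intro h
      apply h2
      have := ringChar.spec F 2
      have h3 : ((2 : ℕ) : F) = 0 := by rw [this, h]
      exact_mod_cast h3
    obtain ⟨lam, hlam⟩ := FiniteField.exists_nonsquare hchar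
    have hlam0 : lam ≠ 0 := by
      rintro rfl
      exact hlam ⟨0, (mul_zero 0).symm⟩
    obtain ⟨u, hu⟩ := exists_value_of_hasSign _ (n - n₂) hn₁ ε hε hsgn 1 one_ne_zero
    obtain ⟨u', hu'⟩ := exists_value_of_hasSign _ (n - n₂) hn₁ ε hε hsgn lam hlam0
    rw [Qr_apply] at hu hu'
    have hMu : M *ᵥ (u : ι → F) = u := by
      rw [← hyv]; exact fix_of_mem_inf y u.2
    have hMu' : M *ᵥ (u' : ι → F) = u' := by
      rw [← hyv]; exact fix_of_mem_inf y u'.2
    have hQu : Q (u : ι → F) ≠ 0 := by rw [hu]; exact one_ne_zero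
    have hQu' : Q (u' : ι → F) ≠ 0 := by rw [hu']; exact hlam0
    have hvs : ∀ v ∈ [(u : ι → F), (u' : ι → F)], Q v ≠ 0 := by
      intro v hv
      simp only [List.mem_cons, List.not_mem_nil, or_false] at hv
      rcases hv with rfl | rfl
      · exact hQu
      · exact hQu'
    obtain ⟨k₀, hk₀⟩ := exists_of_list' Q [(u : ι → F), (u' : ι → F)] hvs
    have hk₀' : ((k₀.1 : GL ι F) : Matrix ι ι F) =
        Cfsg.reflectionMatrix ⇑Q u * Cfsg.reflectionMatrix ⇑Q u' := by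
      rw [hk₀]
      simp
    refine ⟨⟨k₀.1, isometryGroup_le_GO Q k₀.2⟩, k₀.2, ?_, ?_, ?_⟩
    · change ((k₀.1 : GL ι F) : Matrix ι ι F).det = 1
      rw [hk₀', Matrix.det_mul, det_reflectionMatrix Q h2 u hQu, det_reflectionMatrix Q h2 u' hQu']
      ring
    · change k₀ ∉ Cfsg.Omega F ⇑Q
      rw [mem_Omega_iff_list' Q h2 hQ h2card k₀ _ hvs hk₀]
      rintro ⟨-, hsq⟩
      apply hlam
      simpa [hu, hu'] using hsq
    · apply Subtype.ext
      apply Units.ext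
      change ((k₀.1 : GL ι F) : Matrix ι ι F) * ((g.1 : GL ι F) : Matrix ι ι F) =
        ((g.1 : GL ι F) : Matrix ι ι F) * ((k₀.1 : GL ι F) : Matrix ι ι F)
      rw [hk₀', ← hM]
      have c1 : M * Cfsg.reflectionMatrix ⇑Q u = Cfsg.reflectionMatrix ⇑Q u * M := by
        rw [hM, sim_mul_refl Q g u hQu, ← hM, hMu]
      have c2 : M * Cfsg.reflectionMatrix ⇑Q u' = Cfsg.reflectionMatrix ⇑Q u' * M := by
        rw [hM, sim_mul_refl Q g u' hQu', ← hM, hMu']
      calc Cfsg.reflectionMatrix ⇑Q u * Cfsg.reflectionMatrix ⇑Q u' * M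
          = Cfsg.reflectionMatrix ⇑Q u * (Cfsg.reflectionMatrix ⇑Q u' * M) := Matrix.mul_assoc _ _ _
        _ = Cfsg.reflectionMatrix ⇑Q u * (M * Cfsg.reflectionMatrix ⇑Q u') := by rw [c2]
        _ = (Cfsg.reflectionMatrix ⇑Q u * M) * Cfsg.reflectionMatrix ⇑Q u' :=
          (Matrix.mul_assoc _ _ _).symm
        _ = (M * Cfsg.reflectionMatrix ⇑Q u) * Cfsg.reflectionMatrix ⇑Q u' := by rw [c1]
        _ = M * (Cfsg.reflectionMatrix ⇑Q u * Cfsg.reflectionMatrix ⇑Q u') := Matrix.mul_assoc _ _ _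

end mat

end Cfsg.Agent.Lib.Helper16.SemiClassOrth
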