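import Mathlib
import Cfsg.Agent.Lib.Helper16.SemiClassOrth4

/-!
# Class fusion of semisimple elements of odd prime order: the general statement
-/

set_option autoImplicit false
set_option linter.unusedSectionVars false
set_option linter.unusedVariables false
set_option linter.style.haveILetI false

namespace Cfsg.Agent.Lib.Helper16.SemiClassOrth

open Module Submodule Matrix QuadraticMap Cfsg.Agent.Lib.Helper15 Cfsg.Agent.Lib.Helper15.PSpI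
  Cfsg.Agent.Lib.Helper15.PSub Cfsg.Agent.Lib.Helper15.PDec Cfsg.Agent.Lib.Helper15.PSpJ
  Cfsg.Agent.Lib.Helper6.OrtS Cfsg.Agent.Lib.Helper6 Cfsg.Agent.Lib.Helper6.SimAut
  Cfsg.Agent.Lib.Helper6.Inndiag Cfsg.Agent.Lib.Helper6.OmegaAut
  Cfsg.Agent.Lib.Helper16.GraphSplitOrth

theorem gen_two_aux : ∀ z : Multiplicative (ZMod 2), (∀ w, z ≠ w * w) →
    ∀ t : Multiplicative (ZMod 2), ∃ j : Fin 4, t = z ^ (j : ℕ) := by
  decide

theorem gen_four_aux : ∀ z : Multiplicative (ZMod 4), (∀ w, z ≠ w * w) →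
    ∀ t : Multiplicative (ZMod 4), ∃ j : Fin 4, t = z ^ (j : ℕ) := by
  decide

theorem gen_two (z : Multiplicative (ZMod 2)) (hz : ∀ w, z ≠ w * w) :
    ∀ t : Multiplicative (ZMod 2), ∃ j : ℕ, t = z ^ j := by
  intro t
  obtain ⟨j, hj⟩ := gen_two_aux z hz t
  exact ⟨j, hj⟩

theorem gen_four (z : Multiplicative (ZMod 4)) (hz : ∀ w, z ≠ w * w) :
    ∀ t : Multiplicative (ZMod 4), ∃ j : ℕ, t = z ^ j := by
  intro t
  obtain ⟨j, hj⟩ := gen_four_aux z hz t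
  exact ⟨j, hj⟩

section mat
variable {F : Type*} [Field F] [Fintype F] [DecidableEq F] {ι : Type} [Fintype ι] [DecidableEq ι]
  (Q : QuadraticForm F (ι → F))

/-- an automorphism of odd order induced by a similarity is induced by an isometry of the same
order -/
theorem exists_normalized (h2 : (2 : F) ≠ 0) (hQ : (polarBilin Q).Nondegenerate)
    (h5 : 5 ≤ Fintype.card ι) (T : HypTriple Q) (v₀ : ι → F) (hv₀ : Q v₀ ≠ 0) (r : ℕ)
    (hodd : Odd r) (g₀ : ↥(GO Q)) (hx : (fGO Q g₀) ^ r = 1) :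
    ∃ g : ↥(GO Q), fGO Q g = fGO Q g₀ ∧
      (∀ v, Q (((g.1 : GL ι F) : Matrix ι ι F) *ᵥ v) = Q v) ∧
      ((g.1 : GL ι F) : Matrix ι ι F) ^ r = 1 := by
  rw [← map_pow, fGO_eq_one_iff Q h2 hQ h5 T] at hx
  obtain ⟨c₀, hc₀⟩ := hx
  obtain ⟨t, ht⟩ := hodd
  obtain ⟨lam₀, hlam₀⟩ : ∃ lam₀ : Fˣ, lam₀ = mulr Q g₀ := ⟨_, rfl⟩
  have hpow : lam₀ ^ r = c₀ * c₀ := by
    have h1 : g₀ ^ r = ⟨scalGL c₀, scalGL_mem_GO Q c₀⟩ := Subtype.ext hc₀
    have h3 := (mulrHom Q v₀ hv₀).map_pow g₀ r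
    rw [mulrHom_apply, mulrHom_apply, h1, mulr_scalGL Q v₀ hv₀] at h3
    rw [hlam₀, ← h3]
  obtain ⟨ν, hν⟩ : ∃ ν : Fˣ, ν = c₀ * (lam₀⁻¹) ^ t := ⟨_, rfl⟩
  have hνsq : ν * ν = lam₀ := by
    rw [hν]
    calc c₀ * lam₀⁻¹ ^ t * (c₀ * lam₀⁻¹ ^ t) = (c₀ * c₀) * (lam₀⁻¹ ^ t * lam₀⁻¹ ^ t) := by
          rw [mul_mul_mul_comm]
      _ = lam₀ ^ r * (lam₀⁻¹) ^ (2 * t) := by rw [hpow, ← pow_add, two_mul]
      _ = lam₀ := by
          rw [ht, pow_succ, inv_pow, mul_assoc, mul_comm lam₀, ← mul_assoc, mul_inv_cancel, one_mul]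
  obtain ⟨z, hz⟩ : ∃ z : Fˣ, z = (ν⁻¹) ^ r * c₀ := ⟨_, rfl⟩
  have hzz : z * z = 1 := by
    rw [hz]
    calc ν⁻¹ ^ r * c₀ * (ν⁻¹ ^ r * c₀) = (ν⁻¹ ^ r * ν⁻¹ ^ r) * (c₀ * c₀) := by
          rw [mul_mul_mul_comm]
      _ = ((ν * ν)⁻¹) ^ r * lam₀ ^ r := by rw [← hpow, ← mul_pow, mul_inv]
      _ = 1 := by rw [hνsq, inv_pow, inv_mul_cancel]
  have hzr : z ^ r = z := by
    rw [ht, pow_succ, pow_mul, pow_two, hzz, one_pow, one_mul]
  obtain ⟨w, hw⟩ : ∃ w : Fˣ, w = z * ν⁻¹ := ⟨_, rfl⟩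
  have hww : w * w * lam₀ = 1 := by
    rw [hw, ← hνsq]
    calc z * ν⁻¹ * (z * ν⁻¹) * (ν * ν) = (z * z) * (ν⁻¹ * ν) * (ν⁻¹ * ν) := by
          simp only [mul_comm, mul_left_comm, mul_assoc]
      _ = 1 := by rw [hzz, inv_mul_cancel, one_mul, one_mul]
  have hwr : w ^ r * c₀ = 1 := by
    rw [hw, mul_pow, hzr, mul_assoc, ← hz, hzz]
  obtain ⟨g, hg⟩ : ∃ g : ↥(GO Q), g = ⟨scalGL w, scalGL_mem_GO Q w⟩ * g₀ := ⟨_, rfl⟩
  have hgval : ((g.1 : GL ι F) : Matrix ι ι F) = (w : F) • ((g₀.1 : GL ι F) : Matrix ι ι F) := by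
    rw [hg]
    change ((scalGL w : GL ι F) : Matrix ι ι F) * ((g₀.1 : GL ι F) : Matrix ι ι F) = _
    rw [scalGL_val, Matrix.smul_mul, Matrix.one_mul]
  refine ⟨g, ?_, ?_, ?_⟩
  · rw [hg, map_mul, fGO_scalGL Q hQ h5, one_mul]
  · intro v
    rw [hgval, Matrix.smul_mulVec, QuadraticMap.map_smul, mulr_spec, ← hlam₀, smul_eq_mul]
    have h3 : ((w : F) * (w : F)) * (lam₀ : F) = 1 := by
      rw [← Units.val_mul, ← Units.val_mul, hww, Units.val_one]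
    linear_combination (Q v) * h3
  · rw [hgval, smul_pow]
    have h1 : ((g₀.1 : GL ι F) : Matrix ι ι F) ^ r = (c₀ : F) • (1 : Matrix ι ι F) := by
      have := congrArg Units.val hc₀
      rw [scalGL_val] at this
      rw [← this, Subgroup.coe_pow, Units.val_pow_eq_pow_val]
    rw [h1, smul_smul, ← Units.val_pow_eq_pow_val, ← Units.val_mul, hwr, Units.val_one, one_smul]

set_option maxHeartbeats 1600000 in
/-- **class fusion**, provided `Inndiag / Inn` is cyclic of order `2` or `4` -/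
theorem class_fusion (h2 : (2 : F) ≠ 0) (hQ : (polarBilin Q).Nondegenerate)
    (h5 : 5 ≤ Fintype.card ι) (T : HypTriple Q) (v₀ : ι → F) (hv₀ : Q v₀ ≠ 0) (n : ℕ)
    (hcard : Fintype.card ι = 2 * n)
    (p : ℕ) [Fact p.Prime] [CharP F p] (r : ℕ) [hr : Fact r.Prime] (hrp : r ≠ p) (hr2 : r ≠ 2)
    (N : ℕ) (hN : N = 2 ∨ N = 4)
    (φ : ↥((KK Q v₀ hv₀ n).map (fGO Q)) →* Multiplicative (ZMod N))
    (hφs : Function.Surjective φ)
    (hφk : φ.ker = (Cfsg.Inn (Cfsg.POmega F ⇑Q)).subgroupOf ((KK Q v₀ hv₀ n).map (fGO Q)))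
    (x : MulAut (Cfsg.POmega F ⇑Q)) (hx : x ∈ Cfsg.pgoAut F ⇑Q) (hxr : x ^ r = 1) :
    (∀ y : MulAut (Cfsg.POmega F ⇑Q),
      (Cfsg.IsConjUnder (Cfsg.Inn (Cfsg.POmega F ⇑Q)) x y ↔
        Cfsg.IsConjUnder ((KK Q v₀ hv₀ n).map (fGO Q)) x y) ∧
      (Cfsg.IsConjUnder (Cfsg.psoAut F ⇑Q) x y ↔
        Cfsg.IsConjUnder ((KK Q v₀ hv₀ n).map (fGO Q)) x y)) ∧
    (∀ y : MulAut (Cfsg.POmega F ⇑Q),
      Cfsg.IsConjUnder (Cfsg.poAut F ⇑Q) x y ↔ Cfsg.IsConjUnder (Cfsg.pgoAut F ⇑Q) x y) := by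
  classical
  have hodd : Odd r := hr.out.odd_of_ne_two hr2
  rw [pgoAut_eq_range] at hx
  obtain ⟨g₀, rfl⟩ := hx
  obtain ⟨g, hgx, hgiso, hgr⟩ := exists_normalized Q h2 hQ h5 T v₀ hv₀ r hodd g₀ hxr
  rw [← hgx]
  have hchar : ringChar F ≠ 2 := by
    intro h
    apply h2
    have := ringChar.spec F 2
    have h3 : ((2 : ℕ) : F) = 0 := by rw [this, h]
    exact_mod_cast h3
  obtain ⟨lam, hlam⟩ := FiniteField.exists_nonsquare hchar
  have hlam0 : lam ≠ 0 := by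
    rintro rfl
    exact hlam ⟨0, (mul_zero 0).symm⟩
  obtain ⟨k, hkK, hkm, hkg⟩ := exists_centralizing Q p r hrp hr2 h2 hQ v₀ hv₀ n hcard g hgiso hgr
    (Units.mk0 lam hlam0)
  have hcomm : fGO Q k * fGO Q g = fGO Q g * fGO Q k := by
    rw [← map_mul, ← map_mul, hkg]
  have hkmem : fGO Q k ∈ (KK Q v₀ hv₀ n).map (fGO Q) := ⟨k, hkK, rfl⟩
  -- the class of `k` is not a square
  have hnsq : ∀ w : Multiplicative (ZMod N), φ ⟨fGO Q k, hkmem⟩ ≠ w * w := by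
    intro w hw
    obtain ⟨⟨h', k', hk'K, rfl⟩, rfl⟩ := hφs w
    have h1 : (⟨fGO Q k, hkmem⟩ : ↥((KK Q v₀ hv₀ n).map (fGO Q))) *
        (⟨fGO Q k', ⟨k', hk'K, rfl⟩⟩ * ⟨fGO Q k', ⟨k', hk'K, rfl⟩⟩)⁻¹ ∈ φ.ker := by
      rw [MonoidHom.mem_ker, map_mul, map_inv, map_mul, hw, mul_inv_cancel]
    rw [hφk, Subgroup.mem_subgroupOf] at h1
    have h3 : fGO Q (k * (k' * k')⁻¹) ∈ Cfsg.Inn (Cfsg.POmega F ⇑Q) := by
      rw [map_mul, map_inv, map_mul]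
      exact h1
    have h4 := Inn_le_psoAut Q h3
    rw [fGO_mem_psoAut_iff Q h2 hQ h5 T v₀ hv₀ n hcard, theta'_eq_one_iff] at h4
    obtain ⟨⟨s, hs⟩, -⟩ := h4
    have h6 : mulr Q (k * (k' * k')⁻¹) =
        Units.mk0 lam hlam0 * (mulr Q k' * mulr Q k')⁻¹ := by
      rw [← mulrHom_apply Q v₀ hv₀, map_mul, map_inv, map_mul, mulrHom_apply, mulrHom_apply, hkm]
    rw [h6] at hs
    apply hlam
    refine ⟨s * (mulr Q k' : F), ?_⟩
    have h7 : ((Units.mk0 lam hlam0 * (mulr Q k' * mulr Q k')⁻¹ : Fˣ) : F) =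
        lam * ((mulr Q k' : F) * (mulr Q k' : F))⁻¹ := by
      rw [Units.val_mul, Units.val_mk0, Units.val_inv_eq_inv_val, Units.val_mul]
    rw [h7] at hs
    have h8 : (mulr Q k' : F) ≠ 0 := Units.ne_zero _
    field_simp at hs
    linear_combination hs
  have hgen : ∀ t : Multiplicative (ZMod N), ∃ j : ℕ, t = φ ⟨fGO Q k, hkmem⟩ ^ j := by
    rcases hN with rfl | rfl
    · exact gen_two _ hnsq
    · exact gen_four _ hnsq
  have key : ∀ h ∈ (KK Q v₀ hv₀ n).map (fGO Q), ∃ c : MulAut (Cfsg.POmega F ⇑Q),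
      c * fGO Q g = fGO Q g * c ∧ h * c⁻¹ ∈ Cfsg.Inn (Cfsg.POmega F ⇑Q) := by
    intro h hh
    obtain ⟨j, hj⟩ := hgen (φ ⟨h, hh⟩)
    refine ⟨fGO Q k ^ j, ?_, ?_⟩
    · exact ((Commute.pow_left (show Commute (fGO Q k) (fGO Q g) from hcomm) j)).eq
    · have h1 : (⟨h, hh⟩ : ↥((KK Q v₀ hv₀ n).map (fGO Q))) * (⟨fGO Q k, hkmem⟩ ^ j)⁻¹ ∈ φ.ker := by
        rw [MonoidHom.mem_ker, map_mul, map_inv, map_pow, hj, mul_inv_cancel]
      rw [hφk, Subgroup.mem_subgroupOf] at h1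
      exact h1
  have conj_eq : ∀ h c : MulAut (Cfsg.POmega F ⇑Q), c * fGO Q g = fGO Q g * c →
      h * fGO Q g * h⁻¹ = (h * c⁻¹) * fGO Q g * (h * c⁻¹)⁻¹ := by
    intro h c hc
    have h1 : c⁻¹ * fGO Q g * c = fGO Q g := by
      rw [mul_assoc, ← hc, ← mul_assoc, inv_mul_cancel, one_mul]
    calc h * fGO Q g * h⁻¹ = h * (c⁻¹ * fGO Q g * c) * h⁻¹ := by rw [h1]
      _ = (h * c⁻¹) * fGO Q g * (h * c⁻¹)⁻¹ := by group
  have hInnKK := Inn_le_map Q h2 hQ h5 v₀ hv₀ n hcard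
  have part1 : ∀ y : MulAut (Cfsg.POmega F ⇑Q),
      Cfsg.IsConjUnder (Cfsg.Inn (Cfsg.POmega F ⇑Q)) (fGO Q g) y ↔
        Cfsg.IsConjUnder ((KK Q v₀ hv₀ n).map (fGO Q)) (fGO Q g) y := by
    intro y
    constructor
    · rintro ⟨h, hh, rfl⟩
      exact ⟨h, hInnKK hh, rfl⟩
    · rintro ⟨h, hh, rfl⟩
      obtain ⟨c, hc, hhc⟩ := key h hh
      exact ⟨h * c⁻¹, hhc, conj_eq h c hc⟩
  refine ⟨fun y => ⟨part1 y, ?_⟩, ?_⟩
  · constructor
    · rintro ⟨h, hh, rfl⟩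
      exact ⟨h, psoAut_le_map Q h2 hQ h5 v₀ hv₀ n hcard hh, rfl⟩
    · intro hy
      obtain ⟨h, hh, rfl⟩ := (part1 y).mpr hy
      exact ⟨h, Inn_le_psoAut Q hh, rfl⟩
  · intro y
    have hpo : Cfsg.poAut F ⇑Q =
        ((Cfsg.isometryGroup F ⇑Q).subgroupOf (GO Q)).map (fGO Q) := by
      rw [poAut_eq, img_eq_map Q _ (isometryGroup_le_GO Q)]
    constructor
    · rintro ⟨h, hh, rfl⟩
      refine ⟨h, ?_, rfl⟩
      rw [hpo] at hh
      rw [pgoAut_eq_range]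
      obtain ⟨k₁, -, rfl⟩ := hh
      exact ⟨k₁, rfl⟩
    · rintro ⟨h, hh, rfl⟩
      rw [pgoAut_eq_range] at hh
      obtain ⟨k₁, rfl⟩ := hh
      -- adjust the multiplier
      have hadj : ∃ k₂ : ↥(GO Q), fGO Q k₂ * fGO Q g = fGO Q g * fGO Q k₂ ∧
          IsSquare ((mulr Q (k₁ * k₂⁻¹) : Fˣ) : F) := by
        by_cases hsq : IsSquare ((mulr Q k₁ : Fˣ) : F)
        · refine ⟨1, ?_, ?_⟩
          · rw [map_one, one_mul, mul_one]
          · rw [inv_one, mul_one]; exact hsq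
        · refine ⟨k, hcomm, ?_⟩
          have h6 : mulr Q (k₁ * k⁻¹) = mulr Q k₁ * (Units.mk0 lam hlam0)⁻¹ := by
            rw [← mulrHom_apply Q v₀ hv₀, map_mul, map_inv, mulrHom_apply, mulrHom_apply, hkm]
          rw [h6, Units.val_mul, Units.val_inv_eq_inv_val, Units.val_mk0]
          have hμ0 : ((mulr Q k₁ : Fˣ) : F) ≠ 0 := Units.ne_zero _
          have hq1 : quadraticChar F ((mulr Q k₁ : Fˣ) : F) = -1 :=
            (quadraticChar_neg_one_iff_not_isSquare).mpr hsq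
          have hq2 : quadraticChar F lam = -1 :=
            (quadraticChar_neg_one_iff_not_isSquare).mpr hlam
          have hq3 : quadraticChar F (((mulr Q k₁ : Fˣ) : F) * lam) = 1 := by
            rw [map_mul, hq1, hq2]
            norm_num
          obtain ⟨s, hs⟩ := (quadraticChar_one_iff_isSquare (mul_ne_zero hμ0 hlam0)).mp hq3
          refine ⟨s * lam⁻¹, ?_⟩
          field_simp
          linear_combination hs
      obtain ⟨k₂, hk₂c, ⟨s, hs⟩⟩ := hadj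
      have hs0 : s ≠ 0 := by
        rintro rfl
        rw [mul_zero] at hs
        exact Units.ne_zero _ hs
      obtain ⟨k₃, hk₃⟩ : ∃ k₃ : ↥(GO Q), k₃ =
          ⟨scalGL (Units.mk0 s hs0)⁻¹, scalGL_mem_GO Q _⟩ * (k₁ * k₂⁻¹) := ⟨_, rfl⟩
      have hk₃f : fGO Q k₃ = fGO Q k₁ * (fGO Q k₂)⁻¹ := by
        rw [hk₃, map_mul, fGO_scalGL Q hQ h5, one_mul, map_mul, map_inv]
      have hk₃m : mulr Q k₃ = 1 := by
        have h6 := (mulrHom Q v₀ hv₀).map_mul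
          ⟨scalGL (Units.mk0 s hs0)⁻¹, scalGL_mem_GO Q _⟩ (k₁ * k₂⁻¹)
        rw [mulrHom_apply, mulrHom_apply, mulrHom_apply, mulr_scalGL Q v₀ hv₀, ← hk₃] at h6
        rw [h6]
        apply Units.ext
        rw [Units.val_mul, Units.val_mul, hs, Units.val_inv_eq_inv_val, Units.val_mk0,
          Units.val_one]
        field_simp
      have hk₃iso : k₃.1 ∈ Cfsg.isometryGroup F ⇑Q := by
        rw [OmegaAut.mem_isometryGroup_iff]
        intro u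
        rw [mulr_spec, hk₃m, Units.val_one, one_mul]
      refine ⟨fGO Q k₃, ?_, ?_⟩
      · rw [hpo]
        exact ⟨k₃, hk₃iso, rfl⟩
      · rw [hk₃f]
        exact conj_eq (fGO Q k₁) (fGO Q k₂) hk₂c

end mat

end Cfsg.Agent.Lib.Helper16.SemiClassOrth
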