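import Mathlib
import Cfsg.Agent.Lib.Helper16.SemiClassOrth5
import Cfsg.Agent.Lib.Helper16.GraphSplitOrth6

/-!
# Class fusion of semisimple elements of odd prime order in `PΩ⁻_{2m+2}(q)`: S2721
-/

set_option autoImplicit false
set_option linter.unusedSectionVars false
set_option linter.unusedVariables false
set_option linter.style.haveILetI false

namespace Cfsg.Agent.Lib.Helper16.SemiClassOrth

open Matrix QuadraticMap Cfsg.Agent.Lib.Helper6 Cfsg.Agent.Lib.Helper6.SimAut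
  Cfsg.Agent.Lib.Helper6.Inndiag Cfsg.Agent.Lib.Helper6.OmegaAut
  Cfsg.Agent.Lib.Helper6.ExtQuad Cfsg.Agent.Lib.Helper6.MinusDiag
  Cfsg.Agent.Lib.Helper6.LamDiag Cfsg.Agent.Lib.Helper6.AutOrt
  Cfsg.Agent.Lib.Helper15 Cfsg.Agent.S0294

theorem odd_card_of_char {F : Type*} [Field F] [Fintype F] (p : ℕ) [hp : Fact p.Prime] [CharP F p]
    (hp2 : p ≠ 2) : Odd (Fintype.card F) := by
  obtain ⟨⟨f, _⟩, -, hf⟩ := FiniteField.card F p
  rw [hf]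
  exact (hp.out.odd_of_ne_two hp2).pow

set_option maxHeartbeats 1600000 in
theorem main_minus {F : Type*} [Field F] [Fintype F] {p : ℕ} [Fact p.Prime] [CharP F p]
    (hp : p ≠ 2) {m : ℕ} (hm : 3 ≤ m) (a b : F)
    (hab : (∀ z₁ z₂ : F, z₁ ^ 2 + a * z₁ * z₂ + b * z₂ ^ 2 = 0 → z₁ = 0 ∧ z₂ = 0))
    (q : ((Fin m ⊕ Fin m) ⊕ Fin 2 → F) → F) (hq : q = ⇑(Qgen m (binForm a b)))
    (hneg : (∃ g : ↥(Cfsg.isometryGroup F q), g ∈ Cfsg.Omega F q ∧ ((g : Matrix.GeneralLinearGroup ((Fin m ⊕ Fin m) ⊕ Fin 2) F) : Matrix ((Fin m ⊕ Fin m) ⊕ Fin 2) ((Fin m ⊕ Fin m) ⊕ Fin 2) F) = -1) ↔ Fintype.card F ^ (m + 1) % 4 = 3)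
    (x : MulAut (Cfsg.POmega F q)) (hx : x ∈ Cfsg.pgoAut F q) {r : ℕ} (hr : r.Prime)
    (hro : Odd r) (hrp : r ≠ p) (hxr : orderOf x = r) :
    (∀ y : MulAut (Cfsg.POmega F q),
      (Cfsg.IsConjUnder (Cfsg.Inn (Cfsg.POmega F q)) x y ↔
        Cfsg.IsConjUnder (Subgroup.closure {β : MulAut (Cfsg.POmega F q) | ∃ g : GL ((Fin m ⊕ Fin m) ⊕ Fin 2) F,
          g ∈ Cfsg.Geo.quadSimilarityGroup (F := F) q ∧
          Cfsg.PreservesSingularClassesMinus m a b (g : Matrix ((Fin m ⊕ Fin m) ⊕ Fin 2) ((Fin m ⊕ Fin m) ⊕ Fin 2) F) ∧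
          Cfsg.IsInducedBySemilinearPOmega q g (RingEquiv.refl F) β}) x y) ∧
      (Cfsg.IsConjUnder (Cfsg.psoAut F q) x y ↔
        Cfsg.IsConjUnder (Subgroup.closure {β : MulAut (Cfsg.POmega F q) | ∃ g : GL ((Fin m ⊕ Fin m) ⊕ Fin 2) F,
          g ∈ Cfsg.Geo.quadSimilarityGroup (F := F) q ∧
          Cfsg.PreservesSingularClassesMinus m a b (g : Matrix ((Fin m ⊕ Fin m) ⊕ Fin 2) ((Fin m ⊕ Fin m) ⊕ Fin 2) F) ∧
          Cfsg.IsInducedBySemilinearPOmega q g (RingEquiv.refl F) β}) x y)) ∧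
    (∀ y : MulAut (Cfsg.POmega F q),
      Cfsg.IsConjUnder (Cfsg.poAut F q) x y ↔ Cfsg.IsConjUnder (Cfsg.pgoAut F q) x y) := by
  classical
  have hodd : Odd (Fintype.card F) := odd_card_of_char p hp
  have hcyc := Cfsg.Agent.S2729.main hodd hm a b hab q hq hneg
  subst hq
  have hQ := nondegenerate_Qgen m (binForm a b) (nondegenerate_binForm a b hab)
  have h2 : (2 : F) ≠ 0 := two_ne_zero_of_odd_card hodd
  have hcardι : Fintype.card ((Fin m ⊕ Fin m) ⊕ Fin 2) = 2 * (m + 1) := by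
    rw [Fintype.card_sum, Fintype.card_sum, Fintype.card_fin, Fintype.card_fin]; ring
  have h5 : 5 ≤ Fintype.card ((Fin m ⊕ Fin m) ⊕ Fin 2) := by rw [hcardι]; omega
  set T := minusTriple m (binForm a b) hm with hT
  have hv₀ := T_nonsingular _ T
  have hpsc : ∀ g : ↥(GO (Qgen m (binForm a b))),
      Cfsg.PreservesSingularClassesMinus m a b
        ((g.1 : GL ((Fin m ⊕ Fin m) ⊕ Fin 2) F) :
          Matrix ((Fin m ⊕ Fin m) ⊕ Fin 2) ((Fin m ⊕ Fin m) ⊕ Fin 2) F) ↔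
      g ∈ KK (Qgen m (binForm a b)) _ hv₀ (m + 1) := by
    intro g
    rw [mem_KK_iff]
    exact pscMinus_iff m a b hodd hab g.1 (mulr _ g) (Units.ne_zero _) (mulr_spec _ g)
  rw [inndiag_eq' (Qgen m (binForm a b)) (Cfsg.PreservesSingularClassesMinus m a b)
    (KK (Qgen m (binForm a b)) _ hv₀ (m + 1)) hpsc] at hcyc ⊢
  haveI : Fact r.Prime := ⟨hr⟩
  have hr2 : r ≠ 2 := by
    rintro rfl
    exact absurd hro (by decide)
  have hxr' : x ^ r = 1 := by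
    rw [← hxr]; exact pow_orderOf_eq_one x
  by_cases hc : Even m ∧ Fintype.card F % 4 = 3
  · obtain ⟨φ, hφs, hφk⟩ := hcyc.1 hc
    exact class_fusion (Qgen m (binForm a b)) h2 hQ h5 T _ hv₀ (m + 1) hcardι p r hrp hr2 4
      (Or.inr rfl) φ hφs hφk x hx hxr'
  · obtain ⟨φ, hφs, hφk⟩ := hcyc.2 hc
    exact class_fusion (Qgen m (binForm a b)) h2 hQ h5 T _ hv₀ (m + 1) hcardι p r hrp hr2 2
      (Or.inl rfl) φ hφs hφk x hx hxr'

end Cfsg.Agent.Lib.Helper16.SemiClassOrth
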