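import Mathlib
import Cfsg.Agent.Lib.Helper16.SemiClassOrth5

/-!
# Class fusion of semisimple elements of odd prime order: the non-cyclic case
-/

set_option autoImplicit false
set_option linter.unusedSectionVars false
set_option linter.unusedVariables false
set_option linter.style.haveILetI false

namespace Cfsg.Agent.Lib.Helper16.SemiClassOrth

open Module Submodule Matrix QuadraticMap Cfsg.Agent.Lib.Helper15 Cfsg.Agent.Lib.Helper15.PSpI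
  Cfsg.Agent.Lib.Helper15.PSub Cfsg.Agent.Lib.Helper15.PDec Cfsg.Agent.Lib.Helper15.PSpJ
  Cfsg.Agent.Lib.Helper6.OrtS Cfsg.Agent.Lib.Helper6 Cfsg.Agent.Lib.Helper6.SimAut
  Cfsg.Agent.Lib.Helper6.Inndiag Cfsg.Agent.Lib.Helper6.OmegaAut
  Cfsg.Agent.Lib.Helper16.GraphSplitOrth

section mat
variable {F : Type*} [Field F] [Fintype F] [DecidableEq F] {ι : Type} [Fintype ι] [DecidableEq ι]
  (Q : QuadraticForm F (ι → F))

set_option maxHeartbeats 1600000 in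
/-- **class fusion**, `-1 ∈ Ω`, provided the centralizer of an isometry of order `r` meets
`SO ∖ Ω` -/
theorem class_fusion_klein (h2 : (2 : F) ≠ 0) (hQ : (polarBilin Q).Nondegenerate)
    (h5 : 5 ≤ Fintype.card ι) (T : HypTriple Q) (v₀ : ι → F) (hv₀ : Q v₀ ≠ 0) (n : ℕ)
    (hcard : Fintype.card ι = 2 * n)
    (p : ℕ) [Fact p.Prime] [CharP F p] (r : ℕ) [hr : Fact r.Prime] (hrp : r ≠ p) (hr2 : r ≠ 2)
    (hneg : negIso Q ∈ Cfsg.Omega F ⇑Q)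
    (hspin : ∀ g : ↥(GO Q), (∀ v, Q (((g.1 : GL ι F) : Matrix ι ι F) *ᵥ v) = Q v) →
      ((g.1 : GL ι F) : Matrix ι ι F) ^ r = 1 →
      ∃ (s : ↥(GO Q)) (hs : s.1 ∈ Cfsg.isometryGroup F ⇑Q),
        ((s.1 : GL ι F) : Matrix ι ι F).det = 1 ∧
        (⟨s.1, hs⟩ : ↥(Cfsg.isometryGroup F ⇑Q)) ∉ Cfsg.Omega F ⇑Q ∧ s * g = g * s)
    (x : MulAut (Cfsg.POmega F ⇑Q)) (hx : x ∈ Cfsg.pgoAut F ⇑Q) (hxr : x ^ r = 1) :
    (∀ y : MulAut (Cfsg.POmega F ⇑Q),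
      (Cfsg.IsConjUnder (Cfsg.Inn (Cfsg.POmega F ⇑Q)) x y ↔
        Cfsg.IsConjUnder ((KK Q v₀ hv₀ n).map (fGO Q)) x y) ∧
      (Cfsg.IsConjUnder (Cfsg.psoAut F ⇑Q) x y ↔
        Cfsg.IsConjUnder ((KK Q v₀ hv₀ n).map (fGO Q)) x y)) ∧
    (∀ y : MulAut (Cfsg.POmega F ⇑Q),
      Cfsg.IsConjUnder (Cfsg.poAut F ⇑Q) x y ↔ Cfsg.IsConjUnder (Cfsg.pgoAut F ⇑Q) x y) := by
  classical
  have hodd : Odd r := hr.out.odd_of_ne_two hr2
  rw [pgoAut_eq_range] at hx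
  obtain ⟨g₀, rfl⟩ := hx
  obtain ⟨g, hgx, hgiso, hgr⟩ := exists_normalized Q h2 hQ h5 T v₀ hv₀ r hodd g₀ hxr
  rw [← hgx]
  have hchar : ringChar F ≠ 2 := by
    intro h
    apply h2
    have := ringChar.spec F 2
    have h3 : ((2 : ℕ) : F) = 0 := by rw [this, h]
    exact_mod_cast h3
  obtain ⟨lam, hlam⟩ := FiniteField.exists_nonsquare hchar
  have hlam0 : lam ≠ 0 := by
    rintro rfl
    exact hlam ⟨0, (mul_zero 0).symm⟩
  obtain ⟨k, hkK, hkm, hkg⟩ := exists_centralizing Q p r hrp hr2 h2 hQ v₀ hv₀ n hcard g hgiso hgr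
    (Units.mk0 lam hlam0)
  have hcomm : fGO Q k * fGO Q g = fGO Q g * fGO Q k := by
    rw [← map_mul, ← map_mul, hkg]
  obtain ⟨s, hsiso, hsdet, hsΩ, hsg⟩ := hspin g hgiso hgr
  have hscomm : fGO Q s * fGO Q g = fGO Q g * fGO Q s := by
    rw [← map_mul, ← map_mul, hsg]
  have hsmulr : mulr Q s = 1 := mulr_of_isometry Q v₀ hv₀ s hsiso
  have hsInn : fGO Q s ∉ Cfsg.Inn (Cfsg.POmega F ⇑Q) := by
    rw [fGO_mem_Inn_iff Q hQ h5 T hneg s hsiso]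
    exact hsΩ
  have hspso : fGO Q s ∈ Cfsg.psoAut F ⇑Q := by
    rw [fGO_mem_psoAut_iff Q h2 hQ h5 T v₀ hv₀ n hcard, theta'_eq_one_iff, hsmulr, Units.val_one,
      one_pow]
    exact ⟨⟨1, (mul_one 1).symm⟩, hsdet⟩
  have hidx : ((Cfsg.Inn (Cfsg.POmega F ⇑Q)).subgroupOf (Cfsg.psoAut F ⇑Q)).index = 2 :=
    relIndex_Inn_psoAut_of_mem Q h2 hQ h5 T hneg
  -- adjusting the multiplier by `k`
  have hadj : ∀ k₁ : ↥(GO Q), ∃ k₂ : ↥(GO Q), k₂ ∈ KK Q v₀ hv₀ n ∧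
      fGO Q k₂ * fGO Q g = fGO Q g * fGO Q k₂ ∧
      IsSquare ((mulr Q (k₁ * k₂⁻¹) : Fˣ) : F) := by
    intro k₁
    by_cases hsq : IsSquare ((mulr Q k₁ : Fˣ) : F)
    · refine ⟨1, Subgroup.one_mem _, ?_, ?_⟩
      · rw [map_one, one_mul, mul_one]
      · rw [inv_one, mul_one]; exact hsq
    · refine ⟨k, hkK, hcomm, ?_⟩
      have h6 : mulr Q (k₁ * k⁻¹) = mulr Q k₁ * (Units.mk0 lam hlam0)⁻¹ := by
        rw [← mulrHom_apply Q v₀ hv₀, map_mul, map_inv, mulrHom_apply, mulrHom_apply, hkm]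
      rw [h6, Units.val_mul, Units.val_inv_eq_inv_val, Units.val_mk0]
      have hμ0 : ((mulr Q k₁ : Fˣ) : F) ≠ 0 := Units.ne_zero _
      have hq1 : quadraticChar F ((mulr Q k₁ : Fˣ) : F) = -1 :=
        (quadraticChar_neg_one_iff_not_isSquare).mpr hsq
      have hq2 : quadraticChar F lam = -1 :=
        (quadraticChar_neg_one_iff_not_isSquare).mpr hlam
      have hq3 : quadraticChar F (((mulr Q k₁ : Fˣ) : F) * lam) = 1 := by
        rw [map_mul, hq1, hq2]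
        norm_num
      obtain ⟨s', hs'⟩ := (quadraticChar_one_iff_isSquare (mul_ne_zero hμ0 hlam0)).mp hq3
      refine ⟨s' * lam⁻¹, ?_⟩
      field_simp
      linear_combination hs'
  have key : ∀ h ∈ (KK Q v₀ hv₀ n).map (fGO Q), ∃ c : MulAut (Cfsg.POmega F ⇑Q),
      c * fGO Q g = fGO Q g * c ∧ h * c⁻¹ ∈ Cfsg.Inn (Cfsg.POmega F ⇑Q) := by
    rintro h ⟨k₁, hk₁K, rfl⟩
    obtain ⟨k₂, hk₂K, hk₂c, hk₂sq⟩ := hadj k₁
    have h12K : k₁ * k₂⁻¹ ∈ KK Q v₀ hv₀ n :=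
      Subgroup.mul_mem _ hk₁K (Subgroup.inv_mem _ hk₂K)
    have h12pso : fGO Q (k₁ * k₂⁻¹) ∈ Cfsg.psoAut F ⇑Q := by
      rw [fGO_mem_psoAut_iff Q h2 hQ h5 T v₀ hv₀ n hcard, theta'_eq_one_iff]
      exact ⟨hk₂sq, (mem_KK_iff Q v₀ hv₀ n _).mp h12K⟩
    by_cases hInn : fGO Q (k₁ * k₂⁻¹) ∈ Cfsg.Inn (Cfsg.POmega F ⇑Q)
    · refine ⟨fGO Q k₂, hk₂c, ?_⟩
      rw [← map_inv, ← map_mul]
      exact hInn
    · refine ⟨fGO Q s * fGO Q k₂, ?_, ?_⟩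
      · rw [mul_assoc, hk₂c, ← mul_assoc, hscomm, mul_assoc]
      · have h1 := (Subgroup.mul_mem_iff_of_index_two hidx
          (a := (⟨fGO Q (k₁ * k₂⁻¹), h12pso⟩ : ↥(Cfsg.psoAut F ⇑Q)))
          (b := (⟨fGO Q s, hspso⟩ : ↥(Cfsg.psoAut F ⇑Q))⁻¹)).mpr (by
            rw [Subgroup.inv_mem_iff, Subgroup.mem_subgroupOf, Subgroup.mem_subgroupOf]
            exact ⟨fun h => absurd h hInn, fun h => absurd h hsInn⟩)
        rw [Subgroup.mem_subgroupOf] at h1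
        have h3 : fGO Q k₁ * (fGO Q s * fGO Q k₂)⁻¹ =
            fGO Q (k₁ * k₂⁻¹) * (fGO Q s)⁻¹ := by
          rw [map_mul, map_inv, _root_.mul_inv_rev, ← mul_assoc]
        rw [h3]
        exact h1
  have conj_eq : ∀ h c : MulAut (Cfsg.POmega F ⇑Q), c * fGO Q g = fGO Q g * c →
      h * fGO Q g * h⁻¹ = (h * c⁻¹) * fGO Q g * (h * c⁻¹)⁻¹ := by
    intro h c hc
    have h1 : c⁻¹ * fGO Q g * c = fGO Q g := by
      rw [mul_assoc, ← hc, ← mul_assoc, inv_mul_cancel, one_mul]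
    calc h * fGO Q g * h⁻¹ = h * (c⁻¹ * fGO Q g * c) * h⁻¹ := by rw [h1]
      _ = (h * c⁻¹) * fGO Q g * (h * c⁻¹)⁻¹ := by group
  have hInnKK := Inn_le_map Q h2 hQ h5 v₀ hv₀ n hcard
  have part1 : ∀ y : MulAut (Cfsg.POmega F ⇑Q),
      Cfsg.IsConjUnder (Cfsg.Inn (Cfsg.POmega F ⇑Q)) (fGO Q g) y ↔
        Cfsg.IsConjUnder ((KK Q v₀ hv₀ n).map (fGO Q)) (fGO Q g) y := by
    intro y
    constructor
    · rintro ⟨h, hh, rfl⟩
      exact ⟨h, hInnKK hh, rfl⟩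
    · rintro ⟨h, hh, rfl⟩
      obtain ⟨c, hc, hhc⟩ := key h hh
      exact ⟨h * c⁻¹, hhc, conj_eq h c hc⟩
  refine ⟨fun y => ⟨part1 y, ?_⟩, ?_⟩
  · constructor
    · rintro ⟨h, hh, rfl⟩
      exact ⟨h, psoAut_le_map Q h2 hQ h5 v₀ hv₀ n hcard hh, rfl⟩
    · intro hy
      obtain ⟨h, hh, rfl⟩ := (part1 y).mpr hy
      exact ⟨h, Inn_le_psoAut Q hh, rfl⟩
  · intro y
    have hpo : Cfsg.poAut F ⇑Q =
        ((Cfsg.isometryGroup F ⇑Q).subgroupOf (GO Q)).map (fGO Q) := by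
      rw [poAut_eq, img_eq_map Q _ (isometryGroup_le_GO Q)]
    constructor
    · rintro ⟨h, hh, rfl⟩
      refine ⟨h, ?_, rfl⟩
      rw [hpo] at hh
      rw [pgoAut_eq_range]
      obtain ⟨k₁, -, rfl⟩ := hh
      exact ⟨k₁, rfl⟩
    · rintro ⟨h, hh, rfl⟩
      rw [pgoAut_eq_range] at hh
      obtain ⟨k₁, rfl⟩ := hh
      obtain ⟨k₂, -, hk₂c, ⟨s', hs'⟩⟩ := hadj k₁
      have hs0 : s' ≠ 0 := by
        rintro rfl
        rw [mul_zero] at hs'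
        exact Units.ne_zero _ hs'
      obtain ⟨k₃, hk₃⟩ : ∃ k₃ : ↥(GO Q), k₃ =
          ⟨scalGL (Units.mk0 s' hs0)⁻¹, scalGL_mem_GO Q _⟩ * (k₁ * k₂⁻¹) := ⟨_, rfl⟩
      have hk₃f : fGO Q k₃ = fGO Q k₁ * (fGO Q k₂)⁻¹ := by
        rw [hk₃, map_mul, fGO_scalGL Q hQ h5, one_mul, map_mul, map_inv]
      have hk₃m : mulr Q k₃ = 1 := by
        have h6 := (mulrHom Q v₀ hv₀).map_mul
          ⟨scalGL (Units.mk0 s' hs0)⁻¹, scalGL_mem_GO Q _⟩ (k₁ * k₂⁻¹)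
        rw [mulrHom_apply, mulrHom_apply, mulrHom_apply, mulr_scalGL Q v₀ hv₀, ← hk₃] at h6
        rw [h6]
        apply Units.ext
        rw [Units.val_mul, Units.val_mul, hs', Units.val_inv_eq_inv_val, Units.val_mk0,
          Units.val_one]
        field_simp
      have hk₃iso : k₃.1 ∈ Cfsg.isometryGroup F ⇑Q := by
        rw [OmegaAut.mem_isometryGroup_iff]
        intro u
        rw [mulr_spec, hk₃m, Units.val_one, one_mul]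
      refine ⟨fGO Q k₃, ?_, ?_⟩
      · rw [hpo]
        exact ⟨k₃, hk₃iso, rfl⟩
      · rw [hk₃f]
        exact conj_eq (fGO Q k₁) (fGO Q k₂) hk₂c

end mat

end Cfsg.Agent.Lib.Helper16.SemiClassOrth
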