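import Mathlib
import Cfsg.Agent.Lib.Helper16.SemiClassOrth7
import Cfsg.Agent.Lib.Helper16.SemiClassOrth11
import Cfsg.Agent.Lib.Helper16.SemiClassOrth6
import Cfsg.Agent.S2725

/-!
# Class fusion of semisimple elements of odd prime order in `PΩ⁺_{2m}(q)`: S2720
-/

set_option autoImplicit false
set_option linter.unusedSectionVars false
set_option linter.unusedVariables false
set_option linter.style.haveILetI false

namespace Cfsg.Agent.Lib.Helper16.SemiClassOrth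

open Matrix QuadraticMap Cfsg.Agent.Lib.Helper6 Cfsg.Agent.Lib.Helper6.OmegaAut
  Cfsg.Agent.Lib.Helper6.SimAut
  Cfsg.Agent.Lib.Helper6.Inndiag Cfsg.Agent.Lib.Helper6.SingClass Cfsg.Agent.Lib.Helper6.LamDiag
  Cfsg.Agent.Lib.Helper15 Cfsg.Agent.S0293 Cfsg.Agent.S2722 Cfsg.Agent.S2725
  Cfsg.Agent.Lib.Helper15.PSpI Cfsg.Agent.Lib.Helper6.OrtS

set_option maxHeartbeats 1600000 in
theorem main_plus {F : Type*} [Field F] [Fintype F] {p : ℕ} [Fact p.Prime] [CharP F p]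
    (hp : p ≠ 2) {m : ℕ} (hm : 4 ≤ m)
    (q : (Fin m ⊕ Fin m → F) → F) (hq : q = ⇑(QPlus F m))
    (hneg : (∃ g : ↥(Cfsg.isometryGroup F q), g ∈ Cfsg.Omega F q ∧ ((g : Matrix.GeneralLinearGroup (Fin m ⊕ Fin m) F) : Matrix (Fin m ⊕ Fin m) (Fin m ⊕ Fin m) F) = -1) ↔ Fintype.card F ^ m % 4 = 1)
    (hfree : ∀ [DecidableEq F] (Z : Submodule F (Fin m ⊕ Fin m → F)),
      NondegOn (polarBilin (QPlus F m)) Z → ∀ k : ℕ, 1 ≤ k →
      Module.finrank F Z = 2 * k → ∀ ε : ℤ, SgnOn (QPlus F m) Z ε → ∀ a t : ℕ, 1 ≤ a → Odd t →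
      ((Fintype.card F : ℕ) : ℤ) ^ k - ε = 2 ^ a * t →
      ∀ s : ↥(Cfsg.isometryGroup F ⇑(QPlus F m)),
        (∀ z ∈ Z, ((s.1 : GL (Fin m ⊕ Fin m) F) : Matrix (Fin m ⊕ Fin m) (Fin m ⊕ Fin m) F) *ᵥ z ∈ Z) →
        (∀ v, (∀ z ∈ Z, polar ⇑(QPlus F m) z v = 0) →
          ((s.1 : GL (Fin m ⊕ Fin m) F) : Matrix (Fin m ⊕ Fin m) (Fin m ⊕ Fin m) F) *ᵥ v = v) →
        (∀ z ∈ Z, (((s.1 : GL (Fin m ⊕ Fin m) F) : Matrix (Fin m ⊕ Fin m) (Fin m ⊕ Fin m) F) ^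
          (2 ^ (a - 1))) *ᵥ z = -z) →
        s ∉ Cfsg.Omega F ⇑(QPlus F m))
    (x : MulAut (Cfsg.POmega F q)) (hx : x ∈ Cfsg.pgoAut F q) {r : ℕ} (hr : r.Prime)
    (hro : Odd r) (hrp : r ≠ p) (hxr : orderOf x = r) :
    (∀ y : MulAut (Cfsg.POmega F q),
      (Cfsg.IsConjUnder (Cfsg.Inn (Cfsg.POmega F q)) x y ↔
        Cfsg.IsConjUnder (Subgroup.closure {β : MulAut (Cfsg.POmega F q) | ∃ g : GL (Fin m ⊕ Fin m) F,
          g ∈ Cfsg.Geo.quadSimilarityGroup (F := F) q ∧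
          Cfsg.PreservesSingularClasses q (g : Matrix (Fin m ⊕ Fin m) (Fin m ⊕ Fin m) F) ∧
          Cfsg.IsInducedBySemilinearPOmega q g (RingEquiv.refl F) β}) x y) ∧
      (Cfsg.IsConjUnder (Cfsg.psoAut F q) x y ↔
        Cfsg.IsConjUnder (Subgroup.closure {β : MulAut (Cfsg.POmega F q) | ∃ g : GL (Fin m ⊕ Fin m) F,
          g ∈ Cfsg.Geo.quadSimilarityGroup (F := F) q ∧
          Cfsg.PreservesSingularClasses q (g : Matrix (Fin m ⊕ Fin m) (Fin m ⊕ Fin m) F) ∧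
          Cfsg.IsInducedBySemilinearPOmega q g (RingEquiv.refl F) β}) x y)) ∧
    (∀ y : MulAut (Cfsg.POmega F q),
      Cfsg.IsConjUnder (Cfsg.poAut F q) x y ↔ Cfsg.IsConjUnder (Cfsg.pgoAut F q) x y) := by
  classical
  have hodd : Odd (Fintype.card F) := odd_card_of_char p hp
  have hcyc := Cfsg.Agent.S2725.main hodd hm q hq hneg
  subst hq
  have hQ := nondegenerate_QPlus F m
  have h2 : (2 : F) ≠ 0 := two_ne_zero_of_odd_card hodd
  have hcardι : Fintype.card (Fin m ⊕ Fin m) = 2 * m := by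
    rw [Fintype.card_sum, Fintype.card_fin]; ring
  have h5 : 5 ≤ Fintype.card (Fin m ⊕ Fin m) := by rw [hcardι]; omega
  have hiff := (exists_neg_iff (QPlus F m)).symm.trans hneg
  have hq : Fintype.card F % 4 = 1 ∨ Fintype.card F % 4 = 3 := by
    obtain ⟨k, hk⟩ := hodd
    omega
  have hchar : ringChar F ≠ 2 := by
    intro h
    apply h2
    have := ringChar.spec F 2
    have h3 : ((2 : ℕ) : F) = 0 := by rw [this, h]
    exact_mod_cast h3
  obtain ⟨lam, hlam⟩ := FiniteField.exists_nonsquare hchar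
  have hlam0 : lam ≠ 0 := by
    rintro rfl
    exact hlam ⟨0, (mul_zero 0).symm⟩
  set lamU : Fˣ := Units.mk0 lam hlam0 with hlamU
  set T := plusTriple F m (by omega) with hT
  have hv₀ := T_nonsingular _ T
  have hpsc : ∀ g : ↥(GO (QPlus F m)),
      Cfsg.PreservesSingularClasses ⇑(QPlus F m)
        ((g.1 : GL (Fin m ⊕ Fin m) F) : Matrix (Fin m ⊕ Fin m) (Fin m ⊕ Fin m) F) ↔
      g ∈ KK (QPlus F m) _ hv₀ m := by
    intro g
    rw [mem_KK_iff]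
    exact psc_iff_det (QPlus F m) h2 hQ m hcardι (U0 F m) (U0_TS F m) (U0_finrank F m)
      (plusSim m lamU) lam hlam (plusSim_spec m lamU) (plusSim_U0 F m lamU) (plusSim_det F m lamU)
      g.1 (mulr (QPlus F m) g) (Units.ne_zero _) (mulr_spec (QPlus F m) g)
  rw [inndiag_eq (QPlus F m) (KK (QPlus F m) _ hv₀ m) hpsc] at hcyc ⊢
  haveI : Fact r.Prime := ⟨hr⟩
  have hr2 : r ≠ 2 := by
    rintro rfl
    exact absurd hro (by decide)
  have hxr' : x ^ r = 1 := by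
    rw [← hxr]; exact pow_orderOf_eq_one x
  rcases Nat.even_or_odd m with hmeven | hmodd
  · -- the Klein case
    have hnegmem : negIso (QPlus F m) ∈ Cfsg.Omega F ⇑(QPlus F m) := by
      apply hiff.mpr
      obtain ⟨k, hk⟩ := hmeven
      have hsq : Fintype.card F ^ 2 % 4 = 1 := by
        rw [Nat.pow_mod]
        rcases hq with h | h <;> rw [h]
      rw [hk, ← two_mul, pow_mul, Nat.pow_mod, hsq, one_pow]
      rfl
    exact class_fusion_klein (QPlus F m) h2 hQ h5 T _ hv₀ m hcardι p r hrp hr2 hnegmem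
      (fun g hgiso hgr => exists_centralizing_spinor (QPlus F m) p r hrp hr2 hodd h2 hQ m
        (by omega) hcardι (fun Z => hfree Z) g hgiso hgr) x hx hxr'
  · rcases hq with hq1 | hq3
    · obtain ⟨φ, hφs, hφk⟩ := hcyc.2.1 ⟨hmodd, hq1⟩
      exact class_fusion (QPlus F m) h2 hQ h5 T _ hv₀ m hcardι p r hrp hr2 4
        (Or.inr rfl) φ hφs hφk x hx hxr'
    · obtain ⟨φ, hφs, hφk⟩ := hcyc.1 ⟨hmodd, hq3⟩
      exact class_fusion (QPlus F m) h2 hQ h5 T _ hv₀ m hcardι p r hrp hr2 2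
        (Or.inl rfl) φ hφs hφk x hx hxr'

end Cfsg.Agent.Lib.Helper16.SemiClassOrth
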