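import Mathlib
import Cfsg.Agent.Lib.Helper6.OrtS12
import Cfsg.Agent.Lib.Helper6.Spinor
import Cfsg.Agent.Lib.Helper14.OrthoTransfer

/-!
# Isometries acting freely as a `2`-group on a block are outside `Ω`

The spinor norm is detected by the sign of the permutation induced on a level set of the form.
-/

set_option autoImplicit false
set_option linter.unusedSectionVars false
set_option linter.unusedVariables false
set_option linter.style.haveILetI false

namespace Cfsg.Agent.Lib.Helper16.SemiClassOrth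

open Module Submodule Matrix QuadraticMap Cfsg.Agent.Lib.Helper15.PSpI
  Cfsg.Agent.Lib.Helper6.OrtS Cfsg.Agent.Lib.Helper6 Cfsg.Agent.Lib.Helper14
  Cfsg.Agent.Lib.Helper14.OrthEven

open Equiv Equiv.Perm in
/-- the sign of a permutation all of whose nontrivial cycles have length `2 ^ a` -/
theorem sign_of_free {X : Type*} [Fintype X] [DecidableEq X] (π : Equiv.Perm X) (a : ℕ)
    (ha : 1 ≤ a) (hN : π ^ (2 ^ a) = 1) (hfree : ∀ x, π x ≠ x → (π ^ (2 ^ (a - 1))) x ≠ x) :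
    Equiv.Perm.sign π = (-1) ^ (π.support.card / 2 ^ a) := by
  have hall : ∀ n ∈ π.cycleType, n = 2 ^ a := by
    intro n hn
    have hdvd : n ∣ 2 ^ a := (dvd_of_mem_cycleType hn).trans (orderOf_dvd_of_pow_eq_one hN)
    obtain ⟨b, hb, rfl⟩ := (Nat.dvd_prime_pow Nat.prime_two).mp hdvd
    rcases Nat.lt_or_ge b a with hlt | hge
    · exfalso
      rw [cycleType_def, Multiset.mem_map] at hn
      obtain ⟨c, hc, hcn⟩ := hn
      rw [Finset.mem_val, mem_cycleFactorsFinset_iff] at hc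
      obtain ⟨hcyc, hcσ⟩ := hc
      obtain ⟨x, hx⟩ := hcyc.nonempty_support
      have hcx : c = π.cycleOf x := by
        apply cycle_is_cycleOf hx
        rw [mem_cycleFactorsFinset_iff]
        exact ⟨hcyc, hcσ⟩
      have hord : orderOf c = 2 ^ b := by
        rw [hcyc.orderOf]
        exact hcn
      have hpow : c ^ (2 ^ (a - 1)) = 1 := by
        apply orderOf_dvd_iff_pow_eq_one.mp
        rw [hord]
        exact pow_dvd_pow 2 (by omega)
      have h1 : (π ^ (2 ^ (a - 1))) x = x := by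
        rw [← cycleOf_pow_apply_self, ← hcx, hpow]
        rfl
      have h2 : π x ≠ x := by
        rw [← hcσ x hx]
        exact mem_support.mp hx
      exact hfree x h2 h1
    · have : b = a := le_antisymm hb hge
      rw [this]
  have hrep : π.cycleType = Multiset.replicate (Multiset.card π.cycleType) (2 ^ a) :=
    Multiset.eq_replicate.mpr ⟨rfl, hall⟩
  rw [sign_of_cycleType, ← sum_cycleType]
  rw [hrep, Multiset.sum_replicate, Multiset.card_replicate, smul_eq_mul,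
    Nat.mul_div_cancel _ (by positivity)]
  rw [pow_add, pow_mul]
  have : ((-1 : ℤˣ) ^ Multiset.card π.cycleType) ^ 2 ^ a = 1 := by
    rw [← pow_mul, mul_comm, pow_mul]
    have : (-1 : ℤˣ) ^ 2 ^ a = 1 := by
      obtain ⟨a', rfl⟩ : ∃ a', a = a' + 1 := ⟨a - 1, by omega⟩
      rw [pow_succ', pow_mul]
      simp
    rw [this, one_pow]
  rw [this, one_mul]

/-- the arithmetic: `q σ = (A - ε) B (B (A + ε) - ε ε')` with `A - ε = 2^a t`, `t` odd -/
theorem odd_quot (q σ : ℕ) (hq : Odd q) (A B : ℤ) (hA : Odd A) (hB : Odd B) (ε ε' : ℤ)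
    (hε : ε = 1 ∨ ε = -1) (hε' : ε' = 1 ∨ ε' = -1) (a t : ℕ) (ha : 1 ≤ a) (ht : Odd t)
    (hN : A - ε = 2 ^ a * t)
    (hσ : (q : ℤ) * σ = (A * B) ^ 2 - ε * ε' * (A * B) - (B ^ 2 - ε' * B)) :
    Odd (σ / 2 ^ a) := by
  have hεε : ε * ε = 1 := by rcases hε with rfl | rfl <;> norm_num
  obtain ⟨W, hW⟩ : ∃ W : ℤ, W = (t : ℤ) * B * (B * (A + ε) - ε * ε') := ⟨_, rfl⟩
  have hfac : (q : ℤ) * σ = 2 ^ a * W := by
    rw [hσ, hW]
    have : A = 2 ^ a * t + ε := by linarith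
    rw [this]
    linear_combination (B ^ 2 - ε' * B) * hεε
  have hWodd : Odd W := by
    rw [hW]
    apply Odd.mul (Odd.mul (by exact_mod_cast ht) hB)
    have hAε : Even (A + ε) := by
      rcases hε with rfl | rfl
      · exact hA.add_odd odd_one
      · have : A + -1 = A - 1 := by ring
        rw [this]
        exact hA.sub_odd odd_one
    have hεε' : Odd (ε * ε') := by
      rcases hε with rfl | rfl <;> rcases hε' with rfl | rfl <;> decide
    exact (hAε.mul_left B).sub_odd hεε'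
  have hcop : IsCoprime ((2 : ℤ) ^ a) (q : ℤ) := by
    apply IsCoprime.pow_left
    have : IsCoprime ((2 : ℕ) : ℤ) (q : ℤ) :=
      Nat.isCoprime_iff_coprime.mpr (Nat.coprime_two_left.mpr hq)
    exact_mod_cast this
  have hdvd : ((2 : ℤ) ^ a) ∣ (σ : ℤ) := by
    apply hcop.dvd_of_dvd_mul_left
    exact ⟨W, hfac⟩
  have hdvdN : 2 ^ a ∣ σ := by
    have : (((2 ^ a : ℕ)) : ℤ) ∣ (σ : ℤ) := by
      push_cast
      exact hdvd
    exact Int.natCast_dvd_natCast.mp this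
  obtain ⟨σ', hσ'⟩ := hdvdN
  rw [hσ', Nat.mul_div_cancel_left _ (by positivity)]
  have h3 : (q : ℤ) * (σ' : ℤ) = W := by
    have h4 : (2 : ℤ) ^ a ≠ 0 := by positivity
    apply mul_left_cancel₀ h4
    rw [← hfac, hσ']
    push_cast
    ring
  have h5 : Odd ((q : ℤ) * (σ' : ℤ)) := by rw [h3]; exact hWodd
  have h6 := (Int.odd_mul.mp h5).2
  exact_mod_cast h6

section free

variable {F : Type*} [Field F] [Fintype F] [DecidableEq F] {ι : Type} [Fintype ι] [DecidableEq ι]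
  (Q : QuadraticForm F (ι → F))

set_option maxHeartbeats 1600000 in
/-- **an isometry acting on a block `Z` of dimension `2k` and sign `ε` with `s ^ (2 ^ (a-1)) = -1`
there, where `2 ^ a` is the exact power of `2` in `q ^ k - ε`, and trivially on `Z^⊥`, is not in
`Ω`** -/
theorem not_mem_Omega_of_free (hoddq : Odd (Fintype.card F)) (h2 : (2 : F) ≠ 0)
    (hQ : (polarBilin Q).Nondegenerate) (n : ℕ) (hcard : Fintype.card ι = 2 * n)
    (Z : Submodule F (ι → F)) (hZn : NondegOn (polarBilin Q) Z) (k : ℕ) (hk : 1 ≤ k)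
    (hZdim : finrank F Z = 2 * k) (ε : ℤ) (hsgn : SgnOn Q Z ε) (a t : ℕ) (ha : 1 ≤ a)
    (ht : Odd t) (hN : ((Fintype.card F : ℕ) : ℤ) ^ k - ε = 2 ^ a * t)
    (s : ↥(Cfsg.isometryGroup F ⇑Q))
    (hsZ : ∀ z ∈ Z, ((s.1 : GL ι F) : Matrix ι ι F) *ᵥ z ∈ Z)
    (hsZ' : ∀ v, (∀ z ∈ Z, polar ⇑Q z v = 0) → ((s.1 : GL ι F) : Matrix ι ι F) *ᵥ v = v)
    (hspow : ∀ z ∈ Z, (((s.1 : GL ι F) : Matrix ι ι F) ^ (2 ^ (a - 1))) *ᵥ z = -z) :
    s ∉ Cfsg.Omega F ⇑Q := by
  intro hmem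
  obtain ⟨S, hS⟩ : ∃ S : Matrix ι ι F, S = ((s.1 : GL ι F) : Matrix ι ι F) := ⟨_, rfl⟩
  rw [← hS] at hsZ hsZ' hspow
  have hsym := pB_symm Q
  have hQt := nondegOn_top_of Q hQ
  have hfr : finrank F (ι → F) = 2 * n := by rw [Module.finrank_fintype_fun_eq_card, hcard]
  -- the orthogonal complement
  obtain ⟨Z', hZ'⟩ : ∃ Z' : Submodule F (ι → F), Z' = perpIn (polarBilin Q) ⊤ Z := ⟨_, rfl⟩
  have hZ'n : NondegOn (polarBilin Q) Z' := by
    rw [hZ']; exact nondegOn_perpIn' hsym le_top hZn hQt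
  have hsup : Z ⊔ Z' = ⊤ := by rw [hZ']; exact sup_perpIn' hsym le_top hZn
  have horth : Orth (polarBilin Q) Z Z' := by rw [hZ']; exact orth_perpIn ⊤ Z
  have hdisj : Disjoint Z Z' := orth_disjoint hsym horth hZn
  have hdimsum : 2 * k + finrank F Z' = 2 * n := by
    have := finrank_perpIn' hsym (le_top : Z ≤ ⊤) hZn
    rw [← hZ', finrank_top, hfr, hZdim] at this
    exact this
  have hkn : k ≤ n := by omega
  have hdim' : finrank F Z' = 2 * (n - k) := by omega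
  -- the signs
  have hε : ε = 1 ∨ ε = -1 := by
    rcases sgnOn_cases Q hZn k hZdim with h | h
    · exact Or.inl (SgnOn.unique Q hsgn h)
    · exact Or.inr (SgnOn.unique Q hsgn h)
  obtain ⟨ε', hε', hsgn'⟩ : ∃ ε' : ℤ, (ε' = 1 ∨ ε' = -1) ∧ SgnOn Q Z' ε' := by
    rcases sgnOn_cases Q hZ'n (n - k) hdim' with h | h
    · exact ⟨1, Or.inl rfl, h⟩
    · exact ⟨-1, Or.inr rfl, h⟩
  have hsgnV : SgnOn Q (⊤ : Submodule F (ι → F)) (ε * ε') := by
    rw [← hsup]
    exact sgnOn_sup Q horth hdisj ⟨k, by omega⟩ ⟨n - k, by omega⟩ hsgn hsgn'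
  have hsignV : HasSign (fun v : ι → F => Q v) n (ε * ε') := by
    have h := SgnOn.to_hasSign Q (fun v : ι → F => Q v)
      (Submodule.topEquiv (R := F) (M := ι → F)).symm (fun x => rfl) hsgnV
    have hn2 : finrank F (⊤ : Submodule F (ι → F)) / 2 = n := by
      rw [finrank_top, hfr]; omega
    rw [hn2] at h
    exact h
  have hsignZ' : HasSign (fun w : Z' => Q (w : ι → F)) (n - k) ε' := by
    have h : HasSign (fun w : Z' => Q (w : ι → F)) (finrank F Z' / 2) ε' := hsgn'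
    have hn2 : finrank F Z' / 2 = n - k := by omega
    rw [hn2] at h
    exact h
  -- the actions
  have hfixZ' : ∀ z' ∈ Z', S *ᵥ z' = z' := by
    intro z' hz'
    exact hsZ' z' (fun z hz => horth z hz z' hz')
  have hpowZ' : ∀ j : ℕ, ∀ z' ∈ Z', (S ^ j) *ᵥ z' = z' := by
    intro j
    induction j with
    | zero => intro z' _; rw [pow_zero, Matrix.one_mulVec]
    | succ j ih =>
      intro z' hz'
      rw [pow_succ, ← Matrix.mulVec_mulVec, hfixZ' z' hz', ih z' hz']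
  have hdecomp : ∀ v : ι → F, ∃ z ∈ Z, ∃ z' ∈ Z', v = z + z' := by
    intro v
    have hv : v ∈ Z ⊔ Z' := by rw [hsup]; exact mem_top
    obtain ⟨z, hz, z', hz', rfl⟩ := mem_sup.mp hv
    exact ⟨z, hz, z', hz', rfl⟩
  have hzero_of : ∀ z : ι → F, -z = z → z = 0 := by
    intro z hz
    have h3 : (2 : F) • z = 0 := by
      rw [two_smul]
      nth_rewrite 1 [← hz]
      exact neg_add_cancel z
    exact (smul_eq_zero.mp h3).resolve_left h2
  have hmemZ' : ∀ v : ι → F, (S ^ (2 ^ (a - 1))) *ᵥ v = v → v ∈ Z' := by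
    intro v hv
    obtain ⟨z, hz, z', hz', rfl⟩ := hdecomp v
    rw [Matrix.mulVec_add, hspow z hz, hpowZ' _ z' hz'] at hv
    have h3 : -z = z := add_right_cancel hv
    rw [hzero_of z h3, zero_add]
    exact hz'
  have hpow_full : ∀ v : ι → F, (S ^ (2 ^ a)) *ᵥ v = v := by
    intro v
    obtain ⟨z, hz, z', hz', rfl⟩ := hdecomp v
    have h2a : 2 ^ a = 2 ^ (a - 1) + 2 ^ (a - 1) := by
      obtain ⟨a', rfl⟩ : ∃ a', a = a' + 1 := ⟨a - 1, by omega⟩
      rw [Nat.add_sub_cancel, pow_succ]; ring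
    rw [Matrix.mulVec_add, hpowZ' _ z' hz', h2a, pow_add, ← Matrix.mulVec_mulVec, hspow z hz,
      Matrix.mulVec_neg, hspow z hz, neg_neg]
  -- the permutation
  obtain ⟨π, hπ⟩ : ∃ π : Equiv.Perm {v : ι → F // Q v = 1}, π = levelPerm (⇑Q) 1 s := ⟨_, rfl⟩
  have hπ1 : ∀ x, (π x).1 = S *ᵥ x.1 := by
    intro x
    rw [hπ, hS]
    exact levelPerm_apply (⇑Q) 1 s x
  have hπpow : ∀ j : ℕ, ∀ x, ((π ^ j) x).1 = (S ^ j) *ᵥ x.1 := by
    intro j
    induction j with
    | zero => intro x; rw [pow_zero, pow_zero, Matrix.one_mulVec]; rfl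
    | succ j ih =>
      intro x
      rw [pow_succ', Equiv.Perm.mul_apply, hπ1, ih, pow_succ', Matrix.mulVec_mulVec]
  have hπN : π ^ (2 ^ a) = 1 := by
    apply Equiv.ext
    intro x
    apply Subtype.ext
    rw [hπpow, hpow_full]
    rfl
  have hπfree : ∀ x, π x ≠ x → (π ^ (2 ^ (a - 1))) x ≠ x := by
    intro x hx hcon
    apply hx
    apply Subtype.ext
    rw [hπ1]
    apply hfixZ'
    apply hmemZ'
    rw [← hπpow, hcon]
  have hsign := sign_of_free π a ha hπN hπfree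
  -- the counts
  have hfixcard : Nat.card {x : {v : ι → F // Q v = 1} // π x = x} =
      Nat.card {w : Z' // Q (w : ι → F) = 1} := by
    apply Nat.card_congr
    refine ⟨fun x => ⟨⟨x.1.1, ?_⟩, x.1.2⟩, fun w => ⟨⟨w.1.1, w.2⟩, ?_⟩, ?_, ?_⟩
    · apply hmemZ'
      rw [← hπpow]
      have h3 : ∀ j : ℕ, (π ^ j) x.1 = x.1 := by
        intro j
        induction j with
        | zero => rfl
        | succ j ih => rw [pow_succ, Equiv.Perm.mul_apply, x.2, ih]
      rw [h3]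
    · apply Subtype.ext
      rw [hπ1]
      exact hfixZ' _ w.1.2
    · intro x; rfl
    · intro w; rfl
  have hcount := card_support_add_card_fixed π
  have hV1 := hsignV 1
  have hZ1 := hsignZ' 1
  rw [if_neg one_ne_zero] at hV1 hZ1
  unfold cnt at hV1 hZ1
  rw [← hfixcard] at hZ1
  obtain ⟨σ, hσdef⟩ : ∃ σ : ℕ, σ = π.support.card := ⟨_, rfl⟩
  rw [← hσdef] at hcount hsign
  obtain ⟨q, hqdef⟩ : ∃ q : ℕ, q = Fintype.card F := ⟨_, rfl⟩
  rw [← hqdef] at hV1 hZ1 hN hoddq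
  have hAB : ((q : ℤ) ^ k) * (q : ℤ) ^ (n - k) = (q : ℤ) ^ n := by
    rw [← pow_add]
    congr 1
    omega
  have hcountZ : (σ : ℤ) + (Nat.card {x : {v : ι → F // Q v = 1} // π x = x} : ℤ) =
      (Nat.card {v : ι → F // Q v = 1} : ℤ) := by
    exact_mod_cast hcount
  have hσ : (q : ℤ) * σ = ((q : ℤ) ^ k * (q : ℤ) ^ (n - k)) ^ 2 -
      ε * ε' * ((q : ℤ) ^ k * (q : ℤ) ^ (n - k)) -
      (((q : ℤ) ^ (n - k)) ^ 2 - ε' * (q : ℤ) ^ (n - k)) := by
    rw [hAB]
    have e1 : (q : ℤ) ^ (2 * n) = ((q : ℤ) ^ n) ^ 2 := by rw [← pow_mul, mul_comm]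
    have e2 : (q : ℤ) ^ (2 * (n - k)) = ((q : ℤ) ^ (n - k)) ^ 2 := by rw [← pow_mul, mul_comm]
    rw [e1] at hV1
    rw [e2] at hZ1
    beta_reduce at hV1
    linear_combination (q : ℤ) * hcountZ + hV1 - hZ1
  have hqodd : Odd (q : ℤ) := by exact_mod_cast hoddq
  have hodd := odd_quot q σ hoddq ((q : ℤ) ^ k) ((q : ℤ) ^ (n - k)) hqodd.pow hqodd.pow ε ε'
    hε hε' a t ha ht hN hσ
  rw [hodd.neg_one_pow] at hsign
  -- `Ω` is in the kernel of the sign
  have hker : s ∈ (Equiv.Perm.sign.comp (levelPerm (⇑Q) 1)).ker :=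
    Abelianization.commutator_subset_ker _ hmem
  have h1 : Equiv.Perm.sign (levelPerm (⇑Q) 1 s) = 1 := hker
  rw [← hπ, hsign] at h1
  exact absurd h1 (by decide)

end free

end Cfsg.Agent.Lib.Helper16.SemiClassOrth
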