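import Mathlib
import Cfsg.Agent.Lib.Helper16.SemiClassOrth12
import Cfsg.Agent.Lib.Helper16.SpinFree

/-!
# Class fusion of semisimple elements of odd prime order in `PΩ⁺_{2m}(q)`: S2720, final form
-/

set_option autoImplicit false
set_option linter.unusedSectionVars false
set_option linter.unusedVariables false
set_option linter.style.haveILetI false

namespace Cfsg.Agent.Lib.Helper16.SemiClassOrth

open Matrix QuadraticMap Cfsg.Agent.Lib.Helper6 Cfsg.Agent.Lib.Helper15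
  Cfsg.Agent.Lib.Helper15.PSpI Cfsg.Agent.Lib.Helper6.OrtS

set_option maxHeartbeats 800000 in
theorem main_plus' {F : Type*} [Field F] [Fintype F] {p : ℕ} [Fact p.Prime] [CharP F p]
    (hp : p ≠ 2) {m : ℕ} (hm : 4 ≤ m)
    (q : (Fin m ⊕ Fin m → F) → F) (hq : q = ⇑(QPlus F m))
    (hneg : (∃ g : ↥(Cfsg.isometryGroup F q), g ∈ Cfsg.Omega F q ∧ ((g : Matrix.GeneralLinearGroup (Fin m ⊕ Fin m) F) : Matrix (Fin m ⊕ Fin m) (Fin m ⊕ Fin m) F) = -1) ↔ Fintype.card F ^ m % 4 = 1)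
    (x : MulAut (Cfsg.POmega F q)) (hx : x ∈ Cfsg.pgoAut F q) {r : ℕ} (hr : r.Prime)
    (hro : Odd r) (hrp : r ≠ p) (hxr : orderOf x = r) :
    (∀ y : MulAut (Cfsg.POmega F q),
      (Cfsg.IsConjUnder (Cfsg.Inn (Cfsg.POmega F q)) x y ↔
        Cfsg.IsConjUnder (Subgroup.closure {β : MulAut (Cfsg.POmega F q) | ∃ g : GL (Fin m ⊕ Fin m) F,
          g ∈ Cfsg.Geo.quadSimilarityGroup (F := F) q ∧
          Cfsg.PreservesSingularClasses q (g : Matrix (Fin m ⊕ Fin m) (Fin m ⊕ Fin m) F) ∧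
          Cfsg.IsInducedBySemilinearPOmega q g (RingEquiv.refl F) β}) x y) ∧
      (Cfsg.IsConjUnder (Cfsg.psoAut F q) x y ↔
        Cfsg.IsConjUnder (Subgroup.closure {β : MulAut (Cfsg.POmega F q) | ∃ g : GL (Fin m ⊕ Fin m) F,
          g ∈ Cfsg.Geo.quadSimilarityGroup (F := F) q ∧
          Cfsg.PreservesSingularClasses q (g : Matrix (Fin m ⊕ Fin m) (Fin m ⊕ Fin m) F) ∧
          Cfsg.IsInducedBySemilinearPOmega q g (RingEquiv.refl F) β}) x y)) ∧
    (∀ y : MulAut (Cfsg.POmega F q),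
      Cfsg.IsConjUnder (Cfsg.poAut F q) x y ↔ Cfsg.IsConjUnder (Cfsg.pgoAut F q) x y) := by
  have hodd : Odd (Fintype.card F) := odd_card_of_char p hp
  have h2 : (2 : F) ≠ 0 := two_ne_zero_of_odd_card hodd
  have hQ := nondegenerate_QPlus F m
  have hcardι : Fintype.card (Fin m ⊕ Fin m) = 2 * m := by
    rw [Fintype.card_sum, Fintype.card_fin]; ring
  refine main_plus hp hm q hq hneg ?_ x hx hr hro hrp hxr
  intro _ Z hZn k hk hZdim ε hsgn a t ha ht hN s hsZ hsZ' hspow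
  exact not_mem_Omega_of_free (QPlus F m) hodd h2 hQ m hcardι Z hZn k hk hZdim ε hsgn a t ha ht hN
    s hsZ hsZ' hspow

end Cfsg.Agent.Lib.Helper16.SemiClassOrth
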