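import Mathlib

set_option autoImplicit false
set_option linter.style.haveILetI false

namespace Cfsg.Agent.Lib.Helper16

open Finset Polynomial

/-- An irreducible polynomial over a finite field of order `q` dividing `1 + X + ⋯ + X^(r-1)`
(`r` a prime different from the characteristic) has degree divisible by the order of `q` mod `r`. -/
theorem orderOf_dvd_natDegree_of_irreducible_dvd_geom {F : Type*} [Field F] [Fintype F] {p : ℕ}
    [Fact p.Prime] [CharP F p] {r : ℕ} (hr : r.Prime) (hrp : r ≠ p) (g : F[X]) (hg : Irreducible g)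
    (hdvd : g ∣ ∑ i ∈ range r, (X : F[X]) ^ i) :
    orderOf ((Fintype.card F : ℕ) : ZMod r) ∣ g.natDegree := by
  classical
  haveI : Fact (Irreducible g) := ⟨hg⟩
  haveI : Fact r.Prime := ⟨hr⟩
  have hg0 : g ≠ 0 := hg.ne_zero
  let L := AdjoinRoot g
  let α : L := AdjoinRoot.root g
  have hΦ : ∑ i ∈ range r, α ^ i = 0 := by
    have h1 : aeval α (∑ i ∈ range r, (X : F[X]) ^ i) = 0 := by
      rw [AdjoinRoot.aeval_eq, AdjoinRoot.mk_eq_zero]
      exact hdvd
    simpa using h1
  have hαr : α ^ r = 1 := by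
    have := geom_sum_mul α r
    rw [hΦ, zero_mul] at this
    exact (sub_eq_zero.1 this.symm)
  have hrF : (r : F) ≠ 0 := by
    intro h0
    have := (CharP.cast_eq_zero_iff F p r).1 h0
    exact hrp ((Nat.prime_dvd_prime_iff_eq (Fact.out) hr).1 this).symm
  have hα1 : α ≠ 1 := by
    intro h1
    rw [h1] at hΦ
    simp only [one_pow, sum_const, card_range, nsmul_eq_mul, mul_one] at hΦ
    have h2 : algebraMap F L (r : F) = 0 := by
      rw [map_natCast]; exact hΦ
    exact hrF ((map_eq_zero (algebraMap F L)).1 h2)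
  have hord : orderOf α = r := orderOf_eq_prime hαr hα1
  -- cardinality of L
  let pb := AdjoinRoot.powerBasis hg0
  haveI : Module.Finite F L := pb.finite
  haveI : Finite L := Module.finite_of_finite F
  cases nonempty_fintype L
  have hcard : Fintype.card L = Fintype.card F ^ g.natDegree := by
    rw [Module.card_eq_pow_finrank (K := F) (V := L), pb.finrank]
    rfl
  have hα0 : α ≠ 0 := by
    intro h0
    rw [h0, zero_pow hr.ne_zero] at hαr
    exact zero_ne_one hαr
  have h3 := FiniteField.pow_card_sub_one_eq_one α hα0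
  have h4 : r ∣ Fintype.card L - 1 := by
    rw [← hord]; exact orderOf_dvd_of_pow_eq_one h3
  rw [hcard] at h4
  apply orderOf_dvd_of_pow_eq_one
  have hpos : 1 ≤ Fintype.card F ^ g.natDegree := Nat.one_le_pow _ _ Fintype.card_pos
  have h5 : ((Fintype.card F ^ g.natDegree - 1 : ℕ) : ZMod r) = 0 :=
    (ZMod.natCast_eq_zero_iff _ _).2 h4
  rw [Nat.cast_sub hpos, Nat.cast_pow, Nat.cast_one, sub_eq_zero] at h5
  exact h5



/-- minimal polynomial of a matrix of prime order `r` in dimension `n = ord_r(q)`. -/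
theorem minpoly_irreducible_of_orderOf {F : Type*} [Field F] [Fintype F] {p : ℕ}
    [Fact p.Prime] [CharP F p] {n r : ℕ} (hr : r.Prime) (hrp : r ≠ p)
    (hi : orderOf ((Fintype.card F : ℕ) : ZMod r) = n)
    (M : Matrix (Fin n) (Fin n) F) (hMr : M ^ r = 1) (hM1 : M ≠ 1) :
    Irreducible (minpoly F M) ∧ (minpoly F M).natDegree = n := by
  classical
  have hint : IsIntegral F M := Matrix.isIntegral M
  set μ := minpoly F M with hμ
  have hμ0 : μ ≠ 0 := minpoly.ne_zero hint
  have hμmonic : μ.Monic := minpoly.monic hint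
  set Φ : F[X] := ∑ i ∈ range r, (X : F[X]) ^ i with hΦ
  have hfac : Φ * (X - 1) = X ^ r - 1 := geom_sum_mul X r
  have hdvd : μ ∣ Φ * (X - 1) := by
    rw [hfac]
    apply minpoly.dvd
    simp [hMr]
  have hncop : ¬ IsCoprime μ Φ := by
    intro hcop
    have h1 : μ ∣ X - 1 := hcop.dvd_of_dvd_mul_left hdvd
    have h2 : aeval M (X - 1 : F[X]) = 0 := by
      obtain ⟨c, hc⟩ := h1
      rw [hc, map_mul, minpoly.aeval, zero_mul]
    apply hM1
    simpa [sub_eq_zero] using h2
  have hex : ∃ g : F[X], Irreducible g ∧ g ∣ μ ∧ g ∣ Φ := by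
    by_contra hcon
    push Not at hcon
    apply hncop
    apply isCoprime_of_irreducible_dvd
    · intro h; exact hμ0 h.1
    · intro z hz hzμ hzΦ
      exact hcon z hz hzμ hzΦ
  obtain ⟨g, hg, hgμ, hgΦ⟩ := hex
  have h1 := orderOf_dvd_natDegree_of_irreducible_dvd_geom hr hrp g hg hgΦ
  rw [hi] at h1
  have h2 : g.natDegree ≤ μ.natDegree := natDegree_le_of_dvd hgμ hμ0
  have h3 : μ.natDegree ≤ n := by
    have h4 := natDegree_le_of_dvd (Matrix.minpoly_dvd_charpoly M) (Matrix.charpoly_monic M).ne_zero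
    rw [Matrix.charpoly_natDegree_eq_dim, Fintype.card_fin] at h4
    exact h4
  have h5 : 0 < g.natDegree := hg.natDegree_pos
  have h6 : n ≤ g.natDegree := Nat.le_of_dvd h5 h1
  have h7 : g.natDegree = μ.natDegree := by omega
  have h8 : μ.natDegree = n := by omega
  refine ⟨?_, h8⟩
  -- μ associated to g
  obtain ⟨c, hc⟩ := hgμ
  have hc0 : c ≠ 0 := by
    intro h0; rw [h0, mul_zero] at hc; exact hμ0 hc
  have hdeg : c.natDegree = 0 := by
    have := congrArg natDegree hc
    rw [natDegree_mul hg.ne_zero hc0] at this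
    omega
  have hcu : IsUnit c := by
    rw [natDegree_eq_zero] at hdeg
    obtain ⟨a, rfl⟩ := hdeg
    have ha : a ≠ 0 := by
      intro h0; apply hc0; rw [h0, map_zero]
    exact (isUnit_C.2 (isUnit_iff_ne_zero.2 ha))
  rw [hc]
  exact (irreducible_mul_isUnit hcu).2 hg


theorem commute_aeval_of_commute {F : Type*} [Field F] {n : ℕ}
    (M S : Matrix (Fin n) (Fin n) F) (hS : S * M = M * S) (h : F[X]) :
    S * aeval M h = aeval M h * S := by
  have h1 : aeval M h ∈ Algebra.adjoin F ({M} : Set (Matrix (Fin n) (Fin n) F)) :=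
    aeval_mem_adjoin_singleton F M
  have h2 := Algebra.adjoin_le_centralizer_centralizer F
    ({M} : Set (Matrix (Fin n) (Fin n) F)) h1
  rw [Subalgebra.mem_centralizer_iff] at h2
  refine h2 S ?_
  rw [Subalgebra.coe_centralizer, Set.mem_centralizer_iff]
  intro m hm
  rw [Set.mem_singleton_iff] at hm
  rw [hm]; exact hS.symm

/-- If the minimal polynomial of `M` is irreducible of degree `n`, every vector is `f(M) v` for a
fixed nonzero `v`. -/
theorem exists_aeval_mulVec_eq {F : Type*} [Field F] {n : ℕ}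
    (M : Matrix (Fin n) (Fin n) F) (hirr : Irreducible (minpoly F M))
    (hdeg : (minpoly F M).natDegree = n) (v : Fin n → F) (hv : v ≠ 0) (w : Fin n → F) :
    ∃ f : F[X], (aeval M f).mulVec v = w := by
  classical
  let φ : degreeLT F n →ₗ[F] (Fin n → F) :=
    { toFun := fun f => (aeval M (f : F[X])).mulVec v
      map_add' := by
        intro f g
        simp only [Submodule.coe_add, map_add, Matrix.add_mulVec]
      map_smul' := by
        intro c f
        simp only [Submodule.coe_smul, map_smul, RingHom.id_apply, Matrix.smul_mulVec] }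
  have hinj : Function.Injective φ := by
    rw [← LinearMap.ker_eq_bot, Submodule.eq_bot_iff]
    intro f hf
    rw [LinearMap.mem_ker] at hf
    by_contra hf0
    have hf0' : (f : F[X]) ≠ 0 := fun h => hf0 (Subtype.ext h)
    have hfdeg : (f : F[X]).degree < n := mem_degreeLT.1 f.2
    have hnd : ¬ minpoly F M ∣ (f : F[X]) := by
      intro hd
      have h1 := natDegree_le_of_dvd hd hf0'
      rw [hdeg] at h1
      have h2 := (natDegree_lt_iff_degree_lt hf0').2 hfdeg
      omega
    obtain ⟨a, b, hab⟩ := (hirr.coprime_iff_not_dvd).2 hnd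
    have h3 := congrArg (fun g => (aeval M g).mulVec v) hab
    simp only [map_add, map_mul, minpoly.aeval, mul_zero, zero_add, map_one,
      Matrix.one_mulVec] at h3
    rw [← Matrix.mulVec_mulVec] at h3
    have h4 : (aeval M (f : F[X])).mulVec v = 0 := hf
    rw [h4, Matrix.mulVec_zero] at h3
    exact hv h3.symm
  have hfr : Module.finrank F (degreeLT F n) = Module.finrank F (Fin n → F) :=
    LinearEquiv.finrank_eq (degreeLTEquiv F n)
  haveI : FiniteDimensional F (degreeLT F n) :=
    LinearEquiv.finiteDimensional (degreeLTEquiv F n).symm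
  have hsurj := (LinearMap.injective_iff_surjective_of_finrank_eq_finrank hfr).1 hinj
  obtain ⟨f, hf⟩ := hsurj w
  exact ⟨f, hf⟩

/-- If the minimal polynomial of `M` is irreducible of degree `n ≥ 1`, everything commuting with
`M` is a polynomial in `M`. -/
theorem exists_aeval_eq_of_commute {F : Type*} [Field F] {n : ℕ} (hn : 1 ≤ n)
    (M : Matrix (Fin n) (Fin n) F) (hirr : Irreducible (minpoly F M))
    (hdeg : (minpoly F M).natDegree = n) (S : Matrix (Fin n) (Fin n) F) (hS : S * M = M * S) :
    ∃ f : F[X], aeval M f = S := by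
  classical
  let v : Fin n → F := Pi.single ⟨0, hn⟩ 1
  have hv : v ≠ 0 := by
    intro h0
    have := congrFun h0 ⟨0, hn⟩
    simp [v] at this
  obtain ⟨f, hf⟩ := exists_aeval_mulVec_eq M hirr hdeg v hv (S.mulVec v)
  refine ⟨f, ?_⟩
  rw [Matrix.ext_iff_mulVec]
  intro w
  obtain ⟨h, hh⟩ := exists_aeval_mulVec_eq M hirr hdeg v hv w
  rw [← hh, Matrix.mulVec_mulVec, Matrix.mulVec_mulVec, ← map_mul, mul_comm, map_mul,
    ← Matrix.mulVec_mulVec, hf, Matrix.mulVec_mulVec, commute_aeval_of_commute M S hS h]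




/-- The centraliser in `GL_n(F)` of an element with irreducible minimal polynomial of degree `n`
is cyclic of order `|F|^n - 1`. -/
theorem centralizer_of_irreducible_minpoly {F : Type*} [Field F] [Fintype F] {n : ℕ} (hn : 1 ≤ n)
    (x : GL (Fin n) F)
    (hirr : Irreducible (minpoly F (x : Matrix (Fin n) (Fin n) F)))
    (hdeg : (minpoly F (x : Matrix (Fin n) (Fin n) F)).natDegree = n) :
    IsCyclic ↥(Subgroup.centralizer ({x} : Set (GL (Fin n) F))) ∧
      Nat.card ↥(Subgroup.centralizer ({x} : Set (GL (Fin n) F))) = Fintype.card F ^ n - 1 := by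
  classical
  haveI : Nonempty (Fin n) := ⟨⟨0, hn⟩⟩
  obtain ⟨M, hM⟩ : ∃ M : Matrix (Fin n) (Fin n) F, M = (x : Matrix (Fin n) (Fin n) F) := ⟨_, rfl⟩
  rw [← hM] at hirr hdeg
  haveI : Fact (Irreducible (minpoly F M)) := ⟨hirr⟩
  have hμ0 : minpoly F M ≠ 0 := hirr.ne_zero
  let L := AdjoinRoot (minpoly F M)
  let ψ : L →+* Matrix (Fin n) (Fin n) F :=
    Ideal.Quotient.lift (Ideal.span {minpoly F M}) ((aeval M : F[X] →ₐ[F] _) : F[X] →+* _)
      (by
        intro a ha
        obtain ⟨c, rfl⟩ := Ideal.mem_span_singleton.1 ha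
        change aeval M (minpoly F M * c) = 0
        rw [map_mul, minpoly.aeval, zero_mul])
  have hψmk : ∀ f : F[X], ψ (AdjoinRoot.mk (minpoly F M) f) = aeval M f := fun f => rfl
  have hψinj : Function.Injective ψ := RingHom.injective ψ
  let Ψ : Lˣ →* GL (Fin n) F := Units.map (ψ : L →* Matrix (Fin n) (Fin n) F)
  have hΨinj : Function.Injective Ψ := Units.map_injective hψinj
  have hrange : Ψ.range = Subgroup.centralizer ({x} : Set (GL (Fin n) F)) := by
    ext g
    rw [Subgroup.mem_centralizer_iff]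
    constructor
    · rintro ⟨u, rfl⟩ h hh
      rw [Set.mem_singleton_iff] at hh
      subst hh
      obtain ⟨f, hf⟩ := AdjoinRoot.mk_surjective (u : L)
      apply Units.ext
      rw [Units.val_mul, Units.val_mul]
      change (h : Matrix (Fin n) (Fin n) F) * ψ (u : L) = ψ (u : L) * (h : Matrix (Fin n) (Fin n) F)
      rw [← hf, hψmk, ← hM]
      exact commute_aeval_of_commute M M rfl f
    · intro hg
      have h1 := hg x (Set.mem_singleton x)
      have h2 : (g : Matrix (Fin n) (Fin n) F) * M = M * (g : Matrix (Fin n) (Fin n) F) := by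
        rw [hM, ← Units.val_mul, ← Units.val_mul, h1]
      obtain ⟨f, hf⟩ := exists_aeval_eq_of_commute hn M hirr hdeg _ h2
      have hl : (AdjoinRoot.mk (minpoly F M) f : L) ≠ 0 := by
        intro h0
        have h3 : ψ (AdjoinRoot.mk (minpoly F M) f) = 0 := by rw [h0, map_zero]
        rw [hψmk, hf] at h3
        exact g.ne_zero h3
      refine ⟨Units.mk0 _ hl, ?_⟩
      apply Units.ext
      change ψ (AdjoinRoot.mk (minpoly F M) f) = _
      rw [hψmk, hf]
  -- cardinality of L
  let pb := AdjoinRoot.powerBasis hμ0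
  haveI : Module.Finite F L := pb.finite
  haveI : Finite L := Module.finite_of_finite F
  cases nonempty_fintype L
  have hcard : Fintype.card L = Fintype.card F ^ n := by
    rw [Module.card_eq_pow_finrank (K := F) (V := L), pb.finrank]
    change _ ^ (minpoly F M).natDegree = _
    rw [hdeg]
  rw [← hrange]
  constructor
  · exact (MonoidHom.ofInjective hΨinj).isCyclic.1 inferInstance
  · rw [← Nat.card_congr (MonoidHom.ofInjective hΨinj).toEquiv, Nat.card_units,
      Nat.card_eq_fintype_card, hcard]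

end Cfsg.Agent.Lib.Helper16
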