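import Mathlib
import Cfsg.Prelude.Def_GeometricClasses
import Cfsg.Agent.Lib.Helper7.AschDefs
import Cfsg.Agent.Lib.Helper22.AschC7Defs
import Cfsg.Agent.Lib.Helper16.SpADefs
import Cfsg.Agent.Lib.Helper2.S5662SpTP2
import Cfsg.Agent.Lib.Helper23.S5662SpT2
import Cfsg.Agent.Lib.Helper26.S5662SpT7a
import Cfsg.Agent.Lib.Helper12.S5662C7A
import Cfsg.Agent.Lib.Helper1.S5662C732
import Cfsg.Agent.Lib.Helper7.S5662C7DATA
import Cfsg.Agent.Lib.Helper12.S5662C7F
import Cfsg.Agent.Lib.Helper19.S5662C7STD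
import Cfsg.Agent.Lib.Helper19.S5662C7EV

/-!
# S5662, block SpI7 (`sp_c7`): REAL assembly from the landed pieces (helper16)

C7-DATA (helper7), C7-G/S/I/E/O/F (helper12), C7-STD/EV (helper19), C7-32 (helper1), SpT-T7a (helper26).
-/

set_option autoImplicit false
set_option linter.unusedSectionVars false
set_option linter.unusedVariables false

namespace Cfsg.Agent.Lib.Helper16.SpAC7Real

open Matrix Cfsg.Geo Cfsg.Agent.Lib.Helper7.Asch Cfsg.Agent.Lib.Helper16.SpA Cfsg.Agent.Lib.Helper22.AschC7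
open scoped Kronecker commutatorElement

variable {F : Type*} [Field F] [Fintype F] {n : ℕ} {f : (Fin n → F) → (Fin n → F) → F}

/-- the form `f`, transported by `P` and `e`, has Gram matrix `G` (tensor-power coordinates) -/
def TFP (f : (Fin n → F) → (Fin n → F) → F) {m t : ℕ} (e : Fin n ≃ (Fin t → Fin m)) (P : GL (Fin n) F)
    (G : Matrix (Fin t → Fin m) (Fin t → Fin m) F) : Prop :=
  ∀ x y : (Fin t → Fin m) → F,
    f ((P : Matrix (Fin n) (Fin n) F) *ᵥ (x ∘ e)) ((P : Matrix (Fin n) (Fin n) F) *ᵥ (y ∘ e)) = formOfGram id G x y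

/-! ## the assembly -/

/-- **SpI7** the tensor-induced case: class 7 (`q` odd) or class 8 (`q` even); same statement as the stub `SpATop.sp_c7` -/
theorem sp_c7 (hf : IsSymplecticForm f) (hn : 4 ≤ n) (H L : Subgroup (GL (Fin n) F)) (hHI : H ≤ Iso f)
    (hH : AbsIrr H) (hQP : QP H) (hLH : L ≤ H) (hLs : ¬ L ≤ scalars (Fin n) F) (hperf : ⁅L, L⁆ = L)
    (hqs : SimpleModScal L)
    (hconj : ∀ h ∈ H, (∀ x ∈ L, h * x * h⁻¹ ∈ L) ∨
      (∀ x ∈ L, ∀ y ∈ L, (h * x * h⁻¹) * y = y * (h * x * h⁻¹)))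
    (hnn : ¬ NormBy H L) : InSp f H := by
  obtain ⟨m, t, e, P, Y, hm, ht, hle, hYabs, hspan, hYperf, hYns, hpos⟩ :=
    Cfsg.Agent.Lib.Helper7.S5662C7DATA.c7_data (by omega) H L hH hQP hLH hLs hperf hqs hconj hnn
  obtain ⟨G, hGu, hT⟩ := Cfsg.Agent.Lib.Helper12.S5662C7A.exists_tfp hf.bilinear hf.nondegenerate e P
  have hinv : ∀ i : Fin t, ∀ a ∈ Y,
      (pos i (a : Matrix (Fin m) (Fin m) F))ᵀ * G * pos i (a : Matrix (Fin m) (Fin m) F) = G := by
    intro i a ha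
    obtain ⟨g, hgH, hg⟩ := hpos i a ha
    exact Cfsg.Agent.Lib.Helper12.S5662C7A.pos_inv e P G hT _ g (hHI hgH) hg
  obtain ⟨B, c, hc, hBu, hBinv, hGB⟩ := Cfsg.Agent.Lib.Helper12.S5662C7F.exists_inv_form (by omega) (by omega) Y hYabs hspan G hGu hinv
  have hBsym := Cfsg.Agent.Lib.Helper12.S5662C7A.transpose_eq_or_neg Y hYabs B hBu hBinv
  have hGskew : Gᵀ = -G := Cfsg.Agent.Lib.Helper12.S5662C7A.tfp_skew hf e P G hT
  have hptskew : (pt (fun _ : Fin t => B))ᵀ = -(pt (fun _ : Fin t => B)) := by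
    rw [hGB, Matrix.transpose_smul, ← smul_neg] at hGskew
    exact smul_right_injective _ hc hGskew
  rw [hGB] at hT
  by_cases hq : Odd (Fintype.card F)
  · obtain ⟨hB, hto⟩ := Cfsg.Agent.Lib.Helper12.S5662C7A.odd_of_pt_skew (Cfsg.Agent.Lib.Helper23.S5662SpT.two_ne_zero_of_odd hq) B hBu (by omega)
      hBsym hptskew
    have h3 : 3 ≤ t := by
      obtain ⟨k, hk⟩ := hto
      omega
    have hex : ¬ (Fintype.card F = 3 ∧ m = 2) := by
      rintro ⟨h3', rfl⟩
      exact hYns (Cfsg.Agent.Lib.Helper1.S5662C732.le_scalars_of_perfect_gl2_three h3' Y hYperf)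
    exact Cfsg.Agent.Lib.Helper19.S5662C7STD.sp_c7_std hf hq H e P B c hc hBu hB hto h3 hex hT hle
  · have h20 : (2 : F) = 0 := Cfsg.Agent.Lib.Helper2.S5662SpTP2.two_eq_zero_of_not_odd hq
    have hB : Bᵀ = B := by
      rcases hBsym with h | h
      · exact h
      · rw [h]
        have : (1 : F) + 1 = 0 := by rw [one_add_one_eq_two]; exact h20
        have hneg : (-1 : F) = 1 := (eq_neg_of_add_eq_zero_left this).symm
        rw [← neg_one_smul F B, hneg, one_smul]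
    exact Cfsg.Agent.Lib.Helper19.S5662C7EV.sp_c7_even hf hq H hHI ht e P B c hc hB
      (fun a => Cfsg.Agent.Lib.Helper26.S5662SpT7a.diag_zero_of_irr hq hm Y hYabs.1 B hB hBinv a) hT hle

end Cfsg.Agent.Lib.Helper16.SpAC7Real
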