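import Mathlib
import Cfsg.Prelude.Def_GeometricClasses
import Cfsg.Agent.Lib.Helper7.AschDefs
import Cfsg.Agent.Lib.Helper8.S5630I4TENS3
import Cfsg.Agent.Lib.Helper16.SpADefs

/-!
# S5662, block SpI4 (Clifford theory with an alternating form): THE Sp WRAPPERS  —  EXACT-SIGNATURE STUBS + REAL assembly (helper16)

helper11's generic `clifford_form` (notes/FormCliffMain_helper11.lean.txt) gives, for `N` normalised by the absolutely irreducible `H ≤ Iso f`,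
`FormOutcome σ f H N ∨ N ≤ scalars ∨ AbsIrr N` with the four outcomes (a) non-degenerate decomposition, (b) pair of totally singular subspaces,
(c) adjoint-closed field subalgebra of prime degree, (d) tensor decomposition `f ∘ P = G₁ ⊗ G₂`.  This file turns (b) and (d) into `InSp f H`
((a) is `InSp.decomp`, (c) is block KT `sp_field`).

PIECES (claim by msg `TAKING S5662 SpT-x`; own file `Cfsg/Agent/Lib/HelperN/S5662SpT<x>.lean`, own namespace, EXACT signature, imports = those of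
this file (never this file)).  `TF f e P G₁ G₂` := `∀ x y, f (P (x ∘ e)) (P (y ∘ e)) = formOfGram id (G₁ ⊗ₖ G₂) x y`.

* **P2o** `two_mul_of_isMDecomposition`   a decomposition into 2 subspaces of dimension `k` has `2 k = n`.
* **P2e** `quadratic_of_tsPair`   `q` even, `D₀ ⊕ D₁` totally singular pair stabilised by `H ≤ Iso f`: `Q v := f (π₀ v) (π₁ v)` (`π_i` the projections) has polar `f`
  (`f (v₀) (u₁) = f (u₁) (v₀)` in characteristic 2) and is `H`-invariant (a swap gives `f (v₁) (v₀) = f (v₀) (v₁)`): `InSp.quadratic`.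
* **T1** `kron_skew`, `kron_diag`   evaluate `TF` at `Pi.single`s: `(G₁ ⊗ G₂)ᵀ = -(G₁ ⊗ G₂)`, `G₁ a a * G₂ b b = 0`.
* **T2** `exists_eps`   pure matrix lemma: `G₁, G₂ ≠ 0`, `(G₁ ⊗ G₂)ᵀ = -(G₁ ⊗ G₂)` ⇒ `G₁ᵀ = ε G₁`, `G₂ᵀ = -ε G₂`, `ε = ±1` (fix non-zero entries
  `G₁ a₀ b₀`, `G₂ c₀ d₀`; `λ := G₁ b₀ a₀ / G₁ a₀ b₀`; transposing twice gives `λ² = 1`).
* **T3** `exists_factors`   `h ∈ tensorProductSubgroup ⊓ Iso f`: `h = P (a ⊗ b) P⁻¹`, `aᵀ G₁ a = μ G₁`, `bᵀ G₂ b = μ⁻¹ G₂`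
  (`(aᵀ G₁ a) ⊗ (bᵀ G₂ b) = G₁ ⊗ G₂`, then compare with a non-zero entry).
* **T4** `sp_tensor_std`   `q` odd, `G₁` skew, `G₂` symmetric, `3 ≤ s`: `InSp.tensor` with `f₁ := formOfGram id G₁`, `f₂ := formOfGram id G₂`, `c = 1`
  (`gramMatrix (formOfGram id G) = G`; `IsSymplecticForm`, `IsSymmetricForm` of `formOfGram id G` for invertible skew / symmetric `G`).
* **T5** `tf_swap`   `TF f e P G₁ G₂ → TF f (e.trans (Equiv.prodComm _ _)) P G₂ G₁`.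
* **T6a** `x0_props`   2 × 2: `G` symmetric invertible, `X₀ := G⁻¹ * !![0,1;-1,0]`: `X₀ᵀ G = -(G X₀)`, `X₀ X₀ = (-(det G)⁻¹) • 1`, `X₀` not scalar,
  and `bᵀ G b = μ • G` (`μ ≠ 0`) ⇒ `b X₀ = X₀ b ∨ b X₀ = -(X₀ b)` (`bᵀ Ω b = det b • Ω`, `(det b)² = μ²`).
* **T6b** `exists_skew_elt`   from T3 + T6a: `Z := P (1 ⊗ X₀) P⁻¹` has `Z Z = δ • 1`, `δ ≠ 0`, `f (Z u) v = - f u (Z v)`, `h Z = ± Z h` for `h ∈ H`, `Z` not scalar.
* **T6c** `sp_of_skew_elt`   GENERIC (no tensors): `q` odd, `H ≤ Iso f` irreducible, `Z Z = δ • 1`, `δ ≠ 0`, `Z` skew-adjoint, not scalar, `h Z = ± Z h`: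
  `δ` a non-square ⇒ `K = {α + β Z}` is a field subalgebra of degree 2, adjoint-closed, normalised by `H` ⇒ KT (`hKT`); `δ = γ²` ⇒ the eigenspaces
  `ker (Z ∓ γ)` are totally singular (`2 γ f u v = 0`), swapped by some `h` (else `Z` is scalar by irreducibility), so of dimension `n / 2`: `InSp.tsPair`.
* **T7a** `diag_zero_of_irr`   characteristic 2, `Y` irreducible on `F^d`, `2 ≤ d`, `yᵀ G y = G`, `G` symmetric ⇒ `G a a = 0`
  (`{v | v ⬝ᵥ G *ᵥ v = 0}` is a `Y`-invariant subspace (additive: characteristic 2, `G` symmetric) of codimension `≤ 1` (`F` perfect), so it is `⊤`).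
* **T7b** `diag_zero_right`   the same for `G₂`, using `Irr H` and T3 (`P (F^d ⊗ {u | u ⬝ᵥ G₂ *ᵥ u = 0})` is `H`-invariant, non-zero as `2 ≤ s`).
* **T7c** `sp_tensor_even`   `q` even, `G₁`, `G₂` symmetric with zero diagonal: `U₁ :=` strictly upper triangular part of `G₁`,
  `Q v := x ⬝ᵥ (U₁ ⊗ G₂) *ᵥ x` for `v = P (x ∘ e)`; polar `Q = f`; `Q (h v) = Q v` by T3 (`aᵀ U₁ a - μ U₁` is symmetric, `(S ⊗ A)` alternating for `S`
  symmetric and `A` alternating, and `x ⬝ᵥ M *ᵥ x = 0` for alternating `M`): `InSp.quadratic`.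
-/

set_option autoImplicit false
set_option linter.unusedSectionVars false
set_option linter.unusedVariables false

namespace Cfsg.Agent.Lib.Helper16.SpACliffSkel

open Matrix Cfsg.Geo Cfsg.Agent.Lib.Helper7.Asch Cfsg.Agent.Lib.Helper16.SpA
open scoped Kronecker

variable {F : Type*} [Field F] [Fintype F] {n : ℕ} {f : (Fin n → F) → (Fin n → F) → F}

/-- the form `f`, transported by `P` and `e`, has Gram matrix `G₁ ⊗ G₂` -/
def TF (f : (Fin n → F) → (Fin n → F) → F) {d s : ℕ} (e : Fin n ≃ Fin d × Fin s) (P : GL (Fin n) F)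
    (G₁ : Matrix (Fin d) (Fin d) F) (G₂ : Matrix (Fin s) (Fin s) F) : Prop :=
  ∀ x y : Fin d × Fin s → F,
    f ((P : Matrix (Fin n) (Fin n) F) *ᵥ (x ∘ e)) ((P : Matrix (Fin n) (Fin n) F) *ᵥ (y ∘ e)) =
      formOfGram id (G₁ ⊗ₖ G₂) x y

/-! ## outcome (b): a pair of totally singular subspaces -/

/-- **P2o** -/
theorem two_mul_of_isMDecomposition (k : ℕ) (D : Fin 2 → Submodule F (Fin n → F)) (hD : IsMDecomposition k D) :
    2 * k = n := by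
  sorry

/-- **P2e** -/
theorem quadratic_of_tsPair (hf : IsSymplecticForm f) (hq : ¬ Odd (Fintype.card F)) (H : Subgroup (GL (Fin n) F))
    (hHI : H ≤ Iso f) (k : ℕ) (D : Fin 2 → Submodule F (Fin n → F)) (hD : IsMDecomposition k D)
    (hts : ∀ i, IsTotallySingularFor f (D i)) (hH : H ≤ decompositionStabilizer D) : InSp f H := by
  sorry

/-- outcome (b), REAL -/
theorem sp_of_tsPair (hf : IsSymplecticForm f) (H : Subgroup (GL (Fin n) F)) (hHI : H ≤ Iso f) (k : ℕ)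
    (D : Fin 2 → Submodule F (Fin n → F)) (hD : IsMDecomposition k D) (hts : ∀ i, IsTotallySingularFor f (D i))
    (hH : H ≤ decompositionStabilizer D) : InSp f H := by
  by_cases hq : Odd (Fintype.card F)
  · exact .tsPair k D hq (two_mul_of_isMDecomposition k D hD) hD hts hH
  · exact quadratic_of_tsPair hf hq H hHI k D hD hts hH

/-! ## outcome (d): a tensor decomposition -/

/-- **T1** -/
theorem kron_skew (hf : IsSymplecticForm f) {d s : ℕ} (e : Fin n ≃ Fin d × Fin s) (P : GL (Fin n) F)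
    (G₁ : Matrix (Fin d) (Fin d) F) (G₂ : Matrix (Fin s) (Fin s) F) (hT : TF f e P G₁ G₂) :
    (G₁ ⊗ₖ G₂)ᵀ = -(G₁ ⊗ₖ G₂) := by
  sorry

/-- **T1** -/
theorem kron_diag (hf : IsSymplecticForm f) {d s : ℕ} (e : Fin n ≃ Fin d × Fin s) (P : GL (Fin n) F)
    (G₁ : Matrix (Fin d) (Fin d) F) (G₂ : Matrix (Fin s) (Fin s) F) (hT : TF f e P G₁ G₂) (a : Fin d) (b : Fin s) :
    G₁ a a * G₂ b b = 0 := by
  sorry

/-- **T2** -/
theorem exists_eps {d s : ℕ} (G₁ : Matrix (Fin d) (Fin d) F) (G₂ : Matrix (Fin s) (Fin s) F) (h1 : G₁ ≠ 0) (h2 : G₂ ≠ 0)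
    (h : (G₁ ⊗ₖ G₂)ᵀ = -(G₁ ⊗ₖ G₂)) : ∃ ε : F, (ε = 1 ∨ ε = -1) ∧ G₁ᵀ = ε • G₁ ∧ G₂ᵀ = (-ε) • G₂ := by
  sorry

/-- **T3** -/
theorem exists_factors {d s : ℕ} (e : Fin n ≃ Fin d × Fin s) (P : GL (Fin n) F)
    (G₁ : Matrix (Fin d) (Fin d) F) (G₂ : Matrix (Fin s) (Fin s) F) (hG1 : IsUnit G₁.det) (hG2 : IsUnit G₂.det)
    (hT : TF f e P G₁ G₂) (h : GL (Fin n) F) (hh : h ∈ tensorProductSubgroup d s e P) (hI : h ∈ Iso f) :
    ∃ (a : GL (Fin d) F) (b : GL (Fin s) F) (μ : F), μ ≠ 0 ∧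
      (h : Matrix (Fin n) (Fin n) F) = (P : Matrix (Fin n) (Fin n) F) *
        Matrix.reindex e.symm e.symm ((a : Matrix (Fin d) (Fin d) F) ⊗ₖ (b : Matrix (Fin s) (Fin s) F)) *
        ((P⁻¹ : GL (Fin n) F) : Matrix (Fin n) (Fin n) F) ∧
      (a : Matrix (Fin d) (Fin d) F)ᵀ * G₁ * (a : Matrix (Fin d) (Fin d) F) = μ • G₁ ∧
      (b : Matrix (Fin s) (Fin s) F)ᵀ * G₂ * (b : Matrix (Fin s) (Fin s) F) = μ⁻¹ • G₂ := by
  sorry

/-- **T4** -/
theorem sp_tensor_std (hf : IsSymplecticForm f) (hq : Odd (Fintype.card F)) (H : Subgroup (GL (Fin n) F)) {d s : ℕ}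
    (e : Fin n ≃ Fin d × Fin s) (P : GL (Fin n) F) (G₁ : Matrix (Fin d) (Fin d) F) (G₂ : Matrix (Fin s) (Fin s) F)
    (hG1 : IsUnit G₁.det) (hG2 : IsUnit G₂.det) (h1 : G₁ᵀ = -G₁) (h2 : G₂ᵀ = G₂) (hs : 3 ≤ s) (hT : TF f e P G₁ G₂)
    (hle : H ≤ tensorProductSubgroup d s e P) : InSp f H := by
  sorry

/-- **T5** -/
theorem tf_swap {d s : ℕ} (e : Fin n ≃ Fin d × Fin s) (P : GL (Fin n) F)
    (G₁ : Matrix (Fin d) (Fin d) F) (G₂ : Matrix (Fin s) (Fin s) F) (hT : TF f e P G₁ G₂) :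
    TF f (e.trans (Equiv.prodComm (Fin d) (Fin s))) P G₂ G₁ := by
  sorry

/-- **T6a** -/
theorem x0_props (G : Matrix (Fin 2) (Fin 2) F) (hG : IsUnit G.det) (hsym : Gᵀ = G) (h2 : (2 : F) ≠ 0) :
    ∃ (X₀ : Matrix (Fin 2) (Fin 2) F) (δ : F), δ ≠ 0 ∧ X₀ * X₀ = δ • 1 ∧ X₀ᵀ * G = -(G * X₀) ∧
      (∀ c : F, X₀ ≠ c • 1) ∧
      ∀ (b : Matrix (Fin 2) (Fin 2) F) (μ : F), μ ≠ 0 → bᵀ * G * b = μ • G → b * X₀ = X₀ * b ∨ b * X₀ = -(X₀ * b) := by
  sorry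

/-- **T6b** -/
theorem exists_skew_elt (hf : IsSymplecticForm f) (hq : Odd (Fintype.card F)) (H : Subgroup (GL (Fin n) F))
    (hHI : H ≤ Iso f) {d : ℕ} (hd : 1 ≤ d) (e : Fin n ≃ Fin d × Fin 2) (P : GL (Fin n) F) (G₁ : Matrix (Fin d) (Fin d) F)
    (G₂ : Matrix (Fin 2) (Fin 2) F) (hG1 : IsUnit G₁.det) (hG2 : IsUnit G₂.det) (h2 : G₂ᵀ = G₂) (hT : TF f e P G₁ G₂)
    (hle : H ≤ tensorProductSubgroup d 2 e P) :
    ∃ (Z : Matrix (Fin n) (Fin n) F) (δ : F), δ ≠ 0 ∧ Z * Z = δ • 1 ∧ (∀ u v, f (Z *ᵥ u) v = - f u (Z *ᵥ v)) ∧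
      (∀ c : F, Z ≠ c • 1) ∧
      ∀ h ∈ H, (h : Matrix (Fin n) (Fin n) F) * Z = Z * (h : Matrix (Fin n) (Fin n) F) ∨
        (h : Matrix (Fin n) (Fin n) F) * Z = -(Z * (h : Matrix (Fin n) (Fin n) F)) := by
  sorry

/-- **T6c** (generic) -/
theorem sp_of_skew_elt (hf : IsSymplecticForm f) (hq : Odd (Fintype.card F)) (H : Subgroup (GL (Fin n) F))
    (hHI : H ≤ Iso f) (hirr : Irr H)
    (hKT : ∀ (K : Subalgebra F (Matrix (Fin n) (Fin n) F)), IsFieldSubalgebra 2 K → IsAdjointClosedFor f K →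
      H ≤ subalgebraNormalizer K → InSp f H)
    (Z : Matrix (Fin n) (Fin n) F) (δ : F) (hδ : δ ≠ 0) (hZ : Z * Z = δ • 1) (hskew : ∀ u v, f (Z *ᵥ u) v = - f u (Z *ᵥ v))
    (hns : ∀ c : F, Z ≠ c • 1)
    (hnorm : ∀ h ∈ H, (h : Matrix (Fin n) (Fin n) F) * Z = Z * (h : Matrix (Fin n) (Fin n) F) ∨
        (h : Matrix (Fin n) (Fin n) F) * Z = -(Z * (h : Matrix (Fin n) (Fin n) F))) : InSp f H := by
  sorry

/-- **T7a** -/
theorem diag_zero_of_irr (hq : ¬ Odd (Fintype.card F)) {d : ℕ} (hd : 2 ≤ d) (Y : Subgroup (GL (Fin d) F)) (hY : Irr Y)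
    (G : Matrix (Fin d) (Fin d) F) (hsym : Gᵀ = G)
    (hinv : ∀ y ∈ Y, (y : Matrix (Fin d) (Fin d) F)ᵀ * G * (y : Matrix (Fin d) (Fin d) F) = G) (a : Fin d) : G a a = 0 := by
  sorry

/-- **T7b** -/
theorem diag_zero_right (hf : IsSymplecticForm f) (hq : ¬ Odd (Fintype.card F)) (H : Subgroup (GL (Fin n) F))
    (hHI : H ≤ Iso f) (hirr : Irr H) {d s : ℕ} (hd : 1 ≤ d) (hs : 2 ≤ s) (e : Fin n ≃ Fin d × Fin s) (P : GL (Fin n) F)
    (G₁ : Matrix (Fin d) (Fin d) F) (G₂ : Matrix (Fin s) (Fin s) F) (hG1 : IsUnit G₁.det) (hG2 : IsUnit G₂.det)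
    (h2 : G₂ᵀ = G₂) (hT : TF f e P G₁ G₂) (hle : H ≤ tensorProductSubgroup d s e P) (b : Fin s) : G₂ b b = 0 := by
  sorry

/-- **T7c** -/
theorem sp_tensor_even (hf : IsSymplecticForm f) (hq : ¬ Odd (Fintype.card F)) (H : Subgroup (GL (Fin n) F))
    (hHI : H ≤ Iso f) {d s : ℕ} (e : Fin n ≃ Fin d × Fin s) (P : GL (Fin n) F)
    (G₁ : Matrix (Fin d) (Fin d) F) (G₂ : Matrix (Fin s) (Fin s) F) (hG1 : IsUnit G₁.det) (hG2 : IsUnit G₂.det)
    (h1 : G₁ᵀ = G₁) (h2 : G₂ᵀ = G₂) (hd1 : ∀ a, G₁ a a = 0) (hd2 : ∀ b, G₂ b b = 0) (hT : TF f e P G₁ G₂)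
    (hle : H ≤ tensorProductSubgroup d s e P) : InSp f H := by
  sorry

/-! ## the assembly of outcome (d), REAL -/

theorem two_ne_zero_of_odd (hq : Odd (Fintype.card F)) : (2 : F) ≠ 0 := by
  intro h2
  obtain ⟨p, hp⟩ := CharP.exists F
  have hpp : p.Prime := by
    have := hp
    exact CharP.char_is_prime F p
  have hdvd : p ∣ 2 := by
    have := (CharP.cast_eq_zero_iff F p 2).mp (by exact_mod_cast h2)
    exact this
  have hp2 : p = 2 := (Nat.prime_dvd_prime_iff_eq hpp Nat.prime_two).mp hdvd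
  subst hp2
  have hcard : (2 : ℕ) ∣ Fintype.card F := by
    have := hp
    obtain ⟨k, _, hk⟩ := FiniteField.card F 2
    rw [hk]
    exact dvd_pow_self 2 (by exact k.ne_zero)
  exact (Nat.not_even_iff_odd.mpr hq) (even_iff_two_dvd.mpr hcard)

theorem two_eq_zero_of_not_odd (hq : ¬ Odd (Fintype.card F)) : (2 : F) = 0 := by
  obtain ⟨p, hp⟩ := CharP.exists F
  have := hp
  obtain ⟨k, hpp, hk⟩ := FiniteField.card F p
  have heven : Even (Fintype.card F) := Nat.not_odd_iff_even.mp hq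
  rw [hk] at heven
  have hp2 : p = 2 := by
    have h2 : 2 ∣ p ^ (k : ℕ) := even_iff_two_dvd.mp heven
    have := (Nat.Prime.dvd_of_dvd_pow Nat.prime_two h2)
    exact ((Nat.prime_dvd_prime_iff_eq Nat.prime_two hpp).mp this).symm
  subst hp2
  exact_mod_cast CharP.cast_eq_zero F 2

/-- outcome (d): REAL from the pieces.  `hKT` is block KT (`sp_field`). -/
theorem sp_tensor (hf : IsSymplecticForm f) (H : Subgroup (GL (Fin n) F)) (hHI : H ≤ Iso f) (hirr : Irr H)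
    (hKT : ∀ (K : Subalgebra F (Matrix (Fin n) (Fin n) F)), IsFieldSubalgebra 2 K → IsAdjointClosedFor f K →
      H ≤ subalgebraNormalizer K → InSp f H)
    {d s : ℕ} (e : Fin n ≃ Fin d × Fin s) (P : GL (Fin n) F) (Y : Subgroup (GL (Fin d) F))
    (G₁ : Matrix (Fin d) (Fin d) F) (G₂ : Matrix (Fin s) (Fin s) F) (hd : 2 ≤ d) (hs : 2 ≤ s) (hY : AbsIrr Y)
    (hG1 : IsUnit G₁.det) (hG2 : IsUnit G₂.det)
    (hinvY : ∀ y ∈ Y, (y : Matrix (Fin d) (Fin d) F)ᵀ * G₁ * (y : Matrix (Fin d) (Fin d) F) = G₁)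
    (hle : H ≤ tensorProductSubgroup d s e P) (hT : TF f e P G₁ G₂) : InSp f H := by
  have hG1ne : G₁ ≠ 0 := by
    rintro rfl
    have hd0 : Nonempty (Fin d) := ⟨⟨0, by omega⟩⟩
    rw [Matrix.det_zero] at hG1
    exact not_isUnit_zero hG1
  have hG2ne : G₂ ≠ 0 := by
    rintro rfl
    have hs0 : Nonempty (Fin s) := ⟨⟨0, by omega⟩⟩
    rw [Matrix.det_zero] at hG2
    exact not_isUnit_zero hG2
  obtain ⟨ε, hε, h1, h2⟩ := exists_eps G₁ G₂ hG1ne hG2ne (kron_skew hf e P G₁ G₂ hT)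
  by_cases hq : Odd (Fintype.card F)
  · -- `q` odd
    have hswap := Cfsg.Agent.Lib.Helper8.S5630I4TENS3.tensorProductSubgroup_swap (F := F) e P
    rcases hε with rfl | rfl
    · -- `G₁` symmetric, `G₂` skew: swap
      rw [one_smul] at h1
      rw [neg_smul, one_smul] at h2
      rcases (by omega : d = 2 ∨ 3 ≤ d) with rfl | hd3
      · obtain ⟨Z, δ, hδ, hZ, hskew, hns, hnorm⟩ := exists_skew_elt hf hq H hHI (by omega : 1 ≤ s)
          (e.trans (Equiv.prodComm (Fin 2) (Fin s))) P G₂ G₁ hG2 hG1 h1 (tf_swap e P G₁ G₂ hT) (hswap ▸ hle)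
        exact sp_of_skew_elt hf hq H hHI hirr hKT Z δ hδ hZ hskew hns hnorm
      · exact sp_tensor_std hf hq H (e.trans (Equiv.prodComm (Fin d) (Fin s))) P G₂ G₁ hG2 hG1 h2 h1 hd3
          (tf_swap e P G₁ G₂ hT) (hswap ▸ hle)
    · -- `G₁` skew, `G₂` symmetric
      rw [neg_smul, one_smul] at h1
      rw [neg_neg, one_smul] at h2
      rcases (by omega : s = 2 ∨ 3 ≤ s) with rfl | hs3
      · obtain ⟨Z, δ, hδ, hZ, hskew, hns, hnorm⟩ := exists_skew_elt hf hq H hHI (by omega : 1 ≤ d) e P G₁ G₂ hG1 hG2 h2 hT hle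
        exact sp_of_skew_elt hf hq H hHI hirr hKT Z δ hδ hZ hskew hns hnorm
      · exact sp_tensor_std hf hq H e P G₁ G₂ hG1 hG2 h1 h2 hs3 hT hle
  · -- `q` even
    have h20 : (2 : F) = 0 := two_eq_zero_of_not_odd hq
    have hneg : (-1 : F) = 1 := by
      have : (1 : F) + 1 = 0 := by rw [one_add_one_eq_two]; exact h20
      exact (eq_neg_of_add_eq_zero_left this).symm
    have h1' : G₁ᵀ = G₁ := by
      rcases hε with rfl | rfl
      · rw [h1, one_smul]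
      · rw [h1, hneg, one_smul]
    have h2' : G₂ᵀ = G₂ := by
      rcases hε with rfl | rfl
      · rw [h2, hneg, one_smul]
      · rw [h2, neg_neg, one_smul]
    exact sp_tensor_even hf hq H hHI e P G₁ G₂ hG1 hG2 h1' h2'
      (fun a => diag_zero_of_irr hq hd Y hY.1 G₁ h1' hinvY a)
      (fun b => diag_zero_right hf hq H hHI hirr (by omega) hs e P G₁ G₂ hG1 hG2 h2' hT hle b) hT hle

end Cfsg.Agent.Lib.Helper16.SpACliffSkel
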