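import Mathlib
import Cfsg.Prelude.Def_GeometricClasses
import Cfsg.Agent.Lib.Helper7.AschDefs
import Cfsg.Agent.Lib.Helper22.AschC7Defs
import Cfsg.Agent.Lib.Helper16.SpADefs
import Cfsg.Agent.Lib.Helper16.SpACliffSkel

/-!
# S5662, block SpI7 (`sp_c7`, the tensor-induced case with an alternating form): EXACT-SIGNATURE STUBS + REAL assembly (helper16)

Vocabulary of helper22's I7 (`Lib/Helper22/AschC7Defs`: `cj`, `conjAlg`, `pt`, `pos`).  `TFP f e P G` := `∀ x y, f (P (x ∘ e)) (P (y ∘ e)) = formOfGram id G x y`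
for `e : Fin n ≃ (Fin t → Fin m)`.

PIECES (claim by msg `TAKING S5662 C7-x`; own file `Cfsg/Agent/Lib/HelperN/S5662C7<x>.lean`, own ns, EXACT signature, never import this file):

* **C7-DATA** `c7_data`   re-run helper22's `AschC7Top.c7_case` (`exists_conj_enum`, `absIrr_iSup_cj`, `exists_algHom_span`, `exists_tensAlgHom`,
  `exists_reindex_conj`, `tensor_recognition`, `two_le_of_algHom`) keeping the data: `φ : M_m(F) →ₐ M_n(F)` with `L ⊆ φ(M_m)`, `range φ ⊆ span L`,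
  `φ_i := conjAlg (hs i) ∘ φ`, `Φ A = P · reindex (A) · P⁻¹` with `Φ (pos i a) = φ_i a`.  `Y := {a ∈ GL_m | φ a ∈ L}`: then `P · reindex (pos i a) · P⁻¹ =
  (hs i) (φ a) (hs i)⁻¹ ∈ cj (hs i) L ≤ H`; `span Y = ⊤` because `φ` is injective and `range φ ⊆ span L = span (φ Y)`; hence `AbsIrr Y`; `Y ≅ L` is perfect
  and not scalar.  (helper22: the same data is what your U7 needs.)
* **C7-G** `exists_tfp`   `G := reindex e e (Pᵀ * gramMatrix f * P)` (any bilinear non-degenerate `f`).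
* **C7-S** `tfp_skew`   `Gᵀ = -G` for alternating `f`.
* **C7-I** `pos_inv`   `g = P · reindex (pos i a) · P⁻¹ ∈ Iso f` ⇒ `(pos i a)ᵀ * G * pos i a = G`.
* **C7-F** `exists_inv_form`   (1) a non-zero block `B a b := G (update x₀ 0 a) (update y₀ 0 b)` is `Y`-invariant; (2) `B` is invertible (`Y` irreducible: `ker B` is
  invariant; or Helper23.S5630CoreF1); (3) `pt (fun _ => B)` is invariant under every `pos i a`, `a ∈ Y` (`pt_mul_pos`, `pos_mul_pt`, `pt_transpose` of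
  `Lib/Helper22/AschC7Core`); (4) `G⁻¹ * pt B` commutes with `pos i a` for `a ∈ Y`, hence (`span Y = ⊤`, linearity of `pos i`) for all `a`, so it is a scalar
  (`AschC7Core.scalar_of_commute_pos`), non-zero since `pt B ≠ 0`.
* **C7-E** `transpose_eq_or_neg`   wrap `Cfsg.Agent.Lib.Helper12.S5630I6BForm.transpose_eq_or_eq_neg`.
* **C7-O** `odd_of_pt_skew`   `(pt B)ᵀ = pt Bᵀ = ε^t pt B = - pt B`, `pt B ≠ 0`, `2 ≠ 0` ⇒ `ε = -1`, `t` odd.
* **C7-STD** `sp_c7_std`   `InSp.tensorPower` with `f₁ := formOfGram id B` (`gramMatrix f₁ = B`; `IsSymplecticForm f₁` as in SpT-T4).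
* **C7-32** `le_scalars_of_perfect_gl2_three`   a perfect subgroup of `GL_2(F)`, `|F| = 3`, is trivial (it acts on the 4 points of the projective line: image in `S₄`
  perfect hence trivial [`A₄ / V₄` cyclic, `V₄` abelian], kernel = scalars, abelian; or: `|GL_2(3)| = 48`, Sylow).
* **C7-EV** `sp_c7_even`   `q` even, `B` symmetric with zero diagonal, `U :=` strictly upper triangular part of `B`: `Q v := c · x ⬝ᵥ (pt (update (fun _ => B) 0 U)) *ᵥ x` for
  `v = P (x ∘ e)`; polar `Q = f` (multilinearity of `pt` in position 0: `pt_update_add`); `Q` vanishes on pure tensors `⊗ u_i` (`t ≥ 2`, `u ⬝ᵥ B *ᵥ u = 0`);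
  `h ∈ H`: `g := P⁻¹ h P` reindexed lies in `tensorWreathStandard`, maps pure tensors to pure tensors (`Cfsg.Agent.Lib.Helper10.S5707L4b.wreath_mulVec_pure`);
  `D := Q ∘ h - Q` is additive (`h ∈ Iso f`) with `D (c v) = c² D v` and vanishes on pure tensors, which span: `D = 0`.  `InSp.quadratic`.
-/

set_option autoImplicit false
set_option linter.unusedSectionVars false
set_option linter.unusedVariables false

namespace Cfsg.Agent.Lib.Helper16.SpAC7Skel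

open Matrix Cfsg.Geo Cfsg.Agent.Lib.Helper7.Asch Cfsg.Agent.Lib.Helper16.SpA Cfsg.Agent.Lib.Helper22.AschC7
open scoped Kronecker commutatorElement

variable {F : Type*} [Field F] [Fintype F] {n : ℕ} {f : (Fin n → F) → (Fin n → F) → F}

/-- the form `f`, transported by `P` and `e`, has Gram matrix `G` (tensor-power coordinates) -/
def TFP (f : (Fin n → F) → (Fin n → F) → F) {m t : ℕ} (e : Fin n ≃ (Fin t → Fin m)) (P : GL (Fin n) F)
    (G : Matrix (Fin t → Fin m) (Fin t → Fin m) F) : Prop :=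
  ∀ x y : (Fin t → Fin m) → F,
    f ((P : Matrix (Fin n) (Fin n) F) *ᵥ (x ∘ e)) ((P : Matrix (Fin n) (Fin n) F) *ᵥ (y ∘ e)) = formOfGram id G x y

/-- **C7-DATA** -/
theorem c7_data (hn : 3 ≤ n) (H L : Subgroup (GL (Fin n) F)) (hH : AbsIrr H) (hQP : QP H)
    (hLH : L ≤ H) (hLs : ¬ L ≤ scalars (Fin n) F) (hperf : ⁅L, L⁆ = L) (hqs : SimpleModScal L)
    (hconj : ∀ h ∈ H, (∀ x ∈ L, h * x * h⁻¹ ∈ L) ∨
      (∀ x ∈ L, ∀ y ∈ L, (h * x * h⁻¹) * y = y * (h * x * h⁻¹)))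
    (hnn : ¬ NormBy H L) :
    ∃ (m t : ℕ) (e : Fin n ≃ (Fin t → Fin m)) (P : GL (Fin n) F) (Y : Subgroup (GL (Fin m) F)),
      2 ≤ m ∧ 2 ≤ t ∧ H ≤ tensorWreathSubgroup m t e P ∧ AbsIrr Y ∧ Submodule.span F (matrixSet Y) = ⊤ ∧
      ⁅Y, Y⁆ = Y ∧ ¬ Y ≤ scalars (Fin m) F ∧
      ∀ i : Fin t, ∀ a ∈ Y, ∃ g ∈ H, (g : Matrix (Fin n) (Fin n) F) = (P : Matrix (Fin n) (Fin n) F) *
        Matrix.reindex e.symm e.symm (pos i (a : Matrix (Fin m) (Fin m) F)) *
        ((P⁻¹ : GL (Fin n) F) : Matrix (Fin n) (Fin n) F) := by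
  sorry

/-- **C7-G** -/
theorem exists_tfp (hf : IsBilinearForm f) (hnd : IsNondegenerateForm f) {m t : ℕ} (e : Fin n ≃ (Fin t → Fin m))
    (P : GL (Fin n) F) : ∃ G : Matrix (Fin t → Fin m) (Fin t → Fin m) F, IsUnit G.det ∧ TFP f e P G := by
  sorry

/-- **C7-S** -/
theorem tfp_skew (hf : IsSymplecticForm f) {m t : ℕ} (e : Fin n ≃ (Fin t → Fin m)) (P : GL (Fin n) F)
    (G : Matrix (Fin t → Fin m) (Fin t → Fin m) F) (hT : TFP f e P G) : Gᵀ = -G := by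
  sorry

/-- **C7-I** -/
theorem pos_inv {m t : ℕ} (e : Fin n ≃ (Fin t → Fin m)) (P : GL (Fin n) F)
    (G : Matrix (Fin t → Fin m) (Fin t → Fin m) F) (hT : TFP f e P G) (A : Matrix (Fin t → Fin m) (Fin t → Fin m) F)
    (g : GL (Fin n) F) (hg : g ∈ Iso f)
    (hgA : (g : Matrix (Fin n) (Fin n) F) = (P : Matrix (Fin n) (Fin n) F) * Matrix.reindex e.symm e.symm A *
      ((P⁻¹ : GL (Fin n) F) : Matrix (Fin n) (Fin n) F)) : Aᵀ * G * A = G := by
  sorry

/-- **C7-F** -/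
theorem exists_inv_form {m t : ℕ} (hm : 1 ≤ m) (ht : 1 ≤ t) (Y : Subgroup (GL (Fin m) F)) (hY : AbsIrr Y)
    (hspan : Submodule.span F (matrixSet Y) = ⊤) (G : Matrix (Fin t → Fin m) (Fin t → Fin m) F) (hG : IsUnit G.det)
    (hinv : ∀ i : Fin t, ∀ a ∈ Y, (pos i (a : Matrix (Fin m) (Fin m) F))ᵀ * G * pos i (a : Matrix (Fin m) (Fin m) F) = G) :
    ∃ (B : Matrix (Fin m) (Fin m) F) (c : F), c ≠ 0 ∧ IsUnit B.det ∧
      (∀ a ∈ Y, (a : Matrix (Fin m) (Fin m) F)ᵀ * B * (a : Matrix (Fin m) (Fin m) F) = B) ∧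
      G = c • pt (fun _ : Fin t => B) := by
  sorry

/-- **C7-E** -/
theorem transpose_eq_or_neg {m : ℕ} (Y : Subgroup (GL (Fin m) F)) (hY : AbsIrr Y) (B : Matrix (Fin m) (Fin m) F)
    (hB : IsUnit B.det) (hinv : ∀ a ∈ Y, (a : Matrix (Fin m) (Fin m) F)ᵀ * B * (a : Matrix (Fin m) (Fin m) F) = B) :
    Bᵀ = B ∨ Bᵀ = -B := by
  sorry

/-- **C7-O** -/
theorem odd_of_pt_skew (h2 : (2 : F) ≠ 0) {m t : ℕ} (B : Matrix (Fin m) (Fin m) F) (hB : IsUnit B.det) (hm : 1 ≤ m)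
    (hsym : Bᵀ = B ∨ Bᵀ = -B) (hskew : (pt (fun _ : Fin t => B))ᵀ = -(pt (fun _ : Fin t => B))) : Bᵀ = -B ∧ Odd t := by
  sorry

/-- **C7-STD** -/
theorem sp_c7_std (hf : IsSymplecticForm f) (hq : Odd (Fintype.card F)) (H : Subgroup (GL (Fin n) F)) {m t : ℕ}
    (e : Fin n ≃ (Fin t → Fin m)) (P : GL (Fin n) F) (B : Matrix (Fin m) (Fin m) F) (c : F) (hc : c ≠ 0)
    (hB : IsUnit B.det) (hskew : Bᵀ = -B) (hto : Odd t) (h3 : 3 ≤ t) (hex : ¬ (Fintype.card F = 3 ∧ m = 2))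
    (hT : TFP f e P (c • pt (fun _ : Fin t => B))) (hle : H ≤ tensorWreathSubgroup m t e P) : InSp f H := by
  sorry

/-- **C7-32** -/
theorem le_scalars_of_perfect_gl2_three (h3 : Fintype.card F = 3) (Y : Subgroup (GL (Fin 2) F)) (hperf : ⁅Y, Y⁆ = Y) :
    Y ≤ scalars (Fin 2) F := by
  sorry

/-- **C7-EV** -/
theorem sp_c7_even (hf : IsSymplecticForm f) (hq : ¬ Odd (Fintype.card F)) (H : Subgroup (GL (Fin n) F))
    (hHI : H ≤ Iso f) {m t : ℕ} (ht : 2 ≤ t) (e : Fin n ≃ (Fin t → Fin m)) (P : GL (Fin n) F)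
    (B : Matrix (Fin m) (Fin m) F) (c : F) (hc : c ≠ 0) (hsym : Bᵀ = B) (hdiag : ∀ a, B a a = 0)
    (hT : TFP f e P (c • pt (fun _ : Fin t => B))) (hle : H ≤ tensorWreathSubgroup m t e P) : InSp f H := by
  sorry

/-! ## the assembly, REAL -/

/-- **SpI7** the tensor-induced case: class 7 (`q` odd) or class 8 (`q` even); same statement as the stub `SpATop.sp_c7` -/
theorem sp_c7 (hf : IsSymplecticForm f) (hn : 4 ≤ n) (H L : Subgroup (GL (Fin n) F)) (hHI : H ≤ Iso f)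
    (hH : AbsIrr H) (hQP : QP H) (hLH : L ≤ H) (hLs : ¬ L ≤ scalars (Fin n) F) (hperf : ⁅L, L⁆ = L)
    (hqs : SimpleModScal L)
    (hconj : ∀ h ∈ H, (∀ x ∈ L, h * x * h⁻¹ ∈ L) ∨
      (∀ x ∈ L, ∀ y ∈ L, (h * x * h⁻¹) * y = y * (h * x * h⁻¹)))
    (hnn : ¬ NormBy H L) : InSp f H := by
  obtain ⟨m, t, e, P, Y, hm, ht, hle, hYabs, hspan, hYperf, hYns, hpos⟩ :=
    c7_data (by omega) H L hH hQP hLH hLs hperf hqs hconj hnn
  obtain ⟨G, hGu, hT⟩ := exists_tfp hf.bilinear hf.nondegenerate e P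
  have hinv : ∀ i : Fin t, ∀ a ∈ Y,
      (pos i (a : Matrix (Fin m) (Fin m) F))ᵀ * G * pos i (a : Matrix (Fin m) (Fin m) F) = G := by
    intro i a ha
    obtain ⟨g, hgH, hg⟩ := hpos i a ha
    exact pos_inv e P G hT _ g (hHI hgH) hg
  obtain ⟨B, c, hc, hBu, hBinv, hGB⟩ := exists_inv_form (by omega) (by omega) Y hYabs hspan G hGu hinv
  have hBsym := transpose_eq_or_neg Y hYabs B hBu hBinv
  have hGskew : Gᵀ = -G := tfp_skew hf e P G hT
  have hptskew : (pt (fun _ : Fin t => B))ᵀ = -(pt (fun _ : Fin t => B)) := by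
    rw [hGB, Matrix.transpose_smul, ← smul_neg] at hGskew
    exact smul_right_injective _ hc hGskew
  rw [hGB] at hT
  by_cases hq : Odd (Fintype.card F)
  · obtain ⟨hB, hto⟩ := odd_of_pt_skew (Cfsg.Agent.Lib.Helper16.SpACliffSkel.two_ne_zero_of_odd hq) B hBu (by omega)
      hBsym hptskew
    have h3 : 3 ≤ t := by
      obtain ⟨k, hk⟩ := hto
      omega
    have hex : ¬ (Fintype.card F = 3 ∧ m = 2) := by
      rintro ⟨h3', rfl⟩
      exact hYns (le_scalars_of_perfect_gl2_three h3' Y hYperf)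
    exact sp_c7_std hf hq H e P B c hc hBu hB hto h3 hex hT hle
  · have h20 : (2 : F) = 0 := Cfsg.Agent.Lib.Helper16.SpACliffSkel.two_eq_zero_of_not_odd hq
    have hB : Bᵀ = B := by
      rcases hBsym with h | h
      · exact h
      · rw [h]
        have : (1 : F) + 1 = 0 := by rw [one_add_one_eq_two]; exact h20
        have hneg : (-1 : F) = 1 := (eq_neg_of_add_eq_zero_left this).symm
        rw [← neg_one_smul F B, hneg, one_smul]
    exact sp_c7_even hf hq H hHI ht e P B c hc hB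
      (fun a => Cfsg.Agent.Lib.Helper16.SpACliffSkel.diag_zero_of_irr hq hm Y hYabs.1 B hB hBinv a) hT hle

end Cfsg.Agent.Lib.Helper16.SpAC7Skel
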