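import Mathlib
import Cfsg.Prelude.Def_GeometricClasses
import Cfsg.Agent.Lib.Helper7.AschDefs
import Cfsg.Agent.Lib.Helper11.AschCliffDefs
import Cfsg.Agent.Lib.Helper11.FormCliffDefs
import Cfsg.Agent.Lib.Helper16.SpADefs
import Cfsg.Agent.Lib.Helper16.SpACliffSkel

/-!
# S5662, block SpI4: from the outcomes of helper11's Clifford-with-forms to `InSp`  (helper16)
-/

set_option autoImplicit false
set_option linter.unusedSectionVars false
set_option linter.unusedVariables false

namespace Cfsg.Agent.Lib.Helper16.SpACliff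

open Matrix Cfsg.Geo Cfsg.Agent.Lib.Helper7.Asch Cfsg.Agent.Lib.Helper16.SpA Cfsg.Agent.Lib.Helper11.Cliff
  Cfsg.Agent.Lib.Helper11.FCliff Cfsg.Agent.Lib.Helper16.SpACliffSkel
open scoped Kronecker

variable {F : Type*} [Field F] [Fintype F] {n : ℕ} {f : (Fin n → F) → (Fin n → F) → F}

/-- an alternating form is a reflexive sesquilinear form for `σ = id` -/
theorem rsForm_of_symplectic (hf : IsSymplecticForm f) : RSForm (RingEquiv.refl F) f where
  add_left := hf.bilinear.add_left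
  smul_left := hf.bilinear.smul_left
  add_right := hf.bilinear.add_right
  smul_right := fun c v x => by
    rw [hf.bilinear.smul_right]
    rfl
  refl := fun u v h => by rw [hf.skew, h, neg_zero]
  nondeg := hf.nondegenerate

theorem fixesForm_of_le_Iso' (H : Subgroup (GL (Fin n) F)) (hHI : H ≤ Iso f) : FixesForm (matrixSet H) f := by
  rintro _ ⟨g, hg, rfl⟩ u v
  exact hHI hg u v

/-- the four outcomes of Clifford theory with a form give a member of a class -/
theorem sp_of_outcome (hf : IsSymplecticForm f) (H N : Subgroup (GL (Fin n) F)) (hHI : H ≤ Iso f) (hirr : Irr H)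
    (hKT : ∀ (r : ℕ) (K : Subalgebra F (Matrix (Fin n) (Fin n) F)), r.Prime → IsFieldSubalgebra r K →
      IsAdjointClosedFor f K → H ≤ subalgebraNormalizer K → InSp f H)
    (hout : (∃ (t m : ℕ) (D : Fin t → Submodule F (Fin n → F)), IsNondegenerateMDecomposition f m D ∧
        H ≤ decompositionStabilizer D) ∨
      (∃ (m : ℕ) (D : Fin 2 → Submodule F (Fin n → F)), IsMDecomposition m D ∧
        (∀ i, IsTotallySingularFor f (D i)) ∧ H ≤ decompositionStabilizer D) ∨
      (∃ (r : ℕ) (K : Subalgebra F (Matrix (Fin n) (Fin n) F)), r.Prime ∧ IsFieldSubalgebra r K ∧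
        IsAdjointClosedFor f K ∧ H ≤ subalgebraNormalizer K) ∨
      (∃ (d s : ℕ) (e : Fin n ≃ Fin d × Fin s) (P : GL (Fin n) F) (Y : Subgroup (GL (Fin d) F))
        (G₁ : Matrix (Fin d) (Fin d) F) (G₂ : Matrix (Fin s) (Fin s) F),
        2 ≤ d ∧ 2 ≤ s ∧ AbsIrr Y ∧ N = Y.map (kronL e P) ∧ IsUnit G₁.det ∧ IsUnit G₂.det ∧
        (∀ y ∈ Y, (y : Matrix (Fin d) (Fin d) F)ᵀ * G₁ * (y : Matrix (Fin d) (Fin d) F).map (RingEquiv.refl F) = G₁) ∧
        H ≤ tensorProductSubgroup d s e P ∧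
        ∀ x y : Fin d × Fin s → F,
          f ((P : Matrix (Fin n) (Fin n) F) *ᵥ (x ∘ e)) ((P : Matrix (Fin n) (Fin n) F) *ᵥ (y ∘ e)) =
            formOfGram (RingEquiv.refl F) (G₁ ⊗ₖ G₂) x y)) : InSp f H := by
  rcases hout with ⟨t, m, D, hD, hle⟩ | ⟨m, D, hD, hts, hle⟩ | ⟨r, K, hr, hK, hac, hle⟩ |
    ⟨d, s, e, P, Y, G₁, G₂, hd, hs, hY, _, hG1, hG2, hinvY, hle, hform⟩
  · exact .decomp m D hD hle
  · exact sp_of_tsPair hf H hHI m D hD hts hle
  · exact hKT r K hr hK hac hle
  · refine sp_tensor hf H hHI hirr (fun K hK hac hle' => hKT 2 K Nat.prime_two hK hac hle') e P Y G₁ G₂ hd hs hY hG1 hG2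
      ?_ hle ?_
    · intro y hy
      have h := hinvY y hy
      have hmap : (y : Matrix (Fin d) (Fin d) F).map (RingEquiv.refl F) = (y : Matrix (Fin d) (Fin d) F) := by
        ext i j
        rfl
      rwa [hmap] at h
    · intro x y
      rw [hform x y]
      rfl

end Cfsg.Agent.Lib.Helper16.SpACliff
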