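import Mathlib
import Cfsg.Prelude.Def_GeometricClasses
import Cfsg.Prelude.Def_ClassicalGeometry
import Cfsg.Agent.Lib.Helper7.AschDefs
import Cfsg.Agent.Lib.Helper6.Symp
import Cfsg.Agent.Lib.Helper2.SympCenter
import Cfsg.Agent.Lib.Helper16.SpADefs
import Cfsg.Agent.Lib.Helper16.GeoTRDefs
import Cfsg.Agent.Lib.Helper19.GeoTRF
import Cfsg.Agent.Lib.Helper19.GeoTRW
import Cfsg.Agent.Lib.Helper19.GeoTRD
import Cfsg.Agent.Lib.Helper19.GeoTRQ
import Cfsg.Agent.Lib.Helper19.GeoTRS
import Cfsg.Agent.Lib.Helper19.GeoTRR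
import Cfsg.Agent.Lib.Helper19.GeoTRC
import Cfsg.Agent.Lib.Helper14.GeoTRK
import Cfsg.Agent.Lib.Helper14.GeoTRT

/-!
# S5662, block TR: transport between `Fin (m + m)` (the hub world) and `Fin m ⊕ Fin m` (the frozen statement)  (helper16)
-/

set_option autoImplicit false
set_option linter.unusedSectionVars false

namespace Cfsg.Agent.Lib.Helper16.SpATR

open Matrix Cfsg.Geo Cfsg.Agent.Lib.Helper7.Asch Cfsg.Agent.Lib.Helper16.GeoTR Cfsg.Agent.Lib.Helper16.SpA
open Cfsg.Agent.Lib.Helper19.GeoTR Cfsg.Agent.Lib.Helper14.GeoTR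

variable {F : Type*} [Field F] [Fintype F]

/-- the reindexing bijection -/
abbrev ee (m : ℕ) : Fin m ⊕ Fin m ≃ Fin (m + m) := finSumFinEquiv

/-- the standard alternating form transported to `Fin (m + m)` -/
def stdF (m : ℕ) (F : Type*) [Field F] (u v : Fin (m + m) → F) : F :=
  Cfsg.sympForm m F (u ∘ finSumFinEquiv) (v ∘ finSumFinEquiv)

theorem stdF_eq (m : ℕ) : stdF m F = tf (ee m) (Cfsg.sympForm m F) := rfl

theorem tf_symm_stdF (m : ℕ) : tf (ee m).symm (stdF m F) = Cfsg.sympForm m F := by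
  rw [stdF_eq, tf_symm_tf]

theorem isSymplecticForm_sympForm (m : ℕ) : IsSymplecticForm (Cfsg.sympForm m F) where
  bilinear :=
    { add_left := fun x y v => Cfsg.Agent.Lib.Helper6.sympForm_add_left x y v
      smul_left := fun c x v => Cfsg.Agent.Lib.Helper6.sympForm_smul_left c x v
      add_right := fun v x y => Cfsg.Agent.Lib.Helper6.sympForm_add_right v x y
      smul_right := fun c v x => Cfsg.Agent.Lib.Helper6.sympForm_smul_right c v x }
  skew := fun v w => Cfsg.Agent.Lib.Helper6.sympForm_swap v w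
  alternating := fun v => Cfsg.Agent.Lib.Helper6.sympForm_self v
  nondegenerate := by
    intro v hv
    obtain ⟨x, hx⟩ := Cfsg.Agent.Lib.Helper2.exists_sympForm_ne_zero (F := F) hv
    refine ⟨⟨x, hx⟩, ⟨x, ?_⟩⟩
    rw [Cfsg.Agent.Lib.Helper6.sympForm_swap]
    exact neg_ne_zero.mpr hx

/-- **TR1** -/
theorem isSymplecticForm_stdF (m : ℕ) : IsSymplecticForm (stdF m F) := by
  rw [stdF_eq]
  exact isSymplecticForm_tf _ (isSymplecticForm_sympForm m)

/-- **TR2** -/
theorem map_le_Iso (m : ℕ) (H : Subgroup (GL (Fin m ⊕ Fin m) F)) (hH : H ≤ Cfsg.spGL m F) :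
    H.map (glReindex (F := F) (ee m)).toMonoidHom ≤ Iso (stdF m F) := by
  rintro _ ⟨h, hh, rfl⟩
  have h1 : ∀ u v, Cfsg.sympForm m F ((h : Matrix _ _ F) *ᵥ u) ((h : Matrix _ _ F) *ᵥ v) = Cfsg.sympForm m F u v :=
    hH hh
  rw [mem_Iso]
  intro u v
  simp only [MulEquiv.toMonoidHom_eq_coe, MonoidHom.coe_coe]
  rw [stdF_eq, tf_apply, glReindex_mulVec_comp, glReindex_mulVec_comp, h1, tf_apply]

/-- pulling the membership back -/
theorem mem_of_map_le (m : ℕ) (H : Subgroup (GL (Fin m ⊕ Fin m) F)) (X : Subgroup (GL (Fin (m + m)) F))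
    (hX : H.map (glReindex (F := F) (ee m)).toMonoidHom ≤ X) {h : GL (Fin m ⊕ Fin m) F} (hh : h ∈ H) :
    glReindex (ee m) h ∈ X :=
  hX ⟨h, hh, rfl⟩

/-- **TR3** (eleven cases, one per constructor of `InSp`) -/
theorem inSymplecticClass_of_inSp (m : ℕ) (H : Subgroup (GL (Fin m ⊕ Fin m) F)) (hH : H ≤ Cfsg.spGL m F)
    (h : InSp (stdF m F) (H.map (glReindex (F := F) (ee m)).toMonoidHom)) :
    ∃ M : Subgroup (GL (Fin m ⊕ Fin m) F), InSymplecticClass m F M ∧ H ≤ M := by
  have hback : ∀ g : GL (Fin m ⊕ Fin m) F, glReindex (ee m).symm (glReindex (ee m) g) = g :=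
    fun g => glReindex_symm_glReindex (ee m) g
  have hf := tf_symm_stdF (F := F) m
  cases h with
  | ts W h0 hts hHW =>
    refine ⟨subspaceStabilizer (tW (ee m).symm W) ⊓ Cfsg.spGL m F, Or.inl (Or.inl ⟨tW (ee m).symm W, tW_ne_bot _ h0, ?_, rfl⟩), ?_⟩
    · have := isTotallySingularFor_tW (ee m).symm hts
      rwa [hf] at this
    · intro g hg
      refine ⟨?_, hH hg⟩
      have := mem_subspaceStabilizer_tW (ee m).symm (mem_of_map_le m H _ hHW hg)
      rwa [hback] at this
  | nondeg W h0 hnd hdim hHW =>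
    refine ⟨subspaceStabilizer (tW (ee m).symm W) ⊓ Cfsg.spGL m F,
      Or.inl (Or.inr (Or.inl ⟨tW (ee m).symm W, tW_ne_bot _ h0, ?_, ?_, rfl⟩)), ?_⟩
    · have := isNondegenerateOn_tW (ee m).symm hnd
      rwa [hf] at this
    · rw [finrank_tW]
      omega
    · intro g hg
      refine ⟨?_, hH hg⟩
      have := mem_subspaceStabilizer_tW (ee m).symm (mem_of_map_le m H _ hHW hg)
      rwa [hback] at this
  | @decomp t k D hD hHD =>
    refine ⟨decompositionStabilizer (fun i => tW (ee m).symm (D i)) ⊓ Cfsg.spGL m F,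
      Or.inl (Or.inr (Or.inr (Or.inl ⟨t, k, fun i => tW (ee m).symm (D i), ?_, rfl⟩))), ?_⟩
    · have := isNondegenerateMDecomposition_tW (ee m).symm hD
      rwa [hf] at this
    · intro g hg
      refine ⟨?_, hH hg⟩
      have := mem_decompositionStabilizer_tW (ee m).symm (mem_of_map_le m H _ hHD hg)
      rwa [hback] at this
  | tsPair k D hq hk hD hts hHD =>
    have hkm : k = m := by omega
    subst hkm
    refine ⟨decompositionStabilizer (fun i => tW (ee k).symm (D i)) ⊓ Cfsg.spGL k F,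
      Or.inl (Or.inr (Or.inr (Or.inr (Or.inl ⟨fun i => tW (ee k).symm (D i), hq, isMDecomposition_tW _ hD, ?_, rfl⟩)))), ?_⟩
    · intro i
      have := isTotallySingularFor_tW (ee k).symm (hts i)
      rwa [hf] at this
    · intro g hg
      refine ⟨?_, hH hg⟩
      have := mem_decompositionStabilizer_tW (ee k).symm (mem_of_map_le k H _ hHD hg)
      rwa [hback] at this
  | subfield F₀ r P ζ hr hcard hζ hform hHS =>
    refine ⟨subfieldSubgroup F₀ (glReindex (ee m).symm P) ⊓ Cfsg.spGL m F,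
      Or.inl (Or.inr (Or.inr (Or.inr (Or.inr (Or.inl ⟨F₀, r, glReindex (ee m).symm P, ζ, hr, hcard, hζ, ?_, rfl⟩))))), ?_⟩
    · have := isFormRationalStructure_tf (ee m).symm F₀ ζ P hform
      rwa [hf] at this
    · intro g hg
      refine ⟨?_, hH hg⟩
      have := mem_subfieldSubgroup_glReindex (ee m).symm F₀ P (mem_of_map_le m H _ hHS hg)
      rwa [hback] at this
  | extraspecial R p k hR habs hsim hp hpo hcard hRc hZ hminus hHR =>
    refine ⟨subgroupNormalizer (R.map (glReindex (F := F) (ee m).symm).toMonoidHom) ⊓ Cfsg.spGL m F,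
      Or.inl (Or.inr (Or.inr (Or.inr (Or.inr (Or.inr (Or.inl
        ⟨R.map (glReindex (F := F) (ee m).symm).toMonoidHom, p, k, isSymplecticTypeGroup_map _ 2 R hR,
          actsAbsolutelyIrreducibly_map _ R habs, ?_, hp, hpo, hcard, ?_, ?_,
          isOfMinusType_map _ k R hminus, rfl⟩)))))), ?_⟩
    · have := map_le_similarityGroup (ee m).symm R hsim
      rwa [hf] at this
    · rw [card_map, hRc]
    · rw [card_center_map, hZ]
    · intro g hg
      refine ⟨?_, hH hg⟩
      have := mem_subgroupNormalizer_map (ee m).symm R (mem_of_map_le m H _ hHR hg)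
      rwa [hback] at this
  | quadratic Q hq hQ hpolar hHQ =>
    refine ⟨quadSimilarityGroup (tq (ee m).symm Q) ⊓ Cfsg.spGL m F,
      Or.inl (Or.inr (Or.inr (Or.inr (Or.inr (Or.inr (Or.inr
        ⟨tq (ee m).symm Q, hq, isNondegenerateQuadraticForm_tq _ hQ, ?_, rfl⟩)))))), ?_⟩
    · intro u v
      rw [polar_tq, hpolar, ← hf, tf_apply]
    · intro g hg
      refine ⟨?_, hH hg⟩
      have := mem_quadSimilarityGroup_tq (ee m).symm (mem_of_map_le m H _ hHQ hg)
      rwa [hback] at this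
  | fieldSA r K hr hK hsa halt hHK =>
    refine ⟨subalgebraNormalizer (tK (ee m).symm K) ⊓ Cfsg.spGL m F,
      Or.inr (Or.inl ⟨r, tK (ee m).symm K, hr, isFieldSubalgebra_tK _ r K hK, ?_, ?_, rfl⟩), ?_⟩
    · have := isSelfAdjointFor_tK (ee m).symm K hsa
      rwa [hf] at this
    · have := alt_tK (ee m).symm K halt
      rwa [hf] at this
    · intro g hg
      refine ⟨?_, hH hg⟩
      have := mem_subalgebraNormalizer_tK (ee m).symm K (mem_of_map_le m H _ hHK hg)
      rwa [hback] at this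
  | fieldU K hq hK hac hnsa hHK =>
    refine ⟨subalgebraNormalizer (tK (ee m).symm K) ⊓ Cfsg.spGL m F,
      Or.inr (Or.inr (Or.inl ⟨tK (ee m).symm K, hq, isFieldSubalgebra_tK _ 2 K hK, ?_, ?_, rfl⟩)), ?_⟩
    · have := isAdjointClosedFor_tK (ee m).symm K hac
      rwa [hf] at this
    · intro hsa
      rw [← hf] at hsa
      exact hnsa (isSelfAdjointFor_of_tK (ee m).symm K hsa)
    · intro g hg
      refine ⟨?_, hH hg⟩
      have := mem_subalgebraNormalizer_tK (ee m).symm K (mem_of_map_le m H _ hHK hg)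
      rwa [hback] at this
  | tensor n₁ n₂ e P f₁ f₂ hq h3 hf₁ hf₂ hten hHT =>
    refine ⟨tensorProductSubgroup n₁ n₂ ((ee m).symm.symm.trans e) (glReindex (ee m).symm P) ⊓ Cfsg.spGL m F,
      Or.inr (Or.inr (Or.inr (Or.inl ⟨n₁, n₂, (ee m).symm.symm.trans e, glReindex (ee m).symm P, f₁, f₂, hq, h3, hf₁, hf₂,
        ?_, rfl⟩))), ?_⟩
    · have := isTensorFormStructure_tf (ee m).symm id f₁ f₂ e P hten
      rwa [hf] at this
    · intro g hg
      refine ⟨?_, hH hg⟩
      have := mem_tensorProductSubgroup_glReindex (ee m).symm n₁ n₂ e P (mem_of_map_le m H _ hHT hg)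
      rwa [hback] at this
  | tensorPower k t e P f₁ hq hto h3 hex hf₁ hten hHT =>
    refine ⟨tensorWreathSubgroup k t ((ee m).symm.symm.trans e) (glReindex (ee m).symm P) ⊓ Cfsg.spGL m F,
      Or.inr (Or.inr (Or.inr (Or.inr ⟨k, t, (ee m).symm.symm.trans e, glReindex (ee m).symm P, f₁, hq, hto, h3, hex, hf₁,
        ?_, rfl⟩))), ?_⟩
    · have := isTensorPowerFormStructure_tf (ee m).symm id f₁ e P hten
      rwa [hf] at this
    · intro g hg
      refine ⟨?_, hH hg⟩
      have := mem_tensorWreathSubgroup_glReindex (ee m).symm k t e P (mem_of_map_le m H _ hHT hg)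
      rwa [hback] at this

/-- **TR4** -/
theorem residual_of_map (m : ℕ) (H : Subgroup (GL (Fin m ⊕ Fin m) F))
    (h : InSymplecticResidualClass (H.map (glReindex (F := F) (ee m)).toMonoidHom)) :
    InSymplecticResidualClass H := by
  obtain ⟨P', hcore, hnq, hnu⟩ := h
  have hPP : (P'.map (glReindex (F := F) (ee m).symm).toMonoidHom).map (glReindex (F := F) (ee m)).toMonoidHom = P' :=
    map_map_symm (ee m).symm P'
  refine ⟨P'.map (glReindex (F := F) (ee m).symm).toMonoidHom, ?_, ?_, ?_⟩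
  · have := isResidualCore_map (ee m).symm _ _ hcore
    rwa [map_map_symm] at this
  · rintro ⟨Q, hQ, hfix⟩
    refine hnq ⟨tq (ee m) Q, isNondegenerateQuadraticForm_tq _ hQ, ?_⟩
    have := fixesQuadForm_map (ee m) _ hfix
    rwa [hPP] at this
  · rintro ⟨σ, g, hg, hfix⟩
    refine hnu ⟨σ, tf (ee m) g, isUnitaryForm_tf _ σ hg, ?_⟩
    have := fixesForm_map (ee m) _ hfix
    rwa [hPP] at this

end Cfsg.Agent.Lib.Helper16.SpATR
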