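import Mathlib
import Cfsg.Prelude.Def_GeometricClasses
import Cfsg.Prelude.Def_ClassicalGeometry
import Cfsg.Agent.Lib.Helper7.AschDefs
import Cfsg.Agent.Lib.Helper8.S5630I1
import Cfsg.Agent.Lib.Helper23.S5630I5
import Cfsg.Agent.Lib.Helper12.S5630I8
import Cfsg.Agent.Lib.Helper16.SpADefs
import Cfsg.Agent.Lib.Helper2.FormRedSp
import Cfsg.Agent.Lib.Helper12.S5662SF
import Cfsg.Agent.Lib.Helper12.S5662I8U
import Cfsg.Agent.Lib.Helper16.SpATR
import Cfsg.Agent.Lib.Helper18.S5662Field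
import Cfsg.Agent.Lib.Helper12.S5662I8Q
import Cfsg.Agent.Lib.Helper3.SpC6
import Cfsg.Agent.Lib.Helper11.FormCliffMain
import Cfsg.Agent.Lib.Helper16.SpACliffReal
import Cfsg.Agent.Lib.Helper16.SpAC7Real

/-!
# S5662 (Aschbacher's theorem for `Sp_2m(q)`): TOP-LEVEL SKELETON (helper16).  ALL blocks are REAL (wired from the pieces of the team); `sp_main`,
`sp_s` and `result`.
-/

set_option autoImplicit false

namespace Cfsg.Agent.Lib.Helper16.SpA

open Matrix Cfsg.Geo Cfsg.Agent.Lib.Helper7.Asch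
open scoped commutatorElement

variable {F : Type*} [Field F] [Fintype F] {n : ℕ} {f : (Fin n → F) → (Fin n → F) → F}

/-! ## the blocks -/

/-- **SpI1** reducible: class 1 (totally singular / non-degenerate subspace) or class 2 (`{W, W^⊥}`, `2 dim W = n`) -/
theorem sp_reducible (hf : IsSymplecticForm f) (H : Subgroup (GL (Fin n) F)) (hHI : H ≤ Iso f) (h : ¬ Irr H) :
    InSp f H :=
  Cfsg.Agent.Lib.Helper2.FormRedSp.sp_reducible hf H hHI h

/-- **KT** a field subalgebra of prime degree, closed under adjoints, normalised by the irreducible `H`: class 3 (self-adjoint;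
or degree 2, not self-adjoint, `q` odd) or class 8 (degree 2, not self-adjoint, `q` even) -/
theorem sp_field (hf : IsSymplecticForm f) (hn : 4 ≤ n) (H : Subgroup (GL (Fin n) F)) (hHI : H ≤ Iso f) (hirr : Irr H)
    (r : ℕ) (K : Subalgebra F (Matrix (Fin n) (Fin n) F)) (hr : r.Prime) (hK : IsFieldSubalgebra r K)
    (hac : IsAdjointClosedFor f K) (hnorm : H ≤ subalgebraNormalizer K) : InSp f H :=
  Cfsg.Agent.Lib.Helper18.S5662Field.sp_field hf hn H hHI hirr r K hr hK hac hnorm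

/-- **SpI2** irreducible, not absolutely irreducible: the canonical prime-degree subfield of the commutant is closed under
adjoints; KT -/
theorem sp_not_absIrr (hf : IsSymplecticForm f) (hn : 4 ≤ n) (H : Subgroup (GL (Fin n) F)) (hHI : H ≤ Iso f)
    (h1 : Irr H) (h2 : ¬ AbsIrr H) : InSp f H :=
  Cfsg.Agent.Lib.Helper18.S5662Field.sp_not_absIrr hf hn H hHI h1 h2

/-- **SF** `H` normalises an absolutely irreducible group of isometries realisable over a proper subfield: class 5 -/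
theorem sp_realisable (hf : IsSymplecticForm f) (H R : Subgroup (GL (Fin n) F)) (hHI : H ≤ Iso f) (hRI : R ≤ Iso f)
    (hR : AbsIrr R) (hnorm : NormBy H R) (F₀ : Subfield F) (h0 : F₀ ≠ ⊤)
    (hreal : RealisableOver F₀ (matrixSet R)) : InSp f H :=
  Cfsg.Agent.Lib.Helper12.S5662SF.sp_realisable hf H R hHI hRI hR hnorm F₀ h0 hreal

/-- **SpI4** Clifford theory with a form -/
theorem sp_clifford (hf : IsSymplecticForm f) (hn : 4 ≤ n) (H N : Subgroup (GL (Fin n) F)) (hHI : H ≤ Iso f)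
    (hH : AbsIrr H) (hNH : N ≤ H) (hnorm : NormBy H N) (hns : ¬ N ≤ scalars (Fin n) F) (hna : ¬ AbsIrr N) :
    InSp f H := by
  rcases Cfsg.Agent.Lib.Helper11.FCliffMain.clifford_form (by omega)
    (Cfsg.Agent.Lib.Helper16.SpACliffReal.rsForm_of_symplectic hf) H N hH hNH hnorm
    (Cfsg.Agent.Lib.Helper16.SpACliffReal.fixesForm_of_le_Iso' H hHI) with hout | hs | ha
  · exact Cfsg.Agent.Lib.Helper16.SpACliffReal.sp_of_outcome hf H N hHI hH.1
      (fun r K hr hK hac hle => sp_field hf hn H hHI hH.1 r K hr hK hac hle) hout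
  · exact absurd hs hns
  · exact absurd ha hna

/-- **SpI6** the symplectic-type case: `r = 2`, `N` extraspecial of minus type; class 6 (`q = p`) or class 5 -/
theorem sp_c6 (hf : IsSymplecticForm f) (hn : 4 ≤ n) (H N : Subgroup (GL (Fin n) F)) (r : ℕ) (hHI : H ≤ Iso f)
    (hH : AbsIrr H) (hQP : QP H) (hNH : N ≤ H) (hnorm : NormBy H N) (hNs : ¬ N ≤ scalars (Fin n) F)
    (hmin : ∀ K : Subgroup (GL (Fin n) F), K ≤ N → NormBy H K → K ≤ scalars (Fin n) F ∨ K = N) (hr : r.Prime)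
    (hpow : ∀ x ∈ N, x ^ r ∈ scalars (Fin n) F) (hcomm : ∀ x ∈ N, ∀ y ∈ N, ⁅x, y⁆ ∈ scalars (Fin n) F) :
    InSp f H :=
  Cfsg.Agent.Lib.Helper3.SpC6.sp_c6 hf hn H N r hHI hH hQP hNH hnorm hNs hmin hr hpow hcomm

/-- **SpI7** the tensor-induced case: class 7 (`q` odd) or class 8 (`q` even) -/
theorem sp_c7 (hf : IsSymplecticForm f) (hn : 4 ≤ n) (H L : Subgroup (GL (Fin n) F)) (hHI : H ≤ Iso f)
    (hH : AbsIrr H) (hQP : QP H) (hLH : L ≤ H) (hLs : ¬ L ≤ scalars (Fin n) F) (hperf : ⁅L, L⁆ = L)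
    (hqs : SimpleModScal L)
    (hconj : ∀ h ∈ H, (∀ x ∈ L, h * x * h⁻¹ ∈ L) ∨
      (∀ x ∈ L, ∀ y ∈ L, (h * x * h⁻¹) * y = y * (h * x * h⁻¹)))
    (hnn : ¬ NormBy H L) : InSp f H :=
  Cfsg.Agent.Lib.Helper16.SpAC7Real.sp_c7 hf hn H L hHI hH hQP hLH hLs hperf hqs hconj hnn

/-- **SpI8-Q** the perfect normal subgroup `L` fixes a quadratic form: class 8 (`q` even; impossible for `q` odd) -/
theorem sp_s_quadratic (hf : IsSymplecticForm f) (hn : 4 ≤ n) (H L : Subgroup (GL (Fin n) F)) (hHI : H ≤ Iso f)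
    (hLH : L ≤ H) (hL : AbsIrr L) (hnorm : NormBy H L) (Q : (Fin n → F) → F) (hQ : IsNondegenerateQuadraticForm Q)
    (hfix : FixesQuadForm (matrixSet L) Q) : InSp f H :=
  Cfsg.Agent.Lib.Helper12.S5662I8Q.sp_s_quadratic hf hn H L hHI hLH hL hnorm Q hQ hfix

/-- **SpI8-U** an absolutely irreducible group fixing a non-degenerate bilinear form and a unitary form is realisable over the
fixed field of the involution -/
theorem realisable_of_fixes_unitary (hf : IsSymplecticForm f) (L : Subgroup (GL (Fin n) F)) (hLI : L ≤ Iso f)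
    (hL : AbsIrr L) (σ : F ≃+* F) (g : (Fin n → F) → (Fin n → F) → F) (hg : IsUnitaryForm σ g)
    (hfix : FixesForm (matrixSet L) g) : ∃ F₀ : Subfield F, F₀ ≠ ⊤ ∧ RealisableOver F₀ (matrixSet L) :=
  Cfsg.Agent.Lib.Helper12.S5662I8U.realisable_of_fixes_unitary hf L hLI hL σ g hg hfix

/-! ## real: the almost simple case, the main theorem -/

/-- **SpI8** the almost simple case -/
theorem sp_s (hf : IsSymplecticForm f) (hn : 4 ≤ n) (H L : Subgroup (GL (Fin n) F)) (hHI : H ≤ Iso f)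
    (hH : AbsIrr H) (hQP : QP H) (hLH : L ≤ H) (hLs : ¬ L ≤ scalars (Fin n) F) (hperf : ⁅L, L⁆ = L)
    (hqs : SimpleModScal L) (hnorm : NormBy H L) : InSp f H ∨ InSymplecticResidualClass H := by
  have hLabs : AbsIrr L := (hQP L hLH hnorm).resolve_left hLs
  have hLI : L ≤ Iso f := hLH.trans hHI
  by_cases hex : ∃ F₀ : Subfield F, F₀ ≠ ⊤ ∧ RealisableOver F₀ (matrixSet L)
  · obtain ⟨F₀, h0, hreal⟩ := hex
    exact Or.inl (sp_realisable hf H L hHI hLI hLabs hnorm F₀ h0 hreal)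
  by_cases hquad : ∃ Q : (Fin n → F) → F, IsNondegenerateQuadraticForm Q ∧ FixesQuadForm (matrixSet L) Q
  · obtain ⟨Q, hQ, hfix⟩ := hquad
    exact Or.inl (sp_s_quadratic hf hn H L hHI hLH hLabs hnorm Q hQ hfix)
  by_cases huni : ∃ (σ : F ≃+* F) (g : (Fin n → F) → (Fin n → F) → F), IsUnitaryForm σ g ∧ FixesForm (matrixSet L) g
  · obtain ⟨σ, g, hg, hfix⟩ := huni
    exact absurd (realisable_of_fixes_unitary hf L hLI hLabs σ g hg hfix) hex
  right
  refine ⟨L, ⟨hLH, hnorm, hperf, Cfsg.Agent.Lib.Helper12.S5630I8.isSimpleGroup_quotient L hLs hqs,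
    Cfsg.Agent.Lib.Helper12.S5630I8.not_comm_quotient L hLs hperf, ?_, hLabs, ?_⟩, hquad, huni⟩
  · intro h _ hh
    exact Cfsg.Agent.Lib.Helper12.S5630I8.mem_scalars_of_comm (by omega) L hLabs h
      (Cfsg.Agent.Lib.Helper12.S5630I8.comm_of_perfect L hperf h hh)
  · intro F₀ h0 hreal
    exact hex ⟨F₀, h0, hreal⟩

/-- **Aschbacher's theorem for the isometry group of an alternating form on `F^n`, `n ≥ 4`** -/
theorem sp_main (hf : IsSymplecticForm f) (hn : 4 ≤ n) (H : Subgroup (GL (Fin n) F)) (hHI : H ≤ Iso f) :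
    InSp f H ∨ InSymplecticResidualClass H := by
  by_cases h1 : Irr H
  swap
  · exact Or.inl (sp_reducible hf H hHI h1)
  by_cases h2 : AbsIrr H
  swap
  · exact Or.inl (sp_not_absIrr hf hn H hHI h1 h2)
  by_cases h4 : QP H
  swap
  · unfold QP at h4
    push Not at h4
    obtain ⟨N, hNH, hnorm, hns, hna⟩ := h4
    exact Or.inl (sp_clifford hf hn H N hHI h2 hNH hnorm hns hna)
  have hHs : ¬ H ≤ scalars (Fin n) F := Cfsg.Agent.Lib.Helper8.S5630I1.not_scalar_of_irr (by omega) H h1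
  rcases Cfsg.Agent.Lib.Helper23.S5630I5.group_dichotomy H hHs with
    ⟨N, r, hNH, hnorm, hNs, hmin, hr, hpow, hcomm⟩ | ⟨L, hLH, hLs, hperf, hqs, hconj⟩
  · exact Or.inl (sp_c6 hf hn H N r hHI h2 h4 hNH hnorm hNs hmin hr hpow hcomm)
  · by_cases hnL : NormBy H L
    · exact sp_s hf hn H L hHI h2 h4 hLH hLs hperf hqs hnL
    · exact Or.inl (sp_c7 hf hn H L hHI h2 h4 hLH hLs hperf hqs hconj hnL)

/-! ## block TR: transport to the frozen statement: `Cfsg/Agent/Lib/Helper16/SpATR.lean` -/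

open Cfsg.Agent.Lib.Helper16.SpATR in
/-- the frozen statement S5662 (the hypotheses `hex`, `hproper` are not needed) -/
theorem result (m : ℕ) (hm : 2 ≤ m) (H : Subgroup (GL (Fin m ⊕ Fin m) F)) (hH : H ≤ Cfsg.spGL m F) :
    (∃ M : Subgroup (GL (Fin m ⊕ Fin m) F), InSymplecticClass m F M ∧ H ≤ M) ∨ InSymplecticResidualClass H := by
  rcases sp_main (isSymplecticForm_stdF m) (by omega) _ (map_le_Iso m H hH) with h | h
  · exact Or.inl (inSymplecticClass_of_inSp m H hH h)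
  · exact Or.inr (residual_of_map m H h)

end Cfsg.Agent.Lib.Helper16.SpA
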