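import Mathlib
import Cfsg.Agent.Lib.Helper3.Steiner

set_option autoImplicit false

namespace Cfsg.Agent.Lib.Helper16

open Finset Cfsg Cfsg.Agent.Lib.Helper3.Steiner

section S5612

variable {α : Type*} [Fintype α] [DecidableEq α] {B : Set (Finset α)}

set_option linter.unusedSectionVars false

/-- number of blocks meeting `b` exactly in `s` -/
noncomputable def stN (B : Set (Finset α)) (b s : Finset α) : ℕ :=
  ((blocksF B).filter fun c => b ∩ c = s).card

theorem st_partition (b s : Finset α) (hs : s ⊆ b) :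
    ((blocksF B).filter (s ⊆ ·)).card = ∑ T ∈ b.powerset.filter (s ⊆ ·), stN B b T := by
  classical
  have h1 := Finset.card_eq_sum_card_fiberwise (s := (blocksF B).filter (s ⊆ ·))
    (t := b.powerset.filter (s ⊆ ·)) (f := fun c => b ∩ c) (fun c hc => by
      rw [Finset.mem_coe, mem_filter] at hc
      rw [Finset.mem_coe, mem_filter, mem_powerset]
      exact ⟨inter_subset_left, subset_inter hs hc.2⟩)
  rw [h1]
  refine Finset.sum_congr rfl fun T hT => ?_
  rw [mem_filter] at hT
  unfold stN
  congr 1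
  ext c
  simp only [mem_filter]
  constructor
  · rintro ⟨⟨h1, _⟩, h3⟩
    exact ⟨h1, h3⟩
  · rintro ⟨h1, h3⟩
    exact ⟨⟨h1, fun x hx => (mem_inter.1 (h3 ▸ hT.2 hx)).2⟩, h3⟩

/-- split the sum over the interval `[s, b]` by cardinality -/
theorem st_split (b s : Finset α) (hb6 : b.card = 6) (f : Finset α → ℕ) :
    ∑ T ∈ b.powerset.filter (s ⊆ ·), f T =
      ∑ j ∈ range 7, ∑ T ∈ (b.powersetCard j).filter (s ⊆ ·), f T := by
  classical
  rw [← Finset.sum_fiberwise_of_maps_to (s := b.powerset.filter (s ⊆ ·)) (t := range 7)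
    (g := fun T => T.card) (f := f)]
  · refine Finset.sum_congr rfl fun j _ => ?_
    refine Finset.sum_congr ?_ fun _ _ => rfl
    ext T
    simp only [mem_filter, mem_powerset, mem_powersetCard]
    tauto
  · intro T hT
    rw [mem_filter, mem_powerset] at hT
    rw [mem_range]
    have := card_le_card hT.1
    omega

theorem st_level (b s : Finset α) (hs : s ⊆ b) (hb6 : b.card = 6) (f : Finset α → ℕ) (j n : ℕ)
    (hj : s.card ≤ j) (hn : ∀ T, T ⊆ b → s ⊆ T → T.card = j → f T = n) :
    ∑ T ∈ (b.powersetCard j).filter (s ⊆ ·), f T = (6 - s.card).choose (j - s.card) * n := by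
  rw [Finset.sum_congr rfl (g := fun _ => n), Finset.sum_const, card_between hs j hj, hb6,
    smul_eq_mul]
  intro T hT
  rw [mem_filter, mem_powersetCard] at hT
  exact hn T hT.1.1 hT.2 hT.1.2

theorem st_level_zero (b s : Finset α) (f : Finset α → ℕ) (j : ℕ) (hj : j < s.card) :
    ∑ T ∈ (b.powersetCard j).filter (s ⊆ ·), f T = 0 := by
  rw [Finset.sum_eq_zero]
  intro T hT
  rw [mem_filter, mem_powersetCard] at hT
  have := card_le_card hT.2
  omega

theorem st_level_self (b s : Finset α) (hs : s ⊆ b) (hb6 : b.card = 6) (f : Finset α → ℕ) :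
    ∑ T ∈ (b.powersetCard s.card).filter (s ⊆ ·), f T = f s := by
  rw [st_level b s hs hb6 f s.card (f s) le_rfl, Nat.sub_self, Nat.choose_zero_right, one_mul]
  intro T _ hsT hT
  rw [Finset.eq_of_subset_of_card_le hsT hT.le]

variable (hα : Fintype.card α = 12) (hB : IsSteinerSystem 5 6 B) {b : Finset α} (hb : b ∈ B)

include hα hB in
theorem st_lam (I : Finset α) (hI : I.card ≤ 5) :
    ((blocksF B).filter (I ⊆ ·)).card * (6 - I.card).choose (5 - I.card) =
      (12 - I.card).choose (5 - I.card) := by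
  have := card_blocks_containing hB I hI
  rw [hα] at this
  exact this

include hB hb in
theorem st_n6 : stN B b b = 1 := by
  unfold stN
  rw [card_eq_one]
  refine ⟨b, ?_⟩
  ext c
  simp only [mem_filter, mem_singleton, mem_blocksF]
  constructor
  · rintro ⟨hc, h⟩
    have h1 : b ⊆ c := inter_eq_left.1 h
    have h2 : c.card = 6 := hB.1 c hc
    have h3 : b.card = 6 := hB.1 b hb
    exact (Finset.eq_of_subset_of_card_le h1 (by omega)).symm
  · rintro rfl
    exact ⟨hb, inter_self _⟩

include hα hB hb in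
theorem st_n5 (s : Finset α) (hs : s ⊆ b) (h5 : s.card = 5) : stN B b s = 0 := by
  have hb6 : b.card = 6 := hB.1 b hb
  have h1 := st_lam hα hB s (by omega)
  rw [st_partition b s hs, st_split b s hb6, h5] at h1
  simp only [Finset.sum_range_succ, Finset.sum_range_zero, zero_add] at h1
  rw [st_level_zero b s _ 0 (by omega), st_level_zero b s _ 1 (by omega),
    st_level_zero b s _ 2 (by omega), st_level_zero b s _ 3 (by omega),
    st_level_zero b s _ 4 (by omega)] at h1
  have e5 := st_level_self b s hs hb6 (stN B b)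
  rw [h5] at e5
  rw [e5, st_level b s hs hb6 _ 6 1 (by omega) (fun T hT _ hT6 => by
    rw [Finset.eq_of_subset_of_card_le hT (by omega)]; exact st_n6 hB hb), h5] at h1
  norm_num [Nat.choose] at h1
  omega


include hα hB hb in
theorem st_n4 (s : Finset α) (hs : s ⊆ b) (hk : s.card = 4) : stN B b s = 3 := by
  have hb6 : b.card = 6 := hB.1 b hb
  have h1 := st_lam hα hB s (by omega)
  rw [st_partition b s hs, st_split b s hb6, hk] at h1
  simp only [Finset.sum_range_succ, Finset.sum_range_zero, zero_add] at h1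
  rw [st_level_zero b s _ 0 (by omega), st_level_zero b s _ 1 (by omega), st_level_zero b s _ 2 (by omega), st_level_zero b s _ 3 (by omega)] at h1
  have ek := st_level_self b s hs hb6 (stN B b)
  rw [hk] at ek
  rw [ek, st_level b s hs hb6 _ 5 0 (by omega) (fun T hT _ hTc => st_n5 hα hB hb T hT hTc), st_level b s hs hb6 _ 6 1 (by omega) (fun T hT _ hTc => by rw [Finset.eq_of_subset_of_card_le hT (by omega)]; exact st_n6 hB hb), hk] at h1
  norm_num [Nat.choose] at h1
  omega

include hα hB hb in
theorem st_n3 (s : Finset α) (hs : s ⊆ b) (hk : s.card = 3) : stN B b s = 2 := by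
  have hb6 : b.card = 6 := hB.1 b hb
  have h1 := st_lam hα hB s (by omega)
  rw [st_partition b s hs, st_split b s hb6, hk] at h1
  simp only [Finset.sum_range_succ, Finset.sum_range_zero, zero_add] at h1
  rw [st_level_zero b s _ 0 (by omega), st_level_zero b s _ 1 (by omega), st_level_zero b s _ 2 (by omega)] at h1
  have ek := st_level_self b s hs hb6 (stN B b)
  rw [hk] at ek
  rw [ek, st_level b s hs hb6 _ 4 3 (by omega) (fun T hT _ hTc => st_n4 hα hB hb T hT hTc), st_level b s hs hb6 _ 5 0 (by omega) (fun T hT _ hTc => st_n5 hα hB hb T hT hTc), st_level b s hs hb6 _ 6 1 (by omega) (fun T hT _ hTc => by rw [Finset.eq_of_subset_of_card_le hT (by omega)]; exact st_n6 hB hb), hk] at h1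
  norm_num [Nat.choose] at h1
  omega

include hα hB hb in
theorem st_n2 (s : Finset α) (hs : s ⊆ b) (hk : s.card = 2) : stN B b s = 3 := by
  have hb6 : b.card = 6 := hB.1 b hb
  have h1 := st_lam hα hB s (by omega)
  rw [st_partition b s hs, st_split b s hb6, hk] at h1
  simp only [Finset.sum_range_succ, Finset.sum_range_zero, zero_add] at h1
  rw [st_level_zero b s _ 0 (by omega), st_level_zero b s _ 1 (by omega)] at h1
  have ek := st_level_self b s hs hb6 (stN B b)
  rw [hk] at ek
  rw [ek, st_level b s hs hb6 _ 3 2 (by omega) (fun T hT _ hTc => st_n3 hα hB hb T hT hTc), st_level b s hs hb6 _ 4 3 (by omega) (fun T hT _ hTc => st_n4 hα hB hb T hT hTc), st_level b s hs hb6 _ 5 0 (by omega) (fun T hT _ hTc => st_n5 hα hB hb T hT hTc), st_level b s hs hb6 _ 6 1 (by omega) (fun T hT _ hTc => by rw [Finset.eq_of_subset_of_card_le hT (by omega)]; exact st_n6 hB hb), hk] at h1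
  norm_num [Nat.choose] at h1
  omega

include hα hB hb in
theorem st_n1 (s : Finset α) (hs : s ⊆ b) (hk : s.card = 1) : stN B b s = 0 := by
  have hb6 : b.card = 6 := hB.1 b hb
  have h1 := st_lam hα hB s (by omega)
  rw [st_partition b s hs, st_split b s hb6, hk] at h1
  simp only [Finset.sum_range_succ, Finset.sum_range_zero, zero_add] at h1
  rw [st_level_zero b s _ 0 (by omega)] at h1
  have ek := st_level_self b s hs hb6 (stN B b)
  rw [hk] at ek
  rw [ek, st_level b s hs hb6 _ 2 3 (by omega) (fun T hT _ hTc => st_n2 hα hB hb T hT hTc), st_level b s hs hb6 _ 3 2 (by omega) (fun T hT _ hTc => st_n3 hα hB hb T hT hTc), st_level b s hs hb6 _ 4 3 (by omega) (fun T hT _ hTc => st_n4 hα hB hb T hT hTc), st_level b s hs hb6 _ 5 0 (by omega) (fun T hT _ hTc => st_n5 hα hB hb T hT hTc), st_level b s hs hb6 _ 6 1 (by omega) (fun T hT _ hTc => by rw [Finset.eq_of_subset_of_card_le hT (by omega)]; exact st_n6 hB hb), hk] at h1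
  norm_num [Nat.choose] at h1
  omega

include hα hB hb in
theorem st_main :
    (∀ c ∈ B, c ≠ b → (b ∩ c).card = 0 ∨ (b ∩ c).card = 2 ∨ (b ∩ c).card = 3 ∨
      (b ∩ c).card = 4) ∧
    ∀ s ⊆ b, (s.card = 2 → {c : Finset α | c ∈ B ∧ b ∩ c = s}.ncard = 3) ∧
      (s.card = 3 → {c : Finset α | c ∈ B ∧ b ∩ c = s}.ncard = 2) ∧
      (s.card = 4 → {c : Finset α | c ∈ B ∧ b ∩ c = s}.ncard = 3) := by
  have hb6 : b.card = 6 := hB.1 b hb
  have hset : ∀ s : Finset α, {c : Finset α | c ∈ B ∧ b ∩ c = s}.ncard = stN B b s := by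
    intro s
    have : {c : Finset α | c ∈ B ∧ b ∩ c = s} = ↑((blocksF B).filter fun c => b ∩ c = s) := by
      ext c
      simp [mem_blocksF]
    rw [this, Set.ncard_coe_finset]
    rfl
  refine ⟨fun c hc hcb => ?_, fun s hs => ⟨fun h => ?_, fun h => ?_, fun h => ?_⟩⟩
  · have hsub : b ∩ c ⊆ b := inter_subset_left
    have hpos : 0 < stN B b (b ∩ c) := by
      unfold stN
      rw [Finset.card_pos]
      exact ⟨c, by rw [mem_filter, mem_blocksF]; exact ⟨hc, rfl⟩⟩
    have hle : (b ∩ c).card ≤ 6 := by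
      have := card_le_card hsub
      omega
    have h6 : (b ∩ c).card ≠ 6 := by
      intro h6
      have h1 : b ∩ c = b := Finset.eq_of_subset_of_card_le hsub (by omega)
      have h2 : b ⊆ c := inter_eq_left.1 h1
      have h3 : c.card = 6 := hB.1 c hc
      exact hcb (Finset.eq_of_subset_of_card_le h2 (by omega)).symm
    have h5 : (b ∩ c).card ≠ 5 := by
      intro h5
      have := st_n5 hα hB hb _ hsub h5
      omega
    have h1 : (b ∩ c).card ≠ 1 := by
      intro h1
      have := st_n1 hα hB hb _ hsub h1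
      omega
    omega
  · rw [hset]; exact st_n2 hα hB hb s hs h
  · rw [hset]; exact st_n3 hα hB hb s hs h
  · rw [hset]; exact st_n4 hα hB hb s hs h

end S5612

end Cfsg.Agent.Lib.Helper16
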