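import Mathlib
import Cfsg.Prelude.Def_GeometricClasses
import Cfsg.Agent.Lib.Helper16.TensDefs

/-!
# S5637, T1: the extremal argument

If every element of `M` stabilising the standard subspace `hyp ψ0` lies in the Kronecker subgroup `N0`, and no conjugate
`g⁻¹ y g` of a root element by `g ∈ M \ N0` lies in `N0`, then `M ≤ N0`.
-/

set_option autoImplicit false

namespace Cfsg.Agent.Lib.Helper16.Tens

open Matrix Module
open scoped Kronecker

variable {F : Type*} [Field F] {a b : ℕ}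

/-- `w ↦ ψ ⬝ᵥ w` -/
def dotL (ψ : Fin b → F) : (Fin b → F) →ₗ[F] F where
  toFun w := ψ ⬝ᵥ w
  map_add' w w' := dotProduct_add ψ w w'
  map_smul' c w := by simp [dotProduct_smul]

@[simp] theorem dotL_apply (ψ w : Fin b → F) : dotL ψ w = ψ ⬝ᵥ w := rfl

theorem dotL_surjective {ψ : Fin b → F} (hψ : ψ ≠ 0) : Function.Surjective (dotL ψ) := by
  obtain ⟨j, hj⟩ : ∃ j, ψ j ≠ 0 := by
    by_contra hall; push Not at hall; exact hψ (funext hall)
  intro c
  refine ⟨Pi.single j (c * (ψ j)⁻¹), ?_⟩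
  rw [dotL_apply, dotProduct_single, mul_comm, mul_assoc, inv_mul_cancel₀ hj, mul_one]

theorem finrank_ker_dotL {ψ : Fin b → F} (hψ : ψ ≠ 0) :
    finrank F (LinearMap.ker (dotL ψ)) + 1 = b := by
  have h := LinearMap.finrank_range_add_finrank_ker (dotL ψ)
  rw [LinearMap.range_eq_top.mpr (dotL_surjective hψ), finrank_top, Module.finrank_self,
    Module.finrank_fintype_fun_eq_card, Fintype.card_fin] at h
  omega

/-- existence of a non-zero functional vanishing at a given vector (`b ≥ 2`) -/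
theorem exists_dot_eq_zero (hb : 2 ≤ b) (w : Fin b → F) : ∃ ψ : Fin b → F, ψ ≠ 0 ∧ ψ ⬝ᵥ w = 0 := by
  by_cases hw : w = 0
  · refine ⟨Pi.single ⟨0, by omega⟩ 1, ?_, by rw [hw, dotProduct_zero]⟩
    intro h
    have := congrFun h ⟨0, by omega⟩
    simp at this
  · have h := finrank_ker_dotL hw
    have hpos : 0 < finrank F (LinearMap.ker (dotL w)) := by omega
    have hne : LinearMap.ker (dotL w) ≠ ⊥ := by
      intro h0
      rw [h0, finrank_bot] at hpos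
      exact lt_irrefl _ hpos
    obtain ⟨ψ, hψ, hψ0⟩ := Submodule.exists_mem_ne_zero_of_ne_bot hne
    refine ⟨ψ, hψ0, ?_⟩
    rw [LinearMap.mem_ker, dotL_apply] at hψ
    rw [dotProduct_comm]
    exact hψ

/-- the measure: `dim (P0 + g P0)` -/
noncomputable def dd (ψ0 : Fin b → F) (g : GL (Fin a × Fin b) F) : ℕ :=
  finrank F ↥(hyp (a := a) ψ0 ⊔ img g (hyp ψ0))

theorem img_root_sup (P' : Submodule F (Fin a × Fin b → F)) (k ψ : Fin b → F) (h : ψ ⬝ᵥ k = 0) :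
    P' ⊔ img (rootGL k ψ h) P' = P' ⊔ (P'.map (ctr ψ)).map (purL k) := by
  apply le_antisymm
  · apply sup_le le_sup_left
    rintro _ ⟨v, hv, rfl⟩
    rw [LinearEquiv.coe_coe, act_rootGL]
    exact Submodule.add_mem _ (Submodule.mem_sup_left hv)
      (Submodule.mem_sup_right ⟨ctr ψ v, ⟨v, hv, rfl⟩, rfl⟩)
  · apply sup_le le_sup_left
    rintro _ ⟨_, ⟨v, hv, rfl⟩, rfl⟩
    have h1 : act (rootGL k ψ h) v ∈ P' ⊔ img (rootGL k ψ h) P' :=
      Submodule.mem_sup_right ⟨v, hv, rfl⟩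
    have h2 : v ∈ P' ⊔ img (rootGL k ψ h) P' := Submodule.mem_sup_left hv
    have h3 := Submodule.sub_mem _ h1 h2
    rw [act_rootGL, add_sub_cancel_left] at h3
    exact h3

theorem dd_conj (ψ0 : Fin b → F) (g : GL (Fin a × Fin b) F) (k ψ : Fin b → F) (h : ψ ⬝ᵥ k = 0) :
    dd ψ0 (g⁻¹ * rootGL k ψ h * g) =
      finrank F ↥(img g (hyp (a := a) ψ0) ⊔ ((img g (hyp ψ0)).map (ctr ψ)).map (purL k)) := by
  unfold dd
  rw [← img_root_sup (img g (hyp ψ0)) k ψ h,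
    ← finrank_img g (hyp ψ0 ⊔ img (g⁻¹ * rootGL k ψ h * g) (hyp ψ0)), img_sup,
    ← img_mul, mul_assoc, mul_inv_cancel_left, img_mul]

section linalg

variable {V W : Type*} [AddCommGroup V] [Module F V] [AddCommGroup W] [Module F W]

theorem finrank_map_of_injective (f : V →ₗ[F] W) (hf : Function.Injective f) (p : Submodule F V) :
    finrank F (p.map f) = finrank F p :=
  (LinearEquiv.finrank_eq (Submodule.equivMapOfInjective f hf p)).symm

theorem finrank_map_add_finrank_inf_ker [FiniteDimensional F V] (f : V →ₗ[F] W) (p : Submodule F V) :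
    finrank F (p.map f) + finrank F ↥(p ⊓ LinearMap.ker f) = finrank F p := by
  have h := LinearMap.finrank_range_add_finrank_ker (f.domRestrict p)
  rw [LinearMap.range_domRestrict, LinearMap.ker_domRestrict,
    ← Submodule.finrank_map_subtype_eq p ((LinearMap.ker f).comap p.subtype),
    Submodule.map_comap_subtype] at h
  exact h

theorem finrank_sup_le_of_mem_inf [FiniteDimensional F V] (p q : Submodule F V) (x : V) (hx : x ≠ 0)
    (hxp : x ∈ p) (hxq : x ∈ q) : finrank F ↥(p ⊔ q) + 1 ≤ finrank F p + finrank F q := by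
  have h := Submodule.finrank_sup_add_finrank_inf_eq p q
  have hpos : 0 < finrank F ↥(p ⊓ q) := by
    rw [Module.finrank_pos_iff_exists_ne_zero]
    exact ⟨⟨x, hxp, hxq⟩, fun h0 => hx (congrArg Subtype.val h0)⟩
  omega

end linalg

theorem finrank_img_hyp {ψ0 : Fin b → F} (hψ0 : ψ0 ≠ 0) (g : GL (Fin a × Fin b) F) :
    finrank F (img g (hyp (a := a) ψ0)) + a = a * b := by
  rw [finrank_img, finrank_hyp hψ0]

/-- Step U: some element of `M \ N0` has `dd < a * b`. -/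
theorem exists_small (ha : 1 ≤ a) (hab : a < b) (M : Subgroup (GL (Fin a × Fin b) F)) (hM : Over M)
    (ψ0 : Fin b → F) (hψ0 : ψ0 ≠ 0)
    (hC : ∀ g ∈ M, g ∉ Cfsg.Geo.kroneckerSubgroup a b F → ∀ (k ψ : Fin b → F), k ≠ 0 → ψ ≠ 0 →
      ∀ h : ψ ⬝ᵥ k = 0, g⁻¹ * rootGL k ψ h * g ∉ Cfsg.Geo.kroneckerSubgroup a b F)
    (g0 : GL (Fin a × Fin b) F) (hg0 : g0 ∈ M) (hg0N : g0 ∉ Cfsg.Geo.kroneckerSubgroup a b F) :
    ∃ g' ∈ M, g' ∉ Cfsg.Geo.kroneckerSubgroup a b F ∧ dd ψ0 g' + 1 ≤ a * b := by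
  set P' := img g0 (hyp (a := a) ψ0) with hP'def
  have hP' : finrank F P' + a = a * b := finrank_img_hyp hψ0 g0
  -- a pure tensor `u0 ⊗ w1` in `P'`
  let u0 : Fin a → F := Pi.single ⟨0, ha⟩ 1
  have hu0 : u0 ≠ 0 := by
    intro h
    have := congrFun h ⟨0, ha⟩
    simp [u0] at this
  set X := LinearMap.range (purR (F := F) (b := b) u0) with hXdef
  have hX : finrank F X = b := by
    rw [hXdef, LinearMap.finrank_range_of_inj (purR_injective hu0), Module.finrank_fintype_fun_eq_card,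
      Fintype.card_fin]
  have hsum := Submodule.finrank_sup_add_finrank_inf_eq X P'
  have hle : finrank F ↥(X ⊔ P') ≤ a * b := by
    have := Submodule.finrank_le (X ⊔ P')
    rwa [Module.finrank_fintype_fun_eq_card, Fintype.card_prod, Fintype.card_fin, Fintype.card_fin] at this
  have hpos : 0 < finrank F ↥(X ⊓ P') := by omega
  have hne : X ⊓ P' ≠ ⊥ := by
    intro h0
    rw [h0, finrank_bot] at hpos
    exact lt_irrefl _ hpos
  obtain ⟨x, hx, hx0⟩ := Submodule.exists_mem_ne_zero_of_ne_bot hne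
  obtain ⟨⟨w1, rfl⟩, hxP'⟩ := hx
  rw [purR_apply] at hxP' hx0
  have hw1 : w1 ≠ 0 := by
    rintro rfl
    exact hx0 (pur_zero_right u0)
  obtain ⟨ψ, hψ, hψw⟩ := exists_dot_eq_zero (by omega : 2 ≤ b) w1
  refine ⟨g0⁻¹ * rootGL w1 ψ hψw * g0, ?_, hC g0 hg0 hg0N w1 ψ hw1 hψ hψw, ?_⟩
  · exact M.mul_mem (M.mul_mem (M.inv_mem hg0) (hM.root_mem w1 ψ hψw)) hg0
  · rw [dd_conj, ← hP'def]
    have h1 : P' ⊔ ((P').map (ctr ψ)).map (purL w1) ≤ P' ⊔ LinearMap.range (purL (F := F) (a := a) w1) :=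
      sup_le_sup_left (LinearMap.map_le_range) _
    have h2 := Submodule.finrank_mono h1
    have h3 := finrank_sup_le_of_mem_inf P' (LinearMap.range (purL (F := F) (a := a) w1)) (pur u0 w1) hx0 hxP'
      ⟨u0, rfl⟩
    have h4 : finrank F (LinearMap.range (purL (F := F) (a := a) w1)) = a := by
      rw [LinearMap.finrank_range_of_inj (purL_injective hw1), Module.finrank_fintype_fun_eq_card,
        Fintype.card_fin]
    omega

/-- Step L: a minimal element of `M \ N0` has `dd ≥ dim P0 + (b - 1)`. -/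
theorem large_of_minimal (ha : 1 ≤ a) (hab : a < b) (M : Subgroup (GL (Fin a × Fin b) F)) (hM : Over M)
    (ψ0 : Fin b → F) (hψ0 : ψ0 ≠ 0)
    (hA : ∀ m ∈ M, img m (hyp ψ0) = hyp ψ0 → m ∈ Cfsg.Geo.kroneckerSubgroup a b F)
    (hC : ∀ g ∈ M, g ∉ Cfsg.Geo.kroneckerSubgroup a b F → ∀ (k ψ : Fin b → F), k ≠ 0 → ψ ≠ 0 →
      ∀ h : ψ ⬝ᵥ k = 0, g⁻¹ * rootGL k ψ h * g ∉ Cfsg.Geo.kroneckerSubgroup a b F)
    (g0 : GL (Fin a × Fin b) F) (hg0 : g0 ∈ M) (hg0N : g0 ∉ Cfsg.Geo.kroneckerSubgroup a b F)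
    (hmin : ∀ g ∈ M, g ∉ Cfsg.Geo.kroneckerSubgroup a b F → dd ψ0 g0 ≤ dd ψ0 g) :
    a * b + b ≤ dd ψ0 g0 + a + 1 := by
  set P0 := hyp (a := a) ψ0 with hP0def
  set P' := img g0 P0 with hP'def
  have hP0 : finrank F P0 + a = a * b := finrank_hyp hψ0
  have hP' : finrank F P' + a = a * b := finrank_img_hyp hψ0 g0
  have hne : P' ≠ P0 := fun h => hg0N (hA g0 hg0 h)
  -- a vector of `P'` outside `P0`
  obtain ⟨v, hvP', hv⟩ : ∃ v ∈ P', ctr ψ0 v ≠ 0 := by
    by_contra hcon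
    push Not at hcon
    apply hne
    apply Submodule.eq_of_le_of_finrank_eq
    · intro v hv
      rw [hP0def, mem_hyp_iff]
      exact hcon v hv
    · omega
  set δ0 := ctr ψ0 v with hδ0
  set D := P'.map (ctr (a := a) ψ0) with hDdef
  have hδD : δ0 ∈ D := ⟨v, hvP', rfl⟩
  -- `dd g0 = dim P0 + dim D`
  have hrn := finrank_map_add_finrank_inf_ker (ctr (a := a) ψ0) P'
  have hsum := Submodule.finrank_sup_add_finrank_inf_eq P0 P'
  have hinf : P' ⊓ LinearMap.ker (ctr (a := a) ψ0) = P0 ⊓ P' := by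
    rw [inf_comm]; rfl
  rw [hinf, ← hDdef] at hrn
  have hdd : dd ψ0 g0 = finrank F ↥(P0 ⊔ P') := rfl
  -- `pur δ0 k ∉ P'` for `k ∈ ker ψ0`, `k ≠ 0`
  have hkey : ∀ k : Fin b → F, ψ0 ⬝ᵥ k = 0 → pur δ0 k ∈ P' → k = 0 := by
    intro k hk hmem
    by_contra hk0
    have h1 := hmin _ (M.mul_mem (M.mul_mem (M.inv_mem hg0) (hM.root_mem k ψ0 hk)) hg0)
      (hC g0 hg0 hg0N k ψ0 hk0 hψ0 hk)
    rw [dd_conj, ← hP0def, ← hP'def, ← hDdef] at h1
    have hx0 : pur δ0 k ≠ 0 := by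
      intro h0
      rcases pur_eq_zero h0 with h | h
      · exact hv h
      · exact hk0 h
    have h2 := finrank_sup_le_of_mem_inf P' (D.map (purL k)) (pur δ0 k) hx0 hmem ⟨δ0, hδD, rfl⟩
    have h3 : finrank F (D.map (purL (F := F) (a := a) k)) = finrank F D :=
      finrank_map_of_injective _ (purL_injective hk0) D
    omega
  -- the subspace `δ0 ⊗ ker ψ0` of `P0` misses `P'`
  set K0 := LinearMap.ker (dotL ψ0) with hK0def
  set Y := K0.map (purR (F := F) (b := b) δ0) with hYdef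
  have hY : finrank F Y + 1 = b := by
    rw [hYdef, finrank_map_of_injective _ (purR_injective hv) K0]
    exact finrank_ker_dotL hψ0
  have hYP0 : Y ≤ P0 := by
    rintro _ ⟨k, hk, rfl⟩
    rw [hK0def, SetLike.mem_coe, LinearMap.mem_ker, dotL_apply] at hk
    rw [purR_apply, hP0def]
    exact pur_mem_hyp (by rw [dotProduct_comm]; exact hk) δ0
  have hYdisj : Y ⊓ (P0 ⊓ P') = ⊥ := by
    rw [eq_bot_iff]
    rintro x ⟨⟨k, hk, rfl⟩, -, hxP'⟩
    rw [hK0def, SetLike.mem_coe, LinearMap.mem_ker, dotL_apply] at hk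
    rw [purR_apply] at hxP' ⊢
    rw [hkey k hk hxP', pur_zero_right]
    exact Submodule.zero_mem _
  have hsum2 := Submodule.finrank_sup_add_finrank_inf_eq Y (P0 ⊓ P')
  rw [hYdisj, finrank_bot] at hsum2
  have hle : finrank F ↥(Y ⊔ P0 ⊓ P') ≤ finrank F P0 :=
    Submodule.finrank_mono (sup_le hYP0 inf_le_left)
  omega

/-- **T1**: the extremal argument. -/
theorem le_kron_of_stab_aux (ha : 1 ≤ a) (hab : a < b) (M : Subgroup (GL (Fin a × Fin b) F)) (hM : Over M)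
    (ψ0 : Fin b → F) (hψ0 : ψ0 ≠ 0)
    (hA : ∀ m ∈ M, img m (hyp ψ0) = hyp ψ0 → m ∈ Cfsg.Geo.kroneckerSubgroup a b F)
    (hC : ∀ g ∈ M, g ∉ Cfsg.Geo.kroneckerSubgroup a b F → ∀ (k ψ : Fin b → F), k ≠ 0 → ψ ≠ 0 →
      ∀ h : ψ ⬝ᵥ k = 0, g⁻¹ * rootGL k ψ h * g ∉ Cfsg.Geo.kroneckerSubgroup a b F) :
    M ≤ Cfsg.Geo.kroneckerSubgroup a b F := by
  by_contra hcon
  rw [SetLike.not_le_iff_exists] at hcon
  obtain ⟨g1, hg1, hg1N⟩ := hcon
  -- a minimal element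
  have hex : ∃ n : ℕ, ∃ g ∈ M, g ∉ Cfsg.Geo.kroneckerSubgroup a b F ∧ dd ψ0 g = n :=
    ⟨dd ψ0 g1, g1, hg1, hg1N, rfl⟩
  classical
  obtain ⟨g0, hg0, hg0N, hg0n⟩ := Nat.find_spec hex
  have hmin : ∀ g ∈ M, g ∉ Cfsg.Geo.kroneckerSubgroup a b F → dd ψ0 g0 ≤ dd ψ0 g := by
    intro g hg hgN
    rw [hg0n]
    exact Nat.find_min' hex ⟨g, hg, hgN, rfl⟩
  have hL := large_of_minimal ha hab M hM ψ0 hψ0 hA hC g0 hg0 hg0N hmin
  obtain ⟨g', hg', hg'N, hU⟩ := exists_small ha hab M hM ψ0 hψ0 hC g0 hg0 hg0N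
  have := hmin g' hg' hg'N
  omega

end Cfsg.Agent.Lib.Helper16.Tens
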