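import Mathlib
import Cfsg.Prelude.Def_GeometricClasses
import Cfsg.Agent.Lib.Helper16.TensDefs
import Cfsg.Agent.Lib.Helper16.TensT1
import Cfsg.Agent.Lib.Helper10.S5637FORANK
import Cfsg.Agent.H5.S5637FOSTRICT
import Cfsg.Agent.Lib.Helper15.S5637FOT2b
import Cfsg.Agent.Lib.Helper18.S5637FOT4a
import Cfsg.Agent.Lib.Helper18.S5637FOT4b
import Cfsg.Agent.Lib.Helper21.S5637FOTRANS
import Cfsg.Agent.Lib.Helper22.S5637FOT3a
import Cfsg.Agent.Lib.Helper22.S5637FOT2a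
import Cfsg.Agent.Lib.Helper23.S5637FOT3c
import Cfsg.Agent.Lib.Helper23.S5637FOT3b
import Cfsg.Agent.Lib.Helper8.S5637FOBRIDGE

/-!
# S5637: the tensor-product subgroup `(GL_a ⊗ GL_b) ∩ SL_{ab}` is maximal in `SL_{ab}` (2 ≤ a < b, not a = 2 = |F|)

Final assembly (helper16) of the farm-out pieces:
* FO-RANK : helper10 (also helper5);  FO-STRICT : helper5;  FO-T2b : helper15;  FO-T4a, FO-T4b : helper18;
* FO-TRANS : helper21;  FO-T3a, FO-T2a : helper22;  FO-T3c, FO-T3b : helper23;  FO-BRIDGE : helper8;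
* T1 (extremal argument), Claim 1', T2 assembly, main dichotomy : helper16.
-/

set_option autoImplicit false

namespace Cfsg.Agent.Lib.Helper16.Tens

open Matrix Module
open scoped Kronecker

variable {F : Type*} [Field F] {a b : ℕ}

/-- the fixed space of a root element -/
theorem ker_root (k ψ : Fin b → F) (hk : k ≠ 0) (h : ψ ⬝ᵥ k = 0) :
    LinearMap.ker ((act (rootGL (a := a) k ψ h)).toLinearMap - LinearMap.id) = hyp ψ := by
  ext v
  rw [LinearMap.mem_ker, LinearMap.sub_apply, LinearEquiv.coe_coe, act_rootGL, LinearMap.id_apply,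
    add_sub_cancel_left, mem_hyp_iff]
  constructor
  · intro h0
    rcases pur_eq_zero h0 with h' | h'
    · exact h'
    · exact absurd h' hk
  · intro h0
    rw [h0, pur_zero_left]

/-- the fixed space of a conjugate -/
theorem ker_conj (g y : GL (Fin a × Fin b) F) :
    LinearMap.ker ((act (g⁻¹ * y * g)).toLinearMap - LinearMap.id) =
      img g⁻¹ (LinearMap.ker ((act y).toLinearMap - LinearMap.id)) := by
  ext v
  rw [mem_img_iff, inv_inv, LinearMap.mem_ker, LinearMap.mem_ker, LinearMap.sub_apply, LinearMap.sub_apply,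
    LinearEquiv.coe_coe, LinearEquiv.coe_coe, LinearMap.id_apply, LinearMap.id_apply, act_mul, act_mul,
    sub_eq_zero, sub_eq_zero]
  constructor
  · intro h
    have := congrArg (act g) h
    rwa [act_act_inv] at this
  · intro h
    rw [h, act_inv_act]

/-- Claim 1': a conjugate of a root element by an element of `M \ N0` is not in `N0`. -/
theorem conj_root_not_mem (ha : 1 ≤ a) (hab : a < b) (M : Subgroup (GL (Fin a × Fin b) F)) (hM : Over M)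
    (ψ0 : Fin b → F) (hψ0 : ψ0 ≠ 0)
    (hA : ∀ m ∈ M, img m (hyp ψ0) = hyp ψ0 → m ∈ Cfsg.Geo.kroneckerSubgroup a b F)
    (g : GL (Fin a × Fin b) F) (hg : g ∈ M) (hgN : g ∉ Cfsg.Geo.kroneckerSubgroup a b F)
    (k ψ : Fin b → F) (hk : k ≠ 0) (hψ : ψ ≠ 0) (h : ψ ⬝ᵥ k = 0) :
    g⁻¹ * rootGL k ψ h * g ∉ Cfsg.Geo.kroneckerSubgroup a b F := by
  intro hn
  have hker : LinearMap.ker ((act (g⁻¹ * rootGL k ψ h * g)).toLinearMap - LinearMap.id) =
      img g⁻¹ (hyp ψ) := by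
    rw [ker_conj, ker_root k ψ hk h]
  obtain ⟨ψ'', hψ'', hker'⟩ := Cfsg.Agent.Lib.Helper10.S5637FORANK.exists_hyp_of_kron ha hab _ hn (by
    rw [hker, finrank_img, finrank_hyp hψ])
  rw [hker] at hker'
  obtain ⟨n1, hn1, hn1S, hn1i⟩ :=
    Cfsg.Agent.Lib.Helper21.S5637TRANS.exists_kron_img_hyp (a := a) (by omega : 2 ≤ b) ψ0 ψ hψ0 hψ
  obtain ⟨n2, hn2, hn2S, hn2i⟩ :=
    Cfsg.Agent.Lib.Helper21.S5637TRANS.exists_kron_img_hyp (a := a) (by omega : 2 ≤ b) ψ'' ψ0 hψ'' hψ0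
  have hmem : n2 * g⁻¹ * n1 ∈ M :=
    M.mul_mem (M.mul_mem (hM.kron_mem n2 hn2 hn2S) (M.inv_mem hg)) (hM.kron_mem n1 hn1 hn1S)
  have hst : img (n2 * g⁻¹ * n1) (hyp ψ0) = hyp ψ0 := by
    rw [img_mul, img_mul, hn1i, hker', hn2i]
  have h3 := hA _ hmem hst
  apply hgN
  have h4 : g⁻¹ ∈ Cfsg.Geo.kroneckerSubgroup a b F := by
    have h5 := (Cfsg.Geo.kroneckerSubgroup a b F).mul_mem
      ((Cfsg.Geo.kroneckerSubgroup a b F).mul_mem ((Cfsg.Geo.kroneckerSubgroup a b F).inv_mem hn2) h3)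
      ((Cfsg.Geo.kroneckerSubgroup a b F).inv_mem hn1)
    have h6 : n2⁻¹ * (n2 * g⁻¹ * n1) * n1⁻¹ = g⁻¹ := by group
    rwa [h6] at h5
  have := (Cfsg.Geo.kroneckerSubgroup a b F).inv_mem h4
  rwa [inv_inv] at this

/-- **T1**: if every element of `M` stabilising `hyp ψ0` lies in `N0`, then `M ≤ N0`. -/
theorem le_kron_of_stab (ha : 1 ≤ a) (hab : a < b) (M : Subgroup (GL (Fin a × Fin b) F)) (hM : Over M)
    (ψ0 : Fin b → F) (hψ0 : ψ0 ≠ 0)
    (hA : ∀ m ∈ M, img m (hyp ψ0) = hyp ψ0 → m ∈ Cfsg.Geo.kroneckerSubgroup a b F) :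
    M ≤ Cfsg.Geo.kroneckerSubgroup a b F :=
  le_kron_of_stab_aux ha hab M hM ψ0 hψ0 hA
    (fun g hg hgN k ψ hk hψ h => conj_root_not_mem ha hab M hM ψ0 hψ0 hA g hg hgN k ψ hk hψ h)

/-- **T2**: an element of `M \ N0` stabilising `hyp ψ0` yields a radical element of `M` outside `N0`. -/
theorem exists_radical_of_stab (ha : 1 ≤ a) (hab : a < b) (M : Subgroup (GL (Fin a × Fin b) F)) (hM : Over M)
    (ψ0 : Fin b → F) (hψ0 : ψ0 ≠ 0) (m : GL (Fin a × Fin b) F) (hm : m ∈ M)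
    (hmN : m ∉ Cfsg.Geo.kroneckerSubgroup a b F) (hstab : img m (hyp ψ0) = hyp ψ0) :
    ∃ z ∈ M, z ∉ Cfsg.Geo.kroneckerSubgroup a b F ∧ (∀ v, act z v - v ∈ hyp ψ0) ∧
      (∀ v ∈ hyp (a := a) ψ0, act z v = v) := by
  have hstab' : ∀ v, v ∈ hyp (a := a) ψ0 → act m⁻¹ v ∈ hyp (a := a) ψ0 := by
    intro v hv
    rw [← hstab, mem_img_iff] at hv
    exact hv
  have hr1 : ∀ (k : Fin b → F) (h : ψ0 ⬝ᵥ k = 0) (v : Fin a × Fin b → F),
      act (m * rootGL k ψ0 h * m⁻¹) v - v ∈ hyp (a := a) ψ0 := by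
    intro k h v
    rw [act_mul, act_mul, act_rootGL, map_add, act_act_inv, add_sub_cancel_left, ← hstab]
    exact ⟨_, pur_mem_hyp (by rw [dotProduct_comm]; exact h) _, rfl⟩
  have hr2 : ∀ (k : Fin b → F) (h : ψ0 ⬝ᵥ k = 0), ∀ v ∈ hyp (a := a) ψ0,
      act (m * rootGL k ψ0 h * m⁻¹) v = v := by
    intro k h v hv
    have h0 := (mem_hyp_iff ψ0 _).mp (hstab' v hv)
    rw [act_mul, act_mul, act_rootGL, h0, pur_zero_left, add_zero, act_act_inv]
  by_cases hall : ∀ (k : Fin b → F) (h : ψ0 ⬝ᵥ k = 0),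
      m * rootGL k ψ0 h * m⁻¹ ∈ Cfsg.Geo.kroneckerSubgroup a b F
  · have hnorm : ∀ (k : Fin b → F) (h : ψ0 ⬝ᵥ k = 0), ∃ (k' : Fin b → F) (h' : ψ0 ⬝ᵥ k' = 0),
        m * rootGL k ψ0 h * m⁻¹ = rootGL k' ψ0 h' := fun k h =>
      Cfsg.Agent.Lib.Helper22.S5637T2a.eq_root_of_kron_radical ha hab ψ0 hψ0 _ (hall k h) (hr1 k h) (hr2 k h)
    obtain ⟨h0, hh0, hh0S, hz1, hz2⟩ :=
      Cfsg.Agent.Lib.Helper15.S5637T2b.exists_kron_of_normalizes ha (by omega) ψ0 hψ0 m (hM.le_SL hm)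
        hstab hnorm
    refine ⟨h0⁻¹ * m, M.mul_mem (M.inv_mem (hM.kron_mem h0 hh0 hh0S)) hm, ?_, hz1, hz2⟩
    intro hzN
    apply hmN
    have := (Cfsg.Geo.kroneckerSubgroup a b F).mul_mem hh0 hzN
    rwa [mul_inv_cancel_left] at this
  · push Not at hall
    obtain ⟨k, h, hk⟩ := hall
    exact ⟨_, M.mul_mem (M.mul_mem hm (hM.root_mem k ψ0 h)) (M.inv_mem hm), hk, hr1 k h, hr2 k h⟩

/-- the abstract dichotomy: a subgroup between `N0 ∩ SL` and `SL` lies in `N0` or is `SL`. -/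
theorem main [Fintype F] (ha : 2 ≤ a) (hab : a < b) (hex : ¬ (a = 2 ∧ Fintype.card F = 2))
    (M : Subgroup (GL (Fin a × Fin b) F)) (hM : Over M) :
    M ≤ Cfsg.Geo.kroneckerSubgroup a b F ∨ Cfsg.Geo.specialLinear (Fin a × Fin b) F ≤ M := by
  have hb : 3 ≤ b := by omega
  let j0 : Fin b := ⟨0, by omega⟩
  have hψ0 : (Pi.single j0 (1 : F) : Fin b → F) ≠ 0 := by
    intro h
    have := congrFun h j0
    simp at this
  by_cases hA : ∀ m ∈ M, img m (hyp (Pi.single j0 (1 : F))) = hyp (Pi.single j0 (1 : F)) →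
      m ∈ Cfsg.Geo.kroneckerSubgroup a b F
  · exact Or.inl (le_kron_of_stab (by omega) hab M hM _ hψ0 hA)
  · right
    push Not at hA
    obtain ⟨m, hm, hstab, hmN⟩ := hA
    obtain ⟨z, hz, hzN, h1, h2⟩ := exists_radical_of_stab (by omega) hab M hM _ hψ0 m hm hmN hstab
    obtain ⟨g, A, j2, hg, hAs, hj, hgv⟩ :=
      Cfsg.Agent.Lib.Helper22.S5637T3a.exists_block_of_radical hb M hM j0 z hz hzN h1 h2
    obtain ⟨S, hS, hS1, hSc⟩ :=
      Cfsg.Agent.Lib.Helper23.S5637T3b.exists_invariant_submodule (a := a) hb M hM j0 j2 hj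
    have hAS : A ∈ S := (hS A).mpr ⟨g, hg, hgv⟩
    obtain ⟨p, q, hpq⟩ : ∃ p q : Fin a, p ≠ q := ⟨⟨0, by omega⟩, ⟨1, by omega⟩, by simp [Fin.ext_iff]⟩
    have hE := Cfsg.Agent.Lib.Helper23.S5637T3c.single_mem_of_invariant ha hex S hS1 hSc A hAS hAs p q hpq
    obtain ⟨t, ht, htv⟩ := (hS _).mp hE
    exact Cfsg.Agent.Lib.Helper18.S5637FOT4b.SL_le_of_all_dd ha hb M
      (Cfsg.Agent.Lib.Helper18.S5637FOT4a.all_dd_of_one ha hb M hM t ht p q hpq j2 j0 hj htv)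

/-- the Kronecker subgroup meets `SL` in a maximal subgroup of `SL` (all `2 ≤ a < b`, not `a = 2 = |F|`) -/
theorem kron_maximal [Fintype F] (ha : 2 ≤ a) (hab : a < b) (hex : ¬ (a = 2 ∧ Fintype.card F = 2)) :
    Cfsg.Geo.IsMaximalIn (Cfsg.Geo.specialLinear (Fin a × Fin b) F)
      (Cfsg.Geo.kroneckerSubgroup a b F ⊓ Cfsg.Geo.specialLinear (Fin a × Fin b) F) := by
  refine ⟨Cfsg.H5.S5637STRICT.kron_inf_SL_lt ha (by omega), ?_⟩
  intro M hHM hMSL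
  have hM : Over M := ⟨hMSL, fun g hg hg' => hHM ⟨hg, hg'⟩⟩
  rcases main ha hab hex M hM with h | h
  · left
    exact le_antisymm (le_inf h hMSL) hHM
  · right
    exact le_antisymm hMSL h

/-- the frozen shape of S5637 (no lower bound on `n` is needed) -/
theorem S5637_final {F : Type*} [Field F] [Fintype F] (n : ℕ) (n₁ n₂ : ℕ) (h1 : 2 ≤ n₁) (h12 : n₁ < n₂)
    (hex : ¬ (n₁ = 2 ∧ Fintype.card F = 2)) (e : Fin n ≃ Fin n₁ × Fin n₂)
    (P : Matrix.GeneralLinearGroup (Fin n) F) :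
    Cfsg.Geo.IsMaximalIn (Cfsg.Geo.specialLinear (Fin n) F)
      (Cfsg.Geo.tensorProductSubgroup n₁ n₂ e P ⊓ Cfsg.Geo.specialLinear (Fin n) F) :=
  Cfsg.Agent.Lib.Helper8.S5637FOBRIDGE.bridge n n₁ n₂ e P (kron_maximal h1 h12 hex)

end Cfsg.Agent.Lib.Helper16.Tens
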