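import Mathlib
import Cfsg.Agent.Lib.Helper16.CoprimeComm

set_option autoImplicit false

/-! A transfer (averaging) argument on an abelian normal subgroup. -/

namespace Cfsg.Agent.Lib.Helper16

open scoped commutatorElement

variable {G : Type*} [Group G]

/-- Let `R` normalize the abelian subgroup `V`, `S₀ ≤ R` of finite index, and `v ∈ C_V(S₀)`. Then
`v ^ |R : S₀| ∈ [V, R] C_V(R)`; more precisely some `τ ∈ C_V(R)` has the form `c * v ^ |R : S₀|` with
`c ∈ [V, R]`. -/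
theorem transfer_decomp [Finite G] (V R : Subgroup G) (hRV : R ≤ Subgroup.normalizer (V : Set G))
    (hcomm : ∀ a ∈ V, ∀ b ∈ V, a * b = b * a) (S₀ : Subgroup ↥R) (v : G) (hv : v ∈ V)
    (hvS : ∀ s ∈ S₀, (s : G) * v = v * (s : G)) :
    ∃ τ ∈ V, (∀ r ∈ R, r * τ = τ * r) ∧ ∃ c ∈ ⁅V, R⁆, τ = c * v ^ S₀.index := by
  classical
  letI : CommGroup ↥V :=
    { (inferInstance : Group ↥V) with
      mul_comm := fun a b => Subtype.ext (hcomm a a.2 b b.2) }
  haveI : Fintype (↥R ⧸ S₀) := Fintype.ofFinite _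
  have hconjV : ∀ r : ↥R, ∀ x ∈ V, (r : G) * x * (r : G)⁻¹ ∈ V := fun r x hx =>
    conj_mem_of_mem_normalizer V r (hRV r.2) x hx
  let F : ↥R ⧸ S₀ → ↥V := fun q => ⟨(q.out : G) * v * (q.out : G)⁻¹, hconjV q.out v hv⟩
  have hF : ∀ r : ↥R, (F (QuotientGroup.mk r) : G) = (r : G) * v * (r : G)⁻¹ := by
    intro r
    obtain ⟨h, hh⟩ := QuotientGroup.mk_out_eq_mul S₀ r
    show ((QuotientGroup.mk r : ↥R ⧸ S₀).out : G) * v * ((QuotientGroup.mk r : ↥R ⧸ S₀).out : G)⁻¹ = _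
    rw [hh]
    have h1 := hvS h h.2
    simp only [Subgroup.coe_mul, mul_inv_rev]
    calc (r : G) * ((h : ↥R) : G) * v * (((h : ↥R) : G)⁻¹ * (r : G)⁻¹)
        = (r : G) * (((h : ↥R) : G) * v) * ((h : ↥R) : G)⁻¹ * (r : G)⁻¹ := by group
      _ = (r : G) * (v * ((h : ↥R) : G)) * ((h : ↥R) : G)⁻¹ * (r : G)⁻¹ := by rw [h1]
      _ = (r : G) * v * (r : G)⁻¹ := by group
  refine ⟨((∏ q, F q : ↥V) : G), (∏ q, F q : ↥V).2, ?_, ?_⟩
  · intro r₀ hr₀
    -- conjugation by `r₀` as an endomorphism of `V`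
    let φ : ↥V →* ↥V :=
      { toFun := fun x => ⟨r₀ * x * r₀⁻¹, hconjV ⟨r₀, hr₀⟩ x x.2⟩
        map_one' := by apply Subtype.ext; simp
        map_mul' := by
          intro a b
          apply Subtype.ext
          simp only [Subgroup.coe_mul]
          group }
    have hφF : ∀ q : ↥R ⧸ S₀, φ (F q) = F ((⟨r₀, hr₀⟩ : ↥R) • q) := by
      intro q
      induction q using QuotientGroup.induction_on with
      | H r =>
        apply Subtype.ext
        show r₀ * (F (QuotientGroup.mk r) : G) * r₀⁻¹ = (F ((⟨r₀, hr₀⟩ : ↥R) • (QuotientGroup.mk r : ↥R ⧸ S₀)) : G)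
        have e : (⟨r₀, hr₀⟩ : ↥R) • (QuotientGroup.mk r : ↥R ⧸ S₀) = QuotientGroup.mk (⟨r₀, hr₀⟩ * r) := rfl
        rw [e, hF, hF]
        simp only [Subgroup.coe_mul, mul_inv_rev]
        group
    have h1 : φ (∏ q, F q) = ∏ q, F q := by
      rw [map_prod]
      simp_rw [hφF]
      exact Equiv.prod_comp (MulAction.toPerm (⟨r₀, hr₀⟩ : ↥R)) F
    have h2 : r₀ * ((∏ q, F q : ↥V) : G) * r₀⁻¹ = ((∏ q, F q : ↥V) : G) := congrArg Subtype.val h1
    calc r₀ * ((∏ q, F q : ↥V) : G) = (r₀ * ((∏ q, F q : ↥V) : G) * r₀⁻¹) * r₀ := by group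
      _ = ((∏ q, F q : ↥V) : G) * r₀ := by rw [h2]
  · -- decomposition
    have hc : ∀ q : ↥R ⧸ S₀, ((F q * (⟨v, hv⟩ : ↥V)⁻¹ : ↥V) : G) ∈ ⁅V, R⁆ := by
      intro q
      have e : ((F q * (⟨v, hv⟩ : ↥V)⁻¹ : ↥V) : G) = ⁅(q.out : G), v⁆ := by
        show (q.out : G) * v * (q.out : G)⁻¹ * v⁻¹ = _
        rw [commutatorElement_def]
      rw [e, Subgroup.commutator_comm]
      exact Subgroup.commutator_mem_commutator q.out.2 hv
    have hprod : (∏ q, F q : ↥V) = (∏ q, (F q * (⟨v, hv⟩ : ↥V)⁻¹)) * (⟨v, hv⟩ : ↥V) ^ S₀.index := by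
      rw [Finset.prod_mul_distrib, Finset.prod_const, Finset.card_univ, Subgroup.index,
        Nat.card_eq_fintype_card, mul_assoc, ← mul_pow]
      simp
    refine ⟨((∏ q, (F q * (⟨v, hv⟩ : ↥V)⁻¹) : ↥V) : G), ?_, ?_⟩
    · have : ∀ (s : Finset (↥R ⧸ S₀)), ((∏ q ∈ s, (F q * (⟨v, hv⟩ : ↥V)⁻¹) : ↥V) : G) ∈ ⁅V, R⁆ := by
        intro s
        induction s using Finset.induction_on with
        | empty => simp
        | insert a s ha ih =>
          rw [Finset.prod_insert ha, Subgroup.coe_mul]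
          exact Subgroup.mul_mem _ (hc a) ih
      exact this Finset.univ
    · have := congrArg Subtype.val hprod
      rw [this]
      simp

end Cfsg.Agent.Lib.Helper16
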