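import Mathlib
import Cfsg.Agent.Lib.Helper16.UBalB
import Cfsg.Agent.Lib.Helper16.GraphInvPSU5
import Cfsg.Agent.Lib.Helper6.LocalBalB

/-!
# Local balance for the unitary groups, part C: the automorphisms commuting with an involutory
graph automorphism, in the coordinates of a frame
-/

set_option autoImplicit false
set_option linter.unusedSectionVars false
set_option linter.unusedVariables false
set_option linter.unusedSimpArgs false
set_option linter.style.haveILetI false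

namespace Cfsg.Agent.Lib.Helper16.UBal

open Matrix Cfsg Cfsg.Agent.Lib.Helper6 Cfsg.Agent.Lib.Helper6.AutPSU
  Cfsg.Agent.Lib.Helper16.H90GL
  Cfsg.Agent.Lib.Helper16.GraphFieldCoset Cfsg.Agent.Lib.Helper16.UnitaryDescent
  Cfsg.Agent.Lib.Helper16.FieldCosetPSU Cfsg.Agent.Lib.Helper16.SplitCount
  Cfsg.Agent.Lib.Helper16.FieldCentPSU Cfsg.Agent.Lib.Helper16.OrthClassify
  Cfsg.Agent.Lib.Helper16.GraphCentPSL Cfsg.Agent.Lib.Helper16.GraphCentPSU
  Cfsg.Agent.Lib.Helper16.GraphInvPSU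
open Cfsg.Agent.Lib.Helper6.AutPSL (sG sG_val gl_mul_inv gl_inv_mul)
open Cfsg.Agent.Lib.Helper16.FieldCentPSL (mem_cent_comap gl_ne_zero)
open Cfsg.Agent.Lib.Helper16.FieldCoset (card_fin_ge scalar_eq_smul_one)

variable {F : Type*} [Field F] [Fintype F] {q n : ℕ}

/-- a matrix over the subfield proportional to another one over the big field -/
theorem exists_scalar_of_map_eq {F₀ : Type*} [Field F₀] (j : F₀ →+* F) {κ' : Type*}
    (A B : Matrix κ' κ' F₀) (κ : F) (hB : B ≠ 0) (h : A.map j = κ • B.map j) :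
    ∃ ν₀ : F₀, j ν₀ = κ ∧ A = ν₀ • B := by
  have hjinj : Function.Injective j := RingHom.injective j
  obtain ⟨s, t, hst⟩ : ∃ s t, B s t ≠ 0 := by
    by_contra hcon
    push Not at hcon
    apply hB
    ext s t
    exact hcon s t
  have hent : ∀ s' t', j (A s' t') = κ * j (B s' t') := by
    intro s' t'
    have := congrFun (congrFun h s') t'
    simpa using this
  have hjB : j (B s t) ≠ 0 := (map_ne_zero j).mpr hst
  have hκ : j (A s t / B s t) = κ := by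
    rw [map_div₀, hent s t, mul_div_assoc, div_self hjB, mul_one]
  refine ⟨A s t / B s t, hκ, ?_⟩
  ext s' t'
  apply hjinj
  rw [hent, Matrix.smul_apply, smul_eq_mul, map_mul, hκ]

section res
variable {F₀ : Type*} [Field F₀] [Finite F₀] (j : F₀ →+* F) (σ : RingAut F)
  (hj : ∀ a : F, σ a = a ↔ a ∈ Set.range j)

include hj in
/-- an automorphism commuting with `σ` restricts to the fixed field of `σ` -/
theorem exists_res (ρ : RingAut F) (hcomm : ∀ b, σ (ρ b) = ρ (σ b)) :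
    ∃ ρ₀ : F₀ ≃+* F₀, ∀ t, ρ (j t) = j (ρ₀ t) := by
  have hjinj : Function.Injective j := RingHom.injective j
  have hex : ∀ t : F₀, ∃ s : F₀, j s = ρ (j t) := by
    intro t
    have h1 : σ (ρ (j t)) = ρ (j t) := by rw [hcomm, (hj _).mpr ⟨t, rfl⟩]
    exact (hj _).mp h1
  choose f hf using hex
  let f' : F₀ →+* F₀ :=
    { toFun := f
      map_one' := by apply hjinj; rw [hf, map_one, map_one]
      map_mul' := fun x y => by apply hjinj; rw [hf, map_mul, map_mul, map_mul, hf, hf]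
      map_zero' := by apply hjinj; rw [hf, map_zero, map_zero]
      map_add' := fun x y => by apply hjinj; rw [hf, map_add, map_add, map_add, hf, hf] }
  have hinj : Function.Injective f' := RingHom.injective f'
  refine ⟨RingEquiv.ofBijective f' ⟨hinj, Finite.surjective_of_injective hinj⟩, fun t => ?_⟩
  exact (hf t).symm

end res

section rep
variable (p : ℕ) [hp : Fact p.Prime] [CharP F p] (hF : Fintype.card F = q ^ 2) (hn : 3 ≤ n)
  {F₀ : Type*} [Field F₀] [Fintype F₀] (j : F₀ →+* F)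
  (hj : ∀ a : F, tauA hF a = a ↔ a ∈ Set.range j)
  (g : ↥(Cfsg.GU n F q)) (a : GL (Fin n) F) (μ : F) (hμ0 : μ ≠ 0)
  (ha : g.1.1 * a.1.map (tauA hF) = μ • a.1) (ω : F) (hω0 : ω ≠ 0)
  (S₀ : Matrix (Fin n) (Fin n) F₀) (hT : hs (tauA hF) a.1 * a.1 = ω • S₀.map j)

/-- the automorphism `c` is represented by the semilinear map `Ψ₀` in the coordinates of the
frame -/
def Rep (c : MulAut (Cfsg.PSU n F q)) (Ψ₀ : (Fin n → F₀) → (Fin n → F₀)) : Prop :=
  ∃ (h : ↥(Cfsg.GU n F q)) (ρ : RingAut F) (ρ₀ : F₀ ≃+* F₀) (k₀ : Matrix (Fin n) (Fin n) F₀)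
    (y : F), y ≠ 0 ∧ k₀.det ≠ 0 ∧ c = cU h * fU ρ ∧ (∀ t, ρ (j t) = j (ρ₀ t)) ∧
    h.1.1 * a.1.map ρ = y • (a.1 * k₀.map j) ∧ Ψ₀ = semiFun k₀ ρ₀

theorem map_map_j (M₀ : Matrix (Fin n) (Fin n) F₀) (ρ : RingAut F) (ρ₀ : F₀ ≃+* F₀)
    (hρ : ∀ t, ρ (j t) = j (ρ₀ t)) : (M₀.map j).map ρ = (M₀.map ρ₀).map j := by
  ext s t
  simp only [Matrix.map_apply]
  exact hρ _

theorem map_smul_ring (c : F) (M : Matrix (Fin n) (Fin n) F) (ρ : RingAut F) :
    (c • M).map ρ = ρ c • M.map ρ := by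
  ext s t
  simp

theorem rep_one : Rep j a (1 : MulAut (Cfsg.PSU n F q)) (fun v => v) := by
  refine ⟨1, 1, RingEquiv.refl F₀, 1, 1, one_ne_zero, by rw [Matrix.det_one]; exact one_ne_zero,
    by rw [map_one, fU_one, mul_one], fun t => rfl, ?_, ?_⟩
  · have e1 : a.1.map (1 : RingAut F) = a.1 := by
      ext s t
      rfl
    rw [e1, Matrix.map_one _ (map_zero j) (map_one j), Matrix.mul_one, one_smul]
    exact Matrix.one_mul _
  · funext v
    exact (semiFun_one_refl v).symm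

theorem rep_comp (c c' : MulAut (Cfsg.PSU n F q)) (Ψ₀ Ψ₀' : (Fin n → F₀) → (Fin n → F₀))
    (h1 : Rep j a c Ψ₀) (h2 : Rep j a c' Ψ₀') : Rep j a (c * c') (fun v => Ψ₀ (Ψ₀' v)) := by
  obtain ⟨h, ρ, ρ₀, k₀, y, hy, hk, rfl, hρ, hrel, rfl⟩ := h1
  obtain ⟨h', ρ', ρ₀', k₀', y', hy', hk', rfl, hρ', hrel', rfl⟩ := h2
  refine ⟨h * sGU ρ h', ρ * ρ', ρ₀'.trans ρ₀, k₀ * k₀'.map ρ₀, y * ρ y',
    mul_ne_zero hy ((map_ne_zero _).mpr hy'), ?_, ?_, ?_, ?_, ?_⟩
  · rw [Matrix.det_mul]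
    have : (k₀'.map ρ₀).det = ρ₀ k₀'.det := by
      have := (RingHom.map_det (ρ₀ : F₀ →+* F₀) k₀').symm
      exact this
    rw [this]
    exact mul_ne_zero hk ((map_ne_zero _).mpr hk')
  · rw [map_mul, fU_mul]
    calc cU h * fU ρ * (cU h' * fU ρ') = cU h * (fU ρ * cU h') * fU ρ' := by group
      _ = cU h * (cU (sGU ρ h') * fU ρ) * fU ρ' := by rw [rel_fU_cU]
      _ = _ := by group
  · intro t
    change ρ (ρ' (j t)) = j (ρ₀ (ρ₀' t))
    rw [hρ', hρ]
  · have e1 : (h * sGU ρ h').1.1 = h.1.1 * h'.1.1.map ρ := by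
      change h.1.1 * (sGU ρ h').1.1 = _
      rw [sGU_val]
    have e2 : a.1.map (ρ * ρ' : RingAut F) = (a.1.map ρ').map ρ := by
      ext s t
      rfl
    rw [e1, e2, Matrix.mul_assoc, ← Matrix.map_mul, hrel']
    have e3 : (y' • (a.1 * k₀'.map j)).map ρ = ρ y' • (a.1.map ρ * (k₀'.map ρ₀).map j) := by
      rw [map_smul_ring, Matrix.map_mul, map_map_j j k₀' ρ ρ₀ hρ]
    rw [e3, Matrix.mul_smul, ← Matrix.mul_assoc, hrel, Matrix.smul_mul, smul_smul,
      Matrix.mul_assoc, ← Matrix.map_mul, mul_comm]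
  · funext v
    exact semiFun_comp k₀ k₀' ρ₀ ρ₀' v

theorem rep_pow (c : MulAut (Cfsg.PSU n F q)) (Ψ₀ : (Fin n → F₀) → (Fin n → F₀))
    (h1 : Rep j a c Ψ₀) (m : ℕ) : Rep j a (c ^ m) (Ψ₀^[m]) := by
  induction m with
  | zero =>
    rw [pow_zero]
    exact rep_one j a
  | succ m ih =>
    rw [pow_succ']
    have := rep_comp j a c (c ^ m) Ψ₀ (Ψ₀^[m]) h1 ih
    have e : (fun v => Ψ₀ (Ψ₀^[m] v)) = Ψ₀^[m + 1] := by
      funext v
      rw [Function.iterate_succ_apply']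
    rwa [e] at this

/-- a nonzero matrix -/
theorem ne_zero_of_det (hn : 3 ≤ n) {R : Type*} [Field R] (M : Matrix (Fin n) (Fin n) R)
    (hM : M.det ≠ 0) : M ≠ 0 := by
  rintro rfl
  apply hM
  haveI : Nonempty (Fin n) := ⟨⟨0, by omega⟩⟩
  exact Matrix.det_zero

include hp hF hn in
/-- the representations of the same automorphism are proportional -/
theorem rep_unique (c : MulAut (Cfsg.PSU n F q)) (Ψ₀ Ψ₀' : (Fin n → F₀) → (Fin n → F₀))
    (h1 : Rep j a c Ψ₀) (h2 : Rep j a c Ψ₀') : ∃ c₀ : F₀, c₀ ≠ 0 ∧ ∀ v, Ψ₀ v = c₀ • Ψ₀' v := by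
  have hjinj : Function.Injective j := RingHom.injective j
  obtain ⟨h, ρ, ρ₀, k₀, y, hy, hk, rfl, hρ, hrel, rfl⟩ := h1
  obtain ⟨h', ρ', ρ₀', k₀', y', hy', hk', e, hρ', hrel', rfl⟩ := h2
  obtain ⟨rfl, lam, hlam⟩ := decomp_unique p hF hn h h' ρ ρ' e
  have hh : h.1.1 = lam • h'.1.1 := by
    have e1 : (h'⁻¹ * h).1.1 = (h'.1⁻¹).1 * h.1.1 := rfl
    rw [e1] at hlam
    calc h.1.1 = h'.1.1 * ((h'.1⁻¹).1 * h.1.1) := by
          rw [← Matrix.mul_assoc, gl_mul_inv, Matrix.one_mul]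
      _ = lam • h'.1.1 := by rw [hlam, Matrix.mul_smul, Matrix.mul_one]
  have hρ₀ : ρ₀ = ρ₀' := by
    apply RingEquiv.ext
    intro t
    apply hjinj
    rw [← hρ, ← hρ']
  subst hρ₀
  have hkk : k₀.map j = (lam * y' / y) • k₀'.map j := by
    have e1 : y • (a.1 * k₀.map j) = (lam * y') • (a.1 * k₀'.map j) := by
      rw [← hrel, hh, Matrix.smul_mul, hrel', smul_smul]
    have e2 : a.1 * k₀.map j = a.1 * ((lam * y' / y) • k₀'.map j) := by
      rw [Matrix.mul_smul]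
      have := congrArg (fun M => y⁻¹ • M) e1
      simp only [smul_smul, inv_mul_cancel₀ hy, one_smul] at this
      rw [this]
      congr 1
      field_simp
    calc k₀.map j = (a⁻¹).1 * (a.1 * k₀.map j) := by
          rw [← Matrix.mul_assoc, gl_inv_mul, Matrix.one_mul]
      _ = _ := by rw [e2, ← Matrix.mul_assoc, gl_inv_mul, Matrix.one_mul]
  obtain ⟨c₀, hc₀, hkc⟩ := exists_scalar_of_map_eq j k₀ k₀' _ (ne_zero_of_det hn k₀' hk') hkk
  refine ⟨c₀, ?_, ?_⟩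
  · rintro rfl
    rw [zero_smul] at hkc
    exact ne_zero_of_det hn k₀ hk hkc
  · intro v
    unfold semiFun
    rw [hkc, Matrix.smul_mulVec]

include hp hF hn in
/-- the trivial automorphism is represented by scalars only -/
theorem rep_one_scalar (Ψ₀ : (Fin n → F₀) → (Fin n → F₀))
    (h1 : Rep j a (1 : MulAut (Cfsg.PSU n F q)) Ψ₀) : ∃ c₀ : F₀, c₀ ≠ 0 ∧ ∀ v, Ψ₀ v = c₀ • v :=
  rep_unique p hF hn j a 1 Ψ₀ (fun v => v) h1 (rep_one j a)

include hn hj hω0 hT in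
/-- the representing maps are semilinear similarities of the form of the frame -/
theorem rep_semi (hdet : S₀.det ≠ 0) (c : MulAut (Cfsg.PSU n F q))
    (Ψ₀ : (Fin n → F₀) → (Fin n → F₀)) (h1 : Rep j a c Ψ₀) :
    Nonempty (Semi (Matrix.toBilin' S₀) Ψ₀) := by
  obtain ⟨h, ρ, ρ₀, k₀, y, hy, hk, rfl, hρ, hrel, rfl⟩ := h1
  have hτy : tauA hF y ≠ 0 := (map_ne_zero _).mpr hy
  have hcomm : ∀ b, tauA hF (ρ b) = ρ (tauA hF b) := tauA_comm hF ρ
  have hG1 : hs (tauA hF) (h.1.1 * a.1.map ρ) * (h.1.1 * a.1.map ρ) =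
      ρ ω • (S₀.map ρ₀).map j := by
    rw [hs_mul]
    calc hs (tauA hF) (a.1.map ρ) * hs (tauA hF) h.1.1 * (h.1.1 * a.1.map ρ)
        = hs (tauA hF) (a.1.map ρ) * (hs (tauA hF) h.1.1 * h.1.1) * a.1.map ρ := by
          simp only [Matrix.mul_assoc]
      _ = (hs (tauA hF) a.1 * a.1).map ρ := by
          rw [mem_GU_hs hF h, Matrix.mul_one, ← hs_map_comm ρ (tauA hF) hcomm, ← Matrix.map_mul]
      _ = _ := by rw [hT, map_smul_ring, map_map_j j S₀ ρ ρ₀ hρ]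
  have hG2 : hs (tauA hF) (h.1.1 * a.1.map ρ) * (h.1.1 * a.1.map ρ) =
      (tauA hF y * y * ω) • (k₀ᵀ * S₀ * k₀).map j := by
    rw [hrel, hs_smul, hs_mul, hs_map_j hF j hj, Matrix.smul_mul, Matrix.mul_smul, smul_smul]
    calc (tauA hF y * y) • (k₀ᵀ.map j * hs (tauA hF) a.1 * (a.1 * k₀.map j))
        = (tauA hF y * y) • (k₀ᵀ.map j * (hs (tauA hF) a.1 * a.1) * k₀.map j) := by
          simp only [Matrix.mul_assoc]
      _ = _ := by rw [form_congr hF j a ω S₀ hT, smul_smul]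
  have hkk : (k₀ᵀ * S₀ * k₀).map j = (ρ ω / (tauA hF y * y * ω)) • (S₀.map ρ₀).map j := by
    have e1 := hG2.symm.trans hG1
    have hne : tauA hF y * y * ω ≠ 0 := mul_ne_zero (mul_ne_zero hτy hy) hω0
    have := congrArg (fun M => (tauA hF y * y * ω)⁻¹ • M) e1
    simp only [smul_smul, inv_mul_cancel₀ hne, one_smul] at this
    rw [this]
    congr 1
    field_simp
  have hSρ : S₀.map ρ₀ ≠ 0 := by
    apply ne_zero_of_det hn
    have := (RingHom.map_det (ρ₀ : F₀ →+* F₀) S₀).symm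
    rw [show (S₀.map ρ₀).det = ρ₀ S₀.det from this]
    exact (map_ne_zero _).mpr hdet
  obtain ⟨ν₀, -, hν⟩ := exists_scalar_of_map_eq j _ _ _ hSρ hkk
  have hν0 : ν₀ ≠ 0 := by
    rintro rfl
    rw [zero_smul] at hν
    have h2 := congrArg Matrix.det hν
    rw [Matrix.det_mul, Matrix.det_mul, Matrix.det_transpose] at h2
    haveI : Nonempty (Fin n) := ⟨⟨0, by omega⟩⟩
    rw [Matrix.det_zero] at h2
    exact mul_ne_zero (mul_ne_zero hk hdet) hk h2
  exact ⟨semiOfMatrix S₀ k₀ ρ₀ ν₀ hν0 hν⟩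

include hp hF hn hj hμ0 ha in
/-- **descent**: every automorphism commuting with the graph automorphism is represented -/
theorem rep_exists (h32 : ¬ (n = 3 ∧ q = 2)) (c : MulAut (Cfsg.PSU n F q))
    (hc : c * (cU g * fU (tauA hF)) = cU g * fU (tauA hF) * c) :
    ∃ Ψ₀ : (Fin n → F₀) → (Fin n → F₀), Rep j a c Ψ₀ := by
  obtain ⟨ρ, h, rfl⟩ := exists_hasDecU p hF hn h32 c
  have hcomm : ∀ b, tauA hF (ρ b) = ρ (tauA hF b) := tauA_comm hF ρ
  obtain ⟨ρ₀, hρ₀⟩ := exists_res j (tauA hF) hj ρ hcomm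
  have e1 : cU h * fU ρ * (cU g * fU (tauA hF)) =
      (cU (h * sGU ρ g) * fU (ρ * tauA hF) : MulAut (Cfsg.PSU n F q)) := by
    rw [map_mul, fU_mul]
    calc cU h * fU ρ * (cU g * fU (tauA hF))
        = cU h * (fU ρ * cU g) * fU (tauA hF) := by group
      _ = cU h * (cU (sGU ρ g) * fU ρ) * fU (tauA hF) := by rw [rel_fU_cU]
      _ = _ := by group
  have e2 : cU g * fU (tauA hF) * (cU h * fU ρ) =
      (cU (g * sGU (tauA hF) h) * fU (tauA hF * ρ) : MulAut (Cfsg.PSU n F q)) := by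
    rw [map_mul, fU_mul]
    calc cU g * fU (tauA hF) * (cU h * fU ρ)
        = cU g * (fU (tauA hF) * cU h) * fU ρ := by group
      _ = cU g * (cU (sGU (tauA hF) h) * fU (tauA hF)) * fU ρ := by rw [rel_fU_cU]
      _ = _ := by group
  rw [e1, e2] at hc
  obtain ⟨-, l, hl⟩ := decomp_unique p hF hn _ _ _ _ hc
  have hl' : h.1.1 * g.1.1.map ρ = l • (g.1.1 * h.1.1.map (tauA hF)) := by
    have e3 : ((g * sGU (tauA hF) h)⁻¹ * (h * sGU ρ g)).1.1 =
        ((g * sGU (tauA hF) h).1⁻¹).1 * (h.1.1 * g.1.1.map ρ) := by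
      change ((g * sGU (tauA hF) h).1⁻¹).1 * (h.1.1 * (sGU ρ g).1.1) = _
      rw [sGU_val]
    have e4 : (g * sGU (tauA hF) h).1.1 = g.1.1 * h.1.1.map (tauA hF) := by
      change g.1.1 * (sGU (tauA hF) h).1.1 = _
      rw [sGU_val]
    rw [e3] at hl
    calc h.1.1 * g.1.1.map ρ
        = (g * sGU (tauA hF) h).1.1 *
            (((g * sGU (tauA hF) h).1⁻¹).1 * (h.1.1 * g.1.1.map ρ)) := by
          rw [← Matrix.mul_assoc, gl_mul_inv, Matrix.one_mul]
      _ = _ := by rw [hl, Matrix.mul_smul, Matrix.mul_one, e4]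
  have hl0 : l ≠ 0 := by
    rintro rfl
    rw [zero_smul] at hl'
    have h1 : (h * sGU ρ g).1.1 = 0 := by
      change h.1.1 * (sGU ρ g).1.1 = 0
      rw [sGU_val, hl']
    obtain ⟨s, t, hst⟩ := gl_ne_zero (by omega : 1 ≤ n) (h * sGU ρ g).1
    rw [h1] at hst
    exact hst rfl
  obtain ⟨b', hb'⟩ : ∃ b' : GL (Fin n) F,
      b' = h.1 * Matrix.GeneralLinearGroup.map (ρ : F →+* F) a := ⟨_, rfl⟩
  have hb'val : b'.1 = h.1.1 * a.1.map ρ := by rw [hb']; rfl
  have hmm : (a.1.map ρ).map (tauA hF) = (a.1.map (tauA hF)).map ρ := by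
    ext s t
    simp only [Matrix.map_apply]
    exact hcomm _
  have hframe : g.1.1 * b'.1.map (tauA hF) = (l⁻¹ * ρ μ) • b'.1 := by
    rw [hb'val, Matrix.map_mul, ← Matrix.mul_assoc]
    have e5 : g.1.1 * h.1.1.map (tauA hF) = l⁻¹ • (h.1.1 * g.1.1.map ρ) := by
      rw [hl', smul_smul, inv_mul_cancel₀ hl0, one_smul]
    rw [e5, hmm, Matrix.smul_mul, Matrix.mul_assoc, ← Matrix.map_mul, ha, map_smul_ring,
      Matrix.mul_smul, smul_smul]
  obtain ⟨y, k₀, hy, hk₀, hrel⟩ := frames_unique hF j hj (by omega : 1 ≤ n) g.1.1 a b' μ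
    (l⁻¹ * ρ μ) hμ0 ha hframe
  exact ⟨semiFun k₀ ρ₀, h, ρ, ρ₀, k₀, y, hy, hk₀, rfl, hρ₀, by rw [← hb'val, hrel], rfl⟩

include hp hn hj ha hT in
/-- lifting an isometry of determinant one of the form of the frame -/
theorem rep_lift (k₀ : Matrix (Fin n) (Fin n) F₀) (hk : k₀ᵀ * S₀ * k₀ = S₀) (hdet : k₀.det = 1) :
    ∃ (h : ↥(Cfsg.GU n F q)) (s : ↥(Cfsg.SU n F q)), h.1.1 = a.1 * k₀.map j * (a⁻¹).1 ∧
      (cU h : MulAut (Cfsg.PSU n F q)) = MulAut.conj (pu s) ∧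
      cU h * (cU g * fU (tauA hF)) = (cU g * fU (tauA hF) : MulAut (Cfsg.PSU n F q)) * cU h ∧
      Rep j a (cU h) (fun v => k₀ *ᵥ v) := by
  obtain ⟨h, hh, hcomm⟩ := lift_sim hF j hj g a μ ha ω S₀ hT k₀ 1 one_ne_zero
    (by rw [hk, one_smul]) 1 (by rw [map_one, map_one, mul_one, inv_one])
  rw [one_smul] at hh
  have hdeth : h.1.1.det = 1 := by
    rw [hh, Matrix.det_mul, Matrix.det_mul, mul_right_comm, ← Matrix.det_mul, gl_mul_inv,
      Matrix.det_one, one_mul, map_j_det, hdet, map_one]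
  obtain ⟨s, hs⟩ := exists_SU_of_pres h.1.1 (GU_pres h) hdeth
  have hsh : suGU s = h := by
    apply Subtype.ext
    apply Units.ext
    exact hs
  refine ⟨h, s, hh, ?_, ?_, ?_⟩
  · rw [← hsh, cU_suGU]
  · rw [comm_gU_iff p hF hn]
    exact ⟨_, hcomm⟩
  · refine ⟨h, 1, RingEquiv.refl F₀, k₀, 1, one_ne_zero, by rw [hdet]; exact one_ne_zero,
      by rw [fU_one, mul_one], fun t => rfl, ?_, ?_⟩
    · have e1 : a.1.map (1 : RingAut F) = a.1 := by
        ext s t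
        rfl
      rw [e1, hh, one_smul, Matrix.mul_assoc, gl_inv_mul, Matrix.mul_one]
    · funext v
      rfl

include hp hn hj ha hT in
/-- the Siegel transformations of the form of the frame lift to inner automorphisms of odd order
commuting with the graph automorphism -/
theorem rep_sieg (ε₀ : F₀) (hE : EpsForm (Matrix.toBilin' S₀) ε₀) (u w : Fin n → F₀)
    (hu : Matrix.toBilin' S₀ u u = 0) (hwu : Matrix.toBilin' S₀ w u = 0) :
    ∃ ρ' : MulAut (Cfsg.PSU n F q), ρ' ∈ Cfsg.Inn (Cfsg.PSU n F q) ∧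
      ρ' * (cU g * fU (tauA hF)) = cU g * fU (tauA hF) * ρ' ∧ ρ' ^ p = 1 ∧
      Rep j a ρ' (fun v => sieg (Matrix.toBilin' S₀) ε₀ u w v) ∧
      Rep j a ρ'⁻¹ (fun v => sieg (Matrix.toBilin' S₀) ε₀ u (-w) v) := by
  haveI : CharP F₀ p := RingHom.charP j (RingHom.injective j) p
  have hwu' : Matrix.toBilin' S₀ (-w) u = 0 := by
    rw [map_neg, LinearMap.neg_apply, hwu, neg_zero]
  obtain ⟨h, s, hh, hconj, hcomm, hrep⟩ := rep_lift p hF hn j hj g a μ ha ω S₀ hT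
    (siegM S₀ ε₀ u w) (siegM_isom S₀ ε₀ hE u w hu hwu) (siegM_det S₀ ε₀ hE u w hu hwu p)
  obtain ⟨h', s', hh', -, -, hrep'⟩ := rep_lift p hF hn j hj g a μ ha ω S₀ hT
    (siegM S₀ ε₀ u (-w)) (siegM_isom S₀ ε₀ hE u (-w) hu hwu')
    (siegM_det S₀ ε₀ hE u (-w) hu hwu' p)
  have hone : (1 : Matrix (Fin n) (Fin n) F₀).map j = 1 :=
    Matrix.map_one _ (map_zero j) (map_one j)
  have hhh' : h * h' = 1 := by
    apply Subtype.ext
    apply Units.ext
    change h.1.1 * h'.1.1 = 1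
    rw [hh, hh']
    calc a.1 * (siegM S₀ ε₀ u w).map j * (a⁻¹).1 * (a.1 * (siegM S₀ ε₀ u (-w)).map j * (a⁻¹).1)
        = a.1 * ((siegM S₀ ε₀ u w).map j * ((a⁻¹).1 * a.1) * (siegM S₀ ε₀ u (-w)).map j) *
            (a⁻¹).1 := by simp only [Matrix.mul_assoc]
      _ = 1 := by
          rw [gl_inv_mul, Matrix.mul_one, ← Matrix.map_mul, siegM_mul_neg S₀ ε₀ hE u w hu hwu,
            hone, Matrix.mul_one, gl_mul_inv]
  have hinv : (cU h' : MulAut (Cfsg.PSU n F q)) = (cU h)⁻¹ := by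
    apply eq_inv_of_mul_eq_one_right
    rw [← map_mul, hhh', map_one]
  -- the order
  obtain ⟨m₀, hm₀⟩ : ∃ m₀ : GL (Fin n) F₀, m₀.1 = siegM S₀ ε₀ u w :=
    ⟨⟨siegM S₀ ε₀ u w, siegM S₀ ε₀ u (-w), siegM_mul_neg S₀ ε₀ hE u w hu hwu,
      siegM_neg_mul S₀ ε₀ hE u w hu hwu⟩, rfl⟩
  have hm₀p : m₀ ^ p = 1 := by
    apply Units.ext
    rw [Units.val_pow_eq_pow_val, hm₀, siegM_pow S₀ ε₀ hE u w hu hwu p]
    rfl
  have hhm : h.1 = a * Matrix.GeneralLinearGroup.map j m₀ * a⁻¹ := by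
    apply Units.ext
    change h.1.1 = a.1 * m₀.1.map j * (a⁻¹).1
    rw [hh, hm₀]
  have hhp : h ^ p = 1 := by
    apply Subtype.ext
    rw [Subgroup.coe_pow, hhm, conj_pow, ← map_pow, hm₀p, map_one, mul_one, mul_inv_cancel]
    rfl
  refine ⟨cU h, ?_, hcomm, ?_, ?_, ?_⟩
  · rw [hconj]
    exact ⟨pu s, rfl⟩
  · rw [← map_pow, hhp, map_one]
  · have e : (fun v => sieg (Matrix.toBilin' S₀) ε₀ u w v) =
        fun v => siegM S₀ ε₀ u w *ᵥ v := by
      funext v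
      exact (siegM_mulVec S₀ ε₀ u w v).symm
    rw [e]
    exact hrep
  · have e : (fun v => sieg (Matrix.toBilin' S₀) ε₀ u (-w) v) =
        fun v => siegM S₀ ε₀ u (-w) *ᵥ v := by
      funext v
      exact (siegM_mulVec S₀ ε₀ u (-w) v).symm
    rw [e, ← hinv]
    exact hrep'

include hp hF hn hj hμ0 ha in
/-- an automorphism represented by a scalar is trivial or the graph automorphism -/
theorem rep_final (c : MulAut (Cfsg.PSU n F q)) (Ψ₀ : (Fin n → F₀) → (Fin n → F₀))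
    (h1 : Rep j a c Ψ₀) (c₀ : F₀) (hc₀ : ∀ v, Ψ₀ v = c₀ • v) :
    c = 1 ∨ c = cU g * fU (tauA hF) := by
  have hjinj : Function.Injective j := RingHom.injective j
  obtain ⟨h, ρ, ρ₀, k₀, y, hy, hk, rfl, hρ, hrel, rfl⟩ := h1
  have hsingle : ∀ (t : Fin n) (s : F₀), (fun i => ρ₀ ((s • (Pi.single t 1 : Fin n → F₀)) i)) =
      ρ₀ s • (Pi.single t 1 : Fin n → F₀) := by
    intro t s
    funext i
    by_cases hit : i = t
    · subst hit
      simp
    · simp [Pi.single_apply, hit]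
  have hk₀ : k₀ = c₀ • (1 : Matrix (Fin n) (Fin n) F₀) := by
    ext s t
    have := congrFun (hc₀ (Pi.single t 1)) s
    unfold semiFun at this
    have e := hsingle t 1
    rw [one_smul, map_one, one_smul] at e
    rw [e, Matrix.mulVec_single_one] at this
    rw [Matrix.smul_apply, Matrix.one_apply, smul_eq_mul]
    simp only [Matrix.col_apply, Pi.smul_apply, Pi.single_apply, smul_eq_mul] at this
    rw [this]
  have hc₀0 : c₀ ≠ 0 := by
    rintro rfl
    rw [zero_smul] at hk₀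
    exact ne_zero_of_det hn k₀ hk hk₀
  let i0 : Fin n := ⟨0, by omega⟩
  have hρ₀ : ∀ s : F₀, ρ₀ s = s := by
    intro s
    have := congrFun (hc₀ (s • (Pi.single i0 1 : Fin n → F₀))) i0
    unfold semiFun at this
    rw [hsingle, hk₀, Matrix.smul_mulVec, Matrix.one_mulVec] at this
    simp only [Pi.smul_apply, Pi.single_eq_same, smul_eq_mul, mul_one] at this
    exact mul_left_cancel₀ hc₀0 this
  have hfix : ∀ b : F, tauA hF b = b → ρ b = b := by
    intro b hb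
    obtain ⟨t, rfl⟩ := (hj b).mp hb
    rw [hρ, hρ₀]
  have hmem := Cfsg.Agent.Lib.Helper6.LocalBal.mem_zpowers_of_fixed (tauA hF) ρ hfix
  have hcases : ρ = 1 ∨ ρ = tauA hF := by
    obtain ⟨i, rfl⟩ := Subgroup.mem_zpowers_iff.mp hmem
    have h2 : tauA hF ^ (2 : ℤ) = 1 := by
      rw [zpow_two]; exact tauA_mul_self hF
    rcases Int.even_or_odd' i with ⟨m, hm | hm⟩
    · left
      rw [hm, _root_.zpow_mul, h2, _root_.one_zpow]
    · right
      rw [hm, _root_.zpow_add, _root_.zpow_mul, h2, _root_.one_zpow, one_mul, zpow_one]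
  have hrel' : h.1.1 * a.1.map ρ = (y * j c₀) • a.1 := by
    rw [hrel, hk₀, map_smul_one, Matrix.mul_smul, Matrix.mul_one, smul_smul]
  rcases hcases with rfl | rfl
  · left
    have e1 : a.1.map (1 : RingAut F) = a.1 := by
      ext s t
      rfl
    rw [e1] at hrel'
    have e2 : h.1.1 = (y * j c₀) • (1 : Matrix (Fin n) (Fin n) F) := by
      calc h.1.1 = h.1.1 * a.1 * (a⁻¹).1 := by
            rw [Matrix.mul_assoc, gl_mul_inv, Matrix.mul_one]
        _ = _ := by rw [hrel', Matrix.smul_mul, gl_mul_inv]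
    rw [cU_scalar h _ e2, fU_one, mul_one]
  · right
    congr 1
    rw [cU_eq_iff p hF hn]
    refine ⟨y * j c₀ * μ⁻¹, ?_⟩
    have e3 : a.1 * (a⁻¹).1.map (tauA hF) = μ⁻¹ • g.1.1 := by
      calc a.1 * (a⁻¹).1.map (tauA hF)
          = μ⁻¹ • ((μ • a.1) * (a⁻¹).1.map (tauA hF)) := by
            rw [Matrix.smul_mul, smul_smul, inv_mul_cancel₀ hμ0, one_smul]
        _ = _ := by rw [← ha, Matrix.mul_assoc, gl_map_mul_inv, Matrix.mul_one]
    calc h.1.1 = h.1.1 * a.1.map (tauA hF) * (a⁻¹).1.map (tauA hF) := by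
          rw [Matrix.mul_assoc, gl_map_mul_inv, Matrix.mul_one]
      _ = _ := by rw [hrel', Matrix.smul_mul, e3, smul_smul]

end rep

end Cfsg.Agent.Lib.Helper16.UBal
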