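import Mathlib
import Cfsg.Agent.Lib.Helper16.UBalC
import Cfsg.Agent.Lib.Helper16.LocalBalMinusM

/-!
# Local balance for the unitary groups, part D: the subgroups of odd order normalised by the
centraliser of an involutory graph automorphism
-/

set_option autoImplicit false
set_option linter.unusedSectionVars false
set_option linter.unusedVariables false
set_option linter.unusedSimpArgs false
set_option linter.style.haveILetI false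

namespace Cfsg.Agent.Lib.Helper16.UBal

open Matrix Cfsg Cfsg.Agent.Lib.Helper6 Cfsg.Agent.Lib.Helper6.AutPSU
  Cfsg.Agent.Lib.Helper16.H90GL
  Cfsg.Agent.Lib.Helper16.GraphFieldCoset Cfsg.Agent.Lib.Helper16.UnitaryDescent
  Cfsg.Agent.Lib.Helper16.FieldCosetPSU Cfsg.Agent.Lib.Helper16.SplitCount
  Cfsg.Agent.Lib.Helper16.FieldCentPSU Cfsg.Agent.Lib.Helper16.OrthClassify
  Cfsg.Agent.Lib.Helper16.GraphCentPSL Cfsg.Agent.Lib.Helper16.GraphCentPSU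
  Cfsg.Agent.Lib.Helper16.GraphInvPSU
open Cfsg.Agent.Lib.Helper6.AutPSL (sG sG_val gl_mul_inv gl_inv_mul)
open Cfsg.Agent.Lib.Helper16.FieldCentPSL (mem_cent_comap gl_ne_zero)
open Cfsg.Agent.Lib.Helper16.FieldCoset (card_fin_ge scalar_eq_smul_one)
open Cfsg.Agent.Lib.Helper16.LocalBalMinus (exists_odd_pow_eq_one' pPrimeCore_two_eq_bot)

variable {F : Type*} [Field F] [Fintype F] {q n : ℕ}

section main
variable (p : ℕ) [hp : Fact p.Prime] [CharP F p] (hF : Fintype.card F = q ^ 2) (hn : 3 ≤ n)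
  {F₀ : Type*} [Field F₀] [Fintype F₀] (j : F₀ →+* F)
  (hj : ∀ a : F, tauA hF a = a ↔ a ∈ Set.range j)
  (g : ↥(Cfsg.GU n F q)) (a : GL (Fin n) F) (μ : F) (hμ0 : μ ≠ 0)
  (ha : g.1.1 * a.1.map (tauA hF) = μ • a.1) (ω : F) (hω0 : ω ≠ 0)
  (S₀ : Matrix (Fin n) (Fin n) F₀) (hT : hs (tauA hF) a.1 * a.1 = ω • S₀.map j)

include hp hF hn hj hμ0 ha hω0 hT in
/-- **the subgroups of odd order commuting with an involutory graph automorphism and normalised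
by its centraliser in the inner automorphisms are trivial** -/
theorem odd_normal_trivial_U (h32 : ¬ (n = 3 ∧ q = 2)) (ε₀ : F₀) (hε₀ : ε₀ = 1 ∨ ε₀ = -1)
    (hS₀ : S₀ᵀ = ε₀ • S₀) (hdet : S₀.det ≠ 0) (h2 : (2 : F₀) ≠ 0)
    (hβ2 : (cU g * fU (tauA hF) : MulAut (Cfsg.PSU n F q)) * (cU g * fU (tauA hF)) = 1)
    (N : Subgroup (MulAut (Cfsg.PSU n F q))) [Finite N] (hodd : Odd (Nat.card N))
    (hNx : ∀ m ∈ N, m * (cU g * fU (tauA hF)) = cU g * fU (tauA hF) * m)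
    (hNn : ∀ c ∈ Cfsg.Inn (Cfsg.PSU n F q),
      c * (cU g * fU (tauA hF)) = cU g * fU (tauA hF) * c → ∀ m ∈ N, c * m * c⁻¹ ∈ N) :
    ∀ m ∈ N, m = 1 := by
  have hE := epsForm_of_matrix S₀ ε₀ hε₀ hS₀ hdet h2
  have hpodd : Odd p := by
    rcases hp.out.eq_two_or_odd' with h | h
    · exfalso
      apply h2
      haveI : CharP F₀ p := RingHom.charP j (RingHom.injective j) p
      have := CharP.cast_eq_zero F₀ p
      rw [h] at this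
      exact_mod_cast this
    · exact h
  obtain ⟨𝒩, h𝒩⟩ : ∃ 𝒩 : Set ((Fin n → F₀) → (Fin n → F₀)),
      𝒩 = {Ψ₀ | ∃ m ∈ N, Rep j a m Ψ₀} := ⟨_, rfl⟩
  have hsemi : ∀ Ψ ∈ 𝒩, Nonempty (Semi (Matrix.toBilin' S₀) Ψ) := by
    intro Ψ hΨ
    rw [h𝒩] at hΨ
    obtain ⟨m, -, hm⟩ := hΨ
    exact rep_semi hF hn j hj a ω hω0 S₀ hT hdet m Ψ hm
  have hsq : ∀ Ψ ∈ 𝒩, (fun x => Ψ (Ψ x)) ∈ 𝒩 := by
    intro Ψ hΨ
    rw [h𝒩] at hΨ ⊢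
    obtain ⟨m, hmN, hm⟩ := hΨ
    exact ⟨m * m, N.mul_mem hmN hmN, rep_comp j a m m Ψ Ψ hm hm⟩
  have hoddK : ∀ Ψ ∈ 𝒩, ∀ u w : Fin n → F₀, Matrix.toBilin' S₀ u u = 0 →
      Matrix.toBilin' S₀ w u = 0 → ∃ K : ℕ, Odd K ∧ ∃ c : F₀, c ≠ 0 ∧
        ∀ x, (fun y => sieg (Matrix.toBilin' S₀) ε₀ u w (Ψ y))^[K] x = c • x := by
    intro Ψ hΨ u w hu hwu
    rw [h𝒩] at hΨ
    obtain ⟨m, hmN, hm⟩ := hΨ
    obtain ⟨ρ', hinn, hcomm, hpow, hrep, -⟩ := rep_sieg p hF hn j hj g a μ ha ω S₀ hT ε₀ hE u w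
      hu hwu
    obtain ⟨K, hK, hKpow⟩ := exists_odd_pow_eq_one' N hodd m ρ' hmN (hNn ρ' hinn hcomm) p hpodd
      hpow
    refine ⟨K, hK, ?_⟩
    have h1 := rep_pow j a _ _ (rep_comp j a ρ' m _ Ψ hrep hm) K
    rw [hKpow] at h1
    exact rep_one_scalar p hF hn j a _ h1
  have hcommK : ∀ Ψ ∈ 𝒩, ∀ u w : Fin n → F₀, Matrix.toBilin' S₀ u u = 0 →
      Matrix.toBilin' S₀ w u = 0 → ∃ Ψ' ∈ 𝒩, ∃ c : F₀, c ≠ 0 ∧ ∀ x, Ψ (Ψ' x) =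
        c • sieg (Matrix.toBilin' S₀) ε₀ u w (Ψ (sieg (Matrix.toBilin' S₀) ε₀ u (-w) x)) := by
    intro Ψ hΨ u w hu hwu
    rw [h𝒩] at hΨ
    obtain ⟨m, hmN, hm⟩ := hΨ
    obtain ⟨ρ', hinn, hcomm, hpow, hrep, hrep'⟩ := rep_sieg p hF hn j hj g a μ ha ω S₀ hT ε₀ hE
      u w hu hwu
    have hm'N : m⁻¹ * (ρ' * m * ρ'⁻¹) ∈ N :=
      N.mul_mem (N.inv_mem hmN) (hNn ρ' hinn hcomm m hmN)
    obtain ⟨Ψ', hΨ'⟩ := rep_exists p hF hn j hj g a μ hμ0 ha h32 _ (hNx _ hm'N)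
    refine ⟨Ψ', by rw [h𝒩]; exact ⟨_, hm'N, hΨ'⟩, ?_⟩
    have h1 := rep_comp j a m _ Ψ Ψ' hm hΨ'
    have e : m * (m⁻¹ * (ρ' * m * ρ'⁻¹)) = ρ' * m * ρ'⁻¹ := by group
    rw [e] at h1
    have h2' := rep_comp j a _ _ _ _ (rep_comp j a ρ' m _ Ψ hrep hm) hrep'
    exact rep_unique p hF hn j a _ _ _ h1 h2'
  have h3 : 3 ≤ Module.finrank F₀ (Fin n → F₀) := by
    rw [Module.finrank_fin_fun]
    exact hn
  intro m hmN
  obtain ⟨Ψ₀, hΨ₀⟩ := rep_exists p hF hn j hj g a μ hμ0 ha h32 m (hNx m hmN)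
  have hmem : Ψ₀ ∈ 𝒩 := by rw [h𝒩]; exact ⟨m, hmN, hΨ₀⟩
  obtain ⟨c₀, hc₀⟩ := all_scalar hE 𝒩 hsemi hsq hoddK hcommK h3 Ψ₀ hmem
  rcases rep_final p hF hn j hj g a μ hμ0 ha m Ψ₀ hΨ₀ c₀ hc₀ with h | h
  · exact h
  · exfalso
    rw [h] at hmN
    have h4 : (⟨_, hmN⟩ : ↥N) ^ Nat.card N = 1 := pow_card_eq_one'
    have h5 := congrArg Subtype.val h4
    rw [Subgroup.coe_pow, Subgroup.coe_one] at h5
    obtain ⟨k, hk⟩ := hodd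
    rw [hk, pow_succ, pow_mul, pow_two, hβ2, one_pow, one_mul] at h5
    exact gU_ne_one p hF hn g h5

end main

end Cfsg.Agent.Lib.Helper16.UBal
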