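import Mathlib
import Cfsg.Agent.Lib.Helper16.UBalD
import Cfsg.Agent.Lib.Helper16.UBalE
import Cfsg.Agent.Lib.Helper6.SUThreeTwo

/-!
# Local balance for the unitary groups, part F: the involutory automorphisms which are not
inner-diagonal
-/

set_option autoImplicit false
set_option linter.unusedSectionVars false
set_option linter.unusedVariables false
set_option linter.unusedSimpArgs false
set_option linter.style.haveILetI false

namespace Cfsg.Agent.Lib.Helper16.UBal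

open Matrix Cfsg Cfsg.Agent.Lib.Helper6 Cfsg.Agent.Lib.Helper6.AutPSU
  Cfsg.Agent.Lib.Helper16.H90GL
  Cfsg.Agent.Lib.Helper16.GraphFieldCoset Cfsg.Agent.Lib.Helper16.UnitaryDescent
  Cfsg.Agent.Lib.Helper16.FieldCosetPSU Cfsg.Agent.Lib.Helper16.SplitCount
  Cfsg.Agent.Lib.Helper16.FieldCentPSU Cfsg.Agent.Lib.Helper16.OrthClassify
  Cfsg.Agent.Lib.Helper16.GraphCentPSL Cfsg.Agent.Lib.Helper16.GraphCentPSU
  Cfsg.Agent.Lib.Helper16.GraphInvPSU
open Cfsg.Agent.Lib.Helper6.AutPSL (sG sG_val gl_mul_inv gl_inv_mul)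
open Cfsg.Agent.Lib.Helper16.FieldCentPSL (mem_cent_comap gl_ne_zero)
open Cfsg.Agent.Lib.Helper16.FieldCoset (card_fin_ge scalar_eq_smul_one)
open Cfsg.Agent.Lib.Helper16.LocalBalMinus (exists_odd_pow_eq_one' pPrimeCore_two_eq_bot)

variable {F : Type*} [Field F] [Fintype F] {q n : ℕ}

/-- `PSU_3(2)` is not simple -/
theorem not_three_two (hF : Fintype.card F = q ^ 2) (hK : IsSimpleGroup (Cfsg.PSU n F q)) :
    ¬ (n = 3 ∧ q = 2) := by
  rintro ⟨rfl, rfl⟩
  have hF4 : Fintype.card F = 4 := by rw [hF]; norm_num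
  obtain ⟨N, hN, h9, -, -⟩ := Cfsg.Agent.Lib.Helper6.SUThreeTwo.psu_three_two hF4
  have h72 : Nat.card (Cfsg.PSU 3 F 2) = 72 := (Cfsg.Agent.S0282.result hF4).1
  rcases hK.eq_bot_or_eq_top_of_normal N hN with h | h
  · rw [h, Subgroup.card_bot] at h9
    omega
  · rw [h, Subgroup.card_top, h72] at h9
    omega

section two
variable (r : ℕ) [hr : Fact r.Prime] [CharP F r] (hF : Fintype.card F = q ^ 2) (hn : 3 ≤ n)

include hr hF hn in
/-- **the involutory automorphisms which are not inner-diagonal**: the core is trivial and the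
number of fixed points is even -/
theorem main_two (hK : IsSimpleGroup (Cfsg.PSU n F q))
    (𝒢 : Subgroup (MulAut (Cfsg.PSU n F q))) (hinn : ∀ k : Cfsg.PSU n F q, MulAut.conj k ∈ 𝒢)
    (hr2 : r ≠ 2) (β : MulAut (Cfsg.PSU n F q)) (hord : orderOf β = 2)
    (hnot : ¬ Cfsg.IsInnerDiagonalAutPSU β) :
    Cfsg.pPrimeCore 2 ↥(𝒢 ⊓ Subgroup.centralizer {β}) = ⊥ ∧
      2 ∣ Nat.card ↥(MonoidHom.eqLocus β.toMonoidHom (MonoidHom.id (Cfsg.PSU n F q))) := by
  classical
  have h32 := not_three_two hF hK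
  have hβ2 : β * β = 1 := by rw [← pow_two, ← hord, pow_orderOf_eq_one]
  constructor
  · obtain ⟨σ, g, rfl⟩ := exists_hasDecU r hF hn h32 β
    have hσ1 : σ ≠ 1 := by
      rintro rfl
      apply hnot
      rw [fU_one, mul_one]
      exact isInnerDiag_cU g
    have hσ2 : σ * σ = 1 := by
      have h1 : (cU g * fU σ : MulAut (Cfsg.PSU n F q)) ^ 2 = 1 := by rw [pow_two, hβ2]
      rw [pow_cU_fU] at h1
      have e : (cU (NrmU σ g 2) * fU (σ ^ 2 : RingAut F) : MulAut (Cfsg.PSU n F q)) =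
          cU 1 * fU 1 := by rw [h1, map_one, fU_one, mul_one]
      have := (decomp_unique r hF hn _ 1 _ _ e).1
      rwa [pow_two] at this
    have hστ := eq_tauA r hF σ hσ2 hσ1
    subst hστ
    obtain ⟨ε₁, hε₁, hg⟩ := (orderOf_gU r hF hn g).mp hord
    -- the fixed field
    haveI : Fintype ↥(fixK (tauA hF)) := Fintype.ofFinite _
    obtain ⟨j, hjdef⟩ : ∃ j : ↥(fixK (tauA hF)) →+* F, j = (fixK (tauA hF)).subtype := ⟨_, rfl⟩
    have hj : ∀ t : F, tauA hF t = t ↔ t ∈ Set.range j := by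
      intro t
      rw [hjdef]
      constructor
      · intro ht
        exact ⟨⟨t, ht⟩, rfl⟩
      · rintro ⟨s, rfl⟩
        exact s.2
    haveI : CharP ↥(fixK (tauA hF)) r := RingHom.charP j (RingHom.injective j) r
    have h2 : (2 : ↥(fixK (tauA hF))) ≠ 0 := by
      intro h0
      have h1 : ((2 : ℕ) : ↥(fixK (tauA hF))) = 0 := by exact_mod_cast h0
      rw [CharP.cast_eq_zero_iff ↥(fixK (tauA hF)) r] at h1
      exact hr2 ((Nat.prime_dvd_prime_iff_eq hr.out Nat.prime_two).mp h1)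
    obtain ⟨ε₀, hε₀, hjε⟩ : ∃ ε₀ : ↥(fixK (tauA hF)), (ε₀ = 1 ∨ ε₀ = -1) ∧ j ε₀ = ε₁ := by
      rcases hε₁ with rfl | rfl
      · exact ⟨1, Or.inl rfl, map_one j⟩
      · exact ⟨-1, Or.inr rfl, by rw [map_neg, map_one]⟩
    obtain ⟨ω, hω0, hω⟩ := exists_omega hF ε₁ hε₁
    rw [← hjε] at hg hω
    obtain ⟨a, μ, S₀, hμ0, ha, hT, hS₀, hdet⟩ := exists_form hF j hj g ε₀ hε₀ hg ω hω0 hω
    have hIA : Cfsg.Inn (Cfsg.PSU n F q) ≤ 𝒢 := by
      rintro _ ⟨k, rfl⟩
      exact hinn k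
    apply pPrimeCore_two_eq_bot (Cfsg.Inn (Cfsg.PSU n F q)) 𝒢 hIA
    intro N _ hodd hNx hNn
    exact odd_normal_trivial_U r hF hn j hj g a μ hμ0 ha ω hω0 S₀ hT h32 ε₀ hε₀ hS₀ hdet h2 hβ2
      N hodd hNx hNn
  · apply even_card_fixed β hβ2
    have h1 := q2m1_dvd_card_PSU hF n hn
    refine dvd_trans ?_ h1
    have hoddF : Fintype.card F % 2 = 1 := by
      apply FiniteField.odd_card_of_char_ne_two
      rw [ringChar.eq F r]
      exact hr2
    rw [hF] at hoddF
    have hq : q % 2 = 1 := by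
      rcases Nat.mod_two_eq_zero_or_one q with h | h
      · exfalso
        have : q ^ 2 % 2 = 0 := by
          rw [Nat.pow_mod, h]
        omega
      · exact h
    have : q ^ 2 % 2 = 1 := hoddF
    omega

end two

end Cfsg.Agent.Lib.Helper16.UBal
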