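import Mathlib
import Cfsg.Agent.Lib.Helper16.UBalC
import Cfsg.Agent.Lib.Helper16.UBalE
import Cfsg.Agent.Lib.Helper6.LocalBalE
import Cfsg.Agent.Lib.Helper6.SUSimple

/-!
# Local balance for the unitary groups, part G: the subfield subgroup in the centraliser of a
field automorphism of odd order
-/

set_option autoImplicit false
set_option linter.unusedSectionVars false
set_option linter.unusedVariables false
set_option linter.unusedSimpArgs false
set_option linter.style.haveILetI false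

namespace Cfsg.Agent.Lib.Helper16.UBal

open Matrix Cfsg Cfsg.Agent.Lib.Helper6 Cfsg.Agent.Lib.Helper6.AutPSU
  Cfsg.Agent.Lib.Helper16.H90GL
  Cfsg.Agent.Lib.Helper16.GraphFieldCoset Cfsg.Agent.Lib.Helper16.UnitaryDescent
  Cfsg.Agent.Lib.Helper16.FieldCosetPSU Cfsg.Agent.Lib.Helper16.SplitCount
  Cfsg.Agent.Lib.Helper16.FieldCentPSU
open Cfsg.Agent.Lib.Helper6.AutPSL (sG sG_val gl_mul_inv gl_inv_mul)
open Cfsg.Agent.Lib.Helper16.FieldCentPSL (mem_cent_comap gl_ne_zero)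
open Cfsg.Agent.Lib.Helper16.FieldCoset (card_fin_ge scalar_eq_smul_one)
open Cfsg.Agent.Lib.Helper16.GraphInvPSU (sGU_val)

variable {F : Type*} [Field F] [Fintype F] {q n : ℕ}

section field
variable (r : ℕ) [hr : Fact r.Prime] [CharP F r] (hF : Fintype.card F = q ^ 2) (hn : 3 ≤ n)
  {F₀ : Type*} [Field F₀] [Fintype F₀] {q₀ : ℕ} (hF₀ : Fintype.card F₀ = q₀ ^ 2) [CharP F₀ r]
  (j : F₀ →+* F) (σ : RingAut F) (hj : ∀ a : F, σ a = a ↔ a ∈ Set.range j)
  (hjq : ∀ a : F₀, j a ^ q = j (a ^ q₀))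

/-- base change composed with the action -/
noncomputable def bcU : ↥(Cfsg.GU n F₀ q₀) →* MulAut (Cfsg.PSU n F q) :=
  cU.comp (mapGU hF hF₀ j hjq)

theorem bcU_apply (x : ↥(Cfsg.GU n F₀ q₀)) :
    bcU hF hF₀ j hjq x = cU (mapGU hF hF₀ j hjq x) := rfl

/-- the homomorphism of the special unitary group of the subfield -/
noncomputable def thetaU : ↥(Cfsg.SU n F₀ q₀) →* MulAut (Cfsg.PSU n F q) :=
  (bcU hF hF₀ j hjq).comp suGU

theorem thetaU_apply (s₀ : ↥(Cfsg.SU n F₀ q₀)) :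
    thetaU hF hF₀ j hjq s₀ = cU (mapGU hF hF₀ j hjq (suGU s₀)) := rfl

/-- the subfield subgroup -/
noncomputable def subU : Subgroup (MulAut (Cfsg.PSU n F q)) :=
  (thetaU (n := n) hF hF₀ j hjq).range

include hr hn in
theorem bcU_eq_one_iff (x : ↥(Cfsg.GU n F₀ q₀)) :
    bcU hF hF₀ j hjq x = 1 ↔ ∃ c₀ : F₀, x.1.1 = c₀ • (1 : Matrix (Fin n) (Fin n) F₀) := by
  have hjinj : Function.Injective j := RingHom.injective j
  rw [bcU_apply, cU_eq_one_iff r hF hn, mapGU_val]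
  constructor
  · rintro ⟨μ, hμ⟩
    let i0 : Fin n := ⟨0, by omega⟩
    have hμ0 : j (x.1.1 i0 i0) = μ := by
      have := congrFun (congrFun hμ i0) i0
      simpa using this
    refine ⟨x.1.1 i0 i0, ?_⟩
    ext s t
    apply hjinj
    have hst0 := congrFun (congrFun hμ s) t
    rw [Matrix.map_apply] at hst0
    rw [hst0, Matrix.smul_apply, Matrix.smul_apply, Matrix.one_apply,
      Matrix.one_apply]
    by_cases hst : s = t
    · rw [if_pos hst, if_pos hst, smul_eq_mul, smul_eq_mul, mul_one, mul_one, hμ0]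
    · rw [if_neg hst, if_neg hst, smul_zero, smul_zero, map_zero]
  · rintro ⟨c, hc⟩
    refine ⟨j c, ?_⟩
    rw [hc]
    ext s t
    rw [Matrix.map_apply, Matrix.smul_apply, Matrix.smul_apply, Matrix.one_apply,
      Matrix.one_apply]
    by_cases hst : s = t
    · rw [if_pos hst, if_pos hst, smul_eq_mul, smul_eq_mul, mul_one, mul_one]
    · rw [if_neg hst, if_neg hst, smul_zero, smul_zero, map_zero]

include hr hn in
/-- the kernel of the homomorphism is the centre -/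
theorem thetaU_ker :
    (thetaU hF hF₀ j hjq).ker = Subgroup.center ↥(Cfsg.SU n F₀ q₀) := by
  ext s₀
  rw [MonoidHom.mem_ker]
  change bcU hF hF₀ j hjq (suGU s₀) = 1 ↔ _
  rw [bcU_eq_one_iff r hF hn hF₀ j hjq, suGU_val]
  constructor
  · rintro ⟨c₀, hc₀⟩
    have h1 : c₀ ^ (q₀ + 1) = 1 := by
      obtain ⟨gs, hgs⟩ : ∃ gs : ↥(Cfsg.GU n F₀ q₀), gs = suGU s₀ := ⟨_, rfl⟩
      have hgs' : gs.1.1 = c₀ • (1 : Matrix (Fin n) (Fin n) F₀) := by rw [hgs, suGU_val, hc₀]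
      exact scalar_norm hF₀ hn gs c₀ hgs'
    have h2 : c₀ ^ n = 1 := by
      have := s₀.1.2
      rw [hc₀, Matrix.det_smul, Matrix.det_one, mul_one, Fintype.card_fin] at this
      exact this
    obtain ⟨z, hz, hzv⟩ := SU_scalar_mem_center (q := q₀) (n := n) c₀ h1 h2
    have : z = s₀ := by
      apply Subtype.ext
      apply Subtype.ext
      rw [hzv, hc₀]
    rwa [this] at hz
  · intro hz
    obtain ⟨a, -, -, ha⟩ := SU_center_scalar hF₀ (by omega) s₀ hz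
    exact ⟨a, ha⟩

include hr hn in
/-- the subfield subgroup is the projective special unitary group of the subfield -/
theorem subU_equiv : Nonempty (↥(subU (n := n) hF hF₀ j hjq) ≃* Cfsg.PSU n F₀ q₀) := by
  have e1 : ↥(Cfsg.SU n F₀ q₀) ⧸ (thetaU hF hF₀ j hjq).ker ≃* ↥(thetaU hF hF₀ j hjq).range :=
    QuotientGroup.quotientKerEquivRange _
  have e2 : Cfsg.PSU n F₀ q₀ ≃* ↥(Cfsg.SU n F₀ q₀) ⧸ (thetaU hF hF₀ j hjq).ker :=
    QuotientGroup.quotientMulEquivOfEq (thetaU_ker r hF hn hF₀ j hjq).symm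
  exact ⟨(e2.trans e1).symm⟩

/-- base change commutes with the entrywise automorphisms -/
theorem sGU_mapGU (ρ : RingAut F) (ρ₀ : RingAut F₀) (hρ : ∀ t, ρ (j t) = j (ρ₀ t))
    (x : ↥(Cfsg.GU n F₀ q₀)) :
    sGU ρ (mapGU hF hF₀ j hjq x) = mapGU hF hF₀ j hjq (sGU ρ₀ x) := by
  apply Subtype.ext
  apply Units.ext
  rw [sGU_val, mapGU_val, mapGU_val, sGU_val]
  ext s t
  simp only [Matrix.map_apply]
  exact hρ _

/-- **the conjugation relation** -/
theorem conj_thetaU (h₀ : ↥(Cfsg.GU n F₀ q₀)) (ρ : RingAut F) (ρ₀ : RingAut F₀)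
    (hρ : ∀ t, ρ (j t) = j (ρ₀ t)) (s₀ : ↥(Cfsg.SU n F₀ q₀)) :
    (cU (mapGU hF hF₀ j hjq h₀) * fU ρ) * thetaU hF hF₀ j hjq s₀ =
      thetaU hF hF₀ j hjq (cSU h₀ (fSU ρ₀ s₀)) * (cU (mapGU hF hF₀ j hjq h₀) * fU ρ) := by
  rw [thetaU_apply, thetaU_apply]
  have e1 : cU (mapGU hF hF₀ j hjq h₀) * fU ρ * cU (mapGU hF hF₀ j hjq (suGU s₀)) =
      (cU (mapGU hF hF₀ j hjq h₀ * sGU ρ (mapGU hF hF₀ j hjq (suGU s₀))) * fU ρ :
        MulAut (Cfsg.PSU n F q)) := by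
    rw [mul_assoc, rel_fU_cU, ← mul_assoc, ← map_mul]
  rw [e1, ← mul_assoc, ← map_mul]
  congr 2
  rw [sGU_mapGU hF hF₀ j hjq ρ ρ₀ hρ, ← map_mul, ← map_mul]
  congr 1
  apply Subtype.ext
  apply Units.ext
  change h₀.1.1 * (sGU ρ₀ (suGU s₀)).1.1 = (suGU (cSU h₀ (fSU ρ₀ s₀))).1.1 * h₀.1.1
  rw [sGU_val, suGU_val, suGU_val, cSU_val, fSU_val, Matrix.mul_assoc, gl_inv_mul, Matrix.mul_one]

end field

end Cfsg.Agent.Lib.Helper16.UBal
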