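import Mathlib
import Cfsg.Agent.Lib.Helper16.UBalG
import Cfsg.Agent.Lib.Helper6.LocalBalC

/-!
# Local balance for the unitary groups, part H: the subfield subgroup is normalised by the
centraliser of the field automorphism, and its centraliser there is generated by the field
automorphism
-/

set_option autoImplicit false
set_option linter.unusedSectionVars false
set_option linter.unusedVariables false
set_option linter.unusedSimpArgs false
set_option linter.style.haveILetI false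

namespace Cfsg.Agent.Lib.Helper16.UBal

open Matrix Cfsg Cfsg.Agent.Lib.Helper6 Cfsg.Agent.Lib.Helper6.AutPSU
  Cfsg.Agent.Lib.Helper16.H90GL
  Cfsg.Agent.Lib.Helper16.GraphFieldCoset Cfsg.Agent.Lib.Helper16.UnitaryDescent
  Cfsg.Agent.Lib.Helper16.FieldCosetPSU Cfsg.Agent.Lib.Helper16.SplitCount
  Cfsg.Agent.Lib.Helper16.FieldCentPSU
open Cfsg.Agent.Lib.Helper6.AutPSL (sG sG_val gl_mul_inv gl_inv_mul)
open Cfsg.Agent.Lib.Helper16.FieldCentPSL (mem_cent_comap gl_ne_zero)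
open Cfsg.Agent.Lib.Helper16.FieldCoset (card_fin_ge scalar_eq_smul_one)
open Cfsg.Agent.Lib.Helper16.GraphInvPSU (sGU_val)
open Cfsg.Agent.Lib.Helper6.LocalBal (ringAut_comm comm_of_comm_mul exists_restrict_aut
  mem_zpowers_of_fixed mem_cent_singleton)

variable {F : Type*} [Field F] [Fintype F] {q n : ℕ}

section field
variable (r : ℕ) [hr : Fact r.Prime] [CharP F r] (hF : Fintype.card F = q ^ 2) (hn : 3 ≤ n)
  {F₀ : Type*} [Field F₀] [Fintype F₀] {q₀ : ℕ} (hF₀ : Fintype.card F₀ = q₀ ^ 2) [CharP F₀ r]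
  (j : F₀ →+* F) (σ : RingAut F) (hj : ∀ a : F, σ a = a ↔ a ∈ Set.range j)
  (hjq : ∀ a : F₀, j a ^ q = j (a ^ q₀))

include hr hn hj in
/-- descent of a unitary matrix fixed up to a scalar -/
theorem exists_descent_U (hodd : Odd (orderOf σ)) (g : ↥(Cfsg.GU n F q)) (μ : F)
    (hμ : g.1.1.map σ = μ • g.1.1) :
    ∃ g₀ : ↥(Cfsg.GU n F₀ q₀), (cU g : MulAut (Cfsg.PSU n F q)) = bcU hF hF₀ j hjq g₀ := by
  have hjinj : Function.Injective j := RingHom.injective j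
  obtain ⟨a, ha1, ha⟩ := exists_unitary_fixed_mul hF hn σ hodd g μ hμ
  have hent : ∀ s t, ∃ b : F₀, j b = (a • g.1.1) s t := by
    intro s t
    have h1 : σ ((a • g.1.1) s t) = (a • g.1.1) s t := by
      have := congrFun (congrFun ha s) t
      rwa [Matrix.map_apply] at this
    obtain ⟨b, hb⟩ := (hj _).mp h1
    exact ⟨b, hb⟩
  choose M₀ hM₀ using hent
  have hM₀' : (Matrix.of M₀).map j = a • g.1.1 := by
    ext s t
    rw [Matrix.map_apply, Matrix.of_apply, hM₀]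
  have hU₀ : hs (tauA hF₀) (Matrix.of M₀) * Matrix.of M₀ = 1 := by
    apply Matrix.map_injective hjinj
    simp only
    have h1 : (hs (tauA hF₀) (Matrix.of M₀)).map j = hs (tauA hF) ((Matrix.of M₀).map j) := by
      ext s t
      rw [Matrix.map_apply, hs_apply, hs_apply, Matrix.map_apply, tauA_apply, tauA_apply, hjq]
    rw [Matrix.map_mul, h1, hM₀', hs_smul, Matrix.smul_mul, Matrix.mul_smul, smul_smul,
      mem_GU_hs hF g, mul_comm, ha1, one_smul, Matrix.map_one _ (map_zero j) (map_one j)]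
  obtain ⟨g₀, hg₀⟩ := exists_GU_of_pres hF₀ (Matrix.of M₀) (pres_of_hs hF₀ _ hU₀)
  refine ⟨g₀, ?_⟩
  rw [bcU_apply, eq_comm, cU_eq_iff r hF hn]
  refine ⟨a, ?_⟩
  rw [mapGU_val, hg₀]
  exact hM₀'

include hr hn hj in
/-- the base-changed automorphisms commute with the field automorphism -/
theorem bcU_comm (g₀ : ↥(Cfsg.GU n F₀ q₀)) :
    (fU σ * bcU hF hF₀ j hjq g₀ : MulAut (Cfsg.PSU n F q)) = bcU hF hF₀ j hjq g₀ * fU σ := by
  rw [bcU_apply, comm_iff r hF hn]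
  refine ⟨1, ?_⟩
  rw [one_smul, mapGU_val]
  ext s t
  rw [Matrix.map_apply, Matrix.map_apply]
  exact (hj _).mpr ⟨_, rfl⟩

/-- the elements of the subfield subgroup are inner -/
theorem thetaU_eq_conj (s₀ : ↥(Cfsg.SU n F₀ q₀)) :
    ∃ s : ↥(Cfsg.SU n F q), thetaU hF hF₀ j hjq s₀ = MulAut.conj (pu s) := by
  have hpres := (mapGU hF hF₀ j hjq (suGU s₀)).2
  have hdet : (s₀.1.1.map j).det = 1 := by
    have h1 : s₀.1.1.det = 1 := s₀.1.2
    have h2 := RingHom.map_det j s₀.1.1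
    rw [h1, map_one] at h2
    exact h2.symm
  obtain ⟨s, hs⟩ := Cfsg.Agent.Lib.Helper16.exists_SU_of_pres (q := q) (s₀.1.1.map j)
    (fun x y => hpres x y) hdet
  refine ⟨s, ?_⟩
  rw [thetaU_apply, ← cU_suGU]
  congr 1
  apply Subtype.ext
  apply Units.ext
  rw [suGU_val, hs]
  rfl

include hr hn hj in
theorem subU_le :
    subU (n := n) hF hF₀ j hjq ≤ Cfsg.Inn (Cfsg.PSU n F q) ⊓ Subgroup.centralizer {fU σ} := by
  rintro _ ⟨s₀, rfl⟩
  refine ⟨?_, ?_⟩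
  · obtain ⟨s, hs⟩ := thetaU_eq_conj hF hF₀ j hjq s₀
    exact ⟨pu s, hs.symm⟩
  · apply (mem_cent_singleton _ _).mpr
    exact (bcU_comm r hF hn hF₀ j σ hj hjq (suGU s₀)).symm

include hr hn hj in
/-- the centraliser of the field automorphism -/
theorem exists_cent_decomp_U (h32 : ¬ (n = 3 ∧ q = 2)) (hodd : Odd (orderOf σ))
    (c : MulAut (Cfsg.PSU n F q)) (hc : c * fU σ = fU σ * c) :
    ∃ (g₀ : ↥(Cfsg.GU n F₀ q₀)) (ρ : RingAut F), c = bcU hF hF₀ j hjq g₀ * fU ρ ∧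
      ∀ a : F₀, ρ (j a) ∈ Set.range j := by
  obtain ⟨ρ, k, hk⟩ := exists_hasDecU r hF hn h32 c
  have hff : (fU σ * fU ρ : MulAut (Cfsg.PSU n F q)) = fU ρ * fU σ := by
    rw [← fU_mul, ← fU_mul, ringAut_comm]
  have hkc : (fU σ * cU k : MulAut (Cfsg.PSU n F q)) = cU k * fU σ := by
    apply comm_of_comm_mul _ _ _ hff
    rw [← hk]
    exact hc
  obtain ⟨μ, hμ⟩ := (comm_iff r hF hn σ k).mp hkc
  obtain ⟨g₀, hg₀⟩ := exists_descent_U r hF hn hF₀ j σ hj hjq hodd k μ hμ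
  refine ⟨g₀, ρ, ?_, ?_⟩
  · rw [hk, hg₀]
  · intro b
    rw [← hj]
    have h1 : σ (ρ (j b)) = (σ * ρ) (j b) := rfl
    rw [h1, ringAut_comm]
    change ρ (σ (j b)) = _
    rw [(hj _).mpr ⟨b, rfl⟩]

include hr hn hj in
/-- the centraliser of the field automorphism normalises the subfield subgroup -/
theorem subU_norm (h32 : ¬ (n = 3 ∧ q = 2)) (hodd : Odd (orderOf σ))
    (c : MulAut (Cfsg.PSU n F q)) (hc : c * fU σ = fU σ * c)
    (k : MulAut (Cfsg.PSU n F q)) (hk : k ∈ subU (n := n) hF hF₀ j hjq) :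
    c * k * c⁻¹ ∈ subU (n := n) hF hF₀ j hjq := by
  obtain ⟨s₀, rfl⟩ := hk
  obtain ⟨g₀, ρ, hcd, hpres⟩ := exists_cent_decomp_U r hF hn hF₀ j σ hj hjq h32 hodd c hc
  obtain ⟨ρ₀, hρ₀⟩ := exists_restrict_aut j ρ hpres
  have h1 := conj_thetaU hF hF₀ j hjq g₀ ρ ρ₀ (fun t => (hρ₀ t).symm) s₀
  rw [← bcU_apply, ← hcd] at h1
  rw [h1, mul_inv_cancel_right]
  exact ⟨_, rfl⟩

include hr hn hj in
/-- the centraliser of the subfield subgroup in the centraliser of the field automorphism -/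
theorem subU_cent (h32 : ¬ (n = 3 ∧ q = 2)) (hodd : Odd (orderOf σ))
    (c : MulAut (Cfsg.PSU n F q)) (hc : c * fU σ = fU σ * c)
    (hcomm : ∀ k ∈ subU (n := n) hF hF₀ j hjq, c * k = k * c) :
    c ∈ Subgroup.zpowers (fU σ : MulAut (Cfsg.PSU n F q)) := by
  obtain ⟨g₀, ρ, hcd, hpres⟩ := exists_cent_decomp_U r hF hn hF₀ j σ hj hjq h32 hodd c hc
  obtain ⟨ρ₀, hρ₀⟩ := exists_restrict_aut j ρ hpres
  have hn1 : (cU g₀ * fU ρ₀ : MulAut (Cfsg.PSU n F₀ q₀)) = 1 := by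
    ext x
    obtain ⟨s₀, rfl⟩ := pu_surjective x
    rw [MulAut.mul_apply, fU_mk, cU_mk, MulAut.one_apply]
    have h1 := conj_thetaU hF hF₀ j hjq g₀ ρ ρ₀ (fun t => (hρ₀ t).symm) s₀
    rw [← bcU_apply, ← hcd, hcomm _ ⟨s₀, rfl⟩] at h1
    have h2 : thetaU hF hF₀ j hjq s₀ = thetaU hF hF₀ j hjq (cSU g₀ (fSU ρ₀ s₀)) :=
      mul_right_cancel h1
    rw [eq_comm, pu_eq_iff, ← thetaU_ker r hF hn hF₀ j hjq, MonoidHom.mem_ker, map_mul,
      map_inv, ← h2, inv_mul_cancel]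
  have hn1' : (cU g₀ * fU ρ₀ : MulAut (Cfsg.PSU n F₀ q₀)) = cU 1 * fU 1 := by
    rw [hn1, map_one, fU_one, mul_one]
  obtain ⟨hρ₀1, a₀, ha₀⟩ := decomp_unique r hF₀ hn g₀ 1 ρ₀ 1 hn1'
  have hb1 : bcU hF hF₀ j hjq g₀ = 1 := by
    rw [bcU_eq_one_iff r hF hn hF₀ j hjq]
    refine ⟨a₀, ?_⟩
    rw [inv_one, one_mul] at ha₀
    exact ha₀
  have hmem : ρ ∈ Subgroup.zpowers σ := by
    apply mem_zpowers_of_fixed
    intro a ha
    obtain ⟨b, rfl⟩ := (hj a).mp ha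
    rw [← hρ₀, hρ₀1]
    rfl
  obtain ⟨i, hi⟩ := Subgroup.mem_zpowers_iff.mp hmem
  rw [Subgroup.mem_zpowers_iff]
  refine ⟨i, ?_⟩
  rw [hcd, hb1, one_mul, ← hi, ← fUhom_apply, ← fUhom_apply, map_zpow]

end field

end Cfsg.Agent.Lib.Helper16.UBal
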