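import Mathlib
import Cfsg.Agent.Lib.Helper16.UBalH
import Cfsg.Agent.Lib.Helper16.UBalI

/-!
# Local balance for the unitary groups, part J: the subfield subgroup is good
-/

set_option autoImplicit false
set_option linter.unusedSectionVars false
set_option linter.unusedVariables false
set_option linter.unusedSimpArgs false
set_option linter.style.haveILetI false

namespace Cfsg.Agent.Lib.Helper16.UBal

open Matrix Cfsg Cfsg.Agent.Lib.Helper6 Cfsg.Agent.Lib.Helper6.AutPSU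
  Cfsg.Agent.Lib.Helper16.H90GL
  Cfsg.Agent.Lib.Helper16.GraphFieldCoset Cfsg.Agent.Lib.Helper16.UnitaryDescent
  Cfsg.Agent.Lib.Helper16.FieldCosetPSU Cfsg.Agent.Lib.Helper16.SplitCount
  Cfsg.Agent.Lib.Helper16.FieldCentPSU
open Cfsg.Agent.Lib.Helper6.AutPSL (sG sG_val gl_mul_inv gl_inv_mul)
open Cfsg.Agent.Lib.Helper16.FieldCentPSL (mem_cent_comap gl_ne_zero)
open Cfsg.Agent.Lib.Helper16.FieldCoset (card_fin_ge scalar_eq_smul_one)
open Cfsg.Agent.Lib.Helper16.GraphInvPSU (sGU_val)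
open Cfsg.Agent.Lib.Helper6.LocalBal (ringAut_comm comm_of_comm_mul exists_restrict_aut
  mem_zpowers_of_fixed mem_cent_singleton Good')

variable {F : Type*} [Field F] [Fintype F] {q n : ℕ}

section field
variable (r : ℕ) [hr : Fact r.Prime] [CharP F r] (hF : Fintype.card F = q ^ 2) (hn : 3 ≤ n)
  {F₀ : Type*} [Field F₀] [Fintype F₀] {q₀ : ℕ} (hF₀ : Fintype.card F₀ = q₀ ^ 2) [CharP F₀ r]
  (j : F₀ →+* F) (σ : RingAut F) (hj : ∀ a : F, σ a = a ↔ a ∈ Set.range j)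
  (hjq : ∀ a : F₀, j a ^ q = j (a ^ q₀))

include hr hn in
theorem bcU_ker : (bcU (n := n) hF hF₀ j hjq).ker =
    (cU : ↥(Cfsg.GU n F₀ q₀) →* MulAut (Cfsg.PSU n F₀ q₀)).ker := by
  ext x
  rw [MonoidHom.mem_ker, MonoidHom.mem_ker, bcU_eq_one_iff r hF hn hF₀ j hjq,
    cU_eq_one_iff r hF₀ hn]

include hr hn in
theorem card_range_bcU :
    Nat.card ↥(bcU (n := n) hF hF₀ j hjq).range =
      Nat.gcd n (q₀ + 1) * Nat.card (Cfsg.PSU n F₀ q₀) := by
  have h1 := Subgroup.card_mul_index (bcU (n := n) hF hF₀ j hjq).ker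
  rw [Subgroup.index_ker, bcU_ker r hF hn hF₀ j hjq, card_ker_cU r hF₀ hn,
    ← Cfsg.Agent.Lib.Helper16.card_SU_mul hF₀ n (by omega)] at h1
  have h2 : Nat.card ↥(bcU (n := n) hF hF₀ j hjq).range = Nat.card ↥(Cfsg.SU n F₀ q₀) :=
    Nat.eq_of_mul_eq_mul_left (by omega) h1
  rw [h2, Subgroup.card_eq_card_quotient_mul_card_subgroup (Subgroup.center ↥(Cfsg.SU n F₀ q₀)),
    Cfsg.Agent.Lib.Helper16.card_center_SU hF₀ (by omega), mul_comm]

include hr hn hj in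
theorem inndiag_cent_le_U (hodd : Odd (orderOf σ)) :
    Cfsg.inndiagPSU n F q ⊓ Subgroup.centralizer {fU σ} ≤
      (bcU (n := n) hF hF₀ j hjq).range := by
  rintro c ⟨hc1, hc2⟩
  have hc1' : c ∈ Cfsg.inndiagPSU n F q := hc1
  rw [inndiag_eq_range] at hc1'
  obtain ⟨g, rfl⟩ := hc1'
  have hc2' := (mem_cent_singleton _ _).mp hc2
  obtain ⟨μ, hμ⟩ := (comm_iff r hF hn σ g).mp hc2'.symm
  obtain ⟨g₀, hg₀⟩ := exists_descent_U r hF hn hF₀ j σ hj hjq hodd g μ hμ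
  exact ⟨g₀, hg₀.symm⟩

include hr hF hn hF₀ hj hjq in
theorem dvd_card_subfield_U (hodd : Odd (orderOf σ)) (p : ℕ) (hp : p.Prime)
    (hd : p ∣ Nat.card ↥(Cfsg.Inn (Cfsg.PSU n F q) ⊓ Subgroup.centralizer {fU σ})) :
    p ∣ Nat.card (Cfsg.PSU n F₀ q₀) := by
  have h1 : Nat.card ↥(Cfsg.Inn (Cfsg.PSU n F q) ⊓ Subgroup.centralizer {fU σ}) ∣
      Nat.card ↥(bcU (n := n) hF hF₀ j hjq).range :=
    Subgroup.card_dvd_of_le ((inf_le_inf_right _ inn_le_inndiag).trans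
      (inndiag_cent_le_U r hF hn hF₀ j σ hj hjq hodd))
  rw [card_range_bcU r hF hn hF₀ j hjq] at h1
  rcases (Nat.Prime.dvd_mul hp).mp (hd.trans h1) with h5 | h5
  · have h6 : p ∣ q₀ + 1 := h5.trans (Nat.gcd_dvd_right _ _)
    have hq₀ := two_le_q hF₀
    have h7 : q₀ + 1 ∣ q₀ ^ 2 - 1 := by
      refine ⟨q₀ - 1, ?_⟩
      obtain ⟨t, rfl⟩ : ∃ t, q₀ = t + 1 := ⟨q₀ - 1, by omega⟩
      have e1 : (t + 1) ^ 2 - 1 = t * t + 2 * t := by
        have : (t + 1) ^ 2 = t * t + 2 * t + 1 := by ring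
        rw [this]
        omega
      rw [e1, Nat.add_sub_cancel]
      ring
    exact (h6.trans h7).trans (q2m1_dvd_card_PSU hF₀ n hn)
  · exact h5

include hr hn hj in
/-- **the subfield subgroup is good** -/
theorem good_fU (h32 : ¬ (n = 3 ∧ q = 2)) (hodd : Odd (orderOf σ)) (p : ℕ) (hp : p.Prime)
    (hp2 : p ≠ 2) :
    Good' (Cfsg.Inn (Cfsg.PSU n F q)) (fU σ) p (subU (n := n) hF hF₀ j hjq) := by
  obtain ⟨eM⟩ := subU_equiv r hF hn hF₀ j hjq
  have hq₀ := two_le_q hF₀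
  haveI : Finite ↥(Cfsg.SU n F₀ q₀) := inferInstance
  haveI : Finite (Cfsg.PSU n F₀ q₀) := inferInstance
  refine ⟨subU_le r hF hn hF₀ j σ hj hjq, ?_, ?_, ?_, ?_⟩
  · intro h0
    have h1 : Nat.card ↥(subU (n := n) hF hF₀ j hjq) = 1 := by
      rw [h0]
      exact Subgroup.card_bot
    rw [Nat.card_congr eM.toEquiv] at h1
    have h2 := q2m1_dvd_card_PSU hF₀ n hn
    rw [h1, Nat.dvd_one] at h2
    have h3 : 2 * 2 ≤ q₀ ^ 2 := by
      rw [pow_two]
      exact Nat.mul_le_mul hq₀ hq₀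
    omega
  · intro c hc k hk
    exact subU_norm r hF hn hF₀ j σ hj hjq h32 hodd c ((mem_cent_singleton _ _).mp hc) k hk
  · intro c hc hcomm
    exact subU_cent r hF hn hF₀ j σ hj hjq h32 hodd c ((mem_cent_singleton _ _).mp hc) hcomm
  · intro hd N hNM hnorm hcop
    have hpd := dvd_card_subfield_U r hF hn hF₀ j σ hj hjq hodd p hp hd
    apply ncore_of_equiv (subU (n := n) hF hF₀ j hjq) eM p ?_ N hNM hnorm hcop
    by_cases h32₀ : n = 3 ∧ q₀ = 2
    · obtain ⟨rfl, rfl⟩ := h32₀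
      have hF4 : Fintype.card F₀ = 4 := by rw [hF₀]; norm_num
      have h72 : Nat.card (Cfsg.PSU 3 F₀ 2) = 72 := (Cfsg.Agent.S0282.result hF4).1
      rw [h72] at hpd
      have h3 : p = 3 := by
        have e72 : (72 : ℕ) = 2 ^ 3 * 3 ^ 2 := by norm_num
        rw [e72] at hpd
        rcases (Nat.Prime.dvd_mul hp).mp hpd with h | h
        · exact absurd ((Nat.prime_dvd_prime_iff_eq hp Nat.prime_two).mp (hp.dvd_of_dvd_pow h)) hp2
        · exact (Nat.prime_dvd_prime_iff_eq hp Nat.prime_three).mp (hp.dvd_of_dvd_pow h)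
      subst h3
      intro N' hN' hcop'
      exact ncore_three_two hF4 N' hN' hcop'
    · haveI := SUG.PSU_isSimpleGroup hF₀ hn h32₀
      intro N' hN' hcop'
      exact ncore_simple p hp hpd N' hN' hcop'

end field

end Cfsg.Agent.Lib.Helper16.UBal
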