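import Mathlib
import Cfsg.Agent.Lib.Helper16.UBalF
import Cfsg.Agent.Lib.Helper16.UBalJ

/-!
# Local balance for the unitary groups, part K: the main theorem
-/

set_option autoImplicit false
set_option linter.unusedSectionVars false
set_option linter.unusedVariables false
set_option linter.unusedSimpArgs false
set_option linter.style.haveILetI false

namespace Cfsg.Agent.Lib.Helper16.UBal

open Matrix Cfsg Cfsg.Agent.Lib.Helper6 Cfsg.Agent.Lib.Helper6.AutPSU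
  Cfsg.Agent.Lib.Helper16.H90GL
  Cfsg.Agent.Lib.Helper16.GraphFieldCoset Cfsg.Agent.Lib.Helper16.UnitaryDescent
  Cfsg.Agent.Lib.Helper16.FieldCosetPSU Cfsg.Agent.Lib.Helper16.SplitCount
  Cfsg.Agent.Lib.Helper16.FieldCentPSU
open Cfsg.Agent.Lib.Helper6.AutPSL (sG sG_val gl_mul_inv gl_inv_mul)
open Cfsg.Agent.Lib.Helper16.FieldCentPSL (mem_cent_comap gl_ne_zero)
open Cfsg.Agent.Lib.Helper16.FieldCoset (card_fin_ge scalar_eq_smul_one)
open Cfsg.Agent.Lib.Helper16.GraphInvPSU (sGU_val)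
open Cfsg.Agent.Lib.Helper6.LocalBal (ringAut_comm comm_of_comm_mul exists_restrict_aut
  mem_zpowers_of_fixed mem_cent_singleton Good' core_iff' card_inn_cent)

variable {F : Type*} [Field F] [Fintype F] {q n : ℕ}

section main
variable (r : ℕ) [hr : Fact r.Prime] [CharP F r] (hF : Fintype.card F = q ^ 2) (hn : 3 ≤ n)

include hF hn in
/-- the centre of `PSU_n(q)` is trivial -/
theorem center_PSU (h32 : ¬ (n = 3 ∧ q = 2)) : Subgroup.center (Cfsg.PSU n F q) = ⊥ := by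
  haveI : Group.IsPerfect ↥(Cfsg.SU n F q) := ⟨SUG.SU_perfect hF hn h32⟩
  exact Group.IsPerfect.center_quotient_center_eq_bot ↥(Cfsg.SU n F q)

include hr hF hn in
/-- **the automorphisms of odd prime order which are not inner-diagonal** -/
theorem main_odd (hK : IsSimpleGroup (Cfsg.PSU n F q))
    (𝒢 : Subgroup (MulAut (Cfsg.PSU n F q))) (hinn : ∀ k : Cfsg.PSU n F q, MulAut.conj k ∈ 𝒢)
    (p : ℕ) [hpf : Fact p.Prime] (hp2 : p ≠ 2) (β : MulAut (Cfsg.PSU n F q)) (hβ : β ∈ 𝒢)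
    (hord : orderOf β = p) (hnot : ¬ Cfsg.IsInnerDiagonalAutPSU β) :
    Cfsg.pPrimeCore p ↥(𝒢 ⊓ Subgroup.centralizer {β}) ≠ ⊥ ↔
      Nat.Coprime p (Nat.card
        ↥(MonoidHom.eqLocus β.toMonoidHom (MonoidHom.id (Cfsg.PSU n F q)))) := by
  classical
  have hp : p.Prime := hpf.out
  have h32 := not_three_two hF hK
  have hxp : β ^ p = 1 := by rw [← hord]; exact pow_orderOf_eq_one β
  obtain ⟨σ, g, hxg⟩ := exists_hasDecU r hF hn h32 β
  have hσ1 : σ ≠ 1 := by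
    intro h
    apply hnot
    rw [hxg, h, fU_one, mul_one]
    exact isInnerDiag_cU g
  have hσp : σ ^ p = 1 := by
    have h1 := hxp
    rw [hxg, pow_cU_fU] at h1
    have e : (cU (NrmU σ g p) * fU (σ ^ p : RingAut F) : MulAut (Cfsg.PSU n F q)) =
        cU 1 * fU 1 := by rw [h1, map_one, fU_one, mul_one]
    exact (decomp_unique r hF hn _ 1 _ _ e).1
  have hσord : orderOf σ = p := by
    rcases (Nat.dvd_prime hp).mp (orderOf_dvd_of_pow_eq_one hσp) with h | h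
    · exact absurd (orderOf_eq_one_iff.mp h) hσ1
    · exact h
  have hpodd : Odd p := hp.odd_of_ne_two hp2
  have hodd : Odd (orderOf σ) := by rw [hσord]; exact hpodd
  have hφord : orderOf (fU σ : MulAut (Cfsg.PSU n F q)) = p := by
    rw [← fUhom_apply, orderOf_injective fUhom (fUhom_injective r hF hn) σ, hσord]
  obtain ⟨h, hh⟩ := core_fieldU r hF hn σ p hp.pos hodd hφord g (by rw [← hxg]; exact hord)
  have hxh : β = cU h * fU σ * (cU h)⁻¹ := by rw [hxg]; exact hh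
  -- the fixed field
  haveI : Fintype ↥(fixK σ) := Fintype.ofFinite _
  obtain ⟨j, hjdef⟩ : ∃ j : ↥(fixK σ) →+* F, j = (fixK σ).subtype := ⟨_, rfl⟩
  have hj : ∀ a : F, σ a = a ↔ a ∈ Set.range j := by
    intro a
    rw [hjdef]
    constructor
    · intro ha
      exact ⟨⟨a, ha⟩, rfl⟩
    · rintro ⟨b, rfl⟩
      exact b.2
  haveI : CharP ↥(fixK σ) r := RingHom.charP j (RingHom.injective j) r
  obtain ⟨m, hm1, hqm⟩ := q_eq_pow (p := r) hF
  have hF2 : Fintype.card F = r ^ (2 * m) := by rw [hF, hqm, ← pow_mul, mul_comm]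
  obtain ⟨hdvd2, hcard₀⟩ := fixed_field_card hF2 σ p hσord hp.pos
  have hcop : Nat.Coprime p 2 := Nat.coprime_two_right.mpr hpodd
  have hdvd : p ∣ m := hcop.dvd_of_dvd_mul_left hdvd2
  have hexp : 2 * m / p = 2 * (m / p) := Nat.mul_div_assoc 2 hdvd
  obtain ⟨q₀, hq₀⟩ : ∃ q₀ : ℕ, q₀ = r ^ (m / p) := ⟨_, rfl⟩
  have hF₀ : Fintype.card ↥(fixK σ) = q₀ ^ 2 := by
    rw [← Nat.card_eq_fintype_card, hcard₀, hexp, hq₀, ← pow_mul, mul_comm]
  have hqq : q = q₀ ^ p := by rw [hqm, hq₀, ← pow_mul, Nat.div_mul_cancel hdvd]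
  have hjq : ∀ a : ↥(fixK σ), j a ^ q = j (a ^ q₀) := by
    intro a
    rw [← map_pow, hqq, FieldCentPSU.pow_q_eq hF₀ p hpodd a]
  obtain ⟨M, hM⟩ : ∃ M : Subgroup (MulAut (Cfsg.PSU n F q)),
      M = subU (n := n) hF hF₀ j hjq := ⟨_, rfl⟩
  have hgood : Good' (Cfsg.Inn (Cfsg.PSU n F q)) (fU σ) p M := by
    rw [hM]
    exact good_fU r hF hn hF₀ j σ hj hjq h32 hodd p hp hp2
  have heI : ∀ k, k ∈ Cfsg.Inn (Cfsg.PSU n F q) ↔
      MulAut.conj (cU h) k ∈ Cfsg.Inn (Cfsg.PSU n F q) := by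
    intro k
    rw [MulAut.conj_apply]
    constructor
    · intro hk
      exact (Cfsg.innNormal _).conj_mem k hk _
    · intro hk
      have := (Cfsg.innNormal _).conj_mem _ hk (cU h)⁻¹
      have e : (cU h)⁻¹ * (cU h * k * (cU h)⁻¹) * ((cU h)⁻¹)⁻¹ = k := by group
      rwa [e] at this
  have hgood' : Good' (Cfsg.Inn (Cfsg.PSU n F q)) β p
      (M.map (MulAut.conj (cU h : MulAut (Cfsg.PSU n F q))).toMonoidHom) := by
    have e : MulAut.conj (cU h : MulAut (Cfsg.PSU n F q)) (fU σ) = β := hxh.symm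
    exact hgood.map' (MulAut.conj (cU h)) heI β e
  have hIA : Cfsg.Inn (Cfsg.PSU n F q) ≤ 𝒢 := by
    rintro _ ⟨k, rfl⟩
    exact hinn k
  have hZ := center_PSU hF hn h32
  rw [core_iff' (Cfsg.Inn (Cfsg.PSU n F q)) 𝒢 hIA β hβ p hxp _ hgood', card_inn_cent hZ β]

include hr hF hn in
/-- **local balance for the automorphisms of prime order of `PSU_n(q)` which are not
inner-diagonal** -/
theorem main_U (hK : IsSimpleGroup (Cfsg.PSU n F q))
    (𝒢 : Subgroup (MulAut (Cfsg.PSU n F q))) (hinn : ∀ k : Cfsg.PSU n F q, MulAut.conj k ∈ 𝒢)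
    (p : ℕ) [hpf : Fact p.Prime] (hpr : p ≠ r) (β : MulAut (Cfsg.PSU n F q)) (hβ : β ∈ 𝒢)
    (hord : orderOf β = p) (hnot : ¬ Cfsg.IsInnerDiagonalAutPSU β) :
    Cfsg.pPrimeCore p ↥(𝒢 ⊓ Subgroup.centralizer {β}) ≠ ⊥ ↔
      ((∃ γ φ : MulAut (Cfsg.PSU n F q), Cfsg.IsInnerDiagonalAutPSU γ ∧
          (∃ σ : F ≃+* F, Cfsg.IsFieldAutPSUOf σ φ) ∧ β = φ.trans γ) ∧
        Nat.Coprime p (Nat.card
          ↥(MonoidHom.eqLocus β.toMonoidHom (MonoidHom.id (Cfsg.PSU n F q))))) := by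
  have h32 := not_three_two hF hK
  have hfirst : ∃ γ φ : MulAut (Cfsg.PSU n F q), Cfsg.IsInnerDiagonalAutPSU γ ∧
      (∃ σ : F ≃+* F, Cfsg.IsFieldAutPSUOf σ φ) ∧ β = φ.trans γ := by
    obtain ⟨σ, g, hxg⟩ := exists_hasDecU r hF hn h32 β
    exact ⟨cU g, fU σ, isInnerDiag_cU g, ⟨σ, isFieldAut_fU σ⟩, hxg⟩
  by_cases hp2 : p = 2
  · subst hp2
    obtain ⟨h1, h2⟩ := main_two r hF hn hK 𝒢 hinn (fun h => hpr h.symm) β hord hnot
    constructor
    · intro h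
      exact absurd h1 h
    · rintro ⟨-, hc⟩
      exfalso
      have h3 : 2 ∣ Nat.gcd 2 (Nat.card
          ↥(MonoidHom.eqLocus β.toMonoidHom (MonoidHom.id (Cfsg.PSU n F q)))) :=
        Nat.dvd_gcd dvd_rfl h2
      rw [Nat.Coprime] at hc
      rw [hc] at h3
      omega
  · rw [main_odd r hF hn hK 𝒢 hinn p hp2 β hβ hord hnot]
    exact ⟨fun hc => ⟨hfirst, hc⟩, fun hc => hc.2⟩

end main

end Cfsg.Agent.Lib.Helper16.UBal
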