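import Mathlib
import Cfsg.Prelude.Def_LieClassical
import Cfsg.Agent.Lib.Helper16.UnitaryOrth

set_option autoImplicit false
set_option linter.style.haveILetI false
set_option linter.unusedSimpArgs false

namespace Cfsg.Agent.Lib.Helper16

open Module Matrix

/-- Existence of the splitting data for a quadratic extension of finite fields. -/
theorem exists_hermData {F K : Type*} [Field F] [Fintype F] [Field K] [Fintype K] [Algebra F K]
    {q : ℕ} (hF : Fintype.card F = q) (hK : Fintype.card K = q ^ 2) :
    ∃ D : HermData F K, ∀ x, D.σ x = x ^ q := by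
  classical
  have hq : 2 ≤ q := by rw [← hF]; exact Fintype.one_lt_card
  obtain ⟨σ, hσ⟩ := exists_pow_card_ringHom (algebraMap F K)
  rw [hF] at hσ
  have hσι : ∀ c : F, σ (algebraMap F K c) = algebraMap F K c := by
    intro c
    rw [hσ, ← map_pow, ← hF, FiniteField.pow_card]
  have hσσ : ∀ x : K, σ (σ x) = x := by
    intro x
    rw [hσ, hσ, ← pow_mul, ← sq, ← hK, FiniteField.pow_card]
  have hσinj : Function.Injective σ := σ.injective
  -- β
  obtain ⟨β, hβ⟩ : ∃ β : K, σ β ≠ β := by
    by_contra hcon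
    push Not at hcon
    have hsurj : Function.Surjective (algebraMap F K) := by
      intro x
      have := mem_range_of_pow_card_eq (algebraMap F K) x (by rw [hF, ← hσ]; exact hcon x)
      exact this
    have := Fintype.card_le_of_surjective _ hsurj
    rw [hF, hK] at this
    nlinarith
  have hβ0 : β ≠ 0 := by
    intro h0; apply hβ; rw [h0, map_zero]
  have hσβ0 : σ β ≠ 0 := by
    intro h0
    apply hβ0
    have := hσσ β
    rw [h0, map_zero] at this
    exact this.symm
  -- λ
  obtain ⟨lam, hlam⟩ : ∃ lam : K, lam * σ lam = -1 := by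
    obtain ⟨x, hx⟩ := FiniteField.norm_surjective F K (-1)
    refine ⟨x, ?_⟩
    have h1 := FiniteField.algebraMap_norm_eq_pow (K := F) (K' := K) (x := x)
    rw [hx, map_neg, map_one, Nat.card_eq_fintype_card, Nat.card_eq_fintype_card, hF, hK] at h1
    have h2 : (q ^ 2 - 1) / (q - 1) = q + 1 := by
      apply Nat.div_eq_of_eq_mul_right (by omega)
      have : q ^ 2 = (q - 1) * (q + 1) + 1 := by
        obtain ⟨r, rfl⟩ : ∃ r, q = r + 1 := ⟨q - 1, by omega⟩
        simp only [Nat.add_sub_cancel]
        ring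
      omega
    rw [h2, pow_succ'] at h1
    rw [hσ, h1]
  have hlam0 : lam ≠ 0 := by
    intro h0
    rw [h0, zero_mul] at hlam
    exact absurd hlam (by norm_num)
  let lam' : K := lam * σ β / β
  have hlam' : lam' * σ lam' = -1 := by
    have h1 : lam' * σ lam' = lam * σ lam := by
      simp only [lam', map_div₀, map_mul, hσσ]
      field_simp
    rw [h1, hlam]
  have hne : lam' ≠ lam := by
    intro h
    simp only [lam'] at h
    field_simp at h
    exact hβ h
  have hc : (1 + lam * σ lam') ≠ 0 := by
    intro h0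
    apply hne
    apply hσinj
    have h1 : lam * σ lam' = lam * σ lam := by linear_combination h0 - hlam
    exact mul_left_cancel₀ hlam0 h1
  have hσc : σ (1 + lam * σ lam') = 1 + σ lam * lam' := by
    rw [map_add, map_one, map_mul, hσσ]
  refine ⟨{ σ := σ, hσι := hσι, hσσ := hσσ, β := β, lam := lam, lam' := lam',
            τ := σ ((1 + lam * σ lam')⁻¹)
            hδ := fun h => hβ (sub_eq_zero.1 h).symm
            hlam := hlam, hlam' := hlam'
            hτ := by rw [hσσ, inv_mul_cancel₀ hc]
            hτ' := by rw [← hσc, ← map_mul, inv_mul_cancel₀ hc, map_one] }, hσ⟩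

/-- The action of `GU_m(q)` on `K^m` seen as an `F`-linear representation. -/
noncomputable def guRep (F : Type*) {K : Type*} [Field F] [Field K] [Algebra F K] (m q : ℕ) :
    ↥(Cfsg.GU m K q) →* Module.End F (Fin m → K) where
  toFun g := (Matrix.toLin' ((g : GL (Fin m) K) : Matrix (Fin m) (Fin m) K)).restrictScalars F
  map_one' := by
    refine LinearMap.ext fun v => ?_
    simp
  map_mul' g h := by
    refine LinearMap.ext fun v => ?_
    simp [Matrix.toLin'_mul]

theorem guRep_apply (F : Type*) {K : Type*} [Field F] [Field K] [Algebra F K] (m q : ℕ)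
    (g : ↥(Cfsg.GU m K q)) (v : Fin m → K) :
    guRep F m q g v = ((g : GL (Fin m) K) : Matrix (Fin m) (Fin m) K) *ᵥ v := rfl

theorem guRep_injective (F : Type*) {K : Type*} [Field F] [Field K] [Algebra F K] (m q : ℕ) :
    Function.Injective (guRep F (K := K) m q) := by
  intro g h hgh
  apply Subtype.ext
  apply Units.ext
  rw [Matrix.ext_iff_mulVec]
  intro v
  rw [← guRep_apply F, ← guRep_apply F, hgh]

theorem guRep_herm (F : Type*) {K : Type*} [Field F] [Field K] [Algebra F K] (m q : ℕ)
    (g : ↥(Cfsg.GU m K q)) (v : Fin m → K) :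
    ∑ i, (guRep F m q g v) i * ((guRep F m q g v) i) ^ q = ∑ i, v i * (v i) ^ q :=
  g.2 v v

theorem gu_to_orth_plus {K F : Type*} [Field K] [Fintype K] [Field F] [Fintype F] {q : ℕ}
    (hK : Fintype.card K = q ^ 2) (hF : Fintype.card F = q) (k : ℕ) :
    ∃ φ : ↥(Cfsg.GU (k + k) K q) →* ↥(Cfsg.isometryGroup F (Cfsg.quadFormPlus (k + k) F)),
      Function.Injective φ := by
  classical
  obtain ⟨ι⟩ := exists_ringHom_of_card_pow (n := 2) (by norm_num) hF hK
  letI : Algebra F K := ι.toAlgebra
  have h2 : finrank F K = 2 := finrank_eq_two_of_card hF hK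
  obtain ⟨D, hD⟩ := exists_hermData (F := F) (K := K) hF hK
  refine exists_hom_to_isometryGroup (guRep F (k + k) q) (guRep_injective F (k + k) q)
    (D.evenEquiv h2 k).symm _ (fun g w => ?_)
  apply (algebraMap F K).injective
  rw [← D.evenMap_form, ← D.evenMap_form, ← D.evenEquiv_apply h2, ← D.evenEquiv_apply h2,
    LinearEquiv.apply_symm_apply, LinearEquiv.apply_symm_apply]
  simp only [hD]
  exact guRep_herm F (k + k) q g w

theorem gu_to_orth_minus {K F : Type*} [Field K] [Fintype K] [Field F] [Fintype F] {q : ℕ}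
    (hK : Fintype.card K = q ^ 2) (hF : Fintype.card F = q) (k : ℕ) (a b : F)
    (hab : ∀ z₁ z₂ : F, z₁ ^ 2 + a * z₁ * z₂ + b * z₂ ^ 2 = 0 → z₁ = 0 ∧ z₂ = 0) :
    ∃ φ : ↥(Cfsg.GU (k + k + 1) K q) →*
        ↥(Cfsg.isometryGroup F (Cfsg.quadFormMinus (k + k) F a b)),
      Function.Injective φ := by
  classical
  obtain ⟨ι⟩ := exists_ringHom_of_card_pow (n := 2) (by norm_num) hF hK
  letI : Algebra F K := ι.toAlgebra
  have h2 : finrank F K = 2 := finrank_eq_two_of_card hF hK
  obtain ⟨D, hD⟩ := exists_hermData (F := F) (K := K) hF hK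
  obtain ⟨β₁, β₁', hsum, hprod, hne⟩ := exists_roots_of_anisotropic h2 a b hab
  -- σ β₁ = β₁'
  have hσβ : D.σ β₁ = β₁' := by
    have h1 : (D.σ β₁ - β₁) * (D.σ β₁ - β₁') = 0 := by
      have h3 : β₁ ^ 2 - algebraMap F K a * β₁ + algebraMap F K b = 0 := by
        rw [← hsum, ← hprod]; ring
      have h4 := congrArg D.σ h3
      simp only [map_add, map_sub, map_mul, map_pow, D.hσι, map_zero] at h4
      rw [← hsum, ← hprod] at h4
      linear_combination h4
    rcases mul_eq_zero.1 h1 with h | h
    · exfalso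
      have hfix : D.σ β₁ = β₁ := sub_eq_zero.1 h
      have hmem := mem_range_of_pow_card_eq (algebraMap F K) β₁ (by rw [hF, ← hD]; exact hfix)
      obtain ⟨b₀, hb₀⟩ := hmem
      have h5 : β₁' = algebraMap F K (a - b₀) := by
        rw [map_sub, hb₀]; linear_combination hsum
      have h6 : b₀ * (a - b₀) = b := by
        apply (algebraMap F K).injective
        rw [map_mul, hb₀, ← h5, hprod]
      have h7 := hab (-b₀) 1 (by linear_combination (-1 : F) * h6)
      exact one_ne_zero h7.2
    · exact sub_eq_zero.1 h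
  have ha : β₁ + D.σ β₁ = algebraMap F K a := by rw [hσβ, hsum]
  have hb : β₁ * D.σ β₁ = algebraMap F K b := by rw [hσβ, hprod]
  refine exists_hom_to_isometryGroup (guRep F (k + k + 1) q) (guRep_injective F (k + k + 1) q)
    (D.oddEquiv h2 k β₁ a b ha hb hab).symm _ (fun g w => ?_)
  apply (algebraMap F K).injective
  have hform := D.oddMap_form k β₁ a b ha hb
  have happ : ∀ v, D.oddMap k β₁ ((D.oddEquiv h2 k β₁ a b ha hb hab).symm v) = v := by
    intro v
    exact (D.oddEquiv h2 k β₁ a b ha hb hab).apply_symm_apply v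
  rw [← hform, ← hform, happ, happ]
  simp only [hD]
  exact guRep_herm F (k + k + 1) q g w

end Cfsg.Agent.Lib.Helper16
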