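import Mathlib
import Cfsg.Agent.Lib.Helper17.TransferZ

set_option autoImplicit false

namespace Cfsg.Agent.Lib.Helper16.Z2D8

theorem d8_center : ∀ d : DihedralGroup 4, (∀ t : DihedralGroup 4, t * d = d * t) → d ≠ 1 →
    d = DihedralGroup.r 1 * DihedralGroup.r 1 := by decide

theorem z2_sq : ∀ a : Multiplicative (ZMod 2), a * a = 1 := by decide

theorem main {G : Type*} [Group G] [Finite G] (S : Sylow 2 G)
    (hS : Nonempty (↥(S : Subgroup G) ≃* Multiplicative (ZMod 2) × DihedralGroup 4))
    [IsSimpleGroup G] (hG : ¬ IsMulCommutative G) : False := by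
  obtain ⟨e⟩ := hS
  -- the projection to the first factor
  let π : ↥(S : Subgroup G) →* Multiplicative (ZMod 2) :=
    (MonoidHom.fst _ _).comp e.toMonoidHom
  have hπ : Function.Surjective π := by
    intro a
    refine ⟨e.symm (a, 1), ?_⟩
    show (e (e.symm (a, 1))).1 = a
    rw [MulEquiv.apply_symm_apply]
  let Q : Subgroup G := π.ker.map (S : Subgroup G).subtype
  have hQS : Q ≤ (S : Subgroup G) := by
    rintro _ ⟨y, _, rfl⟩
    exact y.2
  have hQi : Q.relIndex (S : Subgroup G) = 2 := by
    have h1 : Q.subgroupOf (S : Subgroup G) = π.ker := by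
      ext y
      rw [Subgroup.mem_subgroupOf]
      constructor
      · rintro ⟨y', hy', hyy⟩
        have : y' = y := Subtype.ext hyy
        rwa [← this]
      · intro hy
        exact ⟨y, hy, rfl⟩
    rw [Subgroup.relIndex, h1, Subgroup.index_ker, MonoidHom.range_eq_top.mpr hπ,
      Subgroup.card_top]
    rw [Nat.card_eq_fintype_card]
    rfl
  -- the central involution
  let z' : ↥(S : Subgroup G) := e.symm (Multiplicative.ofAdd 1, 1)
  have hez : e z' = (Multiplicative.ofAdd 1, 1) := MulEquiv.apply_symm_apply e _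
  have hz2' : z' ^ 2 = 1 := by
    apply e.injective
    rw [map_pow, hez, map_one e]
    decide
  have hz2 : (z' : G) ^ 2 = 1 := by
    have := congrArg Subtype.val hz2'
    simpa using this
  have hzc' : ∀ s : ↥(S : Subgroup G), s * z' = z' * s := by
    intro s
    apply e.injective
    rw [map_mul, map_mul, hez]
    exact Prod.ext (mul_comm _ _) (by simp)
  have hzc : ∀ s ∈ (S : Subgroup G), s * (z' : G) = (z' : G) * s := by
    intro s hs
    have := congrArg Subtype.val (hzc' ⟨s, hs⟩)
    simpa using this
  -- z' is not a square in S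
  have hnsq : ∀ u : ↥(S : Subgroup G), u * u ≠ z' := by
    intro u hu
    have h1 := congrArg e hu
    rw [map_mul, hez] at h1
    have h2 := congrArg Prod.fst h1
    simp only [Prod.fst_mul] at h2
    rw [z2_sq] at h2
    revert h2
    decide
  have hN : ∀ x ∈ Subgroup.normalizer ((S : Subgroup G) : Set G), x⁻¹ * (z' : G) * x ∉ Q := by
    intro x hx hw
    obtain ⟨w', hw'ker, hw'eq⟩ := hw
    have hw'1 : (e w').1 = 1 := hw'ker
    have hxinv : x⁻¹ ∈ Subgroup.normalizer ((S : Subgroup G) : Set G) := Subgroup.inv_mem _ hx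
    -- conjugation by x maps S to S
    have hconj : ∀ s ∈ (S : Subgroup G), x * s * x⁻¹ ∈ (S : Subgroup G) := fun s hs =>
      (Subgroup.mem_set_normalizer_iff.mp hx s).mp hs
    have hconj' : ∀ s ∈ (S : Subgroup G), x⁻¹ * s * x ∈ (S : Subgroup G) := fun s hs => by
      have := (Subgroup.mem_set_normalizer_iff.mp hxinv s).mp hs
      rwa [inv_inv] at this
    -- w' is central
    have hwc : ∀ t : ↥(S : Subgroup G), t * w' = w' * t := by
      intro t
      apply Subtype.ext
      show (t : G) * (w' : G) = (w' : G) * (t : G)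
      have hw'G : (w' : G) = x⁻¹ * (z' : G) * x := hw'eq
      rw [hw'G]
      have h1 := hzc (x * t * x⁻¹) (hconj t t.2)
      have e1 : (t : G) * (x⁻¹ * (z' : G) * x) = x⁻¹ * ((x * t * x⁻¹) * (z' : G)) * x := by group
      have e2 : x⁻¹ * (z' : G) * x * (t : G) = x⁻¹ * ((z' : G) * (x * t * x⁻¹)) * x := by group
      rw [e1, e2, h1]
    have hw'ne : w' ≠ 1 := by
      intro h
      have hw'G : (w' : G) = x⁻¹ * (z' : G) * x := hw'eq
      rw [h] at hw'G
      have hz1 : (z' : G) = 1 := by
        have : (z' : G) = x * (x⁻¹ * (z' : G) * x) * x⁻¹ := by group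
        rw [this, ← hw'G]
        simp
      have hz1' : z' = 1 := Subtype.ext hz1
      have := congrArg e hz1'
      rw [hez, map_one e] at this
      revert this
      decide
    -- e w' = (1, r^2)
    have hd : (e w').2 = DihedralGroup.r 1 * DihedralGroup.r 1 := by
      apply d8_center
      · intro t
        have h1 := congrArg e (hwc (e.symm (1, t)))
        rw [map_mul, map_mul, MulEquiv.apply_symm_apply] at h1
        have h2 := congrArg Prod.snd h1
        simpa using h2
      · intro h
        apply hw'ne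
        apply e.injective
        rw [map_one]
        exact Prod.ext hw'1 h
    -- so w' is a square
    let y' : ↥(S : Subgroup G) := e.symm (1, DihedralGroup.r 1)
    have hy : y' * y' = w' := by
      apply e.injective
      rw [map_mul, MulEquiv.apply_symm_apply]
      exact Prod.ext (by simp [hw'1]) (by simp [hd])
    -- hence z' is a square
    let u' : ↥(S : Subgroup G) := ⟨x * (y' : G) * x⁻¹, hconj _ y'.2⟩
    apply hnsq u'
    apply Subtype.ext
    show x * (y' : G) * x⁻¹ * (x * (y' : G) * x⁻¹) = (z' : G)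
    have hyG : (y' : G) * (y' : G) = (w' : G) := congrArg Subtype.val hy
    have hw'G : (w' : G) = x⁻¹ * (z' : G) * x := hw'eq
    have : x * (y' : G) * x⁻¹ * (x * (y' : G) * x⁻¹) = x * ((y' : G) * (y' : G)) * x⁻¹ := by group
    rw [this, hyG, hw'G]
    group
  obtain ⟨M, hMn, hMi, hzM⟩ := Cfsg.Agent.Lib.Helper17.exists_index_two_of_central_involution S Q
    hQS hQi (z' : G) z'.2 hz2 hzc hN
  rcases hMn.eq_bot_or_eq_top with h | h
  · -- G has order 2
    rw [h, Subgroup.index_bot] at hMi
    apply hG
    have : IsCyclic G := isCyclic_of_prime_card (p := 2) hMi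
    exact ⟨⟨fun a b => IsCyclic.commGroup.mul_comm a b⟩⟩
  · rw [h, Subgroup.index_top] at hMi
    omega

end Cfsg.Agent.Lib.Helper16.Z2D8
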